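import Mathlib
import Cfsg.Agent.Lib.Lead.BCG.Defs
import Cfsg.Agent.Lib.helper15.BCGTRANSFER

set_option autoImplicit false

/-!
# Project BCG, row T2b (helper26): `OCtx N B x`, `N` odd, `fixS x = ⊥` ⟹ `SCtx N (altB B x N) x`, and isometries of `B` commuting with `x`
are isometries of `altB B x N` (on helper15's `bcgtr_*` lemmas).
-/

namespace Cfsg.Agent.Lib.Lead.BCG

open Polynomial Module Matrix Cfsg.Agent.Lib.Helper13.S5955 Cfsg.Agent.Lib.helper15.S5972
  Cfsg.Agent.Lib.Helper18.ONE Cfsg.Agent.Lib.Lead.BCS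

/-- `x - x^(N-1)` is injective when `x^N = 1`, `N` odd, and `x` has no fixed vector -/
theorem bcgt2b_inj {F : Type*} [Field F] {V : Type*} [AddCommGroup V] [Module F V]
    {N : ℕ} (hNo : Odd N) (x : Module.End F V) (hpow : x ^ N = 1) (hfix : fixS x = ⊥) :
    Function.Injective (x - x ^ (N - 1)) := by
  have hN0 : 0 < N := hNo.pos
  rw [← LinearMap.ker_eq_bot, eq_bot_iff]
  intro v hv
  have h1 : x v = (x ^ (N - 1)) v := by
    rwa [LinearMap.mem_ker, LinearMap.sub_apply, sub_eq_zero] at hv
  have h2 : x (x v) = v := by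
    rw [h1]
    exact bcgtr_inv x N hN0 hpow v
  obtain ⟨k, hk⟩ := hNo
  have h3 : ∀ j : ℕ, (x ^ (2 * j)) v = v := by
    intro j
    induction j with
    | zero => simp
    | succ j ih =>
      rw [mul_add, mul_one, pow_add, Module.End.mul_apply, pow_two, Module.End.mul_apply, h2, ih]
  have h4 : x v = v := by
    have h5 := congrArg (fun f : Module.End F V => f v) hpow
    simp only [Module.End.one_apply] at h5
    rw [hk, pow_succ', Module.End.mul_apply, h3] at h5
    exact h5
  have hv' : v ∈ fixS x := by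
    unfold fixS
    rw [LinearMap.mem_ker]
    simp only [map_sub, aeval_X, map_one, LinearMap.sub_apply, Module.End.one_apply]
    rw [h4, sub_self]
  rw [hfix] at hv'
  exact hv'

/-- T2b [M] -/
theorem altb_of_octx {F : Type*} [Field F] {V : Type*} [AddCommGroup V] [Module F V]
    [FiniteDimensional F V] {N : ℕ} (hNo : Odd N) {B : LinearMap.BilinForm F V}
    {x : Module.End F V} (h : OCtx N B x) (hfix : fixS x = ⊥) :
    SCtx N (altB B x N) x ∧
      ∀ g : Module.End F V, (∀ u v, B (g u) (g v) = B u v) → Commute g x →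
        ∀ u v, altB B x N (g u) (g v) = altB B x N u v := by
  have hN0 : 0 < N := hNo.pos
  have hinj := bcgt2b_inj hNo x h.pow hfix
  have hsurj : Function.Surjective (x - x ^ (N - 1)) := LinearMap.surjective_of_injective hinj
  refine ⟨⟨?_, ?_, ?_, h.pow⟩, ?_⟩
  · exact fun v => bcgtr_alt_of_symm B x N hN0 h.pow h.pres h.symm v
  · intro u hu
    apply h.nd
    intro w
    obtain ⟨v, rfl⟩ := hsurj w
    have := hu v
    rw [altB_apply, ← LinearMap.sub_apply] at this
    exact this
  · exact fun u v => bcgtr_inv_pres B x N h.pres u v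
  · intro g hg hc u v
    exact bcgtr_pres B g x hc N hg u v

end Cfsg.Agent.Lib.Lead.BCG
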