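import Mathlib
import Cfsg.Prelude.Def_Blocks
import Cfsg.Agent.Lib.Helper25.CentralDefect
import Cfsg.Agent.Lib.Helper24.CentralProd3
import Cfsg.Agent.Lib.helper7.BlockDefGrp
import Cfsg.Agent.S0924
import Cfsg.Agent.S0133
import Cfsg.Agent.S0912
import Cfsg.Agent.S0908

set_option autoImplicit false
set_option linter.style.haveILetI false
set_option linter.unusedSectionVars false
set_option linter.unusedVariables false

namespace Cfsg.Agent.Lib.Helper26

open scoped ComplexConjugate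
open Cfsg.Agent.Lib.Helper24 Cfsg.Agent.Lib.Helper25 Cfsg.Agent.Lib.helper7 Cfsg.Agent.Lib.helper2

section avg

variable {G : Type*} [Group G]

/-- Averaging an irreducible character over a coset of a normal subgroup. -/
theorem ncp_avg [Fintype G] (N : Subgroup G) [hN : N.Normal] [Fintype N]
    (χ : Cfsg.IrrCharacter G) (h : G) :
    ∑ x : N, (χ : G → ℂ) ((x : G) * h) =
      (∑ x : N, (χ : G → ℂ) x) * (χ : G → ℂ) h / (χ : G → ℂ) 1 := by
  classical
  have hne : (Nat.card G : ℂ) ≠ 0 := by exact_mod_cast Nat.card_pos.ne'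
  have h1 : ∀ y : G, ∑ x : N, (χ : G → ℂ) ((x : G) * h) =
      ∑ x : N, (χ : G → ℂ) (y * (x : G) * y⁻¹ * h) := by
    intro y
    rw [← Equiv.sum_comp (MulAut.conjNormal y : N ≃* N).toEquiv]
    refine Finset.sum_congr rfl fun x _ => ?_
    simp [MulAut.conjNormal_apply]
  have h2 : (Nat.card G : ℂ) * ∑ x : N, (χ : G → ℂ) ((x : G) * h) =
      ∑ y : G, ∑ x : N, (χ : G → ℂ) (y * (x : G) * y⁻¹ * h) := by
    rw [← Finset.sum_congr rfl (fun y _ => h1 y), Finset.sum_const, Finset.card_univ,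
      nsmul_eq_mul, Nat.card_eq_fintype_card]
  rw [Finset.sum_comm] at h2
  simp only [irr_sum_conj_mul] at h2
  have h3 : (Nat.card G : ℂ) * ∑ x : N, (χ : G → ℂ) ((x : G) * h) =
      (Nat.card G : ℂ) * ((∑ x : N, (χ : G → ℂ) x) * (χ : G → ℂ) h / (χ : G → ℂ) 1) := by
    rw [h2, Finset.sum_mul, Finset.sum_div, Finset.mul_sum]
    refine Finset.sum_congr rfl fun x _ => ?_
    ring
  exact mul_left_cancel₀ hne h3

theorem ncp_avg_ker [Fintype G] (N : Subgroup G) [hN : N.Normal] [Fintype N]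
    (χ : Cfsg.IrrCharacter G) (hk : ∀ n ∈ N, (χ : G → ℂ) n = (χ : G → ℂ) 1) (h : G) :
    ∑ x : N, (χ : G → ℂ) ((x : G) * h) = (Nat.card N : ℂ) * (χ : G → ℂ) h := by
  have h1 := irr_one_ne_zero χ
  rw [ncp_avg N χ h]
  have h2 : ∑ x : N, (χ : G → ℂ) x = (Nat.card N : ℂ) * (χ : G → ℂ) 1 := by
    rw [Finset.sum_congr rfl (fun (x : N) _ => hk (x : G) x.2), Finset.sum_const, Finset.card_univ,
      nsmul_eq_mul, Nat.card_eq_fintype_card]
  rw [h2]
  field_simp

theorem ncp_avg_zero [Fintype G] (N : Subgroup G) [hN : N.Normal] [Fintype N]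
    (χ : Cfsg.IrrCharacter G) (hk : ¬ ∀ n ∈ N, (χ : G → ℂ) n = (χ : G → ℂ) 1) (h : G) :
    ∑ x : N, (χ : G → ℂ) ((x : G) * h) = 0 := by
  rw [ncp_avg N χ h, h7_sum_normal_zero N χ hk, zero_mul, zero_div]

end avg

section setting

variable {G : Type*} [Group G]

theorem ncp_comm (P : Subgroup G) :
    ∀ u ∈ P, ∀ v ∈ Subgroup.centralizer (P : Set G), u * v = v * u := by
  intro u hu v hv
  exact Subgroup.mem_centralizer_iff.mp hv u hu

theorem ncp_normal (P : Subgroup G) (hG : P ⊔ Subgroup.centralizer (P : Set G) = ⊤) :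
    P.Normal := by
  rw [← Subgroup.normalizer_eq_top_iff, eq_top_iff, ← hG]
  exact sup_le Subgroup.le_normalizer (Subgroup.centralizer_le_normalizer _)

theorem ncp_index_pow [Finite G] (p : ℕ) [hp : Fact p.Prime] (P : Subgroup G)
    (hP : IsPGroup p P) (hG : P ⊔ Subgroup.centralizer (P : Set G) = ⊤) :
    ∃ k : ℕ, (Subgroup.centralizer (P : Set G)).index = p ^ k := by
  haveI := ncp_normal P hG
  have h1 : (Subgroup.centralizer (P : Set G)).index =
      (Subgroup.centralizer (P : Set G)).relIndex P := by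
    rw [← Subgroup.relIndex_top_right, ← hG, Subgroup.relIndex_sup_right]
  have h2 : (Subgroup.centralizer (P : Set G)).relIndex P ∣ Nat.card P :=
    Subgroup.relIndex_dvd_card _ _
  obtain ⟨n, hn⟩ := IsPGroup.iff_card.mp hP
  rw [hn] at h2
  obtain ⟨k, -, hk⟩ := (Nat.dvd_prime_pow hp.out).mp h2
  exact ⟨k, h1.trans hk⟩

/-- In `G = P·C_G(P)` every `p`-regular element centralizes `P`. -/
theorem ncp_reg_mem [Finite G] (p : ℕ) [hp : Fact p.Prime] (P : Subgroup G)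
    (hP : IsPGroup p P) (hG : P ⊔ Subgroup.centralizer (P : Set G) = ⊤) (s : G)
    (hs : ¬ p ∣ orderOf s) : s ∈ Subgroup.centralizer (P : Set G) := by
  classical
  haveI : Fintype G := Fintype.ofFinite _
  obtain ⟨t₁, t₂, hst, ht₁, ht₂⟩ := cp_regular_decomp p P (Subgroup.centralizer (P : Set G))
    (ncp_comm P) hG s hs
  obtain ⟨k, hk⟩ := (IsPGroup.iff_orderOf.mp hP) t₁
  have h1 : t₁ = 1 := by
    rw [← orderOf_eq_one_iff, hk]
    cases k with
    | zero => rfl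
    | succ k =>
      exfalso
      apply ht₁
      rw [hk]
      exact dvd_pow_self p (Nat.succ_ne_zero k)
  rw [hst, h1, Subgroup.coe_one, one_mul]
  exact t₂.2

end setting

section canon

variable {G : Type*} [Group G]

/-- The canonical character of a block with defect group `P` when `G = P·C_G(P)`. -/
theorem ncp_canon [Finite G] (p : ℕ) [hp : Fact p.Prime] (M : Ideal Cfsg.AlgInt)
    (hM : Cfsg.IsPModular p M) (P : Subgroup G) (hP : IsPGroup p P)
    (hG : P ⊔ Subgroup.centralizer (P : Set G) = ⊤) (B : Set (Cfsg.IrrCharacter G))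
    (hB : Cfsg.IsPBlock M B) (hD : Cfsg.IsDefectGroup p M B P) :
    (∃ θ ∈ B, (∀ x ∈ P, (θ : G → ℂ) x = (θ : G → ℂ) 1) ∧
      ∀ ψ ∈ B, (∀ x ∈ P, (ψ : G → ℂ) x = (ψ : G → ℂ) 1) → ψ = θ) ∧
    ∀ θ ∈ B, (∀ x ∈ P, (θ : G → ℂ) x = (θ : G → ℂ) 1) →
      (Cfsg.charDegree (θ : G → ℂ)).factorization p = P.index.factorization p := by
  classical
  haveI : Fintype G := Fintype.ofFinite _
  haveI : Fintype (Cfsg.IrrCharacter G) := Fintype.ofFinite _
  haveI : Fintype P := Fintype.ofFinite _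
  have hMp := hM.2.1.isPrime
  obtain ⟨χ₁, rfl⟩ := hB
  obtain ⟨g, hdc, hSyl⟩ := hD
  haveI hPn : P.Normal := ncp_normal P hG
  set C := Subgroup.centralizer ({g} : Set G) with hC
  obtain ⟨S, hS⟩ := hSyl
  have hPcard : Nat.card P = p ^ (Nat.card C).factorization p := by
    rw [hS, Subgroup.card_map_of_injective C.subtype_injective]
    exact Sylow.card_eq_multiplicity S
  have hcardG : Nat.card G = C.index * Nat.card C := (Subgroup.index_mul_card C).symm
  have hidx0 : C.index ≠ 0 := Subgroup.index_ne_zero_of_finite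
  have hC0 : Nat.card C ≠ 0 := Nat.card_pos.ne'
  have hfacG : (Nat.card G).factorization p =
      C.index.factorization p + (Nat.card C).factorization p := by
    rw [hcardG, Nat.factorization_mul hidx0 hC0]
    rfl
  have hlow : ∀ χ ∈ Cfsg.blockOf M (χ₁ : G → ℂ),
      C.index.factorization p ≤ (Cfsg.charDegree (χ : G → ℂ)).factorization p :=
    fun χ hχ => h7_defect_lower hM χ g (hdc.2.2 χ hχ)
  have hcardQ : Nat.card (G ⧸ P) * Nat.card P = Nat.card G := by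
    rw [← Subgroup.index_eq_card, Subgroup.index_mul_card]
  have hQ0 : Nat.card (G ⧸ P) ≠ 0 := Nat.card_pos.ne'
  have hP0 : Nat.card P ≠ 0 := Nat.card_pos.ne'
  have hfacQ : (Nat.card (G ⧸ P)).factorization p = C.index.factorization p := by
    have h1 : (Nat.card G).factorization p =
        (Nat.card (G ⧸ P)).factorization p + (Nat.card P).factorization p := by
      rw [← hcardQ, Nat.factorization_mul hQ0 hP0]
      rfl
    have h2 : (Nat.card P).factorization p = (Nat.card C).factorization p := by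
      rw [hPcard, hp.out.factorization_pow, Finsupp.single_eq_same]
    omega
  have hCidx := ncp_index_pow p P hP hG
  have h941 := (Cfsg.Agent.S0941.result p M hM P hP hCidx).1
  -- degrees of members with P in the kernel
  have hdegfac : ∀ ψ ∈ Cfsg.blockOf M (χ₁ : G → ℂ),
      (∀ n ∈ P, (ψ : G → ℂ) n = (ψ : G → ℂ) 1) →
      ∀ φ : Cfsg.IrrCharacter (G ⧸ P), (∀ x : G, (φ : G ⧸ P → ℂ) (QuotientGroup.mk x) =
        (ψ : G → ℂ) x) →
      (Cfsg.charDegree (φ : G ⧸ P → ℂ) = Cfsg.charDegree (ψ : G → ℂ)) ∧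
      (Cfsg.charDegree (φ : G ⧸ P → ℂ)).factorization p =
        (Nat.card (G ⧸ P)).factorization p := by
    intro ψ hψ hk φ hφ
    obtain ⟨hd1, hd2, hd3⟩ := h7_charDegree_props φ
    obtain ⟨he1, he2, he3⟩ := h7_charDegree_props ψ
    have hdeg : Cfsg.charDegree (φ : G ⧸ P → ℂ) = Cfsg.charDegree (ψ : G → ℂ) := by
      have h1 : ((Cfsg.charDegree (φ : G ⧸ P → ℂ) : ℕ) : ℂ) =
          (Cfsg.charDegree (ψ : G → ℂ) : ℕ) := by
        rw [hd3, he3]
        have := hφ 1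
        rwa [QuotientGroup.mk_one] at this
      exact_mod_cast h1
    refine ⟨hdeg, ?_⟩
    obtain ⟨k, hk⟩ := hd1
    have hk0 : k ≠ 0 := by
      rintro rfl
      rw [mul_zero] at hk
      exact hQ0 hk
    have h1 : (Nat.card (G ⧸ P)).factorization p =
        (Cfsg.charDegree (φ : G ⧸ P → ℂ)).factorization p + k.factorization p := by
      rw [hk, Nat.factorization_mul hd2.ne' hk0]
      rfl
    have h2 := hlow ψ hψ
    rw [← hdeg] at h2
    omega
  have huniq2 : ∀ ψ ∈ Cfsg.blockOf M (χ₁ : G → ℂ), ∀ ψ' ∈ Cfsg.blockOf M (χ₁ : G → ℂ),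
      (∀ n ∈ P, (ψ : G → ℂ) n = (ψ : G → ℂ) 1) → (∀ n ∈ P, (ψ' : G → ℂ) n = (ψ' : G → ℂ) 1) →
      ψ' = ψ := by
    intro ψ hψ ψ' hψ' hk hk'
    obtain ⟨φ, hφ⟩ := h7_deflate P ψ hk
    obtain ⟨φ', hφ'⟩ := h7_deflate P ψ' hk'
    have hinf : (φ : G ⧸ P → ℂ) ∘ QuotientGroup.mk = (ψ : G → ℂ) := funext fun x => hφ x
    have hinf' : (φ' : G ⧸ P → ℂ) ∘ QuotientGroup.mk = (ψ' : G → ℂ) := funext fun x => hφ' x
    have hsame : Cfsg.SameBlock M (ψ : G → ℂ) (ψ' : G → ℂ) :=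
      h7_sameBlock_trans hMp (h7_sameBlock_symm hψ) hψ'
    have hsameQ : Cfsg.SameBlock M (φ : G ⧸ P → ℂ) (φ' : G ⧸ P → ℂ) := by
      rw [h941 φ φ', hinf, hinf']
      exact hsame
    obtain ⟨hd1, hd2, hd3⟩ := h7_charDegree_props φ
    obtain ⟨hdeg, hfac⟩ := hdegfac ψ hψ hk φ hφ
    have hdz : ¬ p ∣ Nat.card (G ⧸ P) / Cfsg.charDegree (φ : G ⧸ P → ℂ) := by
      intro hdvd
      obtain ⟨k, hk⟩ := hd1
      have hk0 : k ≠ 0 := by
        rintro rfl
        rw [mul_zero] at hk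
        exact hQ0 hk
      rw [hk, Nat.mul_div_cancel_left _ hd2] at hdvd
      have h1 : (Nat.card (G ⧸ P)).factorization p =
          (Cfsg.charDegree (φ : G ⧸ P → ℂ)).factorization p + k.factorization p := by
        rw [hk, Nat.factorization_mul hd2.ne' hk0]
        rfl
      have h3 : 1 ≤ k.factorization p :=
        (hp.out.dvd_iff_one_le_factorization hk0).mp hdvd
      omega
    have hblock := (Cfsg.Agent.S0914.result p M hM φ).mp hdz
    have hmem : φ' ∈ Cfsg.blockOf M (φ : G ⧸ P → ℂ) := hsameQ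
    rw [hblock, Set.mem_singleton_iff] at hmem
    apply Subtype.ext
    rw [← hinf, ← hinf', hmem]
  obtain ⟨ψ₀, hψ₀, hψ₀k⟩ := h7_dominance hM P hP χ₁
  refine ⟨⟨ψ₀, hψ₀, hψ₀k, fun ψ hψ hk => huniq2 ψ₀ hψ₀ ψ hψ hψ₀k hk⟩, ?_⟩
  intro θ hθ hk
  obtain ⟨φ, hφ⟩ := h7_deflate P θ hk
  obtain ⟨hdeg, hfac⟩ := hdegfac θ hθ hk φ hφ
  rw [← hdeg, hfac, Subgroup.index_eq_card]

end canon

section prop

variable {G : Type*} [Group G]

/-- inner product of a normal-subgroup average with an irreducible character -/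
theorem ncp_inner_avg [Fintype G] (N : Subgroup G) [hN : N.Normal] [Fintype N]
    (f : G → ℂ) (ψ : Cfsg.IrrCharacter G) :
    Cfsg.classInner (fun g => ∑ y : N, f ((y : G) * g)) (ψ : G → ℂ) =
      conj ((∑ y : N, (ψ : G → ℂ) y) / (ψ : G → ℂ) 1) * Cfsg.classInner f (ψ : G → ℂ) := by
  classical
  unfold Cfsg.classInner
  have h1 : ∀ y : N, ∑ g : G, f ((y : G) * g) * conj ((ψ : G → ℂ) g) =
      ∑ g : G, f g * conj ((ψ : G → ℂ) ((y : G)⁻¹ * g)) := by
    intro y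
    rw [← Equiv.sum_comp (Equiv.mulLeft (y : G)⁻¹)]
    refine Finset.sum_congr rfl fun g _ => ?_
    simp only [Equiv.coe_mulLeft, mul_inv_cancel_left]
  have h2 : ∑ g : G, (∑ y : N, f ((y : G) * g)) * conj ((ψ : G → ℂ) g) =
      ∑ y : N, ∑ g : G, f ((y : G) * g) * conj ((ψ : G → ℂ) g) := by
    rw [Finset.sum_comm]
    refine Finset.sum_congr rfl fun g _ => ?_
    rw [Finset.sum_mul]
  have h3 : ∀ g : G, ∑ y : N, (ψ : G → ℂ) ((y : G)⁻¹ * g) =
      (∑ y : N, (ψ : G → ℂ) y) * (ψ : G → ℂ) g / (ψ : G → ℂ) 1 := by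
    intro g
    rw [← ncp_avg N ψ g, ← Equiv.sum_comp (Equiv.inv N)]
    refine Finset.sum_congr rfl fun y _ => ?_
    simp
  rw [h2, Finset.sum_congr rfl (fun y _ => h1 y), Finset.sum_comm]
  have h4 : ∀ g : G, ∑ y : N, f g * conj ((ψ : G → ℂ) ((y : G)⁻¹ * g)) =
      conj ((∑ y : N, (ψ : G → ℂ) y) / (ψ : G → ℂ) 1) * (f g * conj ((ψ : G → ℂ) g)) := by
    intro g
    rw [← Finset.mul_sum, ← map_sum, h3 g]
    rw [mul_div_right_comm, map_mul]
    ring
  rw [Finset.sum_congr rfl (fun g _ => h4 g), ← Finset.mul_sum]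
  ring

/-- all `p`-regular parts of members of the block are proportional to that of the canonical
character, when `G = P·C_G(P)` -/
theorem ncp_prop [Fintype G] [Fintype (Cfsg.IrrCharacter G)]
    {p : ℕ} [hp : Fact p.Prime] {M : Ideal Cfsg.AlgInt} (hM : Cfsg.IsPModular p M)
    (P : Subgroup G) [Fintype P] (hP : IsPGroup p P)
    (hG : P ⊔ Subgroup.centralizer (P : Set G) = ⊤)
    (χ₀ θ : Cfsg.IrrCharacter G)
    (huniq : ∀ ψ ∈ Cfsg.blockOf M (χ₀ : G → ℂ),
      (∀ n ∈ P, (ψ : G → ℂ) n = (ψ : G → ℂ) 1) → ψ = θ)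
    (χ : Cfsg.IrrCharacter G) (hχ : χ ∈ Cfsg.blockOf M (χ₀ : G → ℂ)) :
    ∃ c : ℂ, ∀ s : G, ¬ p ∣ orderOf s → (χ : G → ℂ) s = c * (θ : G → ℂ) s := by
  classical
  haveI : P.Normal := ncp_normal P hG
  set F : G → ℂ := fun g => ∑ y : P, Cfsg.pRegularPart p (χ : G → ℂ) ((y : G) * g) with hF
  have hFcl : ∀ g h : G, F (h * g * h⁻¹) = F g := by
    intro g h
    simp only [hF]
    rw [← Equiv.sum_comp (MulAut.conjNormal h : P ≃* P).toEquiv]
    refine Finset.sum_congr rfl fun y _ => ?_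
    have : (((MulAut.conjNormal h : P ≃* P).toEquiv y : P) : G) * (h * g * h⁻¹) =
        h * ((y : G) * g) * h⁻¹ := by
      simp only [MulEquiv.toEquiv_eq_coe, EquivLike.coe_coe, MulAut.conjNormal_apply]
      group
    rw [this]
    exact cd_pRegularPart_conj p _ (fun g h => irr_conj_invariant χ g h) _ _
  have hexp := classFunction_expansion F hFcl
  have hcoef : ∀ ψ : Cfsg.IrrCharacter G, ψ ≠ θ → Cfsg.classInner F (ψ : G → ℂ) = 0 := by
    intro ψ hne
    rw [hF, ncp_inner_avg P]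
    by_cases hk : ∀ n ∈ P, (ψ : G → ℂ) n = (ψ : G → ℂ) 1
    · have hψ : ψ ∉ Cfsg.blockOf M (χ₀ : G → ℂ) := fun h => hne (huniq ψ h hk)
      have h2 := cd_block_orth hM χ₀ ψ hψ χ hχ
      rw [cd_inner_reg_symm, h2, map_zero, mul_zero]
    · rw [h7_sum_normal_zero P ψ hk, zero_div, map_zero, zero_mul]
  have hF2 : F = Cfsg.classInner F (θ : G → ℂ) • (θ : G → ℂ) := by
    rw [Finset.sum_eq_single θ] at hexp
    · exact hexp
    · intro ψ _ hne
      rw [hcoef ψ hne, zero_smul]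
    · intro h
      exact absurd (Finset.mem_univ _) h
  refine ⟨Cfsg.classInner F (θ : G → ℂ), ?_⟩
  intro s hs
  have h1 : F s = (χ : G → ℂ) s := by
    simp only [hF]
    rw [Finset.sum_eq_single (1 : P)]
    · rw [Subgroup.coe_one, one_mul, br_pRegularPart_reg p _ s hs]
    · intro y _ hy
      apply br_pRegularPart_sing
      have hsC := ncp_reg_mem p P hP hG s hs
      have hcomm : Commute (y : G) s := Subgroup.mem_centralizer_iff.mp hsC (y : G) y.2
      have hupow : ∃ k : ℕ, orderOf (y : G) = p ^ k := by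
        obtain ⟨k, hk⟩ := (IsPGroup.iff_orderOf.mp hP) y
        rw [← Subgroup.orderOf_coe] at hk
        exact ⟨k, hk⟩
      have hy1 : (y : G) ≠ 1 := fun h => hy (Subtype.ext h)
      exact h7_psingular_mul p (y : G) s hcomm hupow hy1 hs
    · intro h
      exact absurd (Finset.mem_univ _) h
  rw [← h1]
  have h2 := congrFun hF2 s
  rw [Pi.smul_apply, smul_eq_mul] at h2
  exact h2

end prop

section count

variable {G : Type*} [Group G]

/-- existence of an irreducible constituent of the restriction to a subgroup -/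
theorem ncp_exists_const [Fintype G] (H : Subgroup G) [Fintype H] (χ : Cfsg.IrrCharacter G) :
    ∃ ζ : Cfsg.IrrCharacter H, Cfsg.classInner (fun u : H => (χ : G → ℂ) u) (ζ : H → ℂ) ≠ 0 := by
  have h1 : (fun u : H => (χ : G → ℂ) u) 1 ≠ 0 := by
    show (χ : G → ℂ) ((1 : H) : G) ≠ 0
    rw [Subgroup.coe_one]
    exact irr_one_ne_zero χ
  obtain ⟨ζ, m, hm, hζ⟩ := isCharacter_exists_constituent
    (isCharacter_restrict (isCharacter_of_irr χ) H) h1
  refine ⟨ζ, ?_⟩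
  rw [hζ]
  exact_mod_cast hm.ne'

/-- value formula on `P·C_G(P)` -/
theorem ncp_res_formula [Fintype G] (P : Subgroup G) [Fintype P]
    (hG : P ⊔ Subgroup.centralizer (P : Set G) = ⊤)
    (χ : Cfsg.IrrCharacter G) (ζ : Cfsg.IrrCharacter P)
    (hζ : Cfsg.classInner (fun u : P => (χ : G → ℂ) u) (ζ : P → ℂ) ≠ 0) (x : P) (s : G)
    (hs : s ∈ Subgroup.centralizer (P : Set G)) :
    (χ : G → ℂ) ((x : G) * s) = (ζ : P → ℂ) x * (χ : G → ℂ) s / (ζ : P → ℂ) 1 := by
  classical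
  haveI : Fintype ↥(Subgroup.centralizer (P : Set G)) := Fintype.ofFinite _
  obtain ⟨ψ₂, hψ₂⟩ := ncp_exists_const (Subgroup.centralizer (P : Set G)) χ
  have key := cp_char_prod P (Subgroup.centralizer (P : Set G)) (ncp_comm P) hG χ ζ ψ₂ hζ hψ₂
  have h1 := key x ⟨s, hs⟩
  have h2 := key 1 ⟨s, hs⟩
  simp only [Subgroup.coe_one, one_mul] at h2
  have hζ1 := irr_one_ne_zero ζ
  rw [h1, h2]
  field_simp

theorem ncp_const_unique [Fintype G] (P : Subgroup G) [Fintype P]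
    (hG : P ⊔ Subgroup.centralizer (P : Set G) = ⊤)
    (χ : Cfsg.IrrCharacter G) (ζ ζ' : Cfsg.IrrCharacter P)
    (hζ : Cfsg.classInner (fun u : P => (χ : G → ℂ) u) (ζ : P → ℂ) ≠ 0)
    (hζ' : Cfsg.classInner (fun u : P => (χ : G → ℂ) u) (ζ' : P → ℂ) ≠ 0) : ζ' = ζ := by
  classical
  have hζ1 := irr_one_ne_zero ζ
  have hζ'1 := irr_one_ne_zero ζ'
  have hχ1 := irr_one_ne_zero χ
  have h1mem : (1 : G) ∈ Subgroup.centralizer (P : Set G) := Subgroup.one_mem _
  have hval : ∀ x : P, (ζ' : P → ℂ) x = ((ζ' : P → ℂ) 1 / (ζ : P → ℂ) 1) * (ζ : P → ℂ) x := by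
    intro x
    have h1 := ncp_res_formula P hG χ ζ hζ x 1 h1mem
    have h2 := ncp_res_formula P hG χ ζ' hζ' x 1 h1mem
    have h3 : (ζ : P → ℂ) x * (χ : G → ℂ) 1 * (ζ' : P → ℂ) 1 =
        (ζ' : P → ℂ) x * (χ : G → ℂ) 1 * (ζ : P → ℂ) 1 := by
      rw [← div_eq_div_iff hζ1 hζ'1, ← h1, ← h2]
    have h4 : ((ζ' : P → ℂ) x * (ζ : P → ℂ) 1) * (χ : G → ℂ) 1 =
        ((ζ' : P → ℂ) 1 * (ζ : P → ℂ) x) * (χ : G → ℂ) 1 := by
      linear_combination -h3
    have h5 := mul_right_cancel₀ hχ1 h4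
    rw [div_mul_eq_mul_div, eq_div_iff hζ1]
    exact h5
  have hfun : (ζ' : P → ℂ) = ((ζ' : P → ℂ) 1 / (ζ : P → ℂ) 1) • (ζ : P → ℂ) := by
    funext x
    rw [Pi.smul_apply, smul_eq_mul]
    exact hval x
  have h5 : Cfsg.classInner (ζ' : P → ℂ) (ζ : P → ℂ) ≠ 0 := by
    rw [hfun, classInner_smul_left, irr_classInner, if_pos rfl, mul_one]
    exact div_ne_zero hζ'1 hζ1
  rw [irr_classInner] at h5
  by_contra hne
  rw [if_neg hne] at h5
  exact h5 rfl

/-- a normal `p`-subgroup that is a defect group is the only defect group -/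
theorem ncp_defect_eq [Finite G] (p : ℕ) [hp : Fact p.Prime] (M : Ideal Cfsg.AlgInt)
    (hM : Cfsg.IsPModular p M) (P : Subgroup G) [hPn : P.Normal] (hP : IsPGroup p P)
    (B : Set (Cfsg.IrrCharacter G)) (hB : Cfsg.IsPBlock M B)
    (hD : Cfsg.IsDefectGroup p M B P) (D : Subgroup G) (hD' : Cfsg.IsDefectGroup p M B D) :
    D = P := by
  classical
  haveI : Fintype G := Fintype.ofFinite _
  haveI : Fintype (Cfsg.IrrCharacter G) := Fintype.ofFinite _
  have h1 : P ≤ D := (le_sSup ⟨hPn, hP⟩ : P ≤ Cfsg.pCore p G).trans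
    (Cfsg.Agent.S0912.result p M hM B hB D hD')
  obtain ⟨χ₀, rfl⟩ := hB
  obtain ⟨g, hg, Q, hQ⟩ := hD
  obtain ⟨g', hg', Q', hQ'⟩ := hD'
  have c1 : Nat.card P = p ^ Cfsg.blockDefect p (Cfsg.blockOf M (χ₀ : G → ℂ)) := by
    rw [hQ]
    exact Cfsg.Agent.S0908.defect_card p M hM χ₀ g hg Q
  have c2 : Nat.card D = p ^ Cfsg.blockDefect p (Cfsg.blockOf M (χ₀ : G → ℂ)) := by
    rw [hQ']
    exact Cfsg.Agent.S0908.defect_card p M hM χ₀ g' hg' Q'
  exact (Subgroup.eq_of_le_of_card_ge h1 (by rw [c1, c2])).symm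

/-- two members of the block lying over the same character of `P` coincide -/
theorem ncp_inj [Fintype G] [Fintype (Cfsg.IrrCharacter G)] (p : ℕ) [hp : Fact p.Prime]
    (M : Ideal Cfsg.AlgInt)
    (hM : Cfsg.IsPModular p M) (P : Subgroup G) [Fintype P] (hP : IsPGroup p P)
    (hG : P ⊔ Subgroup.centralizer (P : Set G) = ⊤) (B : Set (Cfsg.IrrCharacter G))
    (hB : Cfsg.IsPBlock M B) (hD : Cfsg.IsDefectGroup p M B P)
    (χ χ' : Cfsg.IrrCharacter G) (hχ : χ ∈ B) (hχ' : χ' ∈ B) (ζ : Cfsg.IrrCharacter P)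
    (hζ : Cfsg.classInner (fun u : P => (χ : G → ℂ) u) (ζ : P → ℂ) ≠ 0)
    (hζ' : Cfsg.classInner (fun u : P => (χ' : G → ℂ) u) (ζ : P → ℂ) ≠ 0) : χ' = χ := by
  classical
  have hPr := hM.2.1.isPrime
  haveI hPn : P.Normal := ncp_normal P hG
  obtain ⟨⟨θ, hθB, hθk, huniq⟩, -⟩ := ncp_canon p M hM P hP hG B hB hD
  have hdef : ∀ D : Subgroup G, Cfsg.IsDefectGroup p M B D → D = P :=
    fun D hD' => ncp_defect_eq p M hM P hP B hB hD D hD'
  obtain ⟨χ₀, rfl⟩ := hB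
  obtain ⟨c, hc⟩ := ncp_prop hM P hP hG χ₀ θ huniq χ hχ
  obtain ⟨c', hc'⟩ := ncp_prop hM P hP hG χ₀ θ huniq χ' hχ'
  have h1reg : ¬ p ∣ orderOf (1 : G) := by
    rw [orderOf_one]
    exact hp.out.one_lt.ne' ∘ Nat.dvd_one.mp
  have hc0 : c ≠ 0 := by
    intro h0
    have := hc 1 h1reg
    rw [h0, zero_mul] at this
    exact irr_one_ne_zero χ this
  have hc'0 : c' ≠ 0 := by
    intro h0
    have := hc' 1 h1reg
    rw [h0, zero_mul] at this
    exact irr_one_ne_zero χ' this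
  have hζ1 := irr_one_ne_zero ζ
  have key : ∀ g : G, (χ' : G → ℂ) g = (c' / c) * (χ : G → ℂ) g := by
    intro g
    obtain ⟨r, u, hru, hcomm, hr, hu, -, -⟩ := pp_exists p hp.out g
    by_cases huP : u ∈ P
    · have hrC := ncp_reg_mem p P hP hG r hr
      have hg : g = ((⟨u, huP⟩ : P) : G) * r := by
        rw [← hru, hcomm.eq]
      rw [hg, ncp_res_formula P hG χ ζ hζ ⟨u, huP⟩ r hrC,
        ncp_res_formula P hG χ' ζ hζ' ⟨u, huP⟩ r hrC, hc r hr, hc' r hr]
      field_simp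
    · have hpp : Cfsg.IsPPart p g u := ⟨r, by rw [← hru, hcomm.eq], hcomm.symm, hu, hr⟩
      have hv : (χ : G → ℂ) g = 0 := by
        apply Cfsg.Agent.S0924.result p M hM χ g u hpp
        intro D hD'
        rw [← h7_blockOf_eq_of_mem hPr χ₀ χ hχ] at hD'
        rw [hdef D hD']
        exact huP
      have hv' : (χ' : G → ℂ) g = 0 := by
        apply Cfsg.Agent.S0924.result p M hM χ' g u hpp
        intro D hD'
        rw [← h7_blockOf_eq_of_mem hPr χ₀ χ' hχ'] at hD'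
        rw [hdef D hD']
        exact huP
      rw [hv, hv', mul_zero]
  have hfun : (χ' : G → ℂ) = (c' / c) • (χ : G → ℂ) := by
    funext g
    rw [Pi.smul_apply, smul_eq_mul]
    exact key g
  have h5 : Cfsg.classInner (χ' : G → ℂ) (χ : G → ℂ) ≠ 0 := by
    rw [hfun, classInner_smul_left, irr_classInner, if_pos rfl, mul_one]
    exact div_ne_zero hc'0 hc0
  rw [irr_classInner] at h5
  by_contra hne
  rw [if_neg hne] at h5
  exact h5 rfl

/-- every irreducible character of a `p`-subgroup lies under some member of any `p`-block -/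
theorem ncp_surj [Fintype G] [Fintype (Cfsg.IrrCharacter G)] {p : ℕ} [hp : Fact p.Prime]
    {M : Ideal Cfsg.AlgInt} (hM : Cfsg.IsPModular p M) (P : Subgroup G) [Fintype P]
    (hP : IsPGroup p P) (χ₀ : Cfsg.IrrCharacter G) (ζ : Cfsg.IrrCharacter P) :
    ∃ χ ∈ Cfsg.blockOf M (χ₀ : G → ℂ),
      Cfsg.classInner (fun u : P => (χ : G → ℂ) u) (ζ : P → ℂ) ≠ 0 := by
  classical
  have hPr := hM.2.1.isPrime
  by_contra hcon
  push Not at hcon
  set B := Cfsg.blockOf M (χ₀ : G → ℂ) with hB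
  have h1reg : ¬ p ∣ orderOf (1 : G) := by
    rw [orderOf_one]
    exact hp.out.one_lt.ne' ∘ Nat.dvd_one.mp
  have horth : ∀ x : P, x ≠ 1 →
      ∑ χ : Cfsg.IrrCharacter G,
        (if χ ∈ B then (χ : G → ℂ) 1 * conj ((χ : G → ℂ) (x : G)) else 0) = 0 := by
    intro x hx
    rw [← h7_finsum_mem_fintype]
    apply h7_weak_block_orth hM χ₀ 1 (x : G) h1reg
    obtain ⟨k, hk⟩ := (IsPGroup.iff_orderOf.mp hP) x
    rw [Subgroup.orderOf_coe, hk]
    cases k with
    | zero =>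
      exfalso
      rw [pow_zero, orderOf_eq_one_iff] at hk
      exact hx hk
    | succ k => exact dvd_pow_self p (Nat.succ_ne_zero k)
  set T : ℂ := ∑ x : P, (ζ : P → ℂ) x * ∑ χ : Cfsg.IrrCharacter G,
      (if χ ∈ B then (χ : G → ℂ) 1 * conj ((χ : G → ℂ) (x : G)) else 0) with hT
  have hTa : T = (ζ : P → ℂ) 1 * ∑ χ : Cfsg.IrrCharacter G,
      (if χ ∈ B then (χ : G → ℂ) 1 * conj ((χ : G → ℂ) 1) else 0) := by
    rw [hT, Finset.sum_eq_single (1 : P)]
    · rw [Subgroup.coe_one]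
    · intro x _ hx
      rw [horth x hx, mul_zero]
    · intro h
      exact absurd (Finset.mem_univ _) h
  have hTb : T = 0 := by
    rw [hT]
    simp only [Finset.mul_sum]
    rw [Finset.sum_comm]
    apply Finset.sum_eq_zero
    intro χ _
    by_cases hχ : χ ∈ B
    · simp only [if_pos hχ]
      have h0 := hcon χ hχ
      unfold Cfsg.classInner at h0
      have hne : (Nat.card P : ℂ)⁻¹ ≠ 0 := inv_ne_zero (by exact_mod_cast Nat.card_pos.ne')
      have h2 := (mul_eq_zero.mp h0).resolve_left hne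
      have h3 : ∑ x : P, (ζ : P → ℂ) x * ((χ : G → ℂ) 1 * conj ((χ : G → ℂ) (x : G))) =
          (χ : G → ℂ) 1 * conj (∑ x : P, (χ : G → ℂ) (x : G) * conj ((ζ : P → ℂ) x)) := by
        rw [map_sum, Finset.mul_sum]
        refine Finset.sum_congr rfl fun x _ => ?_
        rw [map_mul, Complex.conj_conj]
        ring
      rw [h3, h2, map_zero, mul_zero]
    · simp only [if_neg hχ, mul_zero, Finset.sum_const_zero]
  have hpos : ∑ χ : Cfsg.IrrCharacter G,
      (if χ ∈ B then (χ : G → ℂ) 1 * conj ((χ : G → ℂ) 1) else 0) ≠ 0 := by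
    have hd : ∀ χ : Cfsg.IrrCharacter G, ∃ n : ℕ, 0 < n ∧ (χ : G → ℂ) 1 = (n : ℂ) :=
      fun χ => irr_one_eq_finrank χ
    choose d hd0 hd1 using hd
    have h4 : ∑ χ : Cfsg.IrrCharacter G,
        (if χ ∈ B then (χ : G → ℂ) 1 * conj ((χ : G → ℂ) 1) else 0) =
        ((∑ χ : Cfsg.IrrCharacter G, (if χ ∈ B then d χ * d χ else 0) : ℕ) : ℂ) := by
      push_cast
      refine Finset.sum_congr rfl fun χ _ => ?_
      by_cases hχ : χ ∈ B
      · rw [if_pos hχ, if_pos hχ, hd1 χ, Complex.conj_natCast]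
      · rw [if_neg hχ, if_neg hχ]
    rw [h4]
    have h5 : 0 < ∑ χ : Cfsg.IrrCharacter G, (if χ ∈ B then d χ * d χ else 0) := by
      have hχ₀ : χ₀ ∈ B := h7_sameBlock_refl hPr _
      calc 0 < d χ₀ * d χ₀ := Nat.mul_pos (hd0 χ₀) (hd0 χ₀)
        _ = (if χ₀ ∈ B then d χ₀ * d χ₀ else 0) := by rw [if_pos hχ₀]
        _ ≤ _ := Finset.single_le_sum (f := fun χ => if χ ∈ B then d χ * d χ else 0)
            (fun _ _ => Nat.zero_le _) (Finset.mem_univ χ₀)
    exact_mod_cast h5.ne'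
  rw [hTb] at hTa
  exact (mul_ne_zero (irr_one_ne_zero ζ) hpos) hTa.symm

/-- the number of members of the block is the class number of `P` -/
theorem ncp_card [Finite G] (p : ℕ) [hp : Fact p.Prime] (M : Ideal Cfsg.AlgInt)
    (hM : Cfsg.IsPModular p M) (P : Subgroup G) (hP : IsPGroup p P)
    (hG : P ⊔ Subgroup.centralizer (P : Set G) = ⊤) (B : Set (Cfsg.IrrCharacter G))
    (hB : Cfsg.IsPBlock M B) (hD : Cfsg.IsDefectGroup p M B P) :
    Nat.card B = Nat.card (ConjClasses P) := by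
  classical
  haveI : Fintype G := Fintype.ofFinite _
  haveI : Fintype (Cfsg.IrrCharacter G) := Fintype.ofFinite _
  haveI : Fintype P := Fintype.ofFinite _
  rw [← Cfsg.Agent.S0133.result (G := P)]
  have hex : ∀ χ : B, ∃ ζ : Cfsg.IrrCharacter P,
      Cfsg.classInner (fun u : P => ((χ : Cfsg.IrrCharacter G) : G → ℂ) u) (ζ : P → ℂ) ≠ 0 :=
    fun χ => ncp_exists_const P χ.1
  choose f hf using hex
  apply Nat.card_congr (Equiv.ofBijective f ⟨?_, ?_⟩)
  · intro χ χ' h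
    apply Subtype.ext
    have h1 := hf χ
    have h2 := hf χ'
    rw [← h] at h2
    exact (ncp_inj p M hM P hP hG B hB hD χ.1 χ'.1 χ.2 χ'.2 (f χ) h1 h2).symm
  · intro ζ
    obtain ⟨χ₀, hχ₀⟩ := hB
    obtain ⟨χ, hχB, hχζ⟩ := ncp_surj hM P hP χ₀ ζ
    rw [← hχ₀] at hχB
    refine ⟨⟨χ, hχB⟩, ?_⟩
    exact ncp_const_unique P hG χ ζ (f ⟨χ, hχB⟩) hχζ (hf ⟨χ, hχB⟩)

end count

end Cfsg.Agent.Lib.Helper26
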