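import Mathlib
import Cfsg.Agent.Lib.helper14.BGL.SPDefs
import Cfsg.Agent.Lib.helper14.BGL.SPDefs2
import Cfsg.Agent.Lib.Helper10.BGL.Defs

/-!
Project BGL (designer helper10), block SP (designer helper14) row C1 (core): the root vectors of the long roots lie in a stable submodule containing `e_ρ`;
the statements of O1 `spOrb_spec`, O2 `spOrb_induct`, O4 `spBase_spec`, S1 `stabP_n`, N1 `n_mulVec_re`, N3 `refl_facts` are hypotheses.
-/

set_option autoImplicit false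

namespace Cfsg.Agent.Lib.helper14.BGLSP

open Cfsg.Lie Cfsg.Lie.ChevalleyDatum Cfsg.Agent.Lib.helper8 Cfsg.Agent.Lib.Helper10.BGL Matrix

universe u

variable {K : Type u} [Field K] (D : ChevalleyDatum)

/-- C1 core -/
theorem bglspc1_core {lam : List ℕ} (hT : SPTab D lam) (W : Submodule K (D.Idx → K)) (hW : StabP D (· ∈ W))
    (htop : re D K (D.nroots - 1) ∈ W)
    (h_orb_spec : ∀ {lam dep par : List ℕ}, spOrbChk D lam dep par = true →
      0 < D.nroots ∧ D.neg 0 = D.nroots - 1 ∧ 0 ∈ lam ∧ ∀ s ∈ lam, s < D.nroots ∧ D.neg s ∈ lam)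
    (h_orb_induct : ∀ {lam dep par : List ℕ}, spOrbChk D lam dep par = true → ∀ Q : ℕ → Prop, Q 0 →
      (∀ i < D.rank, ∀ s < D.nroots, Q (D.reflectRoot i s) → Q s) → ∀ s ∈ lam, Q s)
    (h_base_spec : spBaseChk D = true →
      (∀ r < D.nroots, D.neg r < D.nroots ∧ D.neg r ≠ r ∧ D.neg (D.neg r) = r ∧
        ∀ e ∈ (D.chain.getD r #[]).toList, ∀ q ∈ e.2.toList, q.1 ≠ r) ∧
      ∀ i < D.rank, D.simple i < D.nroots ∧ D.cartan i (D.simple i) = 2 ∧ cor D (D.simple i) i = 1 ∧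
        cor D (D.neg (D.simple i)) i = -1)
    (h_stabP_n : ∀ {P : (D.Idx → K) → Prop}, StabP D P → ∀ {r : ℕ}, r < D.nroots → D.neg r < D.nroots →
      ∀ {w : D.Idx → K}, P w → P (D.nMat K r 1 *ᵥ w))
    (h_n_re : ∀ (_ : H8ReflAll D) {i : ℕ}, i < D.rank → ∀ {s : ℕ}, s < D.nroots →
      ∃ η : K, (η = 1 ∨ η = -1) ∧ D.nMat K (D.simple i) 1 *ᵥ re D K s = η • re D K (D.reflectRoot i s))
    (h_refl : ∀ (_ : H8ReflAll D) {i : ℕ}, i < D.rank → ∀ {s : ℕ}, s < D.nroots →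
      D.reflectRoot i s < D.nroots ∧ D.reflectRoot i (D.reflectRoot i s) = s ∧
        D.reflectRoot i (D.neg s) = D.neg (D.reflectRoot i s)) :
    ∀ s ∈ lam, re D K s ∈ W := by
  obtain ⟨dep, par, horb⟩ := hT.orb
  obtain ⟨_, hneg0, _, hlam⟩ := h_orb_spec horb
  obtain ⟨hb1, hb2⟩ := h_base_spec hT.base
  have hQ : ∀ s ∈ lam, re D K (D.neg s) ∈ W := by
    apply h_orb_induct horb (fun s => re D K (D.neg s) ∈ W)
    · show re D K (D.neg 0) ∈ W
      rw [hneg0]
      exact htop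
    · intro i hi s hs hq
      obtain ⟨hs', hinv, _⟩ := h_refl hT.refl hi hs
      obtain ⟨_, _, hnegc'⟩ := h_refl hT.refl hi hs'
      have hns' : D.neg (D.reflectRoot i s) < D.nroots := (hb1 _ hs').1
      obtain ⟨η, hη, hn⟩ := h_n_re hT.refl hi hns'
      have h1 : D.nMat K (D.simple i) 1 *ᵥ re D K (D.neg (D.reflectRoot i s)) ∈ W :=
        h_stabP_n hW (hb2 i hi).1 (hb1 _ (hb2 i hi).1).1 hq
      rw [hn, hnegc', hinv] at h1
      show re D K (D.neg s) ∈ W
      rcases hη with rfl | rfl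
      · rw [one_smul] at h1
        exact h1
      · rw [neg_one_smul] at h1
        exact (Submodule.neg_mem_iff W).1 h1
  intro s hs
  obtain ⟨hs1, hs2⟩ := hlam s hs
  have := hQ (D.neg s) hs2
  rw [(hb1 s hs1).2.2.1] at this
  exact this

end Cfsg.Agent.Lib.helper14.BGLSP
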