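import Mathlib
import Cfsg.Agent.Lib.helper14.BGL.SPDefs
import Cfsg.Agent.Lib.helper14.BGL.SPDefs2
import Cfsg.Agent.Lib.Helper10.BGL.Defs
import Cfsg.Agent.Lib.Helper10.BGL.Bridge
import Cfsg.Agent.Lib.helper8.ChevBaseAll
import Cfsg.Agent.Lib.helper8.ChevBNAll
import Cfsg.Agent.Lib.helper8.ChevReflAll
import Cfsg.Agent.Lib.helper8.ChevNM
import Cfsg.Agent.Lib.helper8.ChevNgen
import Cfsg.Agent.Lib.helper8.ChevFix1
import Cfsg.Agent.Lib.helper8.ChevTits5

/-!
Project BGL (designer helper10), block SP (designer helper14) rows N1 (`n_mulVec_re`) and N2 (`n_mulVec_rc`), VERBATIM vs `helper14/BGL/SPSkel.lean.txt`: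
the Weyl elements `n_i = D.nMat K (D.simple i) 1` are monomial on the root vectors.
-/

set_option autoImplicit false

namespace Cfsg.Agent.Lib.helper14.BGLSP

open Cfsg.Lie Cfsg.Lie.ChevalleyDatum Cfsg.Agent.Lib.helper8 Cfsg.Agent.Lib.Helper10.BGL Matrix

universe u

variable {K : Type u} [Field K] (D : ChevalleyDatum)

/-- the cast of a sign -/
theorem bglspn1_sign {z : ℤ} (h : z = 1 ∨ z = -1) : ((z : ℤ) : K) = 1 ∨ ((z : ℤ) : K) = -1 := by
  rcases h with rfl | rfl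
  · left; simp
  · right; simp

/-- N1 [S-M] -/
theorem n_mulVec_re (hA : H8ReflAll D) {i : ℕ} (hi : i < D.rank) {s : ℕ} (hs : s < D.nroots) :
    ∃ η : K, (η = 1 ∨ η = -1) ∧ D.nMat K (D.simple i) 1 *ᵥ re D K s = η • re D K (D.reflectRoot i s) := by
  obtain ⟨eta, hN, hE, hR⟩ := hA.refl i hi
  have hrefl := h8reflChk_spec D i hi eta hN hE hA.ce hA.ca hR
  have hs' : D.reflectRoot i s < D.nroots := hrefl.lt s hs
  refine ⟨((eta.getD s 0 : ℤ) : K), bglspn1_sign ((h8eta_of_chk D i eta hE).1 s hs), ?_⟩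
  rw [h8nMat_eq_NM D i hi eta hN]
  unfold re
  rw [dif_pos hs, dif_pos hs', Matrix.mulVec_single_one]
  funext row
  rcases row with j' | s'
  · simp [h8NM, Matrix.col]
  · simp only [h8NM, Matrix.col_apply, Matrix.of_apply, Sum.elim_inr, Pi.smul_apply, smul_eq_mul]
    by_cases h : (s' : ℕ) = D.reflectRoot i s
    · have e : s' = ⟨D.reflectRoot i s, hs'⟩ := Fin.ext h
      rw [if_pos h, e, Pi.single_eq_same, mul_one]
    · have e : (Sum.inr s' : D.Idx) ≠ Sum.inr ⟨D.reflectRoot i s, hs'⟩ := by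
        intro e'
        exact h (congrArg Fin.val (Sum.inr_injective e'))
      rw [if_neg h, Pi.single_eq_of_ne e, mul_zero]

/-- N2 [S-M] -/
theorem n_mulVec_rc (hA : H8ReflAll D) {i : ℕ} (hi : i < D.rank) {s : ℕ} (hs : s < D.nroots) :
    ∃ η : K, (η = 1 ∨ η = -1) ∧ ∀ w : D.Idx → K,
      rc D (D.nMat K (D.simple i) 1 *ᵥ w) s = η * rc D w (D.reflectRoot i s) := by
  obtain ⟨eta, hN, hE, hR⟩ := hA.refl i hi
  have hrefl := h8reflChk_spec D i hi eta hN hE hA.ce hA.ca hR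
  have hs' : D.reflectRoot i s < D.nroots := hrefl.lt s hs
  refine ⟨((eta.getD (D.reflectRoot i s) 0 : ℤ) : K),
    bglspn1_sign ((h8eta_of_chk D i eta hE).1 _ hs'), ?_⟩
  intro w
  rw [h8nMat_eq_NM D i hi eta hN]
  unfold rc
  rw [dif_pos hs, dif_pos hs', Matrix.mulVec, dotProduct, Fintype.sum_sum_type]
  simp only [h8NM, Matrix.of_apply, Sum.elim_inl, Sum.elim_inr, zero_mul, Finset.sum_const_zero, zero_add]
  rw [Finset.sum_eq_single (⟨D.reflectRoot i s, hs'⟩ : Fin D.nroots)]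
  · rw [if_pos (hrefl.invol s hs).symm]
  · intro u _ hu
    rw [if_neg, zero_mul]
    intro hw
    apply hu
    apply Fin.ext
    show u.val = D.reflectRoot i s
    rw [hw, hrefl.invol u.val u.2]
  · intro hh
    exact absurd (Finset.mem_univ _) hh

end Cfsg.Agent.Lib.helper14.BGLSP
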