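import Mathlib
import Cfsg.Agent.Lib.Helper28.BP2.Defs

/-!
# BP2 row T3 (binS_conj), verbatim; proved directly (no T2 needed).
-/

set_option autoImplicit false

namespace Cfsg.Agent.Lib.Helper28.BP2

open Cfsg.Agent.Lib.helper14

universe u v w

section Toolbox

variable {G : Type u} [Group G]

/-- membership in the conjugate subgroup `g H g⁻¹`. -/
theorem bp2t3_mem (H : Subgroup G) (g z : G) :
    z ∈ H.map (MulAut.conj g).toMonoidHom ↔ g⁻¹ * z * g ∈ H := by
  constructor
  · rintro ⟨h, hh, rfl⟩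
    have : g⁻¹ * (MulAut.conj g).toMonoidHom h * g = h := by
      show g⁻¹ * (g * h * g⁻¹) * g = h
      group
    rw [this]
    exact hh
  · intro hz
    refine ⟨g⁻¹ * z * g, hz, ?_⟩
    show g * (g⁻¹ * z * g) * g⁻¹ = z
    group

theorem binS_conj (H : Subgroup G) (g : G) :
    BinS (H.map (MulAut.conj g).toMonoidHom) ↔ BinS H := by
  constructor
  · intro hB n x y hn hpair
    obtain ⟨k, hk⟩ := hB n (fun i => x i * g⁻¹) (fun i => y i * g⁻¹) hn (by
      intro i j hij
      obtain ⟨k, h1, h2⟩ := hpair i j hij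
      refine ⟨k, ?_, ?_⟩
      · rw [bp2t3_mem]
        have e : g⁻¹ * ((y i * g⁻¹)⁻¹ * k * (x i * g⁻¹)) * g = (y i)⁻¹ * k * x i := by group
        rw [e]
        exact h1
      · rw [bp2t3_mem]
        have e : g⁻¹ * ((y j * g⁻¹)⁻¹ * k * (x j * g⁻¹)) * g = (y j)⁻¹ * k * x j := by group
        rw [e]
        exact h2)
    refine ⟨k, fun i => ?_⟩
    have h := hk i
    rw [bp2t3_mem] at h
    have e : g⁻¹ * ((y i * g⁻¹)⁻¹ * k * (x i * g⁻¹)) * g = (y i)⁻¹ * k * x i := by group
    rw [← e]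
    exact h
  · intro hB n x y hn hpair
    obtain ⟨k, hk⟩ := hB n (fun i => x i * g) (fun i => y i * g) hn (by
      intro i j hij
      obtain ⟨k, h1, h2⟩ := hpair i j hij
      rw [bp2t3_mem] at h1 h2
      refine ⟨k, ?_, ?_⟩
      · have e : (y i * g)⁻¹ * k * (x i * g) = g⁻¹ * ((y i)⁻¹ * k * x i) * g := by group
        rw [e]
        exact h1
      · have e : (y j * g)⁻¹ * k * (x j * g) = g⁻¹ * ((y j)⁻¹ * k * x j) * g := by group
        rw [e]
        exact h2)
    refine ⟨k, fun i => ?_⟩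
    rw [bp2t3_mem]
    have e : g⁻¹ * ((y i)⁻¹ * k * x i) * g = (y i * g)⁻¹ * k * (x i * g) := by group
    rw [e]
    exact hk i

end Toolbox

end Cfsg.Agent.Lib.Helper28.BP2
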