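import Cfsg.Agent.Lib.Helper26.FusionSat

set_option autoImplicit false

namespace Cfsg.Agent.Lib.Helper26

open Cfsg Cfsg.FusionSystem

variable {Ω : Type*} [Group Ω] {S : Subgroup Ω}

/-- receptive implies fully centralized (S5078, restated in the library). -/
theorem fullyCentralized_of_receptive [Finite S] (F : FusionSystem S) {P : Subgroup Ω}
    (hP : F.IsReceptive P) : F.IsFullyCentralized P := by
  refine ⟨hP.1, fun Q hPQ => ?_⟩
  obtain ⟨ψ, hψ, hψr⟩ := isConj_symm F hPQ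
  obtain ⟨χ, hχ, hχψ⟩ := hP.2 Q ψ hψ hψr
  have hCle : centralizerIn S Q ≤ extender S Q ψ := centralizerIn_le_extender S Q ψ
  have hQle : Q ≤ extender S Q ψ := le_extender F hψ
  have hfin : Finite ↥(centralizerIn S P) := finite_of_le inf_le_left
  have hmem : ∀ g : ↥(centralizerIn S Q), χ ⟨g, hCle g.2⟩ ∈ centralizerIn S P := by
    intro g
    refine ⟨apply_mem F hχ _, ?_⟩
    intro y hy
    rw [← hψr] at hy
    obtain ⟨q, rfl⟩ := hy
    have hq : ψ q = χ ⟨q, hQle q.2⟩ := (hχψ q q.2 (hQle q.2)).symm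
    rw [hq, ← map_mul, ← map_mul]
    congr 1
    apply Subtype.ext
    exact g.2.2 q q.2
  let f : ↥(centralizerIn S Q) → ↥(centralizerIn S P) := fun g => ⟨χ ⟨g, hCle g.2⟩, hmem g⟩
  have hf : Function.Injective f := by
    intro a b hab
    have h1 : χ ⟨a, hCle a.2⟩ = χ ⟨b, hCle b.2⟩ := congrArg Subtype.val hab
    have h2 := F.injective_of_mem hχ h1
    exact Subtype.ext (Subtype.mk.inj h2)
  exact Nat.card_le_card_of_injective f hf

/-- fully automized and receptive implies fully normalized (AKO I.2.6(b)). -/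
theorem fullyNormalized_of_automized_receptive [Finite S] {p : ℕ} [Fact p.Prime]
    (hS : IsPGroup p S) (F : FusionSystem S) {P : Subgroup Ω} (h₁ : F.IsFullyAutomized p P)
    (h₂ : F.IsReceptive P) : F.IsFullyNormalized P := by
  refine ⟨h₁.1, fun Q hPQ => ?_⟩
  obtain ⟨φ, hφ, hφN, -⟩ := exists_normalizer_hom hS F h₁ h₂ (isConj_symm F hPQ)
  have hfin : Finite ↥(normalizerIn S P) := finite_of_le inf_le_left
  let f : ↥(normalizerIn S Q) → ↥(normalizerIn S P) := fun g => ⟨φ g, hφN g⟩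
  have hf : Function.Injective f := by
    intro a b hab
    exact F.injective_of_mem hφ (congrArg Subtype.val hab)
  exact Nat.card_le_card_of_injective f hf

/-- The data produced by `exists_normalizer_hom`, packaged for reuse. -/
structure NormalizerHom (F : FusionSystem S) (Q P : Subgroup Ω) where
  φ : ↥(normalizerIn S Q) →* Ω
  mem : φ ∈ F.Hom (normalizerIn S Q)
  maps : ∀ x, φ x ∈ normalizerIn S P
  img : (Q.subgroupOf (normalizerIn S Q)).map φ = P

theorem le_normalizerIn_self {Q : Subgroup Ω} (hQ : Q ≤ S) : Q ≤ normalizerIn S Q :=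
  le_inf hQ Subgroup.le_normalizer

namespace NormalizerHom

variable {F : FusionSystem S} {Q P : Subgroup Ω}

theorem apply_mem_of_mem (N : NormalizerHom F Q P) (hQ : Q ≤ S) (x : Q) :
    N.φ ⟨x, le_normalizerIn_self hQ x.2⟩ ∈ P :=
  N.img.le ⟨_, Subgroup.mem_subgroupOf.mpr x.2, rfl⟩

theorem exists_preimage (N : NormalizerHom F Q P) (hQ : Q ≤ S) {y : Ω} (hy : y ∈ P) :
    ∃ x : Q, N.φ ⟨x, le_normalizerIn_self hQ x.2⟩ = y := by
  obtain ⟨x, hx, rfl⟩ := N.img.ge hy
  exact ⟨⟨x, Subgroup.mem_subgroupOf.mp hx⟩, rfl⟩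

/-- the restriction to `Q`, as a map `Q →* Ω` of `F` -/
noncomputable def restrictQ (N : NormalizerHom F Q P) (hQ : Q ≤ S) : Q →* Ω :=
  N.φ.comp (Subgroup.inclusion (le_normalizerIn_self hQ))

theorem restrictQ_mem (N : NormalizerHom F Q P) (hQ : Q ≤ S) : N.restrictQ hQ ∈ F.Hom Q :=
  restrict_mem F N.mem _

theorem restrictQ_range (N : NormalizerHom F Q P) (hQ : Q ≤ S) : (N.restrictQ hQ).range = P := by
  ext z
  constructor
  · rintro ⟨x, rfl⟩
    exact N.apply_mem_of_mem hQ x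
  · intro hz
    obtain ⟨x, hx⟩ := N.exists_preimage hQ hz
    exact ⟨x, hx⟩

theorem injective (N : NormalizerHom F Q P) : Function.Injective N.φ := F.injective_of_mem N.mem

/-- `φ` maps `C_S(Q)` into `C_S(P)`. -/
theorem maps_centralizer (N : NormalizerHom F Q P) (hQ : Q ≤ S) (c : ↥(normalizerIn S Q))
    (hc : (c : Ω) ∈ centralizerIn S Q) : N.φ c ∈ centralizerIn S P := by
  refine ⟨(N.maps c).1, ?_⟩
  intro y hy
  obtain ⟨x, rfl⟩ := N.exists_preimage hQ hy
  rw [← map_mul, ← map_mul]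
  congr 1
  apply Subtype.ext
  exact hc.2 x x.2

end NormalizerHom

theorem nonempty_normalizerHom [Finite S] {p : ℕ} [Fact p.Prime] (hS : IsPGroup p S)
    (F : FusionSystem S) {P Q : Subgroup Ω} (h₁ : F.IsFullyAutomized p P) (h₂ : F.IsReceptive P)
    (hQ : F.IsConj Q P) : Nonempty (NormalizerHom F Q P) := by
  obtain ⟨φ, hφ, h1, h2⟩ := exists_normalizer_hom hS F h₁ h₂ hQ
  exact ⟨⟨φ, hφ, h1, h2⟩⟩

/-- if `Q` is fully centralized, a `NormalizerHom` maps `C_S(Q)` ONTO `C_S(P)`. -/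
theorem NormalizerHom.surj_centralizer [Finite S] {F : FusionSystem S} {Q P : Subgroup Ω}
    (N : NormalizerHom F Q P) (hQ : F.IsFullyCentralized Q) (hQP : F.IsConj Q P) {y : Ω}
    (hy : y ∈ centralizerIn S P) :
    ∃ c : ↥(normalizerIn S Q), (c : Ω) ∈ centralizerIn S Q ∧ N.φ c = y := by
  have hQS : Q ≤ S := hQ.1
  have hcard : Nat.card (centralizerIn S P) ≤ Nat.card (centralizerIn S Q) := hQ.2 P hQP
  have hfinP : Finite ↥(centralizerIn S P) := finite_of_le inf_le_left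
  have hfinQ : Finite ↥(centralizerIn S Q) := finite_of_le inf_le_left
  let f : ↥(centralizerIn S Q) → ↥(centralizerIn S P) := fun c =>
    ⟨N.φ ⟨c, centralizerIn_le_normalizerIn S Q c.2⟩, N.maps_centralizer hQS _ c.2⟩
  have hf : Function.Injective f := by
    intro a b hab
    have := N.injective (congrArg Subtype.val hab)
    exact Subtype.ext (Subtype.mk.inj this)
  have hbij : Function.Bijective f := by
    rw [Nat.bijective_iff_injective_and_card]
    exact ⟨hf, le_antisymm (Nat.card_le_card_of_injective f hf) hcard⟩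
  obtain ⟨c, hc⟩ := hbij.2 ⟨y, hy⟩
  exact ⟨⟨c, centralizerIn_le_normalizerIn S Q c.2⟩, c.2, congrArg Subtype.val hc⟩

/-- AKO I.2.6(c): a fully centralized conjugate of a fully automized receptive subgroup is receptive. -/
theorem receptive_of_fullyCentralized [Finite S] {p : ℕ} [Fact p.Prime] (hS : IsPGroup p S)
    (F : FusionSystem S) {P Q : Subgroup Ω} (h₁ : F.IsFullyAutomized p P) (h₂ : F.IsReceptive P)
    (hQP : F.IsConj Q P) (hQ : F.IsFullyCentralized Q) : F.IsReceptive Q := by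
  have hQS : Q ≤ S := hQ.1
  obtain ⟨N⟩ := nonempty_normalizerHom hS F h₁ h₂ hQP
  refine ⟨hQS, fun R ψ hψ hψr => ?_⟩
  have hψQ : ∀ x : R, ψ x ∈ Q := fun x => hψr.le ⟨x, rfl⟩
  -- θ = φ|_Q ∘ ψ
  set θ : R →* Ω := (N.restrictQ hQS).comp (ψ.codRestrict Q hψQ) with hθ
  have hθmem : θ ∈ F.Hom R := F.comp_mem hψ (N.restrictQ_mem hQS) hψQ
  have hθr : θ.range = P := by
    ext z
    constructor
    · rintro ⟨x, rfl⟩
      exact N.apply_mem_of_mem hQS _
    · intro hz
      obtain ⟨q, hq⟩ := N.exists_preimage hQS hz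
      obtain ⟨x, hx⟩ := hψr.ge q.2
      refine ⟨x, ?_⟩
      rw [← hq]
      show N.φ _ = N.φ _
      congr 1
      exact Subtype.ext hx
  have hθapply : ∀ x : R, θ x = N.φ ⟨ψ x, le_normalizerIn_self hQS (hψQ x)⟩ := fun x => rfl
  obtain ⟨χ, hχ, hχθ⟩ := h₂.2 R θ hθmem hθr
  have hRS : R ≤ S := source_le F hψ
  -- key: each g ∈ N_ψ lies in N_θ, and χ g ∈ φ(N_S(Q))
  have key : ∀ g ∈ extender S R ψ, ∃ hg : g ∈ extender S R θ,
      ∃ n : ↥(normalizerIn S Q), N.φ n = χ ⟨g, hg⟩ := by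
    intro g hg
    obtain ⟨hgS, hgN, h, hhS, hgh⟩ := mem_extender_iff.mp hg
    -- h normalizes Q
    have hhN : h ∈ Subgroup.normalizer (Q : Set Ω) := by
      refine mem_normalizer_of_forall (fun y hy => ?_) (fun y hy => ?_)
      · obtain ⟨x, rfl⟩ := hψr.ge hy
        rw [← hgh x]
        exact hψQ _
      · obtain ⟨x, rfl⟩ := hψr.ge hy
        have hx' : g⁻¹ * (x : Ω) * g ∈ R := conj_inv_mem_of_mem_normalizer hgN x
        have := hgh ⟨_, hx'⟩
        have e : (⟨g * ((⟨g⁻¹ * (x : Ω) * g, hx'⟩ : R) : Ω) * g⁻¹,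
            conj_mem_of_mem_normalizer hgN _⟩ : R) = x := by
          apply Subtype.ext
          show g * (g⁻¹ * (x : Ω) * g) * g⁻¹ = x
          group
        rw [e] at this
        have e2 : h⁻¹ * ψ x * h = ψ ⟨_, hx'⟩ := by
          rw [this]; group
        rw [e2]
        exact hψQ _
    let hn : ↥(normalizerIn S Q) := ⟨h, hhS, hhN⟩
    have hgθ : g ∈ extender S R θ := by
      refine mem_extender_iff.mpr ⟨hgS, hgN, N.φ hn, (N.maps hn).1, fun x => ?_⟩
      rw [hθapply, hθapply]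
      have e1 : (⟨ψ ⟨g * x * g⁻¹, conj_mem_of_mem_normalizer hgN x⟩,
          le_normalizerIn_self hQS (hψQ _)⟩ : ↥(normalizerIn S Q)) =
          hn * ⟨ψ x, le_normalizerIn_self hQS (hψQ x)⟩ * hn⁻¹ := by
        apply Subtype.ext
        exact hgh x
      rw [e1, map_mul, map_mul, map_inv]
    refine ⟨hgθ, ?_⟩
    -- φ(h)⁻¹ χ(g) centralizes P
    have hcent : (N.φ hn)⁻¹ * χ ⟨g, hgθ⟩ ∈ centralizerIn S P := by
      refine ⟨Subgroup.mul_mem _ (Subgroup.inv_mem _ (N.maps hn).1) (apply_mem F hχ _), ?_⟩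
      intro y hy
      obtain ⟨x, rfl⟩ := hθr.ge hy
      have hRle : R ≤ extender S R θ := le_extender F hθmem
      have h1 : χ ⟨x, hRle x.2⟩ = θ x := hχθ x x.2 _
      have hx' : g * (x : Ω) * g⁻¹ ∈ R := conj_mem_of_mem_normalizer hgN x
      have h2 : χ ⟨g * x * g⁻¹, hRle hx'⟩ = θ ⟨g * x * g⁻¹, hx'⟩ := hχθ _ hx' _
      have h3 : χ ⟨g, hgθ⟩ * χ ⟨x, hRle x.2⟩ * (χ ⟨g, hgθ⟩)⁻¹ = χ ⟨g * x * g⁻¹, hRle hx'⟩ := by
        rw [← map_inv, ← map_mul, ← map_mul]
        rfl
      have h4 : θ ⟨g * x * g⁻¹, hx'⟩ = N.φ hn * θ x * (N.φ hn)⁻¹ := by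
        rw [hθapply, hθapply]
        have e1 : (⟨ψ ⟨g * x * g⁻¹, hx'⟩,
            le_normalizerIn_self hQS (hψQ _)⟩ : ↥(normalizerIn S Q)) =
            hn * ⟨ψ x, le_normalizerIn_self hQS (hψQ x)⟩ * hn⁻¹ := by
          apply Subtype.ext
          exact hgh x
        rw [e1, map_mul, map_mul, map_inv]
      rw [h1, h2, h4] at h3
      -- h3 : χ g * θ x * (χ g)⁻¹ = φ h * θ x * (φ h)⁻¹
      calc θ x * ((N.φ hn)⁻¹ * χ ⟨g, hgθ⟩)
          = (N.φ hn)⁻¹ * (N.φ hn * θ x * (N.φ hn)⁻¹) * χ ⟨g, hgθ⟩ := by group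
        _ = (N.φ hn)⁻¹ * (χ ⟨g, hgθ⟩ * θ x * (χ ⟨g, hgθ⟩)⁻¹) * χ ⟨g, hgθ⟩ := by rw [h3]
        _ = (N.φ hn)⁻¹ * χ ⟨g, hgθ⟩ * θ x := by group
    obtain ⟨c, -, hc⟩ := N.surj_centralizer hQ hQP hcent
    refine ⟨hn * c, ?_⟩
    rw [map_mul, hc]
    group
  have hle : extender S R ψ ≤ extender S R θ := fun g hg => (key g hg).1
  -- inverse of φ on its range
  obtain ⟨ι, hι, -, hι1, -⟩ := exists_inv F N.mem rfl
  have hχrange : ∀ g : ↥(extender S R ψ), χ ⟨g, hle g.2⟩ ∈ N.φ.range := by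
    intro g
    obtain ⟨_, n, hn⟩ := key g g.2
    exact ⟨n, hn⟩
  have hcomp := F.comp_mem (restrict_mem F hχ hle) hι hχrange
  refine ⟨_, hcomp, fun x hxR hxN => ?_⟩
  show ι ⟨χ ⟨x, hle hxN⟩, _⟩ = ψ ⟨x, hxR⟩
  have h1 : χ ⟨x, hle hxN⟩ = θ ⟨x, hxR⟩ := hχθ x hxR _
  have h2 := hι1 ⟨ψ ⟨x, hxR⟩, le_normalizerIn_self hQS (hψQ _)⟩ ⟨_, rfl⟩
  refine Eq.trans ?_ h2
  congr 1
  apply Subtype.ext
  exact h1

theorem exists_iso_of_hom (F : FusionSystem S) {Q P : Subgroup Ω} {φ : Q →* Ω} (hφ : φ ∈ F.Hom Q)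
    (hr : φ.range = P) : ∃ e : Q ≃* P, IsIso F e ∧ ∀ x : Q, ((e x : P) : Ω) = φ x := by
  have hmem : ∀ x : Q, φ x ∈ P := fun x => hr.le ⟨x, rfl⟩
  have hbij : Function.Bijective (φ.codRestrict P hmem) := by
    refine ⟨fun a b hab => F.injective_of_mem hφ (congrArg Subtype.val hab), fun y => ?_⟩
    obtain ⟨x, hx⟩ := hr.ge y.2
    exact ⟨x, Subtype.ext hx⟩
  refine ⟨MulEquiv.ofBijective (φ.codRestrict P hmem) hbij, ?_, fun x => rfl⟩
  exact mem_of_forall_eq F hφ (fun x => rfl)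

/-- if `Q` is fully normalized, a `NormalizerHom` maps `N_S(Q)` ONTO `N_S(P)`. -/
theorem NormalizerHom.surj_normalizer [Finite S] {F : FusionSystem S} {Q P : Subgroup Ω}
    (N : NormalizerHom F Q P) (hQ : F.IsFullyNormalized Q) (hQP : F.IsConj Q P) {y : Ω}
    (hy : y ∈ normalizerIn S P) : ∃ n : ↥(normalizerIn S Q), N.φ n = y := by
  have hcard : Nat.card (normalizerIn S P) ≤ Nat.card (normalizerIn S Q) := hQ.2 P hQP
  have hfinP : Finite ↥(normalizerIn S P) := finite_of_le inf_le_left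
  have hfinQ : Finite ↥(normalizerIn S Q) := finite_of_le inf_le_left
  let f : ↥(normalizerIn S Q) → ↥(normalizerIn S P) := fun c => ⟨N.φ c, N.maps c⟩
  have hf : Function.Injective f := by
    intro a b hab
    exact N.injective (congrArg Subtype.val hab)
  have hbij : Function.Bijective f := by
    rw [Nat.bijective_iff_injective_and_card]
    exact ⟨hf, le_antisymm (Nat.card_le_card_of_injective f hf) hcard⟩
  obtain ⟨c, hc⟩ := hbij.2 ⟨y, hy⟩
  exact ⟨c, congrArg Subtype.val hc⟩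

/-- a preimage under a `NormalizerHom` of an element of `C_S(P)` lies in `C_S(Q)`. -/
theorem NormalizerHom.mem_centralizer_of_apply_mem {F : FusionSystem S} {Q P : Subgroup Ω}
    (N : NormalizerHom F Q P) (hQS : Q ≤ S) (n : ↥(normalizerIn S Q))
    (h : N.φ n ∈ centralizerIn S P) : (n : Ω) ∈ centralizerIn S Q := by
  refine ⟨n.2.1, ?_⟩
  intro x hx
  have hxP : N.φ ⟨x, le_normalizerIn_self hQS hx⟩ ∈ P := N.apply_mem_of_mem hQS ⟨x, hx⟩
  have := h.2 _ hxP
  rw [← map_mul, ← map_mul] at this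
  have := N.injective this
  exact congrArg Subtype.val this

theorem fullyCentralized_of_fullyNormalized_conj [Finite S] {p : ℕ} [Fact p.Prime]
    (hS : IsPGroup p S) (F : FusionSystem S) {P Q : Subgroup Ω} (h₁ : F.IsFullyAutomized p P)
    (h₂ : F.IsReceptive P) (hQP : F.IsConj Q P) (hQ : F.IsFullyNormalized Q) :
    F.IsFullyCentralized Q := by
  have hQS : Q ≤ S := hQ.1
  obtain ⟨N⟩ := nonempty_normalizerHom hS F h₁ h₂ hQP
  have hPc := fullyCentralized_of_receptive F h₂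
  refine ⟨hQS, fun Q' hQQ' => ?_⟩
  have h1 : Nat.card (centralizerIn S Q') ≤ Nat.card (centralizerIn S P) :=
    hPc.2 Q' (isConj_trans F (isConj_symm F hQP) hQQ')
  refine h1.trans ?_
  have hfinQ : Finite ↥(centralizerIn S Q) := finite_of_le inf_le_left
  have hex : ∀ c : ↥(centralizerIn S P), ∃ n : ↥(normalizerIn S Q), N.φ n = c := fun c =>
    N.surj_normalizer hQ hQP (centralizerIn_le_normalizerIn S P c.2)
  choose g hg using hex
  have hgmem : ∀ c, (g c : Ω) ∈ centralizerIn S Q := fun c =>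
    N.mem_centralizer_of_apply_mem hQS (g c) (by rw [hg c]; exact c.2)
  let f : ↥(centralizerIn S P) → ↥(centralizerIn S Q) := fun c => ⟨g c, hgmem c⟩
  have hf : Function.Injective f := by
    intro a b hab
    have h3' : ((f a : ↥(centralizerIn S Q)) : Ω) = ((f b : ↥(centralizerIn S Q)) : Ω) := by rw [hab]
    have h3 : g a = g b := Subtype.ext h3'
    have h4 : N.φ (g a) = N.φ (g b) := by rw [h3]
    rw [hg a, hg b] at h4
    exact Subtype.ext h4
  exact Nat.card_le_card_of_injective f hf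

theorem card_map_mulEquiv {G H : Type*} [Group G] [Group H] (e : G ≃* H) (K : Subgroup G) :
    Nat.card (K.map e.toMonoidHom) = Nat.card K :=
  (Nat.card_congr (K.equivMapOfInjective e.toMonoidHom e.injective).toEquiv).symm

theorem fullyAutomized_of_fullyNormalized_conj [Finite S] {p : ℕ} [Fact p.Prime]
    (hS : IsPGroup p S) (F : FusionSystem S) {P Q : Subgroup Ω} (h₁ : F.IsFullyAutomized p P)
    (h₂ : F.IsReceptive P) (hQP : F.IsConj Q P) (hQ : F.IsFullyNormalized Q) :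
    F.IsFullyAutomized p Q := by
  have hQS : Q ≤ S := hQ.1
  have hPS : P ≤ S := h₁.1
  obtain ⟨N⟩ := nonempty_normalizerHom hS F h₁ h₂ hQP
  obtain ⟨e, he, heφ⟩ := exists_iso_of_hom F (N.restrictQ_mem hQS) (N.restrictQ_range hQS)
  have heφ' : ∀ x : Q, ((e x : P) : Ω) = N.φ ⟨x, le_normalizerIn_self hQS x.2⟩ := heφ
  have hfinP : Finite P := finite_of_le hPS
  have hfinQ : Finite Q := finite_of_le hQS
  have hsylP : IsSylowIn p (F.autGroup P) (autInducedBy S P) := h₁.2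
  have hAutF : (F.autGroup Q).map (MulAut.congr e).toMonoidHom = F.autGroup P := by
    ext β
    constructor
    · rintro ⟨α, hα, rfl⟩
      exact congr_mem_autGroup he hα
    · intro hβ
      refine ⟨MulAut.congr e.symm β, congr_mem_autGroup he.symm hβ, ?_⟩
      ext y
      simp [MulAut.congr]
  have hconj : ∀ (n : ↥(normalizerIn S Q)),
      MulAut.congr e (conjAut Q n n.2.2) = conjAut P (N.φ n) (N.maps n).2 := by
    intro n
    ext y
    show ((e (conjAut Q n n.2.2 (e.symm y)) : P) : Ω) = N.φ n * y * (N.φ n)⁻¹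
    rw [heφ']
    have hy : (y : Ω) = N.φ ⟨e.symm y, le_normalizerIn_self hQS (e.symm y).2⟩ := by
      rw [← heφ']
      simp
    have e1 : (⟨((conjAut Q n n.2.2 (e.symm y) : Q) : Ω), le_normalizerIn_self hQS (conjAut Q n n.2.2 (e.symm y)).2⟩ :
        ↥(normalizerIn S Q)) = n * ⟨e.symm y, le_normalizerIn_self hQS (e.symm y).2⟩ * n⁻¹ := by
      apply Subtype.ext
      rfl
    rw [e1, map_mul, map_mul, map_inv, ← hy]
  have hAutS : (autInducedBy S Q).map (MulAut.congr e).toMonoidHom = autInducedBy S P := by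
    ext β
    constructor
    · rintro ⟨α, hα, rfl⟩
      obtain ⟨g, hgS, hgN, rfl⟩ := mem_autInducedBy_iff'.mp hα
      have := hconj ⟨g, hgS, hgN⟩
      show MulAut.congr e (conjAut Q g hgN) ∈ autInducedBy S P
      rw [this]
      exact conjAut_mem_autInducedBy (N.maps _).1 _
    · intro hβ
      obtain ⟨m, hmS, hmN, rfl⟩ := mem_autInducedBy_iff'.mp hβ
      obtain ⟨n, hn⟩ := N.surj_normalizer hQ hQP (⟨hmS, hmN⟩ : m ∈ normalizerIn S P)
      refine ⟨conjAut Q n n.2.2, conjAut_mem_autInducedBy n.2.1 _, ?_⟩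
      show MulAut.congr e (conjAut Q n n.2.2) = conjAut P m hmN
      rw [hconj n]
      congr 1
  refine ⟨hQS, ?_⟩
  have hle : autInducedBy S Q ≤ F.autGroup Q := autInducedBy_le_autGroup F hQS
  have hleP : autInducedBy S P ≤ F.autGroup P := autInducedBy_le_autGroup F hPS
  have key : IsSylowIn p (F.autGroup Q) (autInducedBy S Q) := by
    rw [isSylowIn_iff_card hle]
    have h3 := (isSylowIn_iff_card hleP).mp hsylP
    rw [← hAutS, ← hAutF, card_map_mulEquiv, card_map_mulEquiv] at h3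
    exact h3
  exact key


/-- In a saturated system, a fully normalized subgroup is fully centralized, fully automized and
receptive. -/
theorem saturated_fullyNormalized [Finite S] {p : ℕ} [Fact p.Prime] (hS : IsPGroup p S)
    (F : FusionSystem S) (hF : F.IsSaturated p) {Q : Subgroup Ω} (hQ : F.IsFullyNormalized Q) :
    F.IsFullyCentralized Q ∧ F.IsFullyAutomized p Q ∧ F.IsReceptive Q := by
  obtain ⟨P, hQP, h₁, h₂⟩ := hF Q hQ.1
  have hc := fullyCentralized_of_fullyNormalized_conj hS F h₁ h₂ hQP hQ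
  exact ⟨hc, fullyAutomized_of_fullyNormalized_conj hS F h₁ h₂ hQP hQ,
    receptive_of_fullyCentralized hS F h₁ h₂ hQP hc⟩

/-- In a saturated system, a fully centralized subgroup is receptive. -/
theorem saturated_fullyCentralized [Finite S] {p : ℕ} [Fact p.Prime] (hS : IsPGroup p S)
    (F : FusionSystem S) (hF : F.IsSaturated p) {Q : Subgroup Ω} (hQ : F.IsFullyCentralized Q) :
    F.IsReceptive Q := by
  obtain ⟨P, hQP, h₁, h₂⟩ := hF Q hQ.1
  exact receptive_of_fullyCentralized hS F h₁ h₂ hQP hQ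

end Cfsg.Agent.Lib.Helper26
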