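import Cfsg.Agent.S5082
import Cfsg.Agent.Lib.Helper18.SylowIn

set_option autoImplicit false

namespace Cfsg.Agent.Lib.Helper26

open Cfsg Cfsg.FusionSystem Cfsg.Agent.S5082

variable {Ω : Type*} [Group Ω] {S : Subgroup Ω}

theorem alperin_induction_aux [Finite S] (p : ℕ) [Fact p.Prime]
    (hS : IsPGroup p S) (F : FusionSystem S) (hF : F.IsSaturated p) (E : FusionSystem S)
    (htop : F.autGroup S ≤ E.autGroup S)
    (hstep : ∀ P : Subgroup Ω, F.IsFullyNormalized P → P ≠ S →
      (∀ Q : Subgroup Ω, Q ≤ S → Nat.card P < Nat.card Q → F.Hom Q ⊆ E.Hom Q) →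
      F.autGroup P ≤ E.autGroup P) :
    ∀ (n : ℕ) (P : Subgroup Ω), P ≤ S → Nat.card S - Nat.card P = n → F.Hom P ⊆ E.Hom P := by
  intro n
  induction n using Nat.strong_induction_on with
  | _ n ih =>
    intro P hPS hn
    have ih' : ∀ Q : Subgroup Ω, Q ≤ S → Nat.card P < Nat.card Q → F.Hom Q ⊆ E.Hom Q := by
      intro Q hQS hlt
      have hQc : Nat.card Q ≤ Nat.card S := card_le_card_of_le_of_finite hQS
      exact ih (Nat.card S - Nat.card Q) (by omega) Q hQS rfl
    by_cases hne : P = S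
    · subst hne
      exact hom_top_subset F E htop
    · intro φ hφ
      have hPlt : Nat.card P < Nat.card S := card_lt_of_ne hPS hne
      obtain ⟨eφ, heφ, heφx⟩ := exists_iso_of_hom F hφ rfl
      have hRS : φ.range ≤ S := range_le F hφ
      have hRcard : Nat.card φ.range = Nat.card P := (Nat.card_congr eφ.toEquiv).symm
      have hRne : φ.range ≠ S := ne_top_of_card_lt (by omega)
      obtain ⟨T, hPT, hTn⟩ := exists_fullyNormalized_conj F hPS
      have hTS : T ≤ S := hTn.1
      have hTcard : Nat.card T = Nat.card P := (card_eq_of_isConj F hPT).symm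
      have hTne : T ≠ S := ne_top_of_card_lt (by omega)
      obtain ⟨-, hTa, hTr⟩ := saturated_fullyNormalized hS F hF hTn
      obtain ⟨N₁⟩ := nonempty_normalizerHom hS F hTa hTr hPT
      have hRT : F.IsConj φ.range T := isConj_trans F (isConj_symm F heφ.isConj) hPT
      obtain ⟨N₂⟩ := nonempty_normalizerHom hS F hTa hTr hRT
      have hfinNP : Finite ↥(normalizerIn S P) := finite_of_le inf_le_left
      have hfinNR : Finite ↥(normalizerIn S φ.range) := finite_of_le inf_le_left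
      have hN₁E : N₁.φ ∈ E.Hom (normalizerIn S P) :=
        ih' (normalizerIn S P) inf_le_left (card_lt_card_of_lt (lt_normalizerIn hS hPS hne)) N₁.mem
      have hN₂E : N₂.φ ∈ E.Hom (normalizerIn S φ.range) :=
        ih' (normalizerIn S φ.range) inf_le_left (by
          have := card_lt_card_of_lt (lt_normalizerIn hS hRS hRne)
          omega) N₂.mem
      obtain ⟨e₁, he₁, he₁x⟩ := exists_iso_of_hom F (N₁.restrictQ_mem hPS) (N₁.restrictQ_range hPS)
      obtain ⟨e₂, he₂, he₂x⟩ := exists_iso_of_hom F (N₂.restrictQ_mem hRS) (N₂.restrictQ_range hRS)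
      have he₁E : IsIso E e₁ :=
        mem_of_forall_eq E (restrict_mem E hN₁E (le_normalizerIn_self hPS)) (fun x => he₁x x)
      have he₂E : IsIso E e₂ :=
        mem_of_forall_eq E (restrict_mem E hN₂E (le_normalizerIn_self hRS)) (fun x => he₂x x)
      have hαF : IsIso F (e₁.symm.trans (eφ.trans e₂)) := he₁.symm.trans (heφ.trans he₂)
      have hle : F.autGroup T ≤ E.autGroup T :=
        hstep T hTn hTne (fun Q hQS hlt => ih' Q hQS (by omega))
      have hαE : IsIso E (e₁.symm.trans (eφ.trans e₂)) :=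
        (isIso_iff_mem_autGroup E hTS _).mpr (hle ((isIso_iff_mem_autGroup F hTS _).mp hαF))
      have hfin : IsIso E (e₁.trans ((e₁.symm.trans (eφ.trans e₂)).trans e₂.symm)) :=
        he₁E.trans (hαE.trans he₂E.symm)
      refine mem_of_forall_eq E hfin (fun x => ?_)
      rw [← heφx x]
      simp

/-- Alperin-type induction: to show `F ≤ E` it suffices to treat `Aut_F(S)` and, for fully normalized proper `P`,
`Aut_F(P)` assuming all maps of `F` on strictly larger subgroups lie in `E`. -/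
theorem alperin_induction [Finite S] (p : ℕ) [Fact p.Prime]
    (hS : IsPGroup p S) (F : FusionSystem S) (hF : F.IsSaturated p) (E : FusionSystem S)
    (htop : F.autGroup S ≤ E.autGroup S)
    (hstep : ∀ P : Subgroup Ω, F.IsFullyNormalized P → P ≠ S →
      (∀ Q : Subgroup Ω, Q ≤ S → Nat.card P < Nat.card Q → F.Hom Q ⊆ E.Hom Q) →
      F.autGroup P ≤ E.autGroup P) : F ≤ E := by
  intro P φ hφ
  exact alperin_induction_aux p hS F hF E htop hstep _ P (source_le F hφ) rfl hφ



theorem isSylowIn18_of_fullyAutomized [Finite S] {p : ℕ} [Fact p.Prime] (F : FusionSystem S)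
    {P : Subgroup Ω} (h : F.IsFullyAutomized p P) :
    Cfsg.Agent.Lib.Helper18.IsSylowIn p (autInducedBy S P) (F.autGroup P) := by
  have hfinP : Finite P := finite_of_le h.1
  obtain ⟨Q, hQ⟩ := h.2
  have h1 := Cfsg.Agent.Lib.Helper18.isSylowIn_of_sylow Q
  rw [hQ, Subgroup.map_subgroupOf_eq_of_le (autInducedBy_le_autGroup F h.1)] at h1
  exact h1

/-- Frattini step: a normal subgroup `A₀` of `Aut_F(P)` lying in `Aut_E(P)` and containing `c_g` for some
`g ∈ N_S(P) \ P`, together with the induction hypothesis, gives `Aut_F(P) ≤ Aut_E(P)`. -/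
theorem autGroup_le_of_frattini [Finite S] {p : ℕ} [Fact p.Prime] (hS : IsPGroup p S)
    (F : FusionSystem S) (hF : F.IsSaturated p) (E : FusionSystem S) {P : Subgroup Ω}
    (hPn : F.IsFullyNormalized P)
    (ih : ∀ Q : Subgroup Ω, Q ≤ S → Nat.card P < Nat.card Q → F.Hom Q ⊆ E.Hom Q)
    (A₀ : Subgroup (MulAut P)) (hA₀F : A₀ ≤ F.autGroup P)
    (hA₀n : F.autGroup P ≤ Subgroup.normalizer (A₀ : Set (MulAut P)))
    (hA₀E : A₀ ≤ E.autGroup P)
    (hex : ∃ g : Ω, g ∈ S ∧ g ∉ P ∧ ∃ hg : g ∈ Subgroup.normalizer (P : Set Ω), conjAut P g hg ∈ A₀) :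
    F.autGroup P ≤ E.autGroup P := by
  have hPS : P ≤ S := hPn.1
  have hfinP : Finite P := finite_of_le hPS
  obtain ⟨-, hfa, hrec⟩ := saturated_fullyNormalized hS F hF hPn
  have hR := isSylowIn18_of_fullyAutomized F hfa
  have hR₀ := hR.inf_of_normal hA₀F hA₀n
  obtain ⟨g₀, hg₀S, hg₀P, hg₀N, hg₀A⟩ := hex
  intro β hβ
  obtain ⟨n, hn, hγ⟩ := hR₀.frattini (hA₀n hβ)
  have hγF : n * β ∈ F.autGroup P := Subgroup.mul_mem _ (hA₀F hn) hβ
  suffices hγE : n * β ∈ E.autGroup P by
    have : β = n⁻¹ * (n * β) := by group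
    rw [this]
    exact Subgroup.mul_mem _ (Subgroup.inv_mem _ (hA₀E hn)) hγE
  set γ : MulAut P := n * β with hγdef
  have hφγ : P.subtype.comp γ.toMonoidHom ∈ F.Hom P := (mem_autGroup_iff F hPS).mp hγF
  have hrange : (P.subtype.comp γ.toMonoidHom).range = P := by
    ext z
    constructor
    · rintro ⟨x, rfl⟩
      exact (γ x).2
    · intro hz
      exact ⟨γ⁻¹ ⟨z, hz⟩, by simp⟩
  obtain ⟨ψ, hψ, hψext⟩ := hrec.2 P _ hφγ hrange
  have hc : conjAut P g₀ hg₀N ∈ autInducedBy S P ⊓ A₀ :=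
    ⟨conjAut_mem_autInducedBy hg₀S hg₀N, hg₀A⟩
  have hc2 : γ * conjAut P g₀ hg₀N * γ⁻¹ ∈ autInducedBy S P ⊓ A₀ :=
    (Subgroup.mem_normalizer_iff.mp hγ _).mp hc
  obtain ⟨h, hhS, hh⟩ := mem_autInducedBy_iff.mp hc2.1
  have hg₀ext : g₀ ∈ extender S P (P.subtype.comp γ.toMonoidHom) := by
    rw [mem_extender_iff]
    refine ⟨hg₀S, hg₀N, h, hhS, fun x => ?_⟩
    have := hh (γ x)
    simp only [MulAut.mul_apply, MulAut.inv_apply_self] at this
    exact this
  have hPle : P ≤ extender S P (P.subtype.comp γ.toMonoidHom) := le_extender F hφγ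
  have hlt : P < extender S P (P.subtype.comp γ.toMonoidHom) :=
    lt_of_le_of_ne hPle (fun heq => hg₀P (heq ▸ hg₀ext))
  have hES : extender S P (P.subtype.comp γ.toMonoidHom) ≤ S := source_le F hψ
  have hfinE : Finite ↥(extender S P (P.subtype.comp γ.toMonoidHom)) := finite_of_le hES
  have hψE : ψ ∈ E.Hom _ := ih _ hES (card_lt_card_of_lt hlt) hψ
  have hres := restrict_mem E hψE hPle
  rw [mem_autGroup_iff E hPS]
  refine mem_of_forall_eq E hres (fun x => ?_)
  exact (hψext x x.2 (hPle x.2)).symm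

end Cfsg.Agent.Lib.Helper26
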