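import Cfsg.Agent.Lib.Helper26.FusionSeries2

set_option autoImplicit false

namespace Cfsg.Agent.Lib.Helper26

open Cfsg Cfsg.FusionSystem
open scoped commutatorElement

variable {Ω : Type*} [Group Ω] {S : Subgroup Ω}

theorem conjAut_inv_apply (P : Subgroup Ω) (g : Ω) (hg : g ∈ Subgroup.normalizer (P : Set Ω))
    (x : P) : (((conjAut P g hg)⁻¹ x : P) : Ω) = g⁻¹ * (x : Ω) * g := by
  have h1 : ((conjAut P g hg) ((conjAut P g hg)⁻¹ x) : Ω) = x := by
    rw [MulAut.apply_inv_self]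
  rw [conjAut_apply] at h1
  rw [← h1]
  group

theorem conjAut_mem_linkStab {P N M : Subgroup Ω} {g : Ω}
    (hg : g ∈ Subgroup.normalizer (P : Set Ω)) (hgM : g ∈ Subgroup.normalizer (M : Set Ω))
    (h1 : ∀ x ∈ M, x⁻¹ * (g * x * g⁻¹) ∈ N) (h2 : ∀ x ∈ M, x⁻¹ * (g⁻¹ * x * g) ∈ N) :
    conjAut P g hg ∈ linkStab P N M := by
  intro x hx
  rw [conjAut_apply, conjAut_inv_apply]
  exact ⟨⟨(Subgroup.mem_normalizer_iff.mp hgM _).mp hx,
    (Subgroup.mem_normalizer_iff''.mp hgM _).mp hx⟩, h1 _ hx, h2 _ hx⟩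

theorem stronglyClosed_bot (F : FusionSystem S) : F.StronglyClosed ⊥ := by
  refine ⟨bot_le, fun R hR φ _ x => ?_⟩
  have hx : x = 1 := Subtype.ext (Subgroup.mem_bot.mp (hR x.2))
  rw [hx, map_one]
  exact Subgroup.one_mem _

theorem isNormal_of_chain [Finite S] {p : ℕ} [Fact p.Prime] (hS : IsPGroup p S)
    (F : FusionSystem S) (hF : F.IsSaturated p) (Q : Subgroup Ω) (n : ℕ)
    (Qs : Fin (n + 1) → Subgroup Ω) (h0 : Qs 0 = ⊥) (hlast : Qs (Fin.last n) = Q)
    (hstep : ∀ i : Fin n, F.StronglyClosed (Qs i.succ) ∧ ⁅Q, Qs i.succ⁆ ≤ Qs (Fin.castSucc i)) :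
    F.IsNormal Q := by
  have hsc : ∀ i : Fin (n + 1), F.StronglyClosed (Qs i) := by
    intro i
    refine Fin.cases ?_ (fun j => (hstep j).1) i
    rw [h0]
    exact stronglyClosed_bot F
  have hQ : F.StronglyClosed Q := hlast ▸ hsc (Fin.last n)
  have hQn := le_normalizer_of_stronglyClosed F hQ
  refine isNormal_of_stronglyClosed_of_le_pCore hS F hF hQ (fun P hess => ?_)
  have hPS : P ≤ S := hess.2.1.1
  have hfinP : Finite P := finite_of_le hPS
  have hnorm1 : ∀ i : Fin n, ((linkStab P (Qs (Fin.castSucc i)) (Qs i.succ)).subgroupOf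
      (F.autGroup P)).Normal := fun i =>
    linkStab_subgroupOf_normal _ (autInvariant_of_stronglyClosed F (hsc _) hPS)
      (autInvariant_of_stronglyClosed F (hsc _) hPS)
  have hnorm2 : ((linkStab P Q P).subgroupOf (F.autGroup P)).Normal :=
    linkStab_subgroupOf_normal _ (autInvariant_of_stronglyClosed F hQ hPS) (autInvariant_self _)
  have hKn : ((⨅ i : Fin n, (linkStab P (Qs (Fin.castSucc i)) (Qs i.succ)).subgroupOf
      (F.autGroup P)) ⊓ (linkStab P Q P).subgroupOf (F.autGroup P)).Normal := by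
    have := Subgroup.normal_iInf_normal hnorm1
    exact Subgroup.normal_inf_normal _ _
  have hKp : IsPGroup p ↥((⨅ i : Fin n, (linkStab P (Qs (Fin.castSucc i)) (Qs i.succ)).subgroupOf
      (F.autGroup P)) ⊓ (linkStab P Q P).subgroupOf (F.autGroup P)) := by
    refine isPGroup_of_forall_isPElementOn (P := P)
      ((F.autGroup P).subtype.comp (Subgroup.subtype _))
      ((F.autGroup P).subtype_injective.comp (Subgroup.subtype_injective _)) ?_
    rintro ⟨β, hβ⟩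
    rw [Subgroup.mem_inf, Subgroup.mem_iInf] at hβ
    obtain ⟨hβ1, hβ2⟩ := hβ
    show IsPElementOn p (β : MulAut P) P
    have hchain : ∀ i : Fin (n + 1), IsPElementOn p (β : MulAut P) (Qs i) := by
      intro i
      refine Fin.induction ?_ (fun j ih => ?_) i
      · rw [h0]
        exact isPElementOn_bot p _
      · refine isPElementOn_step hS (hsc _).1 _ ih (fun x hx => ?_)
        have := (Subgroup.mem_subgroupOf.mp (hβ1 j)) x hx
        exact ⟨this.1.1, this.2.1⟩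
    refine isPElementOn_step hS hQ.1 _ (hlast ▸ hchain (Fin.last n)) (fun x hx => ?_)
    have := (Subgroup.mem_subgroupOf.mp hβ2) x hx
    exact ⟨this.1.1, this.2.1⟩
  refine le_trans ?_ (Helper1.le_pCore hKn hKp)
  intro b hb
  obtain ⟨g, hgQN, hg, hbg⟩ := mem_autInducedBy_iff'.mp (Subgroup.mem_subgroupOf.mp hb)
  have hgS : g ∈ S := hQ.1 hgQN.1
  rw [Subgroup.mem_inf, Subgroup.mem_iInf]
  refine ⟨fun i => ?_, ?_⟩
  · rw [Subgroup.mem_subgroupOf, hbg]
    have hcomm : ⁅Qs i.succ, Q⁆ ≤ Qs (Fin.castSucc i) := by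
      rw [Subgroup.commutator_comm]
      exact (hstep i).2
    refine conjAut_mem_linkStab hg (le_normalizer_of_stronglyClosed F (hsc _) hgS)
      (fun x hx => ?_) (fun x hx => ?_)
    · have h1 : ⁅x⁻¹, g⁆ ∈ ⁅Qs i.succ, Q⁆ :=
        Subgroup.commutator_mem_commutator (Subgroup.inv_mem _ hx) hgQN.1
      have e : x⁻¹ * (g * x * g⁻¹) = ⁅x⁻¹, g⁆ := by
        rw [commutatorElement_def]; group
      rw [e]
      exact hcomm h1
    · have h1 : ⁅x⁻¹, g⁻¹⁆ ∈ ⁅Qs i.succ, Q⁆ :=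
        Subgroup.commutator_mem_commutator (Subgroup.inv_mem _ hx) (Subgroup.inv_mem _ hgQN.1)
      have e : x⁻¹ * (g⁻¹ * x * g) = ⁅x⁻¹, g⁻¹⁆ := by
        rw [commutatorElement_def]; group
      rw [e]
      exact hcomm h1
  · rw [Subgroup.mem_subgroupOf, hbg]
    refine conjAut_mem_linkStab hg hg (fun x hx => ?_) (fun x hx => ?_)
    · have h1 : x⁻¹ * g * x⁻¹⁻¹ ∈ Q :=
        (Subgroup.mem_normalizer_iff.mp (hQn (S.inv_mem (hPS hx))) g).mp hgQN.1
      have e : x⁻¹ * (g * x * g⁻¹) = (x⁻¹ * g * x⁻¹⁻¹) * g⁻¹ := by group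
      rw [e]
      exact Q.mul_mem h1 (Q.inv_mem hgQN.1)
    · have h1 : x⁻¹ * g⁻¹ * x⁻¹⁻¹ ∈ Q :=
        (Subgroup.mem_normalizer_iff.mp (hQn (S.inv_mem (hPS hx))) g⁻¹).mp (Q.inv_mem hgQN.1)
      have e : x⁻¹ * (g⁻¹ * x * g) = (x⁻¹ * g⁻¹ * x⁻¹⁻¹) * g := by group
      rw [e]
      exact Q.mul_mem h1 hgQN.1

end Cfsg.Agent.Lib.Helper26
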