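import Cfsg.Agent.Lib.Helper26.FusionBasic

set_option autoImplicit false

namespace Cfsg.Agent.Lib.Helper26

open Cfsg Cfsg.FusionSystem

variable {Ω : Type*} [Group Ω] {S : Subgroup Ω}

theorem forall_mem_of_sup {P Q : Subgroup Ω} (K : Subgroup ↥(P ⊔ Q))
    (hP : ∀ x : P, Subgroup.inclusion (le_sup_left : P ≤ P ⊔ Q) x ∈ K)
    (hQ : ∀ x : Q, Subgroup.inclusion (le_sup_right : Q ≤ P ⊔ Q) x ∈ K) (z : ↥(P ⊔ Q)) : z ∈ K := by
  have h : P ⊔ Q ≤ K.map (P ⊔ Q).subtype := by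
    refine sup_le ?_ ?_
    · intro x hx
      exact ⟨_, hP ⟨x, hx⟩, rfl⟩
    · intro x hx
      exact ⟨_, hQ ⟨x, hx⟩, rfl⟩
  obtain ⟨y, hy, hyz⟩ := h z.2
  have : y = z := Subtype.ext hyz
  exact this ▸ hy

theorem map_sup_mem {P Q : Subgroup Ω} (ψ : ↥(P ⊔ Q) →* Ω) (T : Subgroup Ω)
    (hP : ∀ x : P, ψ (Subgroup.inclusion (le_sup_left : P ≤ P ⊔ Q) x) ∈ T)
    (hQ : ∀ x : Q, ψ (Subgroup.inclusion (le_sup_right : Q ≤ P ⊔ Q) x) ∈ T) (z : ↥(P ⊔ Q)) :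
    ψ z ∈ T :=
  forall_mem_of_sup (T.comap ψ) hP hQ z

theorem map_subgroupOf_sup_eq {P Q : Subgroup Ω} (ψ : ↥(P ⊔ Q) →* Ω) {z : Ω} :
    z ∈ (Q.subgroupOf (P ⊔ Q)).map ψ ↔ ∃ q : Q, ψ (Subgroup.inclusion (le_sup_right : Q ≤ P ⊔ Q) q) = z := by
  constructor
  · rintro ⟨y, hy, rfl⟩
    exact ⟨⟨y, Subgroup.mem_subgroupOf.mp hy⟩, rfl⟩
  · rintro ⟨q, rfl⟩
    exact ⟨_, Subgroup.mem_subgroupOf.mpr q.2, rfl⟩

theorem normalizerIn_le (S Q : Subgroup Ω) : normalizerIn S Q ≤ S := inf_le_left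

theorem centralizerIn_le (S Q : Subgroup Ω) : centralizerIn S Q ≤ S := inf_le_left

theorem conj_mem_normalizerIn {S Q : Subgroup Ω} {g x : Ω} (hg : g ∈ normalizerIn S Q)
    (hx : x ∈ normalizerIn S Q) : g * x * g⁻¹ ∈ normalizerIn S Q :=
  Subgroup.mul_mem _ (Subgroup.mul_mem _ hg hx) (Subgroup.inv_mem _ hg)

theorem range_ext_eq {P Q : Subgroup Ω} {φ : P →* Ω} {ψ : ↥(P ⊔ Q) →* Ω}
    (hψφ : ∀ x : P, ψ (Subgroup.inclusion le_sup_left x) = φ x)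
    (hψQ : (Q.subgroupOf (P ⊔ Q)).map ψ = Q) : ψ.range = φ.range ⊔ Q := by
  apply le_antisymm
  · rintro _ ⟨z, rfl⟩
    refine map_sup_mem ψ (φ.range ⊔ Q) (fun x => ?_) (fun x => ?_) z
    · rw [hψφ]
      exact (le_sup_left : φ.range ≤ φ.range ⊔ Q) ⟨x, rfl⟩
    · exact (le_sup_right : Q ≤ φ.range ⊔ Q)
        (hψQ.le ((map_subgroupOf_sup_eq ψ).mpr ⟨x, rfl⟩))
  · refine sup_le ?_ ?_
    · rintro _ ⟨x, rfl⟩
      exact ⟨_, hψφ x⟩
    · intro q hq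
      obtain ⟨q', hq'⟩ := (map_subgroupOf_sup_eq ψ).mp (hψQ.ge hq)
      exact ⟨_, hq'⟩

/-- The normalizer fusion system `N_F(Q)` over `N_S(Q)`. -/
def normalizerSystem (F : FusionSystem S) (Q : Subgroup Ω) (hQ : Q ≤ S) :
    FusionSystem (normalizerIn S Q) where
  Hom P := F.normalizerHom Q P
  le_of_mem h := ⟨h.2.1, h.2.2.1⟩
  injective_of_mem h := F.injective_of_mem h.1
  conj_mem := by
    intro P g hP hg
    have hPS : P ≤ S := hP.trans (normalizerIn_le S Q)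
    have hgS : g ∈ S := normalizerIn_le S Q hg
    refine ⟨F.conj_mem hPS hgS, hP, fun x => conj_mem_normalizerIn hg (hP x.2), ?_⟩
    refine ⟨conjHom (P ⊔ Q) g, F.conj_mem (sup_le hPS hQ) hgS, fun x => rfl, ?_⟩
    ext z
    rw [map_subgroupOf_sup_eq]
    constructor
    · rintro ⟨q, rfl⟩
      exact conj_mem_of_mem_normalizer hg.2 q
    · intro hz
      refine ⟨⟨g⁻¹ * z * g, conj_inv_mem_of_mem_normalizer hg.2 ⟨z, hz⟩⟩, ?_⟩
      show g * (g⁻¹ * z * g) * g⁻¹ = z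
      group
  comp_mem := by
    rintro P R φ ψ ⟨hφ, hP, hφN, φ', hφ', hφ'φ, hφ'Q⟩ ⟨hψ, hR, hψN, ψ', hψ', hψ'ψ, hψ'Q⟩ h
    refine ⟨F.comp_mem hφ hψ h, hP, fun x => hψN _, ?_⟩
    have hmem : ∀ z : ↥(P ⊔ Q), φ' z ∈ R ⊔ Q := by
      intro z
      refine map_sup_mem φ' (R ⊔ Q) (fun x => ?_) (fun x => ?_) z
      · rw [hφ'φ]
        exact (le_sup_left : R ≤ R ⊔ Q) (h x)
      · exact (le_sup_right : Q ≤ R ⊔ Q) (hφ'Q.le ((map_subgroupOf_sup_eq φ').mpr ⟨x, rfl⟩))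
    refine ⟨ψ'.comp (φ'.codRestrict (R ⊔ Q) hmem), F.comp_mem hφ' hψ' hmem, fun x => ?_, ?_⟩
    · show ψ' ⟨φ' (Subgroup.inclusion le_sup_left x), _⟩ = ψ ⟨φ x, _⟩
      have e : (⟨φ' (Subgroup.inclusion le_sup_left x), hmem _⟩ : ↥(R ⊔ Q)) =
          Subgroup.inclusion le_sup_left ⟨φ x, h x⟩ := Subtype.ext (hφ'φ x)
      rw [e, hψ'ψ]
    · ext z
      rw [map_subgroupOf_sup_eq]
      constructor
      · rintro ⟨q, rfl⟩
        have hq : φ' (Subgroup.inclusion le_sup_right q) ∈ Q :=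
          hφ'Q.le ((map_subgroupOf_sup_eq φ').mpr ⟨q, rfl⟩)
        have e : (φ'.codRestrict (R ⊔ Q) hmem (Subgroup.inclusion le_sup_right q)) =
            Subgroup.inclusion le_sup_right ⟨_, hq⟩ := Subtype.ext rfl
        show ψ' (φ'.codRestrict (R ⊔ Q) hmem (Subgroup.inclusion le_sup_right q)) ∈ Q
        rw [e]
        exact hψ'Q.le ((map_subgroupOf_sup_eq ψ').mpr ⟨_, rfl⟩)
      · intro hz
        obtain ⟨q₁, hq₁⟩ := (map_subgroupOf_sup_eq ψ').mp (hψ'Q.ge hz)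
        obtain ⟨q₂, hq₂⟩ := (map_subgroupOf_sup_eq φ').mp (hφ'Q.ge q₁.2)
        refine ⟨q₂, ?_⟩
        show ψ' (φ'.codRestrict (R ⊔ Q) hmem (Subgroup.inclusion le_sup_right q₂)) = z
        have e : (φ'.codRestrict (R ⊔ Q) hmem (Subgroup.inclusion le_sup_right q₂)) =
            Subgroup.inclusion le_sup_right q₁ := Subtype.ext hq₂
        rw [e, hq₁]
  inv_mem := by
    rintro P φ ⟨hφ, hP, hφN, φ', hφ', hφ'φ, hφ'Q⟩
    obtain ⟨ψ, hψ, hψinv⟩ := F.inv_mem hφ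
    have hr : φ'.range = φ.range ⊔ Q := range_ext_eq hφ'φ hφ'Q
    obtain ⟨χ, hχ, hχr, hχ1, hχ2⟩ := exists_inv F hφ' hr
    have hrange : φ.range ≤ normalizerIn S Q := by
      rintro _ ⟨x, rfl⟩
      exact hφN x
    refine ⟨ψ, ⟨hψ, hrange, ?_, χ, hχ, ?_, ?_⟩, hψinv⟩
    · rintro ⟨_, x, rfl⟩
      rw [hψinv x]
      exact hP x.2
    · rintro ⟨_, x, rfl⟩
      rw [hψinv x]
      have h1 : φ' (Subgroup.inclusion le_sup_left x) ∈ φ.range ⊔ Q := hr ▸ ⟨_, rfl⟩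
      have := hχ1 (Subgroup.inclusion le_sup_left x) h1
      have e : (Subgroup.inclusion (le_sup_left : φ.range ≤ φ.range ⊔ Q) ⟨φ x, ⟨x, rfl⟩⟩) =
          ⟨φ' (Subgroup.inclusion le_sup_left x), h1⟩ := Subtype.ext (hφ'φ x).symm
      rw [e, this]
      rfl
    · ext z
      rw [map_subgroupOf_sup_eq]
      constructor
      · rintro ⟨q, rfl⟩
        obtain ⟨q', hq'⟩ := (map_subgroupOf_sup_eq φ').mp (hφ'Q.ge q.2)
        have h1 : φ' (Subgroup.inclusion le_sup_right q') ∈ φ.range ⊔ Q := hr ▸ ⟨_, rfl⟩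
        have e : (Subgroup.inclusion (le_sup_right : Q ≤ φ.range ⊔ Q) q) =
            ⟨φ' (Subgroup.inclusion le_sup_right q'), h1⟩ := Subtype.ext hq'.symm
        rw [e, hχ1]
        exact q'.2
      · intro hz
        have hq : φ' (Subgroup.inclusion le_sup_right ⟨z, hz⟩) ∈ Q :=
          hφ'Q.le ((map_subgroupOf_sup_eq φ').mpr ⟨⟨z, hz⟩, rfl⟩)
        refine ⟨⟨_, hq⟩, ?_⟩
        have h1 : φ' (Subgroup.inclusion le_sup_right ⟨z, hz⟩) ∈ φ.range ⊔ Q := hr ▸ ⟨_, rfl⟩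
        have e : (Subgroup.inclusion (le_sup_right : Q ≤ φ.range ⊔ Q) ⟨_, hq⟩) =
            ⟨φ' (Subgroup.inclusion le_sup_right ⟨z, hz⟩), h1⟩ := Subtype.ext rfl
        rw [e, hχ1]
        rfl

theorem normalizerSystem_isNormalizerSystem (F : FusionSystem S) (Q : Subgroup Ω) (hQ : Q ≤ S) :
    F.IsNormalizerSystem Q (normalizerSystem F Q hQ) := fun _ => rfl

theorem map_eq_of_fix {P Q : Subgroup Ω} {ψ : ↥(P ⊔ Q) →* Ω}
    (h : ∀ x : Q, ψ (Subgroup.inclusion le_sup_right x) = x) :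
    (Q.subgroupOf (P ⊔ Q)).map ψ = Q := by
  ext z
  rw [map_subgroupOf_sup_eq]
  constructor
  · rintro ⟨q, rfl⟩
    rw [h]
    exact q.2
  · intro hz
    exact ⟨⟨z, hz⟩, h _⟩

theorem conj_mem_centralizerIn {S Q : Subgroup Ω} {g x : Ω} (hg : g ∈ centralizerIn S Q)
    (hx : x ∈ centralizerIn S Q) : g * x * g⁻¹ ∈ centralizerIn S Q :=
  Subgroup.mul_mem _ (Subgroup.mul_mem _ hg hx) (Subgroup.inv_mem _ hg)

/-- The centralizer fusion system `C_F(Q)` over `C_S(Q)`. -/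
def centralizerSystem (F : FusionSystem S) (Q : Subgroup Ω) (hQ : Q ≤ S) :
    FusionSystem (centralizerIn S Q) where
  Hom P := F.centralizerHom Q P
  le_of_mem h := ⟨h.2.1, h.2.2.1⟩
  injective_of_mem h := F.injective_of_mem h.1
  conj_mem := by
    intro P g hP hg
    have hPS : P ≤ S := hP.trans (centralizerIn_le S Q)
    have hgS : g ∈ S := centralizerIn_le S Q hg
    refine ⟨F.conj_mem hPS hgS, hP, fun x => conj_mem_centralizerIn hg (hP x.2), ?_⟩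
    refine ⟨conjHom (P ⊔ Q) g, F.conj_mem (sup_le hPS hQ) hgS, fun x => rfl, ?_⟩
    intro q
    exact conj_eq_of_mem_centralizer hg.2 q.2
  comp_mem := by
    rintro P R φ ψ ⟨hφ, hP, hφN, φ', hφ', hφ'φ, hφ'Q⟩ ⟨hψ, hR, hψN, ψ', hψ', hψ'ψ, hψ'Q⟩ h
    refine ⟨F.comp_mem hφ hψ h, hP, fun x => hψN _, ?_⟩
    have hmem : ∀ z : ↥(P ⊔ Q), φ' z ∈ R ⊔ Q := by
      intro z
      refine map_sup_mem φ' (R ⊔ Q) (fun x => ?_) (fun x => ?_) z
      · rw [hφ'φ]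
        exact (le_sup_left : R ≤ R ⊔ Q) (h x)
      · rw [hφ'Q]
        exact (le_sup_right : Q ≤ R ⊔ Q) x.2
    refine ⟨ψ'.comp (φ'.codRestrict (R ⊔ Q) hmem), F.comp_mem hφ' hψ' hmem, fun x => ?_, ?_⟩
    · show ψ' ⟨φ' (Subgroup.inclusion le_sup_left x), _⟩ = ψ ⟨φ x, _⟩
      have e : (⟨φ' (Subgroup.inclusion le_sup_left x), hmem _⟩ : ↥(R ⊔ Q)) =
          Subgroup.inclusion le_sup_left ⟨φ x, h x⟩ := Subtype.ext (hφ'φ x)
      rw [e, hψ'ψ]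
    · intro q
      show ψ' (φ'.codRestrict (R ⊔ Q) hmem (Subgroup.inclusion le_sup_right q)) = q
      have e : (φ'.codRestrict (R ⊔ Q) hmem (Subgroup.inclusion le_sup_right q)) =
          Subgroup.inclusion le_sup_right q := Subtype.ext (hφ'Q q)
      rw [e, hψ'Q]
  inv_mem := by
    rintro P φ ⟨hφ, hP, hφN, φ', hφ', hφ'φ, hφ'Q⟩
    obtain ⟨ψ, hψ, hψinv⟩ := F.inv_mem hφ
    have hr : φ'.range = φ.range ⊔ Q := range_ext_eq hφ'φ (map_eq_of_fix hφ'Q)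
    obtain ⟨χ, hχ, hχr, hχ1, hχ2⟩ := exists_inv F hφ' hr
    have hrange : φ.range ≤ centralizerIn S Q := by
      rintro _ ⟨x, rfl⟩
      exact hφN x
    refine ⟨ψ, ⟨hψ, hrange, ?_, χ, hχ, ?_, ?_⟩, hψinv⟩
    · rintro ⟨_, x, rfl⟩
      rw [hψinv x]
      exact hP x.2
    · rintro ⟨_, x, rfl⟩
      rw [hψinv x]
      have h1 : φ' (Subgroup.inclusion le_sup_left x) ∈ φ.range ⊔ Q := hr ▸ ⟨_, rfl⟩
      have := hχ1 (Subgroup.inclusion le_sup_left x) h1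
      have e : (Subgroup.inclusion (le_sup_left : φ.range ≤ φ.range ⊔ Q) ⟨φ x, ⟨x, rfl⟩⟩) =
          ⟨φ' (Subgroup.inclusion le_sup_left x), h1⟩ := Subtype.ext (hφ'φ x).symm
      rw [e, this]
      rfl
    · intro q
      have h1 : φ' (Subgroup.inclusion le_sup_right q) ∈ φ.range ⊔ Q := hr ▸ ⟨_, rfl⟩
      have e : (Subgroup.inclusion (le_sup_right : Q ≤ φ.range ⊔ Q) q) =
          ⟨φ' (Subgroup.inclusion le_sup_right q), h1⟩ := Subtype.ext (hφ'Q q).symm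
      rw [e, hχ1]
      rfl

theorem centralizerSystem_isCentralizerSystem (F : FusionSystem S) (Q : Subgroup Ω) (hQ : Q ≤ S) :
    F.IsCentralizerSystem Q (centralizerSystem F Q hQ) := fun _ => rfl

end Cfsg.Agent.Lib.Helper26
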