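import Cfsg.Agent.Lib.Helper26.FusionSat3
import Cfsg.Agent.Lib.Helper1.Cores
import Cfsg.Prelude.Def_EvenType

set_option autoImplicit false

namespace Cfsg.Agent.Lib.Helper26

open Cfsg Cfsg.FusionSystem

section General

variable {X : Type*} [Group X]

theorem not_pRankLE_zero_of_ne_bot {p : ℕ} [Fact p.Prime] (N : Subgroup X) [Finite N]
    (hN : IsPGroup p N) (hne : N ≠ ⊥) : ¬ PRankLE p 0 N := by
  intro h
  have hnt : Nontrivial N := (Subgroup.nontrivial_iff_ne_bot N).mpr hne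
  have hdvd : p ∣ Nat.card N := by
    obtain ⟨n, hn⟩ := hN.exists_card_eq
    have hn0 : n ≠ 0 := by
      rintro rfl
      rw [pow_zero] at hn
      have := Finite.one_lt_card (α := N)
      omega
    rw [hn]
    exact dvd_pow_self p hn0
  obtain ⟨x, hx⟩ := exists_prime_orderOf_dvd_card' p hdvd
  have hc : Nat.card (Subgroup.zpowers x) = p := by rw [Nat.card_zpowers, hx]
  have hle := h (Subgroup.zpowers x) inferInstance (by
    intro a ha
    obtain ⟨k, rfl⟩ := Subgroup.mem_zpowers_iff.mp ha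
    rw [← zpow_natCast, ← zpow_mul, mul_comm, zpow_mul, zpow_natCast, ← hx, pow_orderOf_eq_one, one_zpow])
  rw [hc, pow_zero] at hle
  have := (Fact.out : p.Prime).one_lt
  omega

theorem top_le_kGeneratedCore_of_normal {p : ℕ} [Fact p.Prime] {N P₀ : Subgroup X} [Finite N]
    (hNn : N.Normal) (hN : IsPGroup p N) (hne : N ≠ ⊥) (hNP : N ≤ P₀) :
    ⊤ ≤ kGeneratedCore p 1 P₀ := by
  have h1 : ¬ PRankLE p (1 - 1) N := not_pRankLE_zero_of_ne_bot N hN hne
  have h2 : Subgroup.normalizer ((N : Subgroup X) : Set X) = ⊤ := Subgroup.normalizer_eq_top_iff.mpr hNn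
  rw [← h2]
  exact le_iSup (fun Q : {Q : Subgroup X // Q ≤ P₀ ∧ ¬ PRankLE p (1 - 1) Q} =>
    Subgroup.normalizer ((Q : Subgroup X) : Set X)) ⟨N, hNP, h1⟩

theorem eq_bot_of_normal_of_stronglyPEmbedded [Finite X] {p : ℕ} [Fact p.Prime] {E : Subgroup X}
    (hE : IsStronglyPEmbedded p E) {N : Subgroup X} (hNn : N.Normal) (hN : IsPGroup p N) : N = ⊥ := by
  by_contra hne
  obtain ⟨_, hEtop, P₀, hP₀⟩ := hE
  have hNP : N ≤ P₀ := hN.le_sylow_of_normal P₀
  exact hEtop (top_le_iff.mp ((top_le_kGeneratedCore_of_normal hNn hN hne hNP).trans hP₀))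

theorem pCore_eq_bot_of_stronglyPEmbedded [Finite X] {p : ℕ} [Fact p.Prime] {E : Subgroup X}
    (hE : IsStronglyPEmbedded p E) : pCore p X = ⊥ :=
  eq_bot_of_normal_of_stronglyPEmbedded hE (Helper1.pCore_normal p) (Helper1.pCore_isPGroup p)

end General

end Cfsg.Agent.Lib.Helper26
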