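import Cfsg.Agent.Lib.Helper26.FusionAlperin
import Cfsg.Agent.S5080

set_option autoImplicit false

namespace Cfsg.Agent.Lib.Helper26

open Cfsg Cfsg.FusionSystem

variable {Ω : Type*} [Group Ω] {S : Subgroup Ω}

theorem inn_normal (G : Type*) [Group G] : (Inn G).Normal := by
  constructor
  rintro _ ⟨x, rfl⟩ α
  refine ⟨α x, ?_⟩
  ext y
  simp [MulAut.conj_apply]

theorem inn_subgroupOf_normal (G : Type*) [Group G] (A : Subgroup (MulAut G)) :
    ((Inn G).subgroupOf A).Normal := by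
  have := inn_normal G
  exact Subgroup.Normal.subgroupOf this A

theorem dvd_card_of_isPGroup_of_ne_bot {X : Type*} [Group X] {p : ℕ} [Fact p.Prime]
    (N : Subgroup X) [Finite N] (hN : IsPGroup p N) (hne : N ≠ ⊥) : p ∣ Nat.card N := by
  have hnt : Nontrivial N := (Subgroup.nontrivial_iff_ne_bot N).mpr hne
  obtain ⟨n, hn⟩ := hN.exists_card_eq
  have hn0 : n ≠ 0 := by
    rintro rfl
    rw [pow_zero] at hn
    have := Finite.one_lt_card (α := N)
    omega
  rw [hn]
  exact dvd_pow_self p hn0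

theorem pRankLE_zero_bot {X : Type*} [Group X] (p : ℕ) : PRankLE p 0 (⊥ : Subgroup X) := by
  intro A _ _
  rw [pow_zero]
  have : Subsingleton (⊥ : Subgroup X) := inferInstance
  have : Subsingleton A := inferInstance
  rw [Nat.card_unique]

/-- the conjugation `conjAut P g` is inner iff (for `g` outside `P·C(P)`) ... one direction -/
theorem notMem_inn_of_centric {P : Subgroup Ω} (hPS : P ≤ S) (hC : centralizerIn S P ≤ P) {g : Ω}
    (hgS : g ∈ S) (hgP : g ∉ P) (hg : g ∈ Subgroup.normalizer (P : Set Ω)) :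
    conjAut P g hg ∉ Inn P := by
  rintro ⟨x, hx⟩
  apply hgP
  have hmem : (x : Ω)⁻¹ * g ∈ centralizerIn S P := by
    refine ⟨S.mul_mem (S.inv_mem (hPS x.2)) hgS, ?_⟩
    intro y hy
    have h1 : ((MulAut.conj x ⟨y, hy⟩ : P) : Ω) = ((conjAut P g hg ⟨y, hy⟩ : P) : Ω) := by rw [hx]
    rw [conjAut_apply, MulAut.conj_apply] at h1
    simp only [Subgroup.coe_mul, Subgroup.coe_inv] at h1
    calc y * ((x : Ω)⁻¹ * g) = (x : Ω)⁻¹ * ((x : Ω) * y * (x : Ω)⁻¹) * g := by group
      _ = (x : Ω)⁻¹ * (g * y * g⁻¹) * g := by rw [h1]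
      _ = (x : Ω)⁻¹ * g * y := by group
  have := P.mul_mem x.2 (hC hmem)
  rwa [mul_inv_cancel_left] at this


theorem inn_subgroupOf_le_autInducedBy_subgroupOf (F : FusionSystem S) {P : Subgroup Ω} (hPS : P ≤ S) :
    (Inn P).subgroupOf (F.autGroup P) ≤ (autInducedBy S P).subgroupOf (F.autGroup P) := by
  intro a ha
  exact Subgroup.mem_subgroupOf.mpr (Cfsg.Agent.S5080.inn_le_autInducedBy hPS (Subgroup.mem_subgroupOf.mp ha))

theorem mem_map_mk_of_conj_mem (F : FusionSystem S) {P : Subgroup Ω} (hPr : F.IsReceptive P)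
    [hn : ((Inn P).subgroupOf (F.autGroup P)).Normal]
    (ξ d : F.autGroup P ⧸ (Inn P).subgroupOf (F.autGroup P))
    (hd : d ∈ ((autInducedBy S P).subgroupOf (F.autGroup P)).map
      (QuotientGroup.mk' ((Inn P).subgroupOf (F.autGroup P))))
    (hd1 : d ≠ 1)
    (hξ : ξ * d * ξ⁻¹ ∈ ((autInducedBy S P).subgroupOf (F.autGroup P)).map
      (QuotientGroup.mk' ((Inn P).subgroupOf (F.autGroup P)))) :
    ξ ∈ ((Subgroup.closure (extGen F P)).subgroupOf (F.autGroup P)).map
      (QuotientGroup.mk' ((Inn P).subgroupOf (F.autGroup P))) := by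
  have hPS : P ≤ S := hPr.1
  obtain ⟨α, rfl⟩ := QuotientGroup.mk'_surjective _ ξ
  obtain ⟨δ, hδ, rfl⟩ := hd
  obtain ⟨δ', hδ', hδ'eq⟩ := hξ
  obtain ⟨g, hgS, hg, hδg⟩ := mem_autInducedBy_iff'.mp (Subgroup.mem_subgroupOf.mp hδ)
  have hgP : g ∉ P := by
    intro hgP
    apply hd1
    rw [QuotientGroup.mk'_apply, QuotientGroup.eq_one_iff, Subgroup.mem_subgroupOf, hδg]
    refine ⟨⟨g, hgP⟩, ?_⟩
    ext y
    rfl
  have h1 : α * δ * α⁻¹ ∈ (autInducedBy S P).subgroupOf (F.autGroup P) := by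
    have h2 : (QuotientGroup.mk' ((Inn P).subgroupOf (F.autGroup P))) δ' =
        (QuotientGroup.mk' ((Inn P).subgroupOf (F.autGroup P))) (α * δ * α⁻¹) := by
      rw [hδ'eq, map_mul, map_mul, map_inv]
    rw [QuotientGroup.mk'_apply, QuotientGroup.mk'_apply, QuotientGroup.eq] at h2
    have h3 := inn_subgroupOf_le_autInducedBy_subgroupOf F hPS h2
    have h4 := Subgroup.mul_mem _ hδ' h3
    rwa [mul_inv_cancel_left] at h4
  have h5 : (α : MulAut P) * conjAut P g hg * (α : MulAut P)⁻¹ ∈ autInducedBy S P := by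
    have := Subgroup.mem_subgroupOf.mp h1
    rw [← hδg]
    exact this
  have h6 : (α : MulAut P) ∈ extGen F P := mem_extGen_of_receptive F hPr α.2 hgS hgP hg h5
  exact ⟨α, Subgroup.mem_subgroupOf.mpr (Subgroup.subset_closure h6), rfl⟩

/-- Lemma F -/
theorem kGeneratedCore_le_map_closure_extGen (F : FusionSystem S) {P : Subgroup Ω}
    (hPr : F.IsReceptive P) (p : ℕ)
    [hn : ((Inn P).subgroupOf (F.autGroup P)).Normal] :
    kGeneratedCore p 1 (((autInducedBy S P).subgroupOf (F.autGroup P)).map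
      (QuotientGroup.mk' ((Inn P).subgroupOf (F.autGroup P)))) ≤
    ((Subgroup.closure (extGen F P)).subgroupOf (F.autGroup P)).map
      (QuotientGroup.mk' ((Inn P).subgroupOf (F.autGroup P))) := by
  refine iSup_le ?_
  rintro ⟨Q, hQT, hQr⟩
  intro ξ hξ
  have hQne : Q ≠ ⊥ := by
    rintro rfl
    exact hQr (pRankLE_zero_bot p)
  obtain ⟨d, hdQ, hd1⟩ := (Subgroup.bot_or_exists_ne_one Q).resolve_left hQne
  have h1 : ξ * d * ξ⁻¹ ∈ Q := (Subgroup.mem_normalizer_iff.mp hξ d).mp hdQ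
  exact mem_map_mk_of_conj_mem F hPr ξ d (hQT hdQ) hd1 (hQT h1)

/-- the image of `Aut_S(P)` in `Out_F(P)` is nontrivial for `P < S` centric -/
theorem map_autInducedBy_ne_bot [Finite S] {p : ℕ} [Fact p.Prime] (hS : IsPGroup p S)
    (F : FusionSystem S) {P : Subgroup Ω} (hPS : P ≤ S) (hne : P ≠ S) (hC : centralizerIn S P ≤ P)
    [hn : ((Inn P).subgroupOf (F.autGroup P)).Normal] :
    ((autInducedBy S P).subgroupOf (F.autGroup P)).map
      (QuotientGroup.mk' ((Inn P).subgroupOf (F.autGroup P))) ≠ ⊥ := by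
  obtain ⟨g, hgS, hgP, hgN⟩ := exists_normalizing_of_lt hS hPS hne
  intro hbot
  have hmem : conjAut P g hgN ∈ F.autGroup P :=
    autInducedBy_le_autGroup F hPS (conjAut_mem_autInducedBy hgS hgN)
  have h1 : (QuotientGroup.mk' ((Inn P).subgroupOf (F.autGroup P))) ⟨conjAut P g hgN, hmem⟩ ∈
      ((autInducedBy S P).subgroupOf (F.autGroup P)).map
      (QuotientGroup.mk' ((Inn P).subgroupOf (F.autGroup P))) :=
    ⟨_, Subgroup.mem_subgroupOf.mpr (conjAut_mem_autInducedBy hgS hgN), rfl⟩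
  rw [hbot, Subgroup.mem_bot, QuotientGroup.mk'_apply, QuotientGroup.eq_one_iff,
    Subgroup.mem_subgroupOf] at h1
  exact notMem_inn_of_centric hPS hC hgS hgP hgN h1

/-- if the image of `H` in `Out_F(P)` is everything, then `H = Aut_F(P)` -/
theorem autGroup_le_closure_extGen_of_map_eq_top [Finite S] {p : ℕ} [Fact p.Prime]
    (hS : IsPGroup p S) (F : FusionSystem S) {P : Subgroup Ω} (hPS : P ≤ S) (hne : P ≠ S)
    [hn : ((Inn P).subgroupOf (F.autGroup P)).Normal]
    (htop : ((Subgroup.closure (extGen F P)).subgroupOf (F.autGroup P)).map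
      (QuotientGroup.mk' ((Inn P).subgroupOf (F.autGroup P))) = ⊤) :
    F.autGroup P ≤ Subgroup.closure (extGen F P) := by
  intro α hα
  have h1 : (QuotientGroup.mk' ((Inn P).subgroupOf (F.autGroup P))) ⟨α, hα⟩ ∈
      ((Subgroup.closure (extGen F P)).subgroupOf (F.autGroup P)).map
      (QuotientGroup.mk' ((Inn P).subgroupOf (F.autGroup P))) := by
    rw [htop]
    exact Subgroup.mem_top _
  obtain ⟨β, hβ, hβeq⟩ := h1
  rw [QuotientGroup.mk'_apply, QuotientGroup.mk'_apply, QuotientGroup.eq] at hβeq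
  have h2 := inn_subgroupOf_le_autInducedBy_subgroupOf F hPS hβeq
  have h3 : (β⁻¹ * ⟨α, hα⟩ : F.autGroup P) ∈
      (Subgroup.closure (extGen F P)).subgroupOf (F.autGroup P) :=
    Subgroup.mem_subgroupOf.mpr
      (autInducedBy_le_closure_extGen hS F hPS hne (Subgroup.mem_subgroupOf.mp h2))
  have h4 := Subgroup.mul_mem _ hβ h3
  rw [mul_inv_cancel_left] at h4
  exact Subgroup.mem_subgroupOf.mp h4

/-- Key lemma: for `P < S` fully normalized and not essential, `Aut_F(P)` is generated by the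
automorphisms extending to strictly larger subgroups. -/
theorem autGroup_le_closure_extGen [Finite S] {p : ℕ} [Fact p.Prime] (hS : IsPGroup p S)
    (F : FusionSystem S) (hF : F.IsSaturated p) {P : Subgroup Ω} (hPn : F.IsFullyNormalized P)
    (hne : P ≠ S) (hess : ¬ F.IsEssential p P) :
    F.autGroup P ≤ Subgroup.closure (extGen F P) := by
  obtain ⟨hPc, hPa, hPr⟩ := saturated_fullyNormalized hS F hF hPn
  have hPS : P ≤ S := hPn.1
  by_cases hcen : F.IsCentric P
  · have hn : ((Inn P).subgroupOf (F.autGroup P)).Normal := inn_subgroupOf_normal P (F.autGroup P)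
    have hfinP : Finite P := finite_of_le hPS
    obtain ⟨R, hR⟩ := hPa.2
    have hcore := kGeneratedCore_le_map_closure_extGen F hPr p
    have hTne := map_autInducedBy_ne_bot hS F hPS hne (hcen.2 P (isConj_refl F hPS))
    have hTp : IsPGroup p ↥(((autInducedBy S P).subgroupOf (F.autGroup P)).map
      (QuotientGroup.mk' ((Inn P).subgroupOf (F.autGroup P)))) :=
      ((isPGroup_autInducedBy hS P).comap_subtype).map _
    have hdvd : p ∣ Nat.card (F.autGroup P ⧸ (Inn P).subgroupOf (F.autGroup P)) :=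
      (dvd_card_of_isPGroup_of_ne_bot _ hTp hTne).trans (Subgroup.card_subgroup_dvd_card _)
    by_contra hnot
    apply hess
    refine ⟨hcen, hPn, hn, ((Subgroup.closure (extGen F P)).subgroupOf (F.autGroup P)).map
      (QuotientGroup.mk' ((Inn P).subgroupOf (F.autGroup P))), hdvd, ?_,
      R.mapSurjective (QuotientGroup.mk'_surjective _), ?_⟩
    · intro htop
      exact hnot (autGroup_le_closure_extGen_of_map_eq_top hS F hPS hne htop)
    · rw [Sylow.coe_mapSurjective, hR]
      exact hcore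
  · exact (autGroup_subset_extGen_of_not_centric F hPc hPr hcen).trans Subgroup.subset_closure

end Cfsg.Agent.Lib.Helper26
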