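import Cfsg.Agent.Lib.Helper26.FusionAlperin2
import Cfsg.Agent.S5082
import Cfsg.Agent.Lib.Helper26.FusionNC

set_option autoImplicit false

namespace Cfsg.Agent.Lib.Helper26

open Cfsg Cfsg.FusionSystem

variable {Ω : Type*} [Group Ω] {S : Subgroup Ω}

/-- transport a fusion system along an equality of the underlying subgroups -/
def castSystem {T S : Subgroup Ω} (h : T = S) (E : FusionSystem T) : FusionSystem S := h ▸ E

theorem castSystem_Hom {T S : Subgroup Ω} (h : T = S) (E : FusionSystem T) (P : Subgroup Ω) :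
    (castSystem h E).Hom P = E.Hom P := by
  subst h
  rfl

/-- a normal subgroup is invariant under `Aut_F(P)` for `Q ≤ P`: one inclusion -/
theorem isNormal_apply_mem {F : FusionSystem S} {Q : Subgroup Ω} (hQ : F.IsNormal Q)
    {P : Subgroup Ω} (hPS : P ≤ S) {α : MulAut P} (hα : α ∈ F.autGroup P) (x : P)
    (hx : (x : Ω) ∈ Q) : ((α x : P) : Ω) ∈ Q := by
  have hφ : P.subtype.comp α.toMonoidHom ∈ F.Hom P := (mem_autGroup_iff F hPS).mp hα
  obtain ⟨ψ, -, hψφ, hψQ⟩ := hQ.2 P _ hφ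
  have h1 : ψ (Subgroup.inclusion le_sup_right ⟨(x : Ω), hx⟩) ∈ Q :=
    hψQ.le ((map_subgroupOf_sup_eq ψ).mpr ⟨⟨x, hx⟩, rfl⟩)
  have h2 : Subgroup.inclusion (le_sup_right : Q ≤ P ⊔ Q) ⟨(x : Ω), hx⟩ =
      Subgroup.inclusion (le_sup_left : P ≤ P ⊔ Q) x := Subtype.ext rfl
  rw [h2, hψφ] at h1
  exact h1

theorem isNormal_map_eq [Finite S] {F : FusionSystem S} {Q : Subgroup Ω} (hQ : F.IsNormal Q)
    {P : Subgroup Ω} (hPS : P ≤ S) {α : MulAut P} (hα : α ∈ F.autGroup P) :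
    (Q.subgroupOf P).map α.toMonoidHom = Q.subgroupOf P := by
  have hfinP : Finite P := finite_of_le hPS
  apply Subgroup.eq_of_le_of_card_ge
  · rintro _ ⟨x, hx, rfl⟩
    exact Subgroup.mem_subgroupOf.mpr (isNormal_apply_mem hQ hPS hα x (Subgroup.mem_subgroupOf.mp hx))
  · rw [Subgroup.card_map_of_injective α.injective]

theorem isNormal_le_normalizer {F : FusionSystem S} {Q : Subgroup Ω} (hQ : F.IsNormal Q) :
    S ≤ Subgroup.normalizer (Q : Set Ω) := by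
  intro g hg
  have key : ∀ k ∈ S, ∀ y ∈ Q, k * y * k⁻¹ ∈ Q := by
    intro k hk y hy
    have hmem : k ∈ Subgroup.normalizer ((S : Subgroup Ω) : Set Ω) := Subgroup.le_normalizer hk
    have := isNormal_apply_mem hQ le_rfl
      (autInducedBy_le_autGroup F le_rfl (conjAut_mem_autInducedBy hk hmem)) ⟨y, hQ.1 hy⟩ hy
    exact this
  refine mem_normalizer_of_forall (key g hg) (fun y hy => ?_)
  have := key g⁻¹ (S.inv_mem hg) y hy
  rwa [inv_inv] at this

/-- if `ψ` on `P ⊔ Q` extends the automorphism `α` of `P`, then `α c_g α⁻¹ = c_{ψ(g)}` -/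
theorem conj_formula_of_extension {P Q : Subgroup Ω} {α : MulAut P} {ψ : ↥(P ⊔ Q) →* Ω}
    (hψ : ∀ x : P, ψ (Subgroup.inclusion le_sup_left x) = ((α x : P) : Ω))
    {g : Ω} (hgL : g ∈ P ⊔ Q) (hgN : g ∈ Subgroup.normalizer (P : Set Ω)) (y : P) :
    (((α * conjAut P g hgN * α⁻¹) y : P) : Ω) = ψ ⟨g, hgL⟩ * (y : Ω) * (ψ ⟨g, hgL⟩)⁻¹ := by
  rw [MulAut.mul_apply, MulAut.mul_apply, ← hψ]
  have e : Subgroup.inclusion (le_sup_left : P ≤ P ⊔ Q) (conjAut P g hgN (α⁻¹ y)) =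
      ⟨g, hgL⟩ * Subgroup.inclusion (le_sup_left : P ≤ P ⊔ Q) (α⁻¹ y) * ⟨g, hgL⟩⁻¹ := by
    apply Subtype.ext
    rfl
  rw [e, map_mul, map_mul, map_inv, hψ, MulAut.apply_inv_self]

theorem isNormal_le_of_centric_radical [Finite S] {p : ℕ} [Fact p.Prime] (hS : IsPGroup p S)
    {F : FusionSystem S} {Q : Subgroup Ω} (hQ : F.IsNormal Q) {P : Subgroup Ω} (hPS : P ≤ S)
    (hC : centralizerIn S P ≤ P) (hPr : F.IsRadical p P) : Q ≤ P := by
  have hPQS : P ⊔ Q ≤ S := sup_le hPS hQ.1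
  have hNS : (P ⊔ Q) ⊓ Subgroup.normalizer (P : Set Ω) ≤ S := inf_le_left.trans hPQS
  have hBS : autInducedBy ((P ⊔ Q) ⊓ Subgroup.normalizer (P : Set Ω)) P ≤ autInducedBy S P :=
    autInducedBy_mono hNS P
  have hnorm : ((autInducedBy ((P ⊔ Q) ⊓ Subgroup.normalizer (P : Set Ω)) P).subgroupOf
      (F.autGroup P)).Normal := by
    constructor
    intro b hb a
    obtain ⟨g, hgN, hg, hbg⟩ := mem_autInducedBy_iff'.mp (Subgroup.mem_subgroupOf.mp hb)
    have hφ : P.subtype.comp (a : MulAut P).toMonoidHom ∈ F.Hom P :=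
      (mem_autGroup_iff F hPS).mp a.2
    obtain ⟨ψ, hψ, hψφ, hψQ⟩ := hQ.2 P _ hφ
    have hform := fun y => conj_formula_of_extension (α := (a : MulAut P)) hψφ hgN.1 hg y
    have hrange : ψ.range = P ⊔ Q := by
      rw [range_ext_eq hψφ hψQ, range_subtype_comp_equiv]
    have hg'L : ψ ⟨g, hgN.1⟩ ∈ P ⊔ Q := hrange.le ⟨_, rfl⟩
    have hg'N : ψ ⟨g, hgN.1⟩ ∈ Subgroup.normalizer (P : Set Ω) := mem_normalizer_of_conj_aut hform
    rw [Subgroup.mem_subgroupOf]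
    refine mem_autInducedBy_iff.mpr ⟨ψ ⟨g, hgN.1⟩, ⟨hg'L, hg'N⟩, fun y => ?_⟩
    rw [← hform y]
    show (((a * b * a⁻¹ : F.autGroup P) : MulAut P) y : Ω) = _
    rw [Subgroup.coe_mul, Subgroup.coe_mul, Subgroup.coe_inv, hbg]
  have hBp : IsPGroup p ((autInducedBy ((P ⊔ Q) ⊓ Subgroup.normalizer (P : Set Ω)) P).subgroupOf
      (F.autGroup P)) :=
    ((isPGroup_autInducedBy hS P).to_le hBS).comap_subtype
  have hBcore := Helper1.le_pCore hnorm hBp
  have hBinn : autInducedBy ((P ⊔ Q) ⊓ Subgroup.normalizer (P : Set Ω)) P ≤ Inn P := by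
    rw [← hPr.2]
    intro b hb
    have hbA : b ∈ F.autGroup P := autInducedBy_le_autGroup F hPS (hBS hb)
    exact ⟨⟨b, hbA⟩, hBcore (Subgroup.mem_subgroupOf.mpr hb), rfl⟩
  have hNP : (P ⊔ Q) ⊓ Subgroup.normalizer (P : Set Ω) ≤ P := by
    intro g hg
    by_contra hgP
    exact notMem_inn_of_centric hPS hC (hNS hg) hgP hg.2
      (hBinn (conjAut_mem_autInducedBy hg hg.2))
  have hfin : Finite ↥(P ⊔ Q) := finite_of_le hPQS
  have heq : P = P ⊔ Q := by
    by_contra hne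
    obtain ⟨x, hxL, hxP, hxN⟩ := exists_normalizing_of_lt (hS.to_le hPQS) le_sup_left hne
    exact hxP (hNP ⟨hxL, hxN⟩)
  rw [heq]
  exact le_sup_right

theorem isNormal_of_forall_essential [Finite S] {p : ℕ} [Fact p.Prime] (hS : IsPGroup p S)
    (F : FusionSystem S) (hF : F.IsSaturated p) (Q : Subgroup Ω)
    (h : ∀ P : Subgroup Ω, (P = S ∨ F.IsEssential p P) →
      (Q ≤ P ∧ ∀ α ∈ F.autGroup P, (Q.subgroupOf P).map α.toMonoidHom = Q.subgroupOf P)) :
    F.IsNormal Q := by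
  have hQS : Q ≤ S := (h S (Or.inl rfl)).1
  have key : ∀ k ∈ S, ∀ y ∈ Q, k * y * k⁻¹ ∈ Q := by
    intro k hk y hy
    have hmem : k ∈ Subgroup.normalizer ((S : Subgroup Ω) : Set Ω) := Subgroup.le_normalizer hk
    have hα := autInducedBy_le_autGroup F le_rfl (conjAut_mem_autInducedBy hk hmem)
    have h1 := (h S (Or.inl rfl)).2 _ hα
    have h2 : (conjAut S k hmem) ⟨y, hQS hy⟩ ∈ (Q.subgroupOf S).map (conjAut S k hmem).toMonoidHom :=
      ⟨_, Subgroup.mem_subgroupOf.mpr hy, rfl⟩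
    rw [h1] at h2
    exact Subgroup.mem_subgroupOf.mp h2
  have hSN : S ≤ Subgroup.normalizer (Q : Set Ω) := by
    intro g hg
    refine mem_normalizer_of_forall (key g hg) (fun y hy => ?_)
    have := key g⁻¹ (S.inv_mem hg) y hy
    rwa [inv_inv] at this
  have hNeq : normalizerIn S Q = S := inf_eq_left.mpr hSN
  have hE : ∀ P, (castSystem hNeq (normalizerSystem F Q hQS)).Hom P = F.normalizerHom Q P :=
    fun P => castSystem_Hom hNeq _ P
  have hle : F ≤ castSystem hNeq (normalizerSystem F Q hQS) := by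
    refine Cfsg.Agent.S5082.result p hS F hF _ ?_
    intro P hP α hα
    obtain ⟨hQP, hinv⟩ := h P hP
    have hPS : P ≤ S := by
      rcases hP with rfl | hess
      · exact le_rfl
      · exact hess.2.1.1
    rw [mem_autGroup_iff _ hPS, hE]
    have hφ : P.subtype.comp α.toMonoidHom ∈ F.Hom P := (mem_autGroup_iff F hPS).mp hα
    refine ⟨hφ, hPS.trans hNeq.ge, fun x => hNeq.ge (hPS (α x).2),
      (P.subtype.comp α.toMonoidHom).comp (Subgroup.inclusion (sup_le le_rfl hQP : P ⊔ Q ≤ P)),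
      restrict_mem F hφ _, fun x => rfl, ?_⟩
    ext z
    rw [map_subgroupOf_sup_eq]
    constructor
    · rintro ⟨q, rfl⟩
      have h2 : α ⟨q, hQP q.2⟩ ∈ (Q.subgroupOf P).map α.toMonoidHom :=
        ⟨_, Subgroup.mem_subgroupOf.mpr q.2, rfl⟩
      rw [hinv α hα] at h2
      exact Subgroup.mem_subgroupOf.mp h2
    · intro hz
      have h2 : (⟨z, hQP hz⟩ : P) ∈ Q.subgroupOf P := Subgroup.mem_subgroupOf.mpr hz
      rw [← hinv α hα] at h2
      obtain ⟨y, hy, hyz⟩ := h2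
      refine ⟨⟨y, Subgroup.mem_subgroupOf.mp hy⟩, ?_⟩
      exact congrArg Subtype.val hyz
  refine ⟨hQS, fun P φ hφ => ?_⟩
  have hφE := hle P hφ
  rw [hE] at hφE
  obtain ⟨-, -, -, ψ, hψ, h1, h2⟩ := hφE
  exact ⟨ψ, hψ, h1, h2⟩

end Cfsg.Agent.Lib.Helper26
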