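import Cfsg.Agent.Lib.Helper26.FusionSeries
import Cfsg.Agent.S5086

set_option autoImplicit false

namespace Cfsg.Agent.Lib.Helper26

open Cfsg Cfsg.FusionSystem

variable {Ω : Type*} [Group Ω] {S : Subgroup Ω}

/-- automorphisms `β` of `P` stabilizing `P ∩ M` and acting trivially on it modulo `N` -/
def linkStab (P N M : Subgroup Ω) : Subgroup (MulAut P) where
  carrier := {β | ∀ x : P, (x : Ω) ∈ M →
    (((β x : P) : Ω) ∈ M ∧ ((β⁻¹ x : P) : Ω) ∈ M) ∧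
    ((x : Ω)⁻¹ * ((β x : P) : Ω) ∈ N ∧ (x : Ω)⁻¹ * ((β⁻¹ x : P) : Ω) ∈ N)}
  one_mem' := by
    intro x hx
    refine ⟨⟨hx, ?_⟩, ?_, ?_⟩
    · rw [inv_one]; exact hx
    · simp
    · simp
  mul_mem' := by
    intro β γ hβ hγ x hx
    obtain ⟨⟨h1, h2⟩, h3, h4⟩ := hγ x hx
    obtain ⟨⟨h5, -⟩, h7, -⟩ := hβ _ h1
    obtain ⟨⟨-, h2'⟩, -, h4'⟩ := hβ x hx
    obtain ⟨⟨-, h6'⟩, -, h8'⟩ := hγ _ h2'
    refine ⟨⟨h5, ?_⟩, ?_, ?_⟩
    · rw [mul_inv_rev]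
      exact h6'
    · have e : (x : Ω)⁻¹ * (((β * γ) x : P) : Ω) =
          ((x : Ω)⁻¹ * ((γ x : P) : Ω)) * (((γ x : P) : Ω)⁻¹ * ((β (γ x) : P) : Ω)) := by
        rw [MulAut.mul_apply]; group
      rw [e]
      exact N.mul_mem h3 h7
    · have e : (x : Ω)⁻¹ * ((((β * γ)⁻¹) x : P) : Ω) =
          ((x : Ω)⁻¹ * ((β⁻¹ x : P) : Ω)) * (((β⁻¹ x : P) : Ω)⁻¹ * ((γ⁻¹ (β⁻¹ x) : P) : Ω)) := by
        rw [mul_inv_rev, MulAut.mul_apply]; group
      rw [e]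
      exact N.mul_mem h4' h8'
  inv_mem' := by
    intro β hβ x hx
    obtain ⟨⟨h1, h2⟩, h3, h4⟩ := hβ x hx
    refine ⟨⟨h2, ?_⟩, h4, ?_⟩
    · rw [inv_inv]; exact h1
    · rw [inv_inv]; exact h3

theorem mem_linkStab_iff {P N M : Subgroup Ω} {β : MulAut P} :
    β ∈ linkStab P N M ↔ ∀ x : P, (x : Ω) ∈ M →
    (((β x : P) : Ω) ∈ M ∧ ((β⁻¹ x : P) : Ω) ∈ M) ∧
    ((x : Ω)⁻¹ * ((β x : P) : Ω) ∈ N ∧ (x : Ω)⁻¹ * ((β⁻¹ x : P) : Ω) ∈ N) := Iff.rfl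

/-- `M` is invariant under the group `A` of automorphisms of `P` -/
def AutInvariant {P : Subgroup Ω} (A : Subgroup (MulAut P)) (M : Subgroup Ω) : Prop :=
  ∀ α ∈ A, ∀ x : P, (x : Ω) ∈ M → ((α x : P) : Ω) ∈ M

theorem linkStab_subgroupOf_normal {P N M : Subgroup Ω} (A : Subgroup (MulAut P))
    (hN : AutInvariant A N) (hM : AutInvariant A M) : ((linkStab P N M).subgroupOf A).Normal := by
  constructor
  intro b hb a
  rw [Subgroup.mem_subgroupOf] at hb ⊢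
  have key : ∀ (α : MulAut P), α ∈ A → ∀ x : P, (x : Ω) ∈ M →
      (((α * (b : MulAut P) * α⁻¹) x : P) : Ω) ∈ M ∧
      (x : Ω)⁻¹ * (((α * (b : MulAut P) * α⁻¹) x : P) : Ω) ∈ N := by
    intro α hα x hx
    have h1 : ((α⁻¹ x : P) : Ω) ∈ M := hM α⁻¹ (A.inv_mem hα) x hx
    obtain ⟨⟨h2, -⟩, h3, -⟩ := hb _ h1
    refine ⟨hM α hα _ h2, ?_⟩
    have h4 := hN α hα ((α⁻¹ x)⁻¹ * (b : MulAut P) (α⁻¹ x)) h3
    rw [map_mul, map_inv, MulAut.apply_inv_self] at h4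
    exact h4
  have key' : ∀ (α : MulAut P), α ∈ A → ∀ x : P, (x : Ω) ∈ M →
      (((α * (b : MulAut P)⁻¹ * α⁻¹) x : P) : Ω) ∈ M ∧
      (x : Ω)⁻¹ * (((α * (b : MulAut P)⁻¹ * α⁻¹) x : P) : Ω) ∈ N := by
    intro α hα x hx
    have h1 : ((α⁻¹ x : P) : Ω) ∈ M := hM α⁻¹ (A.inv_mem hα) x hx
    obtain ⟨⟨-, h2⟩, -, h3⟩ := hb _ h1
    refine ⟨hM α hα _ h2, ?_⟩
    have h4 := hN α hα ((α⁻¹ x)⁻¹ * (b : MulAut P)⁻¹ (α⁻¹ x)) h3
    rw [map_mul, map_inv, MulAut.apply_inv_self] at h4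
    exact h4
  intro x hx
  have e1 : ((a * b * a⁻¹ : A) : MulAut P) = (a : MulAut P) * (b : MulAut P) * (a : MulAut P)⁻¹ := rfl
  have e2 : ((a * b * a⁻¹ : A) : MulAut P)⁻¹ =
      (a : MulAut P) * (b : MulAut P)⁻¹ * (a : MulAut P)⁻¹ := by
    rw [e1]; group
  obtain ⟨h1, h2⟩ := key a a.2 x hx
  obtain ⟨h3, h4⟩ := key' a a.2 x hx
  rw [e2, e1]
  exact ⟨⟨h1, h3⟩, h2, h4⟩

theorem autInvariant_of_stronglyClosed (F : FusionSystem S) {Q : Subgroup Ω}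
    (hQ : F.StronglyClosed Q) {P : Subgroup Ω} (hPS : P ≤ S) : AutInvariant (F.autGroup P) Q := by
  intro α hα x hx
  have hφ : P.subtype.comp α.toMonoidHom ∈ F.Hom P := (mem_autGroup_iff F hPS).mp hα
  exact hQ.2 (P ⊓ Q) inf_le_right _ (restrict_mem F hφ inf_le_left) ⟨x, x.2, hx⟩

theorem autInvariant_self {P : Subgroup Ω} (A : Subgroup (MulAut P)) : AutInvariant A P :=
  fun α _ x _ => (α x).2

theorem le_normalizer_of_stronglyClosed (F : FusionSystem S) {Q : Subgroup Ω}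
    (hQ : F.StronglyClosed Q) : S ≤ Subgroup.normalizer (Q : Set Ω) := by
  have key : ∀ k ∈ S, ∀ y ∈ Q, k * y * k⁻¹ ∈ Q := by
    intro k hk y hy
    exact hQ.2 Q le_rfl _ (F.conj_mem hQ.1 hk) ⟨y, hy⟩
  intro g hg
  refine mem_normalizer_of_forall (key g hg) (fun y hy => ?_)
  have := key g⁻¹ (S.inv_mem hg) y hy
  rwa [inv_inv] at this

/-- General scheme: a strongly closed `Q` with `Aut_Q(P) ≤ O_p(Aut_F(P))` for all essential `P`
is normal in `F`. -/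
theorem isNormal_of_stronglyClosed_of_le_pCore [Finite S] {p : ℕ} [Fact p.Prime]
    (hS : IsPGroup p S) (F : FusionSystem S) (hF : F.IsSaturated p) {Q : Subgroup Ω}
    (hQ : F.StronglyClosed Q)
    (h : ∀ P : Subgroup Ω, F.IsEssential p P →
      (autInducedBy (Q ⊓ Subgroup.normalizer (P : Set Ω)) P).subgroupOf (F.autGroup P) ≤
        pCore p (F.autGroup P)) : F.IsNormal Q := by
  have hQn := le_normalizer_of_stronglyClosed F hQ
  refine isNormal_of_forall_essential hS F hF Q (fun P hP => ?_)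
  rcases hP with rfl | hess
  · exact ⟨hQ.1, fun α hα => Cfsg.Agent.S5086.map_eq_of_stronglyClosed F hQ le_rfl hQ.1 hα⟩
  · have hPS : P ≤ S := hess.2.1.1
    have hrad := Cfsg.Agent.S5080.result p hS F hF P hess
    have hC : centralizerIn S P ≤ P := hess.1.2 P (isConj_refl F hPS)
    have hNS : Q ⊓ Subgroup.normalizer (P : Set Ω) ≤ S := inf_le_left.trans hQ.1
    have hBinn : autInducedBy (Q ⊓ Subgroup.normalizer (P : Set Ω)) P ≤ Inn P := by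
      rw [← hrad.2]
      intro b hb
      have hbA : b ∈ F.autGroup P :=
        autInducedBy_le_autGroup F hPS (autInducedBy_mono hNS P hb)
      exact ⟨⟨b, hbA⟩, h P hess (Subgroup.mem_subgroupOf.mpr hb), rfl⟩
    have hNP : Q ⊓ Subgroup.normalizer (P : Set Ω) ≤ P := by
      intro g hg
      by_contra hgP
      exact notMem_inn_of_centric hPS hC (hNS hg) hgP hg.2
        (hBinn (conjAut_mem_autInducedBy hg hg.2))
    have hQP : Q ≤ P := le_of_inf_normalizer_le hS hPS hQ.1 hQn hNP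
    exact ⟨hQP, fun α hα => Cfsg.Agent.S5086.map_eq_of_stronglyClosed F hQ hPS hQP hα⟩

end Cfsg.Agent.Lib.Helper26
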