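import Cfsg.Agent.Lib.Helper26.GoodSystem
import Cfsg.Agent.Lib.Helper26.FusionSeries2

set_option autoImplicit false

namespace Cfsg.Agent.Lib.Helper26

open Cfsg Cfsg.FusionSystem

variable {Ω : Type*} [Group Ω] {S : Subgroup Ω}

/-- `φ` on `P` has an extension to `P ⊔ T` in `F` agreeing with `φ` modulo `T` -/
def ExtMod (F : FusionSystem S) (T P : Subgroup Ω) (φ : P →* Ω) : Prop :=
  ∃ ψ ∈ F.Hom (P ⊔ T), ∀ y : P, (φ y)⁻¹ * ψ (Subgroup.inclusion le_sup_left y) ∈ T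

theorem apply_mem_of_stronglyClosed (F : FusionSystem S) {T : Subgroup Ω} (hT : F.StronglyClosed T)
    {P : Subgroup Ω} {ψ : P →* Ω} (hψ : ψ ∈ F.Hom P) (x : P) (hx : (x : Ω) ∈ T) : ψ x ∈ T := by
  have h := restrict_mem F hψ (inf_le_left : P ⊓ T ≤ P)
  exact hT.2 (P ⊓ T) inf_le_right _ h ⟨x, ⟨x.2, hx⟩⟩

theorem extMod_of_le (F : FusionSystem S) {T P : Subgroup Ω} (hTP : T ≤ P) {φ : P →* Ω}
    (hφ : φ ∈ F.Hom P) : ExtMod F T P φ := by
  have hle : P ⊔ T ≤ P := sup_le le_rfl hTP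
  refine ⟨φ.comp (Subgroup.inclusion hle), restrict_mem F hφ hle, fun y => ?_⟩
  have : (φ.comp (Subgroup.inclusion hle)) (Subgroup.inclusion le_sup_left y) = φ y := rfl
  rw [this, inv_mul_cancel]
  exact T.one_mem

theorem exists_preimage_of_stronglyClosed [Finite S] (F : FusionSystem S) {T : Subgroup Ω}
    (hT : F.StronglyClosed T) {P : Subgroup Ω} {ψ : ↥(P ⊔ T) →* Ω} (hψ : ψ ∈ F.Hom (P ⊔ T))
    (t : T) : ∃ t₀ : T, ψ (Subgroup.inclusion le_sup_right t₀) = (t : Ω) := by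
  have hfinT : Finite T := finite_of_le hT.1
  let f : T → T := fun t₀ => ⟨ψ (Subgroup.inclusion le_sup_right t₀),
    apply_mem_of_stronglyClosed F hT hψ _ t₀.2⟩
  have hinj : Function.Injective f := by
    intro a b hab
    have h1 : ψ (Subgroup.inclusion le_sup_right a) = ψ (Subgroup.inclusion le_sup_right b) :=
      congrArg Subtype.val hab
    have h2 := F.injective_of_mem hψ h1
    exact Subgroup.inclusion_injective _ h2
  obtain ⟨t₀, ht₀⟩ := (Finite.injective_iff_surjective.mp hinj) t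
  exact ⟨t₀, congrArg Subtype.val ht₀⟩

/-- the predicate "extends modulo `T`" cuts out a subsystem -/
def puigPred [Finite S] (F : FusionSystem S) (T : Subgroup Ω) (hT : F.StronglyClosed T) :
    GoodPred F where
  Good P φ := ExtMod F T P φ
  conj := by
    intro P g hP hg
    refine ⟨conjHom (P ⊔ T) g, F.conj_mem (sup_le hP hT.1) hg, fun y => ?_⟩
    have : conjHom (P ⊔ T) g (Subgroup.inclusion le_sup_left y) = conjHom P g y := rfl
    rw [this, inv_mul_cancel]
    exact T.one_mem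
  comp := by
    rintro P Q φ ψ hφ hψ ⟨φ', hφ', hφ'T⟩ ⟨ψ', hψ', hψ'T⟩ h
    have hmaps : ∀ z : ↥(P ⊔ T), φ' z ∈ Q ⊔ T := by
      refine map_sup_mem φ' (Q ⊔ T) (fun x => ?_) (fun t => ?_)
      · have e : φ' (Subgroup.inclusion le_sup_left x) =
            φ x * ((φ x)⁻¹ * φ' (Subgroup.inclusion le_sup_left x)) := by group
        rw [e]
        exact Subgroup.mul_mem _ (Subgroup.mem_sup_left (h x)) (Subgroup.mem_sup_right (hφ'T x))
      · exact Subgroup.mem_sup_right (apply_mem_of_stronglyClosed F hT hφ' _ t.2)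
    refine ⟨ψ'.comp (φ'.codRestrict (Q ⊔ T) hmaps), F.comp_mem hφ' hψ' hmaps, fun y => ?_⟩
    have ht := hφ'T y
    set t : Ω := (φ y)⁻¹ * φ' (Subgroup.inclusion le_sup_left y) with htdef
    have e1 : (φ'.codRestrict (Q ⊔ T) hmaps) (Subgroup.inclusion le_sup_left y) =
        Subgroup.inclusion (le_sup_left : Q ≤ Q ⊔ T) ⟨φ y, h y⟩ *
          Subgroup.inclusion (le_sup_right : T ≤ Q ⊔ T) ⟨t, ht⟩ := by
      apply Subtype.ext
      show φ' (Subgroup.inclusion le_sup_left y) = φ y * t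
      rw [htdef]
      group
    show (ψ ⟨φ y, h y⟩)⁻¹ * ψ' ((φ'.codRestrict (Q ⊔ T) hmaps) (Subgroup.inclusion le_sup_left y)) ∈ T
    rw [e1, map_mul, ← mul_assoc]
    exact T.mul_mem (hψ'T ⟨φ y, h y⟩) (apply_mem_of_stronglyClosed F hT hψ' _ ht)
  inv := by
    rintro P φ hφ ⟨φ', hφ', hφ'T⟩ ψ hψ hψx
    have hrange : φ'.range = φ.range ⊔ T := by
      apply le_antisymm
      · rintro _ ⟨z, rfl⟩
        refine map_sup_mem φ' (φ.range ⊔ T) (fun x => ?_) (fun t => ?_) z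
        · have e : φ' (Subgroup.inclusion le_sup_left x) =
              φ x * ((φ x)⁻¹ * φ' (Subgroup.inclusion le_sup_left x)) := by group
          rw [e]
          exact Subgroup.mul_mem _ (Subgroup.mem_sup_left ⟨x, rfl⟩) (Subgroup.mem_sup_right (hφ'T x))
        · exact Subgroup.mem_sup_right (apply_mem_of_stronglyClosed F hT hφ' _ t.2)
      · have hTle : T ≤ φ'.range := by
          intro t ht
          obtain ⟨t₀, ht₀⟩ := exists_preimage_of_stronglyClosed F hT hφ' ⟨t, ht⟩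
          exact ⟨_, ht₀⟩
        refine sup_le ?_ hTle
        rintro _ ⟨x, rfl⟩
        have e : φ x = φ' (Subgroup.inclusion le_sup_left x) *
            ((φ x)⁻¹ * φ' (Subgroup.inclusion le_sup_left x))⁻¹ := by group
        rw [e]
        exact Subgroup.mul_mem _ ⟨_, rfl⟩ (Subgroup.inv_mem _ (hTle (hφ'T x)))
    obtain ⟨χ, hχ, -, hχ1, -⟩ := exists_inv F hφ' hrange
    refine ⟨χ, hχ, ?_⟩
    rintro ⟨_, x, rfl⟩
    have ht := hφ'T x
    set t : Ω := (φ x)⁻¹ * φ' (Subgroup.inclusion le_sup_left x) with htdef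
    have hmem : φ' (Subgroup.inclusion le_sup_left x) ∈ φ.range ⊔ T := hrange.le ⟨_, rfl⟩
    have e1 : Subgroup.inclusion (le_sup_left : φ.range ≤ φ.range ⊔ T) ⟨φ x, ⟨x, rfl⟩⟩ =
        ⟨φ' (Subgroup.inclusion le_sup_left x), hmem⟩ *
          (Subgroup.inclusion (le_sup_right : T ≤ φ.range ⊔ T) ⟨t, ht⟩)⁻¹ := by
      apply Subtype.ext
      show φ x = φ' (Subgroup.inclusion le_sup_left x) * t⁻¹
      rw [htdef]
      group
    rw [e1, map_mul, map_inv, hχ1, hψx]
    have e2 : ((x : Ω))⁻¹ * (((Subgroup.inclusion (le_sup_left : P ≤ P ⊔ T) x : ↥(P ⊔ T)) : Ω) *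
        (χ (Subgroup.inclusion (le_sup_right : T ≤ φ.range ⊔ T) ⟨t, ht⟩))⁻¹) =
        (χ (Subgroup.inclusion (le_sup_right : T ≤ φ.range ⊔ T) ⟨t, ht⟩))⁻¹ := by
      show ((x : Ω))⁻¹ * ((x : Ω) * _) = _
      group
    rw [e2]
    exact T.inv_mem (apply_mem_of_stronglyClosed F hT hχ _ ht)



/-- automorphisms of `P` acting trivially modulo `T` -/
def trivModSubgroup (T P : Subgroup Ω) : Subgroup (MulAut P) where
  carrier := {α | ∀ x : P, (x : Ω)⁻¹ * ((α x : P) : Ω) ∈ T}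
  one_mem' := by
    intro x
    simp
  mul_mem' := by
    intro a b ha hb x
    have e : (x : Ω)⁻¹ * (((a * b) x : P) : Ω) =
        ((x : Ω)⁻¹ * ((b x : P) : Ω)) * (((b x : P) : Ω)⁻¹ * ((a (b x) : P) : Ω)) := by
      rw [MulAut.mul_apply]
      group
    rw [e]
    exact T.mul_mem (hb x) (ha (b x))
  inv_mem' := by
    intro a ha x
    have h1 := ha (a⁻¹ x)
    rw [MulAut.apply_inv_self] at h1
    have e : (x : Ω)⁻¹ * ((a⁻¹ x : P) : Ω) = (((a⁻¹ x : P) : Ω)⁻¹ * (x : Ω))⁻¹ := by group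
    rw [e]
    exact T.inv_mem h1

theorem mem_trivModSubgroup_iff {T P : Subgroup Ω} {α : MulAut P} :
    α ∈ trivModSubgroup T P ↔ ∀ x : P, (x : Ω)⁻¹ * ((α x : P) : Ω) ∈ T := Iff.rfl

theorem le_normalizer_of_forall_conj_mem {A : Type*} [Group A] {H K : Subgroup A}
    (h : ∀ b ∈ H, ∀ a ∈ K, b * a * b⁻¹ ∈ K) : H ≤ Subgroup.normalizer (K : Set A) := by
  intro b hb
  rw [Subgroup.mem_normalizer_iff]
  intro a
  constructor
  · exact h b hb a
  · intro ha
    have := h b⁻¹ (H.inv_mem hb) _ ha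
    have e : b⁻¹ * (b * a * b⁻¹) * b⁻¹⁻¹ = a := by group
    rwa [e] at this

theorem exists_normalizing_in [Finite S] {p : ℕ} [Fact p.Prime] (hS : IsPGroup p S)
    {T P : Subgroup Ω} (hTS : T ≤ S) (hTn : S ≤ Subgroup.normalizer (T : Set Ω)) (hPS : P ≤ S)
    (hTP : ¬ T ≤ P) : ∃ t ∈ T, t ∉ P ∧ t ∈ Subgroup.normalizer (P : Set Ω) := by
  have hsupS : P ⊔ T ≤ S := sup_le hPS hTS
  have hfin : Finite ↥(P ⊔ T) := finite_of_le hsupS
  have hne : P ≠ P ⊔ T := by
    intro h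
    apply hTP
    rw [h]
    exact le_sup_right
  obtain ⟨g, hg, hgP, hgN⟩ := exists_normalizing_of_lt (hS.to_le hsupS) (le_sup_left : P ≤ P ⊔ T) hne
  have hg' : g ∈ ((P ⊔ T : Subgroup Ω) : Set Ω) := hg
  rw [Subgroup.coe_mul_of_left_le_normalizer_right P T (hPS.trans hTn)] at hg'
  obtain ⟨x, hx, t, ht, rfl⟩ := Set.mem_mul.mp hg'
  refine ⟨t, ht, fun htP => hgP (P.mul_mem hx htP), ?_⟩
  have hxN : x ∈ Subgroup.normalizer (P : Set Ω) := Subgroup.le_normalizer hx
  have : t = x⁻¹ * (x * t) := by group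
  rw [this]
  exact Subgroup.mul_mem _ (Subgroup.inv_mem _ hxN) hgN

/-- Puig's extension lemma: modulo a strongly closed subgroup `T`, every map of a saturated system
extends to `P ⊔ T`. -/
theorem exists_extMod [Finite S] {p : ℕ} [Fact p.Prime] (hS : IsPGroup p S) (F : FusionSystem S)
    (hF : F.IsSaturated p) {T : Subgroup Ω} (hT : F.StronglyClosed T) {P : Subgroup Ω} {φ : P →* Ω}
    (hφ : φ ∈ F.Hom P) : ExtMod F T P φ := by
  have hTn : S ≤ Subgroup.normalizer (T : Set Ω) := le_normalizer_of_stronglyClosed F hT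
  refine (puigPred F T hT).forall_good hS hF ?_ ?_ hφ
  · intro α hα
    exact extMod_of_le F hT.1 ((mem_autGroup_iff F le_rfl).mp hα)
  · intro P hPn hne ih
    have hPS : P ≤ S := hPn.1
    by_cases hTP : T ≤ P
    · intro α hα
      rw [mem_autGroup_iff _ hPS]
      have h1 := (mem_autGroup_iff F hPS).mp hα
      exact ⟨h1, extMod_of_le F hTP h1⟩
    · refine autGroup_le_of_frattini hS F hF _ hPn ih (trivModSubgroup T P ⊓ F.autGroup P)
        inf_le_right ?_ ?_ ?_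
      · apply le_normalizer_of_forall_conj_mem
        rintro β hβ α ⟨hαT, hαF⟩
        refine ⟨fun x => ?_, Subgroup.mul_mem _ (Subgroup.mul_mem _ hβ hαF) (Subgroup.inv_mem _ hβ)⟩
        have h1 := hαT (β⁻¹ x)
        have hβmem := (mem_autGroup_iff F hPS).mp hβ
        have hy : (((β⁻¹ x)⁻¹ * α (β⁻¹ x) : P) : Ω) ∈ T := h1
        have h2 := apply_mem_of_stronglyClosed F hT hβmem _ hy
        have e : (x : Ω)⁻¹ * (((β * α * β⁻¹) x : P) : Ω) =
            (P.subtype.comp β.toMonoidHom) ((β⁻¹ x)⁻¹ * α (β⁻¹ x)) := by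
          simp [MulAut.mul_apply]
        rw [e]
        exact h2
      · rintro α ⟨hαT, hαF⟩
        rw [mem_autGroup_iff _ hPS]
        refine ⟨(mem_autGroup_iff F hPS).mp hαF, (P ⊔ T).subtype,
          subtype_mem F (sup_le hPS hT.1), fun y => ?_⟩
        have h1 := hαT y
        have e : ((P.subtype.comp α.toMonoidHom) y)⁻¹ *
            (P ⊔ T).subtype (Subgroup.inclusion le_sup_left y) =
            ((y : Ω)⁻¹ * ((α y : P) : Ω))⁻¹ := by
          show (((α y : P) : Ω))⁻¹ * (y : Ω) = _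
          group
        rw [e]
        exact T.inv_mem h1
      · obtain ⟨t, ht, htP, htN⟩ := exists_normalizing_in hS hT.1 hTn hPS hTP
        refine ⟨t, hT.1 ht, htP, htN, ⟨fun x => ?_, ?_⟩⟩
        · rw [conjAut_apply]
          have hxN : (x : Ω) ∈ Subgroup.normalizer (T : Set Ω) := hTn (hPS x.2)
          have h1 : (x : Ω)⁻¹ * t * (x : Ω) ∈ T := conj_inv_mem_of_mem_normalizer hxN ⟨t, ht⟩
          have e : (x : Ω)⁻¹ * (t * (x : Ω) * t⁻¹) = ((x : Ω)⁻¹ * t * (x : Ω)) * t⁻¹ := by group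
          rw [e]
          exact T.mul_mem h1 (T.inv_mem ht)
        · exact autInducedBy_le_autGroup F hPS (conjAut_mem_autInducedBy (hT.1 ht) htN)

end Cfsg.Agent.Lib.Helper26
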