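import Cfsg.Agent.S5076
import Cfsg.Agent.Lib.Helper26.FusionSat2

set_option autoImplicit false

namespace Cfsg.Agent.Lib.Helper26

open Cfsg Cfsg.FusionSystem

section Realize

variable {Ω : Type*} [Group Ω] {S : Subgroup Ω} {G : Type*} [Group G]

def imSub (ι : S →* G) (P : Subgroup Ω) : Subgroup G := (P.subgroupOf S).map ι

def preSub (ι : S →* G) (Q : Subgroup G) : Subgroup Ω := (Q.comap ι).map S.subtype

theorem mem_imSub_iff {ι : S →* G} {P : Subgroup Ω} {y : G} :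
    y ∈ imSub ι P ↔ ∃ (x : Ω) (hx : x ∈ S), x ∈ P ∧ ι ⟨x, hx⟩ = y := by
  constructor
  · rintro ⟨s, hs, rfl⟩
    exact ⟨s.1, s.2, hs, rfl⟩
  · rintro ⟨x, hx, hxP, rfl⟩
    exact ⟨⟨x, hx⟩, hxP, rfl⟩

theorem apply_mem_imSub (ι : S →* G) {P : Subgroup Ω} {x : Ω} (hxS : x ∈ S) (hx : x ∈ P) :
    ι ⟨x, hxS⟩ ∈ imSub ι P :=
  mem_imSub_iff.mpr ⟨x, hxS, hx, rfl⟩

theorem mem_preSub_iff {ι : S →* G} {Q : Subgroup G} {x : Ω} :
    x ∈ preSub ι Q ↔ ∃ hx : x ∈ S, ι ⟨x, hx⟩ ∈ Q := by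
  constructor
  · rintro ⟨s, hs, rfl⟩
    exact ⟨s.2, hs⟩
  · rintro ⟨hx, h⟩
    exact ⟨⟨x, hx⟩, h, rfl⟩

theorem preSub_le (ι : S →* G) (Q : Subgroup G) : preSub ι Q ≤ S := by
  intro x hx
  exact (mem_preSub_iff.mp hx).1

theorem imSub_le_range (ι : S →* G) (P : Subgroup Ω) : imSub ι P ≤ ι.range := by
  rintro _ ⟨s, -, rfl⟩
  exact ⟨s, rfl⟩

theorem imSub_mono (ι : S →* G) {P Q : Subgroup Ω} (h : P ≤ Q) : imSub ι P ≤ imSub ι Q := by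
  intro y hy
  obtain ⟨x, hxS, hx, rfl⟩ := mem_imSub_iff.mp hy
  exact apply_mem_imSub ι hxS (h hx)

theorem imSub_preSub {ι : S →* G} {Q : Subgroup G} (hQ : Q ≤ ι.range) :
    imSub ι (preSub ι Q) = Q := by
  ext y
  rw [mem_imSub_iff]
  constructor
  · rintro ⟨x, hxS, hx, rfl⟩
    exact (mem_preSub_iff.mp hx).2
  · intro hy
    obtain ⟨s, rfl⟩ := hQ hy
    exact ⟨s.1, s.2, mem_preSub_iff.mpr ⟨s.2, hy⟩, rfl⟩

theorem preSub_imSub {ι : S →* G} (hinj : Function.Injective ι) {P : Subgroup Ω} (hP : P ≤ S) :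
    preSub ι (imSub ι P) = P := by
  ext x
  rw [mem_preSub_iff]
  constructor
  · rintro ⟨hxS, hx⟩
    obtain ⟨x', hx'S, hx', h⟩ := mem_imSub_iff.mp hx
    have := hinj h
    have h2 : x' = x := congrArg Subtype.val this
    exact h2 ▸ hx'
  · intro hx
    exact ⟨hP hx, apply_mem_imSub ι (hP hx) hx⟩

noncomputable def pullHom {ι : S →* G} (hinj : Function.Injective ι) (P : Subgroup Ω) (hP : P ≤ S)
    (g : G) (h : ∀ x : P, g * ι ⟨x, hP x.2⟩ * g⁻¹ ∈ ι.range) : P →* Ω :=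
  S.subtype.comp ((MonoidHom.ofInjective hinj).symm.toMonoidHom.comp
    (((MulAut.conj g).toMonoidHom.comp (ι.comp (Subgroup.inclusion hP))).codRestrict ι.range h))

theorem pullHom_mem {ι : S →* G} (hinj : Function.Injective ι) (P : Subgroup Ω) (hP : P ≤ S)
    (g : G) (h : ∀ x : P, g * ι ⟨x, hP x.2⟩ * g⁻¹ ∈ ι.range) (x : P) :
    pullHom hinj P hP g h x ∈ S :=
  Subtype.property _

theorem apply_pullHom {ι : S →* G} (hinj : Function.Injective ι) (P : Subgroup Ω) (hP : P ≤ S)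
    (g : G) (h : ∀ x : P, g * ι ⟨x, hP x.2⟩ * g⁻¹ ∈ ι.range) (x : P) :
    ι ⟨pullHom hinj P hP g h x, pullHom_mem hinj P hP g h x⟩ = g * ι ⟨x, hP x.2⟩ * g⁻¹ := by
  have := MonoidHom.apply_ofInjective_symm hinj
    ((((MulAut.conj g).toMonoidHom.comp (ι.comp (Subgroup.inclusion hP))).codRestrict ι.range h) x)
  exact this

theorem pullHom_mem_hom {ι : S →* G} (F : FusionSystem S) (hR : F.IsRealizedBy ι)
    (P : Subgroup Ω) (hP : P ≤ S)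
    (g : G) (h : ∀ x : P, g * ι ⟨x, hP x.2⟩ * g⁻¹ ∈ ι.range) :
    pullHom hR.1 P hP g h ∈ F.Hom P :=
  (hR.2 P hP _ (pullHom_mem hR.1 P hP g h)).mpr ⟨g, fun x => apply_pullHom hR.1 P hP g h x⟩

theorem exists_of_mem_hom {ι : S →* G} (F : FusionSystem S) (hR : F.IsRealizedBy ι)
    {P : Subgroup Ω} {φ : P →* Ω} (hφ : φ ∈ F.Hom P) :
    ∃ g : G, ∀ x : P, ι ⟨φ x, (F.le_of_mem hφ).2 x⟩ = g * ι ⟨x, (F.le_of_mem hφ).1 x.2⟩ * g⁻¹ :=
  (hR.2 P (F.le_of_mem hφ).1 φ (F.le_of_mem hφ).2).mp hφ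

end Realize

end Cfsg.Agent.Lib.Helper26
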