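import Cfsg.Agent.Lib.Helper26.KNorm6

set_option autoImplicit false

namespace Cfsg.Agent.Lib.Helper26

open Cfsg Cfsg.FusionSystem

section Special

variable {Ω : Type*} [Group Ω] {S : Subgroup Ω}

theorem fullyKNormalized_top_of_fullyNormalized (F : FusionSystem S) {Q : Subgroup Ω}
    (hQ : F.IsFullyNormalized Q) : FullyKNormalized F Q ⊤ := by
  refine ⟨hQ.1, fun Q' e he => ?_⟩
  rw [Kmap_top, NK_top, NK_top]
  exact hQ.2 Q' he.isConj

theorem fullyKNormalized_bot_of_fullyCentralized (F : FusionSystem S) {Q : Subgroup Ω}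
    (hQ : F.IsFullyCentralized Q) : FullyKNormalized F Q ⊥ := by
  refine ⟨hQ.1, fun Q' e he => ?_⟩
  rw [Kmap_bot, NK_bot, NK_bot]
  exact hQ.2 Q' he.isConj

theorem khom_top_iff (F : FusionSystem S) (Q P : Subgroup Ω) (φ : P →* Ω) :
    KHom F Q ⊤ P φ ↔ φ ∈ F.normalizerHom Q P := by
  unfold KHom normalizerHom
  rw [NK_top]
  constructor
  · rintro ⟨h1, h2, h3, ψ, hψ, hψP, κ, -, hψQ⟩
    refine ⟨h1, h2, h3, ψ, hψ, hψP, ?_⟩
    ext z
    rw [map_subgroupOf_sup_eq]
    constructor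
    · rintro ⟨q, rfl⟩
      rw [hψQ]
      exact (κ q).2
    · intro hz
      refine ⟨κ⁻¹ ⟨z, hz⟩, ?_⟩
      rw [hψQ]
      simp
  · rintro ⟨h1, h2, h3, ψ, hψ, hψP, hψQ⟩
    refine ⟨h1, h2, h3, ψ, hψ, hψP, ?_⟩
    have hr : (ψ.comp (Subgroup.inclusion (le_sup_right : Q ≤ P ⊔ Q))).range = Q := by
      ext z
      have h4 : z ∈ (Q.subgroupOf (P ⊔ Q)).map ψ ↔ z ∈ Q := by rw [hψQ]
      rw [← h4, map_subgroupOf_sup_eq]
      rfl
    exact ⟨autOfHom F (restrict_mem F hψ le_sup_right) hr, Subgroup.mem_top _, fun x => rfl⟩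

theorem khom_bot_iff (F : FusionSystem S) (Q P : Subgroup Ω) (φ : P →* Ω) :
    KHom F Q ⊥ P φ ↔ φ ∈ F.centralizerHom Q P := by
  unfold KHom centralizerHom
  rw [NK_bot]
  constructor
  · rintro ⟨h1, h2, h3, ψ, hψ, hψP, κ, hκ, hψQ⟩
    rw [Subgroup.mem_bot] at hκ
    subst hκ
    exact ⟨h1, h2, h3, ψ, hψ, hψP, fun x => by rw [hψQ]; rfl⟩
  · rintro ⟨h1, h2, h3, ψ, hψ, hψP, hψQ⟩
    exact ⟨h1, h2, h3, ψ, hψ, hψP, 1, Subgroup.one_mem _, fun x => by rw [hψQ]; rfl⟩

/-- AKO I.5.5 for `K = Aut(Q)`: normalizer systems of fully normalized subgroups are saturated. -/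
theorem normalizerSystem_saturated [Finite S] {p : ℕ} [Fact p.Prime]
    (hS : IsPGroup p S) (F : FusionSystem S) (hF : F.IsSaturated p) {Q : Subgroup Ω}
    (hQ : F.IsFullyNormalized Q) (E : FusionSystem (normalizerIn S Q))
    (hE : F.IsNormalizerSystem Q E) : E.IsSaturated p := by
  refine knormalizer_saturated' hS F hF (fullyKNormalized_top_of_fullyNormalized F hQ)
    (NK_top S Q).symm E (fun P φ => ?_)
  rw [khom_top_iff, hE P]

/-- AKO I.5.5 for `K = 1`: centralizer systems of fully centralized subgroups are saturated. -/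
theorem centralizerSystem_saturated [Finite S] {p : ℕ} [Fact p.Prime]
    (hS : IsPGroup p S) (F : FusionSystem S) (hF : F.IsSaturated p) {Q : Subgroup Ω}
    (hQ : F.IsFullyCentralized Q) (E : FusionSystem (centralizerIn S Q))
    (hE : F.IsCentralizerSystem Q E) : E.IsSaturated p := by
  refine knormalizer_saturated' hS F hF (fullyKNormalized_bot_of_fullyCentralized F hQ)
    (NK_bot S Q).symm E (fun P φ => ?_)
  rw [khom_bot_iff, hE P]

end Special

end Cfsg.Agent.Lib.Helper26
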