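import Mathlib
import Cfsg.Agent.Lib.Helper24.MNP.Defs

set_option autoImplicit false

namespace Cfsg.Agent.Lib.Helper24.MNP

open scoped commutatorElement
open Cfsg.Agent.Lib.Helper24.SCH (SchAct)

universe u

section F

variable {K : Type u} [Field K] [Finite K] {p q : ℕ} [Fact p.Prime] [Fact q.Prime] [CharP K p]

omit [Finite K] in
theorem mnpf2_pow_mul_mem (ζ : K) (j : ℕ) (y : K)
    (hy : y ∈ AddSubgroup.closure (Set.range fun j : ℕ => ζ ^ j)) :
    ζ ^ j * y ∈ AddSubgroup.closure (Set.range fun j : ℕ => ζ ^ j) := by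
  induction hy using AddSubgroup.closure_induction with
  | mem y hy =>
    obtain ⟨i, rfl⟩ := hy
    apply AddSubgroup.subset_closure
    exact ⟨j + i, pow_add ζ j i⟩
  | zero => rw [mul_zero]; exact AddSubgroup.zero_mem _
  | add a b _ _ ha hb => rw [mul_add]; exact AddSubgroup.add_mem _ ha hb
  | neg a _ ha => rw [mul_neg]; exact AddSubgroup.neg_mem _ ha

omit [Finite K] in
theorem mnpf2_mul_mem (ζ : K) (x y : K)
    (hx : x ∈ AddSubgroup.closure (Set.range fun j : ℕ => ζ ^ j))
    (hy : y ∈ AddSubgroup.closure (Set.range fun j : ℕ => ζ ^ j)) :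
    x * y ∈ AddSubgroup.closure (Set.range fun j : ℕ => ζ ^ j) := by
  induction hx using AddSubgroup.closure_induction with
  | mem x hx =>
    obtain ⟨i, rfl⟩ := hx
    exact mnpf2_pow_mul_mem ζ i y hy
  | zero => rw [zero_mul]; exact AddSubgroup.zero_mem _
  | add a b _ _ ha hb => rw [add_mul]; exact AddSubgroup.add_mem _ ha hb
  | neg a _ ha => rw [neg_mul]; exact AddSubgroup.neg_mem _ ha

def mnpf2_subring (ζ : K) : Subring K where
  carrier := AddSubgroup.closure (Set.range fun j : ℕ => ζ ^ j)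
  mul_mem' := fun {x y} hx hy => mnpf2_mul_mem ζ x y hx hy
  one_mem' := AddSubgroup.subset_closure ⟨0, pow_zero ζ⟩
  add_mem' := fun {x y} hx hy => AddSubgroup.add_mem _ hx hy
  zero_mem' := AddSubgroup.zero_mem _
  neg_mem' := fun {x} hx => AddSubgroup.neg_mem _ hx

def mnpf2_subfield (ζ : K) : Subfield K where
  toSubring := mnpf2_subring ζ
  inv_mem' := by
    intro x hx
    by_cases hx0 : x = 0
    · rw [hx0, inv_zero]
      exact (mnpf2_subring ζ).zero_mem
    · haveI := Fintype.ofFinite K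
      have h1 : x ^ (Fintype.card K - 1) = 1 := FiniteField.pow_card_sub_one_eq_one x hx0
      have h2 : 2 ≤ Fintype.card K := Fintype.one_lt_card
      have h3 : x * x ^ (Fintype.card K - 2) = 1 := by
        rw [← pow_succ', ← h1]
        congr 1
        omega
      rw [inv_eq_of_mul_eq_one_right h3]
      exact (mnpf2_subring ζ).pow_mem hx _

theorem mnpf2_mem_subfield (ζ x : K) :
    x ∈ mnpf2_subfield ζ ↔ x ∈ AddSubgroup.closure (Set.range fun j : ℕ => ζ ^ j) := Iff.rfl

theorem span_zeta (hpq : p ≠ q) {a : ℕ} (hK : Nat.card K = p ^ a) (ha : a = orderOf (p : ZMod q))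
    (ζ : K) (hζ : orderOf ζ = q) :
    AddSubgroup.closure (Set.range fun j : ℕ => ζ ^ j) = ⊤ := by
  have hp : p.Prime := Fact.out
  have hq : q.Prime := Fact.out
  set A : AddSubgroup K := AddSubgroup.closure (Set.range fun j : ℕ => ζ ^ j) with hA
  set T : Subfield K := mnpf2_subfield ζ with hT
  have hcardTA : Nat.card T = Nat.card A :=
    Nat.card_congr (Equiv.subtypeEquivRight (fun x => mnpf2_mem_subfield ζ x))
  have hdvd : Nat.card A ∣ p ^ a := by
    rw [← hK]
    exact AddSubgroup.card_addSubgroup_dvd_card A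
  obtain ⟨d, hda, hd⟩ := (Nat.dvd_prime_pow hp).mp hdvd
  have hζ0 : ζ ≠ 0 := by
    intro h0
    have h1 : ζ ^ q = 1 := by rw [← hζ]; exact pow_orderOf_eq_one ζ
    rw [h0, zero_pow hq.ne_zero] at h1
    exact zero_ne_one h1
  have hζT : ζ ∈ T := AddSubgroup.subset_closure ⟨1, pow_one ζ⟩
  have hζT0 : (⟨ζ, hζT⟩ : T) ≠ 0 := by
    intro h
    exact hζ0 (congrArg Subtype.val h)
  set u : Tˣ := Units.mk0 ⟨ζ, hζT⟩ hζT0 with hu
  have hou : orderOf u = q := by
    rw [← orderOf_units, ← orderOf_injective (T.subtype : T →* K) Subtype.val_injective, ← hζ]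
    rfl
  have hqd : q ∣ p ^ d - 1 := by
    have h1 := orderOf_dvd_natCard u
    rw [hou, Nat.card_units, hcardTA, hd] at h1
    exact h1
  have hpd : (p : ZMod q) ^ d = 1 := by
    have h1 : 1 ≤ p ^ d := Nat.one_le_pow _ _ hp.pos
    have h2 : (1 : ℕ) ≡ p ^ d [MOD q] := (Nat.modEq_iff_dvd' h1).mpr hqd
    have h3 := (ZMod.natCast_eq_natCast_iff _ _ _).mpr h2
    push_cast at h3
    exact h3.symm
  have had : a ∣ d := by
    rw [ha]
    exact orderOf_dvd_of_pow_eq_one hpd
  have hd0 : d ≠ 0 := by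
    intro h0
    rw [h0, pow_zero] at hqd
    have h2 : Nat.card A = 1 := by rw [hd, h0, pow_zero]
    have h3 : Nat.card T = 1 := by rw [hcardTA, h2]
    have h4 : 1 < Nat.card T := Finite.one_lt_card
    omega
  have hle : a ≤ d := Nat.le_of_dvd (Nat.pos_of_ne_zero hd0) had
  have hdeq : d = a := le_antisymm hda hle
  apply AddSubgroup.eq_top_of_card_eq
  rw [hd, hdeq, hK]

end F

end Cfsg.Agent.Lib.Helper24.MNP
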