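import Cfsg.Agent.Lib.Helper26.Realize

set_option autoImplicit false

namespace Cfsg.Agent.Lib.Helper26

open Cfsg Cfsg.FusionSystem

section Realize2

variable {Ω : Type*} [Group Ω] {S : Subgroup Ω} {G : Type*} [Group G]

noncomputable def imEquiv {ι : S →* G} (hinj : Function.Injective ι) {Q : Subgroup Ω} (hQ : Q ≤ S) :
    Q ≃* imSub ι Q :=
  (Subgroup.subgroupOfEquivOfLe hQ).symm.trans ((Q.subgroupOf S).equivMapOfInjective ι hinj)

theorem coe_imEquiv {ι : S →* G} (hinj : Function.Injective ι) {Q : Subgroup Ω} (hQ : Q ≤ S) (x : Q) :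
    ((imEquiv hinj hQ x : imSub ι Q) : G) = ι ⟨x, hQ x.2⟩ := rfl

theorem imEquiv_symm_spec {ι : S →* G} (hinj : Function.Injective ι) {Q : Subgroup Ω} (hQ : Q ≤ S)
    (y : imSub ι Q) :
    ι ⟨((imEquiv hinj hQ).symm y : Q), hQ ((imEquiv hinj hQ).symm y).2⟩ = (y : G) := by
  rw [← coe_imEquiv hinj hQ, MulEquiv.apply_symm_apply]

theorem isConj_preSub {ι : S →* G} (F : FusionSystem S) (hR : F.IsRealizedBy ι)
    {P : Subgroup Ω} (hP : P ≤ S) (g : G) (h : cj (imSub ι P) g ≤ ι.range) :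
    F.IsConj P (preSub ι (cj (imSub ι P) g)) := by
  have h' : ∀ x : P, g * ι ⟨x, hP x.2⟩ * g⁻¹ ∈ ι.range := fun x =>
    h (conj_mem_cj (apply_mem_imSub ι (hP x.2) x.2))
  refine ⟨pullHom hR.1 P hP g h', pullHom_mem_hom F hR P hP g h', ?_⟩
  ext y
  constructor
  · rintro ⟨x, rfl⟩
    rw [mem_preSub_iff]
    refine ⟨pullHom_mem hR.1 P hP g h' x, ?_⟩
    rw [apply_pullHom]
    exact conj_mem_cj (apply_mem_imSub ι (hP x.2) x.2)
  · intro hy
    obtain ⟨hyS, hy2⟩ := mem_preSub_iff.mp hy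
    rw [mem_cj_iff] at hy2
    obtain ⟨x, hxS, hx, hxe⟩ := mem_imSub_iff.mp hy2
    refine ⟨⟨x, hx⟩, ?_⟩
    have h3 := apply_pullHom hR.1 P hP g h' ⟨x, hx⟩
    have h4 : ι ⟨pullHom hR.1 P hP g h' ⟨x, hx⟩, pullHom_mem hR.1 P hP g h' ⟨x, hx⟩⟩ = ι ⟨y, hyS⟩ := by
      rw [h3]
      show g * ι ⟨x, hxS⟩ * g⁻¹ = _
      rw [hxe]
      group
    exact congrArg Subtype.val (hR.1 h4)

theorem coe_congr_imEquiv {ι : S →* G} (hinj : Function.Injective ι) {Q : Subgroup Ω} (hQ : Q ≤ S)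
    (α : MulAut Q) (x : Q) :
    ((MulAut.congr (imEquiv hinj hQ) α (imEquiv hinj hQ x) : imSub ι Q) : G) =
      ι ⟨α x, hQ (α x).2⟩ := by
  rw [← coe_imEquiv hinj hQ]
  simp [MulAut.congr]

theorem congr_mem_autGroup_iff {ι : S →* G} (F : FusionSystem S) (hR : F.IsRealizedBy ι)
    {Q : Subgroup Ω} (hQ : Q ≤ S) (α : MulAut Q) :
    MulAut.congr (imEquiv hR.1 hQ) α ∈ (groupFusionSystem ι.range).autGroup (imSub ι Q) ↔
      α ∈ F.autGroup Q := by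
  rw [mem_autGroup_iff _ (imSub_le_range ι Q), mem_autGroup_iff F hQ, groupFS_mem_iff,
    hR.2 Q hQ _ (fun x => hQ (α x).2)]
  constructor
  · rintro ⟨-, -, g, hg⟩
    refine ⟨g, fun x => ?_⟩
    have := hg (imEquiv hR.1 hQ x)
    simp only [MonoidHom.coe_comp, Function.comp_apply, Subgroup.coe_subtype, MulEquiv.coe_toMonoidHom] at this
    rw [coe_congr_imEquiv, coe_imEquiv] at this
    exact this
  · rintro ⟨g, hg⟩
    refine ⟨imSub_le_range ι Q, fun y => imSub_le_range ι Q (Subtype.property _), g, fun y => ?_⟩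
    obtain ⟨x, rfl⟩ := (imEquiv hR.1 hQ).surjective y
    simp only [MonoidHom.coe_comp, Function.comp_apply, Subgroup.coe_subtype, MulEquiv.coe_toMonoidHom]
    rw [coe_congr_imEquiv, coe_imEquiv]
    exact hg x

theorem congr_mem_autInducedBy_iff {ι : S →* G} (hinj : Function.Injective ι)
    {Q : Subgroup Ω} (hQ : Q ≤ S) (α : MulAut Q) :
    MulAut.congr (imEquiv hinj hQ) α ∈ autInducedBy ι.range (imSub ι Q) ↔
      α ∈ autInducedBy S Q := by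
  rw [mem_autInducedBy_iff, mem_autInducedBy_iff]
  constructor
  · rintro ⟨t, ⟨s, rfl⟩, hg⟩
    refine ⟨s, s.2, fun x => ?_⟩
    have := hg (imEquiv hinj hQ x)
    rw [coe_congr_imEquiv, coe_imEquiv] at this
    have h2 : ι ⟨α x, hQ (α x).2⟩ = ι (s * ⟨x, hQ x.2⟩ * s⁻¹) := by
      rw [this, map_mul, map_mul, map_inv]
    exact congrArg Subtype.val (hinj h2)
  · rintro ⟨s, hs, hg⟩
    refine ⟨ι ⟨s, hs⟩, ⟨_, rfl⟩, fun y => ?_⟩
    obtain ⟨x, rfl⟩ := (imEquiv hinj hQ).surjective y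
    rw [coe_congr_imEquiv, coe_imEquiv, ← map_inv, ← map_mul, ← map_mul]
    congr 1
    exact Subtype.ext (hg x)



theorem card_eq_of_mulEquiv_mem_iff {A B : Type*} [Group A] [Group B] (e : A ≃* B) (K : Subgroup A)
    (K' : Subgroup B) (h : ∀ a, e a ∈ K' ↔ a ∈ K) : Nat.card K' = Nat.card K := by
  have : K' = K.map e.toMonoidHom := by
    ext b
    constructor
    · intro hb
      refine ⟨e.symm b, (h _).mp ?_, ?_⟩
      · rw [MulEquiv.apply_symm_apply]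
        exact hb
      · exact MulEquiv.apply_symm_apply e b
    · rintro ⟨a, ha, rfl⟩
      exact (h a).mpr ha
  rw [this, card_map_mulEquiv]

theorem fullyAutomized_of_imSub [Finite G] {p : ℕ} [Fact p.Prime] {ι : S →* G} (F : FusionSystem S)
    (hR : F.IsRealizedBy ι) {Q : Subgroup Ω} (hQ : Q ≤ S)
    (h : (groupFusionSystem ι.range).IsFullyAutomized p (imSub ι Q)) : F.IsFullyAutomized p Q := by
  have : Finite S := Finite.of_injective ι hR.1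
  have : Finite Q := finite_of_le hQ
  have : Finite (imSub ι Q) := Subtype.finite
  refine ⟨hQ, ?_⟩
  have h1 : IsSylowIn p ((groupFusionSystem ι.range).autGroup (imSub ι Q))
      (autInducedBy ι.range (imSub ι Q)) := h.2
  have hle1 : autInducedBy ι.range (imSub ι Q) ≤ (groupFusionSystem ι.range).autGroup (imSub ι Q) :=
    autInducedBy_le_autGroup _ (imSub_le_range ι Q)
  have hle2 : autInducedBy S Q ≤ F.autGroup Q := autInducedBy_le_autGroup F hQ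
  rw [isSylowIn_iff_card hle1] at h1
  show IsSylowIn p (F.autGroup Q) (autInducedBy S Q)
  rw [isSylowIn_iff_card hle2]
  rw [← card_eq_of_mulEquiv_mem_iff (MulAut.congr (imEquiv hR.1 hQ)) _ _
    (congr_mem_autInducedBy_iff hR.1 hQ),
    ← card_eq_of_mulEquiv_mem_iff (MulAut.congr (imEquiv hR.1 hQ)) _ _
    (congr_mem_autGroup_iff F hR hQ)]
  exact h1


theorem mem_normalizer_imSub {ι : S →* G} {R : Subgroup Ω} (hRS : R ≤ S) {x : Ω} (hxS : x ∈ S)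
    (hxN : x ∈ Subgroup.normalizer (R : Set Ω)) :
    ι ⟨x, hxS⟩ ∈ Subgroup.normalizer (imSub ι R : Set G) := by
  apply mem_normalizer_of_forall
  · intro y hy
    obtain ⟨r, hrS, hr, rfl⟩ := mem_imSub_iff.mp hy
    have h1 : x * r * x⁻¹ ∈ R := conj_mem_of_mem_normalizer hxN ⟨r, hr⟩
    have h2 : ι ⟨x, hxS⟩ * ι ⟨r, hrS⟩ * (ι ⟨x, hxS⟩)⁻¹ = ι ⟨x * r * x⁻¹, hRS h1⟩ := by
      rw [← map_inv, ← map_mul, ← map_mul]
      rfl
    rw [h2]
    exact apply_mem_imSub ι _ h1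
  · intro y hy
    obtain ⟨r, hrS, hr, rfl⟩ := mem_imSub_iff.mp hy
    have h1 : x⁻¹ * r * x ∈ R := conj_inv_mem_of_mem_normalizer hxN ⟨r, hr⟩
    have h2 : (ι ⟨x, hxS⟩)⁻¹ * ι ⟨r, hrS⟩ * ι ⟨x, hxS⟩ = ι ⟨x⁻¹ * r * x, hRS h1⟩ := by
      rw [← map_inv, ← map_mul, ← map_mul]
      rfl
    rw [h2]
    exact apply_mem_imSub ι _ h1

theorem receptive_of_imSub {ι : S →* G} (F : FusionSystem S)
    (hR : F.IsRealizedBy ι) {Q : Subgroup Ω} (hQ : Q ≤ S)
    (h : (groupFusionSystem ι.range).IsReceptive (imSub ι Q)) : F.IsReceptive Q := by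
  refine ⟨hQ, fun R φ hφ hrg => ?_⟩
  have hRS : R ≤ S := (F.le_of_mem hφ).1
  have hφS : ∀ x : R, φ x ∈ S := (F.le_of_mem hφ).2
  obtain ⟨g, hg⟩ := exists_of_mem_hom F hR hφ
  have hcj : cj (imSub ι R) g = imSub ι Q := by
    ext z
    constructor
    · intro hz
      rw [mem_cj_iff] at hz
      obtain ⟨r, hrS, hr, hre⟩ := mem_imSub_iff.mp hz
      have h1 := hg ⟨r, hr⟩
      have h2 : z = ι ⟨φ ⟨r, hr⟩, hφS ⟨r, hr⟩⟩ := by
        rw [h1]
        show z = g * ι ⟨r, hrS⟩ * g⁻¹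
        rw [hre]
        group
      rw [h2]
      apply apply_mem_imSub
      rw [← hrg]
      exact ⟨_, rfl⟩
    · intro hz
      obtain ⟨q, hqS, hq, rfl⟩ := mem_imSub_iff.mp hz
      rw [← hrg] at hq
      obtain ⟨r, rfl⟩ := hq
      rw [hg r]
      exact conj_mem_cj (apply_mem_imSub ι (hRS r.2) r.2)
  have hφ' : conjHom (imSub ι R) g ∈ (groupFusionSystem ι.range).Hom (imSub ι R) := by
    apply groupFS_conjHom_mem (imSub_le_range ι R)
    rw [hcj]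
    exact imSub_le_range ι Q
  have hrange : (conjHom (imSub ι R) g).range = imSub ι Q := by
    rw [range_conjHom, hcj]
  obtain ⟨ψ', hψ', hext⟩ := h.2 (imSub ι R) (conjHom (imSub ι R) g) hφ' hrange
  obtain ⟨-, hψ'T, k, hk⟩ := groupFS_mem_iff.mp hψ'
  have hES : extender S R φ ≤ S := (extender_le_normalizerIn _ _ _).trans inf_le_left
  have hmem : ∀ x : Ω, ∀ hx : x ∈ extender S R φ,
      ι ⟨x, hES hx⟩ ∈ extender ι.range (imSub ι R) (conjHom (imSub ι R) g) := by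
    intro x hx
    obtain ⟨hxS, hxN, h₀, hh₀S, hxh⟩ := mem_extender_iff.mp hx
    rw [mem_extender_iff]
    refine ⟨⟨_, rfl⟩, mem_normalizer_imSub hRS hxS hxN, ι ⟨h₀, hh₀S⟩, ⟨_, rfl⟩, ?_⟩
    rintro ⟨y, hy⟩
    obtain ⟨r, hrS, hr, rfl⟩ := mem_imSub_iff.mp hy
    rw [conjHom_apply, conjHom_apply]
    show g * (ι ⟨x, _⟩ * ι ⟨r, hrS⟩ * (ι ⟨x, _⟩)⁻¹) * g⁻¹ = ι ⟨h₀, hh₀S⟩ * (g * ι ⟨r, hrS⟩ * g⁻¹) * (ι ⟨h₀, hh₀S⟩)⁻¹
    have h1 : x * r * x⁻¹ ∈ R := conj_mem_of_mem_normalizer hxN ⟨r, hr⟩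
    have h2 : ι ⟨x, hES hx⟩ * ι ⟨r, hrS⟩ * (ι ⟨x, hES hx⟩)⁻¹ = ι ⟨x * r * x⁻¹, hRS h1⟩ := by
      rw [← map_inv, ← map_mul, ← map_mul]
      rfl
    rw [h2]
    have h3 := hg ⟨x * r * x⁻¹, h1⟩
    have h4 := hg ⟨r, hr⟩
    have h5 := hxh ⟨r, hr⟩
    rw [← h3, ← h4]
    rw [← map_inv, ← map_mul, ← map_mul]
    congr 1
    exact Subtype.ext h5
  have hk' : ∀ x : ↥(extender S R φ), k * ι ⟨x, hES x.2⟩ * k⁻¹ ∈ ι.range := by
    intro x
    have := hψ'T ⟨_, hmem x x.2⟩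
    rw [hk] at this
    exact this
  refine ⟨pullHom hR.1 (extender S R φ) hES k hk', pullHom_mem_hom F hR _ hES k hk', ?_⟩
  intro x hxR hxN
  have h1 := apply_pullHom hR.1 (extender S R φ) hES k hk' ⟨x, hxN⟩
  have h2 := hext (ι ⟨x, hES hxN⟩) (apply_mem_imSub ι _ hxR) (hmem x hxN)
  rw [hk, conjHom_apply] at h2
  have h3 := hg ⟨x, hxR⟩
  have h4 : ι ⟨pullHom hR.1 (extender S R φ) hES k hk' ⟨x, hxN⟩, pullHom_mem hR.1 _ hES k hk' ⟨x, hxN⟩⟩ =
      ι ⟨φ ⟨x, hxR⟩, hφS ⟨x, hxR⟩⟩ := by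
    rw [h1, h3]
    exact h2
  exact congrArg Subtype.val (hR.1 h4)

theorem saturated_of_realized [Finite G] {p : ℕ} [Fact p.Prime] {ι : S →* G} (F : FusionSystem S)
    (hR : F.IsRealizedBy ι) (T : Sylow p G) (hT : (T : Subgroup G) = ι.range) : F.IsSaturated p := by
  intro P hP
  have hsat := Cfsg.Agent.S5076.result p T
  rw [hT] at hsat
  obtain ⟨Q', hconj, hfa, hrec⟩ := hsat (imSub ι P) (imSub_le_range ι P)
  obtain ⟨-, hQ'T, g, hg⟩ := groupFS_isConj_iff.mp hconj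
  have h1 : F.IsConj P (preSub ι Q') := by
    rw [← hg]
    apply isConj_preSub F hR hP
    rw [hg]
    exact hQ'T
  have h2 : imSub ι (preSub ι Q') = Q' := imSub_preSub hQ'T
  refine ⟨preSub ι Q', h1, ?_, ?_⟩
  · apply fullyAutomized_of_imSub F hR (preSub_le ι Q')
    rw [h2]
    exact hfa
  · apply receptive_of_imSub F hR (preSub_le ι Q')
    rw [h2]
    exact hrec

end Realize2

end Cfsg.Agent.Lib.Helper26
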