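import Mathlib
import Cfsg.Agent.Lib.Helper1.O9L.Defs
import Cfsg.Agent.Lib.Helper28.O9AFF8

set_option autoImplicit false
set_option linter.unusedVariables false
set_option linter.unusedSectionVars false

/-!
# Project O9L (designer helper1), row GEOGLUE (`geo_glue`), written by helper26.  Extras prefixed `o9lgeoglue_`.
-/

namespace Cfsg.Agent.Lib.Helper1.O9L

open Matrix Module Polynomial

/-- `toLin'` commutes with powers -/
theorem o9lgeoglue_toLin_pow {ι : Type} [Fintype ι] [DecidableEq ι] {F : Type*} [Field F]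
    (M : Matrix ι ι F) (i : ℕ) : (Matrix.toLin' M) ^ i = Matrix.toLin' (M ^ i) := by
  induction i with
  | zero => rw [pow_zero, pow_zero, Matrix.toLin'_one]; rfl
  | succ i ih => rw [pow_succ, pow_succ, ih, Matrix.toLin'_mul]; rfl

/-- `∑_{i<n} (toLin' M)^i = toLin' (∑_{i<n} M^i)` for the matrix of a `GL` element -/
theorem o9lgeoglue_sum {ι : Type} [Fintype ι] [DecidableEq ι] {F : Type*} [Field F]
    (g : GL ι F) (n : ℕ) :
    ∑ i ∈ Finset.range n, (Matrix.toLin' (g : Matrix ι ι F)) ^ i = Matrix.toLin' (geoS g n) := by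
  unfold geoS
  rw [map_sum]
  refine Finset.sum_congr rfl (fun i _ => ?_)
  rw [o9lgeoglue_toLin_pow, Units.val_pow_eq_pow_val]

/-- the glue identity: helper28's `geo` for the frozen action `h8` is `toLin'` of `geoS` -/
theorem o9lgeoglue_eq {F : Type*} [Field F] (a b : F) (g : ↥(Cfsg.Omega F (Cfsg.quadFormMinus 3 F a b))) (n : ℕ) :
    Cfsg.Agent.Lib.Helper28.O9AFF.geo (Cfsg.Agent.Lib.Helper28.O9AFF.h8 F a b) g n =
      Matrix.toLin' (geoS ((g : ↥(Cfsg.isometryGroup F (Cfsg.quadFormMinus 3 F a b))) : GL ((Fin 3 ⊕ Fin 3) ⊕ Fin 2) F) n) := by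
  rw [← o9lgeoglue_sum]
  unfold Cfsg.Agent.Lib.Helper28.O9AFF.geo
  refine Finset.sum_congr rfl (fun i _ => ?_)
  congr 1

/-- GEOGLUE [S]: `geo (h8 F a b) g n = ∑_{i<n} (toLin g)^i = toLin' (geoS g n)` (`Matrix.toLin'` is a ring homomorphism: `Matrix.toLin'_mul`, `map_sum`, `map_pow`; `h8_apply` is `rfl`), and `toLin'` is injective. -/
theorem geo_glue {F : Type*} [Field F] (a b : F) (g : ↥(Cfsg.Omega F (Cfsg.quadFormMinus 3 F a b))) (n : ℕ)
    (h : geoS ((g : ↥(Cfsg.isometryGroup F (Cfsg.quadFormMinus 3 F a b))) : GL ((Fin 3 ⊕ Fin 3) ⊕ Fin 2) F) n ≠ 0) :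
    Cfsg.Agent.Lib.Helper28.O9AFF.geo (Cfsg.Agent.Lib.Helper28.O9AFF.h8 F a b) g n ≠ 0 := by
  rw [o9lgeoglue_eq]
  intro h0
  exact h (Matrix.toLin'.injective (by rw [h0, map_zero]))

end Cfsg.Agent.Lib.Helper1.O9L
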