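import Mathlib
import Cfsg.Agent.Lib.Helper12.OMB.Defs
import Cfsg.Agent.Lib.Lead.STB.Defs2
import Cfsg.Agent.Lib.Helper28.CTDM1f
import Cfsg.Agent.Lib.Helper28.OMMO10

/-!
# Project OMB (designer helper12; matrix side of S2094), row V3, VERBATIM (helper26): `bB_ex0 QB_ex0 bB_ex0_left`
(the hyperplane `e_0^⊥` carries the form of OMM).
-/

set_option autoImplicit false

namespace Cfsg.Agent.Lib.Helper12.OMB

open Matrix Cfsg.Agent.Lib.helper15.St2 Cfsg.Agent.Lib.helper3.STC Cfsg.Agent.Lib.Lead.STD Cfsg.Agent.Lib.Lead.STB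
  Cfsg.Agent.Lib.Lead.SPN Cfsg.Agent.Lib.Helper28.CTD Cfsg.Agent.Lib.Helper28.OMM

universe u w

section V0

variable {l : ℕ} {F : Type u} [Field F]

/-- V3 [S]  the hyperplane `e_0^⊥` carries the form of OMM. -/
theorem bB_ex0 (u v : Fin l ⊕ Fin l → F) : bB (ex0 u) (ex0 v) = bP u v := by
  unfold bB bP ex0
  simp only [Sum.elim_inl, Sum.elim_inr, mul_zero, zero_add]

theorem QB_ex0 (u : Fin l ⊕ Fin l → F) : Cfsg.quadFormOdd l F (ex0 u) = Cfsg.quadFormPlus l F u := by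
  unfold Cfsg.quadFormOdd Cfsg.quadFormPlus ex0
  simp only [Sum.elim_inl, Sum.elim_inr]
  rw [zero_pow two_ne_zero, zero_add]

theorem bB_ex0_left (u : Fin l ⊕ Fin l → F) (x : Ix (Fin l) → F) : bB (ex0 u) x = bP u (fun k => x (Sum.inr k)) := by
  unfold bB bP ex0
  simp only [Sum.elim_inl, Sum.elim_inr, mul_zero, zero_mul, zero_add]

end V0

end Cfsg.Agent.Lib.Helper12.OMB
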