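import Mathlib
import Cfsg.Agent.Lib.Helper12.OMB.Defs
import Cfsg.Agent.Lib.Lead.STB.Defs2
import Cfsg.Agent.Lib.Helper28.CTDM1f
import Cfsg.Agent.Lib.Helper28.OMMO10

/-!
# Project OMB (designer helper12; matrix side of S2094), row V0 (the form), VERBATIM (helper26):
`polar_eq_bB bB_comm bB_add_right bB_smul_right bB_single_left bB_single0_left QB_add QB_smul bB_of_iso`.
Copy of OMM O0 (`Helper22.OMMO0`) for `Cfsg.quadFormOdd`.
-/

set_option autoImplicit false

namespace Cfsg.Agent.Lib.Helper12.OMB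

open Matrix Cfsg.Agent.Lib.helper15.St2 Cfsg.Agent.Lib.helper3.STC Cfsg.Agent.Lib.Lead.STD Cfsg.Agent.Lib.Lead.STB
  Cfsg.Agent.Lib.Lead.SPN Cfsg.Agent.Lib.Helper28.CTD Cfsg.Agent.Lib.Helper28.OMM

universe u w

section V0

variable {l : ℕ} {F : Type u} [Field F]

/-- V0 [S]  `Helper16.polar_odd` (`Cfsg.Agent.Lib.Helper16.SpinG2`); the rest as OMM O0 (`Helper22.OMMO0`), unfolding `bB`, `Cfsg.quadFormOdd`. -/
theorem polar_eq_bB (x y : Ix (Fin l) → F) : QuadraticMap.polar (Cfsg.quadFormOdd l F) x y = bB x y := by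
  unfold QuadraticMap.polar Cfsg.quadFormOdd bB
  have : ∀ (A B C a b c : F), (A + a) - (B + b) - (C + c) = (A - B - C) + (a - b - c) := by
    intro A B C a b c; ring
  rw [this, ← Finset.sum_sub_distrib, ← Finset.sum_sub_distrib]
  congr 1
  · simp only [Pi.add_apply]
    ring
  · apply Finset.sum_congr rfl
    intro i _
    simp only [Pi.add_apply]
    ring

theorem bB_comm (x y : Ix (Fin l) → F) : bB x y = bB y x := by
  unfold bB
  congr 1
  · ring
  · apply Finset.sum_congr rfl
    intro i _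
    ring

theorem bB_add_right (x y z : Ix (Fin l) → F) : bB x (y + z) = bB x y + bB x z := by
  unfold bB
  have : ∀ (A B a b : F), (A + a) + (B + b) = (A + B) + (a + b) := by
    intro A B a b; ring
  rw [this, ← Finset.sum_add_distrib]
  congr 1
  · simp only [Pi.add_apply]
    ring
  · apply Finset.sum_congr rfl
    intro i _
    simp only [Pi.add_apply]
    ring

theorem bB_smul_right (c : F) (x y : Ix (Fin l) → F) : bB x (c • y) = c * bB x y := by
  unfold bB
  rw [mul_add, Finset.mul_sum]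
  congr 1
  · simp only [Pi.smul_apply, smul_eq_mul]
    ring
  · apply Finset.sum_congr rfl
    intro i _
    simp only [Pi.smul_apply, smul_eq_mul]
    ring

theorem bB_single_left (a : Fin l ⊕ Fin l) (x : Ix (Fin l) → F) : bB (Pi.single (Sum.inr a) 1) x = x (Sum.inr (ng a)) := by
  unfold bB
  have h0 : (Pi.single (Sum.inr a) 1 : Ix (Fin l) → F) i0 = 0 := by
    simp [i0]
  rw [h0, mul_zero, zero_mul, zero_add]
  cases a with
  | inl i =>
    rw [Finset.sum_eq_single i]
    · simp [ng]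
    · intro j _ hj
      have h1 : (Sum.inl j : Fin l ⊕ Fin l) ≠ Sum.inl i := fun h => hj (Sum.inl.inj h)
      simp [h1]
    · intro h
      exact absurd (Finset.mem_univ _) h
  | inr i =>
    rw [Finset.sum_eq_single i]
    · simp [ng]
    · intro j _ hj
      have h1 : (Sum.inr j : Fin l ⊕ Fin l) ≠ Sum.inr i := fun h => hj (Sum.inr.inj h)
      simp [h1]
    · intro h
      exact absurd (Finset.mem_univ _) h

theorem bB_single0_left (x : Ix (Fin l) → F) : bB (Pi.single i0 1) x = 2 * x i0 := by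
  unfold bB
  have h0 : (Pi.single i0 1 : Ix (Fin l) → F) i0 = 1 := by
    simp
  rw [h0, mul_one]
  have h1 : ∑ i : Fin l, ((Pi.single i0 1 : Ix (Fin l) → F) (Sum.inr (Sum.inl i)) * x (Sum.inr (Sum.inr i)) +
      x (Sum.inr (Sum.inl i)) * (Pi.single i0 1 : Ix (Fin l) → F) (Sum.inr (Sum.inr i))) = 0 := by
    apply Finset.sum_eq_zero
    intro i _
    simp [i0]
  rw [h1, add_zero]

/-- `Q (x + y) = Q x + Q y + bB x y` -/
theorem QB_add (x y : Ix (Fin l) → F) :
    Cfsg.quadFormOdd l F (x + y) = Cfsg.quadFormOdd l F x + Cfsg.quadFormOdd l F y + bB x y := by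
  have h := polar_eq_bB x y
  unfold QuadraticMap.polar at h
  rw [← h]
  ring

theorem QB_smul (c : F) (x : Ix (Fin l) → F) : Cfsg.quadFormOdd l F (c • x) = c * c * Cfsg.quadFormOdd l F x := by
  unfold Cfsg.quadFormOdd
  rw [mul_add, Finset.mul_sum]
  congr 1
  · simp only [Pi.smul_apply, smul_eq_mul]
    ring
  · apply Finset.sum_congr rfl
    intro i _
    simp only [Pi.smul_apply, smul_eq_mul]
    ring

/-- an isometry preserves the polar form -/
theorem bB_of_iso {k : Matrix (Ix (Fin l)) (Ix (Fin l)) F}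
    (hk : ∀ x, Cfsg.quadFormOdd l F (k *ᵥ x) = Cfsg.quadFormOdd l F x) (x y : Ix (Fin l) → F) :
    bB (k *ᵥ x) (k *ᵥ y) = bB x y := by
  have h1 := QB_add (k *ᵥ x) (k *ᵥ y)
  have h2 := QB_add x y
  rw [← Matrix.mulVec_add, hk, hk, hk] at h1
  rw [h2] at h1
  exact (add_left_cancel h1).symm

end V0

end Cfsg.Agent.Lib.Helper12.OMB
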