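import Mathlib
import Cfsg.Agent.Lib.Helper12.OMB.Defs
import Cfsg.Agent.Lib.Lead.STB.Defs2
import Cfsg.Agent.Lib.Helper28.CTDM1f
import Cfsg.Agent.Lib.Helper28.OMMO10
import Cfsg.Agent.Lib.Helper26.OMBV0

/-!
# Project OMB (designer helper12; matrix side of S2094), row G2, VERBATIM (helper26): `isSgB_ext isSgB_zero isSgB_conj`
(copies of OMM O2b O2c O3, `Helper22.OMMO2`).  Extras `ombg2_*`: the form on the left, the value of the form on a Siegel transform,
Siegel transformations are isometries (`ombg2_sgActB_iso`), the inverse of an isometry (`ombg2_iso_inv`), `ombg2_bB_self`.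
-/

set_option autoImplicit false

namespace Cfsg.Agent.Lib.Helper12.OMB

open Matrix Cfsg.Agent.Lib.helper15.St2 Cfsg.Agent.Lib.helper3.STC Cfsg.Agent.Lib.Lead.STD Cfsg.Agent.Lib.Lead.STB
  Cfsg.Agent.Lib.Lead.SPN Cfsg.Agent.Lib.Helper28.CTD Cfsg.Agent.Lib.Helper28.OMM

universe u w

section G

variable {l : ℕ} {F : Type u} [Field F]

theorem ombg2_bB_add_left (x y z : Ix (Fin l) → F) : bB (x + y) z = bB x z + bB y z := by
  rw [bB_comm, bB_add_right, bB_comm z x, bB_comm z y]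

theorem ombg2_bB_smul_left (c : F) (x y : Ix (Fin l) → F) : bB (c • x) y = c * bB x y := by
  rw [bB_comm, bB_smul_right, bB_comm]

theorem ombg2_bB_zero_left (x : Ix (Fin l) → F) : bB 0 x = 0 := by
  have h := ombg2_bB_smul_left (0 : F) (0 : Ix (Fin l) → F) x
  rwa [zero_smul, zero_mul] at h

theorem ombg2_bB_zero_right (x : Ix (Fin l) → F) : bB x 0 = 0 := by
  rw [bB_comm, ombg2_bB_zero_left]

theorem ombg2_bB_sub_right (x y z : Ix (Fin l) → F) : bB x (y - z) = bB x y - bB x z := by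
  have h := bB_add_right x (y - z) z
  rw [sub_add_cancel] at h
  rw [h]
  ring

theorem ombg2_bB_self (x : Ix (Fin l) → F) : bB x x = 2 * Cfsg.quadFormOdd l F x := by
  unfold bB Cfsg.quadFormOdd
  rw [mul_add, Finset.mul_sum]
  congr 1
  · ring
  · apply Finset.sum_congr rfl
    intro i _
    ring

/-- the value of the polar form on a Siegel transform -/
theorem ombg2_bB_sgActB (z u v : Ix (Fin l) → F) (c : F) (x : Ix (Fin l) → F) :
    bB z (sgActB u v c x) = bB z x + c * (bB u x * bB z v - bB v x * bB z u) := by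
  unfold sgActB
  rw [bB_add_right, bB_smul_right, ombg2_bB_sub_right, bB_smul_right, bB_smul_right]

/-- a Siegel transformation is an isometry -/
theorem ombg2_sgActB_iso {u v : Ix (Fin l) → F} (hu : Cfsg.quadFormOdd l F u = 0) (hv : Cfsg.quadFormOdd l F v = 0)
    (huv : bB u v = 0) (c : F) (x : Ix (Fin l) → F) :
    Cfsg.quadFormOdd l F (sgActB u v c x) = Cfsg.quadFormOdd l F x := by
  unfold sgActB
  have h1 : bB u x • v - bB v x • u = bB u x • v + (-bB v x) • u := by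
    rw [neg_smul, sub_eq_add_neg]
  have h2 : Cfsg.quadFormOdd l F (bB u x • v + (-bB v x) • u) = 0 := by
    rw [QB_add, QB_smul, QB_smul, hu, hv, bB_smul_right, ombg2_bB_smul_left, bB_comm v u, huv]
    ring
  have h3 : bB x (bB u x • v + (-bB v x) • u) = 0 := by
    rw [bB_add_right, bB_smul_right, bB_smul_right, bB_comm x v, bB_comm x u]
    ring
  rw [h1, QB_add, QB_smul, h2, bB_smul_right, h3]
  ring

/-- G2 [S]  copies of OMM O2b, O2c, O3 (`Helper22.OMMO2`: `isSgP_ext`, `isSgP_zero`, `isSgP_conj`) with `bB`, `sgActB`. -/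
theorem isSgB_ext {t t' : Matrix.GeneralLinearGroup (Ix (Fin l)) F} {u v : Ix (Fin l) → F} {c : F}
    (h : IsSgB t u v c) (h' : IsSgB t' u v c) : t = t' := by
  apply Units.ext
  rw [Matrix.ext_iff_mulVec]
  intro x
  rw [h x, h' x]

theorem isSgB_zero {t : Matrix.GeneralLinearGroup (Ix (Fin l)) F} {v : Ix (Fin l) → F} {c : F}
    (h : IsSgB t 0 v c) : t = 1 := by
  apply Units.ext
  rw [Matrix.ext_iff_mulVec]
  intro x
  rw [h x, Units.val_one, Matrix.one_mulVec]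
  unfold sgActB
  rw [ombg2_bB_zero_left, zero_smul, smul_zero, sub_zero, smul_zero, add_zero]

theorem ombg2_coe_mul_inv (k : Matrix.GeneralLinearGroup (Ix (Fin l)) F) :
    (k : Matrix (Ix (Fin l)) (Ix (Fin l)) F) * ((k⁻¹ : Matrix.GeneralLinearGroup (Ix (Fin l)) F) : Matrix (Ix (Fin l)) (Ix (Fin l)) F) = 1 := by
  rw [← Units.val_mul, mul_inv_cancel, Units.val_one]

theorem ombg2_coe_inv_mul (k : Matrix.GeneralLinearGroup (Ix (Fin l)) F) :
    ((k⁻¹ : Matrix.GeneralLinearGroup (Ix (Fin l)) F) : Matrix (Ix (Fin l)) (Ix (Fin l)) F) * (k : Matrix (Ix (Fin l)) (Ix (Fin l)) F) = 1 := by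
  rw [← Units.val_mul, inv_mul_cancel, Units.val_one]

/-- the inverse of an isometry is an isometry -/
theorem ombg2_iso_inv {k : Matrix.GeneralLinearGroup (Ix (Fin l)) F}
    (hk : ∀ x, Cfsg.quadFormOdd l F ((k : Matrix (Ix (Fin l)) (Ix (Fin l)) F) *ᵥ x) = Cfsg.quadFormOdd l F x)
    (x : Ix (Fin l) → F) :
    Cfsg.quadFormOdd l F (((k⁻¹ : Matrix.GeneralLinearGroup (Ix (Fin l)) F) : Matrix (Ix (Fin l)) (Ix (Fin l)) F) *ᵥ x) =
      Cfsg.quadFormOdd l F x := by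
  rw [← hk, Matrix.mulVec_mulVec, ombg2_coe_mul_inv, Matrix.one_mulVec]

theorem isSgB_conj {t k : Matrix.GeneralLinearGroup (Ix (Fin l)) F} {u v : Ix (Fin l) → F} {c : F}
    (hk : ∀ x, Cfsg.quadFormOdd l F ((k : Matrix (Ix (Fin l)) (Ix (Fin l)) F) *ᵥ x) = Cfsg.quadFormOdd l F x)
    (h : IsSgB t u v c) :
    IsSgB (k * t * k⁻¹) ((k : Matrix (Ix (Fin l)) (Ix (Fin l)) F) *ᵥ u)
      ((k : Matrix (Ix (Fin l)) (Ix (Fin l)) F) *ᵥ v) c := by
  intro x
  have hx : (k : Matrix (Ix (Fin l)) (Ix (Fin l)) F) *ᵥ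
      (((k⁻¹ : Matrix.GeneralLinearGroup (Ix (Fin l)) F) : Matrix (Ix (Fin l)) (Ix (Fin l)) F) *ᵥ x) = x := by
    rw [Matrix.mulVec_mulVec, ombg2_coe_mul_inv, Matrix.one_mulVec]
  rw [Units.val_mul, Units.val_mul, ← Matrix.mulVec_mulVec, ← Matrix.mulVec_mulVec, h]
  unfold sgActB
  rw [Matrix.mulVec_add, Matrix.mulVec_smul, Matrix.mulVec_sub, Matrix.mulVec_smul, Matrix.mulVec_smul, hx]
  have h1 := bB_of_iso hk u (((k⁻¹ : Matrix.GeneralLinearGroup (Ix (Fin l)) F) : Matrix (Ix (Fin l)) (Ix (Fin l)) F) *ᵥ x)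
  have h2 := bB_of_iso hk v (((k⁻¹ : Matrix.GeneralLinearGroup (Ix (Fin l)) F) : Matrix (Ix (Fin l)) (Ix (Fin l)) F) *ᵥ x)
  rw [hx] at h1 h2
  rw [h1, h2]

end G

end Cfsg.Agent.Lib.Helper12.OMB
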