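import Mathlib
import Cfsg.Agent.Lib.Helper12.OMN.Defs
import Cfsg.Agent.Lib.Lead.SPN.Defs
import Cfsg.Agent.Lib.Helper28.CTDM1f
import Cfsg.Agent.Lib.Helper28.OMMO10

/-!
# Project OMN (designer helper12; matrix side of S2099), row G2, VERBATIM (helper26): `isSgM_ext isSgM_zero isSgM_conj`
(twin of `Helper26.OMBG2`).  Self-contained: the facts of V0 which are used are proved here under own names
(`omng2_QM_add`, `omng2_bM_of_iso`, `omng2_bM_zero_left`); also `omng2_coe_mul_inv`, `omng2_coe_inv_mul`, `omng2_iso_inv`.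
-/

set_option autoImplicit false

namespace Cfsg.Agent.Lib.Helper12.OMN

open Matrix Cfsg.Agent.Lib.helper15.St2 Cfsg.Agent.Lib.helper3.STC Cfsg.Agent.Lib.Lead.STD Cfsg.Agent.Lib.helper17.STM
  Cfsg.Agent.Lib.Lead.SPN Cfsg.Agent.Lib.Helper28.CTD Cfsg.Agent.Lib.Helper28.OMM

universe u w

section G

variable {m : ℕ} {F : Type u} [Field F] {A B : F}

/-- `Q (x + y) = Q x + Q y + bM x y` (own copy of V0 `QM_add`) -/
theorem omng2_QM_add (x y : Im (Fin m) → F) :
    Cfsg.quadFormMinus m F A B (x + y) = Cfsg.quadFormMinus m F A B x + Cfsg.quadFormMinus m F A B y + bM A B x y := by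
  unfold Cfsg.quadFormMinus bM
  have e : ∑ i : Fin m, (x + y) (Sum.inl (Sum.inl i)) * (x + y) (Sum.inl (Sum.inr i)) =
      ∑ i : Fin m, x (Sum.inl (Sum.inl i)) * x (Sum.inl (Sum.inr i)) +
        ∑ i : Fin m, y (Sum.inl (Sum.inl i)) * y (Sum.inl (Sum.inr i)) +
        ∑ i : Fin m, (x (Sum.inl (Sum.inl i)) * y (Sum.inl (Sum.inr i)) + y (Sum.inl (Sum.inl i)) * x (Sum.inl (Sum.inr i))) := by
    rw [← Finset.sum_add_distrib, ← Finset.sum_add_distrib]
    apply Finset.sum_congr rfl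
    intro i _
    simp only [Pi.add_apply]
    ring
  rw [e]
  simp only [Pi.add_apply]
  ring

/-- an isometry preserves the polar form (own copy of V0 `bM_of_iso`) -/
theorem omng2_bM_of_iso {k : Matrix (Im (Fin m)) (Im (Fin m)) F}
    (hk : ∀ x, Cfsg.quadFormMinus m F A B (k *ᵥ x) = Cfsg.quadFormMinus m F A B x) (x y : Im (Fin m) → F) :
    bM A B (k *ᵥ x) (k *ᵥ y) = bM A B x y := by
  have h1 := omng2_QM_add (A := A) (B := B) (k *ᵥ x) (k *ᵥ y)
  have h2 := omng2_QM_add (A := A) (B := B) x y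
  rw [← Matrix.mulVec_add, hk, hk, hk] at h1
  rw [h2] at h1
  exact (add_left_cancel h1).symm

theorem omng2_bM_zero_left (x : Im (Fin m) → F) : bM A B 0 x = 0 := by
  unfold bM
  simp

/-- G2 [S]  copies of `Helper26.OMBG2` (`isSgB_ext`, `isSgB_zero`, `isSgB_conj`) with `bM`, `sgActM`. -/
theorem isSgM_ext {t t' : Matrix.GeneralLinearGroup (Im (Fin m)) F} {u v : Im (Fin m) → F} {c : F}
    (h : IsSgM A B t u v c) (h' : IsSgM A B t' u v c) : t = t' := by
  apply Units.ext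
  rw [Matrix.ext_iff_mulVec]
  intro x
  rw [h x, h' x]

theorem isSgM_zero {t : Matrix.GeneralLinearGroup (Im (Fin m)) F} {v : Im (Fin m) → F} {c : F}
    (h : IsSgM A B t 0 v c) : t = 1 := by
  apply Units.ext
  rw [Matrix.ext_iff_mulVec]
  intro x
  rw [h x, Units.val_one, Matrix.one_mulVec]
  unfold sgActM
  rw [omng2_bM_zero_left, zero_smul, smul_zero, sub_zero, smul_zero, add_zero]

theorem omng2_coe_mul_inv (k : Matrix.GeneralLinearGroup (Im (Fin m)) F) :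
    (k : Matrix (Im (Fin m)) (Im (Fin m)) F) * ((k⁻¹ : Matrix.GeneralLinearGroup (Im (Fin m)) F) : Matrix (Im (Fin m)) (Im (Fin m)) F) = 1 := by
  rw [← Units.val_mul, mul_inv_cancel, Units.val_one]

theorem omng2_coe_inv_mul (k : Matrix.GeneralLinearGroup (Im (Fin m)) F) :
    ((k⁻¹ : Matrix.GeneralLinearGroup (Im (Fin m)) F) : Matrix (Im (Fin m)) (Im (Fin m)) F) * (k : Matrix (Im (Fin m)) (Im (Fin m)) F) = 1 := by
  rw [← Units.val_mul, inv_mul_cancel, Units.val_one]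

/-- the inverse of an isometry is an isometry -/
theorem omng2_iso_inv {k : Matrix.GeneralLinearGroup (Im (Fin m)) F}
    (hk : ∀ x, Cfsg.quadFormMinus m F A B ((k : Matrix (Im (Fin m)) (Im (Fin m)) F) *ᵥ x) = Cfsg.quadFormMinus m F A B x)
    (x : Im (Fin m) → F) :
    Cfsg.quadFormMinus m F A B (((k⁻¹ : Matrix.GeneralLinearGroup (Im (Fin m)) F) : Matrix (Im (Fin m)) (Im (Fin m)) F) *ᵥ x) =
      Cfsg.quadFormMinus m F A B x := by
  rw [← hk, Matrix.mulVec_mulVec, omng2_coe_mul_inv, Matrix.one_mulVec]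

theorem isSgM_conj {t k : Matrix.GeneralLinearGroup (Im (Fin m)) F} {u v : Im (Fin m) → F} {c : F}
    (hk : ∀ x, Cfsg.quadFormMinus m F A B ((k : Matrix (Im (Fin m)) (Im (Fin m)) F) *ᵥ x) = Cfsg.quadFormMinus m F A B x)
    (h : IsSgM A B t u v c) :
    IsSgM A B (k * t * k⁻¹) ((k : Matrix (Im (Fin m)) (Im (Fin m)) F) *ᵥ u)
      ((k : Matrix (Im (Fin m)) (Im (Fin m)) F) *ᵥ v) c := by
  intro x
  have hx : (k : Matrix (Im (Fin m)) (Im (Fin m)) F) *ᵥ
      (((k⁻¹ : Matrix.GeneralLinearGroup (Im (Fin m)) F) : Matrix (Im (Fin m)) (Im (Fin m)) F) *ᵥ x) = x := by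
    rw [Matrix.mulVec_mulVec, omng2_coe_mul_inv, Matrix.one_mulVec]
  rw [Units.val_mul, Units.val_mul, ← Matrix.mulVec_mulVec, ← Matrix.mulVec_mulVec, h]
  unfold sgActM
  rw [Matrix.mulVec_add, Matrix.mulVec_smul, Matrix.mulVec_sub, Matrix.mulVec_smul, Matrix.mulVec_smul, hx]
  have h1 := omng2_bM_of_iso hk u (((k⁻¹ : Matrix.GeneralLinearGroup (Im (Fin m)) F) : Matrix (Im (Fin m)) (Im (Fin m)) F) *ᵥ x)
  have h2 := omng2_bM_of_iso hk v (((k⁻¹ : Matrix.GeneralLinearGroup (Im (Fin m)) F) : Matrix (Im (Fin m)) (Im (Fin m)) F) *ᵥ x)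
  rw [hx] at h1 h2
  rw [h1, h2]

end G

end Cfsg.Agent.Lib.Helper12.OMN
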