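import Mathlib
import Cfsg.Agent.Lib.helper17.OMP.Defs

/-!
# OMP row E5 (helper26): `Mv1_one Mv1.mul Mv1.inv Mv.mul Mv.inv`
-/

set_option autoImplicit false

namespace Cfsg.Agent.Lib.helper17.OMP

open Matrix Cfsg.Agent.Lib.helper14.CTE Cfsg.Agent.Lib.helper14.CTA Cfsg.Agent.Lib.helper17.SLN Cfsg.Agent.Lib.Helper28.CTD
  Cfsg.Agent.Lib.helper3.STC Cfsg.Agent.Lib.Lead.STD

universe u v w

section E

variable {F : Type u} [Field F] {ι : Type w} [Fintype ι] [DecidableEq ι]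

theorem Mv1_one (a : ι) : Mv1 (1 : Matrix.SpecialLinearGroup ι F) a a := by
  unfold Mv1
  refine ⟨?_, ?_⟩
  · rw [Matrix.SpecialLinearGroup.coe_one, Matrix.one_mulVec]
  · rw [Matrix.SpecialLinearGroup.coe_one, Matrix.vecMul_one]

theorem Mv1.mul {g g' : Matrix.SpecialLinearGroup ι F} {a c e : ι} (h : Mv1 g a c) (h' : Mv1 g' c e) : Mv1 (g' * g) a e := by
  unfold Mv1 at *
  refine ⟨?_, ?_⟩
  · rw [Matrix.SpecialLinearGroup.coe_mul, ← Matrix.mulVec_mulVec, h.1, h'.1]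
  · rw [Matrix.SpecialLinearGroup.coe_mul, ← Matrix.vecMul_vecMul, h'.2, h.2]

theorem Mv1.inv {g : Matrix.SpecialLinearGroup ι F} {a c : ι} (h : Mv1 g a c) : Mv1 g⁻¹ c a := by
  unfold Mv1 at *
  have h1 : (g⁻¹ : Matrix.SpecialLinearGroup ι F).1 * g.1 = 1 := by
    rw [← Matrix.SpecialLinearGroup.coe_mul, inv_mul_cancel, Matrix.SpecialLinearGroup.coe_one]
  have h2 : g.1 * (g⁻¹ : Matrix.SpecialLinearGroup ι F).1 = 1 := by
    rw [← Matrix.SpecialLinearGroup.coe_mul, mul_inv_cancel, Matrix.SpecialLinearGroup.coe_one]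
  refine ⟨?_, ?_⟩
  · rw [← h.1, Matrix.mulVec_mulVec, h1, Matrix.one_mulVec]
  · rw [← h.2, Matrix.vecMul_vecMul, h2, Matrix.vecMul_one]

theorem Mv.mul {g g' : Matrix.SpecialLinearGroup ι F} {a b c d e f : ι} (h : Mv g a b c d) (h' : Mv g' c d e f) :
    Mv (g' * g) a b e f := by
  rw [Mv_iff] at *
  exact ⟨h.1.mul h'.1, h.2.mul h'.2⟩

theorem Mv.inv {g : Matrix.SpecialLinearGroup ι F} {a b c d : ι} (h : Mv g a b c d) : Mv g⁻¹ c d a b := by
  rw [Mv_iff] at *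
  exact ⟨h.1.inv, h.2.inv⟩

end E

end Cfsg.Agent.Lib.helper17.OMP
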