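import Cfsg.Agent.Lib.helper7.SAP.Defs
import Cfsg.Agent.Lib.Helper22.SAPALT1
import Cfsg.Agent.Lib.Helper22.SAPALT2

/-!
Project SAP row ALT3: the 3-cycles `c3 y s t` (`y ≠ s, t`) generate the alternating group.

Proof: the easy inclusion is `c3_sign`.  For the other one, induct on the number of points outside
`{s, t}` moved by an even permutation `σ`: if `y` is such a point, a product `h` of at most two
`c3`'s sends `σ y` back to `y` and fixes every point outside `{s, t}` fixed by `σ`, so `h * σ` moves
fewer points.  If no point outside `{s, t}` is moved then `σ = 1` (as `swap s t` is odd).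
-/

namespace Cfsg.Agent.Lib.helper7.SAP

open Equiv

universe u

theorem sapalt3_le {α : Type*} [DecidableEq α] [Fintype α] (s t : α) (hst : s ≠ t) :
    Subgroup.closure (Set.range fun y : {y : α // y ≠ s ∧ y ≠ t} => c3 (y : α) s t) ≤
      alternatingGroup α := by
  rw [Subgroup.closure_le]
  rintro _ ⟨y, rfl⟩
  exact Perm.mem_alternatingGroup.2 (c3_sign (y : α) s t y.2.1 hst)

theorem sapalt3_key {α : Type*} [DecidableEq α] [Fintype α] (s t : α) (hst : s ≠ t)
    (σ : Perm α) (y : α) (hys : y ≠ s) (hyt : y ≠ t) (hy : σ y ≠ y) :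
    ∃ h ∈ Subgroup.closure (Set.range fun y : {y : α // y ≠ s ∧ y ≠ t} => c3 (y : α) s t),
      h (σ y) = y ∧ ∀ w, w ≠ s → w ≠ t → σ w = w → h w = w := by
  have hmem : ∀ z : α, z ≠ s → z ≠ t → c3 z s t ∈
      Subgroup.closure (Set.range fun y : {y : α // y ≠ s ∧ y ≠ t} => c3 (y : α) s t) :=
    fun z h1 h2 => Subgroup.subset_closure ⟨⟨z, h1, h2⟩, rfl⟩
  obtain ⟨a1, a2, a3, a4⟩ := c3_apply y s t hys hyt hst
  by_cases hzs : σ y = s
  · refine ⟨(c3 y s t)⁻¹, Subgroup.inv_mem _ (hmem y hys hyt), ?_, ?_⟩
    · rw [hzs, Perm.inv_eq_iff_eq]; exact a1.symm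
    · intro w hws hwt hw
      have hwy : w ≠ y := by rintro rfl; exact hy hw
      rw [Perm.inv_eq_iff_eq]; exact (a4 w hwy hws hwt).symm
  by_cases hzt : σ y = t
  · refine ⟨c3 y s t, hmem y hys hyt, ?_, ?_⟩
    · rw [hzt]; exact a3
    · intro w hws hwt hw
      have hwy : w ≠ y := by rintro rfl; exact hy hw
      exact a4 w hwy hws hwt
  · obtain ⟨b1, b2, b3, b4⟩ := c3_apply (σ y) s t hzs hzt hst
    refine ⟨c3 y s t * (c3 (σ y) s t)⁻¹,
      Subgroup.mul_mem _ (hmem y hys hyt) (Subgroup.inv_mem _ (hmem _ hzs hzt)), ?_, ?_⟩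
    · rw [Perm.mul_apply]
      have : (c3 (σ y) s t)⁻¹ (σ y) = t := by rw [Perm.inv_eq_iff_eq]; exact b3.symm
      rw [this]; exact a3
    · intro w hws hwt hw
      have hwy : w ≠ y := by rintro rfl; exact hy hw
      have hwz : w ≠ σ y := by
        intro h
        apply hy
        have : σ w = σ y := by rw [hw]; exact h
        have := σ.injective this
        rw [← this]; exact hw
      rw [Perm.mul_apply]
      have : (c3 (σ y) s t)⁻¹ w = w := by
        rw [Perm.inv_eq_iff_eq]; exact (b4 w hwz hws hwt).symm
      rw [this]; exact a4 w hwy hws hwt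

theorem sapalt3_mem {α : Type*} [DecidableEq α] [Fintype α] (s t : α) (hst : s ≠ t) :
    ∀ (n : ℕ) (σ : Perm α), Perm.sign σ = 1 →
      (Finset.univ.filter (fun y => y ≠ s ∧ y ≠ t ∧ σ y ≠ y)).card = n →
      σ ∈ Subgroup.closure (Set.range fun y : {y : α // y ≠ s ∧ y ≠ t} => c3 (y : α) s t) := by
  intro n
  induction n using Nat.strong_induction_on with
  | _ n ih =>
    intro σ hσ hn
    by_cases hex : ∃ y, y ≠ s ∧ y ≠ t ∧ σ y ≠ y
    · obtain ⟨y, hys, hyt, hy⟩ := hex
      obtain ⟨h, hH, hy', hfix⟩ := sapalt3_key s t hst σ y hys hyt hy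
      have hsign : Perm.sign (h * σ) = 1 := by
        rw [map_mul, hσ, mul_one]
        exact Perm.mem_alternatingGroup.1 (sapalt3_le s t hst hH)
      have hlt : (Finset.univ.filter (fun w => w ≠ s ∧ w ≠ t ∧ (h * σ) w ≠ w)).card < n := by
        rw [← hn]
        apply Finset.card_lt_card
        rw [Finset.ssubset_iff_of_subset]
        · refine ⟨y, ?_, ?_⟩
          · simp only [Finset.mem_filter, Finset.mem_univ, true_and]
            exact ⟨hys, hyt, hy⟩
          · simp only [Finset.mem_filter, Finset.mem_univ, true_and, not_and, not_not]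
            intro _ _
            rw [Perm.mul_apply]; exact hy'
        · intro w hw
          simp only [Finset.mem_filter, Finset.mem_univ, true_and] at hw ⊢
          refine ⟨hw.1, hw.2.1, ?_⟩
          intro hfw
          apply hw.2.2
          rw [Perm.mul_apply, hfw]
          exact hfix w hw.1 hw.2.1 hfw
      have hmem := ih _ hlt (h * σ) hsign rfl
      have : σ = h⁻¹ * (h * σ) := by group
      rw [this]
      exact Subgroup.mul_mem _ (Subgroup.inv_mem _ hH) hmem
    · have hfix : ∀ y, y ≠ s → y ≠ t → σ y = y := by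
        intro y h1 h2
        by_contra h3
        exact hex ⟨y, h1, h2, h3⟩
      have hs : σ s = s ∨ σ s = t := by
        by_contra hcon
        rw [not_or] at hcon
        have := hfix (σ s) hcon.1 hcon.2
        exact hcon.1 (σ.injective this)
      have ht : σ t = s ∨ σ t = t := by
        by_contra hcon
        rw [not_or] at hcon
        have := hfix (σ t) hcon.1 hcon.2
        exact hcon.2 (σ.injective this)
      rcases hs with hs | hs
      · have ht' : σ t = t := by
          rcases ht with ht | ht
          · exact absurd (σ.injective (ht.trans hs.symm)) hst.symm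
          · exact ht
        have : σ = 1 := by
          ext w
          by_cases h1 : w = s
          · rw [h1]; exact hs
          by_cases h2 : w = t
          · rw [h2]; exact ht'
          exact hfix w h1 h2
        rw [this]; exact Subgroup.one_mem _
      · have ht' : σ t = s := by
          rcases ht with ht | ht
          · exact ht
          · exact absurd (σ.injective (hs.trans ht.symm)) hst
        have : σ = swap s t := by
          ext w
          by_cases h1 : w = s
          · rw [h1, swap_apply_left]; exact hs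
          by_cases h2 : w = t
          · rw [h2, swap_apply_right]; exact ht'
          rw [swap_apply_of_ne_of_ne h1 h2]; exact hfix w h1 h2
        rw [this, Perm.sign_swap hst] at hσ
        exact absurd hσ (by decide)

/-- ALT3 [M]: the `c3 y s t` generate the alternating group
(`Equiv.Perm.closure_three_cycles_eq_alternating`; every 3-cycle is a short product of `c3`'s). -/
theorem altgen {α : Type*} [DecidableEq α] [Fintype α] (s t : α) (hst : s ≠ t) :
    Subgroup.closure (Set.range fun y : {y : α // y ≠ s ∧ y ≠ t} => c3 (y : α) s t) =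
      alternatingGroup α :=
  le_antisymm (sapalt3_le s t hst)
    (fun σ hσ => sapalt3_mem s t hst _ σ (Perm.mem_alternatingGroup.1 hσ) rfl)

end Cfsg.Agent.Lib.helper7.SAP
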