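import Mathlib
import Cfsg.Agent.Lib.helper17.SLP.Defs
import Cfsg.Agent.Lib.helper17.SL3.Defs
import Cfsg.Agent.Lib.helper17.SL3.Defs2

set_option autoImplicit false

namespace Cfsg.Agent.Lib.helper17.SL3

open Cfsg.Agent.Lib.helper17.SLP
open Polynomial

universe u v

section D

variable {F : Type u} [Field F] [Fintype F] {G : Type v} [Group G]

omit [Fintype F] in
/-- the root group of an additive root map is its range. -/
theorem sl3d5_mem (X : F → G) (hX : ∀ s t, X (s + t) = X s * X t) (g : G) :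
    g ∈ RG X ↔ ∃ t, g = X t := by
  have h0 : X 0 = 1 := by
    have h := hX 0 0
    rw [add_zero] at h
    exact mul_eq_left.1 h.symm
  constructor
  · intro hg
    unfold RG at hg
    induction hg using Subgroup.closure_induction with
    | mem y hy =>
      obtain ⟨t, rfl⟩ := hy
      exact ⟨t, rfl⟩
    | one => exact ⟨0, h0.symm⟩
    | mul a b _ _ ha hb =>
      obtain ⟨s, rfl⟩ := ha
      obtain ⟨t, rfl⟩ := hb
      exact ⟨s + t, (hX s t).symm⟩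
    | inv a _ ha =>
      obtain ⟨s, rfl⟩ := ha
      refine ⟨-s, ?_⟩
      have h := hX (-s) s
      rw [neg_add_cancel, h0] at h
      exact (eq_inv_of_mul_eq_one_left h.symm).symm
  · rintro ⟨t, rfl⟩
    exact Subgroup.subset_closure ⟨t, rfl⟩

omit [Fintype F] in
theorem sl3d5_conj (Y Z : F → G) (hY : ∀ s t, Y (s + t) = Y s * Y t) (n : G) (e : F → F)
    (h : ∀ t, n * Y t * n⁻¹ = Z (e t)) : ∀ g ∈ RG Y, n * g * n⁻¹ ∈ RG Z := by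
  intro g hg
  obtain ⟨t, rfl⟩ := (sl3d5_mem Y hY g).1 hg
  rw [h]
  exact Subgroup.subset_closure ⟨_, rfl⟩

omit [Fintype F] in
theorem sl3d5_conj' (Y Z : F → G) (hZ : ∀ s t, Z (s + t) = Z s * Z t) (n : G) (e : F → F)
    (he : ∀ s, e (e s) = s) (h : ∀ t, n * Y t * n⁻¹ = Z (e t)) :
    ∀ g ∈ RG Z, n⁻¹ * g * n ∈ RG Y := by
  intro g hg
  obtain ⟨s, rfl⟩ := (sl3d5_mem Z hZ g).1 hg
  have h1 := h (e s)
  rw [he] at h1
  rw [← h1]
  have : n⁻¹ * (n * Y (e s) * n⁻¹) * n = Y (e s) := by group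
  rw [this]
  exact Subgroup.subset_closure ⟨_, rfl⟩

/-- D5 [S-M]. -/
theorem rd_weylX (x : F → G) (w c : G) (hadd : ∀ s t, x (s + t) = x s * x t) (ζ : Fˣ) (d : G)
    (R : Tor ζ x d w c) (W : Wact x w c) :
    (∀ g ∈ RG x, w * g * w⁻¹ ∈ RG (x10 x w)) ∧ (∀ g ∈ RG (x02 x w c), w * g * w⁻¹ ∈ RG (x12 x c)) ∧
      (∀ g ∈ RG (x12 x c), w * g * w⁻¹ ∈ RG (x02 x w c)) ∧ (∀ g ∈ RG (x10 x w), w⁻¹ * g * w ∈ RG x) ∧
      (∀ g ∈ RG (x12 x c), w⁻¹ * g * w ∈ RG (x02 x w c)) ∧ (∀ g ∈ RG (x02 x w c), w⁻¹ * g * w ∈ RG (x12 x c)) ∧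
      (∀ g ∈ RG (x12 x c), (c * w * c⁻¹) * g * (c * w * c⁻¹)⁻¹ ∈ RG (x21 x w c)) ∧
      (∀ g ∈ RG x, (c * w * c⁻¹) * g * (c * w * c⁻¹)⁻¹ ∈ RG (x02 x w c)) ∧
      (∀ g ∈ RG (x02 x w c), (c * w * c⁻¹) * g * (c * w * c⁻¹)⁻¹ ∈ RG x) ∧
      (∀ g ∈ RG (x21 x w c), (c * w * c⁻¹)⁻¹ * g * (c * w * c⁻¹) ∈ RG (x12 x c)) ∧
      (∀ g ∈ RG x, (c * w * c⁻¹)⁻¹ * g * (c * w * c⁻¹) ∈ RG (x02 x w c)) ∧
      (∀ g ∈ RG (x02 x w c), (c * w * c⁻¹)⁻¹ * g * (c * w * c⁻¹) ∈ RG x) := by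
  have hneg : ∀ s : F, - -s = s := neg_neg
  have hid : ∀ s : F, id (id s) = s := fun _ => rfl
  refine ⟨?_, ?_, ?_, ?_, ?_, ?_, ?_, ?_, ?_, ?_, ?_, ?_⟩
  · exact sl3d5_conj x (x10 x w) hadd w (fun t => -t) W.w01
  · exact sl3d5_conj (x02 x w c) (x12 x c) R.add02 w (fun t => -t) W.w02
  · exact sl3d5_conj (x12 x c) (x02 x w c) R.add12 w id W.w12
  · exact sl3d5_conj' x (x10 x w) R.add10 w (fun t => -t) hneg W.w01
  · exact sl3d5_conj' (x02 x w c) (x12 x c) R.add12 w (fun t => -t) hneg W.w02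
  · exact sl3d5_conj' (x12 x c) (x02 x w c) R.add02 w id hid W.w12
  · exact sl3d5_conj (x12 x c) (x21 x w c) R.add12 (c * w * c⁻¹) (fun t => -t) W.n12
  · exact sl3d5_conj x (x02 x w c) hadd (c * w * c⁻¹) (fun t => -t) W.n01
  · exact sl3d5_conj (x02 x w c) x R.add02 (c * w * c⁻¹) id W.n02
  · exact sl3d5_conj' (x12 x c) (x21 x w c) R.add21 (c * w * c⁻¹) (fun t => -t) hneg W.n12
  · exact sl3d5_conj' (x02 x w c) x hadd (c * w * c⁻¹) id hid W.n02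
  · exact sl3d5_conj' x (x02 x w c) R.add02 (c * w * c⁻¹) (fun t => -t) hneg W.n01

end D

end Cfsg.Agent.Lib.helper17.SL3
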