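import Mathlib
import Cfsg.Agent.Lib.Helper1.SLN.Defs
import Cfsg.Agent.Lib.Helper1.SLN.Defs2
import Cfsg.Agent.Lib.Helper22.SL7G8
import Cfsg.Agent.Lib.helper4.SL7MG0
import Cfsg.Agent.Lib.Helper11.SLNMG3

/-!
Project SL7 (designer helper1, skeleton 2, for S2288) row A3b (core): `SL_(M+4)(F)` on `kT + 3` generators with
`|RT| + |L| + |S|` relators; the conclusion of row A3a (`glued_pres`, at the data of A3b) is a hypothesis.
Cites the landed rows G8 `glue_hom` (`Helper22.SL7G8`), MG2 `alphaM_c3` (`helper4.SL7MG0`), MG7 `genM` (`Helper11.SLNMG3`).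
-/

set_option autoImplicit false

namespace Cfsg.Agent.Lib.Helper1.SLN

open Matrix Equiv
open Cfsg.Agent.Lib.helper17.SLP

universe u v w

section A

variable {F : Type u} [Field F]

/-- `c3 ^ 3 = 1`. -/
theorem sl7a3b_c3_pow (M : ℕ) : (c3 M) ^ 3 = 1 := by
  apply Subtype.ext
  rw [Subgroup.coe_pow, c3_coe, Subgroup.coe_one]
  have h : (swap (i0 M) (i1 M) * swap (i1 M) (i2 M)).IsThreeCycle := by
    rw [Equiv.swap_comm (i0 M) (i1 M)]
    exact Equiv.Perm.isThreeCycle_swap_mul_swap_same (i01 M).symm (i12 M) (i02 M)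
  rw [← h.orderOf]
  exact pow_orderOf_eq_one _

/-- A3b core: `hA3a` is the conclusion of A3a `glued_pres` for `A = A_(M+4)`, `B = SL₃(F)`, `cA = c3 M`, `H = SL_(M+4)(F)`. -/
theorem sl7a3b_core [Fintype F] (M : ℕ) {kT : ℕ} (RT : Finset (FreeGroup (Fin kT)))
    (L : List (FreeGroup (Fin 4)))
    (eL : PresentedGroup (↑((FreeGroup.of (3 : Fin 4)) ^ 3 :: L).toFinset : Set (FreeGroup (Fin 4))) ≃*
      Matrix.SpecialLinearGroup (Fin 3) F)
    (heL : eL (PresentedGroup.of 3) = cM)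
    (S : Finset (Monoid.Coprod (alternatingGroup (Fin (M + 4))) (Matrix.SpecialLinearGroup (Fin 3) F)))
    (hS : ∀ (G : Type) [Group G] (α : alternatingGroup (Fin (M + 4)) →* G)
      (β : Matrix.SpecialLinearGroup (Fin 3) F →* G), α (c3 M) = β cM →
      (∀ s ∈ S, Monoid.Coprod.lift α β s = 1) → Glue M α β)
    (hSM : ∀ s ∈ S, Monoid.Coprod.lift (alphaM (F := F) (n := M + 4)) (betaM M) s = 1)
    (hA3a : ∃ rels : Finset (FreeGroup (Fin (kT + 3))), rels.card ≤ RT.card + L.length + S.card ∧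
      ∃ (α : alternatingGroup (Fin (M + 4)) →* PresentedGroup (↑rels : Set (FreeGroup (Fin (kT + 3)))))
        (β : Matrix.SpecialLinearGroup (Fin 3) F →* PresentedGroup (↑rels : Set (FreeGroup (Fin (kT + 3))))),
        α (c3 M) = β (eL (PresentedGroup.of 3)) ∧ (∀ s ∈ S, Monoid.Coprod.lift α β s = 1) ∧
        Subgroup.closure (Set.range α ∪ Set.range β) = ⊤ ∧
        ∀ (α' : alternatingGroup (Fin (M + 4)) →* Matrix.SpecialLinearGroup (Fin (M + 4)) F)
          (β' : Matrix.SpecialLinearGroup (Fin 3) F →* Matrix.SpecialLinearGroup (Fin (M + 4)) F),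
          α' (c3 M) = β' (eL (PresentedGroup.of 3)) →
          (∀ s ∈ S, Monoid.Coprod.lift α' β' s = 1) →
          ∃ ψ : PresentedGroup (↑rels : Set (FreeGroup (Fin (kT + 3)))) →*
              Matrix.SpecialLinearGroup (Fin (M + 4)) F,
            (∀ x, ψ (α x) = α' x) ∧ ∀ x, ψ (β x) = β' x) :
    ∃ rels : Finset (FreeGroup (Fin (kT + 3))), rels.card ≤ RT.card + L.length + S.card ∧
      Nonempty (PresentedGroup (↑rels : Set (FreeGroup (Fin (kT + 3)))) ≃*
        Matrix.SpecialLinearGroup (Fin (M + 4)) F) := by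
  classical
  obtain ⟨rels, hcard, α, β, hαβ, hSrel, hgen, huniv⟩ := hA3a
  have hglue : Glue M α β := hS _ α β (by rw [hαβ, heL]) hSrel
  obtain ⟨Φ, hΦ⟩ := glue_hom M α β hglue hgen
  have hfin : Finite (PresentedGroup (↑rels : Set (FreeGroup (Fin (kT + 3))))) :=
    Finite.of_surjective Φ hΦ
  have hle : Nat.card (PresentedGroup (↑rels : Set (FreeGroup (Fin (kT + 3))))) ≤
      Nat.card (Matrix.SpecialLinearGroup (Fin (M + 4)) F) :=
    Nat.card_le_card_of_surjective Φ hΦ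
  obtain ⟨ψ, hψα, hψβ⟩ := huniv (alphaM (F := F) (n := M + 4)) (betaM M)
    (by rw [heL]; exact alphaM_c3 M) hSM
  have hψsurj : Function.Surjective ψ := by
    rw [← MonoidHom.range_eq_top, eq_top_iff, ← genM (F := F) M, Subgroup.closure_le]
    rintro x (⟨σ, rfl⟩ | ⟨A, rfl⟩)
    · exact ⟨α σ, hψα σ⟩
    · exact ⟨β A, hψβ A⟩
  have hψ : Function.Bijective ψ := hψsurj.bijective_of_nat_card_le hle
  exact ⟨rels, hcard, ⟨MulEquiv.ofBijective ψ hψ⟩⟩

end A

end Cfsg.Agent.Lib.Helper1.SLN
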