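import Mathlib
import Cfsg.Agent.Lib.Helper1.SLN.Defs
import Cfsg.Agent.Lib.Helper1.SLN.Defs2
import Cfsg.Agent.Lib.Lead.SLn
import Cfsg.Agent.Lib.helper6.SLPM4
import Cfsg.Agent.Lib.helper17.SL3.Defs
import Cfsg.Agent.Lib.Helper26.SL7A3bcore
import Cfsg.Agent.Lib.Helper29.SL7A3a

/-!
Project SL7 (designer helper1, skeleton 2, for S2288) row A3b, VERBATIM: `sl_pres_glue` = `sl7a3b_core` on helper29's A3a `glued_pres`.
-/

set_option autoImplicit false

namespace Cfsg.Agent.Lib.Helper1.SLN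

open Matrix Equiv
open Cfsg.Agent.Lib.helper17.SLP

universe u v w

section A

variable {F : Type u} [Field F]

/-- A3b [M]  deps A3a G8 MG2 MG7. -/
theorem sl_pres_glue [Fintype F] (M : ℕ) {kT : ℕ} (RT : Finset (FreeGroup (Fin kT)))
    (eT : PresentedGroup (↑RT : Set (FreeGroup (Fin kT))) ≃* alternatingGroup (Fin (M + 4)))
    (L : List (FreeGroup (Fin 4)))
    (eL : PresentedGroup (↑((FreeGroup.of (3 : Fin 4)) ^ 3 :: L).toFinset : Set (FreeGroup (Fin 4))) ≃*
      Matrix.SpecialLinearGroup (Fin 3) F)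
    (heL : eL (PresentedGroup.of 3) = cM)
    (S : Finset (Monoid.Coprod (alternatingGroup (Fin (M + 4))) (Matrix.SpecialLinearGroup (Fin 3) F)))
    (hS : ∀ (G : Type) [Group G] (α : alternatingGroup (Fin (M + 4)) →* G)
      (β : Matrix.SpecialLinearGroup (Fin 3) F →* G), α (c3 M) = β cM →
      (∀ s ∈ S, Monoid.Coprod.lift α β s = 1) → Glue M α β)
    (hSM : ∀ s ∈ S, Monoid.Coprod.lift (alphaM (F := F) (n := M + 4)) (betaM M) s = 1) :
    ∃ rels : Finset (FreeGroup (Fin (kT + 3))), rels.card ≤ RT.card + L.length + S.card ∧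
      Nonempty (PresentedGroup (↑rels : Set (FreeGroup (Fin (kT + 3)))) ≃*
        Matrix.SpecialLinearGroup (Fin (M + 4)) F) := by
  refine sl7a3b_core M RT L eL heL S hS hSM ?_
  obtain ⟨rels, h1, α, β, h2, h3, h4, h5⟩ := glued_pres.{0, u, u} RT eT L eL (c3 M) (sl7a3b_c3_pow M) S
  exact ⟨rels, h1, α, β, h2, h3, h4, fun α' β' => h5 _ α' β'⟩

end A

end Cfsg.Agent.Lib.Helper1.SLN
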