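import Mathlib
import Cfsg.Prelude.Def_Characters
import Cfsg.Agent.Lib.Helper11.LinChar
import Cfsg.Agent.Lib.Helper11.CyclicDual

/-!
The dual of a subgroup `P` of prime order, and the action of the normalizer of `P` on the
nontrivial linear characters of `P`.
-/

set_option autoImplicit false
set_option linter.style.haveILetI false
set_option linter.unusedSectionVars false
set_option linter.unusedVariables false

namespace Cfsg.Agent.Lib.Helper26

open scoped ComplexConjugate
open Cfsg.Agent.Lib.Helper11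

variable {G : Type*} [Group G]

theorem exc_comm (P : Subgroup G) {p : ℕ} [Fact p.Prime] (hP : Nat.card P = p) :
    ∀ a b : P, a * b = b * a := by
  haveI := isCyclic_of_prime_card hP
  letI := IsCyclic.commGroup (α := P)
  intro a b
  exact mul_comm a b

theorem exc_hom_injective (P : Subgroup G) {p : ℕ} [hp : Fact p.Prime] (hP : Nat.card P = p)
    (μ : P →* ℂˣ) (hμ : μ ≠ 1) : Function.Injective μ := by
  haveI : Fact (Nat.card P).Prime := by rw [hP]; exact hp
  rw [← MonoidHom.ker_eq_bot_iff]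
  rcases Subgroup.eq_bot_or_eq_top_of_prime_card μ.ker with h | h
  · exact h
  · exfalso
    apply hμ
    ext y
    have : y ∈ μ.ker := by rw [h]; exact Subgroup.mem_top y
    rw [MonoidHom.mem_ker] at this
    rw [this]
    rfl

theorem exc_finite_hom (P : Subgroup G) [Finite P] {p : ℕ} [Fact p.Prime]
    (hP : Nat.card P = p) : Finite (P →* ℂˣ) := by
  apply Nat.finite_of_card_ne_zero
  rw [card_linChar (exc_comm P hP)]
  exact Nat.card_pos.ne'

theorem exc_card_hom (P : Subgroup G) [Finite P] {p : ℕ} [Fact p.Prime]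
    (hP : Nat.card P = p) : Nat.card (P →* ℂˣ) = p := by
  rw [card_linChar (exc_comm P hP), hP]

/-- column orthogonality on the abelian group `P` -/
theorem exc_sum_hom (P : Subgroup G) [Finite P] {p : ℕ} [Fact p.Prime]
    (hP : Nat.card P = p) [Fintype (P →* ℂˣ)] (y : P) (hy : y ≠ 1) :
    ∑ μ : P →* ℂˣ, ((μ y : ℂˣ) : ℂ) = 0 := by
  obtain ⟨φ, -, hφ⟩ := exists_linChar_ne_one (exc_comm P hP) ⊥ y (by
    rw [Subgroup.mem_bot]; exact hy)
  have h1 : ∑ μ : P →* ℂˣ, ((μ y : ℂˣ) : ℂ) = ∑ μ : P →* ℂˣ, (((φ * μ) y : ℂˣ) : ℂ) :=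
    (Equiv.sum_comp (Equiv.mulLeft φ) (fun μ : P →* ℂˣ => ((μ y : ℂˣ) : ℂ))).symm
  have h2 : ∑ μ : P →* ℂˣ, (((φ * μ) y : ℂˣ) : ℂ) =
      ((φ y : ℂˣ) : ℂ) * ∑ μ : P →* ℂˣ, ((μ y : ℂˣ) : ℂ) := by
    rw [Finset.mul_sum]
    refine Finset.sum_congr rfl fun μ _ => ?_
    rw [MonoidHom.mul_apply, Units.val_mul]
  rw [h2] at h1
  have h3 : ((φ y : ℂˣ) : ℂ) ≠ 1 := by
    intro h
    apply hφ
    exact Units.ext h
  have h4 : (1 - ((φ y : ℂˣ) : ℂ)) * ∑ μ : P →* ℂˣ, ((μ y : ℂˣ) : ℂ) = 0 := by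
    rw [sub_mul, one_mul, ← h1, sub_self]
  rcases mul_eq_zero.mp h4 with h | h
  · exfalso
    apply h3
    linear_combination -h
  · exact h

theorem exc_sum_hom_one (P : Subgroup G) [Finite P] {p : ℕ} [Fact p.Prime]
    (hP : Nat.card P = p) [Fintype (P →* ℂˣ)] :
    ∑ μ : P →* ℂˣ, ((μ (1 : P) : ℂˣ) : ℂ) = (p : ℂ) := by
  simp only [map_one, Units.val_one, Finset.sum_const, Finset.card_univ, nsmul_eq_mul, mul_one]
  rw [← Nat.card_eq_fintype_card, exc_card_hom P hP]

/-- a conjugate of a nonidentity element of `P` lying in `P` forces the conjugating element into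
the normalizer -/
theorem exc_mem_normalizer (P : Subgroup G) [Finite P] {p : ℕ} [hp : Fact p.Prime]
    (hP : Nat.card P = p) {y x : G} (hy : y ∈ P) (hy1 : y ≠ 1) (hc : x⁻¹ * y * x ∈ P) :
    x ∈ Subgroup.normalizer (P : Set G) := by
  have hgen : Subgroup.zpowers (⟨y, hy⟩ : P) = ⊤ := by
    apply zpowers_eq_top_of_prime_card hP
    intro h
    apply hy1
    exact congrArg Subtype.val h
  have hall : ∀ z ∈ P, x⁻¹ * z * x ∈ P := by
    intro z hz
    have : (⟨z, hz⟩ : P) ∈ Subgroup.zpowers (⟨y, hy⟩ : P) := by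
      rw [hgen]; exact Subgroup.mem_top _
    obtain ⟨k, hk⟩ := Subgroup.mem_zpowers_iff.mp this
    have hz' : z = y ^ k := by
      have := congrArg Subtype.val hk
      simpa using this.symm
    rw [hz']
    have : x⁻¹ * y ^ k * x = (x⁻¹ * y * x) ^ k := by
      have := map_zpow (MulAut.conj x⁻¹) y k
      simpa [MulAut.conj_apply] using this
    rw [this]
    exact P.zpow_mem hc k
  have h1 : x⁻¹ ∈ Subgroup.normalizer (P : Set G) := by
    haveI : Finite ((P : Set G)) := inferInstanceAs (Finite P)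
    apply Subgroup.mem_normalizer_fintype
    intro n hn
    rw [inv_inv]
    exact hall n hn
  have := (Subgroup.normalizer (P : Set G)).inv_mem h1
  rwa [inv_inv] at this

end Cfsg.Agent.Lib.Helper26
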