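import Mathlib
import Cfsg.Agent.Lib.Helper26.ExcDual

/-!
The action of the normalizer of `P` on the nontrivial linear characters of `P`.
-/

set_option autoImplicit false
set_option linter.style.haveILetI false
set_option linter.unusedSectionVars false
set_option linter.unusedVariables false

namespace Cfsg.Agent.Lib.Helper26

open scoped ComplexConjugate
open Cfsg.Agent.Lib.Helper11

variable {G : Type*} [Group G]

/-- the nontrivial linear characters of `P` -/
def excDual (P : Subgroup G) : Type _ := {μ : P →* ℂˣ // μ ≠ 1}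

/-- the underlying homomorphism -/
def excDual.hom {P : Subgroup G} (μ : excDual P) : P →* ℂˣ := Subtype.val μ

theorem excDual.hom_ne {P : Subgroup G} (μ : excDual P) : μ.hom ≠ 1 := Subtype.property μ

theorem excDual.ext' {P : Subgroup G} {μ ν : excDual P} (h : μ.hom = ν.hom) : μ = ν :=
  Subtype.ext h

/-- twisting a hom by an element of the normalizer -/
def excTw (P : Subgroup G) (g : Subgroup.normalizer (P : Set G)) (μ : P →* ℂˣ) : P →* ℂˣ :=
  μ.comp (MulDistribMulAction.toMonoidHom P g⁻¹)

theorem excTw_apply (P : Subgroup G) (g : Subgroup.normalizer (P : Set G)) (μ : P →* ℂˣ)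
    (y : P) : excTw P g μ y = μ (g⁻¹ • y) := rfl

theorem excTw_ne (P : Subgroup G) (g : Subgroup.normalizer (P : Set G)) (μ : P →* ℂˣ)
    (hμ : μ ≠ 1) : excTw P g μ ≠ 1 := by
  intro h
  apply hμ
  refine MonoidHom.ext fun y => ?_
  have := DFunLike.congr_fun h (g • y)
  rw [excTw_apply, inv_smul_smul] at this
  rw [this]
  rfl

instance excDualAction (P : Subgroup G) :
    MulAction (Subgroup.normalizer (P : Set G)) (excDual P) where
  smul g μ := ⟨excTw P g μ.hom, excTw_ne P g μ.hom μ.hom_ne⟩
  one_smul μ := by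
    apply excDual.ext'
    refine MonoidHom.ext fun y => ?_
    change (excTw P 1 μ.hom y : ℂˣ) = μ.hom y
    rw [excTw_apply, inv_one, one_smul]
  mul_smul g h μ := by
    apply excDual.ext'
    refine MonoidHom.ext fun y => ?_
    change (excTw P (g * h) μ.hom y : ℂˣ) = excTw P g (excTw P h μ.hom) y
    rw [excTw_apply, excTw_apply, excTw_apply, mul_inv_rev, mul_smul]

theorem exc_smul_hom (P : Subgroup G) (g : Subgroup.normalizer (P : Set G)) (μ : excDual P) :
    (g • μ).hom = excTw P g μ.hom := rfl

theorem exc_smul_apply (P : Subgroup G) (g : Subgroup.normalizer (P : Set G)) (μ : excDual P)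
    (y : P) : (g • μ).hom y = μ.hom (g⁻¹ • y) := rfl

theorem exc_smul_coe (P : Subgroup G) (g : Subgroup.normalizer (P : Set G)) (y : P) :
    ((g • y : P) : G) = (g : G) * y * (g : G)⁻¹ := rfl

/-- the stabilizer of a nontrivial character is the centralizer of `P` -/
theorem exc_mem_stabilizer (P : Subgroup G) {p : ℕ} [hp : Fact p.Prime] (hP : Nat.card P = p)
    (μ : excDual P) (g : Subgroup.normalizer (P : Set G)) :
    g ∈ MulAction.stabilizer (Subgroup.normalizer (P : Set G)) μ ↔
      (g : G) ∈ Subgroup.centralizer (P : Set G) := by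
  rw [MulAction.mem_stabilizer_iff]
  have hinj := exc_hom_injective P hP μ.hom μ.hom_ne
  constructor
  · intro h
    rw [Subgroup.mem_centralizer_iff]
    intro y hy
    have h1 : (g • μ).hom (g • ⟨y, hy⟩) = μ.hom (g • ⟨y, hy⟩) := by rw [h]
    rw [exc_smul_apply, inv_smul_smul] at h1
    have h2 := hinj h1
    have h3 := congrArg Subtype.val h2
    rw [exc_smul_coe] at h3
    change y = (g : G) * y * (g : G)⁻¹ at h3
    calc y * (g : G) = (g : G) * y * (g : G)⁻¹ * (g : G) := by rw [← h3]
      _ = (g : G) * y := by group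
  · intro h
    apply excDual.ext'
    refine MonoidHom.ext fun y => ?_
    rw [exc_smul_apply]
    have : g⁻¹ • y = y := by
      apply Subtype.ext
      rw [exc_smul_coe]
      have h1 := (Subgroup.mem_centralizer_iff.mp h) y y.2
      have : ((g⁻¹ : Subgroup.normalizer (P : Set G)) : G) = (g : G)⁻¹ := rfl
      rw [this, inv_inv]
      calc (g : G)⁻¹ * y * (g : G) = (g : G)⁻¹ * (y * (g : G)) := by group
        _ = (g : G)⁻¹ * ((g : G) * y) := by rw [h1]
        _ = y := by group
    rw [this]

theorem exc_card_stabilizer (P : Subgroup G) {p : ℕ} [hp : Fact p.Prime] (hP : Nat.card P = p)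
    (μ : excDual P) :
    Nat.card (MulAction.stabilizer (Subgroup.normalizer (P : Set G)) μ) =
      Nat.card (Subgroup.centralizer (P : Set G)) := by
  apply Nat.card_congr
  refine ⟨fun g => ⟨(g.1 : G), (exc_mem_stabilizer P hP μ g.1).mp g.2⟩,
    fun c => ⟨⟨c.1, Subgroup.centralizer_le_normalizer _ c.2⟩,
      (exc_mem_stabilizer P hP μ _).mpr c.2⟩, ?_, ?_⟩
  · intro g
    rfl
  · intro c
    rfl

end Cfsg.Agent.Lib.Helper26
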