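import Mathlib

/-!
Orbit bookkeeping for a finite group action all of whose stabilizers have the same order.
-/

set_option autoImplicit false
set_option linter.style.haveILetI false
set_option linter.unusedSectionVars false
set_option linter.unusedVariables false

namespace Cfsg.Agent.Lib.Helper26

theorem exc_card_transporter {A Ω : Type*} [Group A] [MulAction A Ω] (ω : Ω) (a₀ : A) :
    Nat.card {a : A // a • ω = a₀ • ω} = Nat.card (MulAction.stabilizer A ω) := by
  apply Nat.card_congr
  refine ⟨fun a => ⟨a₀⁻¹ * a.1, ?_⟩, fun s => ⟨a₀ * s.1, ?_⟩, ?_, ?_⟩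
  · rw [MulAction.mem_stabilizer_iff, mul_smul, a.2, inv_smul_smul]
  · rw [mul_smul, MulAction.mem_stabilizer_iff.mp s.2]
  · intro a
    apply Subtype.ext
    simp
  · intro s
    apply Subtype.ext
    simp

theorem exc_card_transporter' {A Ω : Type*} [Group A] [MulAction A Ω] (ω ω' : Ω)
    (h : ∃ a : A, a • ω = ω') :
    Nat.card {a : A // a • ω = ω'} = Nat.card (MulAction.stabilizer A ω) := by
  obtain ⟨a₀, rfl⟩ := h
  exact exc_card_transporter ω a₀

theorem exc_card_transporter_zero {A Ω : Type*} [Group A] [MulAction A Ω] (ω ω' : Ω)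
    (h : ¬ ∃ a : A, a • ω = ω') :
    Nat.card {a : A // a • ω = ω'} = 0 := by
  haveI : IsEmpty {a : A // a • ω = ω'} := ⟨fun a => h ⟨a.1, a.2⟩⟩
  exact Nat.card_of_isEmpty

theorem exc_orbit_fiber {A Ω : Type*} [Group A] [MulAction A Ω]
    (q : MulAction.orbitRel.Quotient A Ω) (ω : Ω) :
    (Quotient.mk'' ω : MulAction.orbitRel.Quotient A Ω) = q ↔
      ω ∈ MulAction.orbit A (Quotient.out q) := by
  rw [← MulAction.orbitRel_apply]
  constructor
  · intro h
    have : (Quotient.mk'' ω : MulAction.orbitRel.Quotient A Ω) = Quotient.mk'' (Quotient.out q) := by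
      rw [h]
      exact (Quotient.out_eq' q).symm
    exact Quotient.exact' this
  · intro h
    have := Quotient.sound' (s₁ := MulAction.orbitRel A Ω) h
    rw [this]
    exact Quotient.out_eq' q

/-- summing an invariant function over `Ω` versus over orbit representatives -/
theorem exc_orbit_sum {A Ω : Type*} [Group A] [Fintype A] [MulAction A Ω] [Fintype Ω]
    [Fintype (MulAction.orbitRel.Quotient A Ω)] (s : ℕ)
    (hs : ∀ ω : Ω, Nat.card (MulAction.stabilizer A ω) = s) (F : Ω → ℤ)
    (hF : ∀ (a : A) (ω : Ω), F (a • ω) = F ω) :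
    (s : ℤ) * ∑ ω, F ω =
      (Nat.card A : ℤ) * ∑ q : MulAction.orbitRel.Quotient A Ω, F (Quotient.out q) := by
  classical
  have h1 : ∑ ω, F ω = ∑ q : MulAction.orbitRel.Quotient A Ω,
      ∑ ω ∈ Finset.univ.filter (fun ω : Ω =>
        (Quotient.mk'' ω : MulAction.orbitRel.Quotient A Ω) = q), F ω :=
    (Finset.sum_fiberwise Finset.univ
      (fun ω : Ω => (Quotient.mk'' ω : MulAction.orbitRel.Quotient A Ω)) F).symm
  rw [h1, Finset.mul_sum, Finset.mul_sum]
  refine Finset.sum_congr rfl fun q _ => ?_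
  have h2 : ∀ ω ∈ Finset.univ.filter (fun ω : Ω =>
      (Quotient.mk'' ω : MulAction.orbitRel.Quotient A Ω) = q), F ω = F (Quotient.out q) := by
    intro ω hω
    rw [Finset.mem_filter] at hω
    have := (exc_orbit_fiber q ω).mp hω.2
    obtain ⟨a, ha⟩ := this
    rw [← ha]
    exact hF a _
  rw [Finset.sum_congr rfl h2, Finset.sum_const, nsmul_eq_mul]
  have h3 : (Finset.univ.filter (fun ω : Ω =>
      (Quotient.mk'' ω : MulAction.orbitRel.Quotient A Ω) = q)).card =
      Nat.card (MulAction.orbit A (Quotient.out q)) := by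
    rw [Nat.card_eq_fintype_card, Fintype.card_subtype]
    congr 1
    ext ω
    simp only [Finset.mem_filter, Finset.mem_univ, true_and]
    exact exc_orbit_fiber q ω
  have h4 := MulAction.card_orbit_mul_card_stabilizer_eq_card_group A (Quotient.out q)
  rw [← Nat.card_eq_fintype_card, ← Nat.card_eq_fintype_card, ← Nat.card_eq_fintype_card,
    hs] at h4
  rw [h3, ← h4]
  push_cast
  ring

theorem exc_orbit_card {A Ω : Type*} [Group A] [Fintype A] [MulAction A Ω] [Fintype Ω]
    [Fintype (MulAction.orbitRel.Quotient A Ω)] (s : ℕ)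
    (hs : ∀ ω : Ω, Nat.card (MulAction.stabilizer A ω) = s) :
    s * Fintype.card Ω = Nat.card A * Fintype.card (MulAction.orbitRel.Quotient A Ω) := by
  have := exc_orbit_sum s hs (fun _ => (1 : ℤ)) (fun _ _ => rfl)
  simp only [Finset.sum_const, Finset.card_univ, nsmul_eq_mul, mul_one] at this
  exact_mod_cast this

end Cfsg.Agent.Lib.Helper26
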