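import Mathlib
import Cfsg.Agent.Lib.Helper26.ExcAct
import Cfsg.Agent.Lib.Helper26.ExcOrbit
import Cfsg.Agent.Lib.helper7.Induction
import Cfsg.Agent.Lib.Helper11.CyclicTI

/-!
The class functions `Ind_P^G (1 - μ)` and their inner products.
-/

set_option autoImplicit false
set_option linter.style.haveILetI false
set_option linter.unusedSectionVars false
set_option linter.unusedVariables false

namespace Cfsg.Agent.Lib.Helper26

open scoped ComplexConjugate
open Cfsg.Agent.Lib.Helper11 Cfsg.Agent.Lib.helper7

variable {G : Type*} [Group G]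

/-- the function `1 - μ` on `P` -/
noncomputable def excBeta {P : Subgroup G} (μ : P →* ℂˣ) : P → ℂ :=
  fun y => 1 - ((μ y : ℂˣ) : ℂ)

theorem excBeta_apply {P : Subgroup G} (μ : P →* ℂˣ) (y : P) :
    excBeta μ y = 1 - ((μ y : ℂˣ) : ℂ) := rfl

theorem excBeta_one {P : Subgroup G} (μ : P →* ℂˣ) : excBeta μ 1 = 0 := by
  rw [excBeta_apply, map_one, Units.val_one, sub_self]

theorem excBeta_eq {P : Subgroup G} (μ : P →* ℂˣ) :
    excBeta μ = linFun (1 : P →* ℂˣ) - linFun μ := by
  funext y
  rw [excBeta_apply, Pi.sub_apply, linFun_apply, linFun_apply, MonoidHom.one_apply, Units.val_one]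

/-- inner products of the functions `1 - μ` -/
theorem exc_beta_inner (P : Subgroup G) [Fintype P] (lam ν : P →* ℂˣ) (hl : lam ≠ 1)
    (hν : ν ≠ 1) [Decidable (lam = ν)] :
    Cfsg.classInner (excBeta lam) (excBeta ν) = 1 + if lam = ν then 1 else 0 := by
  classical
  rw [excBeta_eq, excBeta_eq, classInner_sub_left', classInner_sub_right', classInner_sub_right',
    classInner_linFun, classInner_linFun, classInner_linFun, classInner_linFun, if_pos rfl,
    if_neg (Ne.symm hν), if_neg hl]
  split_ifs <;> ring

/-- the restriction to `P^#` of a function induced from `P` -/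
theorem exc_ind_restrict [Fintype G] (P : Subgroup G) [Fintype P] {p : ℕ} [hp : Fact p.Prime]
    (hP : Nat.card P = p) [Fintype (Subgroup.normalizer (P : Set G))] (φ : P → ℂ) (y : P)
    (hy : y ≠ 1) :
    Cfsg.indFun P φ (y : G) =
      (p : ℂ)⁻¹ * ∑ g : Subgroup.normalizer (P : Set G), φ (g⁻¹ • y) := by
  classical
  unfold Cfsg.indFun
  rw [hP]
  congr 1
  have hy1 : (y : G) ≠ 1 := fun h => hy (Subtype.ext h)
  have h1 : ∑ x : G, Cfsg.extendByZero P φ (x⁻¹ * (y : G) * x) =
      ∑ x ∈ Finset.univ.filter (fun x : G => x ∈ Subgroup.normalizer (P : Set G)),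
        Cfsg.extendByZero P φ (x⁻¹ * (y : G) * x) := by
    symm
    apply Finset.sum_filter_of_ne
    intro x _ hx
    by_contra hxN
    apply hx
    apply h7_extendByZero_not_mem
    intro hmem
    exact hxN (exc_mem_normalizer P hP y.2 hy1 hmem)
  rw [h1]
  rw [Finset.sum_subtype (p := fun x : G => x ∈ Subgroup.normalizer (P : Set G))
    (Finset.univ.filter (fun x : G => x ∈ Subgroup.normalizer (P : Set G)))
    (fun x => by simp)]
  refine Finset.sum_congr rfl fun g _ => ?_
  have hmem : (g : G)⁻¹ * (y : G) * (g : G) ∈ P := by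
    have := (g⁻¹ • y).2
    rw [exc_smul_coe] at this
    simpa using this
  rw [h7_extendByZero_mem P φ _ hmem]
  congr 1
  apply Subtype.ext
  rw [exc_smul_coe]
  simp

/-- the Gram matrix of the induced functions, as a sum over the normalizer -/
theorem exc_gram_sum [Fintype G] (P : Subgroup G) [Fintype P] {p : ℕ} [hp : Fact p.Prime]
    (hP : Nat.card P = p) [Fintype (Subgroup.normalizer (P : Set G))] (lam : P →* ℂˣ)
    (μ : excDual P) :
    Cfsg.classInner (Cfsg.indFun P (excBeta lam)) (Cfsg.indFun P (excBeta μ.hom)) =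
      (p : ℂ)⁻¹ * ∑ g : Subgroup.normalizer (P : Set G),
        Cfsg.classInner (excBeta lam) (excBeta (g • μ).hom) := by
  rw [h7_frobenius_reciprocity P _ _ (h7_indFun_isClassFunction P _)]
  unfold Cfsg.classInner
  have h1 : ∀ y : P, excBeta lam y * conj (Cfsg.indFun P (excBeta μ.hom) (y : G)) =
      (p : ℂ)⁻¹ * ∑ g : Subgroup.normalizer (P : Set G),
        excBeta lam y * conj (excBeta (g • μ).hom y) := by
    intro y
    by_cases hy : y = 1
    · rw [hy, excBeta_one]
      simp
    · rw [exc_ind_restrict P hP _ y hy, map_mul, map_inv₀, Complex.conj_natCast, map_sum,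
        Finset.mul_sum, Finset.mul_sum, Finset.mul_sum]
      refine Finset.sum_congr rfl fun g _ => ?_
      have : excBeta (g • μ).hom y = excBeta μ.hom (g⁻¹ • y) := rfl
      rw [this]
      ring
  simp only [h1]
  rw [← Finset.mul_sum, Finset.sum_comm, mul_left_comm]
  congr 1
  rw [Finset.mul_sum]

/-- the Gram matrix of the induced functions -/
theorem exc_gram [Fintype G] (P : Subgroup G) [Fintype P] {p e : ℕ} [hp : Fact p.Prime]
    (hP : Nat.card P = p) (hC : Nat.card (Subgroup.centralizer (P : Set G)) = p)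
    (hN : Nat.card (Subgroup.normalizer (P : Set G)) = p * e)
    (lam μ : excDual P) :
    ((∃ g : Subgroup.normalizer (P : Set G), g • μ = lam) →
      Cfsg.classInner (Cfsg.indFun P (excBeta lam.hom)) (Cfsg.indFun P (excBeta μ.hom)) =
        (e : ℂ) + 1) ∧
    ((¬ ∃ g : Subgroup.normalizer (P : Set G), g • μ = lam) →
      Cfsg.classInner (Cfsg.indFun P (excBeta lam.hom)) (Cfsg.indFun P (excBeta μ.hom)) =
        (e : ℂ)) := by
  classical
  haveI : Fintype (Subgroup.normalizer (P : Set G)) := Fintype.ofFinite _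
  have hp0 : (p : ℂ) ≠ 0 := by exact_mod_cast hp.out.ne_zero
  have hsum : ∑ g : Subgroup.normalizer (P : Set G),
      Cfsg.classInner (excBeta lam.hom) (excBeta (g • μ).hom) =
      ((p * e : ℕ) : ℂ) +
        (Nat.card {g : Subgroup.normalizer (P : Set G) // g • μ = lam} : ℂ) := by
    have h1 : ∀ g : Subgroup.normalizer (P : Set G),
        Cfsg.classInner (excBeta lam.hom) (excBeta (g • μ).hom) =
          1 + if g • μ = lam then 1 else 0 := by
      intro g
      rw [exc_beta_inner P lam.hom (g • μ).hom lam.hom_ne (g • μ).hom_ne]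
      congr 1
      by_cases h : g • μ = lam
      · rw [if_pos h, if_pos (by rw [h])]
      · rw [if_neg h, if_neg]
        intro h2
        exact h (excDual.ext' h2.symm)
    simp only [h1, Finset.sum_add_distrib, Finset.sum_const, Finset.card_univ, nsmul_eq_mul,
      mul_one]
    rw [← Nat.card_eq_fintype_card, hN, Finset.sum_boole, Nat.card_eq_fintype_card,
      Fintype.card_subtype]
  rw [exc_gram_sum P hP, hsum]
  constructor
  · intro h
    rw [exc_card_transporter' μ lam h, exc_card_stabilizer P hP μ, hC]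
    push_cast
    field_simp
  · intro h
    rw [exc_card_transporter_zero μ lam h]
    push_cast
    field_simp
    ring

end Cfsg.Agent.Lib.Helper26
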