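import Mathlib
import Cfsg.Agent.Lib.Helper26.ExcInd
import Cfsg.Agent.Lib.Helper25.CharBasic
import Cfsg.Agent.Lib.Helper25.CharOrth
import Cfsg.Agent.Lib.Helper25.CharAbelian
import Cfsg.Agent.Lib.Helper25.CharQuot
import Cfsg.Agent.Lib.Helper25.CharLinear
import Cfsg.Agent.Lib.helper2.CharNat

/-!
Multiplicities of the linear characters of `P` in restrictions of irreducible characters of `G`,
and the integer coefficient vectors of the induced functions `Ind_P^G (1 - μ)`.
-/

set_option autoImplicit false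
set_option linter.style.haveILetI false
set_option linter.unusedSectionVars false
set_option linter.unusedVariables false

namespace Cfsg.Agent.Lib.Helper26

open scoped ComplexConjugate
open Cfsg.Agent.Lib.Helper11 Cfsg.Agent.Lib.helper7 Cfsg.Agent.Lib.Helper25 Cfsg.Agent.Lib.helper2

variable {G : Type*} [Group G]

theorem exc_mult_exists [Fintype G] (P : Subgroup G) [Fintype P] (lam : P →* ℂˣ)
    (χ : Cfsg.IrrCharacter G) :
    ∃ m : ℕ, Cfsg.classInner (linFun lam) (fun y : P => (χ : G → ℂ) y) = (m : ℂ) := by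
  have h1 : Cfsg.IsCharacter P (linFun lam) := isCharacter_of_irr (linIrr lam)
  have h2 : Cfsg.IsCharacter P (fun y : P => (χ : G → ℂ) y) :=
    isCharacter_restrict (isCharacter_of_irr χ) P
  exact classInner_character_nat h1 h2

/-- the multiplicity of `lam` in the restriction of `χ` to `P` -/
noncomputable def excMult [Fintype G] (P : Subgroup G) [Fintype P] (lam : P →* ℂˣ)
    (χ : Cfsg.IrrCharacter G) : ℕ :=
  Classical.choose (exc_mult_exists P lam χ)

theorem excMult_spec [Fintype G] (P : Subgroup G) [Fintype P] (lam : P →* ℂˣ)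
    (χ : Cfsg.IrrCharacter G) :
    Cfsg.classInner (linFun lam) (fun y : P => (χ : G → ℂ) y) = (excMult P lam χ : ℂ) :=
  Classical.choose_spec (exc_mult_exists P lam χ)

/-- the multiplicities add up to the degree -/
theorem exc_mult_sum [Fintype G] (P : Subgroup G) [Fintype P] {p : ℕ} [hp : Fact p.Prime]
    (hP : Nat.card P = p) [Fintype (P →* ℂˣ)] (χ : Cfsg.IrrCharacter G) :
    ∑ lam : P →* ℂˣ, excMult P lam χ = Cfsg.charDegree (χ : G → ℂ) := by
  classical
  have hp0 : (p : ℂ) ≠ 0 := by exact_mod_cast hp.out.ne_zero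
  have h1 : ((∑ lam : P →* ℂˣ, excMult P lam χ : ℕ) : ℂ) =
      (Cfsg.charDegree (χ : G → ℂ) : ℂ) := by
    push_cast
    simp only [← excMult_spec]
    unfold Cfsg.classInner
    rw [← Finset.mul_sum, Finset.sum_comm]
    have h2 : ∀ y : P, ∑ lam : P →* ℂˣ, linFun lam y * conj ((χ : G → ℂ) y) =
        if y = 1 then (p : ℂ) * conj ((χ : G → ℂ) 1) else 0 := by
      intro y
      rw [← Finset.sum_mul]
      simp only [linFun_apply]
      by_cases hy : y = 1
      · rw [if_pos hy, hy, exc_sum_hom_one P hP]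
        rfl
      · rw [if_neg hy, exc_sum_hom P hP y hy, zero_mul]
    simp only [h2]
    rw [Finset.sum_ite_eq' Finset.univ (1 : P), if_pos (Finset.mem_univ _), hP,
      ← (charDegree_irr χ).1, Complex.conj_natCast]
    field_simp
  exact_mod_cast h1

/-- the multiplicities are invariant under the normalizer -/
theorem exc_mult_tw [Fintype G] (P : Subgroup G) [Fintype P] (lam : P →* ℂˣ)
    (g : Subgroup.normalizer (P : Set G)) (χ : Cfsg.IrrCharacter G) :
    excMult P (excTw P g lam) χ = excMult P lam χ := by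
  have h1 : ((excMult P (excTw P g lam) χ : ℕ) : ℂ) = (excMult P lam χ : ℂ) := by
    rw [← excMult_spec, ← excMult_spec]
    unfold Cfsg.classInner
    congr 1
    rw [← Equiv.sum_comp (MulAction.toPerm g : Equiv.Perm P)]
    refine Finset.sum_congr rfl fun y _ => ?_
    rw [MulAction.toPerm_apply, linFun_apply, linFun_apply, excTw_apply, inv_smul_smul]
    simp only [exc_smul_coe, irr_conj_invariant]
  exact_mod_cast h1

theorem exc_mult_triv_one [Fintype G] (P : Subgroup G) [Fintype P] :
    excMult P (1 : P →* ℂˣ) (trivIrr G) = 1 := by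
  classical
  have h1 : ((excMult P (1 : P →* ℂˣ) (trivIrr G) : ℕ) : ℂ) = 1 := by
    rw [← excMult_spec]
    have : (fun y : P => (trivIrr G : G → ℂ) y) = linFun (1 : P →* ℂˣ) := by
      funext y
      rw [trivIrr_apply, linFun_apply, MonoidHom.one_apply, Units.val_one]
    rw [this, classInner_linFun, if_pos rfl]
  exact_mod_cast h1

theorem exc_mult_triv_ne [Fintype G] (P : Subgroup G) [Fintype P] (lam : P →* ℂˣ)
    (hl : lam ≠ 1) : excMult P lam (trivIrr G) = 0 := by
  classical
  have h1 : ((excMult P lam (trivIrr G) : ℕ) : ℂ) = 0 := by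
    rw [← excMult_spec]
    have : (fun y : P => (trivIrr G : G → ℂ) y) = linFun (1 : P →* ℂˣ) := by
      funext y
      rw [trivIrr_apply, linFun_apply, MonoidHom.one_apply, Units.val_one]
    rw [this, classInner_linFun, if_neg hl]
  exact_mod_cast h1

/-- the integer coefficient of `χ` in `Ind_P^G (1 - lam)` -/
noncomputable def excN [Fintype G] (P : Subgroup G) [Fintype P] (lam : P →* ℂˣ)
    (χ : Cfsg.IrrCharacter G) : ℤ :=
  (excMult P 1 χ : ℤ) - (excMult P lam χ : ℤ)

theorem excN_spec [Fintype G] (P : Subgroup G) [Fintype P] (lam : P →* ℂˣ)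
    (χ : Cfsg.IrrCharacter G) :
    Cfsg.classInner (Cfsg.indFun P (excBeta lam)) (χ : G → ℂ) = ((excN P lam χ : ℤ) : ℂ) := by
  rw [h7_frobenius_reciprocity P _ _ (isCharacter_isClassFunction (isCharacter_of_irr χ)),
    excBeta_eq, classInner_sub_left', excMult_spec, excMult_spec]
  unfold excN
  push_cast
  ring

theorem excN_triv [Fintype G] (P : Subgroup G) [Fintype P] (lam : P →* ℂˣ) (hl : lam ≠ 1) :
    excN P lam (trivIrr G) = 1 := by
  unfold excN
  rw [exc_mult_triv_one, exc_mult_triv_ne P lam hl]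
  norm_num

theorem excN_tw [Fintype G] (P : Subgroup G) [Fintype P] (lam : P →* ℂˣ)
    (g : Subgroup.normalizer (P : Set G)) (χ : Cfsg.IrrCharacter G) :
    excN P (excTw P g lam) χ = excN P lam χ := by
  unfold excN
  rw [exc_mult_tw]

theorem excN_one [Fintype G] (P : Subgroup G) [Fintype P] (χ : Cfsg.IrrCharacter G) :
    excN P (1 : P →* ℂˣ) χ = 0 := by
  unfold excN
  ring

/-- the sum of the coefficients over all linear characters of `P` -/
theorem excN_sum [Fintype G] (P : Subgroup G) [Fintype P] {p : ℕ} [hp : Fact p.Prime]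
    (hP : Nat.card P = p) [Fintype (P →* ℂˣ)] (χ : Cfsg.IrrCharacter G) :
    ∑ lam : P →* ℂˣ, excN P lam χ =
      (p : ℤ) * (excMult P 1 χ : ℤ) - (Cfsg.charDegree (χ : G → ℂ) : ℤ) := by
  unfold excN
  rw [Finset.sum_sub_distrib, Finset.sum_const, Finset.card_univ, ← Nat.card_eq_fintype_card,
    exc_card_hom P hP, ← exc_mult_sum P hP χ]
  push_cast
  ring

end Cfsg.Agent.Lib.Helper26
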