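import Mathlib
import Cfsg.Agent.Lib.Helper26.ExcCoef

/-!
Integer Gram matrix and degree relations for the coefficient vectors `excN`.
-/

set_option autoImplicit false
set_option linter.style.haveILetI false
set_option linter.unusedSectionVars false
set_option linter.unusedVariables false

namespace Cfsg.Agent.Lib.Helper26

open scoped ComplexConjugate
open Cfsg.Agent.Lib.Helper11 Cfsg.Agent.Lib.helper7 Cfsg.Agent.Lib.Helper25 Cfsg.Agent.Lib.helper2

variable {G : Type*} [Group G]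

theorem exc_conj_int (n : ℤ) : conj (n : ℂ) = (n : ℂ) := Complex.conj_eq_iff_re.mpr rfl

theorem exc_parseval_int [Fintype G] [Fintype (Cfsg.IrrCharacter G)] (f g : G → ℂ)
    (hf : Cfsg.IsClassFunction G f) (hg : Cfsg.IsClassFunction G g)
    (a b : Cfsg.IrrCharacter G → ℤ)
    (ha : ∀ χ : Cfsg.IrrCharacter G, Cfsg.classInner f (χ : G → ℂ) = ((a χ : ℤ) : ℂ))
    (hb : ∀ χ : Cfsg.IrrCharacter G, Cfsg.classInner g (χ : G → ℂ) = ((b χ : ℤ) : ℂ)) :
    Cfsg.classInner f g = ((∑ χ, a χ * b χ : ℤ) : ℂ) := by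
  have hexp := classFunction_expansion g hg
  have h1 : Cfsg.classInner g f = ((∑ χ, a χ * b χ : ℤ) : ℂ) := by
    have h2 : Cfsg.classInner g f = Cfsg.classInner
        (∑ χ : Cfsg.IrrCharacter G, Cfsg.classInner g (χ : G → ℂ) • (χ : G → ℂ)) f :=
      congrArg (fun F => Cfsg.classInner F f) hexp
    rw [h2, Cfsg.Agent.Lib.Helper25.classInner_sum_left]
    push_cast
    refine Finset.sum_congr rfl fun χ _ => ?_
    rw [Cfsg.Agent.Lib.Helper25.classInner_smul_left,
      Cfsg.Agent.Lib.Helper25.classInner_conj_symm f (χ : G → ℂ), ha, hb, exc_conj_int]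
    ring
  rw [Cfsg.Agent.Lib.Helper25.classInner_conj_symm g f, h1, exc_conj_int]

theorem exc_value_one_int [Fintype G] [Fintype (Cfsg.IrrCharacter G)] (f : G → ℂ)
    (hf : Cfsg.IsClassFunction G f) (a : Cfsg.IrrCharacter G → ℤ)
    (ha : ∀ χ : Cfsg.IrrCharacter G, Cfsg.classInner f (χ : G → ℂ) = ((a χ : ℤ) : ℂ)) :
    f 1 = ((∑ χ : Cfsg.IrrCharacter G, a χ * (Cfsg.charDegree (χ : G → ℂ) : ℤ) : ℤ) : ℂ) := by
  have hexp := classFunction_expansion f hf
  have h1 := congrFun hexp 1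
  rw [h1, Finset.sum_apply]
  push_cast
  refine Finset.sum_congr rfl fun χ _ => ?_
  rw [Pi.smul_apply, smul_eq_mul, ha, (charDegree_irr χ).1]

/-- the integer Gram matrix -/
theorem excN_gram [Fintype G] [Fintype (Cfsg.IrrCharacter G)] (P : Subgroup G) [Fintype P]
    {p e : ℕ} [hp : Fact p.Prime]
    (hP : Nat.card P = p) (hC : Nat.card (Subgroup.centralizer (P : Set G)) = p)
    (hN : Nat.card (Subgroup.normalizer (P : Set G)) = p * e)
    (lam μ : excDual P) :
    ((∃ g : Subgroup.normalizer (P : Set G), g • μ = lam) →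
      ∑ χ : Cfsg.IrrCharacter G, excN P lam.hom χ * excN P μ.hom χ = (e : ℤ) + 1) ∧
    ((¬ ∃ g : Subgroup.normalizer (P : Set G), g • μ = lam) →
      ∑ χ : Cfsg.IrrCharacter G, excN P lam.hom χ * excN P μ.hom χ = (e : ℤ)) := by
  have h1 := exc_parseval_int (Cfsg.indFun P (excBeta lam.hom)) (Cfsg.indFun P (excBeta μ.hom))
    (h7_indFun_isClassFunction P _) (h7_indFun_isClassFunction P _)
    (excN P lam.hom) (excN P μ.hom) (excN_spec P lam.hom) (excN_spec P μ.hom)
  obtain ⟨h2, h3⟩ := exc_gram P hP hC hN lam μ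
  constructor
  · intro h
    rw [h2 h] at h1
    exact_mod_cast h1.symm
  · intro h
    rw [h3 h] at h1
    exact_mod_cast h1.symm

/-- the degree relation -/
theorem excN_degree [Fintype G] [Fintype (Cfsg.IrrCharacter G)] (P : Subgroup G) [Fintype P]
    (lam : P →* ℂˣ) :
    ∑ χ : Cfsg.IrrCharacter G, excN P lam χ * (Cfsg.charDegree (χ : G → ℂ) : ℤ) = 0 := by
  have h1 := exc_value_one_int (Cfsg.indFun P (excBeta lam)) (h7_indFun_isClassFunction P _)
    (excN P lam) (excN_spec P lam)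
  rw [h7_indFun_one, excBeta_one, mul_zero] at h1
  exact_mod_cast h1.symm

end Cfsg.Agent.Lib.Helper26
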