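import Mathlib

/-!
A combinatorial lemma on integer vectors with Gram matrix `c + δ`, used for exceptional
characters.
-/

set_option autoImplicit false
set_option linter.style.haveILetI false
set_option linter.unusedSectionVars false
set_option linter.unusedVariables false

namespace Cfsg.Agent.Lib.Helper26

/-- an integer vector of squared norm two has exactly two nonzero entries, both `±1` -/
theorem exc_norm_two {X : Type*} [Fintype X] [DecidableEq X] (u : X → ℤ)
    (h2 : ∑ x, u x ^ 2 = 2) :
    ∃ x y : X, x ≠ y ∧ (u x = 1 ∨ u x = -1) ∧ (u y = 1 ∨ u y = -1) ∧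
      ∀ z, z ≠ x → z ≠ y → u z = 0 := by
  have hnn : ∀ z ∈ (Finset.univ : Finset X), 0 ≤ u z ^ 2 := fun z _ => sq_nonneg _
  obtain ⟨x, hx⟩ : ∃ x, u x ≠ 0 := by
    by_contra hcon
    have hz : ∀ x, u x = 0 := by
      intro x
      by_contra hx
      exact hcon ⟨x, hx⟩
    simp [hz] at h2
  have hx2 : u x ^ 2 ≤ 2 := by
    have := Finset.single_le_sum hnn (Finset.mem_univ x)
    rw [h2] at this
    exact this
  have hx1 : u x = 1 ∨ u x = -1 := by
    have h3 : u x ≤ 1 := by nlinarith
    have h4 : -1 ≤ u x := by nlinarith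
    omega
  have hxsq : u x ^ 2 = 1 := by
    rcases hx1 with h | h <;> rw [h] <;> norm_num
  have hrest : ∑ z ∈ Finset.univ.erase x, u z ^ 2 = 1 := by
    have := Finset.add_sum_erase Finset.univ (fun z => u z ^ 2) (Finset.mem_univ x)
    rw [h2, hxsq] at this
    linarith
  have hnn' : ∀ z ∈ Finset.univ.erase x, 0 ≤ u z ^ 2 := fun z _ => sq_nonneg _
  obtain ⟨y, hyx, hy⟩ : ∃ y, y ≠ x ∧ u y ≠ 0 := by
    by_contra hcon
    have hz : ∀ z ∈ Finset.univ.erase x, u z ^ 2 = 0 := by
      intro z hz
      have hzx : z ≠ x := Finset.ne_of_mem_erase hz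
      have : u z = 0 := by
        by_contra hne
        exact hcon ⟨z, hzx, hne⟩
      rw [this]
      norm_num
    rw [Finset.sum_eq_zero hz] at hrest
    norm_num at hrest
  have hymem : y ∈ Finset.univ.erase x := Finset.mem_erase.mpr ⟨hyx, Finset.mem_univ y⟩
  have hy2 : u y ^ 2 ≤ 1 := by
    have := Finset.single_le_sum hnn' hymem
    rw [hrest] at this
    exact this
  have hy1 : u y = 1 ∨ u y = -1 := by
    have h3 : u y ≤ 1 := by nlinarith
    have h4 : -1 ≤ u y := by nlinarith
    omega
  have hysq : u y ^ 2 = 1 := by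
    rcases hy1 with h | h <;> rw [h] <;> norm_num
  have hrest2 : ∑ z ∈ (Finset.univ.erase x).erase y, u z ^ 2 = 0 := by
    have := Finset.add_sum_erase (Finset.univ.erase x) (fun z => u z ^ 2) hymem
    rw [hrest, hysq] at this
    linarith
  refine ⟨x, y, hyx.symm, hx1, hy1, ?_⟩
  intro z hzx hzy
  have hzmem : z ∈ (Finset.univ.erase x).erase y :=
    Finset.mem_erase.mpr ⟨hzy, Finset.mem_erase.mpr ⟨hzx, Finset.mem_univ z⟩⟩
  have hnn'' : ∀ z ∈ (Finset.univ.erase x).erase y, 0 ≤ u z ^ 2 := fun z _ => sq_nonneg _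
  have := (Finset.sum_eq_zero_iff_of_nonneg hnn'').mp hrest2 z hzmem
  exact pow_eq_zero_iff (two_ne_zero) |>.mp this

/-- a norm-two integer vector orthogonal to a positive vector is a difference of two distinct
basis vectors -/
theorem exc_diff_form {X : Type*} [Fintype X] [DecidableEq X] (d : X → ℤ)
    (hd : ∀ x, 0 < d x) (u : X → ℤ) (h2 : ∑ x, u x ^ 2 = 2) (h0 : ∑ x, u x * d x = 0) :
    ∃ a b : X, a ≠ b ∧
      ∀ z, u z = (if z = a then 1 else 0) - (if z = b then 1 else 0) := by
  obtain ⟨x, y, hxy, hx, hy, hz⟩ := exc_norm_two u h2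
  have hsum : ∑ z, u z * d z = u x * d x + u y * d y := by
    apply Finset.sum_eq_add x y hxy
    · intro c _ hc
      rw [hz c hc.1 hc.2, zero_mul]
    · intro h; exact absurd (Finset.mem_univ x) h
    · intro h; exact absurd (Finset.mem_univ y) h
  rw [hsum] at h0
  have hdx := hd x
  have hdy := hd y
  rcases hx with hx | hx <;> rcases hy with hy | hy
  · rw [hx, hy] at h0; linarith
  · refine ⟨x, y, hxy, ?_⟩
    intro z
    by_cases h1 : z = x
    · subst h1
      rw [if_pos rfl, if_neg hxy, hx]; norm_num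
    · by_cases h2' : z = y
      · subst h2'
        rw [if_neg h1, if_pos rfl, hy]; norm_num
      · rw [if_neg h1, if_neg h2', hz z h1 h2']; norm_num
  · refine ⟨y, x, hxy.symm, ?_⟩
    intro z
    by_cases h1 : z = x
    · subst h1
      rw [if_neg hxy, if_pos rfl, hx]; norm_num
    · by_cases h2' : z = y
      · subst h2'
        rw [if_pos rfl, if_neg h1, hy]; norm_num
      · rw [if_neg h2', if_neg h1, hz z h1 h2']; norm_num
  · rw [hx, hy] at h0; linarith

theorem exc_sum_ind_mul {X : Type*} [Fintype X] [DecidableEq X] (a b : X) :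
    ∑ x : X, (if x = a then (1 : ℤ) else 0) * (if x = b then 1 else 0) =
      if a = b then 1 else 0 := by
  rw [Finset.sum_eq_single a]
  · rw [if_pos rfl, one_mul]
  · intro c _ hc
    rw [if_neg hc, zero_mul]
  · intro h; exact absurd (Finset.mem_univ a) h

end Cfsg.Agent.Lib.Helper26
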