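import Mathlib
import Cfsg.Agent.Lib.Helper26.ExcLattice

/-!
The lattice lemma: integer vectors with Gram matrix `c + δ` and equal degree sums have the
shape `w ± e_{θ i}`.
-/

set_option autoImplicit false
set_option linter.style.haveILetI false
set_option linter.unusedSectionVars false
set_option linter.unusedVariables false

namespace Cfsg.Agent.Lib.Helper26

theorem exc_dichotomy {X : Type*} [DecidableEq X] (P1 M1 P2 M2 : X) (h1 : P1 ≠ M1)
    (h2 : P2 ≠ M2)
    (h : (if P1 = P2 then (1 : ℤ) else 0) - (if P1 = M2 then 1 else 0)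
      - (if M1 = P2 then 1 else 0) + (if M1 = M2 then 1 else 0) = 1) :
    (P1 = P2 ∧ M1 ≠ M2) ∨ (P1 ≠ P2 ∧ M1 = M2) := by
  by_cases a : P1 = P2
  · left
    refine ⟨a, ?_⟩
    intro d
    have b : P1 ≠ M2 := fun hb => h2 (a ▸ hb)
    have c : M1 ≠ P2 := fun hc => h1 (a.trans hc.symm)
    rw [if_pos a, if_neg b, if_neg c, if_pos d] at h
    norm_num at h
  · right
    refine ⟨a, ?_⟩
    by_contra d
    rw [if_neg a, if_neg d] at h
    split_ifs at h <;> norm_num at h

theorem exc_lattice {X I : Type*} [Fintype X] [DecidableEq X] [Fintype I] [DecidableEq I]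
    (d : X → ℤ) (hd : ∀ x, 0 < d x) (n : I → X → ℤ) (c D : ℤ)
    (hgram : ∀ i j, ∑ x, n i x * n j x = c + if i = j then 1 else 0)
    (hdeg : ∀ i, ∑ x, n i x * d x = D) (hI : 2 ≤ Fintype.card I) :
    ∃ (ε : ℤ) (θ : I → X) (w : X → ℤ), (ε = 1 ∨ ε = -1) ∧ Function.Injective θ ∧
      (∀ i x, n i x = w x + if x = θ i then ε else 0) := by
  classical
  have hIpos : 0 < Fintype.card I := by omega
  obtain ⟨i₀⟩ : Nonempty I := Fintype.card_pos_iff.mp hIpos
  obtain ⟨j₁, hj₁⟩ : ∃ j, j ≠ i₀ := by
    have : 1 < Fintype.card I := by omega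
    exact Fintype.exists_ne_of_one_lt_card this i₀
  -- the difference vectors
  have hdiff : ∀ j, j ≠ i₀ → ∃ a b : X, a ≠ b ∧
      ∀ z, n i₀ z - n j z = (if z = a then 1 else 0) - (if z = b then 1 else 0) := by
    intro j hj
    apply exc_diff_form d hd (fun z => n i₀ z - n j z)
    · have h1 := hgram i₀ i₀
      have h2 := hgram i₀ j
      have h3 := hgram j j
      rw [if_pos rfl] at h1 h3
      rw [if_neg (Ne.symm hj)] at h2
      have : ∀ x, (n i₀ x - n j x) ^ 2 = n i₀ x * n i₀ x - 2 * (n i₀ x * n j x) + n j x * n j x := by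
        intro x; ring
      simp only [this, Finset.sum_add_distrib, Finset.sum_sub_distrib, ← Finset.mul_sum]
      rw [h1, h2, h3]; ring
    · have : ∀ x, (n i₀ x - n j x) * d x = n i₀ x * d x - n j x * d x := by
        intro x; ring
      simp only [this, Finset.sum_sub_distrib]
      rw [hdeg, hdeg]; ring
  obtain ⟨x₀, -⟩ := hdiff j₁ hj₁
  haveI : Nonempty X := ⟨x₀⟩
  choose! P M hPM hu using hdiff
  -- cross relation
  have hcross : ∀ j k, j ≠ i₀ → k ≠ i₀ → j ≠ k →
      (P j = P k ∧ M j ≠ M k) ∨ (P j ≠ P k ∧ M j = M k) := by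
    intro j k hj hk hjk
    apply exc_dichotomy (P j) (M j) (P k) (M k) (hPM j hj) (hPM k hk)
    have h1 := hgram i₀ i₀
    have h2 := hgram i₀ j
    have h3 := hgram i₀ k
    have h4 := hgram j k
    rw [if_pos rfl] at h1
    rw [if_neg (Ne.symm hj)] at h2
    rw [if_neg (Ne.symm hk)] at h3
    rw [if_neg hjk] at h4
    have h5 : ∑ x, (n i₀ x - n j x) * (n i₀ x - n k x) = 1 := by
      have : ∀ x, (n i₀ x - n j x) * (n i₀ x - n k x) =
          n i₀ x * n i₀ x - n i₀ x * n k x - n i₀ x * n j x + n j x * n k x := by
        intro x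
        ring
      simp only [this, Finset.sum_add_distrib, Finset.sum_sub_distrib]
      have h2' : ∑ x, n i₀ x * n j x = c + 0 := h2
      rw [h1, h2', h3, h4]; ring
    have h6 : ∀ x, (n i₀ x - n j x) * (n i₀ x - n k x) =
        (if x = P j then (1 : ℤ) else 0) * (if x = P k then 1 else 0)
        - (if x = P j then (1 : ℤ) else 0) * (if x = M k then 1 else 0)
        - (if x = M j then (1 : ℤ) else 0) * (if x = P k then 1 else 0)
        + (if x = M j then (1 : ℤ) else 0) * (if x = M k then 1 else 0) := by
      intro x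
      rw [hu j hj x, hu k hk x]; ring
    simp only [h6, Finset.sum_add_distrib, Finset.sum_sub_distrib, exc_sum_ind_mul] at h5
    exact h5
  by_cases hA : ∀ j k, j ≠ i₀ → k ≠ i₀ → P j = P k
  · -- type A
    refine ⟨1, fun i => if i = i₀ then P j₁ else M i,
      fun x => n i₀ x - if x = P j₁ then 1 else 0, Or.inl rfl, ?_, ?_⟩
    · intro i j hij
      simp only at hij
      by_cases hi : i = i₀
      · by_cases hj : j = i₀
        · rw [hi, hj]
        · rw [if_pos hi, if_neg hj] at hij
          exfalso
          apply hPM j hj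
          rw [← hij]
          exact hA j j₁ hj hj₁
      · by_cases hj : j = i₀
        · rw [if_neg hi, if_pos hj] at hij
          exfalso
          apply hPM i hi
          rw [hij]
          exact hA i j₁ hi hj₁
        · rw [if_neg hi, if_neg hj] at hij
          by_contra hne
          rcases hcross i j hi hj hne with h | h
          · exact h.2 hij
          · exact h.1 (hA i j hi hj)
    · intro i x
      by_cases hi : i = i₀
      · subst hi
        simp only [if_true]
        ring
      · simp only [if_neg hi]
        have h1 := hu i hi x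
        rw [hA i j₁ hi hj₁] at h1
        linarith
  · -- type B
    have hA' : ∃ j k, j ≠ i₀ ∧ k ≠ i₀ ∧ P j ≠ P k := by
      by_contra hcon
      apply hA
      intro j k hj hk
      by_contra hne
      exact hcon ⟨j, k, hj, hk, hne⟩
    obtain ⟨j, k, hj, hk, hjk⟩ := hA'
    have hjk' : j ≠ k := fun h => hjk (by rw [h])
    have hMjk : M j = M k := by
      rcases hcross j k hj hk hjk' with h | h
      · exact absurd h.1 hjk
      · exact h.2
    have hB : ∀ l, l ≠ i₀ → M l = M j := by
      intro l hl
      by_contra hne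
      have hlj : l ≠ j := fun h => hne (by rw [h])
      have hlk : l ≠ k := fun h => hne (by rw [h, hMjk])
      have h1 : P l = P j := by
        rcases hcross l j hl hj hlj with h | h
        · exact h.1
        · exact absurd h.2 hne
      have h2 : P l = P k := by
        rcases hcross l k hl hk hlk with h | h
        · exact h.1
        · exact absurd (h.2.trans hMjk.symm) hne
      exact hjk (h1.symm.trans h2)
    refine ⟨-1, fun i => if i = i₀ then M j else P i,
      fun x => n i₀ x + if x = M j then 1 else 0, Or.inr rfl, ?_, ?_⟩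
    · intro i l hil
      simp only at hil
      by_cases hi : i = i₀
      · by_cases hl : l = i₀
        · rw [hi, hl]
        · rw [if_pos hi, if_neg hl] at hil
          exfalso
          apply hPM l hl
          rw [← hil]
          exact (hB l hl).symm
      · by_cases hl : l = i₀
        · rw [if_neg hi, if_pos hl] at hil
          exfalso
          apply hPM i hi
          rw [hil]
          exact (hB i hi).symm
        · rw [if_neg hi, if_neg hl] at hil
          by_contra hne
          rcases hcross i l hi hl hne with h | h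
          · exact h.2 ((hB i hi).trans (hB l hl).symm)
          · exact h.1 hil
    · intro i x
      by_cases hi : i = i₀
      · subst hi
        simp only [if_true]
        split_ifs <;> ring
      · simp only [if_neg hi]
        have h1 := hu i hi x
        rw [hB i hi] at h1
        split_ifs at h1 ⊢ <;> linarith

/-- consequences of the shape `n i = w ± e_{θ i}` for the Gram matrix -/
theorem exc_lattice_norm {X I : Type*} [Fintype X] [DecidableEq X]
    (n : I → X → ℤ) (c : ℤ) (ε : ℤ) (θ : I → X) (w : X → ℤ) (hε : ε = 1 ∨ ε = -1)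
    (hgram : ∀ i, ∑ x, n i x * n i x = c + 1)
    (hn : ∀ i x, n i x = w x + if x = θ i then ε else 0) (i : I) :
    ∑ x, w x ^ 2 + 2 * ε * w (θ i) = c := by
  have h1 := hgram i
  have h2 : ∀ x, n i x * n i x = w x ^ 2 + 2 * ε * ((if x = θ i then 1 else 0) * w x)
      + ε ^ 2 * ((if x = θ i then 1 else 0) * (if x = θ i then 1 else 0)) := by
    intro x
    rw [hn i x]
    split_ifs <;> ring
  have h3 : ∑ x, (if x = θ i then (1 : ℤ) else 0) * w x = w (θ i) := by
    rw [Finset.sum_eq_single (θ i)]
    · rw [if_pos rfl, one_mul]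
    · intro b _ hb
      rw [if_neg hb, zero_mul]
    · intro h; exact absurd (Finset.mem_univ _) h
  simp only [h2, Finset.sum_add_distrib, ← Finset.mul_sum, exc_sum_ind_mul, if_pos, h3] at h1
  have : ε ^ 2 = 1 := by rcases hε with h | h <;> rw [h] <;> norm_num
  rw [this] at h1
  linarith

end Cfsg.Agent.Lib.Helper26
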