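import Mathlib
import Cfsg.Agent.Lib.Helper26.ExcMain

/-!
Post-processing of the exceptional character structure theorem for simple groups.
-/

set_option autoImplicit false
set_option linter.style.haveILetI false
set_option linter.unusedSectionVars false
set_option linter.unusedVariables false

namespace Cfsg.Agent.Lib.Helper26

open scoped ComplexConjugate commutatorElement
open Cfsg.Agent.Lib.Helper11 Cfsg.Agent.Lib.helper7 Cfsg.Agent.Lib.Helper25 Cfsg.Agent.Lib.helper2

/-- a nonabelian simple group is perfect -/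
theorem exc_perfect {G : Type*} [Group G] [IsSimpleGroup G] (hnc : ¬ IsMulCommutative G) :
    commutator G = ⊤ := by
  rcases IsSimpleGroup.eq_bot_or_eq_top_of_normal (commutator G) inferInstance with h | h
  · exfalso
    apply hnc
    constructor
    constructor
    intro a b
    have h1 : ⁅a, b⁆ ∈ commutator G := Subgroup.commutator_mem_commutator
      (Subgroup.mem_top a) (Subgroup.mem_top b)
    rw [h, Subgroup.mem_bot, commutatorElement_eq_one_iff_mul_comm] at h1
    exact h1
  · exact h

/-- in a nonabelian simple group the only linear character is the trivial one -/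
theorem exc_linear_trivial {G : Type*} [Group G] [IsSimpleGroup G] (hnc : ¬ IsMulCommutative G)
    (χ : Cfsg.IrrCharacter G) (h1 : Cfsg.charDegree (χ : G → ℂ) = 1) : χ = trivIrr G := by
  have h2 : (χ : G → ℂ) 1 = 1 := by
    rw [← (charDegree_irr χ).1, h1, Nat.cast_one]
  apply Subtype.ext
  funext g
  rw [trivIrr_apply]
  apply irr_linear_commutator χ h2
  rw [exc_perfect hnc]
  exact Subgroup.mem_top g

theorem exc_degree_triv (G : Type*) [Group G] : Cfsg.charDegree (trivIrr G : G → ℂ) = 1 := by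
  have h := (charDegree_irr (trivIrr G)).1
  rw [trivIrr_apply] at h
  exact_mod_cast h

theorem exc_sum_two_support {X : Type*} [Fintype X] [DecidableEq X] (u d : X → ℤ) (x y : X)
    (hxy : x ≠ y) (h : ∀ z, z ≠ x → z ≠ y → u z = 0) :
    ∑ z, u z * d z = u x * d x + u y * d y := by
  apply Finset.sum_eq_add x y hxy
  · intro c _ hc
    rw [h c hc.1 hc.2, zero_mul]
  · intro h; exact absurd (Finset.mem_univ x) h
  · intro h; exact absurd (Finset.mem_univ y) h

/-- with enough exceptional characters, the common coefficient `a` vanishes -/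
theorem exc_a_zero {X : Type*} [Fintype X] [DecidableEq X] (S : Finset X) (w : X → ℤ)
    (x₀ : X) (a ε : ℤ) (e t : ℕ) (hε : ε = 1 ∨ ε = -1) (hS : S.card = t) (hx₀ : x₀ ∉ S)
    (hw₀ : w x₀ = 1) (hwa : ∀ x ∈ S, w x = a) (hnorm : ∑ x, w x ^ 2 + 2 * ε * a = (e : ℤ))
    (hte : e + 2 ≤ t) : a = 0 := by
  have h1 : ∑ x ∈ insert x₀ S, w x ^ 2 ≤ ∑ x, w x ^ 2 :=
    Finset.sum_le_univ_sum_of_nonneg (fun x => sq_nonneg _)
  rw [Finset.sum_insert hx₀, hw₀] at h1
  have h2 : ∑ x ∈ S, w x ^ 2 = (t : ℤ) * a ^ 2 := by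
    rw [Finset.sum_congr rfl (fun x hx => by rw [hwa x hx]), Finset.sum_const, hS, nsmul_eq_mul]
  rw [h2] at h1
  by_contra ha
  have ha2 : 1 ≤ a ^ 2 := by
    have : a ≤ -1 ∨ 1 ≤ a := by omega
    rcases this with h | h <;> nlinarith
  have hte' : (e : ℤ) + 2 ≤ (t : ℤ) := by exact_mod_cast hte
  have h3 : 0 ≤ ((t : ℤ) - 1) * (a ^ 2 - 1) := by
    apply mul_nonneg <;> linarith [Int.natCast_nonneg e]
  rcases hε with h | h <;> rw [h] at hnorm
  · nlinarith [sq_nonneg (a + 1)]
  · nlinarith [sq_nonneg (a - 1)]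

end Cfsg.Agent.Lib.Helper26
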