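import Mathlib
import Cfsg.Agent.Lib.Helper26.ExcFinal
import Cfsg.Agent.Lib.Helper24.Cdc1
import Cfsg.Agent.Lib.helper23.OrdGen3

/-!
No simple group of order 3744, via exceptional characters for the prime 13.
-/

set_option autoImplicit false
set_option linter.style.haveILetI false
set_option linter.unusedSectionVars false
set_option linter.unusedVariables false

namespace Cfsg.Agent.Lib.Helper26

open scoped ComplexConjugate
open Cfsg.Agent.Lib.Helper11 Cfsg.Agent.Lib.helper7 Cfsg.Agent.Lib.Helper25 Cfsg.Agent.Lib.helper2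
open Cfsg.Agent.Lib.helper8 Cfsg.Agent.Lib.helper23 Cfsg.Agent.Lib.Helper24

theorem o3744_arith (d₁ d₀ : ℕ) (c ε m m' : ℤ) (hc : c = 1 ∨ c = -1) (hε : ε = 1 ∨ ε = -1)
    (hd₁ : d₁ ∣ 3744) (hd₀ : d₀ ∣ 3744) (hd₁1 : d₁ ≠ 1)
    (h1 : (d₁ : ℤ) = 13 * m - 2 * (6 * c))
    (h0 : (d₀ : ℤ) = 13 * m' - 2 * (6 * 0 + ε))
    (hdeg : 1 + c * d₁ + ε * d₀ = 0) : False := by
  have hmem : d₁ ∈ Nat.divisors 3744 := Nat.mem_divisors.mpr ⟨hd₁, by norm_num⟩
  rcases hc with hc | hc
  · subst hc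
    have hmod : d₁ % 13 = 1 := by omega
    have hmem' : d₁ ∈ (Nat.divisors 3744).filter (fun d => d % 13 = 1) :=
      Finset.mem_filter.mpr ⟨hmem, hmod⟩
    have e1 : (Nat.divisors 3744).filter (fun d => d % 13 = 1) = {1, 144} := by
      decide +kernel
    rw [e1] at hmem'
    simp only [Finset.mem_insert, Finset.mem_singleton] at hmem'
    rcases hmem' with h | h
    · exact hd₁1 h
    · subst h
      rcases hε with hε | hε
      · subst hε
        omega
      · subst hε
        have : d₀ = 145 := by omega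
        subst this
        norm_num at hd₀
  · subst hc
    have hmod : d₁ % 13 = 12 := by omega
    have hmem' : d₁ ∈ (Nat.divisors 3744).filter (fun d => d % 13 = 12) :=
      Finset.mem_filter.mpr ⟨hmem, hmod⟩
    have e1 : (Nat.divisors 3744).filter (fun d => d % 13 = 12) = {12} := by
      decide +kernel
    rw [e1] at hmem'
    simp only [Finset.mem_singleton] at hmem'
    subst hmem'
    rcases hε with hε | hε
    · subst hε
      have : d₀ = 11 := by omega
      subst this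
      norm_num at hd₀
    · subst hε
      omega

/-- the support of `w` when its squared norm is two and it takes the value one at `x₀` -/
theorem exc_support_two {X : Type*} [Fintype X] [DecidableEq X] (w : X → ℤ) (x₀ : X)
    (hw₀ : w x₀ = 1) (h2 : ∑ x, w x ^ 2 = 2) :
    ∃ x₁, x₁ ≠ x₀ ∧ (w x₁ = 1 ∨ w x₁ = -1) ∧ ∀ z, z ≠ x₀ → z ≠ x₁ → w z = 0 := by
  obtain ⟨x, y, hxy, hx, hy, hz⟩ := exc_norm_two w h2
  by_cases h1 : x₀ = x
  · subst h1
    exact ⟨y, hxy.symm, hy, hz⟩
  · by_cases h2' : x₀ = y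
    · subst h2'
      exact ⟨x, hxy, hx, fun z hz1 hz2 => hz z hz2 hz1⟩
    · exfalso
      have := hz x₀ h1 h2'
      rw [hw₀] at this
      norm_num at this

theorem o3744_main {G : Type*} [Group G] [Finite G] [IsSimpleGroup G]
    (hG : Nat.card G = 3744) : False := by
  classical
  haveI : Fact (Nat.Prime 13) := ⟨by norm_num⟩
  haveI : Fintype G := Fintype.ofFinite G
  haveI : Fintype (Cfsg.IrrCharacter G) := Fintype.ofFinite _
  have hnc : ¬ IsMulCommutative G := h8_not_comm_of_card (by rw [hG]; norm_num)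
  have hG13 : Nat.card G = 13 ^ 1 * 288 := by rw [hG]; norm_num
  have hnd : ¬ 13 ∣ 288 := by norm_num
  obtain ⟨P⟩ : Nonempty (Sylow 13 G) := inferInstance
  obtain ⟨hP, hN, hX, r, hr12, hr1, hC⟩ := og3_sylow_data 13 288 hG13 hnd (by norm_num) P
  have h1 := h8_nsylow_mem (G := G) 13 1 288 hG13 hnd
  have e : (Nat.divisors 288).filter (fun d => d % 13 = 1) = {1, 144} := by
    decide +kernel
  rw [e] at h1
  simp only [Finset.mem_insert, Finset.mem_singleton] at h1
  have h2 := h8_simple_nsylow_ne_one (G := G) 13 1 288 hG13 hnd (by norm_num) (by norm_num)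
  have hn : Nat.card (Sylow 13 G) = 144 := by
    rcases h1 with h1 | h1
    · exact absurd h1 h2
    · exact h1
  rw [hG, hn] at hN
  have hN26 : Nat.card (Subgroup.normalizer ((P : Subgroup G) : Set G)) = 13 * 2 := by omega
  have hr2 : r = 2 := by
    have h3 : r ∣ 26 := by
      refine ⟨Nat.card (Subgroup.centralizer ((P : Subgroup G) : Set G)), ?_⟩
      rw [mul_comm, hC, hN26]
    have h4 : r ∣ Nat.gcd 26 12 := Nat.dvd_gcd h3 hr12
    have h5 : Nat.gcd 26 12 = 2 := by norm_num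
    rw [h5] at h4
    have h6 : r ≤ 2 := Nat.le_of_dvd (by norm_num) h4
    have h7 : r ≠ 0 := by
      intro h
      rw [h] at h4
      norm_num at h4
    omega
  have hC13 : Nat.card (Subgroup.centralizer ((P : Subgroup G) : Set G)) = 13 := by
    rw [hr2, hN26] at hC
    omega
  haveI : Fintype ((P : Subgroup G)) := Fintype.ofFinite _
  obtain ⟨ε, S, w, a, hε, hS, hwa, hnorm, hdeg, hcS, hcN, hw1, htS⟩ :=
    exc_main (P : Subgroup G) (p := 13) (e := 2) (t := 6) hP hC13 hN26 (by norm_num)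
      (by norm_num)
  have ha : a = 0 := exc_a_zero S w (trivIrr G) a ε 2 6 hε hS htS hw1 hwa hnorm (by norm_num)
  subst ha
  have hnorm2 : ∑ χ, w χ ^ 2 = 2 := by
    have : ((2 : ℕ) : ℤ) = 2 := by norm_num
    rw [this] at hnorm
    linarith
  obtain ⟨χ₁, hχ₁, hc, hz⟩ := exc_support_two w (trivIrr G) hw1 hnorm2
  have hχ₁S : χ₁ ∉ S := by
    intro h
    have := hwa χ₁ h
    rcases hc with hc | hc <;> rw [hc] at this <;> norm_num at this
  obtain ⟨θ, hθ⟩ : S.Nonempty := by
    rw [← Finset.card_pos, hS]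
    norm_num
  have hsum := exc_sum_two_support w
    (fun χ : Cfsg.IrrCharacter G => (Cfsg.charDegree (χ : G → ℂ) : ℤ)) (trivIrr G) χ₁
    (Ne.symm hχ₁) hz
  have hd := hdeg θ hθ
  rw [hsum, hw1, exc_degree_triv] at hd
  obtain ⟨m, hm⟩ := hcN χ₁ hχ₁S
  obtain ⟨m', hm'⟩ := hcS θ hθ
  rw [hwa θ hθ] at hm'
  have hd₁ : Cfsg.charDegree (χ₁ : G → ℂ) ∣ 3744 := by
    rw [← hG]
    exact cdc_degree_dvd χ₁
  have hd₀ : Cfsg.charDegree (θ : G → ℂ) ∣ 3744 := by
    rw [← hG]
    exact cdc_degree_dvd θ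
  have hd₁1 : Cfsg.charDegree (χ₁ : G → ℂ) ≠ 1 := by
    intro h
    exact hχ₁ (exc_linear_trivial hnc χ₁ h)
  refine o3744_arith (Cfsg.charDegree (χ₁ : G → ℂ)) (Cfsg.charDegree (θ : G → ℂ)) (w χ₁) ε m m'
    hc hε hd₁ hd₀ hd₁1 ?_ ?_ ?_
  · rw [hm]
    push_cast
    ring
  · rw [hm']
    push_cast
    ring
  · push_cast at hd
    linarith

end Cfsg.Agent.Lib.Helper26
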