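import Cfsg.Agent.Lib.Helper1.SLK.Defs

set_option autoImplicit false

namespace Cfsg.Agent.Lib.Helper1.SLK

open Polynomial
open Cfsg.Agent.Lib.Helper29.GLK

universe u

theorem index_dvd_of_forall_pow_mem {A : Type*} [CommGroup A] [IsCyclic A] [Finite A]
    (H : Subgroup A) (r : ℕ) (h : ∀ a : A, a ^ r ∈ H) : H.index ∣ r := by
  have hcyc : IsCyclic (A ⧸ H) :=
    isCyclic_of_surjective (QuotientGroup.mk' H) (QuotientGroup.mk'_surjective H)
  rw [Subgroup.index_eq_card, ← IsCyclic.exponent_eq_card]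
  apply Monoid.exponent_dvd_of_forall_pow_eq_one
  intro q
  induction q using QuotientGroup.induction_on with
  | H a =>
    rw [← QuotientGroup.mk_pow, QuotientGroup.eq_one_iff]
    exact h a

end Cfsg.Agent.Lib.Helper1.SLK
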