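import Cfsg.Agent.Lib.Helper1.SLK.Defs
import Cfsg.Agent.Lib.Helper24.GLKM1

set_option autoImplicit false

namespace Cfsg.Agent.Lib.Helper1.SLK

open Polynomial
open Cfsg.Agent.Lib.Helper29.GLK

universe u

/-- A6 core: the statements of A4 (`det_decomp`) and A5 (`tdet_regroup`) as hypotheses. -/
theorem slka6_core {F : Type u} [Field F] [DecidableEq F] {n : ℕ}
    (x : Matrix.GeneralLinearGroup (Fin n) F)
    (hA4 : ∀ {ι : Type u} [Fintype ι] (p : ι → F[X]) (e : ι → ℕ), (∀ j, Irreducible (p j)) →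
      (gMod x ≃ₗ[F[X]] DirectSum ι fun j => F[X] ⧸ Ideal.span {p j ^ e j}) →
      (x : Matrix (Fin n) (Fin n) F).det =
        ∏ j, ((-1) ^ (p j).natDegree * (normalize (p j)).coeff 0) ^ e j)
    (hA5 : ∀ {ι : Type u} [Fintype ι] (p : ι → F[X]) (e : ι → ℕ) (G : ℕ → F[X]),
      (∀ j, p j ≠ 0) → (∀ j, e j ≠ 0 ∧ e j ≤ n) →
      (∀ i : ℕ, G i = ∏ j ∈ Finset.univ.filter (fun j => e j = i + 1), normalize (p j)) →
      ∏ j, ((-1) ^ (p j).natDegree * (normalize (p j)).coeff 0) ^ e j =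
        tdet (fun i : Fin n => G i))
    (G : ℕ → F[X]) (h : IsInv x G) :
    (x : Matrix (Fin n) (Fin n) F).det = tdet (fun i : Fin n => G i) := by
  obtain ⟨ι, hι, p, e, hp, he, ⟨Φ⟩, hG⟩ := h
  have hsum := decomp_finrank x p e hp Φ
  have hle : ∀ j, e j ≤ n := by
    intro j
    have hpos : 0 < (p j).natDegree := (hp j).natDegree_pos
    have h1 : e j ≤ e j * (p j).natDegree := Nat.le_mul_of_pos_right _ hpos
    have h2 : e j * (p j).natDegree ≤ ∑ j, e j * (p j).natDegree :=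
      Finset.single_le_sum (f := fun j => e j * (p j).natDegree) (fun _ _ => Nat.zero_le _)
        (Finset.mem_univ j)
    rw [hsum] at h2
    exact le_trans h1 h2
  rw [hA4 p e hp Φ]
  exact hA5 p e G (fun j => (hp j).ne_zero) (fun j => ⟨he j, hle j⟩) hG

end Cfsg.Agent.Lib.Helper1.SLK
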