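import Cfsg.Agent.Lib.Helper1.SLK.Defs
import Cfsg.Agent.Lib.Helper1.SLKR1
import Cfsg.Agent.Lib.Helper29.SLKR2

set_option autoImplicit false

namespace Cfsg.Agent.Lib.Helper1.SLK

open Polynomial
open Cfsg.Agent.Lib.Helper29.GLK

universe u

/-- pure arithmetic: `m ^ 2 ≤ 1 + ∑_{1 < d ∣ D, d ∣ E} (d ^ 2 - 1)` for `m = gcd E Q ∣ D ≠ 0`. -/
theorem slkr3_sq_le (D E m : ℕ) (hD : D ≠ 0) (hmD : m ∣ D) (hmE : m ∣ E) :
    m ^ 2 ≤ 1 + ∑ d ∈ (Nat.divisors D).filter (fun d => 1 < d),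
      (if d ∣ E then d ^ 2 - 1 else 0) := by
  have hm0 : m ≠ 0 := fun h0 => hD (by rw [h0] at hmD; exact Nat.eq_zero_of_zero_dvd hmD)
  rcases Nat.lt_or_ge 1 m with hm | hm
  · have hmem : m ∈ (Nat.divisors D).filter (fun d => 1 < d) := by
      rw [Finset.mem_filter, Nat.mem_divisors]
      exact ⟨⟨hmD, hD⟩, hm⟩
    have h1 : (if m ∣ E then m ^ 2 - 1 else 0) ≤
        ∑ d ∈ (Nat.divisors D).filter (fun d => 1 < d), (if d ∣ E then d ^ 2 - 1 else 0) :=
      Finset.single_le_sum (f := fun d => if d ∣ E then d ^ 2 - 1 else 0)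
        (fun _ _ => Nat.zero_le _) hmem
    rw [if_pos hmE] at h1
    have h2 : 1 ≤ m ^ 2 := Nat.one_le_pow _ _ (Nat.pos_of_ne_zero hm0)
    omega
  · have h1 : m = 1 := by omega
    rw [h1]
    simp

/-- R3 core: the statements of R1 and R2 (for this `n`) as hypotheses. -/
theorem slkr3_core {F : Type u} [Field F] [Fintype F] (n : ℕ)
    (hR1 : ∀ T : Fin n → F[X], T ∈ tupSet F n 1 n → tE T ∣ n)
    (hR2 : ∀ d : ℕ, d ≠ 0 → d ∣ n →
      ((tupFin F n).filter (fun T => d ∣ tE T)).card ≤ (tupFin F (n / d)).card) :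
    ∑ T ∈ tupFin F n, tg (Fintype.card F) T ^ 2 ≤
      (tupFin F n).card +
        ∑ d ∈ (Nat.divisors (Nat.gcd n (Fintype.card F - 1))).filter (fun d => 1 < d),
          (d ^ 2 - 1) * (tupFin F (n / d)).card := by
  set D : ℕ := Nat.gcd n (Fintype.card F - 1) with hDdef
  have hq : Fintype.card F - 1 ≠ 0 := by
    have := Fintype.one_lt_card (α := F)
    omega
  have hD : D ≠ 0 := by
    intro h0
    rw [hDdef, Nat.gcd_eq_zero_iff] at h0
    exact hq h0.2
  have hDn : D ∣ n := Nat.gcd_dvd_left _ _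
  -- pointwise bound
  have hpt : ∀ T ∈ tupFin F n, tg (Fintype.card F) T ^ 2 ≤
      1 + ∑ d ∈ (Nat.divisors D).filter (fun d => 1 < d),
        (if d ∣ tE T then d ^ 2 - 1 else 0) := by
    intro T hT
    have hTn : tE T ∣ n := hR1 T (mem_tupFin.1 hT)
    have hmD : tg (Fintype.card F) T ∣ D := by
      unfold tg
      exact Nat.dvd_gcd (dvd_trans (Nat.gcd_dvd_left _ _) hTn) (Nat.gcd_dvd_right _ _)
    have hmE : tg (Fintype.card F) T ∣ tE T := by
      unfold tg
      exact Nat.gcd_dvd_left _ _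
    exact slkr3_sq_le D (tE T) _ hD hmD hmE
  calc ∑ T ∈ tupFin F n, tg (Fintype.card F) T ^ 2
      ≤ ∑ T ∈ tupFin F n, (1 + ∑ d ∈ (Nat.divisors D).filter (fun d => 1 < d),
          (if d ∣ tE T then d ^ 2 - 1 else 0)) := Finset.sum_le_sum hpt
    _ = (tupFin F n).card + ∑ d ∈ (Nat.divisors D).filter (fun d => 1 < d),
          ∑ T ∈ tupFin F n, (if d ∣ tE T then d ^ 2 - 1 else 0) := by
        rw [Finset.sum_add_distrib, Finset.sum_comm]
        simp
    _ = (tupFin F n).card + ∑ d ∈ (Nat.divisors D).filter (fun d => 1 < d),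
          (d ^ 2 - 1) * ((tupFin F n).filter (fun T => d ∣ tE T)).card := by
        congr 1
        apply Finset.sum_congr rfl
        intro d _
        rw [← Finset.sum_filter, Finset.sum_const, smul_eq_mul, mul_comm]
    _ ≤ (tupFin F n).card + ∑ d ∈ (Nat.divisors D).filter (fun d => 1 < d),
          (d ^ 2 - 1) * (tupFin F (n / d)).card := by
        apply Nat.add_le_add_left
        apply Finset.sum_le_sum
        intro d hd
        rw [Finset.mem_filter, Nat.mem_divisors] at hd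
        apply Nat.mul_le_mul_left
        apply hR2 d
        · omega
        · exact dvd_trans hd.1.1 hDn

theorem sq_sum_le {F : Type u} [Field F] [Fintype F] (n : ℕ) :
    ∑ T ∈ tupFin F n, tg (Fintype.card F) T ^ 2 ≤
      (tupFin F n).card +
        ∑ d ∈ (Nat.divisors (Nat.gcd n (Fintype.card F - 1))).filter (fun d => 1 < d),
          (d ^ 2 - 1) * (tupFin F (n / d)).card :=
  slkr3_core n (fun T hT => tE_dvd T hT) (fun d hd hdn => card_filter_dvd_le n d hd hdn)

end Cfsg.Agent.Lib.Helper1.SLK
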