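import Cfsg.Agent.Lib.Helper1.PLK.Defs

set_option autoImplicit false

namespace Cfsg.Agent.Lib.Helper1.PLK

open Polynomial
open Cfsg.Agent.Lib.Helper29.GLK
open Cfsg.Agent.Lib.Helper1.SLK

universe u

/-- second copy of row Z1b (`exists_orbit_equiv`), exact Skel statement, own name. -/
theorem plkz1b_h26_orbit_equiv (S : Type*) [Group S] :
    letI := czAction S
    Nonempty (MulAction.orbitRel.Quotient (Subgroup.center S) (ConjClasses S) ≃
      ConjClasses (S ⧸ Subgroup.center S)) := by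
  let _ := czAction S
  let π : S →* S ⧸ Subgroup.center S := QuotientGroup.mk' (Subgroup.center S)
  let f : ConjClasses S → ConjClasses (S ⧸ Subgroup.center S) := ConjClasses.map π
  have hsmul : ∀ (z : Subgroup.center S) (x : S),
      z • (ConjClasses.mk x : ConjClasses S) = ConjClasses.mk ((z : S) * x) :=
    fun z x => czSmul_mk z x
  have hf : ∀ a b : ConjClasses S,
      (MulAction.orbitRel (Subgroup.center S) (ConjClasses S)) a b → f a = f b := by
    intro a b h
    rw [MulAction.orbitRel_apply, MulAction.mem_orbit_iff] at h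
    obtain ⟨z, rfl⟩ := h
    obtain ⟨x, rfl⟩ := ConjClasses.mk_surjective b
    rw [hsmul]
    show ConjClasses.mk (π ((z : S) * x)) = ConjClasses.mk (π x)
    congr 1
    rw [map_mul]
    have : π (z : S) = 1 := (QuotientGroup.eq_one_iff _).2 z.2
    rw [this, one_mul]
  let F : MulAction.orbitRel.Quotient (Subgroup.center S) (ConjClasses S) →
      ConjClasses (S ⧸ Subgroup.center S) := Quotient.lift f hf
  have hFmk : ∀ x : S, F (Quotient.mk _ (ConjClasses.mk x)) = ConjClasses.mk (π x) :=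
    fun _ => rfl
  refine ⟨Equiv.ofBijective F ⟨?_, ?_⟩⟩
  · intro A B hAB
    induction A using Quotient.inductionOn with
    | h a =>
    induction B using Quotient.inductionOn with
    | h b =>
    obtain ⟨x, rfl⟩ := ConjClasses.mk_surjective a
    obtain ⟨y, rfl⟩ := ConjClasses.mk_surjective b
    rw [hFmk, hFmk, ConjClasses.mk_eq_mk_iff_isConj, isConj_iff] at hAB
    obtain ⟨g', hg'⟩ := hAB
    obtain ⟨g, rfl⟩ := QuotientGroup.mk'_surjective (Subgroup.center S) g'
    have h1 : π (g * x * g⁻¹) = π y := by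
      rw [map_mul, map_mul, map_inv]
      exact hg'
    have h2 : (g * x * g⁻¹)⁻¹ * y ∈ Subgroup.center S := QuotientGroup.eq.1 h1
    apply Quotient.sound
    show (MulAction.orbitRel (Subgroup.center S) (ConjClasses S)) _ _
    rw [MulAction.orbitRel_apply, MulAction.mem_orbit_iff]
    -- `[x] = z⁻¹ • [y]`
    refine ⟨⟨(g * x * g⁻¹)⁻¹ * y, h2⟩⁻¹, ?_⟩
    rw [hsmul, ConjClasses.mk_eq_mk_iff_isConj, isConj_iff]
    refine ⟨g⁻¹, ?_⟩
    have hz : (g * x * g⁻¹) * ((g * x * g⁻¹)⁻¹ * y) = ((g * x * g⁻¹)⁻¹ * y) * (g * x * g⁻¹) :=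
      Subgroup.mem_center_iff.1 h2 (g * x * g⁻¹)
    have hy : y = ((g * x * g⁻¹)⁻¹ * y) * (g * x * g⁻¹) := by
      rw [← hz]
      group
    show g⁻¹ * (((⟨(g * x * g⁻¹)⁻¹ * y, h2⟩ : Subgroup.center S)⁻¹ : Subgroup.center S) * y) *
      g⁻¹⁻¹ = x
    rw [Subgroup.coe_inv]
    show g⁻¹ * (((g * x * g⁻¹)⁻¹ * y)⁻¹ * y) * g⁻¹⁻¹ = x
    have key : ∀ c a : S, y = c * a → c⁻¹ * y = a := by
      intro c a h
      rw [h, inv_mul_cancel_left]
    have hcy : ((g * x * g⁻¹)⁻¹ * y)⁻¹ * y = g * x * g⁻¹ := key _ _ hy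
    rw [hcy]
    group
  · intro C
    obtain ⟨x', rfl⟩ := ConjClasses.mk_surjective C
    obtain ⟨x, rfl⟩ := QuotientGroup.mk'_surjective (Subgroup.center S) x'
    exact ⟨Quotient.mk _ (ConjClasses.mk x), hFmk x⟩

end Cfsg.Agent.Lib.Helper1.PLK
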