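import Cfsg.Agent.Lib.Helper1.PLK.Defs

set_option autoImplicit false

namespace Cfsg.Agent.Lib.Helper1.PLK

open Polynomial
open Cfsg.Agent.Lib.Helper29.GLK
open Cfsg.Agent.Lib.Helper1.SLK

universe u

/-- Z1c core: the statements of Z1a (`czFix_eq_fixedBy`) and Z1b (`exists_orbit_equiv`) for `S` as
hypotheses. -/
theorem plkz1c_core (S : Type*) [Group S] [Finite S]
    (hZ1a : ∀ z : Subgroup.center S,
      letI := czAction S
      MulAction.fixedBy (ConjClasses S) z = czFix (z : S))
    (hZ1b : letI := czAction S
      Nonempty (MulAction.orbitRel.Quotient (Subgroup.center S) (ConjClasses S) ≃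
        ConjClasses (S ⧸ Subgroup.center S))) :
    Nat.card (Subgroup.center S) * Nat.card (ConjClasses (S ⧸ Subgroup.center S)) =
      ∑ᶠ z : Subgroup.center S, (czFix (z : S)).ncard := by
  classical
  let _ := czAction S
  have : Fintype S := Fintype.ofFinite S
  have : Fintype (Subgroup.center S) := Fintype.ofFinite _
  have : Fintype (ConjClasses S) := Fintype.ofFinite _
  have : ∀ a : Subgroup.center S, Fintype (MulAction.fixedBy (ConjClasses S) a) :=
    fun a => Fintype.ofFinite _
  have : Fintype (Quotient (MulAction.orbitRel (Subgroup.center S) (ConjClasses S))) :=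
    Fintype.ofFinite _
  obtain ⟨e⟩ := hZ1b
  have hB := MulAction.sum_card_fixedBy_eq_card_orbits_mul_card_group (Subgroup.center S)
    (ConjClasses S)
  rw [finsum_eq_sum_of_fintype]
  have h1 : ∀ z : Subgroup.center S, (czFix (z : S)).ncard =
      Fintype.card (MulAction.fixedBy (ConjClasses S) z) := by
    intro z
    rw [← hZ1a z, ← Nat.card_coe_set_eq, Nat.card_eq_fintype_card]
  rw [Finset.sum_congr rfl (fun z _ => h1 z), hB, ← Nat.card_congr e, Nat.card_eq_fintype_card,
    Nat.card_eq_fintype_card, mul_comm]

end Cfsg.Agent.Lib.Helper1.PLK
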