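import Cfsg.Agent.Lib.Helper1.PLK.Defs
import Cfsg.Agent.Lib.Helper26.PLKZ1ccore
import Cfsg.Agent.Lib.Helper26.PLKZ1bh26
import Cfsg.Agent.Lib.Helper20.PLKZ1a

set_option autoImplicit false

namespace Cfsg.Agent.Lib.Helper1.PLK

open Polynomial
open Cfsg.Agent.Lib.Helper29.GLK
open Cfsg.Agent.Lib.Helper1.SLK

universe u

theorem center_burnside (S : Type*) [Group S] [Finite S] :
    Nat.card (Subgroup.center S) * Nat.card (ConjClasses (S ⧸ Subgroup.center S)) =
      ∑ᶠ z : Subgroup.center S, (czFix (z : S)).ncard :=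
  plkz1c_core S (fun z => czFix_eq_fixedBy z) (plkz1b_h26_orbit_equiv S)

end Cfsg.Agent.Lib.Helper1.PLK
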