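import Mathlib
import Cfsg.Agent.Lib.helper7.REE.Defs
import Cfsg.Agent.S0058

/-! REE row GEND (`four_complement`), helper26: Burnside's normal 2-complement for a four-group Sylow subgroup `V` of `C` with
`N_C(V) = C_C(V)` (Mathlib `MonoidHom.ker_transferSylow_isComplement'`), the complement is generated by the `C_K(v)`, `v ∈ V#`
(landed S0058), hence contained in `A`. -/

set_option autoImplicit false

namespace Cfsg.Agent.Lib.helper7.REE

open Matrix Polynomial Cfsg.Agent.Lib.helper8

universe u v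

section GEN

variable {G : Type u} [Group G] [Finite G]

/-- a group of exponent 2 is commutative -/
theorem reegend_comm (V : Subgroup G) (hVexp : ∀ v ∈ V, v * v = 1) (a b : G) (ha : a ∈ V) (hb : b ∈ V) :
    a * b = b * a := by
  have e1 := hVexp a ha
  have e2 := hVexp b hb
  have e3 := hVexp (a * b) (V.mul_mem ha hb)
  have ha' : a⁻¹ = a := inv_eq_of_mul_eq_one_left e1
  have hb' : b⁻¹ = b := inv_eq_of_mul_eq_one_left e2
  have hab' : (a * b)⁻¹ = a * b := inv_eq_of_mul_eq_one_left e3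
  rw [_root_.mul_inv_rev, ha', hb'] at hab'
  exact hab'.symm

/-- GEND. -/
theorem four_complement (C V A : Subgroup G) (hVC : V ≤ C) (hAC : A ≤ C)
    (hV4 : Nat.card V = 4) (hVexp : ∀ v ∈ V, v * v = 1)
    (hsyl : ¬ 2 ∣ Nat.card C / 4)
    (hNC : ∀ g ∈ C, (∀ v ∈ V, g * v * g⁻¹ ∈ V) → ∀ v ∈ V, g * v = v * g)
    (hodd : ∀ x ∈ C, Odd (orderOf x) → (∃ v ∈ V, v ≠ 1 ∧ x * v = v * x) → x ∈ A) :
    ∀ x ∈ C, ∃ v ∈ V, ∃ a ∈ A, x = v * a := by
  have hcardV' : Nat.card (V.subgroupOf C) = 4 := by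
    rw [← hV4]
    exact Nat.card_congr (Subgroup.subgroupOfEquivOfLe hVC).toEquiv
  have hpg : IsPGroup 2 (V.subgroupOf C) := IsPGroup.of_card (n := 2) (by rw [hcardV']; norm_num)
  have hidx : ¬ 2 ∣ (V.subgroupOf C).index := by
    have h1 := Subgroup.card_mul_index (V.subgroupOf C)
    rw [hcardV'] at h1
    have h2 : (V.subgroupOf C).index = Nat.card C / 4 := by
      rw [← h1]
      exact (Nat.mul_div_cancel_left _ (by norm_num)).symm
    rw [h2]
    exact hsyl
  let P : Sylow 2 ↥C := hpg.toSylow hidx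
  have hPV : ∀ g : ↥C, g ∈ (P : Subgroup ↥C) ↔ (g : G) ∈ V := by
    intro g
    show g ∈ hpg.toSylow hidx ↔ _
    rw [IsPGroup.mem_toSylow, Subgroup.mem_subgroupOf]
  have hP : Subgroup.normalizer ((P : Subgroup ↥C) : Set ↥C) ≤
      Subgroup.centralizer ((P : Subgroup ↥C) : Set ↥C) := by
    intro g hg
    rw [Subgroup.mem_normalizer_iff] at hg
    rw [Subgroup.mem_centralizer_iff]
    have key := hNC (g : G) g.2 (fun v hv => by
      have h1 : (⟨v, hVC hv⟩ : ↥C) ∈ (P : Subgroup ↥C) := (hPV _).mpr hv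
      have h2 := (hg _).mp h1
      exact (hPV _).mp h2)
    intro h hh
    have hh' : (h : G) ∈ V := (hPV h).mp hh
    apply Subtype.ext
    exact (key (h : G) hh').symm
  have hcompl := MonoidHom.ker_transferSylow_isComplement' P hP
  have hKodd : ¬ 2 ∣ Nat.card (MonoidHom.transferSylow P hP).ker :=
    MonoidHom.not_dvd_card_ker_transferSylow P hP
  set Kc : Subgroup ↥C := (MonoidHom.transferSylow P hP).ker with hKc
  have hKn : Kc.Normal := MonoidHom.normal_ker _
  -- `V'` is abelian and not cyclic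
  have hcommP : IsMulCommutative ↥(P : Subgroup ↥C) :=
    ⟨⟨fun a b => Subtype.ext (Subtype.ext
      (reegend_comm V hVexp _ _ ((hPV a.1).mp a.2) ((hPV b.1).mp b.2)))⟩⟩
  have hcardP : Nat.card (P : Subgroup ↥C) = 4 := by
    have : ((P : Subgroup ↥C)) = V.subgroupOf C := IsPGroup.toSylow_coe hpg hidx
    rw [this, hcardV']
  have hncyc : ¬ IsCyclic ↥(P : Subgroup ↥C) := by
    intro hc
    obtain ⟨g, hg⟩ := hc.exists_generator
    have h1 : orderOf g = 4 := by
      rw [orderOf_eq_card_of_forall_mem_zpowers hg, hcardP]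
    have h2 : g * g = 1 := by
      apply Subtype.ext
      apply Subtype.ext
      exact hVexp _ ((hPV g.1).mp g.2)
    have h3 : orderOf g ∣ 2 := orderOf_dvd_of_pow_eq_one (by rw [pow_two, h2])
    rw [h1] at h3
    omega
  have hcop : (Nat.card (P : Subgroup ↥C)).Coprime (Nat.card Kc) := by
    rw [hcardP]
    have : Nat.Coprime 2 (Nat.card Kc) := (Nat.Prime.coprime_iff_not_dvd Nat.prime_two).mpr hKodd
    exact Nat.Coprime.pow_left 2 this
  have hnorm : (P : Subgroup ↥C) ≤ Subgroup.normalizer (Kc : Set ↥C) := by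
    rw [Subgroup.normalizer_eq_top]
    exact le_top
  have hgen := Cfsg.Agent.S0058.result (P : Subgroup ↥C) Kc hncyc hnorm hcop
  -- the complement lies in `A`
  have hKA : Kc ≤ A.subgroupOf C := by
    rw [← hgen]
    refine iSup₂_le fun a ha => ?_
    obtain ⟨haP, hane⟩ := ha
    intro k hk
    rw [Subgroup.mem_inf] at hk
    obtain ⟨hkK, hkc⟩ := hk
    rw [Subgroup.mem_subgroupOf]
    apply hodd (k : G) k.2
    · -- odd order
      have h1 : orderOf k ∣ Nat.card Kc := by
        have := orderOf_dvd_natCard (⟨k, hkK⟩ : ↥Kc)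
        rwa [Subgroup.orderOf_mk] at this
      rw [Subgroup.orderOf_coe]
      rw [← Nat.not_even_iff_odd, even_iff_two_dvd]
      intro h2
      exact hKodd (h2.trans h1)
    · refine ⟨(a : G), (hPV a).mp haP, ?_, ?_⟩
      · intro h
        exact hane (Subtype.ext h)
      · rw [Subgroup.mem_centralizer_iff] at hkc
        have := hkc a (Set.mem_singleton a)
        have h2 := congrArg Subtype.val this
        exact h2.symm
  -- conclusion
  intro x hx
  obtain ⟨⟨p, k⟩, hpk, -⟩ := (hcompl.symm).existsUnique (⟨x, hx⟩ : ↥C)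
  refine ⟨(p.1 : G), (hPV p.1).mp p.2, (k.1 : G), ?_, ?_⟩
  · have := hKA k.2
    rwa [Subgroup.mem_subgroupOf] at this
  · have := congrArg Subtype.val hpk
    exact this.symm

end GEN

end Cfsg.Agent.Lib.helper7.REE
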