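import Mathlib
import Cfsg.Agent.Lib.helper7.REE.Defs

/-! REE row G5D (`NV_basic`), helper26: core with the cited rows (G4H `V_basic`, G4I `A1_basic`, G4J `E_basic`, G4L `cent_V`,
G5B `rho_exists`, G5C `NV_fix`) as hypotheses, stated verbatim.  `N(V) = C(V) ⊔ ρ C(V) ⊔ ρ² C(V)` (an element of `N(V)` fixing
`t` centralises `V`), `A₁ = {x ∈ C(V) | x^((q+1)/4) = 1}` is characteristic in `C(V) ⊴ N(V)`, `E = V A₁`, `V = Ω₁(E)`. -/

set_option autoImplicit false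

namespace Cfsg.Agent.Lib.helper7.REE

open Matrix Cfsg.Agent.Lib.helper8

universe u v

namespace ReeAx

variable {G : Type u} [Group G] [Finite G] {K : Type v} [Field K] [Fintype K] {m : ℕ}

omit [Finite G] in
theorem reeg5d_conj_mul (g x y : G) : g * (x * y) * g⁻¹ = (g * x * g⁻¹) * (g * y * g⁻¹) := by
  group

/-- in a finite group, `g H g⁻¹ ⊆ H` implies `g ∈ N(H)` -/
theorem reeg5d_mem_normalizer (H : Subgroup G) (g : G) (h : ∀ x ∈ H, g * x * g⁻¹ ∈ H) :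
    g ∈ Subgroup.normalizer (H : Set G) := by
  rw [Subgroup.mem_normalizer_iff]
  intro x
  refine ⟨h x, fun hx => ?_⟩
  let φ : ↥H → ↥H := fun y => ⟨g * y.1 * g⁻¹, h y.1 y.2⟩
  have hinj : Function.Injective φ := by
    intro a b hab
    have h1 : g * a.1 * g⁻¹ = g * b.1 * g⁻¹ := congrArg Subtype.val hab
    exact Subtype.ext (mul_left_cancel (mul_right_cancel h1))
  obtain ⟨y, hy⟩ := (Finite.injective_iff_surjective.mp hinj) ⟨g * x * g⁻¹, hx⟩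
  have h1 : g * y.1 * g⁻¹ = g * x * g⁻¹ := congrArg Subtype.val hy
  have h2 : y.1 = x := mul_left_cancel (mul_right_cancel h1)
  rw [← h2]
  exact y.2

/-- G5D, core. -/
theorem reeg5d_core (R : ReeAx G K m)
    (hVb : (∀ v, v ∈ R.V ↔ v = 1 ∨ v = R.t ∨ v = R.n0 ∨ v = R.t * R.n0) ∧ Nat.card R.V = 4 ∧
      R.t * R.n0 = R.n0 * R.t ∧ R.t ≠ R.n0 ∧ R.n0 ≠ 1 ∧ R.t * R.n0 ≠ 1 ∧
      (∀ v ∈ R.V, v * v = 1) ∧ R.V ≤ R.E ∧ (∀ v ∈ R.V, v ∈ R.L → v = 1 ∨ v = R.n0))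
    (hA1b : (∀ a, a ∈ R.A1 ↔ a ∈ R.D ∧ a ^ ((qq m + 1) / 4) = 1) ∧ IsCyclic R.A1 ∧
      4 * Nat.card R.A1 = qq m + 1 ∧ R.A1 ≤ R.D ∧
      (∀ d ∈ R.D, d ∈ R.A1 ∨ ∃ a ∈ R.A1, d = R.n0 * a) ∧ R.V ⊓ R.A1 = ⊥ ∧
      (∀ a ∈ R.A1, Odd (orderOf a)))
    (hEb : Nat.card R.E = qq m + 1 ∧ (∀ e₁ ∈ R.E, ∀ e₂ ∈ R.E, e₁ * e₂ = e₂ * e₁) ∧
      (∀ e, e ∈ R.E ↔ ∃ v ∈ R.V, ∃ a ∈ R.A1, e = v * a) ∧
      (∀ e, e ∈ R.E ↔ e ∈ R.D ∨ ∃ d ∈ R.D, e = R.t * d) ∧
      (∀ e ∈ R.E, e ^ ((qq m + 1) / 2) = 1) ∧ (∀ e ∈ R.E, e * e = 1 → e ∈ R.V) ∧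
      (∀ e ∈ R.E, e ∉ R.V → e * e ∈ R.A1 ∧ e * e ≠ 1) ∧
      (∀ e ∈ R.E, Odd (orderOf e) → e ∈ R.A1) ∧
      R.A1 ≤ R.E ∧ R.D ≤ R.E)
    (hCVb : Nat.card (Subgroup.centralizer (R.V : Set G)) = 2 * (qq m + 1) ∧
      R.E ≤ Subgroup.centralizer (R.V : Set G) ∧
      (∀ x ∈ Subgroup.centralizer (R.V : Set G), x ^ ((qq m + 1) / 4) = 1 → x ∈ R.A1))
    (hrho : ∃ ρ : G, ρ * R.t * ρ⁻¹ = R.n0 ∧ ρ * R.n0 * ρ⁻¹ = R.t * R.n0)
    (hfix : ∀ g : G, (∀ v ∈ R.V, g * v * g⁻¹ ∈ R.V) →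
      (g * R.t * g⁻¹ = R.t ∨ g * R.n0 * g⁻¹ = R.n0 ∨
        g * (R.t * R.n0) * g⁻¹ = R.t * R.n0) → ∀ v ∈ R.V, g * v = v * g) :
    Nat.card (Subgroup.normalizer (R.V : Set G)) = 6 * (qq m + 1) ∧
    (∀ g ∈ Subgroup.normalizer (R.V : Set G), ∀ a ∈ R.A1, g * a * g⁻¹ ∈ R.A1) ∧
    (∀ g ∈ Subgroup.normalizer (R.V : Set G), ∀ e ∈ R.E, g * e * g⁻¹ ∈ R.E) ∧
    (∀ g : G, (∀ e ∈ R.E, g * e * g⁻¹ ∈ R.E) → g ∈ Subgroup.normalizer (R.V : Set G)) := by
  obtain ⟨hV, -, htn, htne, hn1, -, hVexp, hVE, -⟩ := hVb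
  obtain ⟨hA1, -⟩ := hA1b
  obtain ⟨-, -, hEiff, -, -, hEsq, -, -, hA1E, -⟩ := hEb
  obtain ⟨hCcard, hEC, hCA1⟩ := hCVb
  obtain ⟨ρ, hρt, hρn⟩ := hrho
  have htV : R.t ∈ R.V := (hV _).mpr (Or.inr (Or.inl rfl))
  have hnV : R.n0 ∈ R.V := (hV _).mpr (Or.inr (Or.inr (Or.inl rfl)))
  have htnV : R.t * R.n0 ∈ R.V := (hV _).mpr (Or.inr (Or.inr (Or.inr rfl)))
  -- membership in `N(V)`
  have hNmem : ∀ g : G, g ∈ Subgroup.normalizer (R.V : Set G) → ∀ v ∈ R.V, g * v * g⁻¹ ∈ R.V := by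
    intro g hg v hv
    exact (Subgroup.mem_normalizer_iff.mp hg v).mp hv
  -- membership in `C(V)`
  have hCmem : ∀ g : G, g ∈ Subgroup.centralizer (R.V : Set G) ↔ ∀ v ∈ R.V, g * v = v * g := by
    intro g
    rw [Subgroup.mem_centralizer_iff]
    constructor
    · intro h v hv
      exact (h v hv).symm
    · intro h v hv
      exact (h v hv).symm
  have hCN : Subgroup.centralizer (R.V : Set G) ≤ Subgroup.normalizer (R.V : Set G) :=
    Subgroup.centralizer_le_normalizer _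
  -- an element of `N(V)` fixing `t` centralises `V`
  have hfixt : ∀ g : G, g ∈ Subgroup.normalizer (R.V : Set G) → g * R.t * g⁻¹ = R.t →
      g ∈ Subgroup.centralizer (R.V : Set G) := by
    intro g hg hgt
    rw [hCmem]
    exact hfix g (hNmem g hg) (Or.inl hgt)
  -- `ρ ∈ N(V)`
  have hρρt : (ρ * ρ) * R.t * (ρ * ρ)⁻¹ = R.t * R.n0 := by
    have : (ρ * ρ) * R.t * (ρ * ρ)⁻¹ = ρ * (ρ * R.t * ρ⁻¹) * ρ⁻¹ := by group
    rw [this, hρt, hρn]
  have hρN : ρ ∈ Subgroup.normalizer (R.V : Set G) := by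
    apply reeg5d_mem_normalizer
    intro v hv
    rcases (hV v).mp hv with rfl | rfl | rfl | rfl
    · have : ρ * 1 * ρ⁻¹ = 1 := by group
      rw [this]
      exact R.V.one_mem
    · rw [hρt]
      exact hnV
    · rw [hρn]
      exact htnV
    · rw [reeg5d_conj_mul, hρt, hρn]
      exact R.V.mul_mem hnV htnV
  have hρρN : ρ * ρ ∈ Subgroup.normalizer (R.V : Set G) := Subgroup.mul_mem _ hρN hρN
  -- `ρ, ρ² ∉ C(V)`
  have hρC : ρ ∉ Subgroup.centralizer (R.V : Set G) := by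
    intro h
    have h1 := (hCmem ρ).mp h R.t htV
    have h2 : ρ * R.t * ρ⁻¹ = R.t := by rw [h1]; group
    rw [hρt] at h2
    exact htne h2.symm
  have hρρC : ρ * ρ ∉ Subgroup.centralizer (R.V : Set G) := by
    intro h
    have h1 := (hCmem (ρ * ρ)).mp h R.t htV
    have h2 : (ρ * ρ) * R.t * (ρ * ρ)⁻¹ = R.t := by rw [h1]; group
    rw [hρρt] at h2
    have h3 : R.n0 = 1 := by
      have := mul_left_cancel (a := R.t) (b := R.n0) (c := 1) (by rw [h2, mul_one])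
      exact this
    exact hn1 h3
  -- the decomposition of `N(V)`
  have hdec : ((Subgroup.normalizer (R.V : Set G) : Subgroup G) : Set G) =
      ((Subgroup.centralizer (R.V : Set G) : Subgroup G) : Set G) ∪
        (fun c => ρ * c) '' ((Subgroup.centralizer (R.V : Set G) : Subgroup G) : Set G) ∪
        (fun c => (ρ * ρ) * c) '' ((Subgroup.centralizer (R.V : Set G) : Subgroup G) : Set G) := by
    ext g
    simp only [Set.mem_union, Set.mem_image, SetLike.mem_coe]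
    constructor
    · intro hg
      have hgt : g * R.t * g⁻¹ ∈ R.V := hNmem g hg R.t htV
      rcases (hV _).mp hgt with h1 | h1 | h1 | h1
      · exfalso
        have : R.t = 1 := by
          have h2 : R.t = g⁻¹ * (g * R.t * g⁻¹) * g := by group
          rw [h2, h1]
          group
        exact R.t_ne this
      · exact Or.inl (Or.inl (hfixt g hg h1))
      · refine Or.inl (Or.inr ⟨ρ⁻¹ * g, ?_, by group⟩)
        apply hfixt _ (Subgroup.mul_mem _ (Subgroup.inv_mem _ hρN) hg)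
        have : ρ⁻¹ * g * R.t * (ρ⁻¹ * g)⁻¹ = ρ⁻¹ * (g * R.t * g⁻¹) * ρ := by group
        rw [this, h1, ← hρt]
        group
      · refine Or.inr ⟨(ρ * ρ)⁻¹ * g, ?_, by group⟩
        apply hfixt _ (Subgroup.mul_mem _ (Subgroup.inv_mem _ hρρN) hg)
        have : (ρ * ρ)⁻¹ * g * R.t * ((ρ * ρ)⁻¹ * g)⁻¹ = (ρ * ρ)⁻¹ * (g * R.t * g⁻¹) * (ρ * ρ) := by
          rw [_root_.mul_inv_rev ((ρ * ρ)⁻¹) g, inv_inv]
          simp only [mul_assoc]
        rw [this, h1, ← hρρt]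
        group
    · rintro ((h | ⟨c, hc, rfl⟩) | ⟨c, hc, rfl⟩)
      · exact hCN h
      · exact Subgroup.mul_mem _ hρN (hCN hc)
      · exact Subgroup.mul_mem _ hρρN (hCN hc)
  have hinj1 : Function.Injective (fun c : G => ρ * c) := mul_right_injective ρ
  have hinj2 : Function.Injective (fun c : G => (ρ * ρ) * c) := mul_right_injective (ρ * ρ)
  have hd1 : Disjoint ((Subgroup.centralizer (R.V : Set G) : Subgroup G) : Set G)
      ((fun c => ρ * c) '' ((Subgroup.centralizer (R.V : Set G) : Subgroup G) : Set G)) := by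
    rw [Set.disjoint_left]
    rintro x hx ⟨c, hc, rfl⟩
    apply hρC
    have : ρ = (ρ * c) * c⁻¹ := by group
    rw [this]
    exact Subgroup.mul_mem _ hx (Subgroup.inv_mem _ hc)
  have hd2 : Disjoint (((Subgroup.centralizer (R.V : Set G) : Subgroup G) : Set G) ∪
      ((fun c => ρ * c) '' ((Subgroup.centralizer (R.V : Set G) : Subgroup G) : Set G)))
      ((fun c => (ρ * ρ) * c) '' ((Subgroup.centralizer (R.V : Set G) : Subgroup G) : Set G)) := by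
    rw [Set.disjoint_left]
    rintro x (hx | ⟨c', hc', rfl⟩) ⟨c, hc, hcx⟩
    · apply hρρC
      have : ρ * ρ = x * c⁻¹ := by rw [← hcx]; group
      rw [this]
      exact Subgroup.mul_mem _ hx (Subgroup.inv_mem _ hc)
    · apply hρC
      have hcx' : ρ * ρ * c = ρ * c' := hcx
      have : ρ = c' * c⁻¹ := by
        have h2 : ρ * c = c' := by
          have : ρ * (ρ * c) = ρ * c' := by rw [← mul_assoc]; exact hcx'
          exact mul_left_cancel this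
        rw [← h2]
        group
      rw [this]
      exact Subgroup.mul_mem _ hc' (Subgroup.inv_mem _ hc)
  have hcardN : Nat.card (Subgroup.normalizer (R.V : Set G)) = 6 * (qq m + 1) := by
    have e1 : Nat.card (Subgroup.normalizer (R.V : Set G)) =
        Set.ncard ((Subgroup.normalizer (R.V : Set G) : Subgroup G) : Set G) := rfl
    have e2 : Nat.card (Subgroup.centralizer (R.V : Set G)) =
        Set.ncard ((Subgroup.centralizer (R.V : Set G) : Subgroup G) : Set G) := rfl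
    rw [e1, hdec, Set.ncard_union_eq hd2 (Set.toFinite _) (Set.toFinite _),
      Set.ncard_union_eq hd1 (Set.toFinite _) (Set.toFinite _),
      Set.ncard_image_of_injective _ hinj1, Set.ncard_image_of_injective _ hinj2, ← e2, hCcard]
    ring
  -- `N(V)` normalises `C(V)`
  have hNC : ∀ g ∈ Subgroup.normalizer (R.V : Set G), ∀ x ∈ Subgroup.centralizer (R.V : Set G),
      g * x * g⁻¹ ∈ Subgroup.centralizer (R.V : Set G) := by
    intro g hg x hx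
    rw [hCmem]
    intro v hv
    have hg' : g⁻¹ ∈ Subgroup.normalizer (R.V : Set G) := Subgroup.inv_mem _ hg
    have h1 : g⁻¹ * v * g⁻¹⁻¹ ∈ R.V := hNmem g⁻¹ hg' v hv
    have h2 := (hCmem x).mp hx _ h1
    have e1 : g * x * g⁻¹ * v = g * (x * (g⁻¹ * v * g⁻¹⁻¹)) * g⁻¹ := by group
    have e2 : v * (g * x * g⁻¹) = g * ((g⁻¹ * v * g⁻¹⁻¹) * x) * g⁻¹ := by group
    rw [e1, e2, h2]
  have hNA1 : ∀ g ∈ Subgroup.normalizer (R.V : Set G), ∀ a ∈ R.A1, g * a * g⁻¹ ∈ R.A1 := by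
    intro g hg a ha
    apply hCA1 _ (hNC g hg a (hEC (hA1E ha)))
    rw [conj_pow, ((hA1 a).mp ha).2]
    group
  refine ⟨hcardN, hNA1, ?_, ?_⟩
  · intro g hg e he
    obtain ⟨v, hv, a, ha, rfl⟩ := (hEiff e).mp he
    rw [reeg5d_conj_mul]
    exact (hEiff _).mpr ⟨_, hNmem g hg v hv, _, hNA1 g hg a ha, rfl⟩
  · intro g hg
    apply reeg5d_mem_normalizer
    intro v hv
    apply hEsq _ (hg v (hVE hv))
    rw [← reeg5d_conj_mul, hVexp v hv]
    group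

end ReeAx

end Cfsg.Agent.Lib.helper7.REE
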