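import Mathlib
import Cfsg.Agent.Lib.helper7.REE.Defs
import Cfsg.Agent.Lib.Helper29.REEARA
import Cfsg.Agent.Lib.Helper12.Ord.ThreeTransp

/-! REE row G4B (`invol_count`), helper26: core with the cited fact of G4A (`|C(t)| = q (q² - 1)`) as a hypothesis.
The involutions are the conjugates of `t` (`invol_conj`), so there are `|G| / |C(t)| = q² N₀` of them. -/

set_option autoImplicit false

namespace Cfsg.Agent.Lib.helper7.REE

open Matrix Cfsg.Agent.Lib.helper8

universe u v

namespace ReeAx

variable {G : Type u} [Group G] [Finite G] {K : Type v} [Field K] [Fintype K] {m : ℕ}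

theorem reeg4b_orderOf_t (R : ReeAx G K m) : orderOf R.t = 2 :=
  orderOf_eq_prime (by rw [pow_two]; exact R.t_sq) R.t_ne

theorem reeg4b_invol_iff (R : ReeAx G K m) (g : G) : orderOf g = 2 ↔ IsConj R.t g := by
  rw [isConj_iff]
  constructor
  · intro hg
    have h1 : g ≠ 1 := by
      rintro rfl
      rw [orderOf_one] at hg
      omega
    have h2 : g * g = 1 := by
      rw [← pow_two, ← hg]
      exact pow_orderOf_eq_one g
    exact R.invol_conj g h1 h2
  · rintro ⟨c, rfl⟩
    have := (MulAut.conj c).orderOf_eq R.t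
    rw [MulAut.conj_apply] at this
    rw [this, reeg4b_orderOf_t]

/-- the arithmetic: `q (q² - 1) * (q² N₀) = |G|` -/
theorem reeg4b_arith (m : ℕ) : qq m * (qq m ^ 2 - 1) * (qq m ^ 2 * nn m) = gg m := by
  obtain ⟨-, h3, -, -, -, -, -, hg, -⟩ := ar_basic m
  rw [hg]
  obtain ⟨k, hk⟩ : ∃ k, qq m = k + 1 := ⟨qq m - 1, by omega⟩
  rw [hk]
  have e1 : (k + 1) ^ 2 - 1 = k * (k + 2) := by
    have : (k + 1) ^ 2 = k * (k + 2) + 1 := by ring
    rw [this]
    exact Nat.add_sub_cancel _ _
  have e2 : k + 1 - 1 = k := Nat.add_sub_cancel _ _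
  rw [e1, e2]
  ring

/-- G4B, core: the hypothesis is a conjunct of G4A (`L_basic`). -/
theorem reeg4b_core (R : ReeAx G K m)
    (hCt : Nat.card (Subgroup.centralizer {R.t}) = qq m * (qq m ^ 2 - 1)) :
    Nat.card {g : G // orderOf g = 2} = qq m ^ 2 * nn m := by
  have hset : {g : G | orderOf g = 2} = conjugatesOf R.t := by
    ext g
    exact reeg4b_invol_iff R g
  have h1 := Cfsg.Agent.Lib.Helper12.Ord.card_conjugatesOf_eq_index R.t
  have h2 := Subgroup.card_mul_index (Subgroup.centralizer ({R.t} : Set G))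
  rw [hCt, R.card, ← reeg4b_arith m] at h2
  have h3 : Nat.card {g : G // orderOf g = 2} = Nat.card (conjugatesOf R.t) := by
    rw [← hset]
    rfl
  rw [h3, h1]
  have hpos : 0 < qq m * (qq m ^ 2 - 1) := by
    rcases Nat.eq_zero_or_pos (qq m * (qq m ^ 2 - 1)) with h0 | h0
    · exfalso
      have hg : gg m = 0 := by rw [← reeg4b_arith m, h0, zero_mul]
      have := R.card
      rw [hg] at this
      exact (Nat.card_pos (α := G)).ne' this
    · exact h0
  exact Nat.eq_of_mul_eq_mul_left hpos h2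

end ReeAx

end Cfsg.Agent.Lib.helper7.REE
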