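import Mathlib
import Cfsg.Agent.Lib.helper7.REE.Defs
import Cfsg.Agent.Lib.Helper26.REEG4Bcore
import Cfsg.Agent.Lib.helper8.REEG4A

/-! REE row G4B (`invol_count`), helper26: verbatim wrapper of `reeg4b_core` with G4A (`L_basic`, helper8). -/

set_option autoImplicit false

namespace Cfsg.Agent.Lib.helper7.REE

open Matrix Cfsg.Agent.Lib.helper8

universe u v

namespace ReeAx

variable {G : Type u} [Group G] [Finite G] {K : Type v} [Field K] [Fintype K] {m : ℕ}

/-- G4B. The involutions: one class, `q² N₀` of them. -/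
theorem invol_count (R : ReeAx G K m) :
    Nat.card {g : G // orderOf g = 2} = qq m ^ 2 * nn m :=
  reeg4b_core R (L_basic R).2.2.2.1

end ReeAx

end Cfsg.Agent.Lib.helper7.REE
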