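import Mathlib
import Cfsg.Prelude.Def_Transfer
import Cfsg.Agent.Lib.Helper5.S1906.Defs
import Cfsg.Agent.Lib.Helper19.TransferTwo

set_option autoImplicit false

namespace Cfsg.Agent.Lib.Helper5.S1906

open scoped IsMulCommutative

section Gl

variable {G : Type*} [Group G] [Finite G] (hG : ∀ H : Subgroup G, H.index ≠ 2) (P : Sylow 2 G)
  {X0 : Subgroup G} {c z : G}

include hG in
/-- G4 -/
theorem t2 (M : Subgroup G) (hM : M ≤ (P : Subgroup G)) (hM2 : M.relIndex (P : Subgroup G) = 2)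
    (k : ℕ) (hk : 1 ≤ k) (u : G) (hu : u ∈ (P : Subgroup G)) (huo : orderOf u = 2 ^ k)
    (hord : ∀ y ∈ (P : Subgroup G), y ∉ M → 2 ^ (k - 1) < orderOf y) :
    ∃ g : G, g * u * g⁻¹ ∈ M := by
  by_contra hno
  push Not at hno
  obtain ⟨K, _, hK2, _⟩ := Cfsg.Agent.Lib.Helper19.exists_index_two_of_not_conj_mem P M hM hM2 k hk hord u hu
    huo hno
  exact hG K hK2

end Gl

end Cfsg.Agent.Lib.Helper5.S1906
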