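import Mathlib
import Cfsg.Agent.Lib.Helper5.S1906.Defs

set_option autoImplicit false

namespace Cfsg.Agent.Lib.Helper5.S1906

open scoped IsMulCommutative

section P

variable {G : Type*} [Group G] {X X0 : Subgroup G} {c z : G}

/-- with `|X'| = 2` the commutator subgroup is `{1, c}`. -/
theorem s1906p6_comm_elts (h : Ctx X X0 c z) (h2 : Nat.card (⁅X, X⁆ : Subgroup G) = 2) (w : G)
    (hw : w ∈ ⁅X, X⁆) : w = 1 ∨ w = c := by
  by_cases hw1 : w = 1
  · exact Or.inl hw1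
  right
  obtain ⟨y, _, hy⟩ := (Nat.card_eq_two_iff' (1 : (⁅X, X⁆ : Subgroup G))).1 h2
  have e1 : (⟨w, hw⟩ : (⁅X, X⁆ : Subgroup G)) = y :=
    hy _ (fun hh => hw1 (by simpa using congrArg Subtype.val hh))
  have e2 : (⟨c, h.cD⟩ : (⁅X, X⁆ : Subgroup G)) = y :=
    hy _ (fun hh => h.c1 (by simpa using congrArg Subtype.val hh))
  have := congrArg Subtype.val (e1.trans e2.symm)
  simpa using this

/-- `x y = y x ε`, `ε ∈ {1, c}`. -/
theorem s1906p6_comm (h : Ctx X X0 c z) (h2 : Nat.card (⁅X, X⁆ : Subgroup G) = 2) (x : G) (hx : x ∈ X)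
    (y : G) (hy : y ∈ X) : x * y = y * x ∨ x * y = y * x * c := by
  have hmem : x⁻¹ * y⁻¹ * x * y ∈ ⁅X, X⁆ := by
    have := Subgroup.commutator_mem_commutator (X.inv_mem hx) (X.inv_mem hy)
    rw [commutatorElement_def] at this
    simpa using this
  rcases s1906p6_comm_elts h h2 _ hmem with h1 | h1
  · left
    have : x * y = y * x * (x⁻¹ * y⁻¹ * x * y) := by group
    rw [this, h1, mul_one]
  · right
    have : x * y = y * x * (x⁻¹ * y⁻¹ * x * y) := by group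
    rw [this, h1]

/-- P6 -/
theorem class_two (h : Ctx X X0 c z) (h2 : Nat.card (⁅X, X⁆ : Subgroup G) = 2) :
    (∀ x ∈ X, ∀ y ∈ X, x * y = y * x ∨ x * y = y * x * c) ∧ (∀ x ∈ X, Cen X (x * x)) ∧
    (∀ x ∈ X, ∀ y ∈ X, (x * y) ^ 2 = x ^ 2 * y ^ 2 ∨ (x * y) ^ 2 = x ^ 2 * y ^ 2 * c) ∧
    (∀ j : ℕ, 2 ≤ j → ∀ x ∈ X, ∀ y ∈ X, (x * y) ^ (2 ^ j) = x ^ (2 ^ j) * y ^ (2 ^ j)) := by
  have hA := s1906p6_comm h h2
  have hcc : ∀ x ∈ X, x * c = c * x := h.cC
  -- squares are central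
  have hB : ∀ x ∈ X, Cen X (x * x) := by
    intro x hx y hy
    rcases hA y hy x hx with h1 | h1
    · calc y * (x * x) = (y * x) * x := by group
        _ = (x * y) * x := by rw [h1]
        _ = x * (y * x) := by group
        _ = x * (x * y) := by rw [h1]
        _ = x * x * y := by group
    · have hxc := hcc x hx
      have hyc := hcc y hy
      calc y * (x * x) = (y * x) * x := by group
        _ = (x * y * c) * x := by rw [h1]
        _ = x * y * (c * x) := by group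
        _ = x * y * (x * c) := by rw [hxc]
        _ = x * (y * x) * c := by group
        _ = x * (x * y * c) * c := by rw [h1]
        _ = x * x * y * (c * c) := by group
        _ = x * x * y := by rw [h.c2, mul_one]
  have hC : ∀ x ∈ X, ∀ y ∈ X, (x * y) ^ 2 = x ^ 2 * y ^ 2 ∨ (x * y) ^ 2 = x ^ 2 * y ^ 2 * c := by
    intro x hx y hy
    rcases hA y hy x hx with h1 | h1
    · left
      calc (x * y) ^ 2 = x * (y * x) * y := by simp only [pow_succ, pow_zero, one_mul, mul_assoc]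
        _ = x * (x * y) * y := by rw [h1]
        _ = x ^ 2 * y ^ 2 := by simp only [pow_succ, pow_zero, one_mul, mul_assoc]
    · right
      have hyc := hcc y hy
      calc (x * y) ^ 2 = x * (y * x) * y := by simp only [pow_succ, pow_zero, one_mul, mul_assoc]
        _ = x * (x * y * c) * y := by rw [h1]
        _ = x ^ 2 * y * (c * y) := by simp only [pow_succ, pow_zero, one_mul, mul_assoc]
        _ = x ^ 2 * y * (y * c) := by rw [hyc]
        _ = x ^ 2 * y ^ 2 * c := by simp only [pow_succ, pow_zero, one_mul, mul_assoc]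
  refine ⟨hA, hB, hC, ?_⟩
  -- fourth powers
  have hsqc : ∀ x ∈ X, ∀ y ∈ X, y * x ^ 2 = x ^ 2 * y := by
    intro x hx y hy
    have := hB x hx y hy
    rw [sq]; exact this
  have hsq_mul : ∀ a b : G, b * a = a * b → (a * b) ^ 2 = a ^ 2 * b ^ 2 := by
    intro a b hab
    calc (a * b) ^ 2 = a * (b * a) * b := by simp only [pow_succ, pow_zero, one_mul, mul_assoc]
      _ = a * (a * b) * b := by rw [hab]
      _ = a ^ 2 * b ^ 2 := by simp only [pow_succ, pow_zero, one_mul, mul_assoc]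
  have h4 : ∀ x ∈ X, ∀ y ∈ X, (x * y) ^ 4 = x ^ 4 * y ^ 4 := by
    intro x hx y hy
    have hy2X : y ^ 2 ∈ X := X.pow_mem hy 2
    have e := hsqc x hx (y ^ 2) hy2X
    have hyc2 : y ^ 2 * c = c * y ^ 2 := hcc _ hy2X
    have e4 : (x * y) ^ 4 = ((x * y) ^ 2) ^ 2 := by rw [← pow_mul]
    have ex4 : (x ^ 2) ^ 2 = x ^ 4 := by rw [← pow_mul]
    have ey4 : (y ^ 2) ^ 2 = y ^ 4 := by rw [← pow_mul]
    rcases hC x hx y hy with h1 | h1
    · rw [e4, h1, hsq_mul _ _ e, ex4, ey4]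
    · have hcx2 : c * x ^ 2 = x ^ 2 * c := hsqc x hx c h.cX
      have hcomm1 : c * (x ^ 2 * y ^ 2) = (x ^ 2 * y ^ 2) * c := by
        calc c * (x ^ 2 * y ^ 2) = (c * x ^ 2) * y ^ 2 := by rw [mul_assoc]
          _ = x ^ 2 * (c * y ^ 2) := by rw [hcx2, mul_assoc]
          _ = x ^ 2 * (y ^ 2 * c) := by rw [hyc2]
          _ = (x ^ 2 * y ^ 2) * c := by rw [mul_assoc]
      have hc2 : c ^ 2 = 1 := by rw [sq]; exact h.c2
      rw [e4, h1, hsq_mul _ _ hcomm1, hsq_mul _ _ e, ex4, ey4, hc2, mul_one]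
  intro j hj
  induction j, hj using Nat.le_induction with
  | base => intro x hx y hy; exact h4 x hx y hy
  | succ k hk ih =>
    intro x hx y hy
    have ih' := ih x hx y hy
    -- x^(2^k) = (x^2)^(2^(k-1)) central
    have hcen : y ^ (2 ^ k) * x ^ (2 ^ k) = x ^ (2 ^ k) * y ^ (2 ^ k) := by
      obtain ⟨t, rfl⟩ : ∃ t, k = t + 1 := ⟨k - 1, by omega⟩
      have e1 : x ^ (2 ^ (t + 1)) = (x ^ (2 ^ t)) ^ 2 := by rw [← pow_mul, pow_succ]
      rw [e1]
      exact hsqc _ (X.pow_mem hx _) _ (X.pow_mem hy _)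
    calc (x * y) ^ (2 ^ (k + 1)) = ((x * y) ^ (2 ^ k)) ^ 2 := by rw [← pow_mul, pow_succ]
      _ = (x ^ (2 ^ k) * y ^ (2 ^ k)) ^ 2 := by rw [ih']
      _ = (x ^ (2 ^ k)) ^ 2 * (y ^ (2 ^ k)) ^ 2 := hsq_mul _ _ hcen
      _ = x ^ (2 ^ (k + 1)) * y ^ (2 ^ (k + 1)) := by rw [← pow_mul, ← pow_mul, ← pow_succ]

end P

end Cfsg.Agent.Lib.Helper5.S1906
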