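import Mathlib
import Cfsg.Agent.Lib.Helper5.S1906.Defs

set_option autoImplicit false

namespace Cfsg.Agent.Lib.Helper5.S1906

open scoped IsMulCommutative

section P

variable {G : Type*} [Group G] {X X0 : Subgroup G} {c z : G}

/-- a subgroup of `X` containing all squares of `X` is normalised by `X`. -/
theorem s1906p5_conj_mem (X M : Subgroup G) (hM : M ≤ X) (hsq : ∀ x ∈ X, x * x ∈ M) (g : G) (hg : g ∈ X)
    (m : G) (hm : m ∈ M) : g * m * g⁻¹ ∈ M := by
  have e : g * m * g⁻¹ = ((g * m) * (g * m)) * m⁻¹ * (g⁻¹ * g⁻¹) := by group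
  rw [e]
  exact M.mul_mem (M.mul_mem (hsq _ (X.mul_mem hg (hM hm))) (M.inv_mem hm)) (hsq _ (X.inv_mem hg))

/-- `M ∪ M b` as a subgroup. -/
def s1906p5_ext (X M : Subgroup G) (hM : M ≤ X) (hsq : ∀ x ∈ X, x * x ∈ M) (b : G) (hb : b ∈ X) :
    Subgroup G where
  carrier := {g | g ∈ M ∨ g * b⁻¹ ∈ M}
  one_mem' := Or.inl M.one_mem
  mul_mem' := by
    intro g k hg hk
    have hconj := s1906p5_conj_mem X M hM hsq
    rcases hg with hg | hg <;> rcases hk with hk | hk
    · exact Or.inl (M.mul_mem hg hk)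
    · right
      have e : g * k * b⁻¹ = g * (k * b⁻¹) := by group
      rw [e]; exact M.mul_mem hg hk
    · right
      have e : g * k * b⁻¹ = (g * b⁻¹) * (b * k * b⁻¹) := by group
      rw [e]; exact M.mul_mem hg (hconj b hb k hk)
    · left
      have e : g * k = (g * b⁻¹) * (b * (k * b⁻¹) * b⁻¹) * (b * b) := by group
      rw [e]; exact M.mul_mem (M.mul_mem hg (hconj b hb _ hk)) (hsq b hb)
  inv_mem' := by
    intro g hg
    have hconj := s1906p5_conj_mem X M hM hsq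
    rcases hg with hg | hg
    · exact Or.inl (M.inv_mem hg)
    · right
      have e : g⁻¹ * b⁻¹ = (b⁻¹ * (g * b⁻¹)⁻¹ * b⁻¹⁻¹) * (b⁻¹ * b⁻¹) := by group
      rw [e]
      exact M.mul_mem (hconj b⁻¹ (X.inv_mem hb) _ (M.inv_mem hg)) (hsq _ (X.inv_mem hb))

/-- P5 -/
theorem sep (X : Subgroup G) [Finite X] (N : Subgroup G) (hN : N ≤ X) (hsq : ∀ x ∈ X, x * x ∈ N)
    (z : G) (hzX : z ∈ X) (hzN : z ∉ N) :
    ∃ M : Subgroup G, M ≤ X ∧ M.relIndex X = 2 ∧ N ≤ M ∧ z ∉ M := by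
  classical
  -- a member of the family of maximal cardinality
  have hex : ∃ d : ℕ, ∃ M : Subgroup G, N ≤ M ∧ M ≤ X ∧ z ∉ M ∧ Nat.card X - Nat.card M = d :=
    ⟨_, N, le_refl _, hN, hzN, rfl⟩
  obtain ⟨M, hNM, hMX, hzM, hd⟩ := Nat.find_spec hex
  have hmax : ∀ K : Subgroup G, N ≤ K → K ≤ X → z ∉ K → M ≤ K → K = M := by
    intro K hNK hKX hzK hMK
    haveI : Finite K := Finite.of_injective (Subgroup.inclusion hKX) (Subgroup.inclusion_injective hKX)
    have h1 : Nat.find hex ≤ Nat.card X - Nat.card K := Nat.find_min' hex ⟨K, hNK, hKX, hzK, rfl⟩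
    have h2 : Nat.card K ≤ Nat.card X := Subgroup.card_le_of_le hKX
    have h3 : Nat.card M ≤ Nat.card K := Subgroup.card_le_of_le hMK
    have h4 : Nat.card K ≤ Nat.card M := by omega
    exact (Subgroup.eq_of_le_of_card_ge hMK h4).symm
  have hsqM : ∀ x ∈ X, x * x ∈ M := fun x hx => hNM (hsq x hx)
  refine ⟨M, hMX, ?_, hNM, hzM⟩
  rw [Subgroup.relIndex_eq_two_iff]
  refine ⟨z, hzX, fun b hb => ?_⟩
  by_cases hbM : b ∈ M
  · refine Or.inr ⟨hbM, fun hbz => hzM ?_⟩
    have e : z = b⁻¹ * (b * z) := by group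
    rw [e]; exact M.mul_mem (M.inv_mem hbM) hbz
  · refine Or.inl ⟨?_, hbM⟩
    set K := s1906p5_ext X M hMX hsqM b hb with hK
    have hMK : M ≤ K := fun m hm => Or.inl hm
    have hbK : b ∈ K := Or.inr (by rw [mul_inv_cancel]; exact M.one_mem)
    have hKX : K ≤ X := by
      intro g hg
      rcases hg with hg | hg
      · exact hMX hg
      · have e : g = (g * b⁻¹) * b := by group
        rw [e]; exact X.mul_mem (hMX hg) hb
    have hzK : z ∈ K := by
      by_contra hzK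
      have := hmax K (hNM.trans hMK) hKX hzK hMK
      rw [this] at hbK
      exact hbM hbK
    rcases hzK with hz | hz
    · exact absurd hz hzM
    · have e : b * z = (b * (z * b⁻¹) * b⁻¹) * (b * b) := by group
      rw [e]
      exact M.mul_mem (s1906p5_conj_mem X M hMX hsqM b hb _ hz) (hsqM b hb)

end P

end Cfsg.Agent.Lib.Helper5.S1906
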