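import Cfsg.Agent.Lib.Helper19.MOD.Basic

/-!
Project MOD (designer helper19; block of PSU, S2291) row G12 (`exists_co_ne`), VERBATIM vs `Helper19/MOD/Skel.lean.txt`.
-/

set_option autoImplicit false

namespace Cfsg.Agent.Lib.Helper19.MOD

open Matrix Cfsg.Agent.Lib.helper15.SUn Cfsg.Agent.Lib.helper3.STC Cfsg.Agent.Lib.Helper27.STU
  Cfsg.Agent.Lib.helper15.St2

universe u

section rows

variable {F : Type*} [Field F] [StarRing F] {n q m : ℕ} {od : Prop} (C : Ctx F n q m od)

/-- G12 [S]  a non zero vector has a non zero coordinate `co y p` (if all of them vanish, `y = cd y • dv` is not isotropic) -/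
theorem exists_co_ne (y : Fin n → F) (hy : Cfsg.hermForm n F q y y = 0) (hy0 : y ≠ 0) : ∃ p, C.co y p ≠ 0 := by
  by_contra hcon
  push Not at hcon
  apply hy0
  have h1 : y = Cfsg.hermForm n F q y C.dv • C.dv := by
    have h2 := C.span y
    have h3 : ∑ a, Cfsg.hermForm n F q y (C.fr (ng a)) • C.fr a = 0 := by
      apply Finset.sum_eq_zero
      intro a _
      have := hcon a
      unfold Ctx.co at this
      rw [this, zero_smul]
    rw [h3, zero_add] at h2
    exact h2
  by_cases hod : od
  · have h4 : Cfsg.hermForm n F q y y = Cfsg.hermForm n F q y C.dv * C.σ (Cfsg.hermForm n F q y C.dv) := by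
      conv_lhs => rw [h1]
      rw [herm_smul_left, herm_smul_right C.hσ, C.gram_dd hod, mul_one]
    rw [hy] at h4
    have h5 : Cfsg.hermForm n F q y C.dv = 0 := by
      rcases mul_eq_zero.1 h4.symm with h | h
      · exact h
      · exact (map_eq_zero_iff C.σ C.σ.injective).1 h
    rw [h1, h5, zero_smul]
  · rw [h1, C.dv0 hod, smul_zero]

end rows

end Cfsg.Agent.Lib.Helper19.MOD
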