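import Cfsg.Agent.Lib.Helper19.MOD.Basic
import Cfsg.Agent.Lib.Helper28.UHerm

/-!
Project MOD (designer helper19; block of PSU, S2291) row F3 (core): the existence of the context; the statements of F1 `frame_even` and F2 `frame_odd`
are hypotheses.
-/

set_option autoImplicit false

namespace Cfsg.Agent.Lib.Helper19.MOD

open Matrix Cfsg.Agent.Lib.helper15.SUn Cfsg.Agent.Lib.helper3.STC Cfsg.Agent.Lib.Helper27.STU
  Cfsg.Agent.Lib.helper15.St2

section frames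

variable {F : Type*} [Field F] [Fintype F] {n q : ℕ} {σ : F ≃+* F}

/-- F3 core -/
theorem modf3_core (hF : Fintype.card F = q ^ 2) (n m : ℕ) (od : Prop)
    (hn : (¬ od ∧ n = 2 * m) ∨ (od ∧ n = 2 * m + 1))
    (h_even : ∀ {σ : F ≃+* F}, (∀ x, σ x = x ^ q) → Cfsg.Geo.IsUnitaryForm σ (Cfsg.hermForm n F q) → ∀ m : ℕ, n = 2 * m →
      ∃ fr : Fin m ⊕ Fin m → Fin n → F,
        (∀ a, Cfsg.hermForm n F q (fr a) (fr (ng a)) = 1) ∧
        (∀ a b, b ≠ ng a → Cfsg.hermForm n F q (fr a) (fr b) = 0) ∧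
        ∀ x : Fin n → F, x = ∑ a, Cfsg.hermForm n F q x (fr (ng a)) • fr a)
    (h_odd : ∀ {σ : F ≃+* F}, Fintype.card F = q ^ 2 → (∀ x, σ x = x ^ q) → Cfsg.Geo.IsUnitaryForm σ (Cfsg.hermForm n F q) → ∀ m : ℕ,
      n = 2 * m + 1 →
      ∃ (fr : Fin m ⊕ Fin m → Fin n → F) (dv : Fin n → F),
        (∀ a, Cfsg.hermForm n F q (fr a) (fr (ng a)) = 1) ∧
        (∀ a b, b ≠ ng a → Cfsg.hermForm n F q (fr a) (fr b) = 0) ∧
        (∀ a, Cfsg.hermForm n F q dv (fr a) = 0) ∧ Cfsg.hermForm n F q dv dv = 1 ∧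
        ∀ x : Fin n → F, x = ∑ a, Cfsg.hermForm n F q x (fr (ng a)) • fr a + Cfsg.hermForm n F q x dv • dv) :
    letI := frobStar hF
    Nonempty (Ctx F n q m od) := by
  letI := frobStar hF
  obtain ⟨σ, hσ, hf⟩ := Cfsg.Agent.Lib.Helper28.UHerm.herm_unitary hF n
  have hs : ∀ x : F, star x = σ x := fun x => (hσ x).symm
  rcases hn with ⟨hod, hn⟩ | ⟨hod, hn⟩
  · obtain ⟨fr, h1, h0, hsp⟩ := h_even hσ hf m hn
    refine ⟨⟨σ, hσ, hs, hf, fr, 0, h1, h0, ?_, fun h => absurd h hod, fun _ => rfl, ?_⟩⟩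
    · intro a
      exact herm_zero_left _
    · intro x
      rw [smul_zero, add_zero]
      exact hsp x
  · obtain ⟨fr, dv, h1, h0, hd, hdd, hsp⟩ := h_odd hF hσ hf m hn
    exact ⟨⟨σ, hσ, hs, hf, fr, dv, h1, h0, hd, fun _ => hdd, fun h => absurd hod h, hsp⟩⟩

end frames

end Cfsg.Agent.Lib.Helper19.MOD
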