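import Mathlib
import Cfsg.Agent.Lib.Helper10.TEM.Defs
import Cfsg.Agent.Lib.helper8.ChevFix1

/-!
# Project TEM (S2191, designer helper10), row R1 (verbatim): `rat_iff rat_one rat_mul rat_inv`.
`Rat q g ↔ h8Psi chevE6 f g = g` for the Frobenius `f t = t ^ q`; the rational matrices form a group.
-/

set_option autoImplicit false

namespace Cfsg.Agent.Lib.Helper10.TEM

open Cfsg.Lie Cfsg.Lie.ChevalleyDatum Matrix
open Cfsg.Agent.Lib.helper8

universe u

variable {K : Type u} [Field K] {q : ℕ} {f : K ≃+* K} {M H : Subgroup (GG K)}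

-- ROW R1  [S]  `h8Psi` = `GeneralLinearGroup.map` (ChevFix1), a monoid hom.
theorem rat_iff (hF : Frob q f) (g : GG K) :
    Rat q g ↔ h8Psi chevE6 (f : K →+* K) g = g := by
  have hf : ∀ t, (f : K →+* K) t = t ^ q := fun t => hF.pow t
  constructor
  · intro h
    apply Units.ext
    rw [h8Psi_val]
    ext i j
    rw [Matrix.map_apply, hf]
    exact h i j
  · intro h i j
    have h1 := congrArg (fun g : GG K => (g : Matrix chevE6.Idx chevE6.Idx K) i j) h
    simp only [h8Psi_val, Matrix.map_apply, hf] at h1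
    exact h1

theorem rat_one (hF : Frob q f) : Rat q (1 : GG K) := by
  rw [rat_iff hF, map_one]

theorem rat_mul (hF : Frob q f) {g h : GG K} (hg : Rat q g) (hh : Rat q h) :
    Rat q (g * h) := by
  rw [rat_iff hF] at hg hh ⊢
  rw [map_mul, hg, hh]

theorem rat_inv (hF : Frob q f) {g : GG K} (hg : Rat q g) : Rat q g⁻¹ := by
  rw [rat_iff hF] at hg ⊢
  rw [map_inv, hg]

end Cfsg.Agent.Lib.Helper10.TEM
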