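import Mathlib
import Cfsg.Agent.Lib.helper23.TD4V.Defs
import Cfsg.Agent.Lib.helper8.ChevTwD4O
import Cfsg.Agent.Lib.helper8.ChevPair
import Cfsg.Agent.Lib.helper8.ChevBN1

/-!
# Project TD4V (helper23), row U7a: `n0_conj_QmK` (helper26).
-/

set_option autoImplicit false

namespace Cfsg.Agent.Lib.helper23.TD4V

open Cfsg.Lie Cfsg.Lie.ChevalleyDatum Matrix
open Cfsg.Agent.Lib.helper8 Cfsg.Agent.Lib.helper8.TD4
open Cfsg.Agent.Lib.helper23.P4V

universe u v

/-- the longest word acts on the roots by `r ↦ 23 - r` -/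
theorem td4vu7a_sW (s : ℕ) (hs : s < 24) :
    h8sW chevD4 [1, 0, 2, 3, 1, 0, 2, 3, 1, 0, 2, 3] s = 23 - s := by
  interval_cases s <;> decide

/-- the opposite of a negative root is positive -/
theorem td4vu7a_pos (r : ℕ) (hr : chevD4.IsNegRoot r) : chevD4.IsPosRoot (23 - r) := by
  have h24 : r < 24 := by
    have : chevD4.nroots = 24 := by decide
    have := hr.1
    omega
  revert hr
  interval_cases r <;> decide

section U

variable {K : Type u} [Field K]

/-- `n0⁻¹ * X r t * n0 = X (23 - r) (c * t)` -/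
theorem td4vu7a_conj (r : ℕ) (hr : r < 24) :
    ∃ c : K, c ≠ 0 ∧ ∀ t : K, (n0 : GG K)⁻¹ * X r t * n0 = X (23 - r) (c * t) := by
  have hD : chevD4 ∈ [chevG2, chevB2, chevD4, chevF4, chevE6, chevE7, chevE8] := by simp
  have hA := h8reflAll chevD4 hD
  have hn : chevD4.nroots = 24 := by decide
  have hr' : 23 - r < chevD4.nroots := by omega
  have h1 := h8nWU_act (F := K) chevD4 hB hA [1, 0, 2, 3, 1, 0, 2, 3, 1, 0, 2, 3]
    (by decide) (23 - r) hr'
  rw [td4vu7a_sW (23 - r) (by omega)] at h1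
  have e : 23 - (23 - r) = r := by omega
  rw [e] at h1
  obtain ⟨c, hc, h2⟩ := h8act_inv chevD4 hB _ _ _ h1
  refine ⟨c, hc, fun t => ?_⟩
  have h3 := h2 t
  rw [inv_inv] at h3
  exact h3

/-- **U7a** [M]. -/
theorem n0_conj_QmK (g : GG K) (hg : g ∈ QmK K) : n0⁻¹ * g * n0 ∈ chevD4.posUnipotent K := by
  unfold QmK at hg
  induction hg using Subgroup.closure_induction with
  | mem x hx =>
    obtain ⟨r, t, hneg, -, hx⟩ := hx
    have hr : r < 24 := by
      have : chevD4.nroots = 24 := by decide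
      have := hneg.1
      omega
    have hx' : x = X r t := by
      apply Units.ext
      rw [hx]
      rfl
    obtain ⟨c, -, hc⟩ := td4vu7a_conj (K := K) r hr
    rw [hx', hc t]
    apply Subgroup.subset_closure
    exact ⟨23 - r, c * t, td4vu7a_pos r hneg, rfl⟩
  | one =>
    rw [mul_one, inv_mul_cancel]
    exact Subgroup.one_mem _
  | mul x y _ _ hx hy =>
    have e : (n0 : GG K)⁻¹ * (x * y) * n0 = (n0⁻¹ * x * n0) * (n0⁻¹ * y * n0) := by group
    rw [e]
    exact Subgroup.mul_mem _ hx hy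
  | inv x _ hx =>
    have e : (n0 : GG K)⁻¹ * x⁻¹ * n0 = (n0⁻¹ * x * n0)⁻¹ := by group
    rw [e]
    exact Subgroup.inv_mem _ hx

end U

end Cfsg.Agent.Lib.helper23.TD4V
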