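import Mathlib
import Cfsg.Agent.Lib.helper23.TD4V.Defs
import Cfsg.Agent.Lib.helper8.ChevTwD4O

/-!
# Project TD4V (helper23), row N1: `frob_add`, `frob_neg` (helper26).
-/

set_option autoImplicit false

namespace Cfsg.Agent.Lib.helper23.TD4V

open Cfsg.Lie Cfsg.Lie.ChevalleyDatum Matrix
open Cfsg.Agent.Lib.helper8 Cfsg.Agent.Lib.helper8.TD4
open Cfsg.Agent.Lib.helper23.P4V

universe u v

section N

variable {F K : Type u} [Field F] [Field K] [Fintype F] [Fintype K] (j : F →+* K) (q : ℕ)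

/-- **N1** [S] (both).  `q` is a power of the characteristic. -/
theorem frob_add (hq : IsPrimePow q) (hK : Fintype.card K = q ^ 3) (x y : K) :
    (x + y) ^ q = x ^ q + y ^ q := by
  obtain ⟨p, hp, n, hpp, hn⟩ := FiniteField.card' K
  have : Fact p.Prime := ⟨hpp⟩
  have hdvd : q ∣ p ^ (n : ℕ) := by
    rw [← hn, hK]
    exact dvd_pow_self q (by norm_num)
  obtain ⟨k, _, rfl⟩ := (Nat.dvd_prime_pow hpp).1 hdvd
  exact add_pow_char_pow x y p k

theorem frob_neg (hq : IsPrimePow q) (hK : Fintype.card K = q ^ 3) (x : K) : (-x) ^ q = -(x ^ q) := by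
  have h := frob_add q hq hK x (-x)
  rw [add_neg_cancel, zero_pow hq.ne_zero] at h
  exact (neg_eq_of_add_eq_zero_right h.symm).symm

end N

end Cfsg.Agent.Lib.helper23.TD4V
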