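import Mathlib
import Cfsg.Prelude.Def_ChevStructure
import Cfsg.Prelude.Def_LieTypes
import Cfsg.Prelude.Def_ChevB2
import Cfsg.Agent.Lib.helper8.BTT.Defs

/-!
Project BTT row GRP2 (cores): `x_fil`, `x_par`, `x_lev` from the statement of GRP1 `x_entry`
(given as a hypothesis for the root element at hand).
-/

set_option autoImplicit false

namespace Cfsg.Agent.Lib.helper8.BTT

open Cfsg.Lie Cfsg.Lie.ChevalleyDatum

universe u

section grp
variable {F : Type u} [Field F] (D : ChevalleyDatum)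

theorem bttgrp2_fil_core (L : Fin D.nroots → ℝ) (s : ℕ) (t : F)
    (hE : ∀ i j : D.Idx, (D.x F s t - 1) i j ≠ 0 →
      ∃ k : ℕ, 1 ≤ k ∧ lvl D L i = lvl D L j + (k : ℝ) * lv D L s)
    (hpos : 0 ≤ lv D L s) : Fil (lvl D L) (lv D L s) (D.x F s t) := by
  intro i j hne
  obtain ⟨k, hk, he⟩ := hE i j hne
  rw [he]
  have hk' : (1 : ℝ) ≤ (k : ℝ) := by exact_mod_cast hk
  nlinarith

theorem bttgrp2_par_core (L : Fin D.nroots → ℝ) (s : ℕ) (t : F)
    (hE : ∀ i j : D.Idx, (D.x F s t - 1) i j ≠ 0 →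
      ∃ k : ℕ, 1 ≤ k ∧ lvl D L i = lvl D L j + (k : ℝ) * lv D L s)
    (hpos : 0 ≤ lv D L s) : Par (lvl D L) (D.x F s t) := by
  intro i j hne
  by_cases hij : i = j
  · rw [hij]
  · have hne' : (D.x F s t - 1) i j ≠ 0 := by
      rw [Matrix.sub_apply, Matrix.one_apply_ne hij, sub_zero]
      exact hne
    obtain ⟨k, hk, he⟩ := hE i j hne'
    rw [he]
    have hk' : (0 : ℝ) ≤ (k : ℝ) := by positivity
    nlinarith

theorem bttgrp2_lev_core (L : Fin D.nroots → ℝ) (s : ℕ) (t : F)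
    (hE : ∀ i j : D.Idx, (D.x F s t - 1) i j ≠ 0 →
      ∃ k : ℕ, 1 ≤ k ∧ lvl D L i = lvl D L j + (k : ℝ) * lv D L s)
    (h0 : lv D L s = 0) : Lev (lvl D L) (lvl D L) (D.x F s t) := by
  intro i j hne
  by_cases hij : i = j
  · rw [hij]
  · have hne' : (D.x F s t - 1) i j ≠ 0 := by
      rw [Matrix.sub_apply, Matrix.one_apply_ne hij, sub_zero]
      exact hne
    obtain ⟨k, _, he⟩ := hE i j hne'
    rw [he, h0, mul_zero, add_zero]

end grp

end Cfsg.Agent.Lib.helper8.BTT
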