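import Mathlib
import Cfsg.Prelude.Def_ChevStructure
import Cfsg.Prelude.Def_LieTypes
import Cfsg.Prelude.Def_ChevB2
import Cfsg.Agent.Lib.helper8.BTT.Defs
import Cfsg.Agent.Lib.Helper26.BTTGRP2core
import Cfsg.Agent.Lib.Helper9.BTTGRP1

/-!
Project BTT row GRP2 (verbatim): `x_fil`, `x_par`, `x_lev` from GRP1 `x_entry`.
-/

set_option autoImplicit false

namespace Cfsg.Agent.Lib.helper8.BTT

open Cfsg.Lie Cfsg.Lie.ChevalleyDatum

universe u

section grp
variable {F : Type u} [Field F] (D : ChevalleyDatum)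

/-- GRP2 [S-M] (GRP1) -/
theorem x_fil (hD : D ∈ [chevG2, chevB2, chevD4, chevF4, chevE6, chevE7, chevE8])
    (L : Fin D.nroots → ℝ) (hL : L ∈ levE D) (s : ℕ) (hs : s < D.nroots) (t : F)
    (hpos : 0 ≤ lv D L s) : Fil (lvl D L) (lv D L s) (D.x F s t) :=
  bttgrp2_fil_core D L s t (fun i j hne => x_entry D hD L hL s hs t i j hne) hpos

theorem x_par (hD : D ∈ [chevG2, chevB2, chevD4, chevF4, chevE6, chevE7, chevE8])
    (L : Fin D.nroots → ℝ) (hL : L ∈ levE D) (s : ℕ) (hs : s < D.nroots) (t : F)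
    (hpos : 0 ≤ lv D L s) : Par (lvl D L) (D.x F s t) :=
  bttgrp2_par_core D L s t (fun i j hne => x_entry D hD L hL s hs t i j hne) hpos

theorem x_lev (hD : D ∈ [chevG2, chevB2, chevD4, chevF4, chevE6, chevE7, chevE8])
    (L : Fin D.nroots → ℝ) (hL : L ∈ levE D) (s : ℕ) (hs : s < D.nroots) (t : F)
    (h0 : lv D L s = 0) : Lev (lvl D L) (lvl D L) (D.x F s t) :=
  bttgrp2_lev_core D L s t (fun i j hne => x_entry D hD L hL s hs t i j hne) h0

end grp

end Cfsg.Agent.Lib.helper8.BTT
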