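import Mathlib
import Cfsg.Agent.Lib.Helper25.BGL.PCDefs
import Cfsg.Agent.Lib.Helper10.BGL.Bridge
import Cfsg.Agent.Lib.helper8.ChevK

/-!
Project BGL (designer helper10; blocks PC / PA / SE by helper25) row SE04 (`se_orth_tab`), VERBATIM vs `Helper25/BGL/SkelPA.lean.txt`:
tables for the root `bglOrth D` orthogonal to the highest root.
-/

set_option autoImplicit false

namespace Cfsg.Agent.Lib.Helper10.BGL

open Cfsg.Lie Cfsg.Lie.ChevalleyDatum Cfsg.Agent.Lib.helper8

universe u

variable {K : Type u} [Field K]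

set_option maxRecDepth 100000 in
/-- SE04 [S] TABLES for the root `b = bglOrth D` orthogonal to `ρ` (`decide +kernel`). -/
theorem se_orth_tab (D : ChevalleyDatum) (hD : Seven D) :
    bglOrth D < D.nroots ∧ D.IsPosRoot (bglOrth D) ∧ bglOrth D ≠ D.nroots - 1 ∧ bglOrth D ≠ 0 ∧
      D.commTerms (D.nroots - 1) (bglOrth D) = [] ∧ D.commTerms 0 (bglOrth D) = [] ∧
      D.negIdx.getD (bglOrth D) 0 < D.nroots ∧ D.negIdx.getD (bglOrth D) 0 ≠ bglOrth D := by
  simp only [Seven, List.mem_cons, List.not_mem_nil, or_false] at hD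
  rcases hD with rfl | rfl | rfl | rfl | rfl | rfl | rfl <;> decide +kernel

end Cfsg.Agent.Lib.Helper10.BGL
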