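import Mathlib
import Cfsg.Agent.Lib.helper14.BGL.SPDefs
import Cfsg.Agent.Lib.helper14.BGL.SPDefs2
import Cfsg.Agent.Lib.Helper10.BGL.Defs
import Cfsg.Agent.Lib.Helper10.BGL.Bridge
import Cfsg.Agent.Lib.helper8.ChevBaseAll
import Cfsg.Agent.Lib.helper8.ChevBNAll
import Cfsg.Agent.Lib.helper8.ChevReflAll
import Cfsg.Agent.Lib.helper8.ChevNM
import Cfsg.Agent.Lib.helper8.ChevNgen
import Cfsg.Agent.Lib.helper8.ChevFix1
import Cfsg.Agent.Lib.helper8.ChevTits5

/-!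
Project BGL (designer helper10), block SP (designer helper14) row M1 (`top_diff_zero`), VERBATIM vs `helper14/BGL/SPSkel.lean.txt`.
-/

set_option autoImplicit false

namespace Cfsg.Agent.Lib.helper14.BGLSP

open Cfsg.Lie Cfsg.Lie.ChevalleyDatum Cfsg.Agent.Lib.helper8 Cfsg.Agent.Lib.Helper10.BGL Matrix

universe u

variable {K : Type u} [Field K] (D : ChevalleyDatum)

section M
variable [Finite K] (p : ℕ) [Fact p.Prime] [CharP K p]

/-- M1 [M]  `σ(m h m') = m σ(h) m'`, `topEntry` unfolded. -/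
theorem top_diff_zero (a : ℕ) (hn : 0 < D.nroots) (h : GL D.Idx K)
    (hs : ∀ m ∈ Lq D K (p ^ a), ∀ m' ∈ Lq D K (p ^ a),
      Rt (p ^ a) (topEntry D ((m * h * m' : GL D.Idx K) : Matrix D.Idx D.Idx K))) :
    ∀ m ∈ Lq D K (p ^ a), ∀ m' ∈ Lq D K (p ^ a),
      rc D (((m : Matrix D.Idx D.Idx K) *
        (((h8Psi D ((sig (K := K) p a : K ≃+* K) : K →+* K) h : GL D.Idx K) : Matrix D.Idx D.Idx K) -
          (h : Matrix D.Idx D.Idx K))) *ᵥ ((m' : Matrix D.Idx D.Idx K) *ᵥ re D K (D.nroots - 1))) 0 = 0 := by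
  intro m hm m' hm'
  have hRt := hs m hm m' hm'
  have e1 : h8Psi D ((sig (K := K) p a : K ≃+* K) : K →+* K) m = m := (ratM_iff p D a m).1 (Lq_rat p D a m hm)
  have e2 : h8Psi D ((sig (K := K) p a : K ≃+* K) : K →+* K) m' = m' := (ratM_iff p D a m').1 (Lq_rat p D a m' hm')
  have e3 : h8Psi D ((sig (K := K) p a : K ≃+* K) : K →+* K) (m * h * m') =
      m * h8Psi D ((sig (K := K) p a : K ≃+* K) : K →+* K) h * m' := by
    rw [map_mul, map_mul, e1, e2]
  have e4 : (m : Matrix D.Idx D.Idx K) *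
      (((h8Psi D ((sig (K := K) p a : K ≃+* K) : K →+* K) h : GL D.Idx K) : Matrix D.Idx D.Idx K) -
        (h : Matrix D.Idx D.Idx K)) * (m' : Matrix D.Idx D.Idx K) =
      ((m * h * m' : GL D.Idx K) : Matrix D.Idx D.Idx K).map ((sig (K := K) p a : K ≃+* K) : K →+* K) -
        ((m * h * m' : GL D.Idx K) : Matrix D.Idx D.Idx K) := by
    rw [← h8Psi_val, e3, Matrix.mul_sub, Matrix.sub_mul]
    rfl
  rw [Matrix.mulVec_mulVec, e4]
  unfold rc re
  have hn1 : D.nroots - 1 < D.nroots := by omega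
  rw [dif_pos hn, dif_pos hn1, Matrix.mulVec_single_one, Matrix.col_apply, Matrix.sub_apply, Matrix.map_apply, sig_coe_apply]
  unfold Rt topEntry at hRt
  rw [dif_pos hn] at hRt
  rw [hRt, sub_self]

end M

end Cfsg.Agent.Lib.helper14.BGLSP
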