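import Mathlib
import Cfsg.Agent.Lib.helper14.BGL.SPDefs
import Cfsg.Agent.Lib.helper14.BGL.SPDefs2
import Cfsg.Agent.Lib.Helper10.BGL.Defs

/-!
Project BGL (designer helper10), block SP (designer helper14) row E2 (core): `NT` is stable under the root elements;
hypotheses = the conclusions of O1 `spOrb_spec`, O4 `spBase_spec`, E1 `spExc_spec` and the statements of X3 `x_mulVec_inl`, X4 `x_mulVec_self`, X5 `x_mulVec_other`.
-/

set_option autoImplicit false

namespace Cfsg.Agent.Lib.helper14.BGLSP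

open Cfsg.Lie Cfsg.Lie.ChevalleyDatum Cfsg.Agent.Lib.helper8 Cfsg.Agent.Lib.Helper10.BGL Matrix

universe u

variable {K : Type u} [Field K] (D : ChevalleyDatum)

/-- E2 core -/
theorem bglspe2_core {lam : List ℕ}
    (hlam : ∀ s ∈ lam, s < D.nroots ∧ D.neg s ∈ lam)
    (hbase : ∀ r < D.nroots, D.neg r < D.nroots ∧ D.neg r ≠ r ∧ D.neg (D.neg r) = r ∧
      ∀ e ∈ (D.chain.getD r #[]).toList, ∀ q ∈ e.2.toList, q.1 ≠ r)
    (hexc1 : ∀ s ∈ lam, ∀ r < D.nroots, D.neg r ∉ lam →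
      ∑ i : Fin D.rank, ((D.cartan i.val s : ℤ) : K) * ((cor D r i.val : ℤ) : K) = 0)
    (hexc2 : ∀ r s u : ℕ, r < D.nroots → s ∉ lam → u ∈ lam → ∀ t : K, cc D r s u t = 0)
    (h_inl : ∀ {r : ℕ}, r < D.nroots → D.neg r ≠ r → ∀ (t : K) (w : D.Idx → K) (i : Fin D.rank),
      (D.x K r t *ᵥ w) (Sum.inl i) = w (Sum.inl i) + ((cor D r i.val : ℤ) : K) * t * rc D w (D.neg r))
    (h_self : ∀ {r : ℕ}, r < D.nroots → D.neg r ≠ r →
      (∀ e ∈ (D.chain.getD r #[]).toList, ∀ q ∈ e.2.toList, q.1 ≠ r) → ∀ (t : K) (w : D.Idx → K),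
      rc D (D.x K r t *ᵥ w) r = rc D w r - t * alpha D r w - t ^ 2 * rc D w (D.neg r))
    (h_other : ∀ {r u : ℕ}, r < D.nroots → u < D.nroots → u ≠ r → D.neg r ≠ r → ∀ (t : K) (w : D.Idx → K),
      rc D (D.x K r t *ᵥ w) u = rc D w u +
        ∑ s : Fin D.nroots, if s.val = r ∨ s.val = D.neg r then 0 else cc D r s.val u t * w (Sum.inr s))
    {r : ℕ} (hr : r < D.nroots) (t : K) {w : D.Idx → K} (hw : w ∈ NT D K lam) :
    D.x K r t *ᵥ w ∈ NT D K lam := by
  obtain ⟨hw1, hw2⟩ := hw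
  obtain ⟨hnr, hne, hnn, hself⟩ := hbase r hr
  refine ⟨?_, ?_⟩
  · -- the root coordinates
    intro u hu
    obtain ⟨hu1, hu2⟩ := hlam u hu
    by_cases hur : u = r
    · subst hur
      rw [h_self hu1 hne hself, hw1 u hu, hw2 u hu, hw1 _ hu2, mul_zero, mul_zero, sub_zero, sub_zero]
    · rw [h_other hr hu1 hur hne, hw1 u hu, zero_add]
      apply Finset.sum_eq_zero
      intro s _
      split_ifs with h1
      · rfl
      · by_cases hs : s.val ∈ lam
        · have h2 := hw1 s.val hs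
          unfold rc at h2
          rw [dif_pos s.2] at h2
          rw [h2, mul_zero]
        · rw [hexc2 r s.val u hr hs hu t, zero_mul]
  · -- the roots as linear forms
    intro s hs
    have key : alpha D s (D.x K r t *ᵥ w) = alpha D s w +
        t * rc D w (D.neg r) * ∑ i : Fin D.rank, ((D.cartan i.val s : ℤ) : K) * ((cor D r i.val : ℤ) : K) := by
      unfold alpha
      rw [Finset.mul_sum, ← Finset.sum_add_distrib]
      apply Finset.sum_congr rfl
      intro i _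
      rw [h_inl hr hne]
      ring
    rw [key, hw2 s hs, zero_add]
    by_cases hn : D.neg r ∈ lam
    · rw [hw1 _ hn, mul_zero, zero_mul]
    · rw [hexc1 s hs r hr hn, mul_zero]

end Cfsg.Agent.Lib.helper14.BGLSP
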