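import Mathlib
import Cfsg.Agent.Lib.helper14.BGL.SPDefs
import Cfsg.Agent.Lib.helper14.BGL.SPDefs2
import Cfsg.Agent.Lib.Helper10.BGL.Defs
import Cfsg.Agent.Lib.Helper26.BGLSPE2core
import Cfsg.Agent.Lib.Helper12.BGLSPO1
import Cfsg.Agent.Lib.Lead.BGLSPO5
import Cfsg.Agent.Lib.helper14.BGLSPX1
import Cfsg.Agent.Lib.helper4.BGLSPX4

/-!
Project BGL (designer helper10), block SP (designer helper14) row E2 (`NT_stab_x`), VERBATIM vs `helper14/BGL/SPSkel.lean.txt`:
`bglspe2_core` applied to O1 `spOrb_spec`, O4 `spBase_spec` (helper12), E1 `spExc_spec` (lead), X3 `x_mulVec_inl` (helper14), X4 `x_mulVec_self`, X5 `x_mulVec_other` (helper4).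
-/

set_option autoImplicit false

namespace Cfsg.Agent.Lib.helper14.BGLSP

open Cfsg.Lie Cfsg.Lie.ChevalleyDatum Cfsg.Agent.Lib.helper8 Cfsg.Agent.Lib.Helper10.BGL Matrix

universe u

variable {K : Type u} [Field K] (D : ChevalleyDatum)

/-- E2 [M]  `NT` is stable under the root elements. -/
theorem NT_stab_x {lam : List ℕ} (hT : SPTab D lam) {p : ℕ} [CharP K p] (hE : spExcChk D lam p = true) {r : ℕ}
    (hr : r < D.nroots) (t : K) {w : D.Idx → K} (hw : w ∈ NT D K lam) : D.x K r t *ᵥ w ∈ NT D K lam := by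
  obtain ⟨dep, par, horb⟩ := hT.orb
  have hexc := spExc_spec (K := K) D hE
  exact bglspe2_core D (spOrb_spec D horb).2.2.2 (spBase_spec D hT.base).1 hexc.1 hexc.2
    (fun hr hne t w i => x_mulVec_inl D hr hne t w i)
    (fun hr hne hself t w => x_mulVec_self D hr hne hself t w)
    (fun hr hu hur hne t w => x_mulVec_other D hr hu hur hne t w) hr t hw

end Cfsg.Agent.Lib.helper14.BGLSP
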