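import Mathlib
import Cfsg.Agent.Lib.helper14.BGL.UKDefs
import Cfsg.Agent.Lib.helper14.ChevNormVk
import Cfsg.Agent.Lib.helper14.ChevFiltAll
import Cfsg.Agent.Lib.helper8.ChevCommAll
import Cfsg.Agent.Lib.helper8.ChevOrdAll
import Cfsg.Agent.Lib.helper8.ChevHProd
import Cfsg.Agent.Lib.helper8.ChevBN2
import Cfsg.Agent.Lib.Helper25.BGLPC05

/-!
# BGL block UK, row UKC4 (helper26): CORE of `bk_ind`

`bglukc4_core`: the induction for `bk_main`, with the statements of the rows UKL5 `uk_kap_lead`, UKB2 `uk_rat_lead`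
and UKT2 `ukLT_all` as hypotheses (`hL5 hB2 hT2`).  The rows UKL1 `ukKap_mul` and UKB1 `uk_x_mem` are reproved under
own names (`bglukc4_kap_mul`, `bglukc4_x_mem`).
-/

set_option autoImplicit false

namespace Cfsg.Agent.Lib.helper14.BGLUK

open Cfsg.Lie Cfsg.Lie.ChevalleyDatum Cfsg.Agent.Lib.helper8 Cfsg.Agent.Lib.helper14
  Cfsg.Agent.Lib.Helper10.BGL

universe u

variable {K : Type u} [Field K]

/-- own-name copy of UKL1 `ukKap_mul`. -/
theorem bglukc4_kap_mul (D : ChevalleyDatum) (hB : H8Base.{u} D) (γ : ℕ) (x v : GL D.Idx K) :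
    ukKap D hB γ (x * v) = ukKap D hB γ v * (v⁻¹ * ukKap D hB γ x * v) := by
  unfold ukKap
  group

/-- `V_m ≤ U`. -/
theorem bglukc4_V_le_U (D : ChevalleyDatum) (m : ℕ) : ukV D K m ≤ D.posUnipotent K := by
  unfold ukV ChevalleyDatum.posUnipotent
  apply Subgroup.closure_mono
  rintro g ⟨r, t, hr, _, hg⟩
  exact ⟨r, t, hr, hg⟩

/-- `V_m = V_{m+1}` if `m` is not a positive root. -/
theorem bglukc4_V_skip (D : ChevalleyDatum) (m : ℕ) (hm : ¬ D.IsPosRoot m) : ukV D K m ≤ ukV D K (m + 1) := by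
  unfold ukV
  apply Subgroup.closure_mono
  rintro g ⟨r, t, hr, hmr, hg⟩
  refine ⟨r, t, hr, ?_, hg⟩
  rcases Nat.eq_or_lt_of_le hmr with e | e
  · subst e; exact absurd hr hm
  · exact e

/-- the torus normalises `U`. -/
theorem bglukc4_H_norm_U (D : ChevalleyDatum) (hB : H8Base.{u} D) (h : GL D.Idx K) (hh : h ∈ D.diagonalSubgroup K)
    (x : GL D.Idx K) (hx : x ∈ D.posUnipotent K) : h * x * h⁻¹ ∈ D.posUnipotent K := by
  have hn := cf_H_le_normVk (F := K) D hB 0 hh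
  rw [h8Vk_zero] at hn
  exact (Subgroup.mem_normalizer_iff.1 hn x).1 hx

section C

variable [Finite K] [CharP K 2]

/-- own-name copy of UKB1 `uk_x_mem` (for `p = 2`). -/
theorem bglukc4_x_mem (D : ChevalleyDatum) (hB : H8Base.{u} D) (a r : ℕ) (t : K) (ht : t ^ 2 ^ a = t) :
    h8xU D hB r t ∈ Lq D K (2 ^ a) ∧ h8xU D hB r t ∈ ratS (K := K) 2 D a := by
  have h1 : h8xU D hB r t ∈ Lq D K (2 ^ a) := x_mem_Lq D (2 ^ a) r t ht _ (h8xU_val D hB r t)
  exact ⟨h1, Lq_le_ratS 2 D a h1⟩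

/-- CORE of UKC4 `bk_ind`; `hL5 hB2 hT2` are the statements of `uk_kap_lead`, `uk_rat_lead`, `ukLT_all`. -/
theorem bglukc4_core (D : ChevalleyDatum) (hD : Seven D) (hB : H8Base.{u} D)
    (hL5 : ∀ (m γ m' : ℕ), UkLT D m γ m' → ∀ (t : K) (v : GL D.Idx K), v ∈ ukV D K (m + 1) →
      ∃ v' ∈ ukV D K (m' + 1), ukKap D hB γ (h8xU D hB m t * v) = h8xU D hB m' t * v')
    (hB2 : ∀ (a m : ℕ), D.IsPosRoot m → ∀ (t : K) (v : GL D.Idx K), v ∈ ukV D K (m + 1) →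
      h8xU D hB m t * v ∈ ratS (K := K) 2 D a → t ^ 2 ^ a = t)
    (hT2 : ∀ m : ℕ, D.IsPosRoot m → ∃ γ m', UkLT D m γ m')
    (a : ℕ) (H : Subgroup (GL D.Idx K))
    (hL : Lq D K (2 ^ a) ≤ H)
    (hU : ∀ g ∈ H, g ∈ D.posUnipotent K → g ∈ ratS (K := K) 2 D a)
    (h : GL D.Idx K) (hh : h ∈ D.diagonalSubgroup K) (hrat : h ∈ ratS (K := K) 2 D a) :
    ∀ n m : ℕ, m + n = D.nroots → ∀ u ∈ ukV D K m, u * h ∈ H → u ∈ ratS (K := K) 2 D a := by
  have hC : H8CommAll.{u} D := h8commAll D hD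
  obtain ⟨hO, -⟩ := h8ord_all D hD
  intro n
  induction n with
  | zero =>
    intro m hm u hu _
    have hbot : ukV D K m = ⊥ := cf_Vk_top D m (by omega)
    rw [hbot, Subgroup.mem_bot] at hu
    rw [hu]
    exact Subgroup.one_mem _
  | succ n ih =>
    intro m hm u hu huh
    by_cases hpos : D.IsPosRoot m
    · obtain ⟨t, v, hv, rfl⟩ := h8Vk_step D hB hC hO m hpos u hu
      have hv' : v ∈ ukV D K (m + 1) := hv
      obtain ⟨γ, m', hLT⟩ := hT2 m hpos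
      obtain ⟨w, hw, hkap⟩ := hL5 m γ m' hLT t v hv'
      -- `x_γ(1) ∈ H`
      have hxγ : h8xU D hB γ (1 : K) ∈ Lq D K (2 ^ a) := (bglukc4_x_mem D hB a γ 1 (one_pow _)).1
      have hxγH : h8xU D hB γ (1 : K) ∈ H := hL hxγ
      -- `κ_γ(u h) ∈ H`
      have hkg : ukKap D hB γ (h8xU D hB m t * v * h) ∈ H := by
        unfold ukKap
        exact H.mul_mem (H.mul_mem (H.mul_mem (H.inv_mem hxγH) (H.inv_mem huh)) hxγH) huh
      -- `κ_γ(h) ∈ Lq`
      have hhinv : h⁻¹ ∈ D.diagonalSubgroup K := Subgroup.inv_mem _ hh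
      have hhinv_rat : h⁻¹ ∈ ratS (K := K) 2 D a := Subgroup.inv_mem _ hrat
      have hact := (pc_H_act D hD h⁻¹ hhinv).2.1 γ hLT.hγ (1 : K)
      have hc : (((h⁻¹ : GL D.Idx K) : Matrix D.Idx D.Idx K) (Sum.inr ⟨γ, hLT.hγ⟩) (Sum.inr ⟨γ, hLT.hγ⟩) * 1) ^ 2 ^ a =
          ((h⁻¹ : GL D.Idx K) : Matrix D.Idx D.Idx K) (Sum.inr ⟨γ, hLT.hγ⟩) (Sum.inr ⟨γ, hLT.hγ⟩) * 1 := by
        rw [mul_one]
        exact (mem_ratS 2 D a h⁻¹).1 hhinv_rat _ _
      have hkh : ukKap D hB γ h ∈ Lq D K (2 ^ a) := by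
        have e : ukKap D hB γ h = (h8xU D hB γ (1 : K))⁻¹ * (h⁻¹ * h8xU D hB γ (1 : K) * (h⁻¹)⁻¹) := by
          unfold ukKap
          group
        rw [e]
        have hact' : h⁻¹ * h8xU D hB γ (1 : K) * (h⁻¹)⁻¹ =
            h8xU D hB γ (((h⁻¹ : GL D.Idx K) : Matrix D.Idx D.Idx K) (Sum.inr ⟨γ, hLT.hγ⟩) (Sum.inr ⟨γ, hLT.hγ⟩) * 1) := hact
        rw [hact']
        exact Subgroup.mul_mem _ (Subgroup.inv_mem _ hxγ) (bglukc4_x_mem D hB a γ _ hc).1
      -- `h⁻¹ κ_γ(u) h ∈ H`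
      have hsplit := bglukc4_kap_mul D hB γ (h8xU D hB m t * v) h
      have hconjH : h⁻¹ * ukKap D hB γ (h8xU D hB m t * v) * h ∈ H := by
        have e : h⁻¹ * ukKap D hB γ (h8xU D hB m t * v) * h =
            (ukKap D hB γ h)⁻¹ * ukKap D hB γ (h8xU D hB m t * v * h) := by
          rw [hsplit]; group
        rw [e]
        exact H.mul_mem (H.inv_mem (hL hkh)) hkg
      -- `κ_γ(u) ∈ U`
      have hkapU : ukKap D hB γ (h8xU D hB m t * v) ∈ D.posUnipotent K := by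
        rw [hkap]
        refine Subgroup.mul_mem _ ?_ (bglukc4_V_le_U D (m' + 1) hw)
        exact Subgroup.subset_closure ⟨m', t, hLT.hm', h8xU_val D hB m' t⟩
      have hconjU : h⁻¹ * ukKap D hB γ (h8xU D hB m t * v) * h ∈ D.posUnipotent K := by
        have := bglukc4_H_norm_U D hB h⁻¹ hhinv _ hkapU
        rwa [inv_inv] at this
      have hconj_rat := hU _ hconjH hconjU
      -- `κ_γ(u)` is rational
      have hkap_rat : ukKap D hB γ (h8xU D hB m t * v) ∈ ratS (K := K) 2 D a := by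
        have e : ukKap D hB γ (h8xU D hB m t * v) =
            h * (h⁻¹ * ukKap D hB γ (h8xU D hB m t * v) * h) * h⁻¹ := by group
        rw [e]
        exact Subgroup.mul_mem _ (Subgroup.mul_mem _ hrat hconj_rat) hhinv_rat
      rw [hkap] at hkap_rat
      have ht : t ^ 2 ^ a = t := hB2 a m' hLT.hm' t w hw hkap_rat
      obtain ⟨hx1, hx2⟩ := bglukc4_x_mem D hB a m t ht
      have hvh : v * h ∈ H := by
        have e : v * h = (h8xU D hB m t)⁻¹ * (h8xU D hB m t * v * h) := by group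
        rw [e]
        exact H.mul_mem (H.inv_mem (hL hx1)) huh
      have hvr := ih (m + 1) (by omega) v hv' hvh
      exact Subgroup.mul_mem _ hx2 hvr
    · exact ih (m + 1) (by omega) u (bglukc4_V_skip D m hpos hu) huh

end C

end Cfsg.Agent.Lib.helper14.BGLUK
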