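import Mathlib
import Cfsg.Agent.Lib.Helper10.C3Q.Defs
import Cfsg.Agent.Lib.Helper16.SpinAdjust2

set_option autoImplicit false

/-!
# Project C3Q, row KSQRT (helper26): `a + b θ` is a square in `K` when its norm `a² - δ b²` is a square in `F`.
-/

namespace Cfsg.Agent.Lib.Helper10.C3Q

open Matrix Module Cfsg.Agent.Lib.Helper13.OTS Cfsg.Agent.Lib.Helper16

universe u

variable {F : Type u} [Field F] {ι : Type} [Fintype ι] [DecidableEq ι]

/-- KSQRT [M] -/
theorem k_sqrt [Fintype F] (h2 : (2 : F) ≠ 0) {K : Type*} [Field K] [Fintype K] [Algebra F K]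
    (hcard : Fintype.card K = Fintype.card F ^ 2) (δ : F) (hns : ¬ IsSquare δ) (θ : K)
    (hθ : θ * θ = algebraMap F K δ) (a b : F) (hab : a ≠ 0 ∨ b ≠ 0) (hsq : IsSquare (a ^ 2 - δ * b ^ 2)) :
    IsSquare (algebraMap F K a + algebraMap F K b * θ) := by
  classical
  have hinj : Function.Injective (algebraMap F K) := (algebraMap F K).injective
  -- characteristic
  have hF2 : ringChar F ≠ 2 := by
    intro h
    apply h2
    have h3 : ((2 : ℕ) : F) = 0 := by
      rw [← h]
      exact ringChar.Nat.cast_ringChar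
    exact_mod_cast h3
  have h2K : (2 : K) ≠ 0 := by
    intro h
    apply h2
    apply hinj
    rw [map_zero, map_ofNat]
    exact h
  have hK2 : ringChar K ≠ 2 := by
    intro h
    apply h2K
    have h3 : ((2 : ℕ) : K) = 0 := by
      rw [← h]
      exact ringChar.Nat.cast_ringChar
    exact_mod_cast h3
  obtain ⟨p, hchar, n, hp, hq⟩ := FiniteField.card' F
  have : Fact p.Prime := ⟨hp⟩
  have := hchar
  have : CharP K p := charP_of_injective_algebraMap hinj p
  set q := Fintype.card F with hqdef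
  have hqodd : q % 2 = 1 := FiniteField.odd_card_of_char_ne_two hF2
  -- δ ≠ 0 and Euler
  have hδ0 : δ ≠ 0 := by
    rintro rfl
    exact hns ⟨0, by simp⟩
  have hδe : δ ^ (q / 2) = -1 := by
    rcases FiniteField.pow_dichotomy hF2 hδ0 with h | h
    · exact absurd ((FiniteField.isSquare_iff hF2 hδ0).mpr h) hns
    · exact h
  -- θ ^ q = -θ
  have hθq : θ ^ q = -θ := by
    have h1 : q = 2 * (q / 2) + 1 := by omega
    rw [h1, pow_succ, pow_mul, sq, hθ, ← map_pow, hδe, map_neg, map_one]
    ring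
  -- s and its Frobenius
  set s : K := algebraMap F K a + algebraMap F K b * θ with hs
  have hsq' : s ^ q = algebraMap F K a - algebraMap F K b * θ := by
    rw [hs, hq, add_pow_char_pow, mul_pow, ← hq, ← map_pow, ← map_pow, FiniteField.pow_card,
      FiniteField.pow_card, hθq]
    ring
  have hnorm : s ^ (q + 1) = algebraMap F K (a ^ 2 - δ * b ^ 2) := by
    rw [pow_succ, hsq', hs, map_sub, map_mul, map_pow, map_pow]
    have : (algebraMap F K a - algebraMap F K b * θ) * (algebraMap F K a + algebraMap F K b * θ)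
        = algebraMap F K a ^ 2 - algebraMap F K b ^ 2 * (θ * θ) := by ring
    rw [this, hθ]
    ring
  -- s ≠ 0
  have hs0 : s ≠ 0 := by
    intro h0
    have hn0 : algebraMap F K (a ^ 2 - δ * b ^ 2) = 0 := by rw [← hnorm, h0, zero_pow (by omega)]
    have hn1 : a ^ 2 - δ * b ^ 2 = 0 := by
      apply hinj
      rw [hn0, map_zero]
    by_cases hb : b = 0
    · rw [hb] at hn1
      have ha : a = 0 := by
        have : a ^ 2 = 0 := by linear_combination hn1
        exact pow_eq_zero_iff (two_ne_zero) |>.mp this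
      rcases hab with h | h
      · exact h ha
      · exact h hb
    · apply hns
      refine ⟨a / b, ?_⟩
      field_simp
      linear_combination (-1 : F) * hn1
  obtain ⟨t, ht⟩ := hsq
  have ht0 : t ≠ 0 := by
    rintro rfl
    apply hs0
    have : s ^ (q + 1) = 0 := by rw [hnorm, ht, mul_zero, map_zero]
    exact pow_eq_zero_iff (by omega) |>.mp this
  rw [FiniteField.isSquare_iff hK2 hs0, hcard]
  have h3 : q ^ 2 / 2 = (q + 1) * (q / 2) := by
    obtain ⟨k, hk⟩ : ∃ k, q = 2 * k + 1 := ⟨q / 2, by omega⟩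
    rw [hk]
    have e1 : (2 * k + 1) ^ 2 = 2 * (2 * k ^ 2 + 2 * k) + 1 := by ring
    have e2 : (2 * k + 1) / 2 = k := by omega
    rw [e1, e2]
    have e3 : (2 * (2 * k ^ 2 + 2 * k) + 1) / 2 = 2 * k ^ 2 + 2 * k := by omega
    rw [e3]
    ring
  rw [h3, pow_mul, hnorm, ht, ← map_pow, ← sq, ← pow_mul]
  have h4 : 2 * (q / 2) = q - 1 := by omega
  rw [h4, FiniteField.pow_card_sub_one_eq_one t ht0, map_one]

end Cfsg.Agent.Lib.Helper10.C3Q
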