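import Mathlib
import Cfsg.Agent.Lib.Helper10.C6P.Defs

/-!
# C6P row LINV (helper26), CORE: an involution `u ≠ ±1` of `F^4`, `2 ≠ 0`, has `charpoly u = (X-1)^j (X+1)^(4-j)`, `1 ≤ j ≤ 3`,
from the conclusion of LCHAR2 for `f = X - 1`, `g = X + 1` as a hypothesis (degrees + Cayley–Hamilton for the extreme cases).
-/

set_option autoImplicit false
set_option linter.unusedVariables false

namespace Cfsg.Agent.Lib.Helper10.C6P

open Polynomial Matrix

variable {F : Type*} [Field F]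

/-- `(u + 1)^4 = 8 (u + 1)` for an involution -/
theorem c6plinv_plus (u : M4 F) (hu : u * u = 1) : (u + 1) ^ 4 = (8 : F) • (u + 1) := by
  have h2 : (u + 1) ^ 2 = (2 : F) • (u + 1) := by
    rw [sq, add_mul, mul_add, mul_add, hu, mul_one, one_mul, one_mul, two_smul]
    abel
  have h4 : (u + 1) ^ 4 = ((u + 1) ^ 2) ^ 2 := by rw [← pow_mul]
  rw [h4, h2, _root_.smul_pow, h2, smul_smul]
  norm_num

/-- `(u - 1)^4 = -8 (u - 1)` for an involution -/
theorem c6plinv_minus (u : M4 F) (hu : u * u = 1) : (u - 1) ^ 4 = (-8 : F) • (u - 1) := by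
  have h2 : (u - 1) ^ 2 = (-2 : F) • (u - 1) := by
    rw [sq, sub_mul, mul_sub, mul_sub, hu, mul_one, one_mul, one_mul, neg_smul, two_smul]
    abel
  have h4 : (u - 1) ^ 4 = ((u - 1) ^ 2) ^ 2 := by rw [← pow_mul]
  rw [h4, h2, _root_.smul_pow, h2, smul_smul]
  norm_num

theorem c6plinv_core (h2 : (2 : F) ≠ 0) (u : M4 F) (hu : u * u = 1) (h1 : u ≠ 1) (h1' : u ≠ -1)
    (hL : ∃ j k : ℕ, u.charpoly = (X - C (1 : F)) ^ j * (X + C (1 : F)) ^ k) :
    ∃ j : ℕ, 1 ≤ j ∧ j ≤ 3 ∧ u.charpoly = (X - C (1 : F)) ^ j * (X + C (1 : F)) ^ (4 - j) := by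
  obtain ⟨j, k, hjk⟩ := hL
  have h8 : (8 : F) ≠ 0 := by
    have : (8 : F) = 2 * 2 * 2 := by norm_num
    rw [this]
    exact mul_ne_zero (mul_ne_zero h2 h2) h2
  have hdeg : u.charpoly.natDegree = 4 := by
    rw [Matrix.charpoly_natDegree_eq_dim, Fintype.card_fin]
  have hdeg2 : ((X - C (1 : F)) ^ j * (X + C (1 : F)) ^ k).natDegree = j + k := by
    rw [Polynomial.natDegree_mul (pow_ne_zero _ (X_sub_C_ne_zero 1)) (pow_ne_zero _ (X_add_C_ne_zero 1)),
      natDegree_pow, natDegree_pow, natDegree_X_sub_C, natDegree_X_add_C, mul_one, mul_one]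
  have hsum : j + k = 4 := by rw [← hdeg2, ← hjk, hdeg]
  have hCH : aeval u u.charpoly = 0 := Matrix.aeval_self_charpoly u
  have hj0 : j ≠ 0 := by
    intro h0
    subst h0
    have hk : k = 4 := by omega
    subst hk
    rw [hjk, pow_zero, one_mul, map_pow, map_add, aeval_X, aeval_C, map_one, c6plinv_plus u hu] at hCH
    rcases smul_eq_zero.mp hCH with h | h
    · exact h8 h
    · exact h1' (eq_neg_of_add_eq_zero_left h)
  have hj4 : j ≠ 4 := by
    intro h4
    subst h4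
    have hk : k = 0 := by omega
    subst hk
    rw [hjk, pow_zero, mul_one, map_pow, map_sub, aeval_X, aeval_C, map_one, c6plinv_minus u hu] at hCH
    rcases smul_eq_zero.mp hCH with h | h
    · exact h8 (neg_eq_zero.mp h)
    · exact h1 (sub_eq_zero.mp h)
  refine ⟨j, by omega, by omega, ?_⟩
  have hk : k = 4 - j := by omega
  rw [hjk, hk]

end Cfsg.Agent.Lib.Helper10.C6P
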