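import Mathlib
import Cfsg.Agent.Lib.Helper10.C6P.Defs
import Cfsg.Agent.Lib.Helper26.C6PLINVcore
import Cfsg.Agent.Lib.helper23.C6PLCHAR1

/-!
# C6P row LINV (helper26): `linv`, VERBATIM (= `c6plinv_core` + helper23's LCHAR2 `lchar_two`).
-/

set_option autoImplicit false
set_option linter.unusedVariables false
set_option linter.unusedSectionVars false

namespace Cfsg.Agent.Lib.Helper10.C6P

open Polynomial Matrix

variable {F : Type*} [Field F]

/-- LINV [M] : an involution `u ≠ ±1` of `F^4`, `2 ≠ 0`: `charpoly u = (X-1)^j (X+1)^(4-j)` with `1 ≤ j ≤ 3` (LCHAR2 with `X - 1`, `X + 1`; degrees; `j = 4` and `j = 0` excluded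
by LONE for `u` and for `-u`, or directly: `j = 4` ⇒ `minpoly ∣ X - 1`). -/
theorem linv (h2 : (2 : F) ≠ 0) (u : M4 F) (hu : u * u = 1) (h1 : u ≠ 1) (h1' : u ≠ -1) :
    ∃ j : ℕ, 1 ≤ j ∧ j ≤ 3 ∧ u.charpoly = (X - C (1 : F)) ^ j * (X + C (1 : F)) ^ (4 - j) := by
  apply c6plinv_core h2 u hu h1 h1'
  apply lchar_two u (X - C (1 : F)) (X + C (1 : F)) (monic_X_sub_C 1) (monic_X_add_C 1)
    (irreducible_X_sub_C 1) (irreducible_of_degree_eq_one (degree_X_add_C 1))
  rw [map_mul, map_sub, map_add, aeval_X, aeval_C, map_one, sub_mul, mul_add, mul_add, hu, mul_one, one_mul, one_mul]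
  abel

end Cfsg.Agent.Lib.Helper10.C6P
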