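import Mathlib
import Cfsg.Prelude.Def_Blocks
import Cfsg.Agent.Lib.Helper24.BlockDefClass
import Cfsg.Agent.Lib.Helper24.AFT1
import Cfsg.Agent.Lib.helper7.CharCentral
import Cfsg.Agent.Lib.helper7.CenterDvd
import Cfsg.Agent.Lib.helper2.CharNat
import Cfsg.Agent.Lib.Helper25.HeightZeroCrit

set_option autoImplicit false
open scoped ComplexConjugate

namespace Cfsg.Agent.Lib.Helper26

open Cfsg.Agent.Lib.helper2 Cfsg.Agent.Lib.helper7 Cfsg.Agent.Lib.Helper25 Cfsg.Agent.Lib.Helper24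

section mur

variable {H : Type*} [Group H] [Fintype H]

/-- A central element takes the value `c * Θ 1` on an irreducible character, with `c` a root of
unity (in particular an algebraic integer). -/
theorem mur_central_value (Θ : Cfsg.IrrCharacter H) (g : H) (hg : g ∈ Subgroup.center H) :
    ∃ c : ℂ, IsIntegral ℤ c ∧ (Θ : H → ℂ) g = c * (Θ : H → ℂ) 1 := by
  obtain ⟨c, hc⟩ := h7_central_char Θ.2 g hg
  have hpow : ∀ n : ℕ, ∀ x : H, (Θ : H → ℂ) (g ^ n * x) = c ^ n * (Θ : H → ℂ) x := by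
    intro n
    induction n with
    | zero => intro x; simp
    | succ n ih =>
      intro x
      rw [pow_succ', mul_assoc, hc, ih, pow_succ']
      ring
  have h1 := hpow (orderOf g) 1
  rw [pow_orderOf_eq_one, one_mul] at h1
  have h2 : c ^ orderOf g = 1 := by
    have h3 := irr_one_ne_zero Θ
    have h4 : (c ^ orderOf g - 1) * (Θ : H → ℂ) 1 = 0 := by
      rw [sub_mul, ← h1]; ring
    rcases mul_eq_zero.mp h4 with h | h
    · exact sub_eq_zero.mp h
    · exact absurd h h3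
  refine ⟨c, ?_, ?_⟩
  · exact IsIntegral.of_pow (orderOf_pos g) (by rw [h2]; exact isIntegral_one)
  · have := hc 1
    rwa [mul_one] at this

/-- The degree of an irreducible character divides the index of any central subgroup. -/
theorem mur_degree_dvd (Θ : Cfsg.IrrCharacter H) (A : Subgroup H) (hA : A ≤ Subgroup.center H) :
    Cfsg.charDegree (Θ : H → ℂ) ∣ A.index := by
  obtain ⟨n, ρ, hρ, hχ⟩ := Θ.2
  haveI := hρ
  haveI : A.Normal := by
    refine ⟨fun a ha x => ?_⟩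
    have h := Subgroup.mem_center_iff.mp (hA ha) x
    have : x * a * x⁻¹ = a := by rw [h, mul_assoc, mul_inv_cancel, mul_one]
    rw [this]; exact ha
  have h := h7_degree_dvd_index_of_scalar ρ A (fun a ha => by
    apply commuting_end_scalar ρ (ρ a)
    intro x
    rw [← Module.End.mul_eq_comp, ← Module.End.mul_eq_comp, ← map_mul, ← map_mul,
      (Subgroup.mem_center_iff.mp (hA ha) x)])
  have h1 : Cfsg.charDegree (Θ : H → ℂ) = Module.finrank ℂ (Fin n → ℂ) := by
    have h2 := (charDegree_irr Θ).1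
    have h3 : (Θ : H → ℂ) 1 = (Module.finrank ℂ (Fin n → ℂ) : ℂ) := by
      rw [← hχ, Representation.char_one]
    rw [h3] at h2
    exact_mod_cast h2
  rw [h1]; exact h

/-- Key lemma: a character `Ψ` of `H`, a central subgroup `A` of `p`-power index containing `g`,
a family of elements acting on `Ψ` through scalars `lam z` which is not the restriction of a linear
character of `H`: then `Ψ g` is `p` times an algebraic integer. -/
theorem mur_key (p : ℕ) [hp : Fact p.Prime] (g : H) (A : Subgroup H)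
    (hA : A ≤ Subgroup.center H) (hgA : g ∈ A) (k : ℕ) (hidx : A.index = p ^ k)
    (Ψ : H → ℂ) (hΨ : Cfsg.IsCharacter H Ψ)
    {Zs : Type*} (emb : Zs → H) (lam : Zs → ℂ)
    (hlam : ∀ (z : Zs) (x : H), Ψ (emb z * x) = lam z * Ψ x)
    (hne : ¬ ∃ η : H →* ℂˣ, ∀ z : Zs, ((η (emb z) : ℂˣ) : ℂ) = lam z) :
    ∃ a : ℂ, IsIntegral ℤ a ∧ Ψ g = (p : ℂ) * a := by
  classical
  haveI : Fintype (Cfsg.IrrCharacter H) := Fintype.ofFinite _
  obtain ⟨m, hm, hexp⟩ := isCharacter_expansion hΨ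
  have hg : g ∈ Subgroup.center H := hA hgA
  have key : ∀ Θ : Cfsg.IrrCharacter H, ∃ a : ℂ, IsIntegral ℤ a ∧
      (m Θ : ℂ) * (Θ : H → ℂ) g = (p : ℂ) * a := by
    intro Θ
    by_cases hm0 : m Θ = 0
    · exact ⟨0, isIntegral_zero, by simp [hm0]⟩
    · obtain ⟨c, hcint, hc⟩ := mur_central_value Θ g hg
      have hdvd : Cfsg.charDegree (Θ : H → ℂ) ∣ p ^ k := hidx ▸ mur_degree_dvd Θ A hA
      have hp_dvd : p ∣ Cfsg.charDegree (Θ : H → ℂ) := by
        by_contra hnd
        obtain ⟨j, hj, hdj⟩ := (Nat.dvd_prime_pow hp.out).mp hdvd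
        have hj0 : j = 0 := by
          by_contra h
          apply hnd
          rw [hdj]
          exact dvd_pow_self p h
        rw [hj0, pow_zero] at hdj
        obtain ⟨η, hη⟩ := afLin_surj Θ hdj
        apply hne
        refine ⟨η, fun z => ?_⟩
        have hΘ : ∀ x : H, (Θ : H → ℂ) x = ((η x : ℂˣ) : ℂ) := by
          intro x
          rw [← hη, afLin_apply]
        have h1 : (Θ : H → ℂ) 1 = 1 := by rw [hΘ, map_one, Units.val_one]
        have hinner := hm Θ
        have hne0 : Cfsg.classInner Ψ (Θ : H → ℂ) ≠ 0 := by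
          rw [hinner]; exact_mod_cast hm0
        unfold Cfsg.classInner at hne0
        have hS : (∑ x : H, Ψ x * conj ((Θ : H → ℂ) x)) ≠ 0 := right_ne_zero_of_mul hne0
        have hre : (∑ x : H, Ψ x * conj ((Θ : H → ℂ) x)) =
            ∑ x : H, Ψ (emb z * x) * conj ((Θ : H → ℂ) (emb z * x)) :=
          (Equiv.sum_comp (Equiv.mulLeft (emb z))
            (fun x => Ψ x * conj ((Θ : H → ℂ) x))).symm
        have hre2 : (∑ x : H, Ψ (emb z * x) * conj ((Θ : H → ℂ) (emb z * x))) =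
            (lam z * conj ((Θ : H → ℂ) (emb z))) * ∑ x : H, Ψ x * conj ((Θ : H → ℂ) x) := by
          rw [Finset.mul_sum]
          refine Finset.sum_congr rfl fun x _ => ?_
          rw [hlam, irr_linear_mul Θ h1, map_mul]
          ring
        rw [hre2] at hre
        have h3 : lam z * conj ((Θ : H → ℂ) (emb z)) = 1 := by
          have h4 : (lam z * conj ((Θ : H → ℂ) (emb z)) - 1) *
              (∑ x : H, Ψ x * conj ((Θ : H → ℂ) x)) = 0 := by
            rw [sub_mul, ← hre]; ring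
          rcases mul_eq_zero.mp h4 with h | h
          · exact sub_eq_zero.mp h
          · exact absurd h hS
        have h5 := irr_linear_mul_conj Θ h1 (emb z)
        rw [← hΘ]
        have h6 : conj ((Θ : H → ℂ) (emb z)) ≠ 0 := by
          intro h0
          rw [h0, mul_zero] at h5
          exact zero_ne_one h5
        exact mul_right_cancel₀ h6 (h5.trans h3.symm)
      obtain ⟨t, ht⟩ := hp_dvd
      refine ⟨(m Θ : ℂ) * c * (t : ℂ), ?_, ?_⟩
      · exact IsIntegral.mul (IsIntegral.mul (isIntegral_natCast (R := ℤ) (a := m Θ)) hcint)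
          (isIntegral_natCast (R := ℤ) (a := t))
      · rw [hc, ← (charDegree_irr Θ).1, ht]
        push_cast
        ring
  choose a ha1 ha2 using key
  refine ⟨∑ Θ, a Θ, IsIntegral.sum _ (fun Θ _ => ha1 Θ), ?_⟩
  have hΨg : Ψ g = ∑ Θ : Cfsg.IrrCharacter H, (m Θ : ℂ) * (Θ : H → ℂ) g := by
    conv_lhs => rw [hexp]
    simp [Finset.sum_apply]
  rw [hΨg, Finset.mul_sum]
  exact Finset.sum_congr rfl (fun Θ _ => ha2 Θ)

end mur

section murblock

variable {G : Type*} [Group G] [Fintype G]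

/-- A character of height zero does not vanish modulo the local ideal on a defect class of its
block. -/
theorem mur_value_not_mem [Fintype (Cfsg.IrrCharacter G)] (p : ℕ) [hp : Fact p.Prime]
    (M : Ideal Cfsg.AlgInt) (hM : Cfsg.IsPModular p M) (χ₀ χ : Cfsg.IrrCharacter G)
    (hχ : χ ∈ Cfsg.blockOf M (χ₀ : G → ℂ))
    (h0 : Cfsg.blockHeight p (Cfsg.blockOf M (χ₀ : G → ℂ)) (χ : G → ℂ) = 0)
    (g : G) (hg : Cfsg.IsDefectClass M (Cfsg.blockOf M (χ₀ : G → ℂ)) g) :
    ¬ Cfsg.MemLocalIdeal M ((χ : G → ℂ) g) := by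
  have hMp := hM.2.1.isPrime
  obtain ⟨hgR, hgI, hgω⟩ := hg
  obtain ⟨hreg, hle⟩ := bd_upper p M hM χ₀ g hgI
  have hω := hgω χ hχ
  have hlow := h7_defect_lower hM χ g hω
  obtain ⟨h₀, ⟨χ1, hχ1, hχ1e⟩, hall, hle0, hd⟩ := bd_min p M hMp χ₀
  have hνχ : (Cfsg.charDegree (χ : G → ℂ)).factorization p = h₀ := by
    apply le_antisymm _ (hall χ hχ)
    unfold Cfsg.blockHeight at h0
    have h1 : sInf ((fun ψ : Cfsg.IrrCharacter G =>
        (Cfsg.charDegree (ψ : G → ℂ)).factorization p) '' Cfsg.blockOf M (χ₀ : G → ℂ)) ≤ h₀ :=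
      Nat.sInf_le ⟨χ1, hχ1, hχ1e⟩
    omega
  have hcc := bd_card_centralizer p g
  rw [hd] at hle
  have hidx : (Subgroup.centralizer ({g} : Set G)).index.factorization p = h₀ := by
    rw [hνχ] at hlow
    omega
  obtain ⟨hd1, hd2, hd3⟩ := h7_charDegree_props χ
  set d := Cfsg.charDegree (χ : G → ℂ) with hdd
  set idx := (Subgroup.centralizer ({g} : Set G)).index with hidxd
  have hidx0 : idx ≠ 0 := Subgroup.index_ne_zero_of_finite
  set m := d / p ^ h₀ with hm
  have hdm : p ^ h₀ * m = d := by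
    rw [hm, ← hνχ]; exact Nat.ordProj_mul_ordCompl_eq_self d p
  have hmp : ¬ p ∣ m := by
    rw [hm, ← hνχ]; exact Nat.not_dvd_ordCompl hp.out hd2.ne'
  have hmcop : m.Coprime p := (Nat.Coprime.symm ((Nat.Prime.coprime_iff_not_dvd hp.out).mpr hmp))
  set t := idx / p ^ h₀ with ht
  have hit : p ^ h₀ * t = idx := by
    rw [ht, ← hidx]; exact Nat.ordProj_mul_ordCompl_eq_self idx p
  intro hmem
  apply hω
  unfold Cfsg.centralChar
  rw [← hd3, ← hidxd, ← hit, ← hdm]
  have hp0 : (p : ℂ) ≠ 0 := by exact_mod_cast hp.out.ne_zero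
  have hm0 : (m : ℂ) ≠ 0 := by
    intro h0'
    have : m = 0 := by exact_mod_cast h0'
    rw [this, mul_zero] at hdm
    exact hd2.ne' hdm.symm
  have e : ((p ^ h₀ * t : ℕ) : ℂ) * (χ : G → ℂ) g / ((p ^ h₀ * m : ℕ) : ℂ) =
      ((t : ℂ) * (m : ℂ)⁻¹) * (χ : G → ℂ) g := by
    push_cast
    field_simp
  rw [e]
  apply h7_memLocalIdeal_mul_left hMp _ hmem
  exact h7_memLocalRing_mul hMp (h7_memLocalRing_natCast hMp t)
    (h7_memLocalRing_inv_natCast hM m hmcop)

end murblock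

section murmain

variable {G : Type*} [Group G] [Fintype G]

/-- Let `χ` be irreducible, `D` a `p`-subgroup centralizing `g`, `Z ≤ D` central in `G` with `χ`
lying over the linear character `lam` of `Z`.  If `lam` does not extend to `D`, then `χ g` is `p`
times an algebraic integer. -/
theorem mur_extends (p : ℕ) [hp : Fact p.Prime]
    (χ : Cfsg.IrrCharacter G) (g : G) (D : Subgroup G) (hDp : IsPGroup p D)
    (hDg : ∀ u ∈ D, u * g = g * u)
    (Z : Subgroup G) (hZc : Z ≤ Subgroup.center G) (hZD : Z ≤ D) (lam : ↥Z →* ℂˣ)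
    (hover : ∀ z : ↥Z, (χ : G → ℂ) z = (χ : G → ℂ) 1 * (lam z : ℂ))
    (hne : ¬ ∃ μ : ↥D →* ℂˣ, ∀ z : ↥Z, μ ⟨(z : G), hZD z.2⟩ = lam z) :
    ∃ a : ℂ, IsIntegral ℤ a ∧ (χ : G → ℂ) g = (p : ℂ) * a := by
  classical
  have hcomm : ∀ u ∈ D, ∀ v ∈ Subgroup.zpowers g, u * v = v * u := by
    intro u hu v hv
    obtain ⟨n, rfl⟩ := Subgroup.mem_zpowers_iff.mp hv
    have h : Commute u g := hDg u hu
    exact h.zpow_right n
  let π : ↥D × ↥(Subgroup.zpowers g) →* G :=
    { toFun := fun x => (x.1 : G) * (x.2 : G)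
      map_one' := by simp
      map_mul' := by
        intro x y
        have h := hcomm y.1 y.1.2 x.2 x.2.2
        simp only [Prod.fst_mul, Prod.snd_mul, Subgroup.coe_mul]
        calc (x.1 : G) * y.1 * (x.2 * y.2) = x.1 * (y.1 * x.2) * y.2 := by group
          _ = x.1 * (x.2 * y.1) * y.2 := by rw [h]
          _ = x.1 * x.2 * (y.1 * y.2) := by group }
  have hπ : ∀ x : ↥D × ↥(Subgroup.zpowers g), π x = (x.1 : G) * (x.2 : G) := fun _ => rfl
  haveI : Fintype (↥D × ↥(Subgroup.zpowers g)) := Fintype.ofFinite _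
  let gK : ↥D × ↥(Subgroup.zpowers g) := (1, ⟨g, Subgroup.mem_zpowers g⟩)
  let A : Subgroup (↥D × ↥(Subgroup.zpowers g)) :=
    (MonoidHom.fst ↥D ↥(Subgroup.zpowers g)).ker
  have hA : A ≤ Subgroup.center (↥D × ↥(Subgroup.zpowers g)) := by
    intro a ha
    have ha1 : a.1 = 1 := ha
    rw [Subgroup.mem_center_iff]
    intro y
    apply Prod.ext
    · simp [ha1]
    · apply Subtype.ext
      simp only [Prod.snd_mul, Subgroup.coe_mul]
      obtain ⟨n1, hn1⟩ := Subgroup.mem_zpowers_iff.mp y.2.2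
      obtain ⟨n2, hn2⟩ := Subgroup.mem_zpowers_iff.mp a.2.2
      rw [← hn1, ← hn2]
      exact Commute.zpow_zpow_self g n1 n2
  have hgA : gK ∈ A := by
    show (MonoidHom.fst ↥D ↥(Subgroup.zpowers g)) gK = 1
    rfl
  obtain ⟨k, hk⟩ := IsPGroup.iff_card.mp hDp
  have hidx : A.index = p ^ k := by
    rw [Subgroup.index_ker, MonoidHom.range_eq_top.mpr (fun d => ⟨(d, 1), rfl⟩),
      Subgroup.card_top, hk]
  let Ψ : ↥D × ↥(Subgroup.zpowers g) → ℂ := fun x => (χ : G → ℂ) (π x)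
  have hΨ : Cfsg.IsCharacter (↥D × ↥(Subgroup.zpowers g)) Ψ :=
    isCharacter_comp_hom (isCharacter_of_irr χ) π
  let emb : ↥Z → ↥D × ↥(Subgroup.zpowers g) := fun z => (⟨(z : G), hZD z.2⟩, 1)
  have hlam : ∀ (z : ↥Z) (x : ↥D × ↥(Subgroup.zpowers g)),
      Ψ (emb z * x) = ((lam z : ℂˣ) : ℂ) * Ψ x := by
    intro z x
    obtain ⟨c, hc⟩ := h7_central_char χ.2 (z : G) (hZc z.2)
    have hc1 : c = ((lam z : ℂˣ) : ℂ) := by
      have h1 := hc 1
      rw [mul_one, hover z] at h1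
      have h3 := irr_one_ne_zero χ
      have h4 : ((lam z : ℂˣ) : ℂ) * (χ : G → ℂ) 1 = c * (χ : G → ℂ) 1 := by
        rw [← h1]; ring
      exact (mul_right_cancel₀ h3 h4).symm
    show (χ : G → ℂ) (π (emb z * x)) = _
    rw [map_mul, hπ (emb z)]
    show (χ : G → ℂ) ((z : G) * ((1 : ↥(Subgroup.zpowers g)) : G) * π x) = _
    rw [Subgroup.coe_one, mul_one, hc, hc1]
  have hne' : ¬ ∃ η : ↥D × ↥(Subgroup.zpowers g) →* ℂˣ,
      ∀ z : ↥Z, ((η (emb z) : ℂˣ) : ℂ) = ((lam z : ℂˣ) : ℂ) := by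
    rintro ⟨η, hη⟩
    apply hne
    refine ⟨η.comp (MonoidHom.inl ↥D ↥(Subgroup.zpowers g)), fun z => ?_⟩
    apply Units.ext
    rw [← hη z]
    rfl
  obtain ⟨a, ha, hag⟩ := mur_key p gK A hA hgA k hidx Ψ hΨ emb
    (fun z => ((lam z : ℂˣ) : ℂ)) hlam hne'
  refine ⟨a, ha, ?_⟩
  rw [← hag]
  show (χ : G → ℂ) g = (χ : G → ℂ) (π gK)
  rw [hπ]
  show (χ : G → ℂ) g = (χ : G → ℂ) (((1 : ↥D) : G) * g)
  rw [Subgroup.coe_one, one_mul]

end murmain

end Cfsg.Agent.Lib.Helper26
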