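import Mathlib

set_option autoImplicit false

namespace Cfsg.Agent.Lib.Helper26.GSzA

/-- `2 * t ≤ 2 ^ t` for `1 ≤ t`. -/
theorem two_mul_le_two_pow {t : ℕ} (ht : 1 ≤ t) : 2 * t ≤ 2 ^ t := by
  induction t, ht using Nat.le_induction with
  | base => norm_num
  | succ t ht ih =>
    rw [pow_succ]
    have : 2 ≤ 2 ^ t := by
      calc 2 = 2 ^ 1 := by norm_num
        _ ≤ 2 ^ t := Nat.pow_le_pow_right (by norm_num) ht
    omega

/-- Piece A1 of the GSz plan. -/
theorem A1 {n e c m : ℕ} (hn : 2 ≤ n) (hen : e ∣ n) (hec : e * c = 2 ^ n - 1)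
    (hm0 : 0 < m) (hmn : m < n) : ¬ c ∣ 2 ^ m - 1 := by
  intro hc
  have hcn : c ∣ 2 ^ n - 1 := Dvd.intro_left e hec
  have hg : c ∣ 2 ^ (Nat.gcd m n) - 1 := by
    rw [← Nat.pow_sub_one_gcd_pow_sub_one]
    exact Nat.dvd_gcd hc hcn
  have hgm : Nat.gcd m n ∣ m := Nat.gcd_dvd_left m n
  have hgn : Nat.gcd m n ∣ n := Nat.gcd_dvd_right m n
  have hg0 : 0 < Nat.gcd m n := Nat.gcd_pos_of_pos_left n hm0
  have hgle : Nat.gcd m n ≤ m := Nat.le_of_dvd hm0 hgm
  generalize Nat.gcd m n = g at *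
  obtain ⟨q, hq⟩ := hgn
  have hq2 : 2 ≤ q := by
    by_contra hlt
    push Not at hlt
    interval_cases q
    · omega
    · omega
  have h2g : 2 * g ≤ n := by rw [hq]; nlinarith
  have hen' : e ≤ n := Nat.le_of_dvd (by omega) hen
  have h2g' : 2 ≤ 2 ^ g := by
    calc 2 = 2 ^ 1 := by norm_num
      _ ≤ 2 ^ g := Nat.pow_le_pow_right (by norm_num) hg0
  have hcle : c ≤ 2 ^ g - 1 := Nat.le_of_dvd (by omega) hg
  have h1 : 2 ^ n - 1 ≤ n * (2 ^ g - 1) := by rw [← hec]; exact Nat.mul_le_mul hen' hcle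
  have h2 : (2 ^ g - 1) * (1 + 2 ^ (n - g)) ≤ 2 ^ n - 1 := by
    have hpow : 2 ^ n = 2 ^ g * 2 ^ (n - g) := by
      rw [← pow_add]; congr 1; omega
    have hle : 2 ^ g ≤ 2 ^ (n - g) := Nat.pow_le_pow_right (by norm_num) (by omega)
    obtain ⟨a, ha⟩ : ∃ a, 2 ^ g = a + 1 := ⟨2 ^ g - 1, by omega⟩
    rw [hpow, ha]
    rw [ha] at hle
    simp only [Nat.add_sub_cancel]
    have : a * (1 + 2 ^ (n - g)) + 1 ≤ (a + 1) * 2 ^ (n - g) := by nlinarith
    omega
  have h3 : n ≤ 2 ^ (n - g) := by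
    have := two_mul_le_two_pow (t := n - g) (by omega)
    omega
  have hpos : 0 < 2 ^ g - 1 := by omega
  have h4 : (2 ^ g - 1) * (1 + 2 ^ (n - g)) ≤ (2 ^ g - 1) * n := by
    rw [mul_comm _ n]; exact h2.trans h1
  have := Nat.le_of_mul_le_mul_left h4 hpos
  omega

/-- Piece A1' of the GSz plan. -/
theorem A1' {n e c : ℕ} (hn : 2 ≤ n) (hen : e ∣ n) (hec : e * c = 2 ^ n - 1) : 1 < c := by
  have hen' : e ≤ n := Nat.le_of_dvd (by omega) hen
  have h := two_mul_le_two_pow (t := n) (by omega)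
  by_contra hc
  push Not at hc
  interval_cases c
  · omega
  · omega

/-- Piece A3 of the GSz plan. -/
theorem A3 {n e c i : ℕ} (hn : 2 ≤ n) (hen : e ∣ n) (hec : e * c = 2 ^ n - 1)
    (hi0 : 0 < i) (hin : i < n) (h : ∀ t : ℕ, c ∣ t * (2 ^ i - 1) → c ∣ t) :
    Nat.Coprime (2 ^ i - 1) (2 ^ n - 1) := by
  rw [Nat.Coprime, Nat.pow_sub_one_gcd_pow_sub_one]
  have hd0 : 0 < Nat.gcd i n := Nat.gcd_pos_of_pos_left n hi0
  have hdi : Nat.gcd i n ∣ i := Nat.gcd_dvd_left i n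
  have hdn : Nat.gcd i n ∣ n := Nat.gcd_dvd_right i n
  generalize Nat.gcd i n = d at *
  suffices hd1 : d = 1 by rw [hd1]; norm_num
  by_contra hne
  have hd2 : 2 ≤ d := by omega
  have h4n : 4 ≤ 2 ^ n := by
    calc 4 = 2 ^ 2 := by norm_num
      _ ≤ 2 ^ n := Nat.pow_le_pow_right (by norm_num) hn
  have h4d : 4 ≤ 2 ^ d := by
    calc 4 = 2 ^ 2 := by norm_num
      _ ≤ 2 ^ d := Nat.pow_le_pow_right (by norm_num) hd2
  have hud : d < 2 ^ d - 1 := by
    have := two_mul_le_two_pow (t := d) (by omega)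
    omega
  have hu0 : 2 ^ d - 1 ≠ 0 := by omega
  have hN0 : 2 ^ n - 1 ≠ 0 := by omega
  have he0 : e ≠ 0 := by
    rintro rfl
    rw [zero_mul] at hec
    omega
  have hc0 : c ≠ 0 := by
    rintro rfl
    rw [mul_zero] at hec
    omega
  have hn0 : n ≠ 0 := by omega
  obtain ⟨p, hp, hpv⟩ : ∃ p, p.Prime ∧ d.factorization p < (2 ^ d - 1).factorization p := by
    by_contra hno
    push Not at hno
    have hle : (2 ^ d - 1).factorization ≤ d.factorization := by
      intro p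
      by_cases hp : p.Prime
      · exact hno p hp
      · rw [Nat.factorization_eq_zero_of_not_prime _ hp]
        exact Nat.zero_le _
    have hdvd : 2 ^ d - 1 ∣ d := (Nat.factorization_le_iff_dvd hu0 (by omega)).mp hle
    have := Nat.le_of_dvd hd0 hdvd
    omega
  haveI : Fact p.Prime := ⟨hp⟩
  have hpu : p ∣ 2 ^ d - 1 := by
    by_contra hnd
    rw [Nat.factorization_eq_zero_of_not_dvd hnd] at hpv
    omega
  have hp2 : p ≠ 2 := by
    rintro rfl
    have : 2 ∣ 2 ^ d := dvd_pow_self 2 (by omega)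
    omega
  have hpodd : Odd p := hp.odd_of_ne_two hp2
  have hui : 2 ^ d - 1 ∣ 2 ^ i - 1 := by
    obtain ⟨q, rfl⟩ := hdi
    rw [pow_mul]
    simpa only [one_pow] using Nat.sub_dvd_pow_sub_pow (2 ^ d) 1 q
  have hpi : p ∣ 2 ^ i - 1 := hpu.trans hui
  have hpc : ¬ p ∣ c := by
    intro hpc
    obtain ⟨c', hc'⟩ := hpc
    obtain ⟨w, hw⟩ := hpi
    have hdv : c ∣ c' * (2 ^ i - 1) := by
      rw [hw, hc']
      exact ⟨w, by ring⟩
    have hcc' := h c' hdv
    have hc'0 : 0 < c' := by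
      rcases Nat.eq_zero_or_pos c' with rfl | h0
      · rw [mul_zero] at hc'
        exact absurd hc' hc0
      · exact h0
    have h1 := Nat.le_of_dvd hc'0 hcc'
    rw [hc'] at h1
    have h2 := hp.two_le
    nlinarith
  have hv1 : (2 ^ n - 1).factorization p = e.factorization p := by
    rw [← hec, Nat.factorization_mul he0 hc0, Finsupp.add_apply,
      Nat.factorization_eq_zero_of_not_dvd hpc, add_zero]
  have hv2 : e.factorization p ≤ n.factorization p :=
    (Nat.factorization_le_iff_dvd he0 hn0).mpr hen p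
  obtain ⟨q, hq⟩ := hdn
  have hq0 : q ≠ 0 := by
    rintro rfl
    rw [mul_zero] at hq
    omega
  have hpd : ¬ p ∣ 2 ^ d := by
    intro hpd
    have := (Nat.prime_dvd_prime_iff_eq hp Nat.prime_two).mp (hp.dvd_of_dvd_pow hpd)
    exact hp2 this
  have hv3 : (2 ^ n - 1).factorization p = (2 ^ d - 1).factorization p + q.factorization p := by
    have hlte := padicValNat.pow_sub_pow (p := p) hpodd (x := 2 ^ d) (y := 1) (by omega) hpu hpd
      (n := q) hq0
    rw [one_pow, ← pow_mul, ← hq] at hlte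
    rw [Nat.factorization_def _ hp, Nat.factorization_def _ hp, Nat.factorization_def _ hp]
    exact hlte
  have hv4 : n.factorization p = d.factorization p + q.factorization p := by
    rw [hq, Nat.factorization_mul (by omega) hq0, Finsupp.add_apply]
  omega

/-- Powers of two modulo a divisor of `2 ^ n - 1` only depend on the exponent modulo `n`. -/
theorem pow_mod_modEq {n c : ℕ} (x : ℕ) (hcn : c ∣ 2 ^ n - 1) :
    2 ^ x ≡ 2 ^ (x % n) [MOD c] := by
  have h1 : 2 ^ n ≡ 1 [MOD c] :=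
    ((Nat.modEq_iff_dvd' Nat.one_le_two_pow).mpr hcn).symm
  calc 2 ^ x = 2 ^ (n * (x / n) + x % n) := by rw [Nat.div_add_mod]
    _ = (2 ^ n) ^ (x / n) * 2 ^ (x % n) := by rw [pow_add, pow_mul]
    _ ≡ 1 ^ (x / n) * 2 ^ (x % n) [MOD c] := (h1.pow _).mul_right _
    _ = 2 ^ (x % n) := by rw [one_pow, one_mul]

theorem two_pow_add_aux {x y u v : ℕ} (hxy : x ≤ y) (huv : u ≤ v)
    (h : 2 ^ x + 2 ^ y = 2 ^ u + 2 ^ v) : x = u ∧ y = v := by
  have hyv : y = v := by
    rcases lt_trichotomy y v with hlt | heq | hgt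
    · exfalso
      have h1 : 2 ^ x ≤ 2 ^ y := Nat.pow_le_pow_right (by norm_num) hxy
      have h2 : 2 ^ (y + 1) ≤ 2 ^ v := Nat.pow_le_pow_right (by norm_num) hlt
      have h3 : 0 < 2 ^ u := Nat.two_pow_pos u
      rw [pow_succ] at h2
      omega
    · exact heq
    · exfalso
      have h1 : 2 ^ u ≤ 2 ^ v := Nat.pow_le_pow_right (by norm_num) huv
      have h2 : 2 ^ (v + 1) ≤ 2 ^ y := Nat.pow_le_pow_right (by norm_num) hgt
      have h3 : 0 < 2 ^ x := Nat.two_pow_pos x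
      rw [pow_succ] at h2
      omega
  subst hyv
  have h4 : 2 ^ x = 2 ^ u := by omega
  exact ⟨Nat.pow_right_injective (le_refl 2) h4, rfl⟩

/-- Uniqueness of a sum of two powers of two. -/
theorem two_pow_add_eq {x y u v : ℕ} (h : 2 ^ x + 2 ^ y = 2 ^ u + 2 ^ v) :
    (x = u ∧ y = v) ∨ (x = v ∧ y = u) := by
  rcases le_total x y with hxy | hxy <;> rcases le_total u v with huv | huv
  · left
    exact two_pow_add_aux hxy huv h
  · right
    exact two_pow_add_aux hxy huv (by rw [h, add_comm])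
  · right
    have := two_pow_add_aux hxy huv (by rw [add_comm, h])
    exact ⟨this.2, this.1⟩
  · left
    have := two_pow_add_aux hxy huv (by rw [add_comm, h, add_comm])
    exact ⟨this.2, this.1⟩

/-- Four residues modulo `n` can be simultaneously shifted into `[0, M]` when `M` is large. -/
theorem exists_shift {n M : ℕ} (hn : 0 < n) (r : Fin 4 → ℕ) (hM : 4 * (n - 1 - M) < n) :
    ∃ s, s < n ∧ ∀ t, (r t + s) % n ≤ M := by
  by_contra hno
  push Not at hno
  let B : Fin 4 → Finset ℕ := fun t => (Finset.range n).filter (fun s => M < (r t + s) % n)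
  have hB : ∀ t, (B t).card ≤ n - 1 - M := by
    intro t
    have h1 : (B t).card ≤ (Finset.Ioo M n).card := by
      apply Finset.card_le_card_of_injOn (fun s => (r t + s) % n)
      · intro s hs
        have hs' := (Finset.mem_filter.mp hs).2
        exact Finset.mem_Ioo.mpr ⟨hs', Nat.mod_lt _ hn⟩
      · intro s hs s' hs' hss
        have hs1 := Finset.mem_range.mp (Finset.mem_filter.mp hs).1
        have hs2 := Finset.mem_range.mp (Finset.mem_filter.mp hs').1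
        have h3 : r t + s ≡ r t + s' [MOD n] := hss
        have h4 : s ≡ s' [MOD n] := Nat.ModEq.add_left_cancel' (r t) h3
        exact Nat.ModEq.eq_of_lt_of_lt h4 hs1 hs2
    rw [Nat.card_Ioo] at h1
    omega
  have hsub : Finset.range n ⊆ Finset.univ.biUnion B := by
    intro s hs
    obtain ⟨t, ht⟩ := hno s (Finset.mem_range.mp hs)
    exact Finset.mem_biUnion.mpr ⟨t, Finset.mem_univ t, Finset.mem_filter.mpr ⟨hs, ht⟩⟩
  have h1 := Finset.card_le_card hsub
  have h2 := Finset.card_biUnion_le (s := (Finset.univ : Finset (Fin 4))) (t := B)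
  have h3 : ∑ t : Fin 4, (B t).card ≤ ∑ _t : Fin 4, (n - 1 - M) :=
    Finset.sum_le_sum (fun t _ => hB t)
  rw [Finset.sum_const, Finset.card_univ, Fintype.card_fin, smul_eq_mul] at h3
  rw [Finset.card_range] at h1
  omega

/-- The size argument for A2. -/
theorem A2_size {n e c i j k : ℕ} (hn : 2 ≤ n) (hec : e * c = 2 ^ n - 1)
    (hsize : e * 2 ^ (n - (n + 3) / 4 + 1) < 2 ^ n - 1)
    (hi : i < n) (hj : j < n)
    (h : 2 ^ k + 2 ^ j ≡ 1 + 2 ^ (i + k) [MOD c]) : i = j := by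
  have hcn : c ∣ 2 ^ n - 1 := Dvd.intro_left e hec
  have he0 : 0 < e := by
    rcases Nat.eq_zero_or_pos e with rfl | h0
    · rw [zero_mul] at hsize
      omega
    · exact h0
  obtain ⟨s, hsn, hs⟩ := exists_shift (n := n) (M := n - (n + 3) / 4) (by omega)
    ![k, j, 0, i + k] (by omega)
  have hs0 := hs 0
  have hs1 := hs 1
  have hs2 := hs 2
  have hs3 := hs 3
  simp only [Matrix.cons_val_zero, Matrix.cons_val_one, Matrix.cons_val] at hs0 hs1 hs2 hs3
  have hcong : 2 ^ ((k + s) % n) + 2 ^ ((j + s) % n)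
      ≡ 2 ^ ((0 + s) % n) + 2 ^ ((i + k + s) % n) [MOD c] := by
    calc 2 ^ ((k + s) % n) + 2 ^ ((j + s) % n)
        ≡ 2 ^ (k + s) + 2 ^ (j + s) [MOD c] :=
          ((pow_mod_modEq _ hcn).add (pow_mod_modEq _ hcn)).symm
      _ = (2 ^ k + 2 ^ j) * 2 ^ s := by ring
      _ ≡ (1 + 2 ^ (i + k)) * 2 ^ s [MOD c] := h.mul_right _
      _ = 2 ^ (0 + s) + 2 ^ (i + k + s) := by ring
      _ ≡ 2 ^ ((0 + s) % n) + 2 ^ ((i + k + s) % n) [MOD c] :=
          (pow_mod_modEq _ hcn).add (pow_mod_modEq _ hcn)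
  have hbound : ∀ x y : ℕ, x ≤ n - (n + 3) / 4 → y ≤ n - (n + 3) / 4 →
      e * (2 ^ x + 2 ^ y) < e * c := by
    intro x y hx hy
    have h1 : 2 ^ x ≤ 2 ^ (n - (n + 3) / 4) := Nat.pow_le_pow_right (by norm_num) hx
    have h2 : 2 ^ y ≤ 2 ^ (n - (n + 3) / 4) := Nat.pow_le_pow_right (by norm_num) hy
    have h3 : 2 ^ x + 2 ^ y ≤ 2 ^ (n - (n + 3) / 4 + 1) := by
      rw [pow_succ]; omega
    rw [hec]
    exact lt_of_le_of_lt (Nat.mul_le_mul_left e h3) hsize
  have heq : e * (2 ^ ((k + s) % n) + 2 ^ ((j + s) % n))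
      = e * (2 ^ ((0 + s) % n) + 2 ^ ((i + k + s) % n)) :=
    Nat.ModEq.eq_of_lt_of_lt (Nat.ModEq.mul_left' e hcong) (hbound _ _ hs0 hs1)
      (hbound _ _ hs2 hs3)
  have heq' := Nat.eq_of_mul_eq_mul_left he0 heq
  rcases two_pow_add_eq heq' with ⟨h1, h2⟩ | ⟨h1, h2⟩
  · have hk : k ≡ 0 [MOD n] := Nat.ModEq.add_right_cancel' s h1
    have hji : j + s ≡ i + k + s [MOD n] := h2
    have hji' : j ≡ i + k [MOD n] := Nat.ModEq.add_right_cancel' s hji
    have hik : i + k ≡ i + 0 [MOD n] := Nat.ModEq.add_left i hk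
    have : j ≡ i [MOD n] := hji'.trans hik
    exact (Nat.ModEq.eq_of_lt_of_lt this hj hi).symm
  · have h1' : 0 + (k + s) ≡ i + (k + s) [MOD n] := by
      have : k + s ≡ i + k + s [MOD n] := h1
      rw [zero_add, ← add_assoc]
      exact this
    have hi0 : 0 ≡ i [MOD n] := Nat.ModEq.add_right_cancel' (k + s) h1'
    have hj0 : j ≡ 0 [MOD n] := Nat.ModEq.add_right_cancel' s h2
    have hi' : i = 0 := (Nat.ModEq.eq_of_lt_of_lt hi0 (by omega) hi).symm
    have hj' : j = 0 := Nat.ModEq.eq_of_lt_of_lt hj0 hj (by omega)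
    rw [hi', hj']

theorem four_mul_lt {t : ℕ} (ht : 5 ≤ t) : 4 * t + 4 < 2 ^ t := by
  induction t, ht using Nat.le_induction with
  | base => norm_num
  | succ t ht ih =>
    rw [pow_succ]
    omega

theorem size_of_large {n e : ℕ} (hn : 21 ≤ n) (he : e ≤ n) :
    e * 2 ^ (n - (n + 3) / 4 + 1) < 2 ^ n - 1 := by
  obtain ⟨t, ht⟩ : ∃ t, t = (n + 3) / 4 - 1 := ⟨_, rfl⟩
  have ht5 : 5 ≤ t := by omega
  have hnt : n ≤ 4 * t + 4 := by omega
  have hexp : n - (n + 3) / 4 + 1 = n - t := by omega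
  have h1 : 4 * t + 4 < 2 ^ t := four_mul_lt ht5
  have hpow : 2 ^ n = 2 ^ t * 2 ^ (n - t) := by
    rw [← pow_add]; congr 1; omega
  have h2 : 2 ≤ 2 ^ (n - t) := by
    calc 2 = 2 ^ 1 := by norm_num
      _ ≤ 2 ^ (n - t) := Nat.pow_le_pow_right (by norm_num) (by omega)
  have he' : e + 1 ≤ 2 ^ t := by omega
  have h3 : (e + 1) * 2 ^ (n - t) ≤ 2 ^ t * 2 ^ (n - t) := Nat.mul_le_mul_right _ he'
  rw [hexp, hpow]
  rw [add_mul, one_mul] at h3
  omega

theorem small_pairs : ∀ n ∈ Finset.Icc 2 20, ∀ e ∈ Finset.Icc 1 n, e ∣ n → e ∣ 2 ^ n - 1 →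
    2 ^ n - 1 ≤ e * 2 ^ (n - (n + 3) / 4 + 1) →
    (n = 2 ∧ e = 1) ∨ (n = 3 ∧ e = 1) ∨ (n = 4 ∧ e = 1) ∨ (n = 6 ∧ e = 3) := by
  decide

theorem small_check2 :
    ∀ i < 2, ∀ j < 2, ∀ k < 2, (2 ^ k + 2 ^ j) % 3 = (1 + 2 ^ (i + k)) % 3 → i = j := by
  decide

theorem small_check3 :
    ∀ i < 3, ∀ j < 3, ∀ k < 3, (2 ^ k + 2 ^ j) % 7 = (1 + 2 ^ (i + k)) % 7 → i = j := by
  decide

theorem small_check4 :
    ∀ i < 4, ∀ j < 4, ∀ k < 4, (2 ^ k + 2 ^ j) % 15 = (1 + 2 ^ (i + k)) % 15 → i = j := by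
  decide

theorem small_check6 :
    ∀ i < 6, ∀ j < 6, ∀ k < 6, (2 ^ k + 2 ^ j) % 21 = (1 + 2 ^ (i + k)) % 21 → i = j := by
  decide

/-- Piece A2 of the GSz plan. -/
theorem A2 {n e c i j k : ℕ} (hn : 2 ≤ n) (hen : e ∣ n) (hec : e * c = 2 ^ n - 1)
    (hi : i < n) (hj : j < n)
    (h : 2 ^ k + 2 ^ j ≡ 1 + 2 ^ (i + k) [MOD c]) : i = j := by
  by_cases hsize : e * 2 ^ (n - (n + 3) / 4 + 1) < 2 ^ n - 1
  · exact A2_size hn hec hsize hi hj h
  · push Not at hsize
    have hen' : e ≤ n := Nat.le_of_dvd (by omega) hen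
    have he0 : 0 < e := by
      rcases Nat.eq_zero_or_pos e with rfl | h0
      · rw [zero_mul] at hsize
        have : 4 ≤ 2 ^ n := by
          calc 4 = 2 ^ 2 := by norm_num
            _ ≤ 2 ^ n := Nat.pow_le_pow_right (by norm_num) hn
        omega
      · exact h0
    have hn20 : n ≤ 20 := by
      by_contra hlt
      push Not at hlt
      have := size_of_large (n := n) (e := e) (by omega) hen'
      omega
    have hcn : c ∣ 2 ^ n - 1 := Dvd.intro_left e hec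
    have hk' : 2 ^ (k % n) + 2 ^ j ≡ 1 + 2 ^ (i + k % n) [MOD c] := by
      calc 2 ^ (k % n) + 2 ^ j ≡ 2 ^ k + 2 ^ j [MOD c] :=
            ((pow_mod_modEq k hcn).symm).add_right _
        _ ≡ 1 + 2 ^ (i + k) [MOD c] := h
        _ = 1 + 2 ^ i * 2 ^ k := by rw [pow_add]
        _ ≡ 1 + 2 ^ i * 2 ^ (k % n) [MOD c] := ((pow_mod_modEq k hcn).mul_left _).add_left _
        _ = 1 + 2 ^ (i + k % n) := by rw [pow_add]
    have hkn : k % n < n := Nat.mod_lt _ (by omega)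
    have hpairs := small_pairs n (Finset.mem_Icc.mpr ⟨hn, hn20⟩) e
      (Finset.mem_Icc.mpr ⟨he0, hen'⟩) hen (Dvd.intro c hec) hsize
    rcases hpairs with ⟨rfl, rfl⟩ | ⟨rfl, rfl⟩ | ⟨rfl, rfl⟩ | ⟨rfl, rfl⟩
    · have hc : c = 3 := by omega
      subst hc
      exact small_check2 i hi j hj _ hkn hk'
    · have hc : c = 7 := by omega
      subst hc
      exact small_check3 i hi j hj _ hkn hk'
    · have hc : c = 15 := by omega
      subst hc
      exact small_check4 i hi j hj _ hkn hk'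
    · have hc : c = 21 := by omega
      subst hc
      exact small_check6 i hi j hj _ hkn hk'

end Cfsg.Agent.Lib.Helper26.GSzA
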