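import Cfsg.Agent.S5013
import Cfsg.Agent.S5014

set_option autoImplicit false

namespace Cfsg.Agent.Lib.Helper26

open Cfsg.Agent.S5013 Cfsg.Agent.S5014
open scoped commutatorElement

variable {G : Type*} [Group G]

/-- In a rank one pair no non-identity element of `A` normalizes `B`. -/
theorem rankOne_eq_one_of_mem_normalizer {A B : Subgroup G} (h : Cfsg.IsRankOnePair A B) {a : G}
    (ha : a ∈ A) (haN : a ∈ Subgroup.normalizer (B : Set G)) : a = 1 := by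
  have h1 : a ∈ A ⊓ Subgroup.normalizer (B : Set G) := ⟨ha, haN⟩
  rw [inf_normalizer_eq_bot h.ne h.cond_left, Subgroup.mem_bot] at h1
  exact h1

/-- In a rank one pair no non-identity element of `A` centralizes `B`. -/
theorem rankOne_eq_one_of_commute {A B : Subgroup G} (h : Cfsg.IsRankOnePair A B) {a : G}
    (ha : a ∈ A) (hc : ∀ b ∈ B, a * b = b * a) : a = 1 := by
  apply rankOne_eq_one_of_mem_normalizer h ha
  rw [Subgroup.mem_normalizer_iff]
  intro x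
  constructor
  · intro hx
    have : a * x * a⁻¹ = x := by rw [hc x hx]; group
    rw [this]; exact hx
  · intro hx
    have h2 : a⁻¹ * (a * x * a⁻¹) * a = a * x * a⁻¹ := by
      have h3 := hc _ hx
      calc a⁻¹ * (a * x * a⁻¹) * a = a⁻¹ * ((a * x * a⁻¹) * a) := by group
        _ = a⁻¹ * (a * (a * x * a⁻¹)) := by rw [h3]
        _ = a * x * a⁻¹ := by group
    have h4 : x = a⁻¹ * (a * x * a⁻¹) * a := by group
    rw [h4, h2]; exact hx

theorem rankOne_inf_eq_bot {A B : Subgroup G} (h : Cfsg.IsRankOnePair A B) : A ⊓ B = ⊥ := by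
  rw [eq_bot_iff]
  rintro x ⟨hxA, hxB⟩
  rw [Subgroup.mem_bot]
  exact rankOne_eq_one_of_mem_normalizer h hxA (Subgroup.le_normalizer hxB)

/-- The members of a rank one pair do not commute elementwise. -/
theorem rankOne_not_commute {A B : Subgroup G} (h : Cfsg.IsRankOnePair A B) :
    ¬ ∀ a ∈ A, ∀ b ∈ B, a * b = b * a := by
  intro hc
  obtain ⟨a, ha, ha1⟩ := ne_bot_left h
  exact ha1 (rankOne_eq_one_of_commute h ha (hc a ha))

/-- Version of the rank one condition: `a B a⁻¹ = b A b⁻¹`. -/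
theorem rankOne_exists_left {A B : Subgroup G} (h : Cfsg.IsRankOnePair A B) {a : G} (ha : a ∈ A)
    (ha1 : a ≠ 1) : ∃ b ∈ B, b ≠ 1 ∧ Cfsg.conjBy A b = Cfsg.conjBy B a := by
  obtain ⟨b, hb, hb1, hbe⟩ := h.cond_left a⁻¹ (A.inv_mem ha) (inv_ne_one.mpr ha1)
  refine ⟨b⁻¹, B.inv_mem hb, inv_ne_one.mpr hb1, ?_⟩
  rw [hbe, inv_inv]

theorem rankOne_exists_right {A B : Subgroup G} (h : Cfsg.IsRankOnePair A B) {b : G} (hb : b ∈ B)
    (hb1 : b ≠ 1) : ∃ a ∈ A, a ≠ 1 ∧ Cfsg.conjBy B a = Cfsg.conjBy A b :=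
  rankOne_exists_left (Cfsg.RankOnePair_symm h) hb hb1

/-- `A` does not commute with a conjugate `β A β⁻¹`, `β ∈ B` non-identity. -/
theorem rankOne_conj_not_commute {A B : Subgroup G} (h : Cfsg.IsRankOnePair A B) {β : G}
    (hβ : β ∈ B) (hβ1 : β ≠ 1) : ¬ ∀ x ∈ A, ∀ y ∈ Cfsg.conjBy A β, x * y = y * x := by
  intro hc
  obtain ⟨a, ha, -, hae⟩ := rankOne_exists_right h hβ hβ1
  apply rankOne_not_commute h
  intro x hx b hb
  have h1 : a * b * a⁻¹ ∈ Cfsg.conjBy A β := by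
    rw [← hae, mem_conjBy_iff]
    have : a⁻¹ * (a * b * a⁻¹) * a = b := by group
    rw [this]; exact hb
  have h2 := hc (a * x * a⁻¹) (A.mul_mem (A.mul_mem ha hx) (A.inv_mem ha)) _ h1
  have h3 : a * (x * b) * a⁻¹ = a * (b * x) * a⁻¹ := by
    calc a * (x * b) * a⁻¹ = (a * x * a⁻¹) * (a * b * a⁻¹) := by group
      _ = (a * b * a⁻¹) * (a * x * a⁻¹) := h2
      _ = a * (b * x) * a⁻¹ := by group
  exact mul_left_cancel (mul_right_cancel h3)

/-- `A` meets a conjugate `β A β⁻¹`, `β ∈ B` non-identity, trivially. -/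
theorem rankOne_inf_conj_eq_bot {A B : Subgroup G} (h : Cfsg.IsRankOnePair A B) {β : G}
    (hβ : β ∈ B) (hβ1 : β ≠ 1) : A ⊓ Cfsg.conjBy A β = ⊥ := by
  obtain ⟨a, ha, -, hae⟩ := rankOne_exists_right h hβ hβ1
  rw [eq_bot_iff]
  rintro x ⟨hxA, hxC⟩
  rw [Subgroup.mem_bot]
  have hxA' : x ∈ A := hxA
  have hxC' : x ∈ Cfsg.conjBy A β := hxC
  rw [← hae, mem_conjBy_iff] at hxC'
  have h1 : a⁻¹ * x * a ∈ A ⊓ B := ⟨A.mul_mem (A.mul_mem (A.inv_mem ha) hxA') ha, hxC'⟩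
  rw [rankOne_inf_eq_bot h, Subgroup.mem_bot] at h1
  calc x = a * (a⁻¹ * x * a) * a⁻¹ := by group
    _ = 1 := by rw [h1]; group

/-- If `a ∈ A` is non-identity, then `a B a⁻¹` does not centralize `B`. -/
theorem rankOne_conj_centralizes_false {A B : Subgroup G} (h : Cfsg.IsRankOnePair A B) {a : G}
    (ha : a ∈ A) (ha1 : a ≠ 1)
    (hc : ∀ β ∈ B, ∀ β' ∈ B, (a * β * a⁻¹) * β' = β' * (a * β * a⁻¹)) : False := by
  obtain ⟨b, hb, -, hbe⟩ := rankOne_exists_left h ha ha1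
  apply rankOne_not_commute h
  intro x hx β' hβ'
  have h1 : b * x * b⁻¹ ∈ Cfsg.conjBy B a := by
    rw [← hbe, mem_conjBy_iff]
    have : b⁻¹ * (b * x * b⁻¹) * b = x := by group
    rw [this]; exact hx
  rw [mem_conjBy_iff] at h1
  have h2 := hc _ h1 (b * β' * b⁻¹) (B.mul_mem (B.mul_mem hb hβ') (B.inv_mem hb))
  have h3 : a * (a⁻¹ * (b * x * b⁻¹) * a) * a⁻¹ = b * x * b⁻¹ := by group
  rw [h3] at h2
  have h4 : b * (x * β') * b⁻¹ = b * (β' * x) * b⁻¹ := by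
    calc b * (x * β') * b⁻¹ = (b * x * b⁻¹) * (b * β' * b⁻¹) := by group
      _ = (b * β' * b⁻¹) * (b * x * b⁻¹) := h2
      _ = b * (β' * x) * b⁻¹ := by group
  exact mul_left_cancel (mul_right_cancel h4)

/-- In the commutator case for `(C, B)`, with `B` abelian, every conjugate `c β c⁻¹` (`c ∈ C`,
`β ∈ B`) centralizes `B`. -/
theorem commutatorCase_conj_commute {S : Set (Subgroup G)} {C B : Subgroup G}
    (hB : IsMulCommutative B) (hcase : Cfsg.RootCommutatorCase S C B) {c : G} (hc : c ∈ C)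
    {β β' : G} (hβ : β ∈ B) (hβ' : β' ∈ B) :
    (c * β * c⁻¹) * β' = β' * (c * β * c⁻¹) := by
  have h1 : ⁅c, β⁆ ∈ ⁅C, B⁆ := Subgroup.commutator_mem_commutator hc hβ
  have h2 := hcase.2.1 _ h1 β' (Subgroup.mem_sup_right hβ')
  have h3 : β * β' = β' * β := congrArg Subtype.val (hB.is_comm.comm ⟨β, hβ⟩ ⟨β', hβ'⟩)
  have h4 : c * β * c⁻¹ = ⁅c, β⁆ * β := by rw [commutatorElement_def]; group
  rw [h4, mul_assoc, h3, ← mul_assoc, h2, mul_assoc]

end Cfsg.Agent.Lib.Helper26
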