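import Cfsg.Agent.Lib.Helper26.Chain2

set_option autoImplicit false

namespace Cfsg.Agent.Lib.Helper26

open Cfsg Cfsg.Agent.S5013 Cfsg.Agent.S5014 Cfsg.Agent.S5029
open scoped commutatorElement

variable {G : Type*} [Group G] {S : Set (Subgroup G)}

/-- The normalizer condition of a nilpotent subgroup `K`, stated inside the ambient group. -/
theorem exists_normalizing_of_lt_nilp {K H : Subgroup G} (hK : Group.IsNilpotent ↥K) (hHK : H < K) :
    ∃ g ∈ K, g ∉ H ∧ g ∈ Subgroup.normalizer (H : Set G) := by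
  have hne : H.subgroupOf K ≠ ⊤ := by
    intro h
    rw [Subgroup.subgroupOf_eq_top] at h
    exact (not_le_of_gt hHK) h
  have hlt := Group.normalizerCondition_of_isNilpotent (G := ↥K) (H.subgroupOf K)
    (lt_top_iff_ne_top.mpr hne)
  obtain ⟨g', hg'N, hg'H⟩ := SetLike.exists_of_lt hlt
  refine ⟨g'.1, g'.2, fun h => hg'H (Subgroup.mem_subgroupOf.mpr h), ?_⟩
  rw [Subgroup.mem_normalizer_iff] at hg'N ⊢
  intro h
  constructor
  · intro hh
    have h1 := (hg'N ⟨h, hHK.le hh⟩).mp (Subgroup.mem_subgroupOf.mpr hh)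
    exact Subgroup.mem_subgroupOf.mp h1
  · intro hh
    have hhK : h ∈ K := by
      have e : h = (g'.1)⁻¹ * (g'.1 * h * (g'.1)⁻¹) * g'.1 := by group
      rw [e]
      exact K.mul_mem (K.mul_mem (K.inv_mem g'.2) (hHK.le hh)) g'.2
    have h1 := (hg'N ⟨h, hhK⟩).mpr (Subgroup.mem_subgroupOf.mpr hh)
    exact Subgroup.mem_subgroupOf.mp h1

/-- A rank one group is not nilpotent. -/
theorem not_nilpotent_of_rankOne {A B R : Subgroup G} (h : Cfsg.IsRankOnePair A B)
    (hAB : A ⊔ B ≤ R) (hR : Group.IsNilpotent ↥R) : False := by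
  have hK : Group.IsNilpotent ↥(A ⊔ B) := by
    haveI := hR
    haveI : Group.IsNilpotent ↥((A ⊔ B).subgroupOf R) := Subgroup.isNilpotent _
    exact Group.nilpotent_of_mulEquiv (Subgroup.subgroupOfEquivOfLe hAB)
  have hBN : B ⊓ Subgroup.normalizer (A : Set G) = ⊥ := (Cfsg.Agent.S5013.result h).2.2.2
  obtain ⟨b₀, hb₀, hb₀1⟩ := ne_bot_left (Cfsg.RankOnePair_symm h)
  have hnot : ¬ B ≤ Subgroup.normalizer (A : Set G) := by
    intro hle
    have : b₀ ∈ B ⊓ Subgroup.normalizer (A : Set G) := ⟨hb₀, hle hb₀⟩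
    rw [hBN, Subgroup.mem_bot] at this
    exact hb₀1 this
  have hlt : (A ⊔ B) ⊓ Subgroup.normalizer (A : Set G) < A ⊔ B := by
    refine lt_of_le_of_ne inf_le_left ?_
    intro he
    apply hnot
    intro b hb
    have : b ∈ (A ⊔ B) ⊓ Subgroup.normalizer (A : Set G) := by
      rw [he]; exact Subgroup.mem_sup_right hb
    exact this.2
  obtain ⟨g, hgK, hgH, hgN⟩ := exists_normalizing_of_lt_nilp hK hlt
  have hgA : Cfsg.conjBy A g ≠ A := by
    intro he
    exact hgH ⟨hgK, mem_normalizer_of_conjBy_eq he⟩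
  have hU : Cfsg.conjBy A g ∈ Cfsg.unipotentSubgroups A B := ⟨g, hgK, rfl⟩
  have hUle : Cfsg.conjBy A g ≤ Subgroup.normalizer (A : Set G) := by
    intro x hx
    rw [mem_conjBy_iff] at hx
    have h1 : g⁻¹ * x * g ∈ (A ⊔ B) ⊓ Subgroup.normalizer (A : Set G) :=
      ⟨Subgroup.mem_sup_left hx, Subgroup.le_normalizer hx⟩
    have h2 := (Subgroup.mem_normalizer_iff.mp hgN _).mp h1
    have e : g * (g⁻¹ * x * g) * g⁻¹ = x := by group
    rw [e] at h2
    exact h2.2
  rcases unipotent_subset_delta h hU with h1 | ⟨a, ha, h1⟩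
  · exact hgA h1
  · apply hnot
    intro b hb
    have h2 : a * b * a⁻¹ ∈ Subgroup.normalizer (A : Set G) := by
      apply hUle
      rw [h1]
      exact mem_conjBy_of_mem hb a
    have haN : a ∈ Subgroup.normalizer (A : Set G) := Subgroup.le_normalizer ha
    have e : b = a⁻¹ * (a * b * a⁻¹) * a := by group
    rw [e]
    exact Subgroup.mul_mem _ (Subgroup.mul_mem _ (Subgroup.inv_mem _ haN) h2) haN

/-- In a rank one pair `(A, C)`, a subgroup containing `C` and a nontrivial element of `A`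
contains `A`. -/
theorem le_of_rankOne_of_mem {A C R : Subgroup G} (h : Cfsg.IsRankOnePair A C) (hC : C ≤ R)
    {a : G} (ha : a ∈ A) (ha1 : a ≠ 1) (haR : a ∈ R) : A ≤ R := by
  obtain ⟨c, hc, -, hce⟩ := h.cond_left a ha ha1
  intro a' ha'
  have h1 : c⁻¹ * a' * c ∈ Cfsg.conjBy A c⁻¹ := mem_conjBy_inv_of_mem ha' c
  rw [hce, mem_conjBy_iff, inv_inv] at h1
  have e : a' = c * a⁻¹ * (a * (c⁻¹ * a' * c) * a⁻¹) * a * c⁻¹ := by group
  rw [e]
  have hcR := hC hc
  exact R.mul_mem (R.mul_mem (R.mul_mem (R.mul_mem hcR (R.inv_mem haR)) (hC h1)) haR)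
    (R.inv_mem hcR)

/-- If `(P, C)` is not a rank one pair, every conjugate of `C` by an element of `P` commutes
with `C`. -/
theorem commWith_conjBy_of_not_rankOne (hS : Cfsg.IsRootSubgroupSet S) {P C : Subgroup G}
    (hP : P ∈ S) (hC : C ∈ S) (hn : ¬ Cfsg.IsRankOnePair P C) {p : G} (hp : p ∈ P) :
    CommWith (Cfsg.conjBy C p) C := by
  have cCC : CommOn C := commOn_of_mem hS hC
  rcases hS.pair P hP C hC with h | h | h
  · have h1 : CommWith P C := commWith_of_commutator_eq_bot h
    have h2 : Cfsg.conjBy C p = C := by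
      apply conjBy_eq_of_mem_normalizer
      apply Subgroup.centralizer_le_normalizer
      exact commWith_iff_le_centralizer.mp h1 hp
    rw [h2]
    exact cCC
  · exact absurd h hn
  · have h1 : Cfsg.conjBy C p ≤ C ⊔ ⁅C, P⁆ := conjBy_le_sup hp
    have h2 : CommWith ⁅C, P⁆ C := by
      intro f hf c hc
      rw [Subgroup.commutator_comm] at hf
      exact h.2.1 f hf c (Subgroup.mem_sup_right hc)
    exact ((CommWith.sup_right cCC h2.symm).mono le_rfl h1).symm

theorem rtg_symm {α : Type*} {r : α → α → Prop} (hr : ∀ a b, r a b → r b a) {a b : α}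
    (h : Relation.ReflTransGen r a b) : Relation.ReflTransGen r b a := by
  induction h with
  | refl => exact Relation.ReflTransGen.refl
  | tail _ hbc ih => exact Relation.ReflTransGen.head (hr _ _ hbc) ih

theorem fAdj_symm {A B : Subgroup G} (h : Cfsg.FAdj S A B) : Cfsg.FAdj S B A :=
  ⟨h.2.1, h.1, Cfsg.RankOnePair_symm h.2.2⟩

/-- Key lemma: if `C` is a rank one partner of `A` but not of `B`, and `E` commutes with `B`
and contains `a b` with `1 ≠ a ∈ A`, `b ∈ B`, then `(E, C)` is a rank one pair. -/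
theorem rankOne_of_line (hS : Cfsg.IsRootSubgroupSet S) {A B C E : Subgroup G}
    (hB : B ∈ S) (hC : C ∈ S) (hE : E ∈ S) (hAC : Cfsg.IsRankOnePair A C)
    (hBC : ¬ Cfsg.IsRankOnePair B C) (hEB : CommWith E B) {a b : G} (ha : a ∈ A)
    (ha1 : a ≠ 1) (hb : b ∈ B) (he : a * b ∈ E) : Cfsg.IsRankOnePair E C := by
  by_contra hEC
  have hAN : A ⊓ Subgroup.normalizer (C : Set G) = ⊥ := (Cfsg.Agent.S5013.result hAC).2.2.1
  have hCA : Cfsg.IsRankOnePair C A := Cfsg.RankOnePair_symm hAC
  -- a contradiction from `C^x = C`-type statements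
  have key : ∀ x : G, x ∈ A → x ≠ 1 → CommWith (Cfsg.conjBy C x) C → False := by
    intro x hx hx1 hcomm
    have h1 : Cfsg.conjBy C x = C := by
      apply Cfsg.Agent.S5024.unipotent_eq_of_commute hCA
        (conjBy_mem_unipotent (A_mem_unipotent C A) (Subgroup.mem_sup_right hx))
        (A_mem_unipotent C A)
      exact hcomm
    have h2 : x ∈ A ⊓ Subgroup.normalizer (C : Set G) := ⟨hx, mem_normalizer_of_conjBy_eq h1⟩
    rw [hAN, Subgroup.mem_bot] at h2
    exact hx1 h2
  have hLB := fun {p : G} (hp : p ∈ B) => commWith_conjBy_of_not_rankOne hS hB hC hBC hp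
  have hLE := fun {p : G} (hp : p ∈ E) => commWith_conjBy_of_not_rankOne hS hE hC hEC hp
  rcases hS.pair B hB C hC with hBC0 | hBC0 | hBC0
  · -- `B` centralizes `C`
    have hbC : Cfsg.conjBy C b = C := by
      apply conjBy_eq_of_mem_normalizer
      apply Subgroup.centralizer_le_normalizer
      exact commWith_iff_le_centralizer.mp (commWith_of_commutator_eq_bot hBC0) hb
    have h1 := hLE he
    rw [← conjBy_conjBy, hbC] at h1
    exact key a ha ha1 h1
  · exact hBC hBC0
  · -- `⁅B, C⁆ ∈ S`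
    rcases hS.pair E hE C hC with hEC0 | hEC0 | hEC0
    · -- `E` centralizes `C`
      have hcomm : CommWith E C := commWith_of_commutator_eq_bot hEC0
      have h1 : Cfsg.conjBy C a⁻¹ = Cfsg.conjBy C b := by
        have h2 : Cfsg.conjBy C (a * b) = C := by
          apply conjBy_eq_of_mem_normalizer
          apply Subgroup.centralizer_le_normalizer
          exact commWith_iff_le_centralizer.mp hcomm he
        rw [← conjBy_conjBy] at h2
        have h3 := congrArg (fun K => Cfsg.conjBy K a⁻¹) h2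
        simp only [conjBy_inv_conjBy] at h3
        exact h3.symm
      have ha1' : a⁻¹ ≠ 1 := fun h => ha1 (inv_eq_one.mp h)
      apply key a⁻¹ (A.inv_mem ha) ha1'
      rw [h1]
      exact hLB hb
    · exact hEC hEC0
    · -- chain `(E, C, B)`
      have hchain : Chain S E C B :=
        ⟨hS, hE, hC, hB, hEC0.1, by rw [Subgroup.commutator_comm]; exact hBC0.1,
          commutator_eq_bot_of_commWith hEB⟩
      obtain ⟨c, hc, hc1⟩ := ne_bot_left hCA
      have hnil := hchain.nilpotent hc hc1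
      have haR : a ∈ E ⊔ C ⊔ B := by
        have e : a = (a * b) * b⁻¹ := by group
        rw [e]
        exact Subgroup.mul_mem _ (Chain.A_le_R E C B he) (Subgroup.inv_mem _ (Chain.C_le_R E C B hb))
      have hCR : C ≤ E ⊔ C ⊔ B := Chain.B_le_R E C B
      have hAR : A ≤ E ⊔ C ⊔ B := le_of_rankOne_of_mem hAC hCR ha ha1 haR
      exact not_nilpotent_of_rankOne hAC (sup_le hAR hCR) hnil

end Cfsg.Agent.Lib.Helper26
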