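import Cfsg.Agent.S0765
import Cfsg.Agent.S0766
import Cfsg.Agent.S0767
import Cfsg.Agent.S5016
import Cfsg.Agent.S5029
import Cfsg.Agent.S5032
import Cfsg.Agent.Lib.Helper26.RankOne

set_option autoImplicit false

namespace Cfsg.Agent.Lib.Helper26

open Matrix Cfsg.Agent.Lib.helper6 Cfsg.Agent.S5013

variable {F : Type*} [Field F] (m : ℕ)

/-- The symplectic transvection with centre `p` and parameter `c` as an element of `Sp`. -/
def spT (p : Fin m ⊕ Fin m → F) (c : F) : ↥(Matrix.symplecticGroup (Fin m) F) :=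
  ⟨Cfsg.sympTransvection m p c, sympTransvection_mem m p c⟩

variable {m}

theorem spT_mulVec (p : Fin m ⊕ Fin m → F) (c : F) (x : Fin m ⊕ Fin m → F) :
    (spT m p c : Matrix (Fin m ⊕ Fin m) (Fin m ⊕ Fin m) F) *ᵥ x =
      x + (c * Cfsg.sympForm m F x p) • p :=
  sympTransvection_mulVec m p c x

/-- Elements of `Sp` are determined by their action on vectors. -/
theorem sp_ext {g h : ↥(Matrix.symplecticGroup (Fin m) F)}
    (H : ∀ x : Fin m ⊕ Fin m → F,
      (g : Matrix (Fin m ⊕ Fin m) (Fin m ⊕ Fin m) F) *ᵥ x =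
        (h : Matrix (Fin m ⊕ Fin m) (Fin m ⊕ Fin m) F) *ᵥ x) : g = h := by
  apply Subtype.ext
  exact Matrix.mulVec_injective (funext H)

theorem sp_mul_mulVec (A B : ↥(Matrix.symplecticGroup (Fin m) F)) (x : Fin m ⊕ Fin m → F) :
    ((A * B : ↥(Matrix.symplecticGroup (Fin m) F)) : Matrix (Fin m ⊕ Fin m) (Fin m ⊕ Fin m) F) *ᵥ x
      = (A : Matrix (Fin m ⊕ Fin m) (Fin m ⊕ Fin m) F) *ᵥ
          ((B : Matrix (Fin m ⊕ Fin m) (Fin m ⊕ Fin m) F) *ᵥ x) :=
  Cfsg.Agent.S0765.mul_mulVec m A B x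

theorem sp_one_mulVec (x : Fin m ⊕ Fin m → F) :
    ((1 : ↥(Matrix.symplecticGroup (Fin m) F)) : Matrix (Fin m ⊕ Fin m) (Fin m ⊕ Fin m) F) *ᵥ x
      = x := by
  change (1 : Matrix (Fin m ⊕ Fin m) (Fin m ⊕ Fin m) F) *ᵥ x = x
  rw [Matrix.one_mulVec]

theorem sp_inv_mulVec (g : ↥(Matrix.symplecticGroup (Fin m) F)) (x : Fin m ⊕ Fin m → F) :
    (g⁻¹ : ↥(Matrix.symplecticGroup (Fin m) F)).1 *ᵥ (g.1 *ᵥ x) = x := by
  rw [← sp_mul_mulVec, inv_mul_cancel, sp_one_mulVec]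

theorem sp_mulVec_inv (g : ↥(Matrix.symplecticGroup (Fin m) F)) (x : Fin m ⊕ Fin m → F) :
    g.1 *ᵥ ((g⁻¹ : ↥(Matrix.symplecticGroup (Fin m) F)).1 *ᵥ x) = x := by
  rw [← sp_mul_mulVec, mul_inv_cancel, sp_one_mulVec]

theorem sp_form (g : ↥(Matrix.symplecticGroup (Fin m) F)) (u v : Fin m ⊕ Fin m → F) :
    Cfsg.sympForm m F (g.1 *ᵥ u) (g.1 *ᵥ v) = Cfsg.sympForm m F u v :=
  (mem_symplecticGroup_iff_sympForm m g.1).mp g.2 u v

theorem spT_mul (p : Fin m ⊕ Fin m → F) (c d : F) : spT m p c * spT m p d = spT m p (c + d) :=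
  Subtype.ext ((Cfsg.Agent.S0767.result m p).1 c d)

theorem spT_zero (p : Fin m ⊕ Fin m → F) : spT m p 0 = 1 := by
  apply sp_ext
  intro x
  rw [spT_mulVec, sp_one_mulVec, zero_mul, zero_smul, add_zero]

theorem spT_inv (p : Fin m ⊕ Fin m → F) (c : F) : (spT m p c)⁻¹ = spT m p (-c) := by
  rw [inv_eq_iff_mul_eq_one, spT_mul, add_neg_cancel, spT_zero]

theorem spT_conj (g : ↥(Matrix.symplecticGroup (Fin m) F)) (p : Fin m ⊕ Fin m → F) (c : F) :
    g * spT m p c * g⁻¹ = spT m (g.1 *ᵥ p) c := by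
  apply sp_ext
  intro x
  rw [sp_mul_mulVec, sp_mul_mulVec, spT_mulVec, spT_mulVec, Matrix.mulVec_add, sp_mulVec_inv,
    Matrix.mulVec_smul]
  congr 2
  rw [← sp_form g ((g⁻¹ : ↥(Matrix.symplecticGroup (Fin m) F)).1 *ᵥ x) p, sp_mulVec_inv]

theorem spT_smul (p : Fin m ⊕ Fin m → F) (l c : F) : spT m (l • p) c = spT m p (l ^ 2 * c) := by
  apply sp_ext
  intro x
  rw [spT_mulVec, spT_mulVec, sympForm_smul_right, smul_smul]
  congr 2
  ring

theorem spT_eq_one_iff {p : Fin m ⊕ Fin m → F} (hp : p ≠ 0) {c : F} : spT m p c = 1 ↔ c = 0 := by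
  constructor
  · intro h
    obtain ⟨x, hx⟩ := sympForm_nondeg m p hp
    have h1 := congrArg (fun g : ↥(Matrix.symplecticGroup (Fin m) F) => g.1 *ᵥ x) h
    simp only [spT_mulVec, sp_one_mulVec] at h1
    have h2 : (c * Cfsg.sympForm m F x p) • p = 0 := by
      have := h1
      rwa [add_eq_left] at this
    rcases smul_eq_zero.mp h2 with h3 | h3
    · rcases mul_eq_zero.mp h3 with h4 | h4
      · exact h4
      · rw [sympForm_swap, neg_eq_zero] at h4
        exact absurd h4 hx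
    · exact absurd h3 hp
  · rintro rfl
    exact spT_zero p

/-- The group of symplectic transvections with centre `p`. -/
def spRoot (p : Fin m ⊕ Fin m → F) : Subgroup ↥(Matrix.symplecticGroup (Fin m) F) where
  carrier := {g | ∃ c : F, g = spT m p c}
  one_mem' := ⟨0, (spT_zero p).symm⟩
  mul_mem' := by
    rintro _ _ ⟨c, rfl⟩ ⟨d, rfl⟩
    exact ⟨c + d, spT_mul p c d⟩
  inv_mem' := by
    rintro _ ⟨c, rfl⟩
    exact ⟨-c, spT_inv p c⟩

theorem mem_spRoot {p : Fin m ⊕ Fin m → F} {g : ↥(Matrix.symplecticGroup (Fin m) F)} :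
    g ∈ spRoot p ↔ ∃ c : F, g = spT m p c := Iff.rfl

/-- The generating set in the statement is the carrier of `spRoot p`. -/
theorem spRoot_gen_iff (p : Fin m ⊕ Fin m → F) (g : ↥(Matrix.symplecticGroup (Fin m) F)) (c : F) :
    (∀ v : Fin m ⊕ Fin m → F,
      (g : Matrix (Fin m ⊕ Fin m) (Fin m ⊕ Fin m) F) *ᵥ v =
        v + (c * (v ⬝ᵥ (Matrix.J (Fin m) F *ᵥ p))) • p) ↔ g = spT m p c := by
  constructor
  · intro h
    apply sp_ext
    intro x
    rw [h x, spT_mulVec]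
    rfl
  · rintro rfl v
    rw [spT_mulVec]
    rfl

theorem spRoot_eq_closure (p : Fin m ⊕ Fin m → F) :
    Subgroup.closure {g : ↥(Matrix.symplecticGroup (Fin m) F) | ∃ c : F,
      ∀ v : Fin m ⊕ Fin m → F, (g : Matrix (Fin m ⊕ Fin m) (Fin m ⊕ Fin m) F) *ᵥ v =
        v + (c * (v ⬝ᵥ (Matrix.J (Fin m) F *ᵥ p))) • p} = spRoot p := by
  have : {g : ↥(Matrix.symplecticGroup (Fin m) F) | ∃ c : F,
      ∀ v : Fin m ⊕ Fin m → F, (g : Matrix (Fin m ⊕ Fin m) (Fin m ⊕ Fin m) F) *ᵥ v =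
        v + (c * (v ⬝ᵥ (Matrix.J (Fin m) F *ᵥ p))) • p} = (spRoot p : Set _) := by
    ext g
    constructor
    · rintro ⟨c, hc⟩
      exact ⟨c, (spRoot_gen_iff p g c).mp hc⟩
    · rintro ⟨c, hc⟩
      exact ⟨c, (spRoot_gen_iff p g c).mpr hc⟩
  rw [this, Subgroup.closure_eq]

theorem conjBy_spRoot (g : ↥(Matrix.symplecticGroup (Fin m) F)) (p : Fin m ⊕ Fin m → F) :
    Cfsg.conjBy (spRoot p) g = spRoot (g.1 *ᵥ p) := by
  ext h
  rw [mem_conjBy_iff]
  constructor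
  · rintro ⟨c, hc⟩
    refine ⟨c, ?_⟩
    rw [← spT_conj, ← hc]
    group
  · rintro ⟨c, rfl⟩
    refine ⟨c, ?_⟩
    rw [← spT_conj]
    group

theorem spRoot_smul (p : Fin m ⊕ Fin m → F) {l : F} (hl : l ≠ 0) : spRoot (l • p) = spRoot p := by
  ext h
  constructor
  · rintro ⟨c, rfl⟩
    exact ⟨l ^ 2 * c, spT_smul p l c⟩
  · rintro ⟨c, rfl⟩
    refine ⟨c / l ^ 2, ?_⟩
    rw [spT_smul]
    congr 1
    field_simp

theorem spT_comm {p q : Fin m ⊕ Fin m → F} (h : Cfsg.sympForm m F p q = 0) (c d : F) :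
    spT m p c * spT m q d = spT m q d * spT m p c := by
  have h' : Cfsg.sympForm m F q p = 0 := by rw [sympForm_swap, h, neg_zero]
  apply sp_ext
  intro x
  rw [sp_mul_mulVec, sp_mul_mulVec, spT_mulVec, spT_mulVec, spT_mulVec, spT_mulVec,
    sympForm_add_left, sympForm_add_left, sympForm_smul_left, sympForm_smul_left, h, h']
  simp only [mul_zero, add_zero]
  abel

theorem spRoot_commutative (p : Fin m ⊕ Fin m → F) : IsMulCommutative ↥(spRoot p) := by
  refine ⟨⟨?_⟩⟩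
  rintro ⟨_, c, rfl⟩ ⟨_, d, rfl⟩
  apply Subtype.ext
  exact spT_comm (sympForm_self m p) c d

theorem spRoot_ne_bot {p : Fin m ⊕ Fin m → F} (hp : p ≠ 0) : spRoot p ≠ ⊥ := by
  intro h
  have h1 : spT m p 1 ∈ spRoot p := ⟨1, rfl⟩
  rw [h, Subgroup.mem_bot, spT_eq_one_iff hp] at h1
  exact one_ne_zero h1

theorem spRoot_commute {p q : Fin m ⊕ Fin m → F} (h : Cfsg.sympForm m F p q = 0) :
    ⁅spRoot p, spRoot q⁆ = ⊥ := by
  rw [Subgroup.commutator_eq_bot_iff_le_centralizer]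
  rintro _ ⟨c, rfl⟩
  rw [Subgroup.mem_centralizer_iff]
  rintro _ ⟨d, rfl⟩
  exact (spT_comm h c d).symm

/-- The matrix of the map acting as `M ∈ SL₂` on the hyperbolic pair `p, q`. -/
def spRhoMat (p q : Fin m ⊕ Fin m → F) (M : Matrix.SpecialLinearGroup (Fin 2) F) :
    Matrix (Fin m ⊕ Fin m) (Fin m ⊕ Fin m) F :=
  1 + Matrix.vecMulVec ((M.1 0 0 - 1) • p + M.1 1 0 • q) (Matrix.J (Fin m) F *ᵥ q)
    - Matrix.vecMulVec (M.1 0 1 • p + (M.1 1 1 - 1) • q) (Matrix.J (Fin m) F *ᵥ p)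

theorem spRhoMat_mulVec (p q : Fin m ⊕ Fin m → F) (M : Matrix.SpecialLinearGroup (Fin 2) F)
    (x : Fin m ⊕ Fin m → F) :
    spRhoMat p q M *ᵥ x = x + Cfsg.sympForm m F x q • ((M.1 0 0 - 1) • p + M.1 1 0 • q)
      - Cfsg.sympForm m F x p • (M.1 0 1 • p + (M.1 1 1 - 1) • q) := by
  unfold spRhoMat Cfsg.sympForm
  rw [Matrix.sub_mulVec, Matrix.add_mulVec, Matrix.one_mulVec, Matrix.vecMulVec_mulVec,
    Matrix.vecMulVec_mulVec, dotProduct_comm _ x, dotProduct_comm _ x, op_smul_eq_smul,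
    op_smul_eq_smul]

section Rho

variable {p q : Fin m ⊕ Fin m → F} (hpq : Cfsg.sympForm m F p q = 1)
include hpq

theorem spRho_form_qp : Cfsg.sympForm m F q p = -1 := by
  rw [sympForm_swap, hpq]

theorem spRhoMat_p (M : Matrix.SpecialLinearGroup (Fin 2) F) :
    spRhoMat p q M *ᵥ p = M.1 0 0 • p + M.1 1 0 • q := by
  rw [spRhoMat_mulVec, hpq, sympForm_self]
  module

theorem spRhoMat_q (M : Matrix.SpecialLinearGroup (Fin 2) F) :
    spRhoMat p q M *ᵥ q = M.1 0 1 • p + M.1 1 1 • q := by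
  rw [spRhoMat_mulVec, spRho_form_qp hpq, sympForm_self]
  module

theorem spRhoMat_mem (M : Matrix.SpecialLinearGroup (Fin 2) F) :
    spRhoMat p q M ∈ Matrix.symplecticGroup (Fin m) F := by
  rw [mem_symplecticGroup_iff_sympForm]
  intro u v
  have hdet : M.1 0 0 * M.1 1 1 - M.1 0 1 * M.1 1 0 = 1 := by
    have := M.2
    rwa [Matrix.det_fin_two] at this
  rw [spRhoMat_mulVec, spRhoMat_mulVec]
  simp only [sympForm_add_left, sympForm_add_right, sympForm_sub_left, sympForm_sub_right,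
    sympForm_smul_left, sympForm_smul_right, sympForm_self, hpq, spRho_form_qp hpq]
  rw [sympForm_swap m p v, sympForm_swap m q v]
  linear_combination (Cfsg.sympForm m F u p * Cfsg.sympForm m F v q
    - Cfsg.sympForm m F u q * Cfsg.sympForm m F v p) * hdet

theorem spRhoMat_mul (M N : Matrix.SpecialLinearGroup (Fin 2) F) :
    spRhoMat p q (M * N) = spRhoMat p q M * spRhoMat p q N := by
  apply Matrix.mulVec_injective
  funext x
  rw [← Matrix.mulVec_mulVec, spRhoMat_mulVec p q N, Matrix.mulVec_sub, Matrix.mulVec_add,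
    Matrix.mulVec_smul, Matrix.mulVec_smul, Matrix.mulVec_add, Matrix.mulVec_add,
    Matrix.mulVec_smul, Matrix.mulVec_smul, Matrix.mulVec_smul, Matrix.mulVec_smul,
    spRhoMat_p hpq, spRhoMat_q hpq, spRhoMat_mulVec, spRhoMat_mulVec]
  simp only [Matrix.SpecialLinearGroup.coe_mul, Matrix.mul_apply, Fin.sum_univ_two]
  module

/-- The homomorphism `SL₂(F) → Sp` attached to a hyperbolic pair. -/
def spRho : Matrix.SpecialLinearGroup (Fin 2) F →* ↥(Matrix.symplecticGroup (Fin m) F) :=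
  MonoidHom.mk' (fun M => ⟨spRhoMat p q M, spRhoMat_mem hpq M⟩)
    (fun M N => Subtype.ext (spRhoMat_mul hpq M N))

theorem spRho_coe (M : Matrix.SpecialLinearGroup (Fin 2) F) :
    ((spRho hpq M : ↥(Matrix.symplecticGroup (Fin m) F)) :
      Matrix (Fin m ⊕ Fin m) (Fin m ⊕ Fin m) F) = spRhoMat p q M := rfl

theorem spRho_injective : Function.Injective (spRho hpq) := by
  rw [injective_iff_map_eq_one]
  intro M hM
  have h1 := congrArg (fun g : ↥(Matrix.symplecticGroup (Fin m) F) => g.1 *ᵥ p) hM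
  have h2 := congrArg (fun g : ↥(Matrix.symplecticGroup (Fin m) F) => g.1 *ᵥ q) hM
  simp only [spRho_coe, spRhoMat_p hpq, spRhoMat_q hpq, sp_one_mulVec] at h1 h2
  have e1 := congrArg (fun v => Cfsg.sympForm m F v q) h1
  have e2 := congrArg (fun v => Cfsg.sympForm m F v p) h1
  have e3 := congrArg (fun v => Cfsg.sympForm m F v q) h2
  have e4 := congrArg (fun v => Cfsg.sympForm m F v p) h2
  simp only [sympForm_add_left, sympForm_smul_left, sympForm_self, hpq, spRho_form_qp hpq,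
    mul_zero, add_zero, zero_add, mul_one, mul_neg, neg_inj, neg_eq_zero] at e1 e2 e3 e4
  ext i j
  fin_cases i <;> fin_cases j
  · simpa using e1
  · simpa using e3
  · simpa using e2
  · simpa using e4

theorem spRho_U (t : F) : spRho hpq (Cfsg.Agent.S5016.U t) = spT m p (-t) := by
  apply sp_ext
  intro x
  rw [spRho_coe, spRhoMat_mulVec, spT_mulVec]
  simp only [Cfsg.Agent.S5016.U_coe, Matrix.of_apply, Matrix.cons_val', Matrix.cons_val_zero,
    Matrix.cons_val_one, Matrix.cons_val_fin_one]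
  module

theorem spRho_L (t : F) : spRho hpq (Cfsg.Agent.S5016.L t) = spT m q t := by
  apply sp_ext
  intro x
  rw [spRho_coe, spRhoMat_mulVec, spT_mulVec]
  simp only [Cfsg.Agent.S5016.L_coe, Matrix.of_apply, Matrix.cons_val', Matrix.cons_val_zero,
    Matrix.cons_val_one, Matrix.cons_val_fin_one]
  module

theorem spRho_map_upper : (Cfsg.upperUnipotentSL2 F).map (spRho hpq) = spRoot p := by
  ext g
  rw [Subgroup.mem_map]
  constructor
  · rintro ⟨M, hM, rfl⟩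
    obtain ⟨t, rfl⟩ := Cfsg.Agent.S5016.mem_upper_iff.mp hM
    exact ⟨-t, spRho_U hpq t⟩
  · rintro ⟨c, rfl⟩
    refine ⟨Cfsg.Agent.S5016.U (-c), Cfsg.Agent.S5016.mem_upper_iff.mpr ⟨_, rfl⟩, ?_⟩
    rw [spRho_U, neg_neg]

theorem spRho_map_lower : (Cfsg.lowerUnipotentSL2 F).map (spRho hpq) = spRoot q := by
  ext g
  rw [Subgroup.mem_map]
  constructor
  · rintro ⟨M, hM, rfl⟩
    obtain ⟨t, rfl⟩ := Cfsg.Agent.S5016.mem_lower_iff.mp hM
    exact ⟨t, spRho_L hpq t⟩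
  · rintro ⟨c, rfl⟩
    exact ⟨Cfsg.Agent.S5016.L c, Cfsg.Agent.S5016.mem_lower_iff.mpr ⟨_, rfl⟩, spRho_L hpq c⟩

theorem spRho_range : (spRho hpq).range = spRoot p ⊔ spRoot q := by
  rw [MonoidHom.range_eq_map, ← Cfsg.Agent.S5016.sup_eq_top F, Subgroup.map_sup,
    spRho_map_upper, spRho_map_lower, sup_comm]

theorem spRho_psl2 : Cfsg.IsPSL2PairOver F (spRoot p) (spRoot q) := by
  refine ⟨spRho hpq, spRho_range hpq, ?_, spRho_map_upper hpq, spRho_map_lower hpq⟩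
  rw [(MonoidHom.ker_eq_bot_iff _).mpr (spRho_injective hpq)]
  exact bot_le

end Rho

/-- Rank one pairs are carried to rank one pairs by injective homomorphisms. -/
theorem rankOnePair_map {G H : Type*} [Group G] [Group H] (φ : G →* H)
    (hφ : Function.Injective φ) {A B : Subgroup G} (h : Cfsg.IsRankOnePair A B) :
    Cfsg.IsRankOnePair (A.map φ) (B.map φ) := by
  have hconj : ∀ (C : Subgroup G) (g : G),
      Cfsg.conjBy (C.map φ) (φ g) = (Cfsg.conjBy C g).map φ := by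
    intro C g
    show (C.map φ).map (MulAut.conj (φ g)).toMonoidHom =
      (C.map (MulAut.conj g).toMonoidHom).map φ
    rw [Subgroup.map_map, Subgroup.map_map]
    congr 1
    ext x
    simp
  have hcond : ∀ {A B : Subgroup G}, Cfsg.RankOneCondition A B →
      Cfsg.RankOneCondition (A.map φ) (B.map φ) := by
    intro A B hc a' ha' ha'1
    obtain ⟨a, ha, rfl⟩ := ha'
    have ha1 : a ≠ 1 := by
      rintro rfl
      exact ha'1 (map_one φ)
    obtain ⟨b, hb, hb1, hbe⟩ := hc a ha ha1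
    refine ⟨φ b, ⟨b, hb, rfl⟩, ?_, ?_⟩
    · intro h1
      apply hb1
      apply hφ
      rw [h1, map_one]
    · rw [← map_inv, ← map_inv, hconj, hconj, hbe]
  refine ⟨fun he => h.ne (Subgroup.map_injective hφ he), ?_, ?_, hcond h.cond_left,
    hcond h.cond_right⟩
  · haveI := h.nilpotent_left
    exact Group.nilpotent_of_mulEquiv (A.equivMapOfInjective φ hφ)
  · haveI := h.nilpotent_right
    exact Group.nilpotent_of_mulEquiv (B.equivMapOfInjective φ hφ)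

theorem spRoot_rankOne {p q : Fin m ⊕ Fin m → F} (h : Cfsg.sympForm m F p q ≠ 0) :
    Cfsg.IsRankOnePair (spRoot p) (spRoot q) ∧ Cfsg.IsPSL2PairOver F (spRoot p) (spRoot q) := by
  have hpq : Cfsg.sympForm m F p ((Cfsg.sympForm m F p q)⁻¹ • q) = 1 := by
    rw [sympForm_smul_right, inv_mul_cancel₀ h]
  have hq : spRoot ((Cfsg.sympForm m F p q)⁻¹ • q) = spRoot q := spRoot_smul q (inv_ne_zero h)
  constructor
  · have h1 := rankOnePair_map (spRho hpq) (spRho_injective hpq) (Cfsg.Agent.S5016.pair F)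
    rw [spRho_map_upper, spRho_map_lower, hq] at h1
    exact Cfsg.RankOnePair_symm h1
  · have h1 := spRho_psl2 hpq
    rw [hq] at h1
    exact h1

/-- The set of symplectic transvection groups. -/
def spSigma (m : ℕ) (F : Type*) [Field F] : Set (Subgroup ↥(Matrix.symplecticGroup (Fin m) F)) :=
  {A | ∃ p : Fin m ⊕ Fin m → F, p ≠ 0 ∧ A = spRoot p}

theorem sp_mulVec_ne_zero (g : ↥(Matrix.symplecticGroup (Fin m) F)) {p : Fin m ⊕ Fin m → F}
    (hp : p ≠ 0) : g.1 *ᵥ p ≠ 0 := by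
  intro h
  apply hp
  rw [← sp_inv_mulVec g p, h, Matrix.mulVec_zero]

theorem spSigma_rootSet : Cfsg.IsRootSubgroupSet (spSigma m F) := by
  refine ⟨?_, ?_, ?_, ?_, ?_⟩
  · rintro _ ⟨p, _, rfl⟩
    exact spRoot_commutative p
  · rintro _ ⟨p, hp, rfl⟩
    exact spRoot_ne_bot hp
  · rw [eq_top_iff, ← Cfsg.Agent.S0765.result m, Subgroup.closure_le]
    rintro A ⟨w, c, hA⟩
    have hA' : A = spT m w c := Subtype.ext hA
    by_cases hw : w = 0
    · have : A = 1 := by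
        rw [hA']
        apply sp_ext
        intro x
        rw [spT_mulVec, hw, smul_zero, add_zero, sp_one_mulVec]
      rw [this]
      exact Subgroup.one_mem _
    · exact (le_iSup₂_of_le (spRoot w) ⟨w, hw, rfl⟩ le_rfl :
        spRoot w ≤ ⨆ B ∈ spSigma m F, B) ⟨c, hA'⟩
  · rintro _ ⟨p, hp, rfl⟩ g
    exact ⟨g.1 *ᵥ p, sp_mulVec_ne_zero g hp, conjBy_spRoot g p⟩
  · rintro _ ⟨p, hp, rfl⟩ _ ⟨q, hq, rfl⟩
    by_cases h : Cfsg.sympForm m F p q = 0
    · exact Or.inl (spRoot_commute h)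
    · exact Or.inr (Or.inl (spRoot_rankOne h).1)

theorem spSigma_degenerate : Cfsg.IsDegenerateRootSet (spSigma m F) := by
  rintro _ ⟨p, hp, rfl⟩ _ ⟨q, hq, rfl⟩ hc
  by_cases h : Cfsg.sympForm m F p q = 0
  · apply spSigma_rootSet.ne_bot _ hc.1
    exact spRoot_commute h
  · exact Cfsg.Agent.S5029.not_rankOne_of_commutator_mem spSigma_rootSet ⟨p, hp, rfl⟩ hc.1
      (spRoot_rankOne h).1

theorem spSigma_kRoot : Cfsg.IsKRootSubgroupSet F (spSigma m F) := by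
  refine ⟨spSigma_rootSet, ?_⟩
  rintro _ ⟨p, hp, rfl⟩ _ ⟨q, hq, rfl⟩ hr
  by_cases h : Cfsg.sympForm m F p q = 0
  · exfalso
    apply rankOne_not_commute hr
    intro a ha b hb
    exact Cfsg.Agent.S5028.commute_of_commutator_eq_bot (spRoot_commute h) ha hb
  · exact (spRoot_rankOne h).2

theorem spSigma_conj {p q : Fin m ⊕ Fin m → F} (hp : p ≠ 0) (hq : q ≠ 0) :
    ∃ g : ↥(Matrix.symplecticGroup (Fin m) F), spRoot q = Cfsg.conjBy (spRoot p) g := by
  obtain ⟨A, -, hA⟩ := Cfsg.Agent.S0766.trans_vec m p q hp hq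
  refine ⟨A, ?_⟩
  rw [conjBy_spRoot]
  congr 1
  exact hA.symm

theorem spSigma_class {p₀ : Fin m ⊕ Fin m → F} (hp₀ : p₀ ≠ 0) :
    Cfsg.IsRootSubgroupClass (spSigma m F) := by
  refine ⟨spSigma_rootSet, ⟨spRoot p₀, p₀, hp₀, rfl⟩, ?_⟩
  rintro _ ⟨p, hp, rfl⟩ _ ⟨q, hq, rfl⟩
  exact spSigma_conj hp hq

theorem spSigma_connected {p₀ : Fin m ⊕ Fin m → F} (hp₀ : p₀ ≠ 0) :
    Cfsg.IsConnectedFamily (Cfsg.FAdj (spSigma m F)) (spSigma m F) := by
  obtain ⟨x, hx⟩ := sympForm_nondeg m p₀ hp₀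
  have hx0 : x ≠ 0 := by
    rintro rfl
    exact hx (sympForm_zero_right m p₀)
  have hr := (spRoot_rankOne hx).1
  have hA : spRoot p₀ ∈ spSigma m F := ⟨p₀, hp₀, rfl⟩
  have hB : spRoot x ∈ spSigma m F := ⟨x, hx0, rfl⟩
  rw [Cfsg.Agent.S5032.result spSigma_rootSet ⟨_, hA, _, hB, hr.ne⟩]
  exact ⟨(spSigma_class hp₀).2, _, hA, Cfsg.Agent.S5029.not_isolated_of_partner hA hB hr⟩

end Cfsg.Agent.Lib.Helper26
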