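import Mathlib
import Cfsg.Agent.Lib.Helper26.SympRoot

set_option autoImplicit false

/-!
# Transfer of root subgroup properties to the subgroup generated by the root subgroups

Given a set `S₀` of subgroups of `G`, all contained in a subgroup `K`, the statements about the
family `(fun A => A.subgroupOf K) '' S₀` of subgroups of `K` are obtained from statements inside `G`.
-/

namespace Cfsg.Agent.Lib.Helper26

section Transfer

variable {G : Type*} [Group G]

theorem conjBy_map_hom {H : Type*} [Group H] (φ : G →* H) (C : Subgroup G) (g : G) :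
    Cfsg.conjBy (C.map φ) (φ g) = (Cfsg.conjBy C g).map φ := by
  show (C.map φ).map (MulAut.conj (φ g)).toMonoidHom =
    (C.map (MulAut.conj g).toMonoidHom).map φ
  rw [Subgroup.map_map, Subgroup.map_map]
  congr 1
  ext x
  simp

/-- Rank one pairs are reflected by injective homomorphisms. -/
theorem rankOnePair_of_map {H : Type*} [Group H] (φ : G →* H) (hφ : Function.Injective φ)
    {A B : Subgroup G} (h : Cfsg.IsRankOnePair (A.map φ) (B.map φ)) : Cfsg.IsRankOnePair A B := by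
  have hcond : ∀ {A B : Subgroup G}, Cfsg.RankOneCondition (A.map φ) (B.map φ) →
      Cfsg.RankOneCondition A B := by
    intro A B hc a ha ha1
    have ha1' : φ a ≠ 1 := by
      intro h1
      apply ha1
      apply hφ
      rw [h1, map_one]
    obtain ⟨b', ⟨b, hb, rfl⟩, hb1, hbe⟩ := hc (φ a) ⟨a, ha, rfl⟩ ha1'
    refine ⟨b, hb, ?_, ?_⟩
    · rintro rfl
      exact hb1 (map_one φ)
    · rw [← map_inv, ← map_inv, conjBy_map_hom, conjBy_map_hom] at hbe
      exact Subgroup.map_injective hφ hbe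
  refine ⟨fun he => h.ne (by rw [he]), ?_, ?_, hcond h.cond_left, hcond h.cond_right⟩
  · haveI := h.nilpotent_left
    exact Group.nilpotent_of_mulEquiv (A.equivMapOfInjective φ hφ).symm
  · haveI := h.nilpotent_right
    exact Group.nilpotent_of_mulEquiv (B.equivMapOfInjective φ hφ).symm

variable {K : Subgroup G}

theorem conjBy_subgroupOf (X : Subgroup G) (g : K) :
    Cfsg.conjBy (X.subgroupOf K) g = (Cfsg.conjBy X (g : G)).subgroupOf K := by
  ext x
  rw [Subgroup.mem_subgroupOf, Subgroup.mem_map, Subgroup.mem_map]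
  constructor
  · rintro ⟨y, hy, rfl⟩
    exact ⟨(y : G), Subgroup.mem_subgroupOf.mp hy, rfl⟩
  · rintro ⟨y, hy, hyx⟩
    have hyK : y ∈ K := by
      have : y = (g : G)⁻¹ * (x : G) * (g : G) := by
        rw [← hyx]
        show y = (g : G)⁻¹ * ((g : G) * y * (g : G)⁻¹) * (g : G)
        group
      rw [this]
      exact K.mul_mem (K.mul_mem (K.inv_mem g.2) x.2) g.2
    refine ⟨⟨y, hyK⟩, Subgroup.mem_subgroupOf.mpr hy, ?_⟩
    apply Subtype.ext
    exact hyx

theorem commutator_subgroupOf {X Y : Subgroup G} (hX : X ≤ K) (hY : Y ≤ K) :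
    ⁅X.subgroupOf K, Y.subgroupOf K⁆ = (⁅X, Y⁆).subgroupOf K := by
  apply Subgroup.map_injective K.subtype_injective
  have hXY : ⁅X, Y⁆ ≤ K := (Subgroup.commutator_le.mpr fun x hx y hy =>
    K.mul_mem (K.mul_mem (K.mul_mem (hX hx) (hY hy)) (K.inv_mem (hX hx))) (K.inv_mem (hY hy)))
  rw [Subgroup.map_commutator, Subgroup.map_subgroupOf_eq_of_le hX,
    Subgroup.map_subgroupOf_eq_of_le hY, Subgroup.map_subgroupOf_eq_of_le hXY]

theorem rankOnePair_subgroupOf {X Y : Subgroup G} (hX : X ≤ K) (hY : Y ≤ K)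
    (h : Cfsg.IsRankOnePair X Y) : Cfsg.IsRankOnePair (X.subgroupOf K) (Y.subgroupOf K) := by
  apply rankOnePair_of_map K.subtype K.subtype_injective
  rw [Subgroup.map_subgroupOf_eq_of_le hX, Subgroup.map_subgroupOf_eq_of_le hY]
  exact h

theorem psl2Pair_subgroupOf {k : Type*} [Field k] {X Y : Subgroup G} (hX : X ≤ K) (hY : Y ≤ K)
    (h : Cfsg.IsPSL2PairOver k X Y) :
    Cfsg.IsPSL2PairOver k (X.subgroupOf K) (Y.subgroupOf K) := by
  obtain ⟨ψ, hr, hk, hu, hl⟩ := h
  have hrK : ∀ M, ψ M ∈ K := fun M => (sup_le hX hY) (hr ▸ ⟨M, rfl⟩)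
  have hcomp : K.subtype.comp (ψ.codRestrict K hrK) = ψ := by
    ext M
    rfl
  refine ⟨ψ.codRestrict K hrK, ?_, ?_, ?_, ?_⟩
  · apply Subgroup.map_injective K.subtype_injective
    rw [MonoidHom.range_eq_map, Subgroup.map_map, hcomp, ← MonoidHom.range_eq_map, hr,
      Subgroup.map_sup, Subgroup.map_subgroupOf_eq_of_le hX, Subgroup.map_subgroupOf_eq_of_le hY]
  · rw [MonoidHom.ker_codRestrict]
    exact hk
  · apply Subgroup.map_injective K.subtype_injective
    rw [Subgroup.map_map, hcomp, hu, Subgroup.map_subgroupOf_eq_of_le hX]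
  · apply Subgroup.map_injective K.subtype_injective
    rw [Subgroup.map_map, hcomp, hl, Subgroup.map_subgroupOf_eq_of_le hY]

theorem rootCommutatorCase_subgroupOf {S₀ : Set (Subgroup G)} {X Y : Subgroup G} (hX : X ≤ K)
    (hY : Y ≤ K) (h : Cfsg.RootCommutatorCase S₀ X Y) :
    Cfsg.RootCommutatorCase ((fun A : Subgroup G => A.subgroupOf K) '' S₀) (X.subgroupOf K)
      (Y.subgroupOf K) := by
  obtain ⟨h1, h2, h3, h4⟩ := h
  have hXY : ⁅X, Y⁆ ≤ K := (Subgroup.commutator_le.mpr fun x hx y hy =>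
    K.mul_mem (K.mul_mem (K.mul_mem (hX hx) (hY hy)) (K.inv_mem (hX hx))) (K.inv_mem (hY hy)))
  have hc := commutator_subgroupOf hX hY
  refine ⟨?_, ?_, ?_, ?_⟩
  · rw [hc]
    exact ⟨_, h1, rfl⟩
  · intro c hc' x hx
    rw [hc, Subgroup.mem_subgroupOf] at hc'
    rw [← Subgroup.subgroupOf_sup hX hY, Subgroup.mem_subgroupOf] at hx
    apply Subtype.ext
    exact h2 _ hc' _ hx
  · intro a ha ha1
    rw [hc]
    apply Subgroup.map_injective K.subtype_injective
    rw [Subgroup.map_subgroupOf_eq_of_le hXY, MonoidHom.map_closure, ← h3 (a : G)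
      (Subgroup.mem_subgroupOf.mp ha) (fun h => ha1 (Subtype.ext h))]
    congr 1
    ext z
    constructor
    · rintro ⟨_, ⟨b, hb, rfl⟩, rfl⟩
      exact ⟨(b : G), Subgroup.mem_subgroupOf.mp hb, rfl⟩
    · rintro ⟨b, hb, rfl⟩
      exact ⟨_, ⟨⟨b, hY hb⟩, Subgroup.mem_subgroupOf.mpr hb, rfl⟩, rfl⟩
  · intro b hb hb1
    rw [hc]
    apply Subgroup.map_injective K.subtype_injective
    rw [Subgroup.map_subgroupOf_eq_of_le hXY, MonoidHom.map_closure, ← h4 (b : G)
      (Subgroup.mem_subgroupOf.mp hb) (fun h => hb1 (Subtype.ext h))]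
    congr 1
    ext z
    constructor
    · rintro ⟨_, ⟨a, ha, rfl⟩, rfl⟩
      exact ⟨(a : G), Subgroup.mem_subgroupOf.mp ha, rfl⟩
    · rintro ⟨a, ha, rfl⟩
      exact ⟨_, ⟨⟨a, hX ha⟩, Subgroup.mem_subgroupOf.mpr ha, rfl⟩, rfl⟩

/-- A family of subgroups of `G` satisfying the root subgroup axioms relative to the subgroup `K`
they generate gives a set of root subgroups of `K`. -/
theorem rootSet_subgroupOf {S₀ : Set (Subgroup G)} (hK : K = ⨆ A ∈ S₀, A)
    (hcomm : ∀ A ∈ S₀, IsMulCommutative A) (hne : ∀ A ∈ S₀, A ≠ ⊥)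
    (hconj : ∀ A ∈ S₀, ∀ g ∈ K, Cfsg.conjBy A g ∈ S₀)
    (hpair : ∀ A ∈ S₀, ∀ B ∈ S₀, ⁅A, B⁆ = ⊥ ∨ Cfsg.IsRankOnePair A B ∨
      Cfsg.RootCommutatorCase S₀ A B) :
    Cfsg.IsRootSubgroupSet ((fun A : Subgroup G => A.subgroupOf K) '' S₀) := by
  have hle : ∀ A ∈ S₀, A ≤ K := by
    intro A hA
    rw [hK]
    exact le_iSup₂_of_le A hA le_rfl
  refine ⟨?_, ?_, ?_, ?_, ?_⟩
  · rintro _ ⟨A, hA, rfl⟩
    haveI := hcomm A hA
    refine ⟨⟨?_⟩⟩
    rintro ⟨x, hx⟩ ⟨y, hy⟩
    apply Subtype.ext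
    apply Subtype.ext
    have := (hcomm A hA).is_comm.comm ⟨(x : G), Subgroup.mem_subgroupOf.mp hx⟩
      ⟨(y : G), Subgroup.mem_subgroupOf.mp hy⟩
    exact congrArg (fun z : ↥A => (z : G)) this
  · rintro _ ⟨A, hA, rfl⟩ hbot
    apply hne A hA
    have := congrArg (Subgroup.map K.subtype) hbot
    rwa [Subgroup.map_subgroupOf_eq_of_le (hle A hA), Subgroup.map_bot] at this
  · apply Subgroup.map_injective K.subtype_injective
    rw [Subgroup.map_iSup, ← MonoidHom.range_eq_map, Subgroup.range_subtype]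
    conv_rhs => rw [hK]
    apply le_antisymm
    · apply iSup_le
      intro A'
      rw [Subgroup.map_iSup]
      apply iSup_le
      rintro ⟨A, hA, rfl⟩
      rw [Subgroup.map_subgroupOf_eq_of_le (hle A hA)]
      exact le_iSup₂_of_le A hA le_rfl
    · apply iSup₂_le
      intro A hA
      refine le_iSup_of_le (A.subgroupOf K) ?_
      rw [Subgroup.map_iSup]
      refine le_iSup_of_le ⟨A, hA, rfl⟩ ?_
      rw [Subgroup.map_subgroupOf_eq_of_le (hle A hA)]
  · rintro _ ⟨A, hA, rfl⟩ g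
    rw [conjBy_subgroupOf]
    exact ⟨_, hconj A hA g g.2, rfl⟩
  · rintro _ ⟨A, hA, rfl⟩ _ ⟨B, hB, rfl⟩
    rcases hpair A hA B hB with h | h | h
    · left
      rw [commutator_subgroupOf (hle A hA) (hle B hB), h]
      exact Subgroup.bot_subgroupOf K
    · exact Or.inr (Or.inl (rankOnePair_subgroupOf (hle A hA) (hle B hB) h))
    · exact Or.inr (Or.inr (rootCommutatorCase_subgroupOf (hle A hA) (hle B hB) h))

end Transfer

end Cfsg.Agent.Lib.Helper26
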