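import Mathlib
import Cfsg.Agent.Lib.Lead.SLn
import Cfsg.Agent.Lib.Helper26.SympRoot

set_option autoImplicit false

/-!
# Transvection subgroups of special linear groups

For `v φ : ι → k` with `φ ⬝ᵥ v = 0` the transvections `x ↦ x + c (φ ⬝ᵥ x) v` form a subgroup
`slRoot v φ` of `SL ι k`.  We develop their calculus (conjugation, commutators, rank one pairs).
-/

namespace Cfsg.Agent.Lib.Helper26

open Matrix
open scoped commutatorElement

section SLRoot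

variable {ι k : Type*} [Fintype ι] [DecidableEq ι] [Field k]

/-- The matrix `1 + c • v φᵀ`. -/
def slTMat (v φ : ι → k) (c : k) : Matrix ι ι k := 1 + c • Matrix.vecMulVec v φ

theorem slTMat_det {v φ : ι → k} (h : φ ⬝ᵥ v = 0) (c : k) : (slTMat v φ c).det = 1 := by
  unfold slTMat
  rw [← Matrix.smul_vecMulVec, Matrix.vecMulVec_eq Unit,
    Matrix.det_one_add_replicateCol_mul_replicateRow, dotProduct_smul, h, smul_zero, add_zero]

theorem slTMat_mulVec (v φ : ι → k) (c : k) (x : ι → k) :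
    slTMat v φ c *ᵥ x = x + (c * (φ ⬝ᵥ x)) • v := by
  unfold slTMat
  rw [Matrix.add_mulVec, Matrix.one_mulVec, Matrix.smul_mulVec, Matrix.vecMulVec_mulVec,
    op_smul_eq_smul, smul_smul]

/-- The transvection attached to an incident pair, as an element of `SL ι k`. -/
def slTOf (v φ : ι → k) (h : φ ⬝ᵥ v = 0) (c : k) : Matrix.SpecialLinearGroup ι k :=
  ⟨slTMat v φ c, slTMat_det h c⟩

open Classical in
/-- The transvection `x ↦ x + c (φ ⬝ᵥ x) v` of `SL ι k` (the identity unless `φ ⬝ᵥ v = 0`). -/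
noncomputable def slT (v φ : ι → k) (c : k) : Matrix.SpecialLinearGroup ι k :=
  if h : φ ⬝ᵥ v = 0 then slTOf v φ h c else 1

theorem slT_mulVec {v φ : ι → k} (h : φ ⬝ᵥ v = 0) (c : k) (x : ι → k) :
    (slT v φ c).1 *ᵥ x = x + (c * (φ ⬝ᵥ x)) • v := by
  rw [slT, dif_pos h]
  exact slTMat_mulVec v φ c x

theorem slT_of_ne {v φ : ι → k} (h : φ ⬝ᵥ v ≠ 0) (c : k) : slT v φ c = 1 := by
  rw [slT, dif_neg h]

theorem sl_ext {g h : Matrix.SpecialLinearGroup ι k}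
    (H : ∀ x : ι → k, g.1 *ᵥ x = h.1 *ᵥ x) : g = h := by
  apply Subtype.ext
  apply Matrix.mulVec_injective
  funext x
  exact H x

theorem sl_mul_mulVec (A B : Matrix.SpecialLinearGroup ι k) (x : ι → k) :
    (A * B).1 *ᵥ x = A.1 *ᵥ (B.1 *ᵥ x) := by
  rw [Matrix.SpecialLinearGroup.coe_mul, Matrix.mulVec_mulVec]

theorem sl_one_mulVec (x : ι → k) : (1 : Matrix.SpecialLinearGroup ι k).1 *ᵥ x = x := by
  rw [Matrix.SpecialLinearGroup.coe_one, Matrix.one_mulVec]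

theorem sl_inv_mulVec (g : Matrix.SpecialLinearGroup ι k) (x : ι → k) :
    g⁻¹.1 *ᵥ (g.1 *ᵥ x) = x := by
  rw [← sl_mul_mulVec, inv_mul_cancel, sl_one_mulVec]

theorem sl_mulVec_inv (g : Matrix.SpecialLinearGroup ι k) (x : ι → k) :
    g.1 *ᵥ (g⁻¹.1 *ᵥ x) = x := by
  rw [← sl_mul_mulVec, mul_inv_cancel, sl_one_mulVec]

theorem slT_mul (v φ : ι → k) (c d : k) : slT v φ c * slT v φ d = slT v φ (c + d) := by
  by_cases h : φ ⬝ᵥ v = 0
  · apply sl_ext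
    intro x
    rw [sl_mul_mulVec, slT_mulVec h, slT_mulVec h, slT_mulVec h, dotProduct_add, dotProduct_smul,
      h]
    module
  · rw [slT_of_ne h, slT_of_ne h, slT_of_ne h, mul_one]

theorem slT_zero (v φ : ι → k) : slT v φ 0 = 1 := by
  by_cases h : φ ⬝ᵥ v = 0
  · apply sl_ext
    intro x
    rw [slT_mulVec h, sl_one_mulVec, zero_mul, zero_smul, add_zero]
  · exact slT_of_ne h 0

theorem slT_inv (v φ : ι → k) (c : k) : (slT v φ c)⁻¹ = slT v φ (-c) := by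
  rw [inv_eq_iff_mul_eq_one, slT_mul, add_neg_cancel, slT_zero]

theorem sl_flag_conj (g : Matrix.SpecialLinearGroup ι k) (v φ : ι → k) :
    (φ ᵥ* g⁻¹.1) ⬝ᵥ (g.1 *ᵥ v) = φ ⬝ᵥ v := by
  rw [← Matrix.dotProduct_mulVec, sl_inv_mulVec]

theorem slT_conj (g : Matrix.SpecialLinearGroup ι k) (v φ : ι → k) (c : k) :
    g * slT v φ c * g⁻¹ = slT (g.1 *ᵥ v) (φ ᵥ* g⁻¹.1) c := by
  by_cases h : φ ⬝ᵥ v = 0
  · have h' : (φ ᵥ* g⁻¹.1) ⬝ᵥ (g.1 *ᵥ v) = 0 := by rw [sl_flag_conj, h]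
    apply sl_ext
    intro x
    rw [sl_mul_mulVec, sl_mul_mulVec, slT_mulVec h, slT_mulVec h', Matrix.mulVec_add,
      Matrix.mulVec_smul, sl_mulVec_inv, Matrix.dotProduct_mulVec]
  · have h' : (φ ᵥ* g⁻¹.1) ⬝ᵥ (g.1 *ᵥ v) ≠ 0 := by rwa [sl_flag_conj]
    rw [slT_of_ne h, slT_of_ne h', mul_one, mul_inv_cancel]

theorem slT_smul {v φ : ι → k} (h : φ ⬝ᵥ v = 0) (a b c : k) :
    slT (a • v) (b • φ) c = slT v φ (a * b * c) := by
  have h' : (b • φ) ⬝ᵥ (a • v) = 0 := by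
    rw [smul_dotProduct, dotProduct_smul, h, smul_zero, smul_zero]
  apply sl_ext
  intro x
  rw [slT_mulVec h, slT_mulVec h', smul_dotProduct, smul_smul, smul_eq_mul]
  congr 2
  ring

theorem exists_dotProduct_ne_zero {φ : ι → k} (hφ : φ ≠ 0) : ∃ x : ι → k, φ ⬝ᵥ x ≠ 0 := by
  obtain ⟨i, hi⟩ := Function.ne_iff.mp hφ
  refine ⟨Pi.single i 1, ?_⟩
  rw [dotProduct_single, mul_one]
  exact hi

theorem slT_eq_one_iff {v φ : ι → k} (h : φ ⬝ᵥ v = 0) (hv : v ≠ 0) (hφ : φ ≠ 0) {c : k} :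
    slT v φ c = 1 ↔ c = 0 := by
  constructor
  · intro h1
    obtain ⟨x, hx⟩ := exists_dotProduct_ne_zero hφ
    have h2 := congrArg (fun g : Matrix.SpecialLinearGroup ι k => g.1 *ᵥ x) h1
    simp only [slT_mulVec h, sl_one_mulVec, add_eq_left, smul_eq_zero, mul_eq_zero] at h2
    rcases h2 with (h2 | h2) | h2
    · exact h2
    · exact absurd h2 hx
    · exact absurd h2 hv
  · rintro rfl
    exact slT_zero v φ

/-- The group of transvections with centre `v` and axis `ker φ`. -/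
noncomputable def slRoot (v φ : ι → k) : Subgroup (Matrix.SpecialLinearGroup ι k) where
  carrier := {g | ∃ c : k, g = slT v φ c}
  mul_mem' := by
    rintro _ _ ⟨c, rfl⟩ ⟨d, rfl⟩
    exact ⟨c + d, slT_mul v φ c d⟩
  one_mem' := ⟨0, (slT_zero v φ).symm⟩
  inv_mem' := by
    rintro _ ⟨c, rfl⟩
    exact ⟨-c, slT_inv v φ c⟩

theorem mem_slRoot {v φ : ι → k} {g : Matrix.SpecialLinearGroup ι k} :
    g ∈ slRoot v φ ↔ ∃ c : k, g = slT v φ c := Iff.rfl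

theorem slT_mem_slRoot (v φ : ι → k) (c : k) : slT v φ c ∈ slRoot v φ := ⟨c, rfl⟩

theorem conjBy_slRoot (g : Matrix.SpecialLinearGroup ι k) (v φ : ι → k) :
    Cfsg.conjBy (slRoot v φ) g = slRoot (g.1 *ᵥ v) (φ ᵥ* g⁻¹.1) := by
  ext x
  rw [Subgroup.mem_map]
  constructor
  · rintro ⟨_, ⟨c, rfl⟩, rfl⟩
    refine ⟨c, ?_⟩
    show g * slT v φ c * g⁻¹ = _
    exact slT_conj g v φ c
  · rintro ⟨c, rfl⟩
    exact ⟨slT v φ c, ⟨c, rfl⟩, slT_conj g v φ c⟩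

theorem slRoot_smul {v φ : ι → k} (h : φ ⬝ᵥ v = 0) {a b : k} (ha : a ≠ 0) (hb : b ≠ 0) :
    slRoot (a • v) (b • φ) = slRoot v φ := by
  ext x
  constructor
  · rintro ⟨c, rfl⟩
    exact ⟨a * b * c, slT_smul h a b c⟩
  · rintro ⟨c, rfl⟩
    refine ⟨(a * b)⁻¹ * c, ?_⟩
    rw [slT_smul h, ← mul_assoc, mul_inv_cancel₀ (mul_ne_zero ha hb), one_mul]

theorem slRoot_commutative (v φ : ι → k) : IsMulCommutative ↥(slRoot v φ) := by
  refine ⟨⟨?_⟩⟩
  rintro ⟨_, ⟨c, rfl⟩⟩ ⟨_, ⟨d, rfl⟩⟩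
  apply Subtype.ext
  show slT v φ c * slT v φ d = slT v φ d * slT v φ c
  rw [slT_mul, slT_mul, add_comm]

theorem slRoot_ne_bot {v φ : ι → k} (h : φ ⬝ᵥ v = 0) (hv : v ≠ 0) (hφ : φ ≠ 0) :
    slRoot v φ ≠ ⊥ := by
  intro hb
  have h1 : slT v φ 1 ∈ (⊥ : Subgroup (Matrix.SpecialLinearGroup ι k)) := hb ▸ ⟨1, rfl⟩
  rw [Subgroup.mem_bot, slT_eq_one_iff h hv hφ] at h1
  exact one_ne_zero h1

theorem slT_comm {v φ w ψ : ι → k} (hv : φ ⬝ᵥ v = 0) (hw : ψ ⬝ᵥ w = 0) (h1 : φ ⬝ᵥ w = 0)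
    (h2 : ψ ⬝ᵥ v = 0) (c d : k) : slT v φ c * slT w ψ d = slT w ψ d * slT v φ c := by
  apply sl_ext
  intro x
  rw [sl_mul_mulVec, sl_mul_mulVec, slT_mulVec hv, slT_mulVec hw, slT_mulVec hv, slT_mulVec hw,
    dotProduct_add, dotProduct_add, dotProduct_smul, dotProduct_smul, h1, h2]
  module

theorem slRoot_commute {v φ w ψ : ι → k} (hv : φ ⬝ᵥ v = 0) (hw : ψ ⬝ᵥ w = 0)
    (h1 : φ ⬝ᵥ w = 0) (h2 : ψ ⬝ᵥ v = 0) : ⁅slRoot v φ, slRoot w ψ⁆ = ⊥ := by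
  rw [Subgroup.commutator_eq_bot_iff_le_centralizer]
  rintro _ ⟨c, rfl⟩
  rw [Subgroup.mem_centralizer_iff]
  rintro _ ⟨d, rfl⟩
  exact (slT_comm hv hw h1 h2 c d).symm

/-- The basic commutator relation between transvections. -/
theorem slT_mul_eq {v φ w ψ : ι → k} (hv : φ ⬝ᵥ v = 0) (hw : ψ ⬝ᵥ w = 0) (h1 : φ ⬝ᵥ w = 0)
    (c d : k) :
    slT v φ c * slT w ψ d = slT w φ (-(c * d * (ψ ⬝ᵥ v))) * (slT w ψ d * slT v φ c) := by
  apply sl_ext
  intro x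
  rw [sl_mul_mulVec, sl_mul_mulVec, sl_mul_mulVec, slT_mulVec hv, slT_mulVec hw, slT_mulVec h1,
    slT_mulVec hw, slT_mulVec hv]
  simp only [dotProduct_add, dotProduct_smul, h1, hv, smul_eq_mul]
  module

theorem slT_commutator {v φ w ψ : ι → k} (hv : φ ⬝ᵥ v = 0) (hw : ψ ⬝ᵥ w = 0) (h1 : φ ⬝ᵥ w = 0)
    (c d : k) :
    slT v φ c * slT w ψ d * (slT v φ c)⁻¹ * (slT w ψ d)⁻¹ = slT w φ (-(c * d * (ψ ⬝ᵥ v))) := by
  rw [slT_mul_eq hv hw h1]
  group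

/-- The commutator case is symmetric (no hypothesis on `S` needed). -/
theorem rootCommutatorCase_swap {G : Type*} [Group G] {S : Set (Subgroup G)} {A B : Subgroup G}
    (h : Cfsg.RootCommutatorCase S A B) : Cfsg.RootCommutatorCase S B A := by
  obtain ⟨h1, h2, h3, h4⟩ := h
  have hc : ⁅B, A⁆ = ⁅A, B⁆ := Subgroup.commutator_comm B A
  have key : ∀ (X : Subgroup G) (y : G),
      Subgroup.closure ((fun x : G => y * x * y⁻¹ * x⁻¹) '' (X : Set G)) =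
        Subgroup.closure ((fun x : G => x * y * x⁻¹ * y⁻¹) '' (X : Set G)) := by
    intro X y
    rw [← Subgroup.closure_inv]
    congr 1
    ext z
    simp only [Set.mem_inv, Set.mem_image, SetLike.mem_coe]
    constructor
    · rintro ⟨x, hx, hz⟩
      refine ⟨x, hx, ?_⟩
      rw [← _root_.inv_inj, ← hz]
      group
    · rintro ⟨x, hx, hz⟩
      refine ⟨x, hx, ?_⟩
      rw [← hz]
      group
  refine ⟨hc ▸ h1, ?_, ?_, ?_⟩
  · intro c hc' x hx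
    rw [hc] at hc'
    rw [sup_comm] at hx
    exact h2 c hc' x hx
  · intro b hb hb1
    rw [hc, key, h4 b hb hb1]
  · intro a ha ha1
    rw [hc, ← key, h3 a ha ha1]

theorem slRoot_commutator_eq {v φ w ψ : ι → k} (hv : φ ⬝ᵥ v = 0) (hw : ψ ⬝ᵥ w = 0)
    (h1 : φ ⬝ᵥ w = 0) (h2 : ψ ⬝ᵥ v ≠ 0) : ⁅slRoot v φ, slRoot w ψ⁆ = slRoot w φ := by
  apply le_antisymm
  · rw [Subgroup.commutator_le]
    rintro _ ⟨c, rfl⟩ _ ⟨d, rfl⟩
    rw [commutatorElement_def, slT_commutator hv hw h1]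
    exact slT_mem_slRoot _ _ _
  · rintro _ ⟨e, rfl⟩
    have : slT w φ e = ⁅slT v φ 1, slT w ψ (-(e / (ψ ⬝ᵥ v)))⁆ := by
      rw [commutatorElement_def, slT_commutator hv hw h1]
      congr 1
      field_simp
    rw [this]
    exact Subgroup.commutator_mem_commutator (slT_mem_slRoot _ _ _) (slT_mem_slRoot _ _ _)

theorem slRoot_closure_left {v φ w ψ : ι → k} (hv : φ ⬝ᵥ v = 0) (hw : ψ ⬝ᵥ w = 0)
    (h1 : φ ⬝ᵥ w = 0) (h2 : ψ ⬝ᵥ v ≠ 0) {c : k} (hc : c ≠ 0) :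
    Subgroup.closure ((fun b : Matrix.SpecialLinearGroup ι k =>
      slT v φ c * b * (slT v φ c)⁻¹ * b⁻¹) '' (slRoot w ψ : Set (Matrix.SpecialLinearGroup ι k))) =
      slRoot w φ := by
  have : (fun b : Matrix.SpecialLinearGroup ι k =>
      slT v φ c * b * (slT v φ c)⁻¹ * b⁻¹) '' (slRoot w ψ : Set (Matrix.SpecialLinearGroup ι k)) =
      (slRoot w φ : Set (Matrix.SpecialLinearGroup ι k)) := by
    ext z
    constructor
    · rintro ⟨_, ⟨d, rfl⟩, rfl⟩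
      show slT v φ c * slT w ψ d * (slT v φ c)⁻¹ * (slT w ψ d)⁻¹ ∈ slRoot w φ
      rw [slT_commutator hv hw h1]
      exact slT_mem_slRoot _ _ _
    · rintro ⟨e, rfl⟩
      refine ⟨slT w ψ (-(e / (c * (ψ ⬝ᵥ v)))), slT_mem_slRoot _ _ _, ?_⟩
      show slT v φ c * slT w ψ _ * (slT v φ c)⁻¹ * (slT w ψ _)⁻¹ = _
      rw [slT_commutator hv hw h1]
      congr 1
      field_simp
  rw [this, Subgroup.closure_eq]

theorem slRoot_closure_right {v φ w ψ : ι → k} (hv : φ ⬝ᵥ v = 0) (hw : ψ ⬝ᵥ w = 0)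
    (h1 : φ ⬝ᵥ w = 0) (h2 : ψ ⬝ᵥ v ≠ 0) {d : k} (hd : d ≠ 0) :
    Subgroup.closure ((fun a : Matrix.SpecialLinearGroup ι k =>
      a * slT w ψ d * a⁻¹ * (slT w ψ d)⁻¹) '' (slRoot v φ : Set (Matrix.SpecialLinearGroup ι k))) =
      slRoot w φ := by
  have : (fun a : Matrix.SpecialLinearGroup ι k =>
      a * slT w ψ d * a⁻¹ * (slT w ψ d)⁻¹) '' (slRoot v φ : Set (Matrix.SpecialLinearGroup ι k)) =
      (slRoot w φ : Set (Matrix.SpecialLinearGroup ι k)) := by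
    ext z
    constructor
    · rintro ⟨_, ⟨c, rfl⟩, rfl⟩
      show slT v φ c * slT w ψ d * (slT v φ c)⁻¹ * (slT w ψ d)⁻¹ ∈ slRoot w φ
      rw [slT_commutator hv hw h1]
      exact slT_mem_slRoot _ _ _
    · rintro ⟨e, rfl⟩
      refine ⟨slT v φ (-(e / (d * (ψ ⬝ᵥ v)))), slT_mem_slRoot _ _ _, ?_⟩
      show slT v φ _ * slT w ψ d * (slT v φ _)⁻¹ * (slT w ψ d)⁻¹ = _
      rw [slT_commutator hv hw h1]
      congr 1
      field_simp
  rw [this, Subgroup.closure_eq]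

/-- The commutator case for two transvection groups `T(v, φ)`, `T(w, ψ)` with `φ w = 0` and
`ψ v ≠ 0`; the commutator group is `T(w, φ)`. -/
theorem slRoot_commutatorCase {S : Set (Subgroup (Matrix.SpecialLinearGroup ι k))}
    {v φ w ψ : ι → k} (hv : φ ⬝ᵥ v = 0) (hw : ψ ⬝ᵥ w = 0)
    (h1 : φ ⬝ᵥ w = 0) (h2 : ψ ⬝ᵥ v ≠ 0) (hS : slRoot w φ ∈ S) :
    Cfsg.RootCommutatorCase S (slRoot v φ) (slRoot w ψ) := by
  have hcomm := slRoot_commutator_eq hv hw h1 h2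
  refine ⟨hcomm ▸ hS, ?_, ?_, ?_⟩
  · rw [hcomm]
    rintro _ ⟨e, rfl⟩ x hx
    have hle : slRoot v φ ⊔ slRoot w ψ ≤ Subgroup.centralizer {slT w φ e} := by
      rw [sup_le_iff]
      constructor
      · rintro _ ⟨c, rfl⟩
        rw [Subgroup.mem_centralizer_singleton_iff]
        exact slT_comm hv h1 h1 hv c e
      · rintro _ ⟨d, rfl⟩
        rw [Subgroup.mem_centralizer_singleton_iff]
        exact slT_comm hw h1 hw h1 d e
    have := hle hx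
    rw [Subgroup.mem_centralizer_singleton_iff] at this
    exact this.symm
  · rintro _ ⟨c, rfl⟩ hc
    have hc0 : c ≠ 0 := by
      rintro rfl
      exact hc (slT_zero v φ)
    rw [hcomm]
    exact slRoot_closure_left hv hw h1 h2 hc0
  · rintro _ ⟨d, rfl⟩ hd
    have hd0 : d ≠ 0 := by
      rintro rfl
      exact hd (slT_zero w ψ)
    rw [hcomm]
    exact slRoot_closure_right hv hw h1 h2 hd0

/-- The matrix acting as `M ∈ SL₂` on the plane spanned by `v, w` and trivially on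
`ker φ ∩ ker ψ`. -/
def slRhoMat (v φ w ψ : ι → k) (M : Matrix.SpecialLinearGroup (Fin 2) k) : Matrix ι ι k :=
  1 + (Matrix.vecMulVec ((M.1 0 0 - 1) • v + M.1 1 0 • w) ψ
    + Matrix.vecMulVec (M.1 0 1 • v + (M.1 1 1 - 1) • w) φ)

theorem slRhoMat_mulVec (v φ w ψ : ι → k) (M : Matrix.SpecialLinearGroup (Fin 2) k)
    (x : ι → k) :
    slRhoMat v φ w ψ M *ᵥ x = x + (ψ ⬝ᵥ x) • ((M.1 0 0 - 1) • v + M.1 1 0 • w)
      + (φ ⬝ᵥ x) • (M.1 0 1 • v + (M.1 1 1 - 1) • w) := by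
  unfold slRhoMat
  rw [Matrix.add_mulVec, Matrix.add_mulVec, Matrix.one_mulVec, Matrix.vecMulVec_mulVec,
    Matrix.vecMulVec_mulVec, op_smul_eq_smul, op_smul_eq_smul, add_assoc]

section Rho

variable {v φ w ψ : ι → k} (hv : φ ⬝ᵥ v = 0) (hw : ψ ⬝ᵥ w = 0) (h1 : φ ⬝ᵥ w = 1)
  (h2 : ψ ⬝ᵥ v = 1)
include hv hw h1 h2

theorem slRhoMat_det (M : Matrix.SpecialLinearGroup (Fin 2) k) :
    (slRhoMat v φ w ψ M).det = 1 := by
  have hdet : M.1 0 0 * M.1 1 1 - M.1 0 1 * M.1 1 0 = 1 := by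
    have := M.2
    rwa [Matrix.det_fin_two] at this
  have hAB : ∀ p q : ι → k, Matrix.vecMulVec p ψ + Matrix.vecMulVec q φ =
      (Matrix.of fun i (j : Fin 2) => ![p i, q i] j) * (Matrix.of ![ψ, φ]) := by
    intro p q
    ext i j
    simp [Matrix.mul_apply, Fin.sum_univ_two, Matrix.vecMulVec_apply]
  have hBA : ∀ p q : ι → k, (Matrix.of ![ψ, φ]) * (Matrix.of fun i (j : Fin 2) => ![p i, q i] j) =
      !![ψ ⬝ᵥ p, ψ ⬝ᵥ q; φ ⬝ᵥ p, φ ⬝ᵥ q] := by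
    intro p q
    ext i j
    fin_cases i <;> fin_cases j <;> simp [Matrix.mul_apply, dotProduct]
  unfold slRhoMat
  rw [hAB, Matrix.det_one_add_mul_comm, hBA, Matrix.det_fin_two]
  simp only [dotProduct_add, dotProduct_smul, hv, hw, h1, h2, Matrix.add_apply, Matrix.one_apply_eq,
    Matrix.of_apply, Matrix.cons_val', Matrix.cons_val_zero, Matrix.cons_val_one,
    Matrix.cons_val_fin_one, smul_eq_mul, Matrix.one_apply_ne, ne_eq, zero_ne_one, one_ne_zero,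
    not_false_eq_true]
  linear_combination hdet

theorem slRhoMat_v (M : Matrix.SpecialLinearGroup (Fin 2) k) :
    slRhoMat v φ w ψ M *ᵥ v = M.1 0 0 • v + M.1 1 0 • w := by
  rw [slRhoMat_mulVec, hv, h2]
  module

theorem slRhoMat_w (M : Matrix.SpecialLinearGroup (Fin 2) k) :
    slRhoMat v φ w ψ M *ᵥ w = M.1 0 1 • v + M.1 1 1 • w := by
  rw [slRhoMat_mulVec, hw, h1]
  module

theorem slRhoMat_mul (M N : Matrix.SpecialLinearGroup (Fin 2) k) :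
    slRhoMat v φ w ψ (M * N) = slRhoMat v φ w ψ M * slRhoMat v φ w ψ N := by
  apply Matrix.mulVec_injective
  funext x
  rw [← Matrix.mulVec_mulVec, slRhoMat_mulVec v φ w ψ N, Matrix.mulVec_add, Matrix.mulVec_add,
    Matrix.mulVec_smul, Matrix.mulVec_smul, Matrix.mulVec_add, Matrix.mulVec_add,
    Matrix.mulVec_smul, Matrix.mulVec_smul, Matrix.mulVec_smul, Matrix.mulVec_smul,
    slRhoMat_v hv hw h1 h2, slRhoMat_w hv hw h1 h2, slRhoMat_mulVec, slRhoMat_mulVec]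
  simp only [Matrix.SpecialLinearGroup.coe_mul, Matrix.mul_apply, Fin.sum_univ_two]
  module

/-- The homomorphism `SL₂(k) → SL ι k` attached to an opposite pair of flags. -/
def slRho : Matrix.SpecialLinearGroup (Fin 2) k →* Matrix.SpecialLinearGroup ι k :=
  MonoidHom.mk' (fun M => ⟨slRhoMat v φ w ψ M, slRhoMat_det hv hw h1 h2 M⟩)
    (fun M N => Subtype.ext (slRhoMat_mul hv hw h1 h2 M N))

theorem slRho_coe (M : Matrix.SpecialLinearGroup (Fin 2) k) :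
    ((slRho hv hw h1 h2 M : Matrix.SpecialLinearGroup ι k) : Matrix ι ι k) =
      slRhoMat v φ w ψ M := rfl

theorem slRho_injective : Function.Injective (slRho hv hw h1 h2) := by
  rw [injective_iff_map_eq_one]
  intro M hM
  have e1 := congrArg (fun g : Matrix.SpecialLinearGroup ι k => g.1 *ᵥ v) hM
  have e2 := congrArg (fun g : Matrix.SpecialLinearGroup ι k => g.1 *ᵥ w) hM
  simp only [slRho_coe, slRhoMat_v hv hw h1 h2, slRhoMat_w hv hw h1 h2, sl_one_mulVec] at e1 e2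
  have a1 := congrArg (fun y => ψ ⬝ᵥ y) e1
  have a2 := congrArg (fun y => φ ⬝ᵥ y) e1
  have a3 := congrArg (fun y => ψ ⬝ᵥ y) e2
  have a4 := congrArg (fun y => φ ⬝ᵥ y) e2
  simp only [dotProduct_add, dotProduct_smul, hv, hw, h1, h2, smul_eq_mul, mul_zero, mul_one,
    add_zero, zero_add] at a1 a2 a3 a4
  ext i j
  fin_cases i <;> fin_cases j
  · simpa using a1
  · simpa using a3
  · simpa using a2
  · simpa using a4

theorem slRho_U (t : k) : slRho hv hw h1 h2 (Cfsg.Agent.S5016.U t) = slT v φ t := by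
  apply sl_ext
  intro x
  rw [slRho_coe, slRhoMat_mulVec, slT_mulVec hv]
  simp only [Cfsg.Agent.S5016.U_coe, Matrix.of_apply, Matrix.cons_val', Matrix.cons_val_zero,
    Matrix.cons_val_one, Matrix.cons_val_fin_one]
  module

theorem slRho_L (t : k) : slRho hv hw h1 h2 (Cfsg.Agent.S5016.L t) = slT w ψ t := by
  apply sl_ext
  intro x
  rw [slRho_coe, slRhoMat_mulVec, slT_mulVec hw]
  simp only [Cfsg.Agent.S5016.L_coe, Matrix.of_apply, Matrix.cons_val', Matrix.cons_val_zero,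
    Matrix.cons_val_one, Matrix.cons_val_fin_one]
  module

theorem slRho_map_upper :
    (Cfsg.upperUnipotentSL2 k).map (slRho hv hw h1 h2) = slRoot v φ := by
  ext g
  rw [Subgroup.mem_map]
  constructor
  · rintro ⟨M, hM, rfl⟩
    obtain ⟨t, rfl⟩ := Cfsg.Agent.S5016.mem_upper_iff.mp hM
    exact ⟨t, slRho_U hv hw h1 h2 t⟩
  · rintro ⟨c, rfl⟩
    exact ⟨Cfsg.Agent.S5016.U c, Cfsg.Agent.S5016.mem_upper_iff.mpr ⟨_, rfl⟩,
      slRho_U hv hw h1 h2 c⟩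

theorem slRho_map_lower :
    (Cfsg.lowerUnipotentSL2 k).map (slRho hv hw h1 h2) = slRoot w ψ := by
  ext g
  rw [Subgroup.mem_map]
  constructor
  · rintro ⟨M, hM, rfl⟩
    obtain ⟨t, rfl⟩ := Cfsg.Agent.S5016.mem_lower_iff.mp hM
    exact ⟨t, slRho_L hv hw h1 h2 t⟩
  · rintro ⟨c, rfl⟩
    exact ⟨Cfsg.Agent.S5016.L c, Cfsg.Agent.S5016.mem_lower_iff.mpr ⟨_, rfl⟩,
      slRho_L hv hw h1 h2 c⟩

theorem slRho_range : (slRho hv hw h1 h2).range = slRoot v φ ⊔ slRoot w ψ := by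
  rw [MonoidHom.range_eq_map, ← Cfsg.Agent.S5016.sup_eq_top k, Subgroup.map_sup,
    slRho_map_upper, slRho_map_lower, sup_comm]

theorem slRho_psl2 : Cfsg.IsPSL2PairOver k (slRoot v φ) (slRoot w ψ) := by
  refine ⟨slRho hv hw h1 h2, slRho_range hv hw h1 h2, ?_, slRho_map_upper hv hw h1 h2,
    slRho_map_lower hv hw h1 h2⟩
  rw [(MonoidHom.ker_eq_bot_iff _).mpr (slRho_injective hv hw h1 h2)]
  exact bot_le

theorem slRho_rankOne : Cfsg.IsRankOnePair (slRoot v φ) (slRoot w ψ) := by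
  have := rankOnePair_map (slRho hv hw h1 h2) (slRho_injective hv hw h1 h2)
    (Cfsg.Agent.S5016.pair k)
  rw [slRho_map_upper, slRho_map_lower] at this
  exact Cfsg.RankOnePair_symm this

end Rho

/-- Opposite flags give rank one pairs generating an image of `SL₂(k)`. -/
theorem slRoot_rankOne {v φ w ψ : ι → k} (hv : φ ⬝ᵥ v = 0) (hw : ψ ⬝ᵥ w = 0)
    (h1 : φ ⬝ᵥ w ≠ 0) (h2 : ψ ⬝ᵥ v ≠ 0) :
    Cfsg.IsRankOnePair (slRoot v φ) (slRoot w ψ) ∧
      Cfsg.IsPSL2PairOver k (slRoot v φ) (slRoot w ψ) := by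
  have hw' : ((ψ ⬝ᵥ v)⁻¹ • ψ) ⬝ᵥ ((φ ⬝ᵥ w)⁻¹ • w) = 0 := by
    rw [smul_dotProduct, dotProduct_smul, hw, smul_zero, smul_zero]
  have h1' : φ ⬝ᵥ ((φ ⬝ᵥ w)⁻¹ • w) = 1 := by
    rw [dotProduct_smul, smul_eq_mul, inv_mul_cancel₀ h1]
  have h2' : ((ψ ⬝ᵥ v)⁻¹ • ψ) ⬝ᵥ v = 1 := by
    rw [smul_dotProduct, smul_eq_mul, inv_mul_cancel₀ h2]
  have hq : slRoot ((φ ⬝ᵥ w)⁻¹ • w) ((ψ ⬝ᵥ v)⁻¹ • ψ) = slRoot w ψ :=
    slRoot_smul hw (inv_ne_zero h1) (inv_ne_zero h2)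
  rw [← hq]
  exact ⟨slRho_rankOne hv hw' h1' h2', slRho_psl2 hv hw' h1' h2'⟩

/-- The set of all transvection subgroups `T(v, φ)` for incident pairs `(v, φ)`. -/
def slSigma (ι k : Type*) [Fintype ι] [DecidableEq ι] [Field k] :
    Set (Subgroup (Matrix.SpecialLinearGroup ι k)) :=
  {A | ∃ v φ : ι → k, v ≠ 0 ∧ φ ≠ 0 ∧ φ ⬝ᵥ v = 0 ∧ A = slRoot v φ}

theorem slRoot_mem_slSigma {v φ : ι → k} (hv : v ≠ 0) (hφ : φ ≠ 0) (h : φ ⬝ᵥ v = 0) :
    slRoot v φ ∈ slSigma ι k := ⟨v, φ, hv, hφ, h, rfl⟩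

theorem sl_mulVec_ne_zero (g : Matrix.SpecialLinearGroup ι k) {v : ι → k} (hv : v ≠ 0) :
    g.1 *ᵥ v ≠ 0 := by
  intro h
  apply hv
  rw [← sl_inv_mulVec g v, h, Matrix.mulVec_zero]

theorem sl_vecMul_ne_zero (g : Matrix.SpecialLinearGroup ι k) {φ : ι → k} (hφ : φ ≠ 0) :
    φ ᵥ* g.1 ≠ 0 := by
  intro h
  apply hφ
  have : (φ ᵥ* g.1) ᵥ* g⁻¹.1 = φ := by
    rw [Matrix.vecMul_vecMul, ← Matrix.SpecialLinearGroup.coe_mul, mul_inv_cancel,
      Matrix.SpecialLinearGroup.coe_one, Matrix.vecMul_one]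
  rw [← this, h, Matrix.zero_vecMul]

theorem sl_transvection_eq {i j : ι} (hij : i ≠ j) (c : k) :
    Matrix.SpecialLinearGroup.transvection hij c = slT (Pi.single i 1) (Pi.single j 1) c := by
  have h : (Pi.single j 1 : ι → k) ⬝ᵥ (Pi.single i 1) = 0 := by
    rw [single_dotProduct, one_mul, Pi.single_apply, if_neg hij.symm]
  apply sl_ext
  intro x
  rw [slT_mulVec h, Matrix.SpecialLinearGroup.transvection_coe, Matrix.add_mulVec,
    Matrix.one_mulVec, single_dotProduct, one_mul]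
  congr 1
  ext a
  rw [Matrix.single_mulVec]
  simp [Pi.single_apply, Function.update_apply]

theorem slSigma_rootSet [Nontrivial ι] : Cfsg.IsRootSubgroupSet (slSigma ι k) := by
  refine ⟨?_, ?_, ?_, ?_, ?_⟩
  · rintro _ ⟨v, φ, _, _, _, rfl⟩
    exact slRoot_commutative v φ
  · rintro _ ⟨v, φ, hv, hφ, h, rfl⟩
    exact slRoot_ne_bot h hv hφ
  · rw [eq_top_iff, ← Cfsg.Agent.Lib.Lead.SL_closure_transvections, Subgroup.closure_le]
    rintro _ ⟨i, j, hij, c, rfl⟩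
    have h : (Pi.single j 1 : ι → k) ⬝ᵥ (Pi.single i 1) = 0 := by
      rw [single_dotProduct, one_mul, Pi.single_apply, if_neg hij.symm]
    have hi : (Pi.single i 1 : ι → k) ≠ 0 := by
      intro h0
      have := congrFun h0 i
      simp at this
    have hj : (Pi.single j 1 : ι → k) ≠ 0 := by
      intro h0
      have := congrFun h0 j
      simp at this
    rw [sl_transvection_eq]
    exact (le_iSup₂_of_le (slRoot (Pi.single i 1) (Pi.single j 1)) (slRoot_mem_slSigma hi hj h)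
      le_rfl : slRoot (Pi.single i 1) (Pi.single j 1) ≤ ⨆ B ∈ slSigma ι k, B)
      (slT_mem_slRoot _ _ c)
  · rintro _ ⟨v, φ, hv, hφ, h, rfl⟩ g
    refine ⟨g.1 *ᵥ v, φ ᵥ* g⁻¹.1, sl_mulVec_ne_zero g hv, sl_vecMul_ne_zero g⁻¹ hφ, ?_,
      conjBy_slRoot g v φ⟩
    rw [sl_flag_conj, h]
  · rintro _ ⟨v, φ, hv, hφ, h, rfl⟩ _ ⟨w, ψ, hw, hψ, h', rfl⟩
    by_cases h1 : φ ⬝ᵥ w = 0
    · by_cases h2 : ψ ⬝ᵥ v = 0
      · exact Or.inl (slRoot_commute h h' h1 h2)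
      · exact Or.inr (Or.inr (slRoot_commutatorCase h h' h1 h2 (slRoot_mem_slSigma hw hφ h1)))
    · by_cases h2 : ψ ⬝ᵥ v = 0
      · exact Or.inr (Or.inr (rootCommutatorCase_swap
          (slRoot_commutatorCase h' h h2 h1 (slRoot_mem_slSigma hv hψ h2))))
      · exact Or.inr (Or.inl (slRoot_rankOne h h' h1 h2).1)

theorem slSigma_kRoot [Nontrivial ι] : Cfsg.IsKRootSubgroupSet k (slSigma ι k) := by
  refine ⟨slSigma_rootSet, ?_⟩
  rintro _ ⟨v, φ, hv, hφ, h, rfl⟩ _ ⟨w, ψ, hw, hψ, h', rfl⟩ hr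
  by_cases h1 : φ ⬝ᵥ w = 0
  · by_cases h2 : ψ ⬝ᵥ v = 0
    · exfalso
      apply rankOne_not_commute hr
      intro a ha b hb
      exact Cfsg.Agent.S5028.commute_of_commutator_eq_bot (slRoot_commute h h' h1 h2) ha hb
    · exfalso
      refine Cfsg.Agent.S5029.not_rankOne_of_commutator_mem slSigma_rootSet
        (slRoot_mem_slSigma hv hφ h) ?_ hr
      rw [slRoot_commutator_eq h h' h1 h2]
      exact slRoot_mem_slSigma hw hφ h1
  · by_cases h2 : ψ ⬝ᵥ v = 0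
    · exfalso
      refine Cfsg.Agent.S5029.not_rankOne_of_commutator_mem slSigma_rootSet
        (slRoot_mem_slSigma hw hψ h') ?_ (Cfsg.RankOnePair_symm hr)
      rw [slRoot_commutator_eq h' h h2 h1]
      exact slRoot_mem_slSigma hv hψ h2
    · exact (slRoot_rankOne h h' h1 h2).2

theorem exists_dotProduct_ne_zero_both {φ ψ : ι → k} (hφ : φ ≠ 0) (hψ : ψ ≠ 0) :
    ∃ u : ι → k, φ ⬝ᵥ u ≠ 0 ∧ ψ ⬝ᵥ u ≠ 0 := by
  obtain ⟨x, hx⟩ := exists_dotProduct_ne_zero hφ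
  obtain ⟨y, hy⟩ := exists_dotProduct_ne_zero hψ
  by_cases h1 : ψ ⬝ᵥ x = 0
  · by_cases h2 : φ ⬝ᵥ y = 0
    · refine ⟨x + y, ?_, ?_⟩
      · rwa [dotProduct_add, h2, add_zero]
      · rwa [dotProduct_add, h1, zero_add]
    · exact ⟨y, h2, hy⟩
  · exact ⟨x, hx, h1⟩

theorem exists_separating {φ u v : ι → k} (hu : φ ⬝ᵥ u ≠ 0) (hv : φ ⬝ᵥ v = 0) (hv0 : v ≠ 0) :
    ∃ χ : ι → k, χ ⬝ᵥ u = 0 ∧ χ ⬝ᵥ v ≠ 0 := by
  obtain ⟨α, hα⟩ := exists_dotProduct_ne_zero hv0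
  rw [dotProduct_comm] at hα
  refine ⟨α - ((α ⬝ᵥ u) / (φ ⬝ᵥ u)) • φ, ?_, ?_⟩
  · rw [sub_dotProduct, smul_dotProduct, smul_eq_mul, div_mul_cancel₀ _ hu, sub_self]
  · rwa [sub_dotProduct, smul_dotProduct, hv, smul_zero, sub_zero]

/-- Two flags have a common opposite flag. -/
theorem exists_common_opposite {v φ w ψ : ι → k} (hv : v ≠ 0) (hφ : φ ≠ 0) (h : φ ⬝ᵥ v = 0)
    (hw : w ≠ 0) (hψ : ψ ≠ 0) (h' : ψ ⬝ᵥ w = 0) :
    ∃ u χ : ι → k, u ≠ 0 ∧ χ ≠ 0 ∧ χ ⬝ᵥ u = 0 ∧ φ ⬝ᵥ u ≠ 0 ∧ χ ⬝ᵥ v ≠ 0 ∧ ψ ⬝ᵥ u ≠ 0 ∧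
      χ ⬝ᵥ w ≠ 0 := by
  obtain ⟨u, hu1, hu2⟩ := exists_dotProduct_ne_zero_both hφ hψ
  have hu0 : u ≠ 0 := by
    rintro rfl
    exact hu1 (dotProduct_zero φ)
  obtain ⟨χ₁, hχ₁u, hχ₁v⟩ := exists_separating hu1 h hv
  obtain ⟨χ₂, hχ₂u, hχ₂w⟩ := exists_separating hu2 h' hw
  have key : ∃ χ : ι → k, χ ⬝ᵥ u = 0 ∧ χ ⬝ᵥ v ≠ 0 ∧ χ ⬝ᵥ w ≠ 0 := by
    by_cases h1 : χ₁ ⬝ᵥ w = 0
    · by_cases h2 : χ₂ ⬝ᵥ v = 0
      · refine ⟨χ₁ + χ₂, ?_, ?_, ?_⟩
        · rw [add_dotProduct, hχ₁u, hχ₂u, add_zero]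
        · rwa [add_dotProduct, h2, add_zero]
        · rwa [add_dotProduct, h1, zero_add]
      · exact ⟨χ₂, hχ₂u, h2, hχ₂w⟩
    · exact ⟨χ₁, hχ₁u, hχ₁v, h1⟩
  obtain ⟨χ, hχu, hχv, hχw⟩ := key
  refine ⟨u, χ, hu0, ?_, hχu, hu1, hχv, hu2, hχw⟩
  rintro rfl
  exact hχv (zero_dotProduct v)

theorem slSigma_connected [Nontrivial ι] :
    Cfsg.IsConnectedFamily (Cfsg.FAdj (slSigma ι k)) (slSigma ι k) := by
  rintro _ ⟨v, φ, hv, hφ, h, rfl⟩ _ ⟨w, ψ, hw, hψ, h', rfl⟩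
  obtain ⟨u, χ, hu, hχ, hχu, h1, h2, h3, h4⟩ := exists_common_opposite hv hφ h hw hψ h'
  have hC : slRoot u χ ∈ slSigma ι k := slRoot_mem_slSigma hu hχ hχu
  have e1 : Cfsg.FAdj (slSigma ι k) (slRoot v φ) (slRoot u χ) :=
    ⟨slRoot_mem_slSigma hv hφ h, hC, (slRoot_rankOne h hχu h1 h2).1⟩
  have e2 : Cfsg.FAdj (slSigma ι k) (slRoot u χ) (slRoot w ψ) :=
    ⟨hC, slRoot_mem_slSigma hw hψ h', (slRoot_rankOne hχu h' h4 h3).1⟩
  exact Relation.ReflTransGen.tail (Relation.ReflTransGen.single e1) e2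

theorem slSigma_nonempty [Nontrivial ι] : (slSigma ι k).Nonempty := by
  obtain ⟨i, j, hij⟩ := exists_pair_ne ι
  have h : (Pi.single j 1 : ι → k) ⬝ᵥ (Pi.single i 1) = 0 := by
    rw [single_dotProduct, one_mul, Pi.single_apply, if_neg hij.symm]
  have hi : (Pi.single i 1 : ι → k) ≠ 0 := by
    intro h0
    have := congrFun h0 i
    simp at this
  have hj : (Pi.single j 1 : ι → k) ≠ 0 := by
    intro h0
    have := congrFun h0 j
    simp at this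
  exact ⟨_, slRoot_mem_slSigma hi hj h⟩

theorem slSigma_class [Nontrivial ι] : Cfsg.IsRootSubgroupClass (slSigma ι k) := by
  refine ⟨slSigma_rootSet, slSigma_nonempty, ?_⟩
  intro A hA B hB
  exact Cfsg.Agent.S5032.exists_conj_of_rtg (slSigma_connected A hA B hB)

theorem sl_single_dot (a b : ι) :
    (Pi.single a 1 : ι → k) ⬝ᵥ (Pi.single b 1) = if a = b then 1 else 0 := by
  rw [single_dotProduct, one_mul, Pi.single_apply]

theorem sl_single_ne_zero (a : ι) : (Pi.single a 1 : ι → k) ≠ 0 := by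
  intro h0
  have := congrFun h0 a
  simp at this

theorem slRoot_std_eq_closure {i j : ι} (hij : i ≠ j) :
    Subgroup.closure {t : Matrix.SpecialLinearGroup ι k |
      ∃ c : k, (t : Matrix ι ι k) = Matrix.transvection i j c} =
      slRoot (Pi.single i 1) (Pi.single j 1) := by
  have : {t : Matrix.SpecialLinearGroup ι k |
      ∃ c : k, (t : Matrix ι ι k) = Matrix.transvection i j c} =
      ((slRoot (Pi.single i (1 : k)) (Pi.single j 1) :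
        Subgroup (Matrix.SpecialLinearGroup ι k)) : Set (Matrix.SpecialLinearGroup ι k)) := by
    ext t
    constructor
    · rintro ⟨c, hc⟩
      refine ⟨c, ?_⟩
      rw [← sl_transvection_eq hij]
      exact Subtype.ext hc
    · rintro ⟨c, rfl⟩
      refine ⟨c, ?_⟩
      rw [← sl_transvection_eq hij]
      rfl
  rw [this, Subgroup.closure_eq]

/-- The conjugates of an elementary root subgroup are exactly the transvection subgroups. -/
theorem slSigma_eq_conj [Nontrivial ι] {i j : ι} (hij : i ≠ j) :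
    {A : Subgroup (Matrix.SpecialLinearGroup ι k) |
      ∃ g : Matrix.SpecialLinearGroup ι k,
        A = Cfsg.conjBy (Subgroup.closure {t : Matrix.SpecialLinearGroup ι k |
          ∃ c : k, (t : Matrix ι ι k) = Matrix.transvection i j c}) g} = slSigma ι k := by
  rw [slRoot_std_eq_closure hij]
  have h0 : slRoot (Pi.single i 1) (Pi.single j 1) ∈ slSigma ι k :=
    slRoot_mem_slSigma (sl_single_ne_zero i) (sl_single_ne_zero j)
      (by rw [sl_single_dot, if_neg hij.symm])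
  ext A
  constructor
  · rintro ⟨g, rfl⟩
    exact slSigma_rootSet.conj_mem _ h0 g
  · intro hA
    exact slSigma_class.2.2 _ h0 A hA

theorem slSigma_nondegenerate [Nontrivial ι] {i j l : ι} (hij : i ≠ j) (hil : i ≠ l)
    (hjl : j ≠ l) : Cfsg.IsNondegenerateRootSet (slSigma ι k) := by
  have mem : ∀ a b : ι, a ≠ b → slRoot (Pi.single a (1 : k)) (Pi.single b 1) ∈ slSigma ι k :=
    fun a b hab => slRoot_mem_slSigma (sl_single_ne_zero a) (sl_single_ne_zero b)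
      (by rw [sl_single_dot, if_neg hab.symm])
  have hji := hij.symm
  have hli := hil.symm
  have hlj := hjl.symm
  refine ⟨?_, ?_, ?_⟩
  · refine ⟨_, mem i j hij, _, mem i l hil, ?_, ?_⟩
    · intro heq
      have h1 : slT (Pi.single i (1 : k)) (Pi.single j 1) 1 ∈
          slRoot (Pi.single i (1 : k)) (Pi.single l 1) := heq ▸ slT_mem_slRoot _ _ 1
      obtain ⟨d, hd⟩ := h1
      have h2 := congrArg (fun g : Matrix.SpecialLinearGroup ι k => g.1 *ᵥ Pi.single j 1) hd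
      have hf1 : (Pi.single j 1 : ι → k) ⬝ᵥ (Pi.single i 1) = 0 := by
        rw [sl_single_dot, if_neg hji]
      have hf2 : (Pi.single l 1 : ι → k) ⬝ᵥ (Pi.single i 1) = 0 := by
        rw [sl_single_dot, if_neg hli]
      simp only [slT_mulVec hf1, slT_mulVec hf2, sl_single_dot, if_neg hlj, if_true, mul_one,
        mul_zero, zero_smul, add_zero, one_smul, add_eq_left] at h2
      exact sl_single_ne_zero i h2
    · apply slRoot_commute <;> simp [hji, hli]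
  · refine ⟨_, mem i j hij, _, mem j i hji, ?_⟩
    refine (slRoot_rankOne ?_ ?_ ?_ ?_).1 <;> simp [hji, hij]
  · refine ⟨_, mem i j hij, _, mem l i hli, ?_⟩
    apply slRoot_commutatorCase
    · simp [hji]
    · simp [hil]
    · simp [hjl]
    · simp
    · exact mem l j hlj

end SLRoot

end Cfsg.Agent.Lib.Helper26
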