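import Mathlib
import Cfsg.Agent.Lib.Lead.OrthPlus
import Cfsg.Agent.Lib.Helper26.SLRoot
import Cfsg.Agent.Lib.Helper26.RootTransfer

set_option autoImplicit false

/-!
# Siegel transvection subgroups of the hyperbolic orthogonal group

For the hyperbolic quadratic form `Q = quadFormPlus n F` with polar form `B = polarP F n` and a
singular line spanned by `p, r`, the Siegel transformations
`x ↦ x + c (B(x, p) r - B(x, r) p)` form a subgroup `ogRoot p r` of the isometry group.
-/

namespace Cfsg.Agent.Lib.Helper26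

open Matrix Cfsg.Agent.Lib.Lead
open scoped commutatorElement

section OrthRoot

variable {F : Type*} [Field F] {n : ℕ}

/-- The ambient isometry group of the hyperbolic quadratic form. -/
abbrev ogG (F : Type*) [Field F] (n : ℕ) : Subgroup (GL (Fin n ⊕ Fin n) F) :=
  Cfsg.isometryGroup F (Cfsg.quadFormPlus n F)

theorem ob_comm (x y : Fin n ⊕ Fin n → F) : polarP F n x y = polarP F n y x := by
  rw [polarP_symm y x, one_mul]

theorem ob_dot (x y : Fin n ⊕ Fin n → F) : (swapS F n *ᵥ y) ⬝ᵥ x = polarP F n x y := by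
  rw [polarP, Matrix.toBilin'_apply', dotProduct_comm]

/-- Nondegeneracy of the polar form. -/
theorem ob_eq_zero {z : Fin n ⊕ Fin n → F} (h : ∀ y, polarP F n z y = 0) : z = 0 := by
  by_contra hz
  obtain ⟨y, hy⟩ := polarP_nondeg z hz
  exact hy (h y)

/-- `p, r` span a totally singular subspace. -/
def OSing (p r : Fin n ⊕ Fin n → F) : Prop :=
  Cfsg.quadFormPlus n F p = 0 ∧ Cfsg.quadFormPlus n F r = 0 ∧ polarP F n p r = 0

theorem OSing.self_left {p r : Fin n ⊕ Fin n → F} (h : OSing p r) : polarP F n p p = 0 := by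
  rw [polarP_self, h.1, add_zero]

theorem OSing.self_right {p r : Fin n ⊕ Fin n → F} (h : OSing p r) : polarP F n r r = 0 := by
  rw [polarP_self, h.2.1, add_zero]

theorem OSing.swap {p r : Fin n ⊕ Fin n → F} (h : OSing p r) : polarP F n r p = 0 := by
  rw [ob_comm, h.2.2]

theorem OSing.symm {p r : Fin n ⊕ Fin n → F} (h : OSing p r) : OSing r p :=
  ⟨h.2.1, h.1, h.swap⟩

/-- `Q` of a linear combination of two vectors. -/
theorem quadP_comb2 (a b : F) (p r : Fin n ⊕ Fin n → F) :
    Cfsg.quadFormPlus n F (a • p + b • r) =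
      a * a * Cfsg.quadFormPlus n F p + b * b * Cfsg.quadFormPlus n F r +
        a * b * polarP F n p r := by
  rw [quadP_add, quadP_smul, quadP_smul, map_smul, map_smul, LinearMap.smul_apply]
  simp only [smul_eq_mul]
  ring

theorem OSing.comb {p r : Fin n ⊕ Fin n → F} (h : OSing p r) (a b c d : F) :
    OSing (a • p + b • r) (c • p + d • r) := by
  refine ⟨?_, ?_, ?_⟩
  · rw [quadP_comb2, h.1, h.2.1, h.2.2]
    ring
  · rw [quadP_comb2, h.1, h.2.1, h.2.2]
    ring
  · simp only [map_add, map_smul, LinearMap.add_apply, LinearMap.smul_apply, smul_eq_mul,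
      h.self_left, h.self_right, h.swap, h.2.2]
    ring

/-- The matrix of a Siegel transformation. -/
def ogMat (p r : Fin n ⊕ Fin n → F) (c : F) : Matrix (Fin n ⊕ Fin n) (Fin n ⊕ Fin n) F :=
  1 + c • (Matrix.vecMulVec r (swapS F n *ᵥ p) - Matrix.vecMulVec p (swapS F n *ᵥ r))

theorem ogMat_mulVec (p r : Fin n ⊕ Fin n → F) (c : F) (x : Fin n ⊕ Fin n → F) :
    ogMat p r c *ᵥ x = x + c • (polarP F n x p • r - polarP F n x r • p) := by
  unfold ogMat
  rw [Matrix.add_mulVec, Matrix.one_mulVec, Matrix.smul_mulVec, Matrix.sub_mulVec,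
    Matrix.vecMulVec_mulVec, Matrix.vecMulVec_mulVec, op_smul_eq_smul, op_smul_eq_smul,
    ob_dot, ob_dot]

theorem ogMat_quad {p r : Fin n ⊕ Fin n → F} (h : OSing p r) (c : F) (x : Fin n ⊕ Fin n → F) :
    Cfsg.quadFormPlus n F (ogMat p r c *ᵥ x) = Cfsg.quadFormPlus n F x := by
  rw [ogMat_mulVec, quadP_add, quadP_smul]
  have e1 : polarP F n x p • r - polarP F n x r • p =
      (-polarP F n x r) • p + polarP F n x p • r := by
    module
  rw [e1, quadP_comb2, h.1, h.2.1, h.2.2]
  simp only [map_add, map_smul, LinearMap.add_apply, LinearMap.smul_apply, smul_eq_mul]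
  ring

theorem ogMat_zero (p r : Fin n ⊕ Fin n → F) : ogMat p r 0 = 1 := by
  unfold ogMat
  rw [zero_smul, add_zero]

theorem ogMat_mul {p r : Fin n ⊕ Fin n → F} (h : OSing p r) (c d : F) :
    ogMat p r c * ogMat p r d = ogMat p r (c + d) := by
  apply Matrix.mulVec_injective
  funext x
  rw [← Matrix.mulVec_mulVec, ogMat_mulVec p r d, ogMat_mulVec, ogMat_mulVec]
  simp only [map_add, map_smul, map_sub, LinearMap.add_apply, LinearMap.smul_apply,
    LinearMap.sub_apply, smul_eq_mul, h.self_left, h.self_right, h.swap, h.2.2]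
  module

/-- The Siegel transformation attached to a singular pair, as an isometry. -/
def ogOf (p r : Fin n ⊕ Fin n → F) (h : OSing p r) (c : F) : ↥(ogG F n) :=
  ⟨⟨ogMat p r c, ogMat p r (-c), by rw [ogMat_mul h, add_neg_cancel, ogMat_zero],
    by rw [ogMat_mul h, neg_add_cancel, ogMat_zero]⟩,
    (mem_isometryGroup_iff _).mpr (ogMat_quad h c)⟩

open Classical in
/-- The Siegel transformation `x ↦ x + c (B(x, p) r - B(x, r) p)` (the identity if `p, r` is not a
singular pair). -/
noncomputable def ogT (p r : Fin n ⊕ Fin n → F) (c : F) : ↥(ogG F n) :=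
  if h : OSing p r then ogOf p r h c else 1

theorem ogT_mulVec {p r : Fin n ⊕ Fin n → F} (h : OSing p r) (c : F) (x : Fin n ⊕ Fin n → F) :
    (ogT p r c).1.1 *ᵥ x = x + c • (polarP F n x p • r - polarP F n x r • p) := by
  rw [ogT, dif_pos h]
  exact ogMat_mulVec p r c x

theorem ogT_of_not {p r : Fin n ⊕ Fin n → F} (h : ¬ OSing p r) (c : F) : ogT p r c = 1 := by
  rw [ogT, dif_neg h]

theorem og_ext {g h : ↥(ogG F n)} (H : ∀ x : Fin n ⊕ Fin n → F, g.1.1 *ᵥ x = h.1.1 *ᵥ x) :
    g = h := by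
  apply Subtype.ext
  apply Units.ext
  exact Matrix.mulVec_injective (funext H)

theorem og_mul_mulVec (A B : ↥(ogG F n)) (x : Fin n ⊕ Fin n → F) :
    (A * B).1.1 *ᵥ x = A.1.1 *ᵥ (B.1.1 *ᵥ x) := by
  rw [Matrix.mulVec_mulVec]
  rfl

theorem og_one_mulVec (x : Fin n ⊕ Fin n → F) : (1 : ↥(ogG F n)).1.1 *ᵥ x = x := by
  change (1 : Matrix (Fin n ⊕ Fin n) (Fin n ⊕ Fin n) F) *ᵥ x = x
  rw [Matrix.one_mulVec]

theorem og_inv_mulVec (g : ↥(ogG F n)) (x : Fin n ⊕ Fin n → F) :
    (g⁻¹).1.1 *ᵥ (g.1.1 *ᵥ x) = x := by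
  rw [← og_mul_mulVec, inv_mul_cancel, og_one_mulVec]

theorem og_mulVec_inv (g : ↥(ogG F n)) (x : Fin n ⊕ Fin n → F) :
    g.1.1 *ᵥ ((g⁻¹).1.1 *ᵥ x) = x := by
  rw [← og_mul_mulVec, mul_inv_cancel, og_one_mulVec]

theorem og_quad (g : ↥(ogG F n)) (x : Fin n ⊕ Fin n → F) :
    Cfsg.quadFormPlus n F (g.1.1 *ᵥ x) = Cfsg.quadFormPlus n F x :=
  (mem_isometryGroup_iff g.1).mp g.2 x

theorem og_form (g : ↥(ogG F n)) (x y : Fin n ⊕ Fin n → F) :
    polarP F n (g.1.1 *ᵥ x) (g.1.1 *ᵥ y) = polarP F n x y := by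
  rw [polarP_eq_sub, polarP_eq_sub, ← Matrix.mulVec_add, og_quad, og_quad, og_quad]

theorem OSing.map {p r : Fin n ⊕ Fin n → F} (h : OSing p r) (g : ↥(ogG F n)) :
    OSing (g.1.1 *ᵥ p) (g.1.1 *ᵥ r) :=
  ⟨by rw [og_quad, h.1], by rw [og_quad, h.2.1], by rw [og_form, h.2.2]⟩

theorem ogT_mul (p r : Fin n ⊕ Fin n → F) (c d : F) : ogT p r c * ogT p r d = ogT p r (c + d) := by
  by_cases h : OSing p r
  · apply og_ext
    intro x
    rw [og_mul_mulVec, ogT_mulVec h, ogT_mulVec h, ogT_mulVec h]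
    simp only [map_add, map_smul, map_sub, LinearMap.add_apply, LinearMap.smul_apply,
      LinearMap.sub_apply, smul_eq_mul, h.self_left, h.self_right, h.swap, h.2.2]
    module
  · rw [ogT_of_not h, ogT_of_not h, ogT_of_not h, mul_one]

theorem ogT_zero (p r : Fin n ⊕ Fin n → F) : ogT p r 0 = 1 := by
  by_cases h : OSing p r
  · apply og_ext
    intro x
    rw [ogT_mulVec h, og_one_mulVec, zero_smul, add_zero]
  · exact ogT_of_not h 0

theorem ogT_inv (p r : Fin n ⊕ Fin n → F) (c : F) : (ogT p r c)⁻¹ = ogT p r (-c) := by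
  rw [inv_eq_iff_mul_eq_one, ogT_mul, add_neg_cancel, ogT_zero]

theorem ogT_conj (g : ↥(ogG F n)) {p r : Fin n ⊕ Fin n → F} (h : OSing p r) (c : F) :
    g * ogT p r c * g⁻¹ = ogT (g.1.1 *ᵥ p) (g.1.1 *ᵥ r) c := by
  apply og_ext
  intro x
  rw [og_mul_mulVec, og_mul_mulVec, ogT_mulVec h, ogT_mulVec (h.map g), Matrix.mulVec_add,
    og_mulVec_inv, Matrix.mulVec_smul, Matrix.mulVec_sub, Matrix.mulVec_smul, Matrix.mulVec_smul]
  have e1 : ∀ y, polarP F n ((g⁻¹).1.1 *ᵥ x) y = polarP F n x (g.1.1 *ᵥ y) := by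
    intro y
    rw [← og_form g, og_mulVec_inv]
  rw [e1, e1]

/-- Change of basis of the singular line. -/
theorem ogT_comb {p r : Fin n ⊕ Fin n → F} (h : OSing p r) (a b c d e : F) :
    ogT (a • p + b • r) (c • p + d • r) e = ogT p r ((a * d - b * c) * e) := by
  apply og_ext
  intro x
  rw [ogT_mulVec (h.comb a b c d), ogT_mulVec h]
  simp only [map_add, map_smul, smul_eq_mul]
  module

theorem ogT_swap {p r : Fin n ⊕ Fin n → F} (h : OSing p r) (e : F) :
    ogT r p e = ogT p r (-e) := by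
  have := ogT_comb h 0 1 1 0 e
  simp only [zero_smul, one_smul, zero_add, add_zero] at this
  rw [this]
  congr 1
  ring

/-- Linear independence of two vectors, in elementary form. -/
def OInd (p r : Fin n ⊕ Fin n → F) : Prop := ∀ s t : F, s • p + t • r = 0 → s = 0 ∧ t = 0

theorem oInd_iff (p r : Fin n ⊕ Fin n → F) : LinearIndependent F ![p, r] ↔ OInd p r :=
  LinearIndependent.pair_iff

theorem OInd.left_ne_zero {p r : Fin n ⊕ Fin n → F} (h : OInd p r) : p ≠ 0 := by
  rintro rfl
  have := h 1 0 (by simp)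
  exact one_ne_zero this.1

theorem OInd.right_ne_zero {p r : Fin n ⊕ Fin n → F} (h : OInd p r) : r ≠ 0 := by
  rintro rfl
  have := h 0 1 (by simp)
  exact one_ne_zero this.2

theorem OInd.symm {p r : Fin n ⊕ Fin n → F} (h : OInd p r) : OInd r p := by
  intro s t hst
  have := h t s (by rw [add_comm]; exact hst)
  exact ⟨this.2, this.1⟩

theorem OInd.map {p r : Fin n ⊕ Fin n → F} (h : OInd p r) (g : ↥(ogG F n)) :
    OInd (g.1.1 *ᵥ p) (g.1.1 *ᵥ r) := by
  intro s t hst
  apply h s t
  have := congrArg (fun y => (g⁻¹).1.1 *ᵥ y) hst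
  simp only [Matrix.mulVec_add, Matrix.mulVec_smul, og_inv_mulVec, Matrix.mulVec_zero] at this
  exact this

theorem OInd.comb {p r : Fin n ⊕ Fin n → F} (h : OInd p r) {a b c d : F}
    (hdet : a * d - b * c ≠ 0) : OInd (a • p + b • r) (c • p + d • r) := by
  intro s t hst
  have e : (s * a + t * c) • p + (s * b + t * d) • r = 0 := by
    rw [← hst]
    module
  obtain ⟨h1, h2⟩ := h _ _ e
  constructor
  · have : s * (a * d - b * c) = 0 := by linear_combination d * h1 - c * h2
    exact (mul_eq_zero.mp this).resolve_right hdet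
  · have : t * (a * d - b * c) = 0 := by linear_combination a * h2 - b * h1
    exact (mul_eq_zero.mp this).resolve_right hdet

/-- Vectors dual to an independent pair. -/
theorem exists_dual_pair {p r : Fin n ⊕ Fin n → F} (h : OInd p r) :
    ∃ ps rs : Fin n ⊕ Fin n → F, polarP F n ps p = 1 ∧ polarP F n ps r = 0 ∧
      polarP F n rs p = 0 ∧ polarP F n rs r = 1 := by
  obtain ⟨y, hy⟩ := polarP_nondeg p h.left_ne_zero
  set y₁ := (polarP F n p y)⁻¹ • y with hy₁
  have hy₁p : polarP F n y₁ p = 1 := by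
    rw [hy₁, map_smul, LinearMap.smul_apply, smul_eq_mul, ob_comm y p, inv_mul_cancel₀ hy]
  obtain ⟨z, hzp, hzr⟩ : ∃ z, polarP F n z p = 0 ∧ polarP F n z r ≠ 0 := by
    by_contra hcon
    push Not at hcon
    have key : ∀ x, polarP F n (r - polarP F n y₁ r • p) x = 0 := by
      intro x
      have hz := hcon (x - polarP F n x p • y₁) (by
        rw [map_sub, map_smul, LinearMap.sub_apply, LinearMap.smul_apply, hy₁p, smul_eq_mul,
          mul_one, sub_self])
      rw [map_sub, map_smul, LinearMap.sub_apply, LinearMap.smul_apply, smul_eq_mul] at hz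
      rw [map_sub, map_smul, LinearMap.sub_apply, LinearMap.smul_apply, smul_eq_mul, ob_comm r x,
        ob_comm p x]
      linear_combination hz
    have h0 := ob_eq_zero key
    have := h (-polarP F n y₁ r) 1 (by rw [← h0]; module)
    exact one_ne_zero this.2
  refine ⟨y₁ - polarP F n y₁ r • ((polarP F n z r)⁻¹ • z), (polarP F n z r)⁻¹ • z, ?_, ?_, ?_, ?_⟩
  · simp only [map_sub, map_smul, LinearMap.sub_apply, LinearMap.smul_apply, smul_eq_mul, hy₁p,
      hzp]
    ring
  · simp only [map_sub, map_smul, LinearMap.sub_apply, LinearMap.smul_apply, smul_eq_mul]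
    rw [inv_mul_cancel₀ hzr]
    ring
  · simp only [map_smul, LinearMap.smul_apply, smul_eq_mul, hzp, mul_zero]
  · simp only [map_smul, LinearMap.smul_apply, smul_eq_mul]
    exact inv_mul_cancel₀ hzr

theorem ogT_eq_one_iff {p r : Fin n ⊕ Fin n → F} (h : OSing p r) (hi : OInd p r) {c : F} :
    ogT p r c = 1 ↔ c = 0 := by
  constructor
  · intro h1
    obtain ⟨ps, rs, h11, h12, h21, h22⟩ := exists_dual_pair hi
    have e := congrArg (fun g : ↥(ogG F n) => g.1.1 *ᵥ ps) h1
    simp only [ogT_mulVec h, og_one_mulVec, h11, h12] at e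
    have e2 : c • r = 0 := by
      have : ps + c • ((1 : F) • r - (0 : F) • p) = ps + c • r := by module
      rw [this] at e
      exact add_eq_left.mp e
    rcases smul_eq_zero.mp e2 with h0 | h0
    · exact h0
    · exact absurd h0 hi.right_ne_zero
  · rintro rfl
    exact ogT_zero p r

/-- The Siegel transvection subgroup of the line spanned by `p, r`. -/
noncomputable def ogRoot (p r : Fin n ⊕ Fin n → F) : Subgroup ↥(ogG F n) where
  carrier := {g | ∃ c : F, g = ogT p r c}
  mul_mem' := by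
    rintro _ _ ⟨c, rfl⟩ ⟨d, rfl⟩
    exact ⟨c + d, ogT_mul p r c d⟩
  one_mem' := ⟨0, (ogT_zero p r).symm⟩
  inv_mem' := by
    rintro _ ⟨c, rfl⟩
    exact ⟨-c, ogT_inv p r c⟩

theorem mem_ogRoot {p r : Fin n ⊕ Fin n → F} {g : ↥(ogG F n)} :
    g ∈ ogRoot p r ↔ ∃ c : F, g = ogT p r c := Iff.rfl

theorem ogT_mem_ogRoot (p r : Fin n ⊕ Fin n → F) (c : F) : ogT p r c ∈ ogRoot p r := ⟨c, rfl⟩

theorem ogRoot_commutative (p r : Fin n ⊕ Fin n → F) : IsMulCommutative ↥(ogRoot p r) := by
  refine ⟨⟨?_⟩⟩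
  rintro ⟨_, c, rfl⟩ ⟨_, d, rfl⟩
  apply Subtype.ext
  show ogT p r c * ogT p r d = ogT p r d * ogT p r c
  rw [ogT_mul, ogT_mul, add_comm]

theorem ogRoot_ne_bot {p r : Fin n ⊕ Fin n → F} (h : OSing p r) (hi : OInd p r) :
    ogRoot p r ≠ ⊥ := by
  intro hb
  have h1 : ogT p r 1 ∈ (⊥ : Subgroup ↥(ogG F n)) := hb ▸ ⟨1, rfl⟩
  rw [Subgroup.mem_bot, ogT_eq_one_iff h hi] at h1
  exact one_ne_zero h1

theorem conjBy_ogRoot (g : ↥(ogG F n)) {p r : Fin n ⊕ Fin n → F} (h : OSing p r) :
    Cfsg.conjBy (ogRoot p r) g = ogRoot (g.1.1 *ᵥ p) (g.1.1 *ᵥ r) := by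
  ext x
  rw [Subgroup.mem_map]
  constructor
  · rintro ⟨_, ⟨c, rfl⟩, rfl⟩
    exact ⟨c, ogT_conj g h c⟩
  · rintro ⟨c, rfl⟩
    exact ⟨ogT p r c, ⟨c, rfl⟩, ogT_conj g h c⟩

theorem ogRoot_comb {p r : Fin n ⊕ Fin n → F} (h : OSing p r) {a b c d : F}
    (hdet : a * d - b * c ≠ 0) : ogRoot (a • p + b • r) (c • p + d • r) = ogRoot p r := by
  ext g
  constructor
  · rintro ⟨e, rfl⟩
    exact ⟨_, ogT_comb h a b c d e⟩
  · rintro ⟨e, rfl⟩
    refine ⟨e / (a * d - b * c), ?_⟩
    rw [ogT_comb h, mul_div_cancel₀ _ hdet]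

theorem ogRoot_swap {p r : Fin n ⊕ Fin n → F} (h : OSing p r) : ogRoot r p = ogRoot p r := by
  have := ogRoot_comb h (a := 0) (b := 1) (c := 1) (d := 0) (by norm_num)
  simpa using this

/-- The Siegel transvection subgroup is the set of isometries fixing the orthogonal complement of
the line pointwise. -/
theorem ogRoot_eq_fix {p r : Fin n ⊕ Fin n → F} (h : OSing p r) (hi : OInd p r) :
    (ogRoot p r : Set ↥(ogG F n)) = {σ | ∀ v : Fin n ⊕ Fin n → F, polarP F n v p = 0 →
      polarP F n v r = 0 → σ.1.1 *ᵥ v = v} := by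
  ext σ
  constructor
  · rintro ⟨c, rfl⟩ v hvp hvr
    rw [ogT_mulVec h, hvp, hvr]
    module
  · intro hσ
    obtain ⟨ps, rs, h11, h12, h21, h22⟩ := exists_dual_pair hi
    have hperp : ∀ x, polarP F n (x - polarP F n x p • ps - polarP F n x r • rs) p = 0 ∧
        polarP F n (x - polarP F n x p • ps - polarP F n x r • rs) r = 0 := by
      intro x
      constructor
      · simp only [map_sub, map_smul, LinearMap.sub_apply, LinearMap.smul_apply, smul_eq_mul,
          h11, h21]
        ring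
      · simp only [map_sub, map_smul, LinearMap.sub_apply, LinearMap.smul_apply, smul_eq_mul,
          h12, h22]
        ring
    have hfix : ∀ x, σ.1.1 *ᵥ (x - polarP F n x p • ps - polarP F n x r • rs) =
        x - polarP F n x p • ps - polarP F n x r • rs := fun x => hσ _ (hperp x).1 (hperp x).2
    set u := σ.1.1 *ᵥ ps - ps with hu
    set w := σ.1.1 *ᵥ rs - rs with hw
    have hform : ∀ x, σ.1.1 *ᵥ x = x + polarP F n x p • u + polarP F n x r • w := by
      intro x
      have := hfix x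
      rw [Matrix.mulVec_sub, Matrix.mulVec_sub, Matrix.mulVec_smul, Matrix.mulVec_smul] at this
      rw [hu, hw]
      have e : σ.1.1 *ᵥ x = (σ.1.1 *ᵥ x - polarP F n x p • σ.1.1 *ᵥ ps -
          polarP F n x r • σ.1.1 *ᵥ rs) + polarP F n x p • σ.1.1 *ᵥ ps +
          polarP F n x r • σ.1.1 *ᵥ rs := by module
      rw [e, this]
      module
    have hspan : ∀ z, (∀ y, polarP F n y p = 0 → polarP F n y r = 0 → polarP F n z y = 0) →
        z = polarP F n z ps • p + polarP F n z rs • r := by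
      intro z hz
      rw [← sub_eq_zero]
      apply ob_eq_zero
      intro y
      have := hz _ (hperp y).1 (hperp y).2
      simp only [map_sub, map_smul, map_add, LinearMap.sub_apply, LinearMap.smul_apply,
        LinearMap.add_apply, smul_eq_mul] at this ⊢
      rw [ob_comm p y, ob_comm r y]
      linear_combination this
    have hu' : ∀ y, polarP F n y p = 0 → polarP F n y r = 0 → polarP F n u y = 0 := by
      intro y hyp hyr
      have hy := hσ y hyp hyr
      rw [hu, map_sub, LinearMap.sub_apply]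
      nth_rewrite 1 [← hy]
      rw [og_form, sub_self]
    have hw' : ∀ y, polarP F n y p = 0 → polarP F n y r = 0 → polarP F n w y = 0 := by
      intro y hyp hyr
      have hy := hσ y hyp hyr
      rw [hw, map_sub, LinearMap.sub_apply]
      nth_rewrite 1 [← hy]
      rw [og_form, sub_self]
    have eu := hspan u hu'
    have ew := hspan w hw'
    set a₁ := polarP F n u ps
    set a₂ := polarP F n u rs
    set b₁ := polarP F n w ps
    set b₂ := polarP F n w rs
    have q1 : Cfsg.quadFormPlus n F (σ.1.1 *ᵥ ps) = Cfsg.quadFormPlus n F ps := og_quad σ ps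
    have q2 : Cfsg.quadFormPlus n F (σ.1.1 *ᵥ rs) = Cfsg.quadFormPlus n F rs := og_quad σ rs
    have q3 : Cfsg.quadFormPlus n F (σ.1.1 *ᵥ (ps + rs)) = Cfsg.quadFormPlus n F (ps + rs) :=
      og_quad σ (ps + rs)
    have hs1 : σ.1.1 *ᵥ ps = ps + (a₁ • p + a₂ • r) := by
      rw [← eu, hu]
      module
    have hs2 : σ.1.1 *ᵥ rs = rs + (b₁ • p + b₂ • r) := by
      rw [← ew, hw]
      module
    have ha1 : a₁ = 0 := by
      rw [hs1, quadP_add, quadP_comb2, h.1, h.2.1, h.2.2] at q1
      simp only [map_add, map_smul, smul_eq_mul, h11, h12] at q1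
      linear_combination q1
    have hb2 : b₂ = 0 := by
      rw [hs2, quadP_add, quadP_comb2, h.1, h.2.1, h.2.2] at q2
      simp only [map_add, map_smul, smul_eq_mul, h21, h22] at q2
      linear_combination q2
    have hab : a₂ + b₁ = 0 := by
      have e3 : σ.1.1 *ᵥ (ps + rs) = (ps + rs) + ((a₁ + b₁) • p + (a₂ + b₂) • r) := by
        rw [Matrix.mulVec_add, hs1, hs2]
        module
      rw [e3, quadP_add, quadP_comb2, h.1, h.2.1, h.2.2] at q3
      simp only [map_add, map_smul, LinearMap.add_apply, smul_eq_mul, h11, h12, h21, h22] at q3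
      rw [ha1, hb2] at q3
      linear_combination q3
    refine ⟨a₂, ?_⟩
    apply og_ext
    intro x
    rw [hform, ogT_mulVec h, eu, ew, ha1, hb2]
    have : b₁ = -a₂ := by linear_combination hab
    rw [this]
    module

theorem ogT_comm {p r p' r' : Fin n ⊕ Fin n → F} (h : OSing p r) (h' : OSing p' r')
    (h11 : polarP F n p p' = 0) (h12 : polarP F n p r' = 0) (h21 : polarP F n r p' = 0)
    (h22 : polarP F n r r' = 0) (c d : F) :
    ogT p r c * ogT p' r' d = ogT p' r' d * ogT p r c := by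
  have k11 : polarP F n p' p = 0 := by rw [ob_comm, h11]
  have k12 : polarP F n r' p = 0 := by rw [ob_comm, h12]
  have k21 : polarP F n p' r = 0 := by rw [ob_comm, h21]
  have k22 : polarP F n r' r = 0 := by rw [ob_comm, h22]
  apply og_ext
  intro x
  rw [og_mul_mulVec, og_mul_mulVec, ogT_mulVec h, ogT_mulVec h', ogT_mulVec h, ogT_mulVec h']
  simp only [map_add, map_smul, map_sub, LinearMap.add_apply, LinearMap.smul_apply,
    LinearMap.sub_apply, smul_eq_mul, h11, h12, h21, h22, k11, k12, k21, k22]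
  module

theorem ogRoot_commute {p r p' r' : Fin n ⊕ Fin n → F} (h : OSing p r) (h' : OSing p' r')
    (h11 : polarP F n p p' = 0) (h12 : polarP F n p r' = 0) (h21 : polarP F n r p' = 0)
    (h22 : polarP F n r r' = 0) : ⁅ogRoot p r, ogRoot p' r'⁆ = ⊥ := by
  rw [Subgroup.commutator_eq_bot_iff_le_centralizer]
  rintro _ ⟨c, rfl⟩
  rw [Subgroup.mem_centralizer_iff]
  rintro _ ⟨d, rfl⟩
  exact (ogT_comm h h' h11 h12 h21 h22 c d).symm

/-- The basic commutator relation between Siegel transformations. -/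
theorem ogT_mul_eq {a b a' b' : Fin n ⊕ Fin n → F} (h : OSing a b) (h' : OSing a' b')
    (h11 : polarP F n a a' = 0) (h12 : polarP F n a b' = 0) (h21 : polarP F n b a' = 0)
    (s t : F) :
    ogT a b s * ogT a' b' t =
      ogT a a' (s * t * polarP F n b b') * (ogT a' b' t * ogT a b s) := by
  have k11 : polarP F n a' a = 0 := by rw [ob_comm, h11]
  have k12 : polarP F n b' a = 0 := by rw [ob_comm, h12]
  have k21 : polarP F n a' b = 0 := by rw [ob_comm, h21]
  have k22 : polarP F n b' b = polarP F n b b' := ob_comm _ _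
  have haa' : OSing a a' := ⟨h.1, h'.1, h11⟩
  apply og_ext
  intro x
  rw [og_mul_mulVec, og_mul_mulVec, og_mul_mulVec, ogT_mulVec h, ogT_mulVec h', ogT_mulVec haa',
    ogT_mulVec h', ogT_mulVec h]
  simp only [map_add, map_smul, map_sub, LinearMap.add_apply, LinearMap.smul_apply,
    LinearMap.sub_apply, smul_eq_mul, h11, h12, h21, k11, k12, k21, k22, h.self_left,
    h.self_right, h.swap, h.2.2, h'.self_left, h'.self_right, h'.swap, h'.2.2]
  module

theorem ogT_commutator {a b a' b' : Fin n ⊕ Fin n → F} (h : OSing a b) (h' : OSing a' b')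
    (h11 : polarP F n a a' = 0) (h12 : polarP F n a b' = 0) (h21 : polarP F n b a' = 0)
    (s t : F) :
    ogT a b s * ogT a' b' t * (ogT a b s)⁻¹ * (ogT a' b' t)⁻¹ =
      ogT a a' (s * t * polarP F n b b') := by
  rw [ogT_mul_eq h h' h11 h12 h21]
  group

/-- A Siegel transformation attached to a dependent pair is trivial. -/
theorem ogT_of_dep {a a' : Fin n ⊕ Fin n → F} (hd : ¬ OInd a a') (c : F) : ogT a a' c = 1 := by
  by_cases h : OSing a a'
  · unfold OInd at hd
    push Not at hd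
    obtain ⟨s, t, hst, hne⟩ := hd
    apply og_ext
    intro x
    rw [ogT_mulVec h, og_one_mulVec]
    have hw : ∀ u : F, (u = s ∨ u = t) →
        u • (polarP F n x a • a' - polarP F n x a' • a) = 0 := by
      rintro u (rfl | rfl)
      · have e : u • a = -(t • a') := eq_neg_of_add_eq_zero_left hst
        have e1 : u • (polarP F n x a • a' - polarP F n x a' • a) =
            polarP F n x (u • a) • a' - polarP F n x a' • (u • a) := by
          rw [map_smul, smul_eq_mul]
          module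
        rw [e1, e, map_neg, map_smul, smul_eq_mul]
        module
      · have e : u • a' = -(s • a) := eq_neg_of_add_eq_zero_right hst
        have e1 : u • (polarP F n x a • a' - polarP F n x a' • a) =
            polarP F n x a • (u • a') - polarP F n x (u • a') • a := by
          rw [map_smul, smul_eq_mul]
          module
        rw [e1, e, map_neg, map_smul, smul_eq_mul]
        module
    have hz : polarP F n x a • a' - polarP F n x a' • a = 0 := by
      by_cases hs : s = 0
      · have ht : t ≠ 0 := hne hs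
        exact (smul_eq_zero.mp (hw t (Or.inr rfl))).resolve_left ht
      · exact (smul_eq_zero.mp (hw s (Or.inl rfl))).resolve_left hs
    rw [hz, smul_zero, add_zero]
  · exact ogT_of_not h c

/-- The commutator case for two subgroups parametrised by a field, with commutators landing
in a third parametrised subgroup. -/
theorem commutatorCase_of_param {G : Type*} [Group G] {k : Type*} [Field k]
    {S : Set (Subgroup G)} {A B C : Subgroup G} (α β γ : k → G)
    (hA : ∀ g, g ∈ A ↔ ∃ s, g = α s) (hB : ∀ g, g ∈ B ↔ ∃ t, g = β t)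
    (hC : ∀ g, g ∈ C ↔ ∃ c, g = γ c) (hα0 : α 0 = 1) (hβ0 : β 0 = 1) {μ : k} (hμ : μ ≠ 0)
    (hcomm : ∀ s t, α s * β t * (α s)⁻¹ * (β t)⁻¹ = γ (s * t * μ))
    (hγα : ∀ c s, γ c * α s = α s * γ c) (hγβ : ∀ c t, γ c * β t = β t * γ c) (hCS : C ∈ S) :
    Cfsg.RootCommutatorCase S A B := by
  have hcommAB : ⁅A, B⁆ = C := by
    apply le_antisymm
    · rw [Subgroup.commutator_le]
      intro a ha b hb
      obtain ⟨s, rfl⟩ := (hA a).mp ha
      obtain ⟨t, rfl⟩ := (hB b).mp hb
      rw [commutatorElement_def, hcomm]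
      exact (hC _).mpr ⟨_, rfl⟩
    · intro g hg
      obtain ⟨e, rfl⟩ := (hC g).mp hg
      have : γ e = ⁅α 1, β (e / μ)⁆ := by
        rw [commutatorElement_def, hcomm]
        congr 1
        field_simp
      rw [this]
      exact Subgroup.commutator_mem_commutator ((hA _).mpr ⟨_, rfl⟩) ((hB _).mpr ⟨_, rfl⟩)
  refine ⟨hcommAB ▸ hCS, ?_, ?_, ?_⟩
  · rw [hcommAB]
    intro c hc x hx
    obtain ⟨e, rfl⟩ := (hC c).mp hc
    have hle : A ⊔ B ≤ Subgroup.centralizer {γ e} := by
      rw [sup_le_iff]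
      constructor
      · intro a ha
        obtain ⟨s, rfl⟩ := (hA a).mp ha
        rw [Subgroup.mem_centralizer_singleton_iff]
        exact (hγα e s).symm
      · intro b hb
        obtain ⟨t, rfl⟩ := (hB b).mp hb
        rw [Subgroup.mem_centralizer_singleton_iff]
        exact (hγβ e t).symm
    have := hle hx
    rw [Subgroup.mem_centralizer_singleton_iff] at this
    exact this.symm
  · intro a ha ha1
    obtain ⟨s, rfl⟩ := (hA a).mp ha
    have hs0 : s ≠ 0 := by
      rintro rfl
      exact ha1 hα0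
    rw [hcommAB]
    have : (fun b : G => α s * b * (α s)⁻¹ * b⁻¹) '' (B : Set G) = (C : Set G) := by
      ext z
      constructor
      · rintro ⟨b, hb, rfl⟩
        obtain ⟨t, rfl⟩ := (hB b).mp hb
        show α s * β t * (α s)⁻¹ * (β t)⁻¹ ∈ C
        rw [hcomm]
        exact (hC _).mpr ⟨_, rfl⟩
      · intro hz
        obtain ⟨e, rfl⟩ := (hC z).mp hz
        refine ⟨β (e / (s * μ)), (hB _).mpr ⟨_, rfl⟩, ?_⟩
        show α s * β _ * (α s)⁻¹ * (β _)⁻¹ = _
        rw [hcomm]
        congr 1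
        field_simp
    rw [this, Subgroup.closure_eq]
  · intro b hb hb1
    obtain ⟨t, rfl⟩ := (hB b).mp hb
    have ht0 : t ≠ 0 := by
      rintro rfl
      exact hb1 hβ0
    rw [hcommAB]
    have : (fun a : G => a * β t * a⁻¹ * (β t)⁻¹) '' (A : Set G) = (C : Set G) := by
      ext z
      constructor
      · rintro ⟨a, ha, rfl⟩
        obtain ⟨s, rfl⟩ := (hA a).mp ha
        show α s * β t * (α s)⁻¹ * (β t)⁻¹ ∈ C
        rw [hcomm]
        exact (hC _).mpr ⟨_, rfl⟩
      · intro hz
        obtain ⟨e, rfl⟩ := (hC z).mp hz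
        refine ⟨α (e / (t * μ)), (hA _).mpr ⟨_, rfl⟩, ?_⟩
        show α _ * β t * (α _)⁻¹ * (β t)⁻¹ = _
        rw [hcomm]
        congr 1
        field_simp
    rw [this, Subgroup.closure_eq]

/-- The matrix acting as `M ∈ SL₂` on the planes spanned by `p, r'` and by `r, p'`, and
trivially on the orthogonal complement of `p, r, p', r'`. -/
def ogRhoMat (p r p' r' : Fin n ⊕ Fin n → F) (M : Matrix.SpecialLinearGroup (Fin 2) F) :
    Matrix (Fin n ⊕ Fin n) (Fin n ⊕ Fin n) F :=
  1 + (Matrix.vecMulVec ((M.1 0 0 - 1) • p - M.1 1 0 • r') (swapS F n *ᵥ p')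
    + Matrix.vecMulVec (M.1 0 1 • r + (M.1 1 1 - 1) • p') (swapS F n *ᵥ p)
    + Matrix.vecMulVec ((M.1 0 0 - 1) • r + M.1 1 0 • p') (swapS F n *ᵥ r')
    + Matrix.vecMulVec (-(M.1 0 1) • p + (M.1 1 1 - 1) • r') (swapS F n *ᵥ r))

theorem ogRhoMat_mulVec (p r p' r' : Fin n ⊕ Fin n → F) (M : Matrix.SpecialLinearGroup (Fin 2) F)
    (x : Fin n ⊕ Fin n → F) :
    ogRhoMat p r p' r' M *ᵥ x = x + polarP F n x p' • ((M.1 0 0 - 1) • p - M.1 1 0 • r')
      + polarP F n x p • (M.1 0 1 • r + (M.1 1 1 - 1) • p')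
      + polarP F n x r' • ((M.1 0 0 - 1) • r + M.1 1 0 • p')
      + polarP F n x r • (-(M.1 0 1) • p + (M.1 1 1 - 1) • r') := by
  unfold ogRhoMat
  rw [Matrix.add_mulVec, Matrix.add_mulVec, Matrix.add_mulVec, Matrix.add_mulVec,
    Matrix.one_mulVec, Matrix.vecMulVec_mulVec, Matrix.vecMulVec_mulVec, Matrix.vecMulVec_mulVec,
    Matrix.vecMulVec_mulVec, op_smul_eq_smul, op_smul_eq_smul, op_smul_eq_smul, op_smul_eq_smul,
    ob_dot, ob_dot, ob_dot, ob_dot]
  module

theorem ogRhoMat_one (p r p' r' : Fin n ⊕ Fin n → F) : ogRhoMat p r p' r' 1 = 1 := by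
  apply Matrix.mulVec_injective
  funext x
  rw [ogRhoMat_mulVec, Matrix.one_mulVec]
  simp

section Rho

variable {p r p' r' : Fin n ⊕ Fin n → F} (h : OSing p r) (h' : OSing p' r')
  (h11 : polarP F n p p' = 1) (h12 : polarP F n p r' = 0) (h21 : polarP F n r p' = 0)
  (h22 : polarP F n r r' = 1)
include h h' h11 h12 h21 h22

theorem ogRhoMat_p (M : Matrix.SpecialLinearGroup (Fin 2) F) :
    ogRhoMat p r p' r' M *ᵥ p = M.1 0 0 • p - M.1 1 0 • r' := by
  rw [ogRhoMat_mulVec, h11, h12, h.self_left, h.2.2]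
  module

theorem ogRhoMat_r (M : Matrix.SpecialLinearGroup (Fin 2) F) :
    ogRhoMat p r p' r' M *ᵥ r = M.1 0 0 • r + M.1 1 0 • p' := by
  rw [ogRhoMat_mulVec, h21, h22, h.self_right, h.swap]
  module

theorem ogRhoMat_p' (M : Matrix.SpecialLinearGroup (Fin 2) F) :
    ogRhoMat p r p' r' M *ᵥ p' = M.1 0 1 • r + M.1 1 1 • p' := by
  rw [ogRhoMat_mulVec, ob_comm p' p, h11, ob_comm p' r, h21, h'.self_left, h'.2.2]
  module

theorem ogRhoMat_r' (M : Matrix.SpecialLinearGroup (Fin 2) F) :
    ogRhoMat p r p' r' M *ᵥ r' = -(M.1 0 1) • p + M.1 1 1 • r' := by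
  rw [ogRhoMat_mulVec, ob_comm r' p, h12, ob_comm r' r, h22, h'.self_right, h'.swap]
  module

theorem ogRhoMat_mul (M N : Matrix.SpecialLinearGroup (Fin 2) F) :
    ogRhoMat p r p' r' (M * N) = ogRhoMat p r p' r' M * ogRhoMat p r p' r' N := by
  apply Matrix.mulVec_injective
  funext x
  rw [← Matrix.mulVec_mulVec, ogRhoMat_mulVec p r p' r' N]
  simp only [Matrix.mulVec_add, Matrix.mulVec_smul, Matrix.mulVec_sub, Matrix.mulVec_neg,
    ogRhoMat_p h h' h11 h12 h21 h22, ogRhoMat_r h h' h11 h12 h21 h22,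
    ogRhoMat_p' h h' h11 h12 h21 h22, ogRhoMat_r' h h' h11 h12 h21 h22]
  rw [ogRhoMat_mulVec, ogRhoMat_mulVec]
  simp only [Matrix.SpecialLinearGroup.coe_mul, Matrix.mul_apply, Fin.sum_univ_two]
  module

theorem ogRhoMat_U (t : F) : ogRhoMat p r p' r' (Cfsg.Agent.S5016.U t) = ogMat p r t := by
  apply Matrix.mulVec_injective
  funext x
  rw [ogRhoMat_mulVec, ogMat_mulVec]
  simp only [Cfsg.Agent.S5016.U_coe, Matrix.of_apply, Matrix.cons_val', Matrix.cons_val_zero,
    Matrix.cons_val_one, Matrix.cons_val_fin_one]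
  module

theorem ogRhoMat_L (t : F) : ogRhoMat p r p' r' (Cfsg.Agent.S5016.L t) = ogMat p' r' (-t) := by
  apply Matrix.mulVec_injective
  funext x
  rw [ogRhoMat_mulVec, ogMat_mulVec]
  simp only [Cfsg.Agent.S5016.L_coe, Matrix.of_apply, Matrix.cons_val', Matrix.cons_val_zero,
    Matrix.cons_val_one, Matrix.cons_val_fin_one]
  module

/-- The monoid homomorphism `SL₂(F) → Matrix`. -/
def ogRhoHom : Matrix.SpecialLinearGroup (Fin 2) F →* Matrix (Fin n ⊕ Fin n) (Fin n ⊕ Fin n) F where
  toFun := ogRhoMat p r p' r'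
  map_one' := ogRhoMat_one p r p' r'
  map_mul' := ogRhoMat_mul h h' h11 h12 h21 h22

theorem ogRhoHom_mem (M : Matrix.SpecialLinearGroup (Fin 2) F) :
    (ogRhoHom h h' h11 h12 h21 h22).toHomUnits M ∈ ogG F n := by
  have htop : (ogG F n).comap (ogRhoHom h h' h11 h12 h21 h22).toHomUnits = ⊤ := by
    rw [eq_top_iff, ← Cfsg.Agent.S5016.sup_eq_top F, sup_le_iff]
    constructor
    · intro M hM
      obtain ⟨t, rfl⟩ := Cfsg.Agent.S5016.mem_lower_iff.mp hM
      rw [Subgroup.mem_comap]
      have : (ogRhoHom h h' h11 h12 h21 h22).toHomUnits (Cfsg.Agent.S5016.L t) =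
          (ogOf p' r' h' (-t)).1 := by
        apply Units.ext
        rw [MonoidHom.coe_toHomUnits]
        exact ogRhoMat_L h h' h11 h12 h21 h22 t
      rw [this]
      exact (ogOf p' r' h' (-t)).2
    · intro M hM
      obtain ⟨t, rfl⟩ := Cfsg.Agent.S5016.mem_upper_iff.mp hM
      rw [Subgroup.mem_comap]
      have : (ogRhoHom h h' h11 h12 h21 h22).toHomUnits (Cfsg.Agent.S5016.U t) =
          (ogOf p r h t).1 := by
        apply Units.ext
        rw [MonoidHom.coe_toHomUnits]
        exact ogRhoMat_U h h' h11 h12 h21 h22 t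
      rw [this]
      exact (ogOf p r h t).2
  have : M ∈ (ogG F n).comap (ogRhoHom h h' h11 h12 h21 h22).toHomUnits := by
    rw [htop]
    exact Subgroup.mem_top M
  exact this

/-- The homomorphism `SL₂(F) → O(Q)` attached to two opposite singular lines with dual bases. -/
def ogRho : Matrix.SpecialLinearGroup (Fin 2) F →* ↥(ogG F n) :=
  ((ogRhoHom h h' h11 h12 h21 h22).toHomUnits).codRestrict (ogG F n)
    (ogRhoHom_mem h h' h11 h12 h21 h22)

theorem ogRho_coe (M : Matrix.SpecialLinearGroup (Fin 2) F) :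
    (ogRho h h' h11 h12 h21 h22 M).1.1 = ogRhoMat p r p' r' M := rfl

theorem ogRho_injective : Function.Injective (ogRho h h' h11 h12 h21 h22) := by
  rw [injective_iff_map_eq_one]
  intro M hM
  have e1 := congrArg (fun g : ↥(ogG F n) => g.1.1 *ᵥ p) hM
  have e2 := congrArg (fun g : ↥(ogG F n) => g.1.1 *ᵥ p') hM
  simp only [ogRho_coe, ogRhoMat_p h h' h11 h12 h21 h22, ogRhoMat_p' h h' h11 h12 h21 h22,
    og_one_mulVec] at e1 e2
  have a1 := congrArg (fun y => polarP F n y p') e1
  have a2 := congrArg (fun y => polarP F n y r) e1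
  have a3 := congrArg (fun y => polarP F n y r') e2
  have a4 := congrArg (fun y => polarP F n y p) e2
  simp only [map_add, map_sub, map_smul, LinearMap.add_apply, LinearMap.sub_apply,
    LinearMap.smul_apply, smul_eq_mul, h11, h12, h21, h22, h.self_left, h.self_right, h.2.2,
    h.swap, h'.self_left, h'.self_right, h'.2.2, h'.swap, ob_comm r' r, ob_comm p' p,
    ob_comm r' p, ob_comm p' r] at a1 a2 a3 a4
  ext i j
  fin_cases i <;> fin_cases j
  · simpa using a1
  · simpa using a3
  · simpa using a2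
  · simpa using a4

theorem ogRho_U (t : F) : ogRho h h' h11 h12 h21 h22 (Cfsg.Agent.S5016.U t) = ogT p r t := by
  apply og_ext
  intro x
  rw [ogRho_coe, ogRhoMat_U h h' h11 h12 h21 h22, ogMat_mulVec, ogT_mulVec h]

theorem ogRho_L (t : F) : ogRho h h' h11 h12 h21 h22 (Cfsg.Agent.S5016.L t) = ogT p' r' (-t) := by
  apply og_ext
  intro x
  rw [ogRho_coe, ogRhoMat_L h h' h11 h12 h21 h22, ogMat_mulVec, ogT_mulVec h']

theorem ogRho_map_upper :
    (Cfsg.upperUnipotentSL2 F).map (ogRho h h' h11 h12 h21 h22) = ogRoot p r := by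
  ext g
  rw [Subgroup.mem_map]
  constructor
  · rintro ⟨M, hM, rfl⟩
    obtain ⟨t, rfl⟩ := Cfsg.Agent.S5016.mem_upper_iff.mp hM
    exact ⟨t, ogRho_U h h' h11 h12 h21 h22 t⟩
  · rintro ⟨c, rfl⟩
    exact ⟨Cfsg.Agent.S5016.U c, Cfsg.Agent.S5016.mem_upper_iff.mpr ⟨_, rfl⟩,
      ogRho_U h h' h11 h12 h21 h22 c⟩

theorem ogRho_map_lower :
    (Cfsg.lowerUnipotentSL2 F).map (ogRho h h' h11 h12 h21 h22) = ogRoot p' r' := by
  ext g
  rw [Subgroup.mem_map]
  constructor
  · rintro ⟨M, hM, rfl⟩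
    obtain ⟨t, rfl⟩ := Cfsg.Agent.S5016.mem_lower_iff.mp hM
    exact ⟨-t, ogRho_L h h' h11 h12 h21 h22 t⟩
  · rintro ⟨c, rfl⟩
    refine ⟨Cfsg.Agent.S5016.L (-c), Cfsg.Agent.S5016.mem_lower_iff.mpr ⟨_, rfl⟩, ?_⟩
    rw [ogRho_L h h' h11 h12 h21 h22, neg_neg]

theorem ogRho_range :
    (ogRho h h' h11 h12 h21 h22).range = ogRoot p r ⊔ ogRoot p' r' := by
  rw [MonoidHom.range_eq_map, ← Cfsg.Agent.S5016.sup_eq_top F, Subgroup.map_sup,
    ogRho_map_upper, ogRho_map_lower, sup_comm]

theorem ogRho_psl2 : Cfsg.IsPSL2PairOver F (ogRoot p r) (ogRoot p' r') := by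
  refine ⟨ogRho h h' h11 h12 h21 h22, ogRho_range h h' h11 h12 h21 h22, ?_,
    ogRho_map_upper h h' h11 h12 h21 h22, ogRho_map_lower h h' h11 h12 h21 h22⟩
  rw [(MonoidHom.ker_eq_bot_iff _).mpr (ogRho_injective h h' h11 h12 h21 h22)]
  exact bot_le

theorem ogRho_rankOne : Cfsg.IsRankOnePair (ogRoot p r) (ogRoot p' r') := by
  have := rankOnePair_map (ogRho h h' h11 h12 h21 h22) (ogRho_injective h h' h11 h12 h21 h22)
    (Cfsg.Agent.S5016.pair F)
  rw [ogRho_map_upper, ogRho_map_lower] at this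
  exact Cfsg.RankOnePair_symm this

end Rho

/-- Opposite singular lines give rank one pairs generating an image of `SL₂(F)`. -/
theorem ogRoot_rankOne {p r p' r' : Fin n ⊕ Fin n → F} (h : OSing p r) (h' : OSing p' r')
    (hdet : polarP F n p p' * polarP F n r r' - polarP F n p r' * polarP F n r p' ≠ 0) :
    Cfsg.IsRankOnePair (ogRoot p r) (ogRoot p' r') ∧
      Cfsg.IsPSL2PairOver F (ogRoot p r) (ogRoot p' r') := by
  set m11 := polarP F n p p' with hm11
  set m12 := polarP F n p r' with hm12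
  set m21 := polarP F n r p' with hm21
  set m22 := polarP F n r r' with hm22
  set D := m11 * m22 - m12 * m21 with hD
  have hs : OSing ((m22 / D) • p' + (-m21 / D) • r') ((-m12 / D) • p' + (m11 / D) • r') :=
    h'.comb _ _ _ _
  have hdet' : (m22 / D) * (m11 / D) - (-m21 / D) * (-m12 / D) ≠ 0 := by
    have : (m22 / D) * (m11 / D) - (-m21 / D) * (-m12 / D) = 1 / D := by
      field_simp
      rw [hD]
      ring
    rw [this]
    exact one_div_ne_zero hdet
  have hq := ogRoot_comb h' hdet'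
  have g11 : polarP F n p ((m22 / D) • p' + (-m21 / D) • r') = 1 := by
    simp only [map_add, map_smul, smul_eq_mul, ← hm11, ← hm12]
    field_simp
    rw [hD]
    ring
  have g12 : polarP F n p ((-m12 / D) • p' + (m11 / D) • r') = 0 := by
    simp only [map_add, map_smul, smul_eq_mul, ← hm11, ← hm12]
    field_simp
    ring
  have g21 : polarP F n r ((m22 / D) • p' + (-m21 / D) • r') = 0 := by
    simp only [map_add, map_smul, smul_eq_mul, ← hm21, ← hm22]
    field_simp
    ring
  have g22 : polarP F n r ((-m12 / D) • p' + (m11 / D) • r') = 1 := by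
    simp only [map_add, map_smul, smul_eq_mul, ← hm21, ← hm22]
    field_simp
    rw [hD]
    ring
  rw [← hq]
  exact ⟨ogRho_rankOne h hs g11 g12 g21 g22, ogRho_psl2 h hs g11 g12 g21 g22⟩

/-- The case of a Gram matrix of rank one, normalised so that the last entry is non-zero. -/
theorem ogRoot_rank1_aux {p r p' r' : Fin n ⊕ Fin n → F} (h : OSing p r) (h' : OSing p' r')
    (hdet : polarP F n p p' * polarP F n r r' - polarP F n p r' * polarP F n r p' = 0)
    (h22 : polarP F n r r' ≠ 0) {S : Set (Subgroup ↥(ogG F n))}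
    (hS : ∀ a a' : Fin n ⊕ Fin n → F, OInd a a' → OSing a a' → ogRoot a a' ∈ S) :
    ⁅ogRoot p r, ogRoot p' r'⁆ = ⊥ ∨ Cfsg.RootCommutatorCase S (ogRoot p r) (ogRoot p' r') := by
  set m11 := polarP F n p p' with hm11
  set m12 := polarP F n p r' with hm12
  set m21 := polarP F n r p' with hm21
  set m22 := polarP F n r r' with hm22
  set a := (1 : F) • p + (-m12 / m22) • r with ha
  set b := (0 : F) • p + (1 : F) • r with hb
  set a' := (1 : F) • p' + (-m21 / m22) • r' with ha'
  set b' := (0 : F) • p' + (1 : F) • r' with hb'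
  have hab : OSing a b := h.comb _ _ _ _
  have hab' : OSing a' b' := h'.comb _ _ _ _
  have e1 : ogRoot a b = ogRoot p r := ogRoot_comb h (by norm_num)
  have e2 : ogRoot a' b' = ogRoot p' r' := ogRoot_comb h' (by norm_num)
  have k12 : polarP F n r' p = m12 := ob_comm _ _
  have k21 : polarP F n p' r = m21 := ob_comm _ _
  have g11 : polarP F n a a' = 0 := by
    simp only [ha, ha', map_add, map_smul, LinearMap.add_apply, LinearMap.smul_apply, smul_eq_mul,
      ← hm11, ← hm12, ← hm21, ← hm22]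
    field_simp
    linear_combination hdet
  have g12 : polarP F n a b' = 0 := by
    simp only [ha, hb', map_add, map_smul, LinearMap.add_apply, LinearMap.smul_apply, smul_eq_mul,
      ← hm11, ← hm12, ← hm21, ← hm22]
    field_simp
    ring
  have g21 : polarP F n b a' = 0 := by
    simp only [hb, ha', map_add, map_smul, LinearMap.add_apply, LinearMap.smul_apply, smul_eq_mul,
      ← hm11, ← hm12, ← hm21, ← hm22]
    field_simp
    ring
  have g22 : polarP F n b b' = m22 := by
    simp only [hb, hb', map_add, map_smul, LinearMap.add_apply, LinearMap.smul_apply, smul_eq_mul,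
      ← hm11, ← hm12, ← hm21, ← hm22]
    ring
  have haa' : OSing a a' := ⟨hab.1, hab'.1, g11⟩
  rw [← e1, ← e2]
  by_cases hind : OInd a a'
  · right
    refine commutatorCase_of_param (C := ogRoot a a') (ogT a b) (ogT a' b') (ogT a a')
      (fun g => Iff.rfl) (fun g => Iff.rfl) (fun g => Iff.rfl) (ogT_zero a b) (ogT_zero a' b')
      h22 ?_ ?_ ?_ (hS a a' hind haa')
    · intro s t
      rw [ogT_commutator hab hab' g11 g12 g21, g22]
    · intro c s
      exact ogT_comm haa' hab hab.self_left hab.2.2 (by rw [ob_comm, g11]) (by rw [ob_comm, g21]) c s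
    · intro c t
      exact ogT_comm haa' hab' g11 g12 hab'.self_left hab'.2.2 c t
  · left
    rw [Subgroup.commutator_eq_bot_iff_le_centralizer]
    rintro _ ⟨s, rfl⟩
    rw [Subgroup.mem_centralizer_iff]
    rintro _ ⟨t, rfl⟩
    rw [ogT_mul_eq hab hab' g11 g12 g21, ogT_of_dep hind, one_mul]

/-- The set of all Siegel transvection subgroups. -/
def ogSigma (F : Type*) [Field F] (n : ℕ) : Set (Subgroup ↥(ogG F n)) :=
  {A | ∃ p r : Fin n ⊕ Fin n → F, OInd p r ∧ OSing p r ∧ A = ogRoot p r}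

theorem ogRoot_mem_ogSigma {p r : Fin n ⊕ Fin n → F} (hi : OInd p r) (h : OSing p r) :
    ogRoot p r ∈ ogSigma F n := ⟨p, r, hi, h, rfl⟩

/-- The trichotomy for two Siegel transvection subgroups. -/
theorem ogSigma_pair {A B : Subgroup ↥(ogG F n)} (hA : A ∈ ogSigma F n) (hB : B ∈ ogSigma F n) :
    ⁅A, B⁆ = ⊥ ∨ (Cfsg.IsRankOnePair A B ∧ Cfsg.IsPSL2PairOver F A B) ∨
      Cfsg.RootCommutatorCase (ogSigma F n) A B := by
  obtain ⟨p, r, hi, h, rfl⟩ := hA
  obtain ⟨p', r', hi', h', rfl⟩ := hB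
  have hS : ∀ a a' : Fin n ⊕ Fin n → F, OInd a a' → OSing a a' → ogRoot a a' ∈ ogSigma F n :=
    fun a a' hia ha => ogRoot_mem_ogSigma hia ha
  by_cases hdet : polarP F n p p' * polarP F n r r' - polarP F n p r' * polarP F n r p' = 0
  · have conv : ∀ {X Y : Subgroup ↥(ogG F n)},
        (⁅X, Y⁆ = ⊥ ∨ Cfsg.RootCommutatorCase (ogSigma F n) X Y) →
        (⁅X, Y⁆ = ⊥ ∨ (Cfsg.IsRankOnePair X Y ∧ Cfsg.IsPSL2PairOver F X Y) ∨
          Cfsg.RootCommutatorCase (ogSigma F n) X Y) := by
      rintro X Y (hh | hh)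
      · exact Or.inl hh
      · exact Or.inr (Or.inr hh)
    by_cases h22 : polarP F n r r' = 0
    · by_cases h21 : polarP F n r p' = 0
      · by_cases h12 : polarP F n p r' = 0
        · by_cases h11 : polarP F n p p' = 0
          · exact Or.inl (ogRoot_commute h h' h11 h12 h21 h22)
          · have := ogRoot_rank1_aux h.symm h'.symm (by linear_combination hdet) h11 hS
            rw [ogRoot_swap h, ogRoot_swap h'] at this
            exact conv this
        · have := ogRoot_rank1_aux h.symm h' (by linear_combination -hdet) h12 hS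
          rw [ogRoot_swap h] at this
          exact conv this
      · have := ogRoot_rank1_aux h h'.symm (by linear_combination -hdet) h21 hS
        rw [ogRoot_swap h'] at this
        exact conv this
    · exact conv (ogRoot_rank1_aux h h' hdet h22 hS)
  · exact Or.inr (Or.inl (ogRoot_rankOne h h' hdet))

/-- The subgroup generated by the Siegel transvection subgroups. -/
noncomputable def ogK (F : Type*) [Field F] (n : ℕ) : Subgroup ↥(ogG F n) :=
  ⨆ B ∈ ogSigma F n, B

/-- The Siegel transvection subgroups as subgroups of the group they generate. -/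
noncomputable def ogSigmaK (F : Type*) [Field F] (n : ℕ) : Set (Subgroup ↥(ogK F n)) :=
  (fun A : Subgroup ↥(ogG F n) => A.subgroupOf (ogK F n)) '' ogSigma F n

theorem ogSigma_le {A : Subgroup ↥(ogG F n)} (hA : A ∈ ogSigma F n) : A ≤ ogK F n :=
  le_iSup₂_of_le A hA le_rfl

theorem ogSigma_conj {A : Subgroup ↥(ogG F n)} (hA : A ∈ ogSigma F n) (g : ↥(ogG F n)) :
    Cfsg.conjBy A g ∈ ogSigma F n := by
  obtain ⟨p, r, hi, h, rfl⟩ := hA
  exact ⟨g.1.1 *ᵥ p, g.1.1 *ᵥ r, hi.map g, h.map g, conjBy_ogRoot g h⟩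

theorem ogSigmaK_rootSet : Cfsg.IsRootSubgroupSet (ogSigmaK F n) := by
  refine rootSet_subgroupOf rfl ?_ ?_ ?_ ?_
  · rintro _ ⟨p, r, _, _, rfl⟩
    exact ogRoot_commutative p r
  · rintro _ ⟨p, r, hi, h, rfl⟩
    exact ogRoot_ne_bot h hi
  · intro A hA g _
    exact ogSigma_conj hA g
  · intro A hA B hB
    rcases ogSigma_pair hA hB with hh | hh | hh
    · exact Or.inl hh
    · exact Or.inr (Or.inl hh.1)
    · exact Or.inr (Or.inr hh)

theorem ogSigmaK_kRoot : Cfsg.IsKRootSubgroupSet F (ogSigmaK F n) := by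
  have hS := ogSigmaK_rootSet (F := F) (n := n)
  refine ⟨hS, ?_⟩
  rintro _ ⟨A, hA, rfl⟩ _ ⟨B, hB, rfl⟩ hr
  rcases ogSigma_pair hA hB with hh | hh | hh
  · exfalso
    apply rankOne_not_commute hr
    intro a ha b hb
    have hc : ⁅A.subgroupOf (ogK F n), B.subgroupOf (ogK F n)⁆ = ⊥ := by
      rw [commutator_subgroupOf (ogSigma_le hA) (ogSigma_le hB), hh]
      exact Subgroup.bot_subgroupOf _
    exact Cfsg.Agent.S5028.commute_of_commutator_eq_bot hc ha hb
  · exact psl2Pair_subgroupOf (ogSigma_le hA) (ogSigma_le hB) hh.2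
  · exfalso
    have hc := rootCommutatorCase_subgroupOf (K := ogK F n) (ogSigma_le hA) (ogSigma_le hB) hh
    exact Cfsg.Agent.S5029.not_rankOne_of_commutator_mem hS ⟨A, hA, rfl⟩ hc.1 hr

/-! ### Connectedness of the graph of rank one pairs -/

theorem ogSigma_fAdj {p r p' r' : Fin n ⊕ Fin n → F} (hi : OInd p r) (h : OSing p r)
    (hi' : OInd p' r') (h' : OSing p' r')
    (hdet : polarP F n p p' * polarP F n r r' - polarP F n p r' * polarP F n r p' ≠ 0) :
    Cfsg.FAdj (ogSigma F n) (ogRoot p r) (ogRoot p' r') :=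
  ⟨ogRoot_mem_ogSigma hi h, ogRoot_mem_ogSigma hi' h', (ogRoot_rankOne h h' hdet).1⟩

theorem ogSigma_fAdj_symm {A B : Subgroup ↥(ogG F n)} (hAB : Cfsg.FAdj (ogSigma F n) A B) :
    Cfsg.FAdj (ogSigma F n) B A :=
  ⟨hAB.2.1, hAB.1, Cfsg.RankOnePair_symm hAB.2.2⟩

/-- Independence from a non-degenerate Gram matrix. -/
theorem oInd_of_gram {u v x y : Fin n ⊕ Fin n → F}
    (hdet : polarP F n u x * polarP F n v y - polarP F n u y * polarP F n v x ≠ 0) : OInd u v := by
  intro s t hst
  have e1 := congrArg (fun z => polarP F n z x) hst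
  have e2 := congrArg (fun z => polarP F n z y) hst
  simp only [map_add, map_smul, LinearMap.add_apply, LinearMap.smul_apply, smul_eq_mul,
    map_zero, LinearMap.zero_apply] at e1 e2
  constructor
  · have : s * (polarP F n u x * polarP F n v y - polarP F n u y * polarP F n v x) = 0 := by
      linear_combination polarP F n v y * e1 - polarP F n v x * e2
    exact (mul_eq_zero.mp this).resolve_right hdet
  · have : t * (polarP F n u x * polarP F n v y - polarP F n u y * polarP F n v x) = 0 := by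
      linear_combination polarP F n u x * e2 - polarP F n u y * e1
    exact (mul_eq_zero.mp this).resolve_right hdet

theorem ob_single (x : Fin n ⊕ Fin n → F) (k : Fin n ⊕ Fin n) :
    polarP F n x (Pi.single k 1) = x k.swap := by
  rw [polarP_apply]
  rcases k with j | j
  · simp [Pi.single_apply]
  · simp [Pi.single_apply]

theorem ob_single_single (k l : Fin n ⊕ Fin n) :
    polarP F n (Pi.single k (1 : F)) (Pi.single l 1) = if l.swap = k then 1 else 0 := by
  rw [ob_single, Pi.single_apply]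

theorem swap_ne_self (a : Fin n ⊕ Fin n) : a.swap ≠ a := by
  cases a <;> simp

theorem swap_ne_swap {a b : Fin n ⊕ Fin n} (h : a ≠ b) : a.swap ≠ b.swap := by
  intro he
  apply h
  have := congrArg Sum.swap he
  rwa [Sum.swap_swap, Sum.swap_swap] at this

theorem swap_ne_of_ne_swap {a b : Fin n ⊕ Fin n} (h : a ≠ b.swap) : a.swap ≠ b := by
  intro he
  apply h
  rw [← he, Sum.swap_swap]

/-- Two coordinate vectors spanning a singular line. -/
def CValid (k l : Fin n ⊕ Fin n) : Prop := k ≠ l ∧ l ≠ k.swap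

theorem CValid.symm {k l : Fin n ⊕ Fin n} (h : CValid k l) : CValid l k :=
  ⟨h.1.symm, fun he => h.2 (by rw [he, Sum.swap_swap])⟩

theorem CValid.oSing {k l : Fin n ⊕ Fin n} (h : CValid k l) :
    OSing (Pi.single k (1 : F)) (Pi.single l 1) := by
  refine ⟨quadP_single k, quadP_single l, ?_⟩
  rw [ob_single_single, if_neg (swap_ne_of_ne_swap h.2)]

theorem CValid.oInd {k l : Fin n ⊕ Fin n} (h : CValid k l) :
    OInd (Pi.single k (1 : F)) (Pi.single l 1) := by
  apply oInd_of_gram (x := Pi.single k.swap 1) (y := Pi.single l.swap 1)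
  rw [ob_single_single, ob_single_single, ob_single_single, ob_single_single, Sum.swap_swap,
    Sum.swap_swap, if_pos rfl, if_pos rfl, if_neg h.1.symm, if_neg h.1]
  norm_num

/-- Every singular line is opposite to a coordinate line. -/
theorem exists_minor {p r : Fin n ⊕ Fin n → F} (hi : OInd p r) :
    ∃ i j, p i * r j - p j * r i ≠ 0 := by
  obtain ⟨i, hpi⟩ : ∃ i, p i ≠ 0 := by
    by_contra hcon
    push Not at hcon
    exact hi.left_ne_zero (funext hcon)
  by_contra hcon
  push Not at hcon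
  have : (-(r i / p i)) • p + (1 : F) • r = 0 := by
    funext j
    have := hcon i j
    simp only [Pi.add_apply, Pi.smul_apply, smul_eq_mul, Pi.zero_apply]
    field_simp
    linear_combination this
  exact one_ne_zero (hi _ _ this).2

theorem exists_good_minor {p r : Fin n ⊕ Fin n → F} (hi : OInd p r) (h : OSing p r) :
    ∃ i j, i ≠ j ∧ j ≠ i.swap ∧ p i * r j - p j * r i ≠ 0 := by
  by_contra hcon
  push Not at hcon
  obtain ⟨i, j, hij⟩ := exists_minor hi
  have hne : i ≠ j := by
    rintro rfl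
    apply hij
    ring
  have hj : j = i.swap := by
    by_contra hj
    exact hij (hcon i j hne hj)
  subst hj
  have hzero : ∀ l, l ≠ i → l ≠ i.swap → p l = 0 ∧ r l = 0 := by
    intro l hl1 hl2
    have e1 := hcon i l (Ne.symm hl1) hl2
    have e2 := hcon i.swap l (Ne.symm hl2) (by rw [Sum.swap_swap]; exact hl1)
    constructor
    · have : p l * (p i * r i.swap - p i.swap * r i) = 0 := by
        linear_combination p i.swap * e1 - p i * e2
      exact (mul_eq_zero.mp this).resolve_right hij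
    · have : r l * (p i * r i.swap - p i.swap * r i) = 0 := by
        linear_combination r i.swap * e1 - r i * e2
      exact (mul_eq_zero.mp this).resolve_right hij
  have hp : p = p i • Pi.single i 1 + p i.swap • Pi.single i.swap 1 := by
    funext l
    simp only [Pi.add_apply, Pi.smul_apply, Pi.single_apply, smul_eq_mul, mul_ite, mul_one,
      mul_zero]
    by_cases hl1 : l = i
    · subst hl1
      rw [if_pos rfl, if_neg (swap_ne_self l).symm, add_zero]
    · by_cases hl2 : l = i.swap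
      · rw [if_neg hl1, if_pos hl2, zero_add, hl2]
      · rw [if_neg hl1, if_neg hl2, add_zero]
        exact (hzero l hl1 hl2).1
  have hQ : p i * p i.swap = 0 := by
    have := h.1
    rw [hp, quadP_comb2, quadP_single, quadP_single, ob_single_single, Sum.swap_swap,
      if_pos rfl] at this
    linear_combination this
  have hB : p i * r i.swap + p i.swap * r i = 0 := by
    have := h.2.2
    rw [hp, map_add, map_smul, map_smul, LinearMap.add_apply, LinearMap.smul_apply,
      LinearMap.smul_apply, ob_comm _ r, ob_comm _ r, ob_single, ob_single, Sum.swap_swap] at this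
    simpa using this
  rcases mul_eq_zero.mp hQ with h0 | h0
  · apply hij
    rw [h0] at hB ⊢
    linear_combination -hB
  · apply hij
    rw [h0] at hB ⊢
    linear_combination hB

theorem exists_opp_coord {p r : Fin n ⊕ Fin n → F} (hi : OInd p r) (h : OSing p r) :
    ∃ k l : Fin n ⊕ Fin n, CValid k l ∧
      Cfsg.FAdj (ogSigma F n) (ogRoot p r) (ogRoot (Pi.single k 1) (Pi.single l 1)) := by
  obtain ⟨i, j, hij, hji, hm⟩ := exists_good_minor hi h
  have hv : CValid i.swap j.swap := by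
    refine ⟨swap_ne_swap hij, ?_⟩
    rw [Sum.swap_swap]
    exact swap_ne_of_ne_swap hji
  refine ⟨i.swap, j.swap, hv, ogSigma_fAdj hi h hv.oInd hv.oSing ?_⟩
  rw [ob_single, ob_single, ob_single, ob_single, Sum.swap_swap, Sum.swap_swap]
  exact hm

theorem exists_fin_avoid (hn : 3 ≤ n) (u v : Fin n) : ∃ i : Fin n, i ≠ u ∧ i ≠ v := by
  by_contra h
  push Not at h
  have h0 := h ⟨0, by omega⟩
  have h1 := h ⟨1, by omega⟩
  have h2 := h ⟨2, by omega⟩
  simp only [Fin.ext_iff, ne_eq] at h0 h1 h2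
  omega

theorem exists_avoid (hn : 3 ≤ n) (a b : Fin n ⊕ Fin n) :
    ∃ x : Fin n ⊕ Fin n, x ≠ a ∧ x ≠ a.swap ∧ x ≠ b ∧ x ≠ b.swap := by
  obtain ⟨i, hi1, hi2⟩ := exists_fin_avoid hn (Sum.elim id id a) (Sum.elim id id b)
  refine ⟨Sum.inl i, ?_, ?_, ?_, ?_⟩
  · rcases a with a | a
    · simpa using hi1
    · simp
  · rcases a with a | a
    · simp
    · simpa using hi1
  · rcases b with b | b
    · simpa using hi2
    · simp
  · rcases b with b | b
    · simp
    · simpa using hi2

/-- Two coordinate lines through a common coordinate vector have a common opposite line. -/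
theorem coord_opp_common {k l l' : Fin n ⊕ Fin n} (hkl : CValid k l) (hkl' : CValid k l')
    (hll' : l' ≠ l.swap) (hne : l ≠ l') :
    Relation.ReflTransGen (Cfsg.FAdj (ogSigma F n))
      (ogRoot (Pi.single k (1 : F)) (Pi.single l 1))
      (ogRoot (Pi.single k (1 : F)) (Pi.single l' 1)) := by
  set u : Fin n ⊕ Fin n → F := Pi.single k.swap 1 with hu
  set v : Fin n ⊕ Fin n → F := Pi.single l.swap 1 + Pi.single l'.swap 1 with hv
  have huv : OSing u v := by
    refine ⟨quadP_single _, ?_, ?_⟩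
    · rw [hv, quadP_add, quadP_single, quadP_single, ob_single_single, Sum.swap_swap,
        if_neg hll', add_zero, add_zero]
    · rw [hu, hv, map_add, ob_single_single, ob_single_single, Sum.swap_swap, Sum.swap_swap,
        if_neg hkl.2, if_neg hkl'.2, add_zero]
  have g1 : polarP F n (Pi.single k (1 : F)) u * polarP F n (Pi.single l (1 : F)) v -
      polarP F n (Pi.single k (1 : F)) v * polarP F n (Pi.single l (1 : F)) u ≠ 0 := by
    rw [hu, hv, map_add, map_add]
    simp only [ob_single_single, Sum.swap_swap, if_true, if_neg hne.symm, if_neg hkl.1.symm,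
      if_neg hkl'.1.symm, if_neg hkl.1]
    norm_num
  have g2 : polarP F n u (Pi.single k (1 : F)) * polarP F n v (Pi.single l' (1 : F)) -
      polarP F n u (Pi.single l' (1 : F)) * polarP F n v (Pi.single k (1 : F)) ≠ 0 := by
    rw [hu, hv]
    simp only [map_add, LinearMap.add_apply, ob_single_single, if_true,
      if_neg (swap_ne_swap hne.symm), if_neg (swap_ne_swap hkl'.1.symm),
      if_neg (swap_ne_swap hkl.1), if_neg (swap_ne_swap hkl'.1)]
    norm_num
  have hiuv : OInd u v := by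
    apply oInd_of_gram (x := Pi.single k 1) (y := Pi.single l' 1)
    exact g2
  have e1 := ogSigma_fAdj hkl.oInd hkl.oSing hiuv huv g1
  have e2 := ogSigma_fAdj hiuv huv hkl'.oInd hkl'.oSing g2
  exact Relation.ReflTransGen.tail (Relation.ReflTransGen.single e1) e2

theorem coord_step (hn : 3 ≤ n) {k l l' : Fin n ⊕ Fin n} (hkl : CValid k l) (hkl' : CValid k l') :
    Relation.ReflTransGen (Cfsg.FAdj (ogSigma F n))
      (ogRoot (Pi.single k (1 : F)) (Pi.single l 1))
      (ogRoot (Pi.single k (1 : F)) (Pi.single l' 1)) := by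
  by_cases hne : l = l'
  · subst hne
    exact Relation.ReflTransGen.refl
  by_cases hll' : l' = l.swap
  · obtain ⟨x, hx1, hx2, hx3, hx4⟩ := exists_avoid hn k l
    have hkx : CValid k x := ⟨Ne.symm hx1, hx2⟩
    have s1 := coord_opp_common (F := F) hkl hkx hx4 (Ne.symm hx3)
    have s2 := coord_opp_common (F := F) hkx hkl' (by rw [hll']; exact swap_ne_swap (Ne.symm hx3))
      (by rw [hll']; exact hx4)
    exact s1.trans s2
  · exact coord_opp_common hkl hkl' hll' hne

theorem coord_swap {k l : Fin n ⊕ Fin n} (hkl : CValid k l) :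
    ogRoot (Pi.single l (1 : F)) (Pi.single k 1) = ogRoot (Pi.single k (1 : F)) (Pi.single l 1) :=
  ogRoot_swap hkl.oSing

theorem coord_connected (hn : 3 ≤ n) {k l k' l' : Fin n ⊕ Fin n} (hkl : CValid k l)
    (hkl' : CValid k' l') :
    Relation.ReflTransGen (Cfsg.FAdj (ogSigma F n))
      (ogRoot (Pi.single k (1 : F)) (Pi.single l 1))
      (ogRoot (Pi.single k' (1 : F)) (Pi.single l' 1)) := by
  obtain ⟨x, hx1, hx2, hx3, hx4⟩ := exists_avoid hn k k'
  have hkx : CValid k x := ⟨Ne.symm hx1, hx2⟩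
  have hkx' : CValid k' x := ⟨Ne.symm hx3, hx4⟩
  have s1 := coord_step (F := F) hn hkl hkx
  have s2 := coord_step (F := F) hn hkx.symm hkx'.symm
  have s3 := coord_step (F := F) hn hkx' hkl'
  rw [coord_swap hkx, coord_swap hkx'] at s2
  exact (s1.trans s2).trans s3

/-- The graph of rank one pairs on the set of Siegel transvection subgroups is connected. -/
theorem ogSigma_connected (hn : 3 ≤ n) :
    Cfsg.IsConnectedFamily (Cfsg.FAdj (ogSigma F n)) (ogSigma F n) := by
  rintro _ ⟨p, r, hi, h, rfl⟩ _ ⟨p', r', hi', h', rfl⟩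
  obtain ⟨k, l, hkl, e1⟩ := exists_opp_coord hi h
  obtain ⟨k', l', hkl', e2⟩ := exists_opp_coord hi' h'
  exact ((Relation.ReflTransGen.single e1).trans (coord_connected hn hkl hkl')).tail
    (ogSigma_fAdj_symm e2)

/-- The family of Siegel transvection subgroups, described as the groups of isometries fixing the
orthogonal complement of a singular line pointwise. -/
def ogSigmaFix (F : Type*) [Field F] (n : ℕ) : Set (Subgroup ↥(ogG F n)) :=
  {A | ∃ p r : Fin n ⊕ Fin n → F, LinearIndependent F ![p, r] ∧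
    Cfsg.quadFormPlus n F p = 0 ∧ Cfsg.quadFormPlus n F r = 0 ∧
    Cfsg.quadFormPlus n F (p + r) = 0 ∧
    A = Subgroup.closure {σ : ↥(ogG F n) | ∀ v : Fin n ⊕ Fin n → F,
      Cfsg.quadFormPlus n F (v + p) - Cfsg.quadFormPlus n F v - Cfsg.quadFormPlus n F p = 0 →
      Cfsg.quadFormPlus n F (v + r) - Cfsg.quadFormPlus n F v - Cfsg.quadFormPlus n F r = 0 →
        ((σ : Matrix.GeneralLinearGroup (Fin n ⊕ Fin n) F) :
          Matrix (Fin n ⊕ Fin n) (Fin n ⊕ Fin n) F) *ᵥ v = v}}

theorem ogRoot_eq_closure {p r : Fin n ⊕ Fin n → F} (h : OSing p r) (hi : OInd p r) :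
    ogRoot p r = Subgroup.closure {σ : ↥(ogG F n) | ∀ v : Fin n ⊕ Fin n → F,
      Cfsg.quadFormPlus n F (v + p) - Cfsg.quadFormPlus n F v - Cfsg.quadFormPlus n F p = 0 →
      Cfsg.quadFormPlus n F (v + r) - Cfsg.quadFormPlus n F v - Cfsg.quadFormPlus n F r = 0 →
        ((σ : Matrix.GeneralLinearGroup (Fin n ⊕ Fin n) F) :
          Matrix (Fin n ⊕ Fin n) (Fin n ⊕ Fin n) F) *ᵥ v = v} := by
  have := ogRoot_eq_fix h hi
  simp only [polarP_eq_sub] at this
  rw [← this, Subgroup.closure_eq]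

theorem ogSigmaFix_eq : ogSigmaFix F n = ogSigma F n := by
  ext A
  constructor
  · rintro ⟨p, r, hli, hp, hr, hpr, rfl⟩
    have hi : OInd p r := (oInd_iff p r).mp hli
    have h : OSing p r := ⟨hp, hr, by rw [polarP_eq_sub, hp, hr, hpr]; ring⟩
    exact ⟨p, r, hi, h, (ogRoot_eq_closure h hi).symm⟩
  · rintro ⟨p, r, hi, h, rfl⟩
    refine ⟨p, r, (oInd_iff p r).mpr hi, h.1, h.2.1, ?_, ogRoot_eq_closure h hi⟩
    rw [quadP_add, h.1, h.2.1, h.2.2]
    ring

/-- The Siegel transvection subgroups form a set of `F`-root subgroups of the group they generate,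
and their graph of rank one pairs is connected. -/
theorem ogSigmaFix_main (hn : 3 ≤ n) :
    Cfsg.IsKRootSubgroupSet F ((fun A : Subgroup ↥(ogG F n) =>
      A.subgroupOf (⨆ B ∈ ogSigmaFix F n, B)) '' ogSigmaFix F n) ∧
    Cfsg.IsConnectedFamily (Cfsg.FAdj (ogSigmaFix F n)) (ogSigmaFix F n) := by
  rw [ogSigmaFix_eq]
  exact ⟨ogSigmaK_kRoot, ogSigma_connected hn⟩

end OrthRoot

end Cfsg.Agent.Lib.Helper26
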