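import Mathlib

set_option autoImplicit false
set_option linter.unusedVariables false
set_option linter.unusedSectionVars false
set_option linter.style.haveILetI false
open scoped ComplexConjugate
open Classical

namespace Cfsg.Agent.Lib.Helper24.P2P

universe u v

/-- the set of elements commuting with a nontrivial element of `Q` is `Q` -/
theorem p2pdih_comm_set {N : Type u} [Group N] [Finite N] (p : ℕ) (hp : p.Prime)
    (Q : Subgroup N) (hQ : Nat.card Q = p)
    (hC : Subgroup.centralizer (Q : Set N) = Q) {g : N} (hg : g ∈ Q) (hg1 : g ≠ 1) (h : N) :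
    Commute g h ↔ h ∈ Q := by
  haveI : Fact p.Prime := ⟨hp⟩
  have hgen : Subgroup.zpowers (⟨g, hg⟩ : Q) = ⊤ :=
    zpowers_eq_top_of_prime_card hQ (fun e => hg1 (congrArg Subtype.val e))
  have hpow : ∀ q ∈ Q, ∃ k : ℤ, q = g ^ k := by
    intro q hq
    have : (⟨q, hq⟩ : Q) ∈ Subgroup.zpowers (⟨g, hg⟩ : Q) := by rw [hgen]; trivial
    obtain ⟨k, hk⟩ := Subgroup.mem_zpowers_iff.mp this
    refine ⟨k, ?_⟩
    have := congrArg Subtype.val hk
    simpa using this.symm
  constructor
  · intro hc
    rw [← hC, Subgroup.mem_centralizer_iff]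
    intro q hq
    obtain ⟨k, rfl⟩ := hpow q hq
    exact ((hc.zpow_left k)).eq
  · intro hh
    obtain ⟨k, rfl⟩ := hpow h hh
    exact (Commute.refl g).zpow_right k

theorem card_conjClasses_dihedral {N : Type u} [Group N] [Finite N] (p : ℕ) (hp : p.Prime)
    (hodd : p ≠ 2) (hN : Nat.card N = 2 * p) (Q : Subgroup N) (hQ : Nat.card Q = p)
    (hC : Subgroup.centralizer (Q : Set N) = Q) :
    2 * Nat.card (ConjClasses N) = p + 3 := by
  haveI : Fintype N := Fintype.ofFinite N
  have hp0 : 0 < p := hp.pos
  have hidx : Q.index = 2 := by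
    have := Q.card_mul_index
    rw [hQ, hN] at this
    have h2 : p * Q.index = p * 2 := by rw [this]; ring
    exact Nat.eq_of_mul_eq_mul_left hp0 h2
  haveI hQn : Q.Normal := Subgroup.normal_of_index_eq_two hidx
  -- the counting function
  set f : N → ℕ := fun g => Nat.card {h : N // Commute g h} with hf
  have hcount : Nat.card {q : N × N // Commute q.1 q.2} = ∑ g : N, f g := by
    rw [Nat.card_congr (Equiv.subtypeProdEquivSigmaSubtype (fun a b : N => Commute a b)), Nat.card_sigma]
  have hfQ : ∀ g : N, g ∈ Q → f g = p + (if g = 1 then p else 0) := by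
    intro g hg
    by_cases hg1 : g = 1
    · subst hg1
      rw [if_pos rfl, hf]
      simp only [Commute.one_left]
      rw [Nat.card_congr (Equiv.subtypeUnivEquiv (fun _ => trivial)), hN]; ring
    · rw [if_neg hg1, add_zero, hf]
      simp only
      rw [← hQ]
      apply Nat.card_congr
      exact Equiv.subtypeEquivRight (fun h => p2pdih_comm_set p hp Q hQ hC hg hg1 h)
  have hfn : ∀ g : N, g ∉ Q → f g = 2 := by
    intro g hg
    have hg1 : g ≠ 1 := fun e => hg (e ▸ Q.one_mem)
    set C : Subgroup N := Subgroup.centralizer {g} with hCdef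
    have hfC : f g = Nat.card C := by
      rw [hf]
      apply Nat.card_congr
      apply Equiv.subtypeEquivRight
      intro h
      rw [hCdef, Subgroup.mem_centralizer_iff]
      constructor
      · intro hc x hx
        rw [Set.mem_singleton_iff] at hx
        rw [hx]; exact hc.eq
      · intro hc
        exact hc g rfl
    have hbot : Q.subgroupOf C = ⊥ := by
      rw [eq_bot_iff]
      intro y hy
      rw [Subgroup.mem_subgroupOf] at hy
      rw [Subgroup.mem_bot]
      by_contra hy1
      have hy1' : (y : N) ≠ 1 := fun e => hy1 (Subtype.ext e)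
      have hyc : Commute (y : N) g := by
        have hy2 : (y : N) ∈ Subgroup.centralizer {g} := y.2
        rw [Subgroup.mem_centralizer_iff] at hy2
        exact (hy2 g rfl).symm
      exact hg ((p2pdih_comm_set p hp Q hQ hC hy hy1' g).mp hyc)
    have hrel : Q.relIndex C ∣ 2 := by
      rw [← hidx]; exact Subgroup.relIndex_dvd_index_of_normal Q C
    have hcard : Nat.card C = Q.relIndex C := by
      have := (Q.subgroupOf C).card_mul_index
      rw [hbot, Subgroup.card_bot, one_mul] at this
      rw [← this, Subgroup.relIndex, hbot]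
    have hle : Nat.card C ≤ 2 := by
      rw [hcard]; exact Nat.le_of_dvd (by norm_num) hrel
    have hge : 2 ≤ Nat.card C := by
      have h1 : (1 : N) ∈ C := C.one_mem
      have hgC : g ∈ C := by
        rw [hCdef, Subgroup.mem_centralizer_iff]
        intro x hx
        rw [Set.mem_singleton_iff] at hx
        rw [hx]
      have : 1 < Nat.card C := by
        rw [Finite.one_lt_card_iff_nontrivial]
        exact ⟨⟨⟨g, hgC⟩, ⟨1, h1⟩, fun e => hg1 (congrArg Subtype.val e)⟩⟩
      omega
    rw [hfC]; omega
  have hsum : ∑ g : N, f g = p * p + p + 2 * p := by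
    rw [← Finset.sum_filter_add_sum_filter_not Finset.univ (fun g => g ∈ Q)]
    have h1 : ∑ g ∈ Finset.univ.filter (fun g => g ∈ Q), f g = p * p + p := by
      rw [Finset.sum_congr rfl (fun g hg => hfQ g (Finset.mem_filter.mp hg).2), Finset.sum_add_distrib]
      have hcQ : (Finset.univ.filter (fun g : N => g ∈ Q)).card = p := by
        rw [← hQ, Nat.card_eq_fintype_card, Fintype.card_subtype]
      rw [Finset.sum_const, hcQ, smul_eq_mul, Finset.sum_ite_eq']
      rw [if_pos (Finset.mem_filter.mpr ⟨Finset.mem_univ _, Q.one_mem⟩)]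
    have h2 : ∑ g ∈ Finset.univ.filter (fun g => ¬ g ∈ Q), f g = 2 * p := by
      rw [Finset.sum_congr rfl (fun g hg => hfn g (Finset.mem_filter.mp hg).2)]
      have hcQ : (Finset.univ.filter (fun g : N => g ∈ Q)).card = p := by
        rw [← hQ, Nat.card_eq_fintype_card, Fintype.card_subtype]
      have hcn : (Finset.univ.filter (fun g : N => ¬ g ∈ Q)).card = p := by
        have := Finset.card_filter_add_card_filter_not (s := (Finset.univ : Finset N)) (fun g => g ∈ Q)
        rw [hcQ, Finset.card_univ, ← Nat.card_eq_fintype_card, hN] at this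
        omega
      rw [Finset.sum_const, hcn, smul_eq_mul, mul_comm]
    rw [h1, h2]
  have hmain := card_comm_eq_card_conjClasses_mul_card N
  rw [hcount, hsum, hN] at hmain
  have : p * (p + 3) = p * (2 * Nat.card (ConjClasses N)) := by
    calc p * (p + 3) = p * p + p + 2 * p := by ring
      _ = Nat.card (ConjClasses N) * (2 * p) := hmain
      _ = p * (2 * Nat.card (ConjClasses N)) := by ring
  exact (Nat.eq_of_mul_eq_mul_left hp0 this).symm

end Cfsg.Agent.Lib.Helper24.P2P
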