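import Mathlib
import Cfsg.Agent.Lib.Helper10.PGM.Defs
import Cfsg.Agent.Lib.helper15.UBlk

/-! Project PGM (designer helper10, S2263), row AC3 ac_three, written by helper26. Self-contained (the N-facts needed are re-proved inline as pgmac3_*). -/
set_option autoImplicit false

namespace Cfsg.Agent.Lib.Helper10.PGM

open Matrix Cfsg.Agent.Lib.helper15.UNat Cfsg.Agent.Lib.helper15.UBlk

universe u

theorem pgmac3_Qn_pos (q l : ℕ) (hq : 2 ≤ q) (hl : 1 ≤ l) : 0 < Qn q l := by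
  unfold Qn
  split_ifs with h
  · have h1 : 2 ^ l ≤ q ^ l := Nat.pow_le_pow_left hq l
    have h2 : 2 ^ 1 ≤ 2 ^ l := Nat.pow_le_pow_right (by norm_num) hl
    omega
  · omega

theorem pgmac3_t_le (q l : ℕ) (hq : 1 ≤ q) (hl : 1 ≤ l) : Qn q l / (q + 1) ≤ q ^ (l - 1) := by
  apply Nat.div_le_of_le_mul
  have h1 : Qn q l ≤ q ^ l + 1 := by
    unfold Qn
    split_ifs <;> omega
  have h2 : q ^ l = q * q ^ (l - 1) := by
    rw [← pow_succ']
    congr 1
    omega
  have h3 : 1 ≤ q ^ (l - 1) := Nat.one_le_pow _ _ hq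
  calc Qn q l ≤ q ^ l + 1 := h1
    _ ≤ q * q ^ (l - 1) + q ^ (l - 1) := by omega
    _ = (q + 1) * q ^ (l - 1) := by ring

theorem pgmac3_pclog_le_pow (p m : ℕ) (hp : 2 ≤ p) (hm : 1 ≤ m) : p ^ Nat.clog p m ≤ p ^ (m - 1) := by
  apply Nat.pow_le_pow_right (by omega)
  apply Nat.clog_le_of_le_pow
  have h1 : m - 1 < 2 ^ (m - 1) := Nat.lt_two_pow_self
  have h2 : 2 ^ (m - 1) ≤ p ^ (m - 1) := Nat.pow_le_pow_left hp _
  omega

theorem pgmac3_Mx_ge (p f d : ℕ) (hp : 2 ≤ p) (hf : 1 ≤ f) (hd : 3 ≤ d) :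
    (p ^ f) ^ (d - 1) - 1 ≤ Mx p f d := by
  unfold Mx
  split_ifs with h1 h2 h3
  · exact le_refl _
  · have hf1 : f = 1 := by omega
    subst hf1
    rw [pow_one]
    have h4 : p ^ (d - 1) = p ^ (d - 2) * p := by
      rw [← pow_succ]
      congr 1
      omega
    rw [h4, add_mul]
    omega
  · omega
  · have h4 : p ≤ p ^ f := by
      calc p = p ^ 1 := (pow_one p).symm
        _ ≤ p ^ f := Nat.pow_le_pow_right (by omega) hf
    have h5 : p ^ f = 2 := by omega
    rw [h5]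
    have h6 : 2 ^ (d - 1) = 4 * 2 ^ (d - 3) := by
      have : d - 1 = (d - 3) + 2 := by omega
      rw [this, pow_add]
      ring
    rw [h6]
    omega

theorem pgmac3_le_maxm (L : List (ℕ × ℕ)) (e : ℕ × ℕ) (he : e ∈ L) : e.2 ≤ maxm L := by
  unfold maxm
  induction L with
  | nil => simp at he
  | cons a L ih =>
    rw [List.map_cons, List.foldr_cons]
    rcases List.mem_cons.mp he with h | h
    · subst h
      exact le_max_left _ _
    · exact le_trans (ih h) (le_max_right _ _)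

theorem pgmac3_lcmL_le_aux (q : ℕ) (hq : 2 ≤ q) (L : List ℕ) (hL : ∀ l ∈ L, 1 ≤ l) (hne : L ≠ []) :
    (q + 1) ∣ lcmL (L.map (Qn q)) ∧
    lcmL (L.map (Qn q)) ≤ (q + 1) * (L.map (fun l => Qn q l / (q + 1))).prod := by
  induction L with
  | nil => exact absurd rfl hne
  | cons l L ih =>
    have hl : 1 ≤ l := hL l (List.mem_cons_self)
    have hdvd : (q + 1) ∣ Qn q l := succ_dvd_Qn q l (by omega)
    have hmul : (q + 1) * (Qn q l / (q + 1)) = Qn q l := Nat.mul_div_cancel' hdvd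
    have hpos : 0 < Qn q l := pgmac3_Qn_pos q l hq hl
    by_cases hL0 : L = []
    · subst hL0
      simp only [List.map_cons, List.map_nil, lcmL, List.foldr_cons, List.foldr_nil, Nat.lcm_one_right,
        List.prod_cons, List.prod_nil, mul_one]
      exact ⟨hdvd, le_of_eq hmul.symm⟩
    · obtain ⟨ih1, ih2⟩ := ih (fun l' hl' => hL l' (List.mem_cons_of_mem _ hl')) hL0
      have hlcm : lcmL ((l :: L).map (Qn q)) = Nat.lcm (Qn q l) (lcmL (L.map (Qn q))) := by
        simp only [List.map_cons, lcmL, List.foldr_cons]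
      rw [hlcm]
      set X := lcmL (L.map (Qn q)) with hX
      refine ⟨dvd_trans hdvd (Nat.dvd_lcm_left _ _), ?_⟩
      have hg : (q + 1) ∣ Nat.gcd (Qn q l) X := Nat.dvd_gcd hdvd ih1
      have hgpos : 0 < Nat.gcd (Qn q l) X := Nat.gcd_pos_of_pos_left _ hpos
      have hgle : q + 1 ≤ Nat.gcd (Qn q l) X := Nat.le_of_dvd hgpos hg
      have hgl : Nat.gcd (Qn q l) X * Nat.lcm (Qn q l) X = Qn q l * X := Nat.gcd_mul_lcm _ _
      have h1 : (q + 1) * Nat.lcm (Qn q l) X ≤ (q + 1) * ((Qn q l / (q + 1)) * X) := by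
        calc (q + 1) * Nat.lcm (Qn q l) X ≤ Nat.gcd (Qn q l) X * Nat.lcm (Qn q l) X :=
              Nat.mul_le_mul_right _ hgle
          _ = Qn q l * X := hgl
          _ = (q + 1) * ((Qn q l / (q + 1)) * X) := by rw [← mul_assoc, hmul]
      have h2 : Nat.lcm (Qn q l) X ≤ (Qn q l / (q + 1)) * X :=
        Nat.le_of_mul_le_mul_left h1 (by omega)
      calc Nat.lcm (Qn q l) X ≤ (Qn q l / (q + 1)) * X := h2
        _ ≤ (Qn q l / (q + 1)) * ((q + 1) * (L.map (fun l => Qn q l / (q + 1))).prod) :=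
            Nat.mul_le_mul_left _ ih2
        _ = (q + 1) * ((l :: L).map (fun l => Qn q l / (q + 1))).prod := by
            rw [List.map_cons, List.prod_cons]; ring

/-- `Π t(l) ≤ q ^ Σ (l - 1)` -/
theorem pgmac3_prod_le (q : ℕ) (hq : 1 ≤ q) (L : List ℕ) (hL : ∀ l ∈ L, 1 ≤ l) :
    (L.map (fun l => Qn q l / (q + 1))).prod ≤ q ^ (L.map (fun l => l - 1)).sum := by
  induction L with
  | nil => simp
  | cons l L ih =>
    rw [List.map_cons, List.prod_cons, List.map_cons, List.sum_cons, pow_add]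
    exact Nat.mul_le_mul (pgmac3_t_le q l hq (hL l List.mem_cons_self))
      (ih (fun l' hl' => hL l' (List.mem_cons_of_mem _ hl')))

/-- the exponent count: `Σ (l - 1) + length + (m* - 1) ≤ Σ l m` -/
theorem pgmac3_count (L : List (ℕ × ℕ)) (hL : ∀ e ∈ L, 1 ≤ e.1 ∧ 1 ≤ e.2) :
    (L.map (fun e => e.1 - 1)).sum + L.length + (maxm L - 1) ≤ (L.map (fun e => e.1 * e.2)).sum := by
  induction L with
  | nil => simp [maxm]
  | cons e L ih =>
    have ih' := ih (fun e' he' => hL e' (List.mem_cons_of_mem _ he'))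
    obtain ⟨h1, h2⟩ := hL e List.mem_cons_self
    have hm : maxm (e :: L) = max e.2 (maxm L) := by
      unfold maxm
      rw [List.map_cons, List.foldr_cons]
    rw [hm, List.map_cons, List.sum_cons, List.map_cons, List.sum_cons, List.length_cons]
    have hprod : e.1 + e.2 ≤ e.1 * e.2 + 1 := by
      obtain ⟨a, ha⟩ := Nat.exists_eq_add_of_le h1
      obtain ⟨b, hb⟩ := Nat.exists_eq_add_of_le h2
      rw [ha, hb]
      nlinarith [Nat.zero_le (a * b)]
    have hprod2 : e.1 ≤ e.1 * e.2 := Nat.le_mul_of_pos_right _ h2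
    rcases le_total e.2 (maxm L) with h | h
    · rw [max_eq_right h]
      omega
    · rw [max_eq_left h]
      omega

/-- AC3 : at least three orbits -/
theorem ac_three (p f d : ℕ) (hp : p.Prime) (hf : 1 ≤ f) (hd : 3 ≤ d)
    (L : List (ℕ × ℕ)) (hL : ∀ e ∈ L, 1 ≤ e.1 ∧ 1 ≤ e.2)
    (hsum : (L.map (fun e => e.1 * e.2)).sum = d) (h3 : 3 ≤ L.length) :
    p ^ Nat.clog p (maxm L) * lcmL (L.map (fun e => Qn (p ^ f) e.1)) ≤ Mx p f d := by
  have hp2 : 2 ≤ p := hp.two_le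
  set q := p ^ f with hq
  have hpq : p ≤ q := by
    calc p = p ^ 1 := (pow_one p).symm
      _ ≤ p ^ f := Nat.pow_le_pow_right (by omega) hf
  have hq2 : 2 ≤ q := le_trans hp2 hpq
  -- the list of sizes
  have hmap : L.map (fun e => Qn q e.1) = (L.map Prod.fst).map (Qn q) := by
    rw [List.map_map]; rfl
  have hne : L ≠ [] := by
    intro h; rw [h] at h3; simp at h3
  have hne' : L.map Prod.fst ≠ [] := by
    intro h; exact hne (List.map_eq_nil_iff.mp h)
  have hL1 : ∀ l ∈ L.map Prod.fst, 1 ≤ l := by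
    intro l hl
    obtain ⟨e, he, rfl⟩ := List.mem_map.mp hl
    exact (hL e he).1
  have hA := (pgmac3_lcmL_le_aux q hq2 (L.map Prod.fst) hL1 hne').2
  have hB := pgmac3_prod_le q (by omega) (L.map Prod.fst) hL1
  have hsumeq : ((L.map Prod.fst).map (fun l => l - 1)).sum = (L.map (fun e => e.1 - 1)).sum := by
    rw [List.map_map]; rfl
  rw [hsumeq] at hB
  -- the maximal multiplicity
  obtain ⟨e0, he0⟩ := List.exists_mem_of_ne_nil L hne
  have hm1 : 1 ≤ maxm L := le_trans (hL e0 he0).2 (pgmac3_le_maxm L e0 he0)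
  have hC := pgmac3_pclog_le_pow p (maxm L) hp2 hm1
  have hC' : p ^ (maxm L - 1) ≤ q ^ (maxm L - 1) := Nat.pow_le_pow_left hpq _
  have hcount := pgmac3_count L hL
  rw [hsum] at hcount
  set S := (L.map (fun e => e.1 - 1)).sum with hS
  have hexp : S + (maxm L - 1) ≤ d - 3 := by omega
  rw [hmap]
  have hmain : p ^ Nat.clog p (maxm L) * lcmL ((L.map Prod.fst).map (Qn q)) ≤ (q + 1) * q ^ (d - 3) := by
    calc p ^ Nat.clog p (maxm L) * lcmL ((L.map Prod.fst).map (Qn q))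
        ≤ q ^ (maxm L - 1) * ((q + 1) * q ^ S) :=
          Nat.mul_le_mul (le_trans hC hC') (le_trans hA (Nat.mul_le_mul_left _ hB))
      _ = (q + 1) * q ^ (S + (maxm L - 1)) := by rw [pow_add]; ring
      _ ≤ (q + 1) * q ^ (d - 3) := Nat.mul_le_mul_left _ (Nat.pow_le_pow_right (by omega) hexp)
  have hfin : (q + 1) * q ^ (d - 3) ≤ q ^ (d - 1) - 1 := by
    have h4 : q ^ (d - 1) = q ^ 2 * q ^ (d - 3) := by
      rw [← pow_add]; congr 1; omega
    have h5 : 1 ≤ q ^ (d - 3) := Nat.one_le_pow _ _ (by omega)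
    have h6 : (q + 1) * q ^ (d - 3) + 1 ≤ q ^ 2 * q ^ (d - 3) := by
      have h7 : q + 2 ≤ q ^ 2 := by nlinarith
      calc (q + 1) * q ^ (d - 3) + 1 ≤ (q + 1) * q ^ (d - 3) + q ^ (d - 3) := by omega
        _ = (q + 2) * q ^ (d - 3) := by ring
        _ ≤ q ^ 2 * q ^ (d - 3) := Nat.mul_le_mul_right _ h7
    rw [h4]
    omega
  exact le_trans hmain (le_trans hfin (pgmac3_Mx_ge p f d hp2 hf hd))

end Cfsg.Agent.Lib.Helper10.PGM
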