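import Cfsg.Agent.Lib.Helper26.FusionBasic

set_option autoImplicit false

namespace Cfsg.Agent.Lib.Helper26

open Cfsg Cfsg.FusionSystem

variable {Ω : Type*} [Group Ω] {S : Subgroup Ω}

/-! ### `autInducedBy` -/

def autInducedSet (K P : Subgroup Ω) : Set (MulAut P) :=
  {α : MulAut P | ∃ g ∈ K, ∀ x : P, ((α x : P) : Ω) = g * (x : Ω) * g⁻¹}

theorem mem_normalizer_of_conj_aut {P : Subgroup Ω} {α : MulAut P} {g : Ω}
    (h : ∀ x : P, ((α x : P) : Ω) = g * (x : Ω) * g⁻¹) : g ∈ Subgroup.normalizer (P : Set Ω) := by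
  rw [Subgroup.mem_normalizer_iff]
  intro y
  constructor
  · intro hy
    rw [← h ⟨y, hy⟩]
    exact (α ⟨y, hy⟩).2
  · intro hy
    obtain ⟨x, hx⟩ := α.surjective ⟨g * y * g⁻¹, hy⟩
    have h1 : ((α x : P) : Ω) = g * y * g⁻¹ := congrArg Subtype.val hx
    rw [h x] at h1
    have : (x : Ω) = y := mul_left_cancel (mul_right_cancel h1)
    rw [← this]
    exact x.2

theorem autInducedBy_eq_set (K P : Subgroup Ω) :
    (autInducedBy K P : Set (MulAut P)) = autInducedSet K P := by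
  apply le_antisymm _ Subgroup.subset_closure
  intro α hα
  refine Subgroup.closure_induction (p := fun α _ => α ∈ autInducedSet K P) (fun x hx => hx) ?_ ?_ ?_ hα
  · exact ⟨1, K.one_mem, fun x => by simp⟩
  · rintro a b _ _ ⟨g, hg, hga⟩ ⟨k, hk, hkb⟩
    refine ⟨g * k, K.mul_mem hg hk, fun x => ?_⟩
    rw [MulAut.mul_apply, hga, hkb]
    group
  · rintro a _ ⟨g, hg, hga⟩
    refine ⟨g⁻¹, K.inv_mem hg, fun x => ?_⟩
    have h1 := hga (a⁻¹ x)
    rw [MulAut.apply_inv_self] at h1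
    rw [h1]
    group

theorem mem_autInducedBy_iff {K P : Subgroup Ω} {α : MulAut P} :
    α ∈ autInducedBy K P ↔ ∃ g ∈ K, ∀ x : P, ((α x : P) : Ω) = g * (x : Ω) * g⁻¹ := by
  rw [← SetLike.mem_coe, autInducedBy_eq_set]
  rfl

theorem autInducedBy_mono {K K' : Subgroup Ω} (h : K ≤ K') (P : Subgroup Ω) :
    autInducedBy K P ≤ autInducedBy K' P := by
  intro α hα
  obtain ⟨g, hg, hgα⟩ := mem_autInducedBy_iff.mp hα
  exact mem_autInducedBy_iff.mpr ⟨g, h hg, hgα⟩

/-- conjugation by an element of the normalizer, as an automorphism -/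
def conjAut (P : Subgroup Ω) (g : Ω) (hg : g ∈ Subgroup.normalizer (P : Set Ω)) : MulAut P :=
  Subgroup.normalizerMonoidHom P ⟨g, hg⟩

theorem conjAut_apply (P : Subgroup Ω) (g : Ω) (hg : g ∈ Subgroup.normalizer (P : Set Ω)) (x : P) :
    ((conjAut P g hg x : P) : Ω) = g * (x : Ω) * g⁻¹ := rfl

theorem conjAut_mem_autInducedBy {K P : Subgroup Ω} {g : Ω} (hgK : g ∈ K)
    (hg : g ∈ Subgroup.normalizer (P : Set Ω)) : conjAut P g hg ∈ autInducedBy K P :=
  mem_autInducedBy_iff.mpr ⟨g, hgK, fun _ => rfl⟩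

theorem mem_autInducedBy_iff' {K P : Subgroup Ω} {α : MulAut P} :
    α ∈ autInducedBy K P ↔ ∃ g ∈ K, ∃ hg : g ∈ Subgroup.normalizer (P : Set Ω), α = conjAut P g hg := by
  rw [mem_autInducedBy_iff]
  constructor
  · rintro ⟨g, hgK, h⟩
    refine ⟨g, hgK, mem_normalizer_of_conj_aut h, ?_⟩
    ext x
    rw [h x]
    rfl
  · rintro ⟨g, hgK, hg, rfl⟩
    exact ⟨g, hgK, fun _ => rfl⟩

theorem autInducedBy_eq_map (K P : Subgroup Ω) :
    autInducedBy K P =
      (K.subgroupOf (Subgroup.normalizer (P : Set Ω))).map (Subgroup.normalizerMonoidHom P) := by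
  ext α
  rw [mem_autInducedBy_iff']
  constructor
  · rintro ⟨g, hgK, hg, rfl⟩
    exact ⟨⟨g, hg⟩, Subgroup.mem_subgroupOf.mpr hgK, rfl⟩
  · rintro ⟨⟨g, hg⟩, hgK, rfl⟩
    exact ⟨g, Subgroup.mem_subgroupOf.mp hgK, hg, rfl⟩

/-! ### `autGroup` -/

def autSet (F : FusionSystem S) (P : Subgroup Ω) : Set (MulAut P) :=
  {α : MulAut P | P.subtype.comp α.toMonoidHom ∈ F.Hom P}

theorem autGroup_eq_set (F : FusionSystem S) {P : Subgroup Ω} (hP : P ≤ S) :
    (F.autGroup P : Set (MulAut P)) = autSet F P := by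
  apply le_antisymm _ Subgroup.subset_closure
  intro α hα
  refine Subgroup.closure_induction (p := fun α _ => α ∈ autSet F P) (fun x hx => hx) ?_ ?_ ?_ hα
  · exact mem_of_forall_eq F (subtype_mem F hP) (fun x => rfl)
  · rintro a b _ _ ha hb
    have hb' : ∀ x : P, (P.subtype.comp b.toMonoidHom) x ∈ P := fun x => (b x).2
    have := F.comp_mem hb ha hb'
    exact mem_of_forall_eq F this (fun x => rfl)
  · rintro a _ ha
    have hr : (P.subtype.comp a.toMonoidHom).range = P := by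
      ext z
      constructor
      · rintro ⟨x, rfl⟩
        exact (a x).2
      · intro hz
        exact ⟨a⁻¹ ⟨z, hz⟩, by simp⟩
    obtain ⟨ψ, hψ, -, hψ1, -⟩ := exists_inv F ha hr
    refine mem_of_forall_eq F hψ (fun x => ?_)
    have h1 := hψ1 (a⁻¹ x) (by simp)
    have e : (⟨(P.subtype.comp a.toMonoidHom) (a⁻¹ x), by simp⟩ : P) = x := by
      apply Subtype.ext
      simp
    rw [e] at h1
    rw [h1]
    rfl

theorem mem_autGroup_iff (F : FusionSystem S) {P : Subgroup Ω} (hP : P ≤ S) {α : MulAut P} :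
    α ∈ F.autGroup P ↔ P.subtype.comp α.toMonoidHom ∈ F.Hom P := by
  rw [← SetLike.mem_coe, autGroup_eq_set F hP]
  rfl

theorem autInducedBy_le_autGroup (F : FusionSystem S) {P : Subgroup Ω} (hP : P ≤ S) :
    autInducedBy S P ≤ F.autGroup P := by
  intro α hα
  obtain ⟨g, hg, hgα⟩ := mem_autInducedBy_iff.mp hα
  rw [mem_autGroup_iff F hP]
  exact mem_of_forall_eq F (F.conj_mem hP hg) (fun x => hgα x)

/-- An isomorphism in `F` from `P` onto `P` viewed as an automorphism. -/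
noncomputable def autOfHom (F : FusionSystem S) {P : Subgroup Ω} {φ : P →* Ω} (hφ : φ ∈ F.Hom P)
    (hr : φ.range = P) : MulAut P :=
  MulEquiv.ofBijective (φ.codRestrict P (fun x => hr.le ⟨x, rfl⟩))
    ⟨fun a b hab => F.injective_of_mem hφ (congrArg Subtype.val hab), fun y => by
      have hy : (y : Ω) ∈ φ.range := hr.ge y.2
      obtain ⟨x, hx⟩ := hy
      exact ⟨x, Subtype.ext hx⟩⟩

theorem autOfHom_apply (F : FusionSystem S) {P : Subgroup Ω} {φ : P →* Ω} (hφ : φ ∈ F.Hom P)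
    (hr : φ.range = P) (x : P) : ((autOfHom F hφ hr x : P) : Ω) = φ x := rfl

theorem autOfHom_mem (F : FusionSystem S) {P : Subgroup Ω} {φ : P →* Ω} (hφ : φ ∈ F.Hom P)
    (hr : φ.range = P) : autOfHom F hφ hr ∈ F.autGroup P := by
  rw [mem_autGroup_iff F (source_le F hφ)]
  exact mem_of_forall_eq F hφ (fun x => rfl)

end Cfsg.Agent.Lib.Helper26
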