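import Cfsg.Agent.Lib.Helper26.FusionNormal
import Cfsg.Agent.Lib.Helper13.PResidual

set_option autoImplicit false

namespace Cfsg.Agent.Lib.Helper26

open Cfsg Cfsg.FusionSystem

variable {Ω : Type*} [Group Ω] {S : Subgroup Ω}

theorem conj_mem_of_le_normalizer {N : Subgroup Ω} (hnorm : S ≤ Subgroup.normalizer (N : Set Ω))
    {s n : Ω} (hs : s ∈ S) (hn : n ∈ N) : s * n * s⁻¹ ∈ N :=
  (Subgroup.mem_normalizer_iff.mp (hnorm hs) n).mp hn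

/-- the subsystem of maps `φ` of `F` with `φ x ∈ x^S · N` for all `x` -/
def cosetSystem (F : FusionSystem S) (N : Subgroup Ω)
    (hnorm : S ≤ Subgroup.normalizer (N : Set Ω)) : FusionSystem S where
  Hom P := {φ | φ ∈ F.Hom P ∧ ∀ x : P, ∃ s ∈ S, (s * (x : Ω) * s⁻¹)⁻¹ * φ x ∈ N}
  le_of_mem h := F.le_of_mem h.1
  injective_of_mem h := F.injective_of_mem h.1
  conj_mem := by
    intro P g hP hg
    refine ⟨F.conj_mem hP hg, fun x => ⟨g, hg, ?_⟩⟩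
    rw [conjHom_apply, inv_mul_cancel]
    exact N.one_mem
  comp_mem := by
    rintro P Q φ ψ ⟨hφ, hφN⟩ ⟨hψ, hψN⟩ h
    refine ⟨F.comp_mem hφ hψ h, fun x => ?_⟩
    obtain ⟨s, hs, hsn⟩ := hφN x
    obtain ⟨t, ht, htn⟩ := hψN ⟨φ x, h x⟩
    refine ⟨t * s, S.mul_mem ht hs, ?_⟩
    have e : (t * s * (x : Ω) * (t * s)⁻¹)⁻¹ * (ψ.comp (φ.codRestrict Q h)) x =
        (t * ((s * (x : Ω) * s⁻¹)⁻¹ * φ x)⁻¹ * t⁻¹)⁻¹⁻¹⁻¹ * ((t * φ x * t⁻¹)⁻¹ * ψ ⟨φ x, h x⟩) := by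
      show (t * s * (x : Ω) * (t * s)⁻¹)⁻¹ * ψ ⟨φ x, h x⟩ = _
      group
    rw [e, inv_inv]
    exact N.mul_mem (N.inv_mem (conj_mem_of_le_normalizer hnorm ht (N.inv_mem hsn))) htn
  inv_mem := by
    rintro P φ ⟨hφ, hφN⟩
    obtain ⟨ψ, hψ, hinv⟩ := F.inv_mem hφ
    refine ⟨ψ, ⟨hψ, ?_⟩, hinv⟩
    rintro ⟨_, ⟨x, rfl⟩⟩
    obtain ⟨s, hs, hsn⟩ := hφN x
    refine ⟨s⁻¹, S.inv_mem hs, ?_⟩
    rw [hinv x]
    have e : (s⁻¹ * φ x * s⁻¹⁻¹)⁻¹ * (x : Ω) =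
        s⁻¹ * ((s * (x : Ω) * s⁻¹)⁻¹ * φ x)⁻¹ * s⁻¹⁻¹ := by group
    show (s⁻¹ * φ x * s⁻¹⁻¹)⁻¹ * (x : Ω) ∈ N
    rw [e]
    exact conj_mem_of_le_normalizer hnorm (S.inv_mem hs) (N.inv_mem hsn)

theorem cosetSystem_le (F : FusionSystem S) (N : Subgroup Ω)
    (hnorm : S ≤ Subgroup.normalizer (N : Set Ω)) : cosetSystem F N hnorm ≤ F :=
  fun _ _ h => h.1

theorem gen_mem_hyperfocal (F : FusionSystem S) (p : ℕ) {P : Subgroup Ω} (hPS : P ≤ S)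
    (β : F.autGroup P) (hβ : β ∈ pResidual p (F.autGroup P)) (x : P) :
    (x : Ω)⁻¹ * (((β : MulAut P) x : P) : Ω) ∈ F.hyperfocalSubgroup p :=
  Subgroup.subset_closure ⟨P, β, x, hPS, hβ, rfl⟩

theorem autGroup_le_cosetSystem [Finite S] {p : ℕ} [Fact p.Prime] (F : FusionSystem S)
    (N : Subgroup Ω) (hnorm : S ≤ Subgroup.normalizer (N : Set Ω))
    (hN : F.hyperfocalSubgroup p ≤ N) {P : Subgroup Ω} (hPa : F.IsFullyAutomized p P) :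
    F.autGroup P ≤ (cosetSystem F N hnorm).autGroup P := by
  have hPS : P ≤ S := hPa.1
  have hfinP : Finite P := finite_of_le hPS
  obtain ⟨R, hR⟩ := hPa.2
  intro α hα
  obtain ⟨γ, hγ, β, hβ, hαeq⟩ :=
    Helper13.exists_mul_of_sylow_pResidual (R : Subgroup (F.autGroup P)) R.not_dvd_index ⟨α, hα⟩
  rw [hR, Subgroup.mem_subgroupOf] at hγ
  obtain ⟨s, hs, hsγ⟩ := mem_autInducedBy_iff.mp hγ
  rw [mem_autGroup_iff _ hPS]
  refine ⟨(mem_autGroup_iff F hPS).mp hα, fun x => ⟨s, hs, ?_⟩⟩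
  have h1 : α = (γ : MulAut P) * (β : MulAut P) := by
    have := congrArg Subtype.val hαeq
    exact this
  have h2 : (P.subtype.comp α.toMonoidHom) x = s * (((β : MulAut P) x : P) : Ω) * s⁻¹ := by
    show ((α x : P) : Ω) = _
    rw [h1, MulAut.mul_apply, hsγ]
  rw [h2]
  have e : (s * (x : Ω) * s⁻¹)⁻¹ * (s * (((β : MulAut P) x : P) : Ω) * s⁻¹) =
      s * ((x : Ω)⁻¹ * (((β : MulAut P) x : P) : Ω)) * s⁻¹ := by group
  rw [e]
  exact conj_mem_of_le_normalizer hnorm hs (hN (gen_mem_hyperfocal F p hPS β hβ x))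

theorem le_cosetSystem [Finite S] {p : ℕ} [Fact p.Prime] (hS : IsPGroup p S) (F : FusionSystem S)
    (hF : F.IsSaturated p) (N : Subgroup Ω) (hnorm : S ≤ Subgroup.normalizer (N : Set Ω))
    (hN : F.hyperfocalSubgroup p ≤ N) : F ≤ cosetSystem F N hnorm := by
  refine Cfsg.Agent.S5082.result p hS F hF _ ?_
  intro P hP
  apply autGroup_le_cosetSystem F N hnorm hN
  rcases hP with rfl | hess
  · exact (saturated_fullyNormalized hS F hF (top_fullyNormalized F)).2.1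
  · exact (saturated_fullyNormalized hS F hF hess.2.1).2.1

theorem hyperfocal_le (F : FusionSystem S) (p : ℕ) : F.hyperfocalSubgroup p ≤ S := by
  refine (Subgroup.closure_le _).mpr ?_
  rintro _ ⟨P, α, x, hPS, -, rfl⟩
  exact S.mul_mem (S.inv_mem (hPS x.2)) (hPS (((α : MulAut P) x : P)).2)

end Cfsg.Agent.Lib.Helper26
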