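import Cfsg.Agent.Lib.Helper26.FusionBasic

set_option autoImplicit false

namespace Cfsg.Agent.Lib.Helper26

open Cfsg Cfsg.FusionSystem

variable {Ω : Type*} [Group Ω] {S : Subgroup Ω}

theorem exists_max_nat {α : Type*} (s : Set α) (hs : s.Nonempty) (f : α → ℕ) (B : ℕ)
    (hB : ∀ a ∈ s, f a ≤ B) : ∃ a ∈ s, ∀ b ∈ s, f b ≤ f a := by
  by_contra hcon
  push Not at hcon
  have key : ∀ n : ℕ, ∃ a ∈ s, n ≤ f a := by
    intro n
    induction n with
    | zero =>
      obtain ⟨a, ha⟩ := hs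
      exact ⟨a, ha, Nat.zero_le _⟩
    | succ n ih =>
      obtain ⟨a, ha, hna⟩ := ih
      obtain ⟨b, hb, hab⟩ := hcon a ha
      exact ⟨b, hb, by omega⟩
  obtain ⟨a, ha, h⟩ := key (B + 1)
  have := hB a ha
  omega

theorem card_le_card_of_le_of_finite {K : Subgroup Ω} [Finite S] (h : K ≤ S) :
    Nat.card K ≤ Nat.card S :=
  Nat.card_le_card_of_injective (Subgroup.inclusion h) (Subgroup.inclusion_injective h)

theorem exists_fullyNormalized_conj (F : FusionSystem S) [Finite S] {P : Subgroup Ω} (hP : P ≤ S) :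
    ∃ Q, F.IsConj P Q ∧ F.IsFullyNormalized Q := by
  obtain ⟨Q, hQ, hmax⟩ := exists_max_nat {Q | F.IsConj P Q} ⟨P, isConj_refl F hP⟩
    (fun Q => Nat.card (normalizerIn S Q)) (Nat.card S)
    (fun Q _ => card_le_card_of_le_of_finite inf_le_left)
  refine ⟨Q, hQ, isConj_le_right F hQ, fun Q' hQ' => ?_⟩
  exact hmax Q' (isConj_trans F hQ hQ')

theorem exists_fullyCentralized_conj (F : FusionSystem S) [Finite S] {P : Subgroup Ω} (hP : P ≤ S) :
    ∃ Q, F.IsConj P Q ∧ F.IsFullyCentralized Q := by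
  obtain ⟨Q, hQ, hmax⟩ := exists_max_nat {Q | F.IsConj P Q} ⟨P, isConj_refl F hP⟩
    (fun Q => Nat.card (centralizerIn S Q)) (Nat.card S)
    (fun Q _ => card_le_card_of_le_of_finite inf_le_left)
  refine ⟨Q, hQ, isConj_le_right F hQ, fun Q' hQ' => ?_⟩
  exact hmax Q' (isConj_trans F hQ hQ')

end Cfsg.Agent.Lib.Helper26
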