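import Mathlib

set_option autoImplicit false

namespace Cfsg.Agent.Lib.Helper26

variable {G : Type*} [Group G]

/-- `K` (a subgroup of `G`, in use contained in `H`) is a Sylow `p`-subgroup of `H`. -/
def IsSylowIn (p : ℕ) (H K : Subgroup G) : Prop :=
  ∃ R : Sylow p ↥H, (R : Subgroup ↥H) = K.subgroupOf H

theorem card_subgroupOf_eq {H K : Subgroup G} (h : K ≤ H) : Nat.card (K.subgroupOf H) = Nat.card K :=
  Nat.card_congr (Subgroup.subgroupOfEquivOfLe h).toEquiv

theorem isPGroup_of_isSylowIn {p : ℕ} {H K : Subgroup G} (hKH : K ≤ H) (h : IsSylowIn p H K) :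
    IsPGroup p K := by
  obtain ⟨R, hR⟩ := h
  have h1 : IsPGroup p (K.subgroupOf H) := hR ▸ R.isPGroup'
  exact h1.of_equiv (Subgroup.subgroupOfEquivOfLe hKH)

theorem IsSylowIn.card_eq {p : ℕ} [Fact p.Prime] {H K : Subgroup G} [Finite H] (hKH : K ≤ H)
    (h : IsSylowIn p H K) : Nat.card K = p ^ (Nat.card H).factorization p := by
  obtain ⟨R, hR⟩ := h
  have := R.card_eq_multiplicity
  rw [← card_subgroupOf_eq hKH, ← hR]
  exact this

theorem isSylowIn_of_card {p : ℕ} [Fact p.Prime] {H K : Subgroup G} [Finite H] (hKH : K ≤ H)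
    (h : Nat.card K = p ^ (Nat.card H).factorization p) : IsSylowIn p H K := by
  have h' : Nat.card (K.subgroupOf H) = p ^ (Nat.card H).factorization p := by
    rw [card_subgroupOf_eq hKH, h]
  exact ⟨Sylow.ofCard (K.subgroupOf H) h', Sylow.coe_ofCard _ _⟩

theorem isSylowIn_iff_card {p : ℕ} [Fact p.Prime] {H K : Subgroup G} [Finite H] (hKH : K ≤ H) :
    IsSylowIn p H K ↔ Nat.card K = p ^ (Nat.card H).factorization p :=
  ⟨fun h => h.card_eq hKH, isSylowIn_of_card hKH⟩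

theorem card_le_of_isPGroup {p : ℕ} [Fact p.Prime] {H L : Subgroup G} [Finite H] (hLH : L ≤ H)
    (hL : IsPGroup p L) : Nat.card L ≤ p ^ (Nat.card H).factorization p := by
  have hfinL : Finite L := Finite.of_injective (Subgroup.inclusion hLH) (Subgroup.inclusion_injective _)
  obtain ⟨n, hn⟩ := hL.exists_card_eq
  have hdvd : Nat.card L ∣ Nat.card H := Subgroup.card_dvd_of_le hLH
  rw [hn] at hdvd ⊢
  have hp : p.Prime := Fact.out
  have hpos : Nat.card H ≠ 0 := Nat.card_pos.ne'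
  have : n ≤ (Nat.card H).factorization p := (hp.pow_dvd_iff_le_factorization hpos).mp hdvd
  exact Nat.pow_le_pow_right hp.pos this

theorem IsSylowIn.card_le {p : ℕ} [Fact p.Prime] {H K L : Subgroup G} [Finite H] (hKH : K ≤ H)
    (h : IsSylowIn p H K) (hLH : L ≤ H) (hL : IsPGroup p L) : Nat.card L ≤ Nat.card K := by
  rw [h.card_eq hKH]
  exact card_le_of_isPGroup hLH hL

theorem isSylowIn_of_forall_card_le {p : ℕ} [Fact p.Prime] {H K : Subgroup G} [Finite H] (hKH : K ≤ H)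
    (hK : IsPGroup p K)
    (h : ∀ L : Subgroup G, L ≤ H → IsPGroup p L → K ≤ L → Nat.card L ≤ Nat.card K) :
    IsSylowIn p H K := by
  have hK' : IsPGroup p (K.subgroupOf H) := hK.of_equiv (Subgroup.subgroupOfEquivOfLe hKH).symm
  obtain ⟨R, hR⟩ := hK'.exists_le_sylow
  refine ⟨R, ?_⟩
  have hfinR : Finite (R : Subgroup H) := inferInstance
  have hle : K ≤ (R : Subgroup H).map H.subtype := by
    intro x hx
    exact ⟨⟨x, hKH hx⟩, hR (Subgroup.mem_subgroupOf.mpr hx), rfl⟩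
  have hmapH : (R : Subgroup H).map H.subtype ≤ H := by
    rintro _ ⟨y, -, rfl⟩
    exact y.2
  have hmapP : IsPGroup p ((R : Subgroup H).map H.subtype) := R.isPGroup'.map _
  have hcard := h _ hmapH hmapP hle
  have hfin : Finite ((R : Subgroup H).map H.subtype) :=
    Finite.of_injective (Subgroup.inclusion hmapH) (Subgroup.inclusion_injective _)
  have heq : K = (R : Subgroup H).map H.subtype := by
    apply SetLike.coe_injective
    apply Set.eq_of_subset_of_ncard_le hle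
    · rw [← Nat.card_coe_set_eq, ← Nat.card_coe_set_eq]
      exact hcard
  rw [heq]
  ext y
  rw [Subgroup.mem_subgroupOf]
  constructor
  · intro hy
    exact ⟨y, hy, rfl⟩
  · rintro ⟨z, hz, hzy⟩
    have : z = y := Subtype.ext hzy
    exact this ▸ hz

theorem IsSylowIn.exists_conj_le {p : ℕ} [Fact p.Prime] {H K L : Subgroup G} [Finite H]
    (h : IsSylowIn p H K) (hLH : L ≤ H) (hL : IsPGroup p L) :
    ∃ g ∈ H, ∀ x ∈ L, g * x * g⁻¹ ∈ K := by
  obtain ⟨R, hR⟩ := h
  have hL' : IsPGroup p (L.subgroupOf H) := hL.of_equiv (Subgroup.subgroupOfEquivOfLe hLH).symm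
  obtain ⟨R', hR'⟩ := hL'.exists_le_sylow
  obtain ⟨g, hg⟩ := MulAction.exists_smul_eq H R' R
  refine ⟨g, g.2, fun x hx => ?_⟩
  have hx' : (⟨x, hLH hx⟩ : H) ∈ R' := hR' (Subgroup.mem_subgroupOf.mpr hx)
  have h2 : g * ⟨x, hLH hx⟩ * g⁻¹ ∈ (g • R' : Sylow p H) := by
    rw [← SetLike.mem_coe, Sylow.coe_smul]
    exact ⟨_, hx', rfl⟩
  rw [hg] at h2
  have h3 : g * ⟨x, hLH hx⟩ * g⁻¹ ∈ (R : Subgroup H) := h2
  rw [hR, Subgroup.mem_subgroupOf] at h3
  exact h3

end Cfsg.Agent.Lib.Helper26
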