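import Cfsg.Agent.Lib.Helper26.FusionAut
import Cfsg.Agent.Lib.Helper26.FusionFully
import Cfsg.Agent.Lib.Helper26.SylowAux

set_option autoImplicit false

namespace Cfsg.Agent.Lib.Helper26

open Cfsg Cfsg.FusionSystem

variable {Ω : Type*} [Group Ω] {S : Subgroup Ω}

/-- `e : Q ≃* P` is an isomorphism of the fusion system `F`. -/
def IsIso (F : FusionSystem S) {Q P : Subgroup Ω} (e : Q ≃* P) : Prop :=
  P.subtype.comp e.toMonoidHom ∈ F.Hom Q

theorem IsIso.source_le {F : FusionSystem S} {Q P : Subgroup Ω} {e : Q ≃* P} (h : IsIso F e) :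
    Q ≤ S := Cfsg.Agent.Lib.Helper26.source_le F h

theorem IsIso.target_le {F : FusionSystem S} {Q P : Subgroup Ω} {e : Q ≃* P} (h : IsIso F e) :
    P ≤ S := by
  intro y hy
  have := apply_mem F h (e.symm ⟨y, hy⟩)
  simpa using this

theorem range_subtype_comp_equiv {Q P : Subgroup Ω} (e : Q ≃* P) :
    (P.subtype.comp e.toMonoidHom).range = P := by
  ext z
  constructor
  · rintro ⟨x, rfl⟩
    exact (e x).2
  · intro hz
    exact ⟨e.symm ⟨z, hz⟩, by simp⟩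

theorem IsIso.isConj {F : FusionSystem S} {Q P : Subgroup Ω} {e : Q ≃* P} (h : IsIso F e) :
    F.IsConj Q P := ⟨_, h, range_subtype_comp_equiv e⟩

theorem exists_iso_of_isConj (F : FusionSystem S) {Q P : Subgroup Ω} (h : F.IsConj Q P) :
    ∃ e : Q ≃* P, IsIso F e := by
  obtain ⟨φ, hφ, hr⟩ := h
  have hmem : ∀ x : Q, φ x ∈ P := fun x => hr.le ⟨x, rfl⟩
  have hbij : Function.Bijective (φ.codRestrict P hmem) := by
    refine ⟨fun a b hab => F.injective_of_mem hφ (congrArg Subtype.val hab), fun y => ?_⟩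
    obtain ⟨x, hx⟩ := hr.ge y.2
    exact ⟨x, Subtype.ext hx⟩
  refine ⟨MulEquiv.ofBijective (φ.codRestrict P hmem) hbij, ?_⟩
  exact mem_of_forall_eq F hφ (fun x => rfl)

theorem IsIso.symm {F : FusionSystem S} {Q P : Subgroup Ω} {e : Q ≃* P} (h : IsIso F e) :
    IsIso F e.symm := by
  obtain ⟨ψ, hψ, -, hψ1, -⟩ := exists_inv F h (range_subtype_comp_equiv e)
  refine mem_of_forall_eq F hψ (fun y => ?_)
  have h1 := hψ1 (e.symm y) (by simp)
  have e1 : (⟨(P.subtype.comp e.toMonoidHom) (e.symm y), by simp⟩ : P) = y := by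
    apply Subtype.ext
    simp
  rw [e1] at h1
  rw [h1]
  rfl

theorem IsIso.trans {F : FusionSystem S} {Q P R : Subgroup Ω} {e₁ : Q ≃* P} {e₂ : P ≃* R}
    (h₁ : IsIso F e₁) (h₂ : IsIso F e₂) : IsIso F (e₁.trans e₂) := by
  have hm : ∀ x : Q, (P.subtype.comp e₁.toMonoidHom) x ∈ P := fun x => (e₁ x).2
  exact mem_of_forall_eq F (F.comp_mem h₁ h₂ hm) (fun x => rfl)

theorem isIso_refl (F : FusionSystem S) {P : Subgroup Ω} (hP : P ≤ S) : IsIso F (MulEquiv.refl P) :=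
  mem_of_forall_eq F (subtype_mem F hP) (fun _ => rfl)

theorem isIso_iff_mem_autGroup (F : FusionSystem S) {P : Subgroup Ω} (hP : P ≤ S) (α : MulAut P) :
    IsIso F α ↔ α ∈ F.autGroup P := (mem_autGroup_iff F hP).symm

theorem congr_mem_autGroup {F : FusionSystem S} {Q P : Subgroup Ω} {e : Q ≃* P} (h : IsIso F e)
    {α : MulAut Q} (hα : α ∈ F.autGroup Q) : MulAut.congr e α ∈ F.autGroup P := by
  rw [← isIso_iff_mem_autGroup F h.target_le]
  rw [← isIso_iff_mem_autGroup F h.source_le] at hα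
  exact h.symm.trans (hα.trans h)

theorem finite_of_le [Finite S] {P : Subgroup Ω} (hP : P ≤ S) : Finite P :=
  Finite.of_injective (Subgroup.inclusion hP) (Subgroup.inclusion_injective hP)

theorem isPGroup_autInducedBy {p : ℕ} (hS : IsPGroup p S) (P : Subgroup Ω) :
    IsPGroup p (autInducedBy S P) := by
  rw [autInducedBy_eq_map]
  exact (hS.comap_subtype).map _

theorem mem_normalizer_of_forall {P : Subgroup Ω} {g : Ω} (h1 : ∀ y ∈ P, g * y * g⁻¹ ∈ P)
    (h2 : ∀ y ∈ P, g⁻¹ * y * g ∈ P) : g ∈ Subgroup.normalizer (P : Set Ω) := by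
  rw [Subgroup.mem_normalizer_iff]
  intro y
  constructor
  · exact h1 y
  · intro hy
    have := h2 _ hy
    have e : g⁻¹ * (g * y * g⁻¹) * g = y := by group
    rwa [e] at this

/-- Key lemma (AKO I.2.6(c)): if `P` is fully automized and receptive and `Q` is `F`-conjugate to `P`,
some `F`-map `N_S(Q) → N_S(P)` sends `Q` onto `P`. -/
theorem exists_normalizer_hom [Finite S] {p : ℕ} [Fact p.Prime] (hS : IsPGroup p S)
    (F : FusionSystem S) {P Q : Subgroup Ω} (h₁ : F.IsFullyAutomized p P) (h₂ : F.IsReceptive P)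
    (hQ : F.IsConj Q P) :
    ∃ φ ∈ F.Hom (normalizerIn S Q), (∀ x, φ x ∈ normalizerIn S P) ∧
      (Q.subgroupOf (normalizerIn S Q)).map φ = P := by
  obtain ⟨e, he⟩ := exists_iso_of_isConj F hQ
  have hPS : P ≤ S := h₁.1
  have hQS : Q ≤ S := he.source_le
  have hfinP : Finite P := finite_of_le hPS
  have hsyl : IsSylowIn p (F.autGroup P) (autInducedBy S P) := h₁.2
  set T : Subgroup (MulAut P) := (autInducedBy S Q).map (MulAut.congr e).toMonoidHom with hT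
  have hTle : T ≤ F.autGroup P := by
    rintro _ ⟨α, hα, rfl⟩
    exact congr_mem_autGroup he (autInducedBy_le_autGroup F hQS hα)
  have hTp : IsPGroup p T := (isPGroup_autInducedBy hS Q).map _
  obtain ⟨α, hα, hconj⟩ := hsyl.exists_conj_le hTle hTp
  have hαiso : IsIso F α := (isIso_iff_mem_autGroup F hPS α).mpr hα
  have hφ₀ : IsIso F (e.trans α) := he.trans hαiso
  set φ₀ : Q →* Ω := P.subtype.comp (e.trans α).toMonoidHom with hφ₀def
  have hφ₀r : φ₀.range = P := range_subtype_comp_equiv _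
  have hNle : normalizerIn S Q ≤ extender S Q φ₀ := by
    rintro g ⟨hgS, hgN⟩
    have h1 : MulAut.congr e (conjAut Q g hgN) ∈ T :=
      ⟨_, conjAut_mem_autInducedBy hgS hgN, rfl⟩
    obtain ⟨h, hhS, hh⟩ := mem_autInducedBy_iff.mp (hconj _ h1)
    refine mem_extender_iff.mpr ⟨hgS, hgN, h, hhS, fun x => ?_⟩
    have h2 := hh (α (e x))
    have h3 : (α * (MulAut.congr e) (conjAut Q g hgN) * α⁻¹) (α (e x)) =
        α (e (conjAut Q g hgN x)) := by
      simp [MulAut.mul_apply]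
    rw [h3] at h2
    exact h2
  obtain ⟨χ, hχ, hχφ₀⟩ := h₂.2 Q φ₀ hφ₀ hφ₀r
  have hQN : Q ≤ normalizerIn S Q := le_inf hQS Subgroup.le_normalizer
  have hχQ : ∀ x : Q, χ ⟨x, hNle (hQN x.2)⟩ = φ₀ x := fun x => hχφ₀ x x.2 _
  refine ⟨χ.comp (Subgroup.inclusion hNle), restrict_mem F hχ hNle, ?_, ?_⟩
  · have himg : ∀ y ∈ P, ∃ x : Q, χ ⟨x, hNle (hQN x.2)⟩ = y := by
      intro y hy
      obtain ⟨x, hx⟩ := hφ₀r.ge hy
      exact ⟨x, (hχQ x).trans hx⟩
    have hconjmem : ∀ (n : ↥(normalizerIn S Q)), ∀ y ∈ P,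
        χ ⟨n, hNle n.2⟩ * y * (χ ⟨n, hNle n.2⟩)⁻¹ ∈ P := by
      intro n y hy
      obtain ⟨x, rfl⟩ := himg y hy
      have hx' : (n : Ω) * x * (n : Ω)⁻¹ ∈ Q := conj_mem_of_mem_normalizer n.2.2 x
      have : χ ⟨n, hNle n.2⟩ * χ ⟨x, hNle (hQN x.2)⟩ * (χ ⟨n, hNle n.2⟩)⁻¹ =
          χ ⟨(n : Ω) * x * (n : Ω)⁻¹, hNle (hQN hx')⟩ := by
        rw [← map_inv, ← map_mul, ← map_mul]
        rfl
      rw [this, hχQ ⟨_, hx'⟩]
      exact hφ₀r.le ⟨_, rfl⟩
    intro n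
    refine ⟨apply_mem F hχ _, ?_⟩
    refine mem_normalizer_of_forall (hconjmem n) (fun y hy => ?_)
    have := hconjmem n⁻¹ y hy
    have e2 : χ ⟨((n⁻¹ : ↥(normalizerIn S Q)) : Ω), hNle (n⁻¹).2⟩ = (χ ⟨n, hNle n.2⟩)⁻¹ := by
      rw [← map_inv]
      rfl
    rw [e2, inv_inv] at this
    exact this
  · ext z
    constructor
    · rintro ⟨x, hx, rfl⟩
      have hxQ : (x : Ω) ∈ Q := Subgroup.mem_subgroupOf.mp hx
      have := hχQ ⟨x, hxQ⟩
      show χ (Subgroup.inclusion hNle x) ∈ P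
      have e3 : Subgroup.inclusion hNle x = ⟨(x : Ω), hNle (hQN hxQ)⟩ := rfl
      rw [e3, this]
      exact hφ₀r.le ⟨_, rfl⟩
    · intro hz
      obtain ⟨x, hx⟩ := hφ₀r.ge hz
      refine ⟨⟨x, hQN x.2⟩, Subgroup.mem_subgroupOf.mpr x.2, ?_⟩
      rw [← hx, ← hχQ x]
      rfl

end Cfsg.Agent.Lib.Helper26
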