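import Mathlib
import Cfsg.Prelude.Def_Blocks
import Cfsg.Agent.Lib.Helper16.AP3
import Cfsg.Agent.Lib.Helper10.SLB.Defs

/-!
# SLB row L09 (cnt_UT_modEq), core (helper26): the statements of G06, L05, L08 are hypotheses.
-/

set_option autoImplicit false

open Polynomial

namespace Cfsg.Agent.Lib.Helper10.SLB

open Cfsg.Agent.Lib.Helper16.AP

universe u

section L

variable {F : Type u} [Field F]

/-- the characteristic polynomial of an element of `SL_n` lies in `polyT`. -/
theorem slbl09_charpoly_mem (n : ℕ) (x : Matrix.SpecialLinearGroup (Fin n) F) :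
    (x : Matrix (Fin n) (Fin n) F).charpoly ∈ polyT F n := by
  refine ⟨Matrix.charpoly_monic _, ?_, ?_⟩
  · rw [Matrix.charpoly_natDegree_eq_dim, Fintype.card_fin]
  · have h := Matrix.det_eq_sign_charpoly_coeff (x : Matrix (Fin n) (Fin n) F)
    rw [x.2, Fintype.card_fin] at h
    have h2 : ((-1 : F) ^ n) * ((-1 : F) ^ n) = 1 := by
      rw [← mul_pow]; simp
    calc (x : Matrix (Fin n) (Fin n) F).charpoly.coeff 0
        = ((-1 : F) ^ n * (-1 : F) ^ n) * (x : Matrix (Fin n) (Fin n) F).charpoly.coeff 0 := by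
          rw [h2, one_mul]
      _ = (-1 : F) ^ n * ((-1 : F) ^ n * (x : Matrix (Fin n) (Fin n) F).charpoly.coeff 0) := by
          ring
      _ = (-1 : F) ^ n := by rw [← h, mul_one]

/-- conjugate elements of `SL_n` have the same characteristic polynomial. -/
theorem slbl09_charpoly_conj (n : ℕ) (c y : Matrix.SpecialLinearGroup (Fin n) F) :
    ((c * y * c⁻¹ : Matrix.SpecialLinearGroup (Fin n) F) : Matrix (Fin n) (Fin n) F).charpoly =
      (y : Matrix (Fin n) (Fin n) F).charpoly := by
  rw [Matrix.SpecialLinearGroup.coe_mul, Matrix.SpecialLinearGroup.coe_mul, Matrix.mul_assoc,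
    Matrix.charpoly_mul_comm, Matrix.mul_assoc, ← Matrix.SpecialLinearGroup.coe_mul,
    inv_mul_cancel, Matrix.SpecialLinearGroup.coe_one, Matrix.mul_one]

/-- L09, core: `hG06`, `hL05`, `hL08` are the statements of rows G06, L05, L08 (at this `n`, `g`). -/
theorem slbl09_core [Fintype F] (p : ℕ) [Fact p.Prime] [CharP F p] (n : ℕ)
    (hG06 : ∀ C : ConjClasses (Matrix.SpecialLinearGroup (Fin n) F), Good p C → Adm p C.carrier)
    (g : Matrix.SpecialLinearGroup (Fin n) F)
    (hL05 : ∀ f f' : F[X], f ∈ polyT F n → f' ∈ polyT F n →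
      Nat.card {u : UT n F // ((u : Matrix.SpecialLinearGroup (Fin n) F) * g).1.charpoly = f} ≡
        Nat.card {u : UT n F // ((u : Matrix.SpecialLinearGroup (Fin n) F) * g).1.charpoly = f'}
          [MOD p])
    (hL08 : ∀ x y : Matrix.SpecialLinearGroup (Fin n) F, PFree p x →
      (y : Matrix (Fin n) (Fin n) F).charpoly = (x : Matrix (Fin n) (Fin n) F).charpoly → IsConj x y)
    (C C' : ConjClasses (Matrix.SpecialLinearGroup (Fin n) F)) (hC : Good p C) (hC' : Good p C') :
    cnt (UT n F) C.carrier g ≡ cnt (UT n F) C'.carrier g [MOD p] := by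
  have key : ∀ D : ConjClasses (Matrix.SpecialLinearGroup (Fin n) F), Good p D →
      ∃ x : Matrix.SpecialLinearGroup (Fin n) F,
        cnt (UT n F) D.carrier g =
          Nat.card {u : UT n F // ((u : Matrix.SpecialLinearGroup (Fin n) F) * g).1.charpoly =
            (x : Matrix (Fin n) (Fin n) F).charpoly} := by
    intro D hD
    have hadm := hG06 D hD
    obtain ⟨x, hxD, -, -⟩ := hD
    have hxfree : PFree p x := hadm.2 x hxD
    refine ⟨x, ?_⟩
    unfold cnt
    apply Nat.card_congr
    apply Equiv.subtypeEquivRight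
    intro s
    constructor
    · intro hy
      rw [ConjClasses.mem_carrier_iff_mk_eq] at hy hxD
      have hconj : IsConj ((s : Matrix.SpecialLinearGroup (Fin n) F) * g) x := by
        rw [← ConjClasses.mk_eq_mk_iff_isConj, hy, hxD]
      obtain ⟨c, hc⟩ := isConj_iff.mp hconj
      rw [← hc, slbl09_charpoly_conj]
    · intro hch
      have hconj := hL08 x ((s : Matrix.SpecialLinearGroup (Fin n) F) * g) hxfree hch
      rw [ConjClasses.mem_carrier_iff_mk_eq] at hxD ⊢
      rw [← hxD]
      exact (ConjClasses.mk_eq_mk_iff_isConj.mpr hconj).symm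
  obtain ⟨x, hx⟩ := key C hC
  obtain ⟨x', hx'⟩ := key C' hC'
  rw [hx, hx']
  exact hL05 _ _ (slbl09_charpoly_mem n x) (slbl09_charpoly_mem n x')

end L

end Cfsg.Agent.Lib.Helper10.SLB
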