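import Mathlib
import Cfsg.Agent.Lib.helper7.SPC.Defs

set_option autoImplicit false

/-!
# Project SPC, row G1 (helper26): `blkA k c` is a good triple for `k` even, `c ≠ 0`, `2 ≠ 0`.
-/

namespace Cfsg.Agent.Lib.helper7.SPC

universe u

open Module

variable {F : Type u} [Field F]

/-- powers of the shift matrix -/
theorem spcg1_shift_pow (k j : ℕ) (i l : Fin k) :
    ((shiftM k F) ^ j) i l = if i.val = l.val + j then 1 else 0 := by
  induction j generalizing i l with
  | zero => simp [Matrix.one_apply, Fin.ext_iff]
  | succ j ih =>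
    rw [pow_succ', Matrix.mul_apply]
    by_cases hi : 1 ≤ i.val
    · have hm : i.val - 1 < k := by have := i.isLt; omega
      rw [Finset.sum_eq_single (⟨i.val - 1, hm⟩ : Fin k)]
      · rw [ih]
        have h1 : shiftM k F i ⟨i.val - 1, hm⟩ = 1 := by
          unfold shiftM; simp; omega
        rw [h1, one_mul]
        by_cases h : i.val = l.val + (j + 1)
        · rw [if_pos h, if_pos]; simp; omega
        · rw [if_neg h, if_neg]; simp; omega
      · intro m _ hm'
        have h0 : shiftM k F i m = 0 := by
          unfold shiftM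
          rw [if_neg]
          intro h
          apply hm'
          apply Fin.ext
          simp; omega
        rw [h0, zero_mul]
      · intro h; exact absurd (Finset.mem_univ _) h
    · have hi0 : i.val = 0 := by omega
      rw [Finset.sum_eq_zero, if_neg (by omega)]
      intro m _
      have h0 : shiftM k F i m = 0 := by
        unfold shiftM
        rw [if_neg]; omega
      rw [h0, zero_mul]

theorem spcg1_shift_pow_self (k : ℕ) : (shiftM k F) ^ k = 0 := by
  ext i l
  rw [spcg1_shift_pow, if_neg]
  · rfl
  · have := i.isLt; omega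

theorem spcg1_toLin_pow {n : Type} [Fintype n] [DecidableEq n] (M : Matrix n n F) (j : ℕ) :
    (Matrix.toLin' M) ^ j = Matrix.toLin' (M ^ j) := by
  induction j with
  | zero => simp [Module.End.one_eq_id]
  | succ j ih => rw [pow_succ, pow_succ, ih, Matrix.toLin'_mul, Module.End.mul_eq_comp]

/-- the Gram matrix is antisymmetric for `k` even -/
theorem spcg1_gram_anti (k : ℕ) (c : F) (hk : Even k) (a b : Fin k) :
    gramA k c b a = - gramA k c a b := by
  unfold gramA
  by_cases h : a.val + b.val + 1 = k
  · have h' : b.val + a.val + 1 = k := by omega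
    rw [if_pos h, if_pos h']
    have hodd : Odd (a.val + b.val) := by
      obtain ⟨m, hm⟩ := hk
      exact ⟨m - 1, by omega⟩
    have : (-1 : F) ^ b.val = - (-1) ^ a.val := by
      rcases Nat.even_or_odd a.val with ha | ha
      · have hb : Odd b.val := by
          rcases Nat.even_or_odd b.val with hb | hb
          · exact absurd (ha.add hb) (Nat.not_even_iff_odd.mpr hodd)
          · exact hb
        rw [ha.neg_one_pow, hb.neg_one_pow]
      · have hb : Even b.val := by
          rcases Nat.even_or_odd b.val with hb | hb
          · exact hb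
          · exact absurd (ha.add_odd hb) (Nat.not_even_iff_odd.mpr hodd)
        rw [ha.neg_one_pow, hb.neg_one_pow]; simp
    rw [this]; ring
  · have h' : ¬ b.val + a.val + 1 = k := by omega
    rw [if_neg h, if_neg h']; simp

theorem spcg1_B_apply (k : ℕ) (c : F) (x y : Fin k → F) :
    (blkA k c).B x y = ∑ i, ∑ j, x i * gramA k c i j * y j := by
  show Matrix.toLinearMap₂' F (gramA k c) x y = _
  rw [Matrix.toLinearMap₂'_apply]
  refine Finset.sum_congr rfl fun i _ => Finset.sum_congr rfl fun j _ => ?_
  simp only [smul_eq_mul]; ring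

theorem spcg1_B_apply' (k : ℕ) (c : F) (x y : Fin k → F) :
    (blkA k c).B x y = x ⬝ᵥ (gramA k c).mulVec y := by
  show Matrix.toLinearMap₂' F (gramA k c) x y = _
  rw [Matrix.toLinearMap₂'_apply']

theorem spcg1_B_anti (k : ℕ) (c : F) (hk : Even k) (x y : Fin k → F) :
    (blkA k c).B y x = - (blkA k c).B x y := by
  rw [spcg1_B_apply, spcg1_B_apply, Finset.sum_comm, ← Finset.sum_neg_distrib]
  refine Finset.sum_congr rfl fun i _ => ?_
  rw [← Finset.sum_neg_distrib]
  refine Finset.sum_congr rfl fun j _ => ?_
  rw [spcg1_gram_anti k c hk i j]; ring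

theorem spcg1_sum_shift (k : ℕ) (f : Fin k → F) (a : Fin k) :
    ∑ i, shiftM k F i a * f i = if h : a.val + 1 < k then f ⟨a.val + 1, h⟩ else 0 := by
  by_cases h : a.val + 1 < k
  · rw [dif_pos h, Finset.sum_eq_single (⟨a.val + 1, h⟩ : Fin k)]
    · unfold shiftM; simp
    · intro i _ hi
      have h0 : shiftM k F i a = 0 := by
        unfold shiftM
        rw [if_neg]
        intro h'
        apply hi
        apply Fin.ext
        simpa using h'
      rw [h0, zero_mul]
    · intro h'; exact absurd (Finset.mem_univ _) h'
  · rw [dif_neg h]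
    apply Finset.sum_eq_zero
    intro i _
    have h0 : shiftM k F i a = 0 := by
      unfold shiftM
      rw [if_neg]
      have := i.isLt
      omega
    rw [h0, zero_mul]

theorem spcg1_skewM (k : ℕ) (c : F) :
    (shiftM k F).transpose * gramA k c = - (gramA k c * shiftM k F) := by
  ext a b
  rw [Matrix.neg_apply, Matrix.mul_apply, Matrix.mul_apply]
  have h1 : ∑ i, (shiftM k F).transpose a i * gramA k c i b
      = ∑ i, shiftM k F i a * (fun i => gramA k c i b) i := by
    refine Finset.sum_congr rfl fun i _ => ?_
    rw [Matrix.transpose_apply]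
  have h2 : ∑ j, gramA k c a j * shiftM k F j b
      = ∑ j, shiftM k F j b * (fun j => gramA k c a j) j := by
    refine Finset.sum_congr rfl fun j _ => ?_
    ring
  rw [h1, h2, spcg1_sum_shift, spcg1_sum_shift]
  have ha := a.isLt
  have hb := b.isLt
  unfold gramA
  by_cases hA : a.val + 1 < k
  · by_cases hB : b.val + 1 < k
    · rw [dif_pos hA, dif_pos hB]
      by_cases h : a.val + b.val + 2 = k
      · rw [if_pos (by simp; omega), if_pos (by simp; omega)]
        simp only [pow_succ]; ring
      · rw [if_neg (by simp; omega), if_neg (by simp; omega)]; simp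
    · rw [dif_pos hA, dif_neg hB, if_neg (by simp; omega)]; simp
  · by_cases hB : b.val + 1 < k
    · rw [dif_neg hA, dif_pos hB, if_neg (by simp; omega)]; simp
    · rw [dif_neg hA, dif_neg hB]; simp

theorem blkA_good (h2 : (2 : F) ≠ 0) (k : ℕ) (c : F) (hk : Even k) (hc : c ≠ 0) : (blkA k c).Good := by
  refine ⟨?_, ?_, ?_, ?_⟩
  · intro (x : Fin k → F)
    have h := spcg1_B_anti k c hk x x
    have h' : (2 : F) * (blkA k c).B x x = 0 := by linear_combination h
    rcases mul_eq_zero.mp h' with h0 | h0
    · exact absurd h0 h2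
    · exact h0
  · intro (x : Fin k → F) (hx : ∀ y : Fin k → F, (blkA k c).B x y = 0)
    funext a
    have hb : k - 1 - a.val < k := by have := a.isLt; omega
    have h := hx (Pi.single (⟨k - 1 - a.val, hb⟩ : Fin k) (1 : F) : Fin k → F)
    rw [spcg1_B_apply] at h
    have h1 : ∑ i, ∑ j, x i * gramA k c i j * (Pi.single (⟨k - 1 - a.val, hb⟩ : Fin k) (1 : F) : Fin k → F) j
        = x a * ((-1) ^ a.val * c) := by
      rw [Finset.sum_eq_single a]
      · rw [Finset.sum_eq_single (⟨k - 1 - a.val, hb⟩ : Fin k)]
        · rw [Pi.single_eq_same, mul_one]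
          unfold gramA
          rw [if_pos]
          have := a.isLt
          simp; omega
        · intro j _ hj
          rw [Pi.single_eq_of_ne hj, mul_zero]
        · intro h; exact absurd (Finset.mem_univ _) h
      · intro i _ hi
        apply Finset.sum_eq_zero
        intro j _
        by_cases hj : j = (⟨k - 1 - a.val, hb⟩ : Fin k)
        · subst hj
          have : gramA k c i ⟨k - 1 - a.val, hb⟩ = 0 := by
            unfold gramA
            rw [if_neg]
            intro h
            apply hi
            apply Fin.ext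
            have := a.isLt
            simp at h; omega
          rw [this]; ring
        · rw [Pi.single_eq_of_ne hj, mul_zero]
      · intro h; exact absurd (Finset.mem_univ _) h
    rw [h1] at h
    have hne : ((-1 : F) ^ a.val * c) ≠ 0 := mul_ne_zero (pow_ne_zero _ (by simp)) hc
    rcases mul_eq_zero.mp h with h0 | h0
    · exact h0
    · exact absurd h0 hne
  · intro (x : Fin k → F) (y : Fin k → F)
    show (blkA k c).B (Matrix.toLin' (shiftM k F) x) y = - (blkA k c).B x (Matrix.toLin' (shiftM k F) y)
    rw [spcg1_B_apply', spcg1_B_apply', Matrix.toLin'_apply, Matrix.toLin'_apply]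
    rw [← Matrix.vecMul_transpose, ← Matrix.dotProduct_mulVec, Matrix.mulVec_mulVec, Matrix.mulVec_mulVec,
      spcg1_skewM, Matrix.neg_mulVec, dotProduct_neg]
  · refine ⟨k, ?_⟩
    show (Matrix.toLin' (shiftM k F)) ^ k = 0
    rw [spcg1_toLin_pow, spcg1_shift_pow_self]
    simp

end Cfsg.Agent.Lib.helper7.SPC
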