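import Mathlib
import Cfsg.Agent.Lib.Helper10.TEM.Defs
import Cfsg.Agent.Lib.Helper26.TEMR1
import Cfsg.Agent.Lib.helper8.ChevFix1

/-!
# Project TEM (S2191, designer helper10), row F5 (verbatim): `gen_le`.
`twistedE6 = genSubgroup (e6Words K q)`; the generators are `X r t`, `t ∈ k`, `r ∈ [46, 25, 39, 32]` (in `M`) and
`XS q r t`, `r ∈ [56, 15, 42, 29]`.
-/

set_option autoImplicit false

namespace Cfsg.Agent.Lib.Helper10.TEM

open Cfsg.Lie Cfsg.Lie.ChevalleyDatum Matrix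
open Cfsg.Agent.Lib.helper8

universe u

variable {K : Type u} [Field K] {q : ℕ} {f : K ≃+* K} {M H : Subgroup (GG K)}

-- ROW F5  [S-M]
theorem gen_le (C : Ctx q f M H) (h : ∀ r ∈ [56, 15, 42, 29], ∀ t : K, XS q r t ∈ H) :
    twistedE6 K q ≤ H := by
  unfold twistedE6 ChevalleyDatum.genSubgroup
  rw [Subgroup.closure_le]
  rintro x ⟨w, hw, hxw⟩
  have hx' : x = h8wordU chevE6 hB w := Units.ext (hxw.trans (h8wordU_val chevE6 hB w).symm)
  rw [hx']
  rcases hw with ⟨t, ht, r, hr, rfl⟩ | ⟨t, rs, hrs, rfl⟩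
  · rw [h8wordU_one]
    have hr' : r ∈ [46, 25, 39, 32] := by
      simp only [e6p2, e6m2, e6p4, e6m4] at hr
      exact hr
    apply C.hMH
    rw [C.hM]
    refine ⟨h8twE6_x1 hB q r hr' t ht, ?_⟩
    rw [rat_iff C.hF, h8Psi_xU chevE6 hB hB]
    have : (f : K →+* K) t = t := by
      show f t = t
      rw [C.hF.pow, ht]
    rw [this]
  · have hrs' : (rs.1, rs.2) ∈ [(56, 36), (15, 35), (42, 37), (29, 34)] := by
      simp only [e6p1, e6p6, e6m1, e6m6, e6p3, e6p5, e6m3, e6m5] at hrs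
      exact hrs
    obtain ⟨h1, h2, h3, h4, h5, h6⟩ := h8twE6_fixdata.2 (rs.1, rs.2) hrs'
    simp only at h1 h2 h3 h4 h5 h6
    rw [h8wordU_two]
    have hmem : rs.1 ∈ [56, 15, 42, 29] := by
      simp only [List.mem_cons, List.not_mem_nil, or_false, Prod.mk.injEq] at hrs' ⊢
      rcases hrs' with ⟨e, -⟩ | ⟨e, -⟩ | ⟨e, -⟩ | ⟨e, -⟩ <;> simp [e]
    have := h rs.1 hmem t
    unfold XS X at this
    rw [h3, h5] at this
    simpa using this

end Cfsg.Agent.Lib.Helper10.TEM
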