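import Mathlib
import Cfsg.Agent.Lib.helper17.STM.Defs
import Cfsg.Agent.Lib.helper17.STM.Defs2
import Cfsg.Agent.Lib.Lead.STDB1

/-!
# Project STM (designer helper17; S2099), row H6 `hs_neg_one_eq` (helper26): CORE, with the statement of H4 `hs_eq_hh` as hypothesis
(port of `Helper16.STBH5core` `stbh6_core`).
-/

set_option autoImplicit false
set_option linter.unusedSectionVars false

namespace Cfsg.Agent.Lib.helper17.STM

open Cfsg.Agent.Lib.helper15.St2 Cfsg.Agent.Lib.helper3.STC Cfsg.Agent.Lib.Lead.STD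

universe v w

namespace SysM

variable {F : Type*} [Field F] {A B : F} [Fact (∀ r : F, r ^ 2 ≠ -B + A * r)] {ι : Type*} {G : Type*} [Group G] (S : SysM F A B ι G)

/-- H6 core: `h4` = statement of H4 `hs_eq_hh`. -/
theorem stmh6_core [Finite F]
    (h4 : ∀ {a b : ι ⊕ ι}, a ≠ b → a ≠ ng b → ∀ (t : F), t ≠ 0 →
      S.hs a (algebraMap F (Kq F A B) t) = S.h a b t * S.h a (ng b) t)
    {a b : ι ⊕ ι} (hab : a ≠ b) (hab' : a ≠ ng b) : S.hs a (-1) = S.hs b (-1) := by
  have hm1 : (-1 : F) ≠ 0 := neg_ne_zero.2 one_ne_zero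
  have hinv : (-1 : F)⁻¹ = -1 := by rw [inv_neg, inv_one]
  have hba : b ≠ a := fun e => hab e.symm
  have hba' : b ≠ ng a := fun e => hab' (by rw [e, ng_ng])
  have hone : (-1 : Kq F A B) = algebraMap F (Kq F A B) (-1) := by
    rw [map_neg, map_one]
  rw [hone, h4 hab hab' (-1) hm1, h4 hba hba' (-1) hm1]
  have e1 : S.h b a (-1) = S.h a b (-1) := by
    show S.toSysD.h b a (-1) = S.toSysD.h a b (-1)
    rw [S.toSysD.h_swap hab hab' (-1) hm1, hinv]
  have e2 : S.h b (ng a) (-1) = S.h a (ng b) (-1) := by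
    show S.toSysD.h b (ng a) (-1) = S.toSysD.h a (ng b) (-1)
    have hn : b ≠ ng (ng a) := by rw [ng_ng]; exact hba
    rw [S.toSysD.h_sym hba' hn (-1) hm1, ng_ng]
  rw [e1, e2]

end SysM

end Cfsg.Agent.Lib.helper17.STM
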