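import Mathlib
import Cfsg.Agent.Lib.helper17.STM.Defs
import Cfsg.Agent.Lib.helper17.STM.Defs2
import Cfsg.Agent.Lib.helper7.StC
import Cfsg.Agent.Lib.Lead.STDB1
import Cfsg.Agent.Lib.Helper16.STDH3

/-!
# Project STM (designer helper17; S2099), row A2 `Phat_decomp` (helper26): CORE (port of `Helper29.STBA1core` `stba2_core`).

`stma2_core S o hj hj' hN2p hmulh h3 h7 hsinv`: `Phat_decomp` from the STATEMENTS of N2p `Lg_cj_mem_Ag` (`hN2p`), A1 `ALTj_mul_h` (`hmulh`), H3 `h_ng_eq` at `(o, j)` (`h3`),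
H7 `hs_eq_h_mul_hs` at `(o, j)` (`h7`), H1 `hs_inv` at `o` (`hsinv`).  Everything else (STD `h_chain`, `h_inv`, `h_one`, `x_neg`; the membership facts of N1 / N1d; `xs_neg`; the inverses of the
generators) is proved here under own names `stma2_*`.  Also `stma2_mul_Ag` (= statement of A1 `ALTj_mul_Ag`) and `stma2_mul_Lg_core` (`ALTj_mul_Lg` from `hN2p`).
-/

set_option autoImplicit false
set_option linter.unusedSectionVars false

namespace Cfsg.Agent.Lib.helper17.STM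

open Cfsg.Agent.Lib.helper15.St2 Cfsg.Agent.Lib.helper7.St Cfsg.Agent.Lib.helper3.STC Cfsg.Agent.Lib.Lead.STD

universe v w

namespace SysM

variable {F : Type*} [Field F] {A B : F} [Fact (∀ r : F, r ^ 2 ≠ -B + A * r)] {ι : Type*} [DecidableEq ι] {G : Type*} [Group G] (S : SysM F A B ι G)

section A
variable (o : ι ⊕ ι)

omit S [DecidableEq ι] in
theorem stma2_ng_ng (a : ι ⊕ ι) : ng (ng a) = a := by cases a <;> rfl

omit [DecidableEq ι] in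
theorem stma2_xs_zero (a : ι ⊕ ι) : S.xs a 0 = 1 := by
  have h := S.adds a 0 0
  rw [add_zero] at h
  exact mul_eq_left.1 h

omit [DecidableEq ι] in
theorem stma2_xs_neg (a : ι ⊕ ι) (t : Kq F A B) : S.xs a (-t) = (S.xs a t)⁻¹ := by
  rw [eq_inv_iff_mul_eq_one, S.adds, neg_add_cancel, S.stma2_xs_zero]

omit [DecidableEq ι] in
theorem stma2_x_mem_Ag {b : ι ⊕ ι} (hob : o ≠ b) (hob' : o ≠ ng b) (t : F) : S.x o b t ∈ S.Ag o :=
  Subgroup.subset_closure (Or.inl ⟨o, b, t, hob, hob', rfl, rfl⟩)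

omit [DecidableEq ι] in
theorem stma2_x_mem_Ag' {a : ι ⊕ ι} (ha : a ≠ o) (ha' : a ≠ ng o) (t : F) : S.x a (ng o) t ∈ S.Ag o := by
  have h1 : a ≠ ng (ng o) := by rw [stma2_ng_ng]; exact ha
  rw [S.sym a (ng o) ha' h1 t, stma2_ng_ng]
  apply S.stma2_x_mem_Ag o
  · intro h
    apply ha'
    rw [h, stma2_ng_ng]
  · rw [stma2_ng_ng]
    exact Ne.symm ha

omit [DecidableEq ι] in
theorem stma2_xs_mem_Ag (t : Kq F A B) : S.xs o t ∈ S.Ag o :=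
  Subgroup.subset_closure (Or.inr ⟨o, t, rfl, rfl⟩)

omit [DecidableEq ι] in
theorem stma2_x_mem_Lg {a b : ι ⊕ ι} (hab : a ≠ b) (hab' : a ≠ ng b) (ha : a ≠ o) (ha' : a ≠ ng o) (hb : b ≠ o) (hb' : b ≠ ng o) (t : F) :
    S.x a b t ∈ S.Lg o :=
  Subgroup.subset_closure (Or.inl ⟨a, b, t, hab, hab', ⟨⟨ha, ha'⟩, ⟨hb, hb'⟩⟩, rfl⟩)

omit [DecidableEq ι] in
theorem stma2_xs_mem_Lg {a : ι ⊕ ι} (ha : a ≠ o) (ha' : a ≠ ng o) (t : Kq F A B) : S.xs a t ∈ S.Lg o :=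
  Subgroup.subset_closure (Or.inr ⟨a, t, ⟨ha, ha'⟩, rfl⟩)

omit [DecidableEq ι] in
theorem stma2_h_mem_Lg {a b : ι ⊕ ι} (hab : a ≠ b) (hab' : a ≠ ng b) (ha : a ≠ o) (ha' : a ≠ ng o) (hb : b ≠ o) (hb' : b ≠ ng o) (t : F) :
    S.h a b t ∈ S.Lg o := by
  have hba : b ≠ a := Ne.symm hab
  have hba' : b ≠ ng a := fun h => hab' (by rw [h, stma2_ng_ng])
  have hw : ∀ u : F, S.toSysD.w a b u ∈ S.Lg o := by
    intro u
    unfold SysD.w
    exact Subgroup.mul_mem _ (Subgroup.mul_mem _ (S.stma2_x_mem_Lg o hab hab' ha ha' hb hb' _)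
      (S.stma2_x_mem_Lg o hba hba' hb hb' ha ha' _)) (S.stma2_x_mem_Lg o hab hab' ha ha' hb hb' _)
  show S.toSysD.h a b t ∈ S.Lg o
  unfold SysD.h
  exact Subgroup.mul_mem _ (hw _) (hw _)

omit [DecidableEq ι] in
theorem stma2_hs_mem_Lg {a : ι ⊕ ι} (ha : a ≠ o) (ha' : a ≠ ng o) (t : Kq F A B) : S.hs a t ∈ S.Lg o := by
  have hn : ng a ≠ o := fun h => ha' (by rw [← h, stma2_ng_ng])
  have hn' : ng a ≠ ng o := fun h => ha (by rw [← stma2_ng_ng a, h, stma2_ng_ng])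
  have hw : ∀ u : Kq F A B, S.ws a u ∈ S.Lg o := by
    intro u
    unfold ws
    exact Subgroup.mul_mem _ (Subgroup.mul_mem _ (S.stma2_xs_mem_Lg o ha ha' _)
      (S.stma2_xs_mem_Lg o hn hn' _)) (S.stma2_xs_mem_Lg o ha ha' _)
  unfold hs
  exact Subgroup.mul_mem _ (hw _) (hw _)

omit [DecidableEq ι] in
/-- the statement of A1 `ALTj_mul_Ag` -/
theorem stma2_mul_Ag {j : ι ⊕ ι} {s g : G} (hs : s ∈ S.Ag o) (hg : g ∈ S.ALTj o j) : s * g ∈ S.ALTj o j := by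
  obtain ⟨a, ha, l, hl, c, hc, rfl⟩ := hg
  exact ⟨s * a, mul_mem hs ha, l, hl, c, hc, by group⟩

omit [DecidableEq ι] in
/-- A1 `ALTj_mul_Lg` from the statement of N2p `Lg_cj_mem_Ag` -/
theorem stma2_mul_Lg_core {j : ι ⊕ ι} {s g : G} (hN2p : ∀ z ∈ S.Lg o, ∀ y ∈ S.Ag o, cj z y ∈ S.Ag o)
    (hs : s ∈ S.Lg o) (hg : g ∈ S.ALTj o j) : s * g ∈ S.ALTj o j := by
  obtain ⟨a, ha, l, hl, c, hc, rfl⟩ := hg
  exact ⟨cj s a, hN2p s hs a ha, s * l, mul_mem hs hl, c, hc, by unfold cj; group⟩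

omit [DecidableEq ι] in
/-- the generating set of `XQ` is closed under inverses (own copy of X1 `XQ_gens_inv`) -/
theorem stma2_gens_inv (Q : ι ⊕ ι → ι ⊕ ι → Prop) (Qs : ι ⊕ ι → Prop) :
    ∀ s ∈ ({g | ∃ a b t, a ≠ b ∧ a ≠ ng b ∧ Q a b ∧ g = S.x a b t} ∪ {g | ∃ a t, Qs a ∧ g = S.xs a t} : Set G),
      s⁻¹ ∈ ({g | ∃ a b t, a ≠ b ∧ a ≠ ng b ∧ Q a b ∧ g = S.x a b t} ∪ {g | ∃ a t, Qs a ∧ g = S.xs a t} : Set G) := by
  rintro s (⟨a, b, t, hab, hab', hQ, rfl⟩ | ⟨a, t, hQ, rfl⟩)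
  · exact Or.inl ⟨a, b, -t, hab, hab', hQ, (S.toSysD.x_neg a b t).symm⟩
  · exact Or.inr ⟨a, -t, hQ, (S.stma2_xs_neg a t).symm⟩

/-- A2 core: `Phat_decomp` from the statements of N2p, A1 `ALTj_mul_h`, H3, H7, H1 `hs_inv`. -/
theorem stma2_core [Finite F] {j : ι ⊕ ι} (hj : j ≠ o) (hj' : j ≠ ng o)
    (hN2p : ∀ z ∈ S.Lg o, ∀ y ∈ S.Ag o, cj z y ∈ S.Ag o)
    (hmulh : ∀ {t : F}, t ≠ 0 → ∀ {g : G}, g ∈ S.ALTj o j → S.h o j t * g ∈ S.ALTj o j)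
    (h3 : ∀ t : F, t ≠ 0 → S.h o (ng j) t = S.h o j t * S.hs j (algebraMap F (Kq F A B) t))
    (h7 : ∀ u : Kq F A B, u ≠ 0 → S.hs o u = S.h o j (nm u) * S.hs j u)
    (hsinv : ∀ t : Kq F A B, t ≠ 0 → (S.hs o t)⁻¹ = S.hs o t⁻¹) :
    ∀ p ∈ S.Phat o, p ∈ S.ALTj o j := by
  intro p hp
  have ho1 : o ≠ j := Ne.symm hj
  have ho2 : o ≠ ng j := fun h => hj' (by rw [h, stma2_ng_ng])
  have hP : S.Phat o = Subgroup.closure
      (({g | ∃ a b t, a ≠ b ∧ a ≠ ng b ∧ (b ≠ o ∧ a ≠ ng o) ∧ g = S.x a b t} ∪ {g | ∃ a t, a ≠ ng o ∧ g = S.xs a t}) ∪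
        ({g | ∃ b t, b ≠ o ∧ b ≠ ng o ∧ t ≠ 0 ∧ g = S.h o b t} ∪ {g | ∃ t, t ≠ 0 ∧ g = S.hs o t})) := by
    rw [Subgroup.closure_union]
    rfl
  rw [hP] at hp
  revert p
  -- `h o (ng j) t * g`
  have key : ∀ (t : F), t ≠ 0 → ∀ g ∈ S.ALTj o j, S.h o (ng j) t * g ∈ S.ALTj o j := by
    intro t ht g hg
    rw [h3 t ht, mul_assoc]
    apply hmulh ht
    exact S.stma2_mul_Lg_core o hN2p (S.stma2_hs_mem_Lg o hj hj' _) hg
  refine closure_left_induction' (p := fun p => p ∈ S.ALTj o j) ?_ ?_ ?_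
  · rintro s (hs | ⟨b, t, hb, hb', ht, rfl⟩ | ⟨t, ht, rfl⟩)
    · exact Or.inl (S.stma2_gens_inv _ _ s hs)
    · have hob : o ≠ b := Ne.symm hb
      have hob' : o ≠ ng b := fun h => hb' (by rw [h, stma2_ng_ng])
      exact Or.inr (Or.inl ⟨b, t⁻¹, hb, hb', inv_ne_zero ht, S.toSysD.h_inv hob hob' t ht⟩)
    · exact Or.inr (Or.inr ⟨t⁻¹, inv_ne_zero ht, hsinv t ht⟩)
  · refine ⟨1, one_mem _, 1, one_mem _, 1, one_ne_zero, ?_⟩
    have e : S.h o j 1 = 1 := S.toSysD.h_one o j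
    rw [e]
    group
  · rintro s ((⟨a, b, t, hab, hab', ⟨hb, ha'⟩, rfl⟩ | ⟨a, t, ha', rfl⟩) |
      (⟨b, t, hb, hb', ht, rfl⟩ | ⟨t, ht, rfl⟩)) g hg
    · by_cases ha : a = o
      · subst ha
        exact S.stma2_mul_Ag a (S.stma2_x_mem_Ag a hab hab' t) hg
      by_cases hbo' : b = ng o
      · subst hbo'
        exact S.stma2_mul_Ag o (S.stma2_x_mem_Ag' o ha ha' t) hg
      · exact S.stma2_mul_Lg_core o hN2p (S.stma2_x_mem_Lg o hab hab' ha ha' hb hbo' t) hg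
    · by_cases ha : a = o
      · subst ha
        exact S.stma2_mul_Ag a (S.stma2_xs_mem_Ag a t) hg
      · exact S.stma2_mul_Lg_core o hN2p (S.stma2_xs_mem_Lg o ha ha' t) hg
    · by_cases hbj : b = j
      · subst hbj
        exact hmulh ht hg
      by_cases hbj' : b = ng j
      · subst hbj'
        exact key t ht g hg
      · have hob : o ≠ b := Ne.symm hb
        have hob' : o ≠ ng b := fun h => hb' (by rw [h, stma2_ng_ng])
        have hjb : j ≠ b := Ne.symm hbj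
        have hjb' : j ≠ ng b := fun h => hbj' (by rw [h, stma2_ng_ng])
        have e : S.h o b t = S.h o j t * S.h j b t := S.toSysD.h_chain hob hob' ho1 ho2 hjb hjb' t ht
        rw [e, mul_assoc]
        apply hmulh ht
        exact S.stma2_mul_Lg_core o hN2p (S.stma2_h_mem_Lg o hjb hjb' hj hj' hb hb' t) hg
    · rw [h7 t ht, mul_assoc]
      apply hmulh (nm_ne_zero ht)
      exact S.stma2_mul_Lg_core o hN2p (S.stma2_hs_mem_Lg o hj hj' t) hg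

end A

end SysM

end Cfsg.Agent.Lib.helper17.STM
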