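import Mathlib
import Cfsg.Agent.Lib.helper17.STM.Defs
import Cfsg.Agent.Lib.helper17.STM.Defs2
import Cfsg.Agent.Lib.Helper26.STMA2core
import Cfsg.Agent.Lib.Helper9.STMN2p
import Cfsg.Agent.Lib.Helper22.STMA1
import Cfsg.Agent.Lib.Helper20.STMH1
import Cfsg.Agent.Lib.Helper20.STMH2
import Cfsg.Agent.Lib.Helper22.STMH7

/-!
# Project STM (designer helper17; S2099), row A2 `Phat_decomp`, VERBATIM (helper26): wrapper of `stma2_core` on N2p `Lg_cj_mem_Ag`, A1 `ALTj_mul_h`, H3 `h_ng_eq`, H7 `hs_eq_h_mul_hs`, H1 `hs_inv`.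
-/

set_option autoImplicit false
set_option linter.unusedSectionVars false

namespace Cfsg.Agent.Lib.helper17.STM

open Cfsg.Agent.Lib.helper15.St2 Cfsg.Agent.Lib.helper3.STC Cfsg.Agent.Lib.Lead.STD

universe v w

namespace SysM

variable {F : Type*} [Field F] {A B : F} [Fact (∀ r : F, r ^ 2 ≠ -B + A * r)] {ι : Type*} [DecidableEq ι] {G : Type*} [Group G] (S : SysM F A B ι G)

section A
variable (o : ι ⊕ ι)

/-- A2 [M]  **the normal form, rank at least two**. -/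
theorem Phat_decomp [Finite F] {j : ι ⊕ ι} (hj : j ≠ o) (hj' : j ≠ ng o) : ∀ p ∈ S.Phat o, p ∈ S.ALTj o j :=
  have ho1 : o ≠ j := Ne.symm hj
  have ho2 : o ≠ ng j := fun h => hj' (by rw [h]; cases j <;> rfl)
  S.stma2_core o hj hj' (Lg_cj_mem_Ag S o) (fun ht _ hg => ALTj_mul_h S o hj hj' ht hg) (fun t ht => h_ng_eq S ho1 ho2 t ht)
    (fun u hu => hs_eq_h_mul_hs S ho1 ho2 u hu) (fun t ht => hs_inv S o t ht)

end A

end SysM

end Cfsg.Agent.Lib.helper17.STM
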