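import Mathlib
import Cfsg.Agent.Lib.helper17.STM.Defs
import Cfsg.Agent.Lib.helper17.STM.Defs2

/-!
# Project STM (designer helper17; S2099), row A4 `Phat_decomp_one` (helper26): CORE (port of `Helper11.STBA3`).
Hypotheses: `hone` = B3 `hs_one` at `o`, `hmul` / `hinv` = H1 `hs_mul` / `hs_inv` at `o`, `hAg` : the torus elements `hs o t` normalise `Ag o` (H2 `isMon_hs` + N3 `IsMon.cj_mem_Ag`).
Rank one: every signed index is `o` or `ng o` (`stma4_all`), there are no long roots (`stma4_no_long`), `Lg o = ⊥` (`stma4_Lg_bot`, own copy of A3).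
-/

set_option autoImplicit false
set_option linter.unusedSectionVars false

namespace Cfsg.Agent.Lib.helper17.STM

open Cfsg.Agent.Lib.helper15.St2 Cfsg.Agent.Lib.helper3.STC Cfsg.Agent.Lib.Lead.STD

universe v w

namespace SysM

variable {F : Type*} [Field F] {A B : F} [Fact (∀ r : F, r ^ 2 ≠ -B + A * r)] {ι : Type*} {G : Type*} [Group G] (S : SysM F A B ι G)

section A
variable (o : ι ⊕ ι)

omit S in
/-- rank one: every signed index is `o` or `ng o` -/
theorem stma4_all (hι : ∀ i : ι, i = ab o) (a : ι ⊕ ι) : a = o ∨ a = ng o := by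
  rcases a with i | i <;> rcases o with j | j
  · left; rw [hι i]; rfl
  · right; rw [hι i]; rfl
  · right; rw [hι i]; rfl
  · left; rw [hι i]; rfl

omit S in
/-- rank one: there are no long roots -/
theorem stma4_no_long (hι : ∀ i : ι, i = ab o) {a b : ι ⊕ ι} (hab : a ≠ b) (hab' : a ≠ ng b) : False := by
  rcases stma4_all o hι a with ha | ha <;> rcases stma4_all o hι b with hb | hb
  · exact hab (ha.trans hb.symm)
  · apply hab'
    have e : ng (ng o) = o := by cases o <;> rfl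
    rw [ha, hb, e]
  · apply hab'
    rw [ha, hb]
  · exact hab (ha.trans hb.symm)

/-- rank one: `Lg o` has no generators (own copy of A3 `Lg_eq_bot`). -/
theorem stma4_Lg_bot (hι : ∀ i : ι, i = ab o) : S.Lg o = ⊥ := by
  unfold Lg XQ
  rw [Subgroup.closure_eq_bot_iff]
  rintro g (⟨a, b, t, hab, hab', -, -⟩ | ⟨a, t, ⟨h1, h2⟩, -⟩)
  · exact (stma4_no_long o hι hab hab').elim
  · rcases stma4_all o hι a with ha | ha
    · exact (h1 ha).elim
    · exact (h2 ha).elim

/-- A4 core. -/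
theorem stma4_core (hι : ∀ i : ι, i = ab o)
    (hone : S.hs o 1 = 1)
    (hmul : ∀ t u : Kq F A B, t ≠ 0 → u ≠ 0 → S.hs o t * S.hs o u = S.hs o (t * u))
    (hinv : ∀ t : Kq F A B, t ≠ 0 → (S.hs o t)⁻¹ = S.hs o t⁻¹)
    (hAg : ∀ t : Kq F A B, t ≠ 0 → ∀ y ∈ S.Ag o, cj (S.hs o t) y ∈ S.Ag o) :
    ∀ p ∈ S.Phat o, p ∈ S.ALT o := by
  have h1 : (1 : G) ∈ S.ALT o :=
    ⟨1, one_mem _, 1, one_mem _, 1, one_ne_zero, by rw [hone, mul_one, mul_one]⟩
  have hA : ∀ s ∈ S.Ag o, ∀ g ∈ S.ALT o, s * g ∈ S.ALT o := by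
    rintro s hs g ⟨a, ha, l, hl, c, hc, rfl⟩
    exact ⟨s * a, mul_mem hs ha, l, hl, c, hc, by group⟩
  have hH : ∀ t : Kq F A B, t ≠ 0 → ∀ g ∈ S.ALT o, S.hs o t * g ∈ S.ALT o := by
    rintro t ht g ⟨a, ha, l, hl, c, hc, rfl⟩
    have hl1 : l = 1 := by
      rw [S.stma4_Lg_bot o hι] at hl
      exact Subgroup.mem_bot.1 hl
    subst hl1
    refine ⟨cj (S.hs o t) a, hAg t ht a ha, 1, one_mem _, t * c, mul_ne_zero ht hc, ?_⟩
    rw [← hmul t c ht hc]
    unfold cj
    group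
  have hxs : ∀ t : Kq F A B, S.xs o t ∈ S.Ag o := fun t =>
    Subgroup.subset_closure (Or.inr ⟨o, t, rfl, rfl⟩)
  intro p hp
  have hp' : p ∈ Subgroup.closure
      (({g | ∃ a b t, a ≠ b ∧ a ≠ ng b ∧ (b ≠ o ∧ a ≠ ng o) ∧ g = S.x a b t} ∪ {g | ∃ a t, a ≠ ng o ∧ g = S.xs a t}) ∪
        ({g | ∃ b t, b ≠ o ∧ b ≠ ng o ∧ t ≠ 0 ∧ g = S.h o b t} ∪ {g | ∃ t, t ≠ 0 ∧ g = S.hs o t}) : Set G) := by
    rw [Subgroup.closure_union]
    exact hp
  clear hp
  induction hp' using Subgroup.closure_induction_left with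
  | one => exact h1
  | mul_left x hx y _ ih =>
    rcases hx with (⟨a, b, t, hab, hab', -, -⟩ | ⟨a, t, ha, rfl⟩) | (⟨b, t, hb, hb', -, -⟩ | ⟨t, ht, rfl⟩)
    · exact (stma4_no_long o hι hab hab').elim
    · rcases stma4_all o hι a with ha' | ha'
      · subst ha'
        exact hA _ (hxs t) y ih
      · exact (ha ha').elim
    · rcases stma4_all o hι b with hb1 | hb1
      · exact (hb hb1).elim
      · exact (hb' hb1).elim
    · exact hH t ht y ih
  | inv_mul_cancel x hx y _ ih =>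
    rcases hx with (⟨a, b, t, hab, hab', -, -⟩ | ⟨a, t, ha, rfl⟩) | (⟨b, t, hb, hb', -, -⟩ | ⟨t, ht, rfl⟩)
    · exact (stma4_no_long o hι hab hab').elim
    · rcases stma4_all o hι a with ha' | ha'
      · subst ha'
        exact hA _ (inv_mem (hxs t)) y ih
      · exact (ha ha').elim
    · rcases stma4_all o hι b with hb1 | hb1
      · exact (hb hb1).elim
      · exact (hb' hb1).elim
    · rw [hinv t ht]
      exact hH t⁻¹ (inv_ne_zero ht) y ih

end A

end SysM

end Cfsg.Agent.Lib.helper17.STM
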