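import Mathlib
import Cfsg.Agent.Lib.helper17.STM.Defs
import Cfsg.Agent.Lib.helper17.STM.Defs2
import Cfsg.Agent.Lib.Helper26.STMA4core
import Cfsg.Agent.Lib.Helper21.STMB2
import Cfsg.Agent.Lib.Helper20.STMH1
import Cfsg.Agent.Lib.Helper20.STMH2
import Cfsg.Agent.Lib.Helper9.STMN3

/-!
# Project STM (designer helper17; S2099), row A4 `Phat_decomp_one`, VERBATIM (helper26): wrapper of `stma4_core` on B3 `hs_one`, H1 `hs_mul hs_inv`, H2 `isMon_hs`, N3 `IsMon.cj_mem_Ag`.
-/

set_option autoImplicit false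
set_option linter.unusedSectionVars false

namespace Cfsg.Agent.Lib.helper17.STM

open Cfsg.Agent.Lib.helper15.St2 Cfsg.Agent.Lib.helper3.STC Cfsg.Agent.Lib.Lead.STD

universe v w

namespace SysM

variable {F : Type*} [Field F] {A B : F} [Fact (∀ r : F, r ^ 2 ≠ -B + A * r)] {ι : Type*} [DecidableEq ι] {G : Type*} [Group G] (S : SysM F A B ι G)

section A
variable (o : ι ⊕ ι)

/-- A4 [M]  **the normal form, rank one**. -/
theorem Phat_decomp_one [Finite F] (hι : ∀ i : ι, i = ab o) : ∀ p ∈ S.Phat o, p ∈ S.ALT o :=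
  S.stma4_core o hι (hs_one S o) (fun t u ht hu => hs_mul S o t u ht hu) (fun t ht => hs_inv S o t ht)
    (fun t ht => IsMon.cj_mem_Ag S o (isMon_hs S o t ht) rfl)

end A

end SysM

end Cfsg.Agent.Lib.helper17.STM
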