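import Mathlib
import Cfsg.Prelude.Def_ChevStructure
import Cfsg.Prelude.Def_ChevG2
import Cfsg.Agent.Lib.helper14.G2T.Basic
import Cfsg.Agent.Lib.helper14.G2T.Long
import Cfsg.Agent.Lib.helper8.ChevFix1
import Cfsg.Agent.Lib.helper8.ChevFix4
import Cfsg.Agent.Lib.helper8.ChevCnt2
import Cfsg.Agent.Lib.helper8.ChevBNAll
import Cfsg.Agent.Lib.helper8.ChevBNAll2
import Cfsg.Agent.Lib.helper8.ChevBaseAll
import Cfsg.Agent.Lib.helper8.ChevOrdAll
import Cfsg.Agent.Lib.helper8.ChevReflAll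

/-!
# Project G2T, row B6 (N_fixed), verbatim statement.
-/

set_option autoImplicit false

namespace Cfsg.Agent.Lib.helper14.G2T

open Cfsg.Lie Cfsg.Lie.ChevalleyDatum Cfsg.Agent.Lib.helper8 Matrix

universe u v

section B

variable {E : Type u} [Field E]

theorem N_fixed (h : GL chevG2.Idx E) (χ : ℕ → E)
    (hact : ∀ r < 12, ∀ t : E, (h : Matrix chevG2.Idx chevG2.Idx E) * chevG2.x E r t =
      chevG2.x E r (χ r * t) * (h : Matrix chevG2.Idx chevG2.Idx E))
    (hχ0 : ∀ r < 12, χ r ≠ 0) (hinj : ∀ r < 12, ∀ r' < 12, χ r = χ r' → r = r')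
    (n : GL chevG2.Idx E) (hn : n ∈ chevG2.monomialSubgroup E) (hcomm : h * n = n * h) :
    n ∈ chevG2.diagonalSubgroup E := by
  have hD : chevG2 ∈ [chevG2, chevB2, chevD4, chevF4, chevE6, chevE7, chevE8] := by simp
  have hB := h8base_all.{u} chevG2 hD
  have hA := h8reflAll chevG2 hD
  have hBN := h8bn_all chevG2 hD
  have hW := h8bn2_all chevG2 hD
  have hO2 := (h8ord_all chevG2 hD).2
  obtain ⟨dep, par, horb⟩ := hBN.orb
  have hP : H8Perm chevG2 hB n := h8perm_N chevG2 hB hA dep par horb n hn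
  -- the action of `h` on the root elements, in `GL`
  have hactU : ∀ r < 12, ∀ t : E, h * h8xU chevG2 hB r t * h⁻¹ = h8xU chevG2 hB r (χ r * t) := by
    intro r hr t
    rw [mul_inv_eq_iff_eq_mul]
    apply Units.ext
    rw [Units.val_mul, Units.val_mul, h8xU_val, h8xU_val]
    exact hact r hr t
  have hfix : ∀ r : Fin chevG2.nroots, h8permOf chevG2 hB n hP r = r := by
    intro r
    obtain ⟨c, hc, hcr⟩ := h8permOf_act chevG2 hB n hP r
    set r' := h8permOf chevG2 hB n hP r with hr'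
    have hrlt : r.val < 12 := r.2
    have hr'lt : r'.val < 12 := r'.2
    have e1 : h * (n * h8xU chevG2 hB r.val 1 * n⁻¹) * h⁻¹ =
        h8xU chevG2 hB r'.val (χ r'.val * (c * 1)) := by
      rw [hcr, hactU r'.val hr'lt]
    have e2 : h * (n * h8xU chevG2 hB r.val 1 * n⁻¹) * h⁻¹ =
        h8xU chevG2 hB r'.val (c * (χ r.val * 1)) := by
      have : h * (n * h8xU chevG2 hB r.val 1 * n⁻¹) * h⁻¹ =
          (h * n) * h8xU chevG2 hB r.val 1 * (h * n)⁻¹ := by group
      rw [this, hcomm]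
      have : n * h * h8xU chevG2 hB r.val 1 * (n * h)⁻¹ =
          n * (h * h8xU chevG2 hB r.val 1 * h⁻¹) * n⁻¹ := by group
      rw [this, hactU r.val hrlt, hcr]
    have e3 := h8xU_inj_t chevG2 hB hA hW r'.val hr'lt _ _ (e1.symm.trans e2)
    have e4 : χ r'.val = χ r.val := by
      have : χ r'.val * c = χ r.val * c := by
        rw [mul_one, mul_one] at e3
        rw [e3, mul_comm]
      exact mul_right_cancel₀ hc this
    exact Fin.ext (hinj r'.val hr'lt r.val hrlt e4)
  apply h8perm_kernel chevG2 hB hA hBN hW hO2 n hn hP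
  unfold h8Ninv
  rw [Finset.card_eq_zero, Finset.filter_eq_empty_iff]
  intro r _
  rw [hfix r]
  exact fun hh => hh.2 hh.1

end B

end Cfsg.Agent.Lib.helper14.G2T
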