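import Mathlib
import Cfsg.Prelude.Def_ChevStructure
import Cfsg.Prelude.Def_ChevG2
import Cfsg.Agent.Lib.helper8.ChevBr4
import Cfsg.Agent.Lib.helper8.ChevBNAll
import Cfsg.Agent.Lib.helper8.ChevBNAll2
import Cfsg.Agent.Lib.helper8.ChevBaseAll
import Cfsg.Agent.Lib.helper8.ChevCommAll
import Cfsg.Agent.Lib.helper8.ChevOrdAll
import Cfsg.Agent.Lib.helper8.ChevReflAll

/-!
# Project G2T, row B7 (cent_regular): core version.

`g2tb7_core` is `cent_regular` with the statements of B5 (`U_fixed`) and B6 (`N_fixed`), for the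
given `h`, taken as hypotheses `hU`, `hN`.
-/

set_option autoImplicit false

namespace Cfsg.Agent.Lib.helper14.G2T

open Cfsg.Lie Cfsg.Lie.ChevalleyDatum Cfsg.Agent.Lib.helper8 Matrix

universe u

variable {E : Type u} [Field E]

theorem g2tb7_core (h : GL chevG2.Idx E) (hh' : h ∈ chevG2.diagonalSubgroup E)
    (hU : ∀ u : GL chevG2.Idx E, u ∈ chevG2.posUnipotent E → h * u = u * h → u = 1)
    (hN : ∀ n : GL chevG2.Idx E, n ∈ chevG2.monomialSubgroup E → h * n = n * h →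
      n ∈ chevG2.diagonalSubgroup E)
    (g : GL chevG2.Idx E) (hg : g ∈ chevG2.group E) (hcomm : h * g = g * h) :
    g ∈ chevG2.diagonalSubgroup E := by
  have hD : chevG2 ∈ [chevG2, chevB2, chevD4, chevF4, chevE6, chevE7, chevE8] := by simp
  have hB := h8base_all.{u} chevG2 hD
  have hA := h8reflAll chevG2 hD
  have hC := h8commAll.{u} chevG2 hD
  have hBN := h8bn_all chevG2 hD
  have hW := h8bn2_all chevG2 hD
  have hO := (h8ord_all chevG2 hD).1
  have hHN : chevG2.diagonalSubgroup E ≤ chevG2.monomialSubgroup E := by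
    unfold ChevalleyDatum.monomialSubgroup
    exact le_sup_left
  obtain ⟨b, hb, n, hn, u, hu, rfl⟩ := h8normal_exists chevG2 hB hA hC hBN hW hO g hg
  have hmemB : b ∈ ((chevG2.posUnipotent E ⊔ chevG2.diagonalSubgroup E :
      Subgroup (GL chevG2.Idx E)) : Set (GL chevG2.Idx E)) := hb
  rw [Subgroup.coe_mul_of_right_le_normalizer_left _ _ (h8_H_le_normalizer_U chevG2 hB)] at hmemB
  obtain ⟨u1, hu1, t, ht, rfl⟩ := hmemB
  have e : u1 * (t * n * 1) * u = (h * u1 * h⁻¹) * ((h * t) * n * h⁻¹) * (h * u * h⁻¹) := by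
    have e1 : (h * u1 * h⁻¹) * ((h * t) * n * h⁻¹) * (h * u * h⁻¹) =
        h * (u1 * t * n * u) * h⁻¹ := by group
    rw [e1, hcomm]
    group
  have huL : u ∈ Subgroup.closure (h8UmSet chevG2 E (t * n * 1)) :=
    Subgroup.closure_mono (h8UmSet_mono_H chevG2 hB n t 1 ht (Subgroup.one_mem _)) hu
  have hinv : h⁻¹ ∈ chevG2.diagonalSubgroup E := Subgroup.inv_mem _ hh'
  have huR : h * u * h⁻¹ ∈ Subgroup.closure (h8UmSet chevG2 E ((h * t) * n * h⁻¹)) :=
    Subgroup.closure_mono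
      (h8UmSet_mono_H chevG2 hB n (h * t) h⁻¹ (Subgroup.mul_mem _ hh' ht) hinv)
      (h8Um_conj_H chevG2 hB n h hh' u hu)
  have hu1R : h * u1 * h⁻¹ ∈ chevG2.posUnipotent E :=
    (Subgroup.mem_normalizer_iff.mp (h8_H_le_normalizer_U chevG2 hB hh') u1).mp hu1
  obtain ⟨hnn, hu1e, hue⟩ := h8normal_unique_strong chevG2 hB hA hC hBN u1 (h * u1 * h⁻¹)
    (t * n * 1) ((h * t) * n * h⁻¹) u (h * u * h⁻¹) hu1 hu1R
    (Subgroup.mul_mem _ (Subgroup.mul_mem _ (hHN ht) hn) (Subgroup.one_mem _))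
    (Subgroup.mul_mem _ (Subgroup.mul_mem _ (Subgroup.mul_mem _ (hHN hh') (hHN ht)) hn)
      (hHN hinv))
    huL huR e
  have c1 : h * u1 = u1 * h := by
    have : h * u1 = (h * u1 * h⁻¹) * h := by group
    rw [this, ← hu1e]
  have c2 : h * u = u * h := by
    have : h * u = (h * u * h⁻¹) * h := by group
    rw [this, ← hue]
  have c3 : h * (t * n) = (t * n) * h := by
    have : h * (t * n) = ((h * t) * n * h⁻¹) * h := by group
    rw [this, ← hnn]
    group
  have h1 : u1 = 1 := hU u1 hu1 c1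
  have h2 : u = 1 := hU u (h8Um_le_U chevG2 n hu) c2
  have h3 : t * n ∈ chevG2.diagonalSubgroup E :=
    hN (t * n) (Subgroup.mul_mem _ (hHN ht) hn) c3
  have : u1 * t * n * u = t * n := by rw [h1, h2]; group
  rw [this]
  exact h3

end Cfsg.Agent.Lib.helper14.G2T
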