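import Mathlib
import Cfsg.Prelude.Def_ChevStructure
import Cfsg.Prelude.Def_ChevG2
import Cfsg.Agent.Lib.helper14.G2T.Basic
import Cfsg.Agent.Lib.helper14.G2T.Long
import Cfsg.Agent.Lib.helper8.ChevFix1
import Cfsg.Agent.Lib.Helper26.G2TB7core
import Cfsg.Agent.Lib.Helper26.G2TB6
import Cfsg.Agent.Lib.Helper21.G2TB5

/-!
# Project G2T, row B7 (cent_regular), verbatim statement.
-/

set_option autoImplicit false

namespace Cfsg.Agent.Lib.helper14.G2T

open Cfsg.Lie Cfsg.Lie.ChevalleyDatum Cfsg.Agent.Lib.helper8 Matrix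

universe u v

section B

variable {E : Type u} [Field E]

theorem cent_regular (h : GL chevG2.Idx E) (hh' : h ∈ chevG2.diagonalSubgroup E) (χ : ℕ → E)
    (hact : ∀ r < 12, ∀ t : E, (h : Matrix chevG2.Idx chevG2.Idx E) * chevG2.x E r t =
      chevG2.x E r (χ r * t) * (h : Matrix chevG2.Idx chevG2.Idx E))
    (hχ0 : ∀ r < 12, χ r ≠ 0) (hχ1 : ∀ r < 12, χ r ≠ 1)
    (hinj : ∀ r < 12, ∀ r' < 12, χ r = χ r' → r = r')
    (g : GL chevG2.Idx E) (hg : g ∈ chevG2.group E) (hcomm : h * g = g * h) :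
    g ∈ chevG2.diagonalSubgroup E :=
  g2tb7_core h hh' (fun u hu hc => U_fixed h χ hact hχ1 u hu hc)
    (fun n hn hc => N_fixed h χ hact hχ0 hinj n hn hc) g hg hcomm

end B

end Cfsg.Agent.Lib.helper14.G2T
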