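import Mathlib
import Cfsg.Prelude.Def_ChevStructure
import Cfsg.Prelude.Def_ChevG2
import Cfsg.Agent.Lib.helper14.G2T.Basic
import Cfsg.Agent.Lib.helper14.G2T.Long
import Cfsg.Agent.Lib.helper8.ChevFix1
import Cfsg.Agent.Lib.helper8.ChevBaseAll
import Cfsg.Agent.Lib.Helper16.G2TC5

/-!
# Project G2T, row D5 (sigma_conj): core version.

`g2td5_core` is `sigma_conj` with the statement of B8 (`Phi_diag`) as a hypothesis.  B3 is not
needed: `hh c₀ c₁` is the matrix of `h8hU 7 c₀ * h8hU 6 c₁`, a product of two generators of the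
diagonal subgroup.
-/

set_option autoImplicit false

namespace Cfsg.Agent.Lib.helper14.G2T

open Cfsg.Lie Cfsg.Lie.ChevalleyDatum Cfsg.Agent.Lib.helper8 Matrix

universe u v

section B

variable {E : Type u} [Field E]

/-- `hh c₀ c₁` is (the matrix of) an element of the diagonal subgroup. -/
theorem g2td5_hh_mem (c0 c1 : E) (hc0 : c0 ≠ 0) (hc1 : c1 ≠ 0) :
    ∃ g : GL chevG2.Idx E, g ∈ chevG2.diagonalSubgroup E ∧
      (g : Matrix chevG2.Idx chevG2.Idx E) = hh c0 c1 := by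
  have hD : chevG2 ∈ [chevG2, chevB2, chevD4, chevF4, chevE6, chevE7, chevE8] := by simp
  have hB := h8base_all.{u} chevG2 hD
  refine ⟨h8hU chevG2 hB 7 c0 * h8hU chevG2 hB 6 c1, Subgroup.mul_mem _
    (h8hU_mem_H chevG2 hB 7 (by decide) c0 hc0) (h8hU_mem_H chevG2 hB 6 (by decide) c1 hc1), ?_⟩
  rw [Units.val_mul, h8hU_val, h8hU_val]
  rfl

end B

section D

variable {F : Type u} [Field F] [Fintype F] {E : Type v} [Field E] [Fintype E] [Algebra F E]

theorem g2td5_core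
    (hB8 : ∀ a b c : E, a * b * c = 1 →
      Phi (Matrix.diagonal ![a, b, c]) = hh (a * b) (a ^ 2 * b))
    (lam : E) (hlam : orderOf lam = Fintype.card F ^ 2 + Fintype.card F + 1)
    (s : Matrix.SpecialLinearGroup (Fin 3) F) (P : Matrix.SpecialLinearGroup (Fin 3) E)
    (hPs : (P : Matrix (Fin 3) (Fin 3) E) * (s : Matrix (Fin 3) (Fin 3) F).map (algebraMap F E) =
      Matrix.diagonal (lamD lam (Fintype.card F)) * (P : Matrix (Fin 3) (Fin 3) E))
    (σ : GL chevG2.Idx F)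
    (hσ : h8Psi chevG2 (algebraMap F E) σ =
      PhiGL (Matrix.SpecialLinearGroup.map (algebraMap F E) s)) :
    ∃ T₀ : GL chevG2.Idx E, T₀ ∈ chevG2.diagonalSubgroup E ∧
      (T₀ : Matrix chevG2.Idx chevG2.Idx E) =
        hh (lam * lam ^ Fintype.card F) (lam ^ 2 * lam ^ Fintype.card F) ∧
      PhiGL P * h8Psi chevG2 (algebraMap F E) σ * (PhiGL P)⁻¹ = T₀ := by
  obtain ⟨hlam0, hnorm, _⟩ := lam_basic (F := F) lam hlam
  have hq0 : lam ^ Fintype.card F ≠ 0 := pow_ne_zero _ hlam0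
  obtain ⟨T₀, hT₀, hT₀v⟩ := g2td5_hh_mem (lam * lam ^ Fintype.card F)
    (lam ^ 2 * lam ^ Fintype.card F) (mul_ne_zero hlam0 hq0)
    (mul_ne_zero (pow_ne_zero _ hlam0) hq0)
  refine ⟨T₀, hT₀, hT₀v, ?_⟩
  rw [hσ, ← map_inv, ← map_mul, ← map_mul]
  apply Units.ext
  rw [PhiGL_val, hT₀v, ← hB8 lam (lam ^ Fintype.card F) (lam ^ Fintype.card F ^ 2) hnorm]
  congr 1
  have hPinv : (P : Matrix (Fin 3) (Fin 3) E) *
      ((P⁻¹ : Matrix.SpecialLinearGroup (Fin 3) E) : Matrix (Fin 3) (Fin 3) E) = 1 := by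
    rw [← Matrix.SpecialLinearGroup.coe_mul, mul_inv_cancel, Matrix.SpecialLinearGroup.coe_one]
  have hdiag : Matrix.diagonal (lamD lam (Fintype.card F)) =
      Matrix.diagonal ![lam, lam ^ Fintype.card F, lam ^ Fintype.card F ^ 2] := by
    congr 1
    funext k
    fin_cases k <;> simp [lamD]
  rw [Matrix.SpecialLinearGroup.coe_mul, Matrix.SpecialLinearGroup.coe_mul]
  show (P : Matrix (Fin 3) (Fin 3) E) * (s : Matrix (Fin 3) (Fin 3) F).map (algebraMap F E) *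
    ((P⁻¹ : Matrix.SpecialLinearGroup (Fin 3) E) : Matrix (Fin 3) (Fin 3) E) = _
  rw [hPs, Matrix.mul_assoc, hPinv, Matrix.mul_one, hdiag]

end D

end Cfsg.Agent.Lib.helper14.G2T
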