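import Mathlib
import Cfsg.Prelude.Def_ChevStructure
import Cfsg.Prelude.Def_ChevG2
import Cfsg.Agent.Lib.helper14.G2T.Basic
import Cfsg.Agent.Lib.helper14.G2T.Long
import Cfsg.Agent.Lib.helper8.ChevFix1
import Cfsg.Agent.Lib.Helper26.G2TD5core
import Cfsg.Agent.Lib.helper14.G2TB8

/-!
# Project G2T, row D5 (sigma_conj), verbatim statement.
-/

set_option autoImplicit false

namespace Cfsg.Agent.Lib.helper14.G2T

open Cfsg.Lie Cfsg.Lie.ChevalleyDatum Cfsg.Agent.Lib.helper8 Matrix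

universe u v

section D

variable {F : Type u} [Field F] [Fintype F] {E : Type v} [Field E] [Fintype E] [Algebra F E]

theorem sigma_conj (lam : E) (hlam : orderOf lam = Fintype.card F ^ 2 + Fintype.card F + 1)
    (s : Matrix.SpecialLinearGroup (Fin 3) F) (P : Matrix.SpecialLinearGroup (Fin 3) E)
    (hPs : (P : Matrix (Fin 3) (Fin 3) E) * (s : Matrix (Fin 3) (Fin 3) F).map (algebraMap F E) =
      Matrix.diagonal (lamD lam (Fintype.card F)) * (P : Matrix (Fin 3) (Fin 3) E))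
    (σ : GL chevG2.Idx F)
    (hσ : h8Psi chevG2 (algebraMap F E) σ =
      PhiGL (Matrix.SpecialLinearGroup.map (algebraMap F E) s)) :
    ∃ T₀ : GL chevG2.Idx E, T₀ ∈ chevG2.diagonalSubgroup E ∧
      (T₀ : Matrix chevG2.Idx chevG2.Idx E) =
        hh (lam * lam ^ Fintype.card F) (lam ^ 2 * lam ^ Fintype.card F) ∧
      PhiGL P * h8Psi chevG2 (algebraMap F E) σ * (PhiGL P)⁻¹ = T₀ :=
  g2td5_core (fun a b c h => Phi_diag a b c h) lam hlam s P hPs σ hσ

end D

end Cfsg.Agent.Lib.helper14.G2T
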