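import Mathlib
import Cfsg.Prelude.Def_Classical
import Cfsg.Agent.Lib.helper23.P4V.Defs

/-!
# P4V row P1 (order_xS), second writer helper26, own names.

NOTE: the Skel statement (no finiteness hypothesis) is false over infinite fields
(`F = 𝔽_p(t)`, `τ = 1`, `ν = t`: `orderOf = 0`); this is the version with `[Finite F]`.
-/

set_option autoImplicit false

namespace Cfsg.Agent.Lib.helper23.P4V

open Matrix

universe u

section Field

variable {F : Type u} [Field F]

theorem p4vp1_cmp_sq (τ ν : F) : cmp τ ν * cmp τ ν = τ • cmp τ ν - ν • (1 : M2 F) := by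
  unfold cmp
  ext i j
  fin_cases i <;> fin_cases j <;> simp [Matrix.mul_apply, Fin.sum_univ_two] <;> ring

theorem p4vp1_pow_span (τ ν : F) (k : ℕ) :
    ∃ α β : F, cmp τ ν ^ k = α • (1 : M2 F) + β • cmp τ ν := by
  induction k with
  | zero => exact ⟨1, 0, by simp⟩
  | succ k ih =>
    obtain ⟨α, β, h⟩ := ih
    refine ⟨-(β * ν), α + β * τ, ?_⟩
    rw [pow_succ, h, add_mul, smul_mul_assoc, smul_mul_assoc, one_mul, p4vp1_cmp_sq]
    rw [smul_sub, smul_smul, smul_smul, add_smul, neg_smul]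
    abel

theorem p4vp1_lvM_pow (A : M2 F) (k : ℕ) :
    lvM A ^ k = Matrix.fromBlocks (A ^ k) 0 0 (((A⁻¹)ᵀ) ^ k) := by
  induction k with
  | zero => simp [Matrix.fromBlocks_one]
  | succ k ih =>
    rw [pow_succ, ih, lvM, Matrix.fromBlocks_multiply]
    simp [pow_succ]

theorem p4vp1_det (τ ν α β : F) :
    (α • (1 : M2 F) + β • cmp τ ν - 1).det =
      (α - 1) ^ 2 + (α - 1) * β * τ + β ^ 2 * ν := by
  unfold cmp
  rw [Matrix.det_fin_two]
  simp
  ring

theorem p4vp1_h26_order_xS [Finite F] (p : ℕ) [Fact p.Prime] [CharP F p] (τ ν : F)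
    (hG : Good τ ν) : ¬ p ∣ orderOf (xS τ ν hG.nu_ne_zero) := by
  classical
  intro hdvd
  set x := xS τ ν hG.nu_ne_zero with hx
  obtain ⟨k, hk⟩ := hdvd
  have hfin : Finite (Sp4 F) := by
    have : Finite (M4 F) := inferInstance
    exact Subtype.finite
  have hn : 0 < orderOf x := orderOf_pos x
  have hk0 : 0 < k := by
    rcases Nat.eq_zero_or_pos k with h | h
    · rw [h, mul_zero] at hk; omega
    · exact h
  have hp2 : 2 ≤ p := (Fact.out : p.Prime).two_le
  -- the matrix powers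
  have hcoe : ∀ m : ℕ, ((x ^ m : Sp4 F) : M4 F) = lvM (cmp τ ν) ^ m := by
    intro m
    rw [SubmonoidClass.coe_pow]
    rfl
  have hAn : cmp τ ν ^ orderOf x = 1 := by
    have h1 : ((x ^ orderOf x : Sp4 F) : M4 F) = 1 := by
      rw [pow_orderOf_eq_one]; rfl
    rw [hcoe, p4vp1_lvM_pow, ← Matrix.fromBlocks_one, Matrix.fromBlocks_inj] at h1
    exact h1.1
  obtain ⟨α, β, hM⟩ := p4vp1_pow_span τ ν k
  have hMp : (cmp τ ν ^ k) ^ p = 1 := by
    rw [← pow_mul, mul_comm, ← hk, hAn]
  have hnil : (cmp τ ν ^ k - 1) ^ p = 0 := by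
    rw [sub_pow_char_of_commute p (Commute.one_right _), hMp, one_pow, sub_self]
  have hdet : (cmp τ ν ^ k - 1).det = 0 := by
    have := congrArg Matrix.det hnil
    rw [Matrix.det_pow, Matrix.det_zero] at this
    exact pow_eq_zero_iff (Nat.pos_of_ne_zero (by omega)).ne' |>.mp this
  rw [hM, p4vp1_det] at hdet
  have hβ : β = 0 := by
    by_contra hβ
    apply hG.2.2 (-(α - 1) / β)
    field_simp
    linear_combination hdet
  rw [hβ] at hdet
  have hα : α = 1 := by
    have : (α - 1) ^ 2 = 0 := by linear_combination hdet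
    have := pow_eq_zero_iff (two_ne_zero) |>.mp this
    linear_combination this
  have hAk : cmp τ ν ^ k = 1 := by
    rw [hM, hβ, hα]; simp
  -- hence x ^ k = 1
  have hxk : x ^ k = 1 := by
    apply Subtype.ext
    rw [hcoe, p4vp1_lvM_pow, hAk]
    have : ((cmp τ ν)⁻¹)ᵀ ^ k = 1 := by
      rw [← Matrix.transpose_pow, Matrix.inv_pow', hAk, inv_one, Matrix.transpose_one]
    rw [this, Matrix.fromBlocks_one]
    rfl
  have := Nat.le_of_dvd hk0 (orderOf_dvd_of_pow_eq_one hxk)
  rw [hk] at this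
  nlinarith

/-- **P1** (corrected statement: `[Fintype F]` added, as agreed with helper23/helper28; the Skel
version without finiteness is false over `𝔽_p(t)`). -/
theorem order_xS [Fintype F] (p : ℕ) [Fact p.Prime] [CharP F p] (τ ν : F) (hG : Good τ ν) :
    ¬ p ∣ orderOf (xS τ ν hG.nu_ne_zero) :=
  p4vp1_h26_order_xS p τ ν hG

end Field

end Cfsg.Agent.Lib.helper23.P4V
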