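import Mathlib
import Cfsg.Agent.Lib.Helper20.GLE.Defs

/-!
Project GLE (designer helper20; block of PSU, S2291) row Λ0 (`lam_ext lam_c_skew lam_ratio_fixed d0l_even d0h_even exists_lam_ratio`),
VERBATIM vs `Helper20/GLE/SkelA.lean.txt`.
-/

set_option autoImplicit false

namespace Cfsg.Agent.Lib.Helper20.GLE

open Cfsg.Agent.Lib.helper3.STC (ng ab)
open Cfsg.Agent.Lib.helper3.SPM (Pts pe sgm sn sig2 ptsFin pe2)
open Cfsg.Agent.Lib.Helper27.STU
open Cfsg.Agent.Lib.helper17.SLP (cm)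

universe u v w x v' y

section lam
variable {F : Type u} [Field F] [StarRing F]

/-- Λ0 [S]  `Lam F False`: `ξ.v = 0` (`ξ.hv`), so `ξ.h` reads `star ξ.c = -ξ.c`; `Lam.ext`. -/
theorem lam_ext {ξ η : Lam F False} (h : ξ.c = η.c) : ξ = η := by
  apply Lam.ext
  · rw [ξ.hv not_false, η.hv not_false]
  · exact h

theorem lam_c_skew (ξ : Lam F False) : star ξ.c = -ξ.c := by
  have h := ξ.h
  rw [ξ.hv not_false, zero_mul, add_zero] at h
  linear_combination h

theorem lam_ratio_fixed (ξ η : Lam F False) : star (ξ.c / η.c) = ξ.c / η.c := by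
  rw [star_div₀, lam_c_skew, lam_c_skew, neg_div_neg_eq]

theorem d0l_even {ξ : Lam F False} (hc : ξ.c ≠ 0) : d0l ξ = 1 := by
  unfold d0l
  rw [lam_c_skew, neg_div, neg_neg, div_self hc]

theorem d0h_even {ξ η : Lam F False} (hξ : ξ.c ≠ 0) (hη : η.c ≠ 0) : d0h (ξ.c / η.c) = 1 := by
  unfold d0h
  rw [lam_ratio_fixed, div_self (div_ne_zero hξ hη)]

/-- every non zero element of the fixed field is the ratio of two long parameters: `θ` skew non zero (`hF.ex_skew`), `η = (0, θ)`, `ξ = (0, r θ)`. -/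
theorem exists_lam_ratio (hF : Hyp F) {r : F} (hr : star r = r) (hr0 : r ≠ 0) :
    ∃ ξ η : Lam F False, ξ.c ≠ 0 ∧ η.c ≠ 0 ∧ ξ.c / η.c = r := by
  obtain ⟨θ, hθ0, hθ⟩ := hF.ex_skew
  refine ⟨⟨0, r * θ, ?_, fun _ => rfl⟩, ⟨0, θ, ?_, fun _ => rfl⟩, mul_ne_zero hr0 hθ0, hθ0, ?_⟩
  · rw [star_mul', hr, hθ, zero_mul, add_zero]
    ring
  · rw [hθ, zero_mul, add_zero]
    ring
  · exact mul_div_cancel_right₀ r hθ0

end lam

end Cfsg.Agent.Lib.Helper20.GLE
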