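import Mathlib
import Cfsg.Agent.Lib.Helper20.GLO.Defs
import Cfsg.Agent.Lib.Helper24.STCI1
import Cfsg.Agent.Lib.Helper11.STUX1

/-!
# GLO row T2 (helper26): `xrl_mem_LB wrl_mem_LB hrl_mem_LB LB_le` (port of GLE T2, `Helper24/GLET1.lean`; `LB_le` is new).
-/

set_option autoImplicit false
set_option linter.unusedSectionVars false

namespace Cfsg.Agent.Lib.Helper20.GLO

open Cfsg.Agent.Lib.helper3.STC (ng ab)
open Cfsg.Agent.Lib.helper3.SPM (Pts pe sgm sn sig2 ptsFin pe2)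
open Cfsg.Agent.Lib.Helper27.STU
open Cfsg.Agent.Lib.helper17.SLP (cm)
open Cfsg.Agent.Lib.Helper20.GLE (lamC lamP)

universe u v w x v' y

section main
variable {F : Type u} [Field F] [StarRing F] {L : Type x} [Group L] {ι : Type w} [Fintype ι] [DecidableEq ι] {G : Type v} [Group G]
  (S₂ : SysU F True (Fin 2) L) (swL : L) (p : Pts ι) (ν : Equiv.Perm ι →* G) (lam : L →* G)

omit [Fintype ι] [DecidableEq ι] in
theorem glot2_xl_mem_B1 (a : ι ⊕ ι) (ξ : Lam F True) : S₂.xl (sn a 1) ξ ∈ B1 S₂ := by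
  refine Subgroup.subset_closure (Or.inr ⟨sn a 1, ξ, ⟨?_, ?_⟩, rfl⟩)
  · cases a <;> rfl
  · cases a <;> rfl

theorem xrl_mem_LB (a : ι ⊕ ι) (ξ : Lam F True) : xrl S₂ p ν lam a ξ ∈ LB S₂ p ν lam (ab a) := by
  unfold xrl LB
  exact Subgroup.mem_map_of_mem _ (glot2_xl_mem_B1 S₂ a ξ)

omit [Fintype ι] in
theorem glot2_xrl_mem_LB' (a : ι ⊕ ι) (ξ : Lam F True) : xrl S₂ p ν lam (ng a) ξ ∈ LB S₂ p ν lam (ab a) := by
  have h : xrl S₂ p ν lam (ng a) ξ ∈ LB S₂ p ν lam (ab (ng a)) := by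
    unfold xrl LB
    exact Subgroup.mem_map_of_mem _ (glot2_xl_mem_B1 S₂ (ng a) ξ)
  rw [Cfsg.Agent.Lib.helper3.STC.ab_ng] at h
  exact h

theorem wrl_mem_LB (a : ι ⊕ ι) (ξ : Lam F True) : wrl S₂ p ν lam a ξ ∈ LB S₂ p ν lam (ab a) := by
  unfold wrl
  exact Subgroup.mul_mem _ (Subgroup.mul_mem _ (xrl_mem_LB S₂ p ν lam a ξ) (glot2_xrl_mem_LB' S₂ p ν lam a _))
    (xrl_mem_LB S₂ p ν lam a _)

theorem hrl_mem_LB (a : ι ⊕ ι) (ξ η : Lam F True) : hrl S₂ p ν lam a ξ η ∈ LB S₂ p ν lam (ab a) := by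
  unfold hrl
  exact Subgroup.mul_mem _ (wrl_mem_LB S₂ p ν lam a ξ) (Subgroup.inv_mem _ (wrl_mem_LB S₂ p ν lam a η))

theorem LB_le {k : ι} {K : Subgroup G} (h : ∀ a ξ, ab a = k → xrl S₂ p ν lam a ξ ∈ K) : LB S₂ p ν lam k ≤ K := by
  unfold LB B1
  rw [Subgroup.map_le_iff_le_comap]
  refine SysU.XQ_le S₂ ?_ ?_
  · rintro a b t hab hab' ⟨ha, hb⟩
    exfalso
    rcases Cfsg.Agent.Lib.helper3.STC.ab_eq_iff.1 (ha.trans hb.symm) with e | e
    · exact hab e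
    · exact hab' e
  · rintro a ξ ⟨ha, _⟩
    rw [Subgroup.mem_comap]
    rcases a with i | i
    · have hi : i = 1 := ha
      subst hi
      have := h (Sum.inl k) ξ rfl
      unfold xrl at this
      exact this
    · have hi : i = 1 := ha
      subst hi
      have := h (Sum.inr k) ξ rfl
      unfold xrl at this
      exact this

end main

end Cfsg.Agent.Lib.Helper20.GLO
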