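import Mathlib
import Cfsg.Prelude.Def_Classical
import Cfsg.Agent.Lib.Helper19.SO8.Defs
import Cfsg.Agent.Lib.Helper16.SpinG2

set_option autoImplicit false

/-!
# Project SO8, row C5 (helper26): the reverse of an irreducible polynomial with non-zero constant coefficient.
-/

namespace Cfsg.Agent.Lib.Helper19.SO8

open Polynomial Cfsg.Agent.Lib.Helper13.OTS

/-- a polynomial of degree `0` with non-zero constant coefficient over a field is a unit -/
theorem so8c5_unit {F : Type*} [Field F] (p : F[X]) (hp : p.natDegree = 0) (h0 : p.coeff 0 ≠ 0) :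
    IsUnit p := by
  rw [eq_C_of_natDegree_eq_zero hp]
  exact isUnit_C.mpr (isUnit_iff_ne_zero.mpr h0)

/-- the reverse has the same degree when the constant coefficient is non-zero -/
theorem so8c5_natDegree {F : Type*} [Field F] (p : F[X]) (h0 : p.coeff 0 ≠ 0) :
    p.reverse.natDegree = p.natDegree := by
  rw [reverse_natDegree, natTrailingDegree_eq_zero.mpr (Or.inr h0), Nat.sub_zero]

/-- `reverse` is an involution on polynomials with non-zero constant coefficient -/
theorem so8c5_reverse_reverse {F : Type*} [Field F] (p : F[X]) (h0 : p.coeff 0 ≠ 0) :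
    p.reverse.reverse = p := by
  have hp0 : p ≠ 0 := by
    rintro rfl
    exact h0 (coeff_zero 0)
  have h1 : p.mirror = p.reverse := by
    rw [mirror, natTrailingDegree_eq_zero.mpr (Or.inr h0), pow_zero, mul_one]
  have h2 : p.reverse.coeff 0 ≠ 0 := by
    rw [coeff_zero_reverse]
    exact leadingCoeff_ne_zero.mpr hp0
  have h3 : p.reverse.mirror = p.reverse.reverse := by
    rw [mirror, natTrailingDegree_eq_zero.mpr (Or.inr h2), pow_zero, mul_one]
  rw [← h3, ← h1, mirror_mirror]

/-- C5 [S-M] -/
theorem reverse_irreducible {F : Type*} [Field F] (f : F[X]) (hf : Irreducible f) (h0 : f.coeff 0 ≠ 0) :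
    f.reverse.reverse = f ∧ Irreducible f.reverse := by
  have hrr := so8c5_reverse_reverse f h0
  refine ⟨hrr, ?_⟩
  have hf0 : f ≠ 0 := hf.ne_zero
  have hr0 : f.reverse.coeff 0 ≠ 0 := by
    rw [coeff_zero_reverse]
    exact leadingCoeff_ne_zero.mpr hf0
  rw [irreducible_iff]
  constructor
  · intro hu
    apply hf.not_isUnit
    have h1 := natDegree_eq_zero_of_isUnit hu
    rw [so8c5_natDegree f h0] at h1
    exact so8c5_unit f h1 h0
  · intro a b hab
    have hab0 : a.coeff 0 * b.coeff 0 ≠ 0 := by
      rw [← mul_coeff_zero, ← hab]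
      exact hr0
    have ha0 : a.coeff 0 ≠ 0 := left_ne_zero_of_mul hab0
    have hb0 : b.coeff 0 ≠ 0 := right_ne_zero_of_mul hab0
    have h2 : f = a.reverse * b.reverse := by
      rw [← reverse_mul_of_domain, ← hab, hrr]
    rcases hf.isUnit_or_isUnit h2 with hu | hu
    · left
      have h3 := natDegree_eq_zero_of_isUnit hu
      rw [so8c5_natDegree a ha0] at h3
      exact so8c5_unit a h3 ha0
    · right
      have h3 := natDegree_eq_zero_of_isUnit hu
      rw [so8c5_natDegree b hb0] at h3
      exact so8c5_unit b h3 hb0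

end Cfsg.Agent.Lib.Helper19.SO8
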