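import Mathlib
import Cfsg.Prelude.Def_Classical

/-! Project O9M (designer helper11), row NILRK nil_rank, written by helper26. Extras prefixed o9mnilrk_. -/
set_option autoImplicit false

namespace Cfsg.Agent.Lib.Helper11.O9M

open Polynomial Module

theorem o9mnilrk_ker_mono {F : Type*} [Field F] {V : Type*} [AddCommGroup V] [Module F V]
    (S : Module.End F V) (k : ℕ) : LinearMap.ker (S ^ k) ≤ LinearMap.ker (S ^ (k + 1)) := by
  intro x hx
  rw [LinearMap.mem_ker] at hx ⊢
  rw [pow_succ', Module.End.mul_apply, hx, map_zero]

theorem o9mnilrk_ker_lb {F : Type*} [Field F] {V : Type*} [AddCommGroup V] [Module F V] [FiniteDimensional F V]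
    (S : Module.End F V) (hS : IsNilpotent S) (k : ℕ) :
    min k (finrank F V) ≤ finrank F (LinearMap.ker (S ^ k)) := by
  induction k with
  | zero => simp
  | succ k ih =>
    by_cases hEq : LinearMap.ker (S ^ k) = LinearMap.ker (S ^ (k + 1))
    · obtain ⟨n, hn⟩ := hS
      have h1 := Module.End.ker_pow_constant hEq n
      have h2 : LinearMap.ker (S ^ (k + n)) = ⊤ := by
        rw [pow_add, hn, mul_zero]; exact LinearMap.ker_zero
      have h3 : LinearMap.ker (S ^ (k + 1)) = ⊤ := by rw [← hEq, h1, h2]
      rw [h3, finrank_top]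
      exact min_le_right _ _
    · have hlt : LinearMap.ker (S ^ k) < LinearMap.ker (S ^ (k + 1)) :=
        lt_of_le_of_ne (o9mnilrk_ker_mono S k) hEq
      have h4 := Submodule.finrank_lt_finrank_of_lt hlt
      have h5 : min (k + 1) (finrank F V) ≤ min k (finrank F V) + 1 := by
        rcases le_total k (finrank F V) with h | h
        · rw [min_eq_left h]; exact min_le_left _ _
        · rw [min_eq_right h]; exact le_trans (min_le_right _ _) (Nat.le_succ _)
      omega

theorem nil_rank {F : Type*} [Field F] {V : Type*} [AddCommGroup V] [Module F V] [FiniteDimensional F V]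
    (S : Module.End F V) (hS : IsNilpotent S) :
    finrank F (LinearMap.range (S ^ (finrank F V - 1))) ≤ 1 := by
  have h1 := o9mnilrk_ker_lb S hS (finrank F V - 1)
  have h2 := LinearMap.finrank_range_add_finrank_ker (S ^ (finrank F V - 1))
  have h3 : min (finrank F V - 1) (finrank F V) = finrank F V - 1 := min_eq_left (Nat.sub_le _ _)
  omega

end Cfsg.Agent.Lib.Helper11.O9M
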