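import Mathlib
import Cfsg.Agent.Lib.Helper18.OPE.Defs2
import Cfsg.Agent.Lib.helper17.OPEQTYSUM
import Cfsg.Agent.Lib.Helper16.OPlane

set_option autoImplicit false

/-!
# Project OPE, row AP1 (helper26): an anisotropic plane has `2 (q + 1)` pairs `(v₁, v₂)` with
`Q v₁ = 1`, `Q v₂ = ζ`, `B v₁ v₂ = 1`.

Proof: coordinates on the plane, normal form `u₀² + u₀ u₁ + ζ u₁²` of the elliptic plane, there the pairs over a norm-one
vector `(a, b)` are exactly `(-ζ b, a + b)` and `(a + ζ b, -a)`.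
-/

namespace Cfsg.Agent.Lib.Helper18.OPE

open Polynomial Module Cfsg.Agent.Lib.Helper13.S5955 Cfsg.Agent.Lib.helper15.S5972
open scoped Matrix

section opeap1_algebra

variable {F : Type*} [Field F]

/-- `1 - 4 ζ ≠ 0` when `t² + t + ζ` has no root -/
theorem opeap1_disc (ζ : F) (hζ : ∀ t : F, t ^ 2 + t + ζ ≠ 0) : 1 - 4 * ζ ≠ 0 := by
  intro h
  by_cases h2 : (2 : F) = 0
  · have h4 : (4 : F) = 0 := by
      have : (4 : F) = 2 * 2 := by norm_num
      rw [this, h2, mul_zero]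
    rw [h4, zero_mul, sub_zero] at h
    exact one_ne_zero h
  · apply hζ (-(1 / 2))
    field_simp
    linear_combination (-1 : F) * h

/-- the second components of the pairs over `(a, b)` -/
theorem opeap1_second (ζ : F) (hζ : ∀ t : F, t ^ 2 + t + ζ ≠ 0) (a b : F)
    (h0 : a ^ 2 + a * b + ζ * b ^ 2 = 1) (x y : F) :
    (x ^ 2 + x * y + ζ * y ^ 2 = ζ ∧ 2 * a * x + a * y + b * x + 2 * ζ * b * y = 1) ↔
      ((x = -(ζ * b) ∧ y = a + b) ∨ (x = a + ζ * b ∧ y = -a)) := by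
  constructor
  · rintro ⟨h1, h2⟩
    set α : F := (a + b) * x + ζ * b * y with hα
    set β : F := -(b * x) + a * y with hβ
    have hx : x = α * a - β * ζ * b := by
      rw [hα, hβ]; linear_combination (-x) * h0
    have hy : y = α * b + β * (a + b) := by
      rw [hα, hβ]; linear_combination (-y) * h0
    have hB : 2 * α + β = 1 := by
      rw [hα, hβ]; linear_combination h2
    have hN : α ^ 2 + α * β + ζ * β ^ 2 = ζ := by
      rw [hα, hβ]
      linear_combination (x ^ 2 + x * y + ζ * y ^ 2) * h0 + h1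
    have hβ' : β = 1 - 2 * α := by linear_combination hB
    have hkey : α * (1 - α) * (1 - 4 * ζ) = 0 := by
      rw [hβ'] at hN
      linear_combination hN
    have hd := opeap1_disc ζ hζ
    rcases mul_eq_zero.mp hkey with h3 | h3
    · rcases mul_eq_zero.mp h3 with h4 | h4
      · left
        have hβ1 : β = 1 := by rw [hβ', h4]; ring
        rw [hx, hy, h4, hβ1]
        constructor <;> ring
      · right
        have hα1 : α = 1 := by linear_combination (-1 : F) * h4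
        have hβ1 : β = -1 := by rw [hβ', hα1]; ring
        rw [hx, hy, hα1, hβ1]
        constructor <;> ring
    · exact absurd h3 hd
  · rintro (⟨rfl, rfl⟩ | ⟨rfl, rfl⟩)
    · constructor
      · linear_combination ζ * h0
      · linear_combination h0
    · constructor
      · linear_combination ζ * h0
      · linear_combination h0

/-- the two second components are distinct -/
theorem opeap1_distinct (ζ : F) (a b : F) (h0 : a ^ 2 + a * b + ζ * b ^ 2 = 1) :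
    ¬ (-(ζ * b) = a + ζ * b ∧ a + b = -a) := by
  rintro ⟨h1, h2⟩
  have e1 : 2 * a + b = 0 := by linear_combination h2
  have e2 : a + 2 * ζ * b = 0 := by linear_combination (-1 : F) * h1
  have h2F : (2 : F) = 0 := by
    linear_combination (-2 : F) * h0 + a * e1 + b * e2
  have hb : b = 0 := by
    have : b = -(2 * a) := by linear_combination e1
    rw [this, h2F, zero_mul, neg_zero]
  have ha : a = 0 := by
    have : a = -(2 * ζ * b) := by linear_combination e2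
    rw [this, hb, mul_zero, neg_zero]
  rw [ha, hb] at h0
  norm_num at h0

omit [Field F] in
/-- a vector of `Fin 2 → F` is determined by its two coordinates -/
theorem opeap1_ext2 (w : Fin 2 → F) (x y : F) : w = ![x, y] ↔ (w 0 = x ∧ w 1 = y) := by
  constructor
  · rintro rfl
    exact ⟨rfl, rfl⟩
  · rintro ⟨h0, h1⟩
    funext j
    fin_cases j
    · exact h0
    · exact h1

/-- the count of pairs in coordinates -/
theorem opeap1_count [Fintype F] (ζ : F) (hζ : ∀ t : F, t ^ 2 + t + ζ ≠ 0)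
    (hN1 : Nat.card {u : Fin 2 → F // u 0 ^ 2 + u 0 * u 1 + ζ * u 1 ^ 2 = 1} = Fintype.card F + 1) :
    Nat.card {p : (Fin 2 → F) × (Fin 2 → F) //
      p.1 0 ^ 2 + p.1 0 * p.1 1 + ζ * p.1 1 ^ 2 = 1 ∧
      p.2 0 ^ 2 + p.2 0 * p.2 1 + ζ * p.2 1 ^ 2 = ζ ∧
      2 * p.1 0 * p.2 0 + p.1 0 * p.2 1 + p.1 1 * p.2 0 + 2 * ζ * p.1 1 * p.2 1 = 1} =
      2 * (Fintype.card F + 1) := by
  classical
  let A := {u : Fin 2 → F // u 0 ^ 2 + u 0 * u 1 + ζ * u 1 ^ 2 = 1}
  let B : A → Type _ := fun u => {w : Fin 2 → F //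
      w 0 ^ 2 + w 0 * w 1 + ζ * w 1 ^ 2 = ζ ∧
      2 * u.1 0 * w 0 + u.1 0 * w 1 + u.1 1 * w 0 + 2 * ζ * u.1 1 * w 1 = 1}
  have e : {p : (Fin 2 → F) × (Fin 2 → F) //
      p.1 0 ^ 2 + p.1 0 * p.1 1 + ζ * p.1 1 ^ 2 = 1 ∧
      p.2 0 ^ 2 + p.2 0 * p.2 1 + ζ * p.2 1 ^ 2 = ζ ∧
      2 * p.1 0 * p.2 0 + p.1 0 * p.2 1 + p.1 1 * p.2 0 + 2 * ζ * p.1 1 * p.2 1 = 1} ≃ Σ u : A, B u :=
    { toFun := fun p => ⟨⟨p.1.1, p.2.1⟩, ⟨p.1.2, p.2.2.1, p.2.2.2⟩⟩
      invFun := fun s => ⟨(s.1.1, s.2.1), s.1.2, s.2.2.1, s.2.2.2⟩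
      left_inv := fun _ => rfl
      right_inv := fun _ => rfl }
  have hB : ∀ u : A, Nat.card (B u) = 2 := by
    intro u
    have h0 : u.1 0 ^ 2 + u.1 0 * u.1 1 + ζ * u.1 1 ^ 2 = 1 := u.2
    have hsec := opeap1_second ζ hζ (u.1 0) (u.1 1) h0
    rw [Nat.card_eq_two_iff]
    refine ⟨⟨![-(ζ * u.1 1), u.1 0 + u.1 1], ?_⟩, ⟨![u.1 0 + ζ * u.1 1, -u.1 0], ?_⟩, ?_, ?_⟩
    · exact (hsec _ _).mpr (Or.inl ⟨rfl, rfl⟩)
    · exact (hsec _ _).mpr (Or.inr ⟨rfl, rfl⟩)
    · intro h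
      have h1 := congrArg Subtype.val h
      have h2 := congrFun h1 0
      have h3 := congrFun h1 1
      exact opeap1_distinct ζ (u.1 0) (u.1 1) h0 ⟨h2, h3⟩
    · apply Set.eq_univ_of_forall
      intro w
      rcases (hsec (w.1 0) (w.1 1)).mp w.2 with h | h
      · left
        apply Subtype.ext
        exact (opeap1_ext2 w.1 _ _).mpr h
      · right
        apply Subtype.ext
        exact (opeap1_ext2 w.1 _ _).mpr h
  have hfinA : Finite A := inferInstance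
  let _ : Fintype A := Fintype.ofFinite A
  rw [Nat.card_congr e, Nat.card_sigma, Finset.sum_congr rfl (fun u _ => hB u), Finset.sum_const,
    Finset.card_univ, smul_eq_mul, ← Nat.card_eq_fintype_card, hN1, mul_comm]

end opeap1_algebra

/-- the norm form of the standard elliptic plane -/
def opeap1_N {F : Type*} [Field F] (ζ : F) (u : Fin 2 → F) : F := u 0 ^ 2 + u 0 * u 1 + ζ * u 1 ^ 2

/-- the normal form of an elliptic plane: coordinates in which `Q` is `u₀² + u₀ u₁ + ζ u₁²` -/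
theorem opeap1_normal {F : Type*} [Field F] [Fintype F]
    {V : Type*} [AddCommGroup V] [Module F V] [FiniteDimensional F V]
    (Q : QuadraticForm F V) (P : Submodule F V) (hP : SND (QuadraticMap.polarBilin Q) P)
    (hdim : finrank F P = 2) (hty : QTy Q P (-1)) (ζ : F) (hζ : ∀ t : F, t ^ 2 + t + ζ ≠ 0) :
    ∃ ψ : (Fin 2 → F) ≃ₗ[F] ↥P, (∀ u, Q (ψ u : V) = opeap1_N ζ u) ∧
      Nat.card {u : Fin 2 → F // opeap1_N ζ u = 1} = Fintype.card F + 1 := by
  classical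
  obtain ⟨Q', e, hQ', hnd⟩ := opeqtysum_coord Q P hP
  have hcard : Fintype.card (Fin (finrank F P)) = 2 * 1 := by rw [Fintype.card_fin, hdim]
  have ht : Cfsg.Agent.Lib.Helper16.OSemi.IsType (⇑Q') 1 (-1) := by
    have h1 := hty
    unfold QTy at h1
    rw [hdim] at h1
    exact (Cfsg.Agent.Lib.Helper16.OSemi.isType_congr e.toEquiv (fun w : ↥P => Q (w : V)) (⇑Q')
      (fun w' => (hQ' w').symm) 1 (-1)).mp h1
  obtain ⟨Φ, hΦ⟩ := Cfsg.Agent.Lib.Helper16.OSemi.to_std_minus Q' hnd 1 le_rfl hcard ht 1 ζ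
    (Cfsg.Agent.Lib.Helper16.OSemi.aniso_of_irred ζ hζ)
  have : IsEmpty (Fin (1 - 1)) := inferInstanceAs (IsEmpty (Fin 0))
  let ρ : (Fin 2 → F) ≃ₗ[F] ((Fin (1 - 1) ⊕ Fin (1 - 1)) ⊕ Fin 2 → F) :=
    LinearEquiv.funCongrLeft F F (Equiv.emptySum (Fin (1 - 1) ⊕ Fin (1 - 1)) (Fin 2))
  have hρ : ∀ u : Fin 2 → F, Cfsg.quadFormMinus (1 - 1) F 1 ζ (ρ u) = opeap1_N ζ u := by
    intro u
    unfold Cfsg.quadFormMinus opeap1_N
    rw [Finset.sum_of_isEmpty, zero_add]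
    have h0 : ρ u (Sum.inr 0) = u 0 := rfl
    have h1 : ρ u (Sum.inr 1) = u 1 := rfl
    rw [h0, h1, one_mul]
  have hQ1 : ∀ u : Fin 2 → F, Q' (Φ (ρ u)) = opeap1_N ζ u := by
    intro u
    rw [hΦ, hρ]
  refine ⟨ρ ≪≫ₗ Φ ≪≫ₗ e, ?_, ?_⟩
  · intro u
    rw [← hQ1 u, hQ']
    rfl
  · have hN1 := Cfsg.Agent.Lib.Helper16.OSemi.isType_N1 Q' hnd 1 le_rfl hcard (-1) ht
    have hcnt : Cfsg.Agent.Lib.Helper16.OSemi.cnt (opeap1_N ζ) 1 = Cfsg.Agent.Lib.Helper16.OSemi.cnt (⇑Q') 1 :=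
      Cfsg.Agent.Lib.Helper16.OSemi.cnt_congr (ρ ≪≫ₗ Φ).toEquiv (⇑Q') (opeap1_N ζ) (fun u => hQ1 u) 1
    have hq : (1 : ℤ) ≤ (Fintype.card F : ℤ) := by exact_mod_cast Fintype.card_pos
    have h2 : (Fintype.card F : ℤ) * (Cfsg.Agent.Lib.Helper16.OSemi.cnt (⇑Q') 1 : ℤ)
        = (Fintype.card F : ℤ) * ((Fintype.card F : ℤ) + 1) := by
      rw [hN1]; ring
    have h3 : (Cfsg.Agent.Lib.Helper16.OSemi.cnt (⇑Q') 1 : ℤ) = (Fintype.card F : ℤ) + 1 :=
      mul_left_cancel₀ (by omega) h2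
    have h4 : Cfsg.Agent.Lib.Helper16.OSemi.cnt (⇑Q') 1 = Fintype.card F + 1 := by exact_mod_cast h3
    rw [← h4, ← hcnt]
    rfl

/-- AP1 [M-L] -/
theorem ap_plane_pairs {F : Type*} [Field F] [Fintype F]
    {V : Type*} [AddCommGroup V] [Module F V] [FiniteDimensional F V]
    (Q : QuadraticForm F V) (P : Submodule F V) (hP : SND (QuadraticMap.polarBilin Q) P)
    (hdim : finrank F P = 2) (hty : QTy Q P (-1)) (ζ : F) (hζ : ∀ t : F, t ^ 2 + t + ζ ≠ 0) :
    Nat.card {v : V × V // v.1 ∈ P ∧ v.2 ∈ P ∧ Q v.1 = 1 ∧ Q v.2 = ζ ∧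
      QuadraticMap.polarBilin Q v.1 v.2 = 1} = 2 * (Fintype.card F + 1) := by
  classical
  obtain ⟨ψ, hψ, hN1⟩ := opeap1_normal Q P hP hdim hty ζ hζ
  have hB : ∀ u w : Fin 2 → F, QuadraticMap.polarBilin Q (ψ u : V) (ψ w : V)
      = 2 * u 0 * w 0 + u 0 * w 1 + u 1 * w 0 + 2 * ζ * u 1 * w 1 := by
    intro u w
    rw [QuadraticMap.polarBilin_apply_apply, QuadraticMap.polar]
    have h1 : (ψ u : V) + (ψ w : V) = (ψ (u + w) : V) := by
      rw [map_add]; rfl
    rw [h1, hψ, hψ, hψ]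
    unfold opeap1_N
    simp only [Pi.add_apply]
    ring
  have hsymm : ∀ x : ↥P, Q (x : V) = opeap1_N ζ (ψ.symm x) := by
    intro x
    rw [← hψ, LinearEquiv.apply_symm_apply]
  have hBsymm : ∀ x y : ↥P, QuadraticMap.polarBilin Q (x : V) (y : V)
      = 2 * ψ.symm x 0 * ψ.symm y 0 + ψ.symm x 0 * ψ.symm y 1 + ψ.symm x 1 * ψ.symm y 0
        + 2 * ζ * ψ.symm x 1 * ψ.symm y 1 := by
    intro x y
    rw [← hB, LinearEquiv.apply_symm_apply, LinearEquiv.apply_symm_apply]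
  have hcount := opeap1_count ζ hζ hN1
  rw [← hcount]
  apply Nat.card_congr
  exact
    { toFun := fun v => ⟨(ψ.symm ⟨v.1.1, v.2.1⟩, ψ.symm ⟨v.1.2, v.2.2.1⟩),
        by
          have h := v.2.2.2.1
          rw [hsymm ⟨v.1.1, v.2.1⟩] at h
          exact h,
        by
          have h := v.2.2.2.2.1
          rw [hsymm ⟨v.1.2, v.2.2.1⟩] at h
          exact h,
        by
          have h := v.2.2.2.2.2
          rw [hBsymm ⟨v.1.1, v.2.1⟩ ⟨v.1.2, v.2.2.1⟩] at h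
          exact h⟩
      invFun := fun p => ⟨((ψ p.1.1 : V), (ψ p.1.2 : V)), (ψ p.1.1).2, (ψ p.1.2).2,
        by rw [hψ]; exact p.2.1, by rw [hψ]; exact p.2.2.1, by rw [hB]; exact p.2.2.2⟩
      left_inv := by
        intro v
        apply Subtype.ext
        apply Prod.ext
        · simp only [LinearEquiv.apply_symm_apply]
        · simp only [LinearEquiv.apply_symm_apply]
      right_inv := by
        intro p
        apply Subtype.ext
        apply Prod.ext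
        · simp only [Subtype.coe_eta, LinearEquiv.symm_apply_apply]
        · simp only [Subtype.coe_eta, LinearEquiv.symm_apply_apply] }

end Cfsg.Agent.Lib.Helper18.OPE
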