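import Cfsg.Agent.Lib.Helper11.S5956U.Defs

set_option autoImplicit false

/-!
# Project S5956U, row PICK: multiset bookkeeping for the induction step of STRUCT
-/

namespace Cfsg.Agent.Lib.Helper11.S5956U

theorem s5956upick_count_sub (ν τ : Multiset ℕ) (a : ℕ) :
    (ν - τ).count a = ν.count a - τ.count a := Multiset.count_sub a ν τ

/-- PICK [M]: multiset bookkeeping for the induction step of STRUCT. -/
theorem pick (τ μ' ν : Multiset ℕ) (hτ : PieceTy τ) (hν : ν ≤ τ + μ')
    (hνo : ∀ a : ℕ, Odd a → Even (ν.count a)) :
    ν ≤ μ' ∨ (τ ≤ ν ∧ ν - τ ≤ μ' ∧ ∀ a : ℕ, Odd a → Even ((ν - τ).count a)) := by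
  classical
  have hc : ∀ a, ν.count a ≤ τ.count a + μ'.count a := by
    intro a
    have := Multiset.le_iff_count.mp hν a
    rwa [Multiset.count_add] at this
  rcases hτ with ⟨s, hs, rfl⟩ | ⟨s, hs, rfl⟩
  · -- one even part
    have hcs : ∀ a, ({s} : Multiset ℕ).count a = if a = s then 1 else 0 := by
      intro a
      rw [Multiset.count_singleton]
    by_cases h : ν.count s ≤ μ'.count s
    · left
      rw [Multiset.le_iff_count]
      intro a
      by_cases ha : a = s
      · rw [ha]; exact h
      · have := hc a
        rw [hcs a, if_neg ha] at this
        omega
    · right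
      have h1 : ν.count s = μ'.count s + 1 := by
        have := hc s
        rw [hcs s, if_pos rfl] at this
        omega
      refine ⟨?_, ?_, ?_⟩
      · rw [Multiset.le_iff_count]
        intro a
        rw [hcs a]
        by_cases ha : a = s
        · rw [if_pos ha, ha]; omega
        · rw [if_neg ha]; omega
      · rw [Multiset.le_iff_count]
        intro a
        rw [s5956upick_count_sub, hcs a]
        by_cases ha : a = s
        · rw [if_pos ha, ha]; omega
        · rw [if_neg ha]
          have := hc a
          rw [hcs a, if_neg ha] at this
          omega
      · intro a hao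
        rw [s5956upick_count_sub, hcs a]
        have ha : a ≠ s := by
          rintro rfl
          exact (Nat.not_even_iff_odd.mpr hao) hs
        rw [if_neg ha]
        simpa using hνo a hao
  · -- two equal odd parts
    have hcs : ∀ a, ({s, s} : Multiset ℕ).count a = if a = s then 2 else 0 := by
      intro a
      have : ({s, s} : Multiset ℕ) = s ::ₘ {s} := rfl
      rw [this, Multiset.count_cons, Multiset.count_singleton]
      by_cases ha : a = s
      · simp [ha]
      · simp [ha]
    by_cases h : ν.count s ≤ μ'.count s
    · left
      rw [Multiset.le_iff_count]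
      intro a
      by_cases ha : a = s
      · rw [ha]; exact h
      · have := hc a
        rw [hcs a, if_neg ha] at this
        omega
    · right
      have hev : Even (ν.count s) := hνo s hs
      have h2 : 2 ≤ ν.count s := by
        obtain ⟨t, ht⟩ := hev
        omega
      have h3 : ν.count s ≤ μ'.count s + 2 := by
        have := hc s
        rw [hcs s, if_pos rfl] at this
        omega
      refine ⟨?_, ?_, ?_⟩
      · rw [Multiset.le_iff_count]
        intro a
        rw [hcs a]
        by_cases ha : a = s
        · rw [if_pos ha, ha]; exact h2
        · rw [if_neg ha]; omega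
      · rw [Multiset.le_iff_count]
        intro a
        rw [s5956upick_count_sub, hcs a]
        by_cases ha : a = s
        · rw [if_pos ha, ha]; omega
        · rw [if_neg ha]
          have := hc a
          rw [hcs a, if_neg ha] at this
          omega
      · intro a hao
        rw [s5956upick_count_sub, hcs a]
        by_cases ha : a = s
        · rw [if_pos ha, ha]
          obtain ⟨t, ht⟩ := hev
          exact ⟨t - 1, by omega⟩
        · rw [if_neg ha]
          simpa using hνo a hao

end Cfsg.Agent.Lib.Helper11.S5956U
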