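import Mathlib
import Cfsg.Prelude.Def_Classical
import Cfsg.Prelude.Def_KGroupFacts
import Cfsg.Agent.Lib.helper3.SPB.Defs
import Cfsg.Agent.Lib.Helper20.STBH2

/-!
# Project SPB (designer helper3; S2094), row T2 `CovB.zel_central`, VERBATIM (helper26).
The spin element `zel = hs_0(-1)` is central: STB H2 `isMon_hs` at `u = -1` (all coefficients are `1`), closure induction with `C.gen`.
-/

set_option autoImplicit false
set_option linter.unusedSectionVars false

namespace Cfsg.Agent.Lib.helper3.SPB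

open Cfsg.Agent.Lib.helper15.St2 Cfsg.Agent.Lib.helper3.STC Cfsg.Agent.Lib.Lead.STD Cfsg.Agent.Lib.Lead.STB
  Cfsg.Agent.Lib.Lead.SPN Cfsg.Agent.Lib.Helper16 Cfsg.Agent.Lib.Helper12.OMB

universe u v w

section T

namespace CovB

variable {l : ℕ} {F : Type u} [Field F] [Fintype F] {G : Type v} [Group G] (C : CovB l F G)

/-- T2 [S-M]  STB H2 `isMon_hs (inl i0) (-1)`: `σ = 1`, `dhb a (-1) k = 1` for all `k` (`(-1)² = 1`), `d0 = 1`, so `cj zel` fixes every `x k m t` (for `k = m`, `k = ng m` the element is `1`: `S.diag`, `S.opp`)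
and every `xs k t`; `Subgroup.closure_induction` with `C.gen` (model: SPN T2, `helper23/SPNT2.lean`). -/
theorem zel_central (g : G) : g * C.zel = C.zel * g := by
  have hm := C.S.isMon_hs (Sum.inl C.i0) (-1 : F) (neg_ne_zero.2 one_ne_zero)
  have hd : ∀ k, dhb (Sum.inl C.i0 : Fin l ⊕ Fin l) (-1 : F) k = 1 := by
    intro k
    unfold dhb
    split_ifs <;> simp
  have hg : g ∈ C.S.XQ (fun _ _ => True) (fun _ => True) := by
    rw [C.gen]
    trivial
  unfold SysB.XQ at hg
  induction hg using Subgroup.closure_induction with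
  | mem y hy =>
    rcases hy with ⟨a, b, t, hab, -, -, rfl⟩ | ⟨a, t, -, rfl⟩
    · have h := hm.1.2 a b hab t
      rw [hd, hd, inv_one, one_mul, one_mul] at h
      have h' : C.zel * C.S.x a b t * C.zel⁻¹ = C.S.x a b t := h
      rw [mul_inv_eq_iff_eq_mul] at h'
      exact h'.symm
    · have h := hm.2.2.2.2 a t
      rw [hd, one_mul, one_mul] at h
      have h' : C.zel * C.S.xs a t * C.zel⁻¹ = C.S.xs a t := h
      rw [mul_inv_eq_iff_eq_mul] at h'
      exact h'.symm
  | one => rw [one_mul, mul_one]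
  | mul y z _ _ hy hz => rw [mul_assoc, hz, ← mul_assoc, hy, mul_assoc]
  | inv y _ hy =>
    have e : y⁻¹ * C.zel = y⁻¹ * (C.zel * y) * y⁻¹ := by group
    rw [e, ← hy]
    group

end CovB

end T

end Cfsg.Agent.Lib.helper3.SPB
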