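import Mathlib
import Cfsg.Prelude.Def_LieTypeChar
import Cfsg.Agent.Lib.helper14.SQD.Defs
import Cfsg.Agent.Lib.helper14.SQD.DefsU
import Cfsg.Agent.Lib.Helper24.SQD.DefsO
import Cfsg.Agent.Lib.Helper28.SQDT5

/-!
Project SQD = S4625 (helper14), block O (helper24), row OG2 `lev_le_comm` (helper26).  Self-contained: own copies
`sqdog2_transvection_comm`, `sqdog2_transvection_unit` of the statements of row OG1.
-/

set_option autoImplicit false

namespace Cfsg.Agent.Lib.helper14.SQD

open Cfsg Cfsg.Lie Matrix

universe u v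

section OG

/-- own copy of row OG1 -/
theorem sqdog2_transvection_comm {n : Type v} [Fintype n] [DecidableEq n] {R : Type u} [CommRing R]
    (i j l : n) (hij : i ≠ j) (hlj : l ≠ j) (t : R) (x y z : GL n R)
    (hx : (x : Matrix n n R) = Matrix.transvection i l t)
    (hy : (y : Matrix n n R) = Matrix.transvection l j 1)
    (hz : (z : Matrix n n R) = Matrix.transvection i j t) : x * y * x⁻¹ * y⁻¹ = z := by
  have key : x * y = z * y * x := by
    apply Units.ext
    rw [Units.val_mul, Units.val_mul, Units.val_mul, hx, hy, hz]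
    unfold Matrix.transvection
    simp only [add_mul, mul_add, one_mul, mul_one, Matrix.single_mul_single_same,
      Matrix.single_mul_single_of_ne _ _ _ _ (Ne.symm hlj), Matrix.single_mul_single_of_ne _ _ _ _ (Ne.symm hij),
      add_zero, mul_one]
    abel
  rw [key]
  group

/-- own copy of row OG1b -/
theorem sqdog2_transvection_unit {n : Type v} [Fintype n] [DecidableEq n] {R : Type u} [CommRing R]
    (i j : n) (hij : i ≠ j) (t : R) : ∃ x : GL n R, (x : Matrix n n R) = Matrix.transvection i j t :=
  ⟨⟨Matrix.transvection i j t, Matrix.transvection i j (-t),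
    by rw [Matrix.transvection_mul_transvection_same _ _ hij, add_neg_cancel, Matrix.transvection_zero],
    by rw [Matrix.transvection_mul_transvection_same _ _ hij, neg_add_cancel, Matrix.transvection_zero]⟩,
    rfl⟩

variable {k : ℕ} {F : Type u} [Field F] {H : Type v} [Group H]

/-- OG2 [M]. -/
theorem lev_le_comm (φ : GL (Fin k ⊕ Fin k) F →* H) (O : Subgroup H) (hk : 3 ≤ k) (τ : F →+* F)
    (hlev : ∀ g : GL (Fin k) F, φ (levHom τ g) ∈ O) : (levGrp (k := k) τ).map φ ≤ ⁅O, O⁆ := by
  unfold levGrp
  rw [uutGL_eq_closure, MonoidHom.map_closure, MonoidHom.map_closure, Subgroup.closure_le]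
  rintro _ ⟨_, ⟨g, ⟨i, j, hij, t, hg⟩, rfl⟩, rfl⟩
  obtain ⟨l, hl⟩ : ∃ l : Fin k, l ∉ ({i, j} : Finset (Fin k)) := by
    by_contra h
    push Not at h
    have h1 : (Finset.univ : Finset (Fin k)) ⊆ {i, j} := fun l _ => h l
    have h2 := Finset.card_le_card h1
    rw [Finset.card_univ, Fintype.card_fin] at h2
    have h3 := Finset.card_le_two (a := i) (b := j)
    omega
  rw [Finset.mem_insert, Finset.mem_singleton, not_or] at hl
  obtain ⟨x, hx⟩ := sqdog2_transvection_unit (R := F) i l (Ne.symm hl.1) t
  obtain ⟨y, hy⟩ := sqdog2_transvection_unit (R := F) l j hl.2 1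
  have e := sqdog2_transvection_comm i j l (ne_of_lt hij) hl.2 t x y g hx hy hg
  rw [← e, map_mul, map_mul, map_mul, map_inv, map_inv, map_mul, map_mul, map_mul, map_inv, map_inv]
  exact Subgroup.commutator_mem_commutator (hlev x) (hlev y)

end OG

end Cfsg.Agent.Lib.helper14.SQD
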