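import Mathlib
import Cfsg.Agent.Lib.helper15.St2
import Cfsg.Agent.Lib.helper7.StA
import Cfsg.Agent.Lib.helper7.StC
import Cfsg.Agent.Lib.helper7.StE
import Cfsg.Agent.Lib.helper3.STC.Defs
import Cfsg.Agent.Lib.helper3.STC.Defs2

/-!
STC row N4: decomposition of the Heisenberg group `Yg o` along a short root subgroup `x j o`.
(Self-contained on the `SysC` axioms: own-name copies `stcn4_*` of the few basic facts used.)
-/

set_option autoImplicit false

namespace Cfsg.Agent.Lib.helper3.STC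

open Cfsg.Agent.Lib.helper15.St2 Cfsg.Agent.Lib.helper7.St

theorem stcn4_ng_ng {ι : Type*} (a : ι ⊕ ι) : ng (ng a) = a := by
  cases a <;> rfl

theorem stcn4_ng_ne {ι : Type*} (a : ι ⊕ ι) : ng a ≠ a := by
  cases a <;> simp [ng]

theorem stcn4_ng_inj {ι : Type*} {a b : ι ⊕ ι} (h : ng a = ng b) : a = b := by
  have := congrArg ng h
  rwa [stcn4_ng_ng, stcn4_ng_ng] at this

namespace SysC

variable {K : Type*} [Field K] {ι : Type*} {G : Type*} [Group G] (S : SysC K ι G)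

theorem stcn4_x_zero (a b : ι ⊕ ι) : S.x a b 0 = 1 := by
  by_cases hab : a = b
  · subst hab; exact S.diag a 0
  · have h := S.add a b hab 0 0
    rw [add_zero] at h
    exact mul_eq_left.1 h

theorem stcn4_x_neg (a b : ι ⊕ ι) (t : K) : S.x a b (-t) = (S.x a b t)⁻¹ := by
  by_cases hab : a = b
  · subst hab; rw [S.diag, S.diag, inv_one]
  · rw [eq_inv_iff_mul_eq_one, S.add a b hab, neg_add_cancel, stcn4_x_zero]

theorem stcn4_x_mem_XQ {Q : ι ⊕ ι → ι ⊕ ι → Prop} {a b : ι ⊕ ι} (hab : a ≠ b) (hQ : Q a b) (t : K) :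
    S.x a b t ∈ S.XQ Q :=
  Subgroup.subset_closure ⟨a, b, t, hab, hQ, rfl⟩

theorem stcn4_XQ_gens_inv (Q : ι ⊕ ι → ι ⊕ ι → Prop) :
    ∀ s ∈ {g | ∃ a b t, a ≠ b ∧ Q a b ∧ g = S.x a b t},
      s⁻¹ ∈ {g | ∃ a b t, a ≠ b ∧ Q a b ∧ g = S.x a b t} := by
  rintro _ ⟨a, b, t, hab, hQ, rfl⟩
  exact ⟨a, b, -t, hab, hQ, (S.stcn4_x_neg a b t).symm⟩

section N
variable (o : ι ⊕ ι)

/-- N4 [M]  decomposition of the Heisenberg group `Yg o` along a short root subgroup `x j o` (model `Sys.Yg_decomp`).  `closure_left_induction'`; for a generator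
`x a o t`: `a = j`: `add`.  Else `x a o t * x j o u = x j o u * cj (x j o (-u)) (x a o t)` and the conjugate is `x a o t` (`cj_comm`, when `a ≠ ng j`) or
`x (ng o) o _ * x a o t` (when `a = ng j`: `x (ng j) o t = x (ng o) j _` by `sym`, then `cj_ssl`); both lie in `Yj o j` (`ng o ≠ j`). -/
theorem Yg_decomp {j : ι ⊕ ι} (hj : j ≠ o) (hj' : j ≠ ng o) :
    ∀ y ∈ S.Yg o, ∃ u : K, ∃ y' ∈ S.Yj o j, y = S.x j o u * y' := by
  have hoo : ng o ≠ o := stcn4_ng_ne o
  refine closure_left_induction'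
    (p := fun y => ∃ u : K, ∃ y' ∈ S.Yj o j, y = S.x j o u * y') (S.stcn4_XQ_gens_inv _) ?_ ?_
  · exact ⟨0, 1, one_mem _, by rw [S.stcn4_x_zero, one_mul]⟩
  · rintro _ ⟨a, b, t, hab, rfl, rfl⟩ g ⟨u, y', hy', rfl⟩
    by_cases haj : a = j
    · subst haj
      exact ⟨t + u, y', hy', by rw [← mul_assoc, S.add a b hab]⟩
    by_cases haj' : a = ng j
    · -- the commutator is a long root element
      subst haj'
      set t' : K := -(sg (ng j) * sg b * t) with ht'
      have hsym : S.x (ng j) b t = S.x (ng b) j t' := by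
        rw [S.sym (ng j) b hab t, stcn4_ng_ng]
      have hbj : ng b ≠ j := fun h => hj' h.symm
      have hbj' : ng b ≠ ng j := fun h => hj (stcn4_ng_inj h).symm
      have hssl := S.ssl (ng b) j hbj hbj' t' u
      rw [stcn4_ng_ng] at hssl
      -- `A * B * A⁻¹ * B⁻¹ = C`, so `A * B = C * B * A`
      have hAB : S.x (ng b) j t' * S.x j b u =
          S.x (ng b) b (2 * t' * u) * S.x j b u * S.x (ng b) j t' := by
        rw [← hssl]; group
      have hcomm : S.x (ng b) b (2 * t' * u) * S.x j b u =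
          S.x j b u * S.x (ng b) b (2 * t' * u) :=
        S.comm (ng b) b j b (stcn4_ng_ne b) hj (Ne.symm hj) (stcn4_ng_ne b) (stcn4_ng_ne b).symm
          hbj' _ _
      refine ⟨u, S.x (ng b) b (2 * t' * u) * S.x (ng j) b t * y',
        mul_mem (mul_mem (S.stcn4_x_mem_XQ (stcn4_ng_ne b) ⟨rfl, hbj⟩ _)
          (S.stcn4_x_mem_XQ hab ⟨rfl, stcn4_ng_ne j⟩ _)) hy', ?_⟩
      rw [← mul_assoc, hsym, hAB, hcomm]
      simp only [mul_assoc]
    · refine ⟨u, S.x a b t * y', mul_mem (S.stcn4_x_mem_XQ hab ⟨rfl, haj⟩ t) hy', ?_⟩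
      rw [← mul_assoc, S.comm a b j b hab hj (Ne.symm hj) hab (stcn4_ng_ne b).symm haj', mul_assoc]

end N

end SysC

end Cfsg.Agent.Lib.helper3.STC
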