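import Mathlib
import Cfsg.Agent.Lib.helper15.St2
import Cfsg.Agent.Lib.helper7.StA
import Cfsg.Agent.Lib.helper7.StC
import Cfsg.Agent.Lib.helper7.StE
import Cfsg.Agent.Lib.helper3.STC.Defs
import Cfsg.Agent.Lib.helper3.STC.Defs2
import Cfsg.Agent.Lib.Helper26.STCN4

/-!
STC row N1: membership of the generators in the subgroups `Yg Ag Pg Lg Phat Yj Zg` and the obvious
inclusions.  (Self-contained on the `SysC` axioms and the own-name copies of `Helper26.STCN4`.)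
-/

set_option autoImplicit false

namespace Cfsg.Agent.Lib.helper3.STC

open Cfsg.Agent.Lib.helper15.St2 Cfsg.Agent.Lib.helper7.St

namespace SysC

variable {K : Type*} [Field K] {ι : Type*} {G : Type*} [Group G] (S : SysC K ι G)

theorem stcn1_XQ_le {Q : ι ⊕ ι → ι ⊕ ι → Prop} {H : Subgroup G}
    (h : ∀ a b t, a ≠ b → Q a b → S.x a b t ∈ H) : S.XQ Q ≤ H := by
  unfold XQ
  rw [Subgroup.closure_le]
  rintro _ ⟨a, b, t, hab, hQ, rfl⟩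
  exact h a b t hab hQ

theorem stcn1_XQ_mono {Q Q' : ι ⊕ ι → ι ⊕ ι → Prop} (h : ∀ a b, a ≠ b → Q a b → Q' a b) :
    S.XQ Q ≤ S.XQ Q' :=
  S.stcn1_XQ_le fun a b t hab hQ => S.stcn4_x_mem_XQ hab (h a b hab hQ) t

section N
variable (o : ι ⊕ ι)

/-- N1 [S]  membership of the generators (both descriptions, `x_mem_XQ` / `x_mem_XQ'`). -/
theorem x_mem_Yg {a : ι ⊕ ι} (ha : a ≠ o) (t : K) : S.x a o t ∈ S.Yg o :=
  S.stcn4_x_mem_XQ ha rfl t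

theorem x_mem_Yg' {b : ι ⊕ ι} (hb : b ≠ ng o) (t : K) : S.x (ng o) b t ∈ S.Yg o := by
  rw [S.sym (ng o) b (Ne.symm hb) t, stcn4_ng_ng]
  have hne : ng b ≠ o := by
    intro h
    apply hb
    rw [← h, stcn4_ng_ng]
  exact S.stcn4_x_mem_XQ (Q := fun _ b => b = o) hne rfl _

theorem x_mem_Ag {b : ι ⊕ ι} (hb : b ≠ o) (t : K) : S.x o b t ∈ S.Ag o :=
  S.stcn4_x_mem_XQ (Ne.symm hb) rfl t

theorem x_mem_Ag' {a : ι ⊕ ι} (ha : a ≠ ng o) (t : K) : S.x a (ng o) t ∈ S.Ag o := by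
  rw [S.sym a (ng o) ha t, stcn4_ng_ng]
  have hne : o ≠ ng a := by
    intro h
    apply ha
    rw [h, stcn4_ng_ng]
  exact S.stcn4_x_mem_XQ (Q := fun a _ => a = o) hne rfl _

theorem x_mem_Pg {a b : ι ⊕ ι} (hab : a ≠ b) (hb : b ≠ o) (ha : a ≠ ng o) (t : K) : S.x a b t ∈ S.Pg o :=
  S.stcn4_x_mem_XQ hab ⟨hb, ha⟩ t

theorem x_mem_Lg {a b : ι ⊕ ι} (hab : a ≠ b) (ha : a ≠ o) (ha' : a ≠ ng o) (hb : b ≠ o) (hb' : b ≠ ng o) (t : K) :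
    S.x a b t ∈ S.Lg o :=
  S.stcn4_x_mem_XQ hab ⟨⟨ha, ha'⟩, ⟨hb, hb'⟩⟩ t

theorem Ag_le_Pg : S.Ag o ≤ S.Pg o := by
  apply S.stcn1_XQ_mono
  rintro a b hab rfl
  exact ⟨Ne.symm hab, (stcn4_ng_ne a).symm⟩

theorem Lg_le_Pg : S.Lg o ≤ S.Pg o := by
  apply S.stcn1_XQ_mono
  rintro a b _ ⟨⟨_, ha'⟩, ⟨hb, _⟩⟩
  exact ⟨hb, ha'⟩

theorem Pg_le_Phat : S.Pg o ≤ S.Phat o := le_sup_left

theorem h_mem_Phat {b : ι ⊕ ι} (hb : b ≠ o) {t : K} (ht : t ≠ 0) : S.h o b t ∈ S.Phat o :=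
  (le_sup_right : S.Hg o ≤ S.Phat o) (Subgroup.subset_closure ⟨b, t, hb, ht, rfl⟩)

theorem w_mem_Lg {a b : ι ⊕ ι} (hab : a ≠ b) (ha : a ≠ o) (ha' : a ≠ ng o) (hb : b ≠ o) (hb' : b ≠ ng o) (t : K) :
    S.w a b t ∈ S.Lg o := by
  unfold w
  exact mul_mem (mul_mem (S.x_mem_Lg o hab ha ha' hb hb' _) (S.x_mem_Lg o hab.symm hb hb' ha ha' _))
    (S.x_mem_Lg o hab ha ha' hb hb' _)

theorem h_mem_Lg {a b : ι ⊕ ι} (hab : a ≠ b) (ha : a ≠ o) (ha' : a ≠ ng o) (hb : b ≠ o) (hb' : b ≠ ng o) (t : K) :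
    S.h a b t ∈ S.Lg o := by
  unfold h
  exact mul_mem (S.w_mem_Lg o hab ha ha' hb hb' _) (S.w_mem_Lg o hab ha ha' hb hb' _)

theorem Yj_le_Yg (j : ι ⊕ ι) : S.Yj o j ≤ S.Yg o := by
  apply S.stcn1_XQ_mono
  rintro a b _ ⟨hb, _⟩
  exact hb

theorem Zg_le_Yj {j : ι ⊕ ι} (hj : j ≠ ng o) : S.Zg o ≤ S.Yj o j := by
  apply S.stcn1_XQ_mono
  rintro a b _ ⟨hb, rfl⟩
  exact ⟨hb, Ne.symm hj⟩

end N

end SysC

end Cfsg.Agent.Lib.helper3.STC
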