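import Mathlib
import Cfsg.Agent.Lib.helper17.T3.Defs
import Cfsg.Agent.Lib.Helper19.T3A.Defs
import Cfsg.Agent.Lib.Helper19.T3A.Comb
import Cfsg.Agent.Lib.helper23.CEUE1

/-!
# Project T3A (sub-designer helper19), rows D6 (`isMon_hs isMon_hl`) and D7 (`isMon_nS isMon_nw`): CORES (helper26).
The statements of the cited rows D1 (`isMon_one`), D2 (`IsMon.mul`), D3 (`IsMon.inv`), D4 (`isMon_ws`), D5 (`isMon_wl`) are hypotheses.
-/

set_option autoImplicit false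

namespace Cfsg.Agent.Lib.helper17.T3

open Matrix Cfsg.Agent.Lib.helper15.St2 Cfsg.Agent.Lib.helper7.Ce Cfsg.Agent.Lib.helper7.CEU Cfsg.Agent.Lib.Helper19.T3A

variable {F K : Type*} [Field F] [Field K] [Algebra F K]

namespace SysT

variable {C : Cub F K} {Γ : Type*} [Group Γ] (Q : SysT C Γ)

/-- core of D6, short roots: on the statements of D2 D3 D4 -/
theorem t3ad6h26_hs_core
    (hmul : ∀ {g g' : Γ} {w w' : W}, Q.IsMon g w → Q.IsMon g' w' → Q.IsMon (g * g') (W.mul w w'))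
    (hinv : ∀ {g : Γ} {w : W}, Q.IsMon g w → Q.IsMon g⁻¹ (W.inv w))
    (hws : ∀ (k : ZMod 6) {t : K}, t ≠ 0 → Q.IsMon (Q.ws k t) (refS k))
    (k : ZMod 6) {t : K} (ht : t ≠ 0) : Q.IsMon (Q.hs k t) W.one := by
  have h := hmul (hws k ht) (hinv (hws k (one_ne_zero (α := K))))
  rw [(refS_mul_inv k).1] at h
  exact h

/-- core of D6, long roots: on the statements of D2 D3 D5 -/
theorem t3ad6h26_hl_core
    (hmul : ∀ {g g' : Γ} {w w' : W}, Q.IsMon g w → Q.IsMon g' w' → Q.IsMon (g * g') (W.mul w w'))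
    (hinv : ∀ {g : Γ} {w : W}, Q.IsMon g w → Q.IsMon g⁻¹ (W.inv w))
    (hwl : ∀ (k : ZMod 6) {c : F}, c ≠ 0 → Q.IsMon (Q.wl k c) (refL k))
    (k : ZMod 6) {c : F} (hc : c ≠ 0) : Q.IsMon (Q.hl k c) W.one := by
  have h := hmul (hwl k hc) (hinv (hwl k (one_ne_zero (α := F))))
  rw [(refS_mul_inv k).2] at h
  exact h

/-- core of D7, simple reflections: on the statements of D4 D5 -/
theorem t3ad7h26_nS_core
    (hws : ∀ (k : ZMod 6) {t : K}, t ≠ 0 → Q.IsMon (Q.ws k t) (refS k))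
    (hwl : ∀ (k : ZMod 6) {c : F}, c ≠ 0 → Q.IsMon (Q.wl k c) (refL k))
    (s : Bool) : Q.IsMon (Q.nS s) (sref s) := by
  cases s
  · exact hwl 2 (one_ne_zero (α := F))
  · exact hws 0 (one_ne_zero (α := K))

/-- core of D7, words: on the statements of D1 D2 D4 D5 -/
theorem t3ad7h26_nw_core
    (hone : Q.IsMon 1 W.one)
    (hmul : ∀ {g g' : Γ} {w w' : W}, Q.IsMon g w → Q.IsMon g' w' → Q.IsMon (g * g') (W.mul w w'))
    (hws : ∀ (k : ZMod 6) {t : K}, t ≠ 0 → Q.IsMon (Q.ws k t) (refS k))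
    (hwl : ∀ (k : ZMod 6) {c : F}, c ≠ 0 → Q.IsMon (Q.wl k c) (refL k))
    (w : List Bool) : Q.IsMon (Q.nw w) (wdW w) := by
  induction w with
  | nil => exact hone
  | cons s w ih =>
    have : Q.nw (s :: w) = Q.nS s * Q.nw w := by
      unfold SysT.nw
      rw [List.map_cons, List.prod_cons]
    rw [this]
    exact hmul (t3ad7h26_nS_core Q hws hwl s) ih

end SysT

end Cfsg.Agent.Lib.helper17.T3
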