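import Mathlib
import Cfsg.Agent.Lib.helper17.T3.Defs
import Cfsg.Agent.Lib.Helper19.T3A.Defs
import Cfsg.Agent.Lib.Helper19.T3A.Comb
import Cfsg.Agent.Lib.helper23.CEUE1
import Cfsg.Agent.Lib.helper14.T3AD1
import Cfsg.Agent.Lib.helper14.T3AD4
import Cfsg.Agent.Lib.Helper26.T3AD6core

/-!
# Project T3A (sub-designer helper19), rows D6 (`isMon_hs isMon_hl`) and D7 (`isMon_nS isMon_nw`) (helper26), VERBATIM:
the cores of `Helper26/T3AD6core.lean` applied to the rows D1 D2 D3 (helper14 `T3AD1`) and D4 D5 (helper14 `T3AD4`).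
-/

set_option autoImplicit false

namespace Cfsg.Agent.Lib.helper17.T3

open Matrix Cfsg.Agent.Lib.helper15.St2 Cfsg.Agent.Lib.helper7.Ce Cfsg.Agent.Lib.helper7.CEU Cfsg.Agent.Lib.Helper19.T3A

variable {F K : Type*} [Field F] [Field K] [Algebra F K]

namespace SysT

variable {C : Cub F K} {Γ : Type*} [Group Γ] (Q : SysT C Γ)

-- ROW D6  [S]  `hs k t = ws k t * (ws k 1)⁻¹`: D4 twice, D3, D2, `refS_mul_inv`.
theorem isMon_hs (k : ZMod 6) {t : K} (ht : t ≠ 0) : Q.IsMon (Q.hs k t) W.one :=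
  Q.t3ad6h26_hs_core (fun h h' => IsMon.mul Q h h') (fun h => IsMon.inv Q h) (fun k _ ht => isMon_ws Q k ht) k ht

theorem isMon_hl (k : ZMod 6) {c : F} (hc : c ≠ 0) : Q.IsMon (Q.hl k c) W.one :=
  Q.t3ad6h26_hl_core (fun h h' => IsMon.mul Q h h') (fun h => IsMon.inv Q h) (fun k _ hc => isMon_wl Q k hc) k hc

-- ROW D7  [S]  D4 D5 at `t = 1`; induction on the word, D1 D2.
theorem isMon_nS (s : Bool) : Q.IsMon (Q.nS s) (sref s) :=
  Q.t3ad7h26_nS_core (fun k _ ht => isMon_ws Q k ht) (fun k _ hc => isMon_wl Q k hc) s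

theorem isMon_nw (w : List Bool) : Q.IsMon (Q.nw w) (wdW w) :=
  Q.t3ad7h26_nw_core (isMon_one Q) (fun h h' => IsMon.mul Q h h') (fun k _ ht => isMon_ws Q k ht) (fun k _ hc => isMon_wl Q k hc) w

end SysT

end Cfsg.Agent.Lib.helper17.T3
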