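import Mathlib
import Cfsg.Agent.Lib.helper23.TD4V.Defs
import Cfsg.Agent.Lib.helper8.ChevTwD4O

/-!
# Project TD4V (helper23), row J0: `phi_root` (helper26).
-/

set_option autoImplicit false

namespace Cfsg.Agent.Lib.helper23.TD4V

open Cfsg.Lie Cfsg.Lie.ChevalleyDatum Matrix
open Cfsg.Agent.Lib.helper8 Cfsg.Agent.Lib.helper8.TD4
open Cfsg.Agent.Lib.helper23.P4V

universe u v

section J

variable {K : Type u} [Field K]

theorem td4vj0_negIdx (r : ℕ) (hr : r < 24) : chevD4.negIdx.getD r 0 = 23 - r := by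
  interval_cases r <;> decide

/-- **J0** [M]. -/
theorem phi_root (r : ℕ) (hr : r < 24) :
    ∃ φ : Matrix.SpecialLinearGroup (Fin 2) K →* GG K,
      (∀ t, φ (h8slU t) = X r t) ∧ (∀ t, φ (h8slL t) = X (23 - r) t) ∧
      (∀ c : K, c ≠ 0 → φ (h8slD c) = hh r c) := by
  have hD : chevD4 ∈ [chevG2, chevB2, chevD4, chevF4, chevE6, chevE7, chevE8] := by simp
  have hA := h8reflAll chevD4 hD
  have hsc := h8scChk_all chevD4 hD
  have hc2 := h8cartan_simple chevD4 hD
  obtain ⟨dep, par, horb⟩ := h8orb_chk_all chevD4 hD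
  have hr' : r < chevD4.nroots := by
    have : chevD4.nroots = 24 := by decide
    omega
  obtain ⟨φ, -, hup, hlo⟩ := h8slHom_all (F := K) chevD4 hB hA hsc hc2 dep par horb r hr'
  have nr : chevD4.negIdx.getD r 0 = 23 - r := td4vj0_negIdx r hr
  rw [nr] at hlo
  have hU : ∀ t, φ (h8slU t) = h8xU chevD4 hB r t := fun t => hup _ t rfl
  have hL : ∀ t, φ (h8slL t) = h8xU chevD4 hB (23 - r) t := fun t => hlo _ t rfl
  have hn : ∀ c : K, c ≠ 0 → φ (h8slD c * h8slW) = h8nU chevD4 hB r c := by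
    intro c hc
    rw [h8slD_eq c hc, map_mul, map_mul, hU, hL, h8nU_eq, nr]
  have hW : φ h8slW = h8nU chevD4 hB r 1 := by
    have := hn 1 one_ne_zero
    rwa [h8slD_one, one_mul] at this
  refine ⟨φ, hU, hL, fun c hc => ?_⟩
  have h1 := hn c hc
  rw [map_mul, hW] at h1
  have e : h8hU chevD4 hB r c = h8nU chevD4 hB r c * h8nU chevD4 hB r (-1) := by
    unfold h8hU ChevalleyDatum.hWord
    rw [h8wordU_append]
    rfl
  show φ (h8slD c) = h8hU chevD4 hB r c
  rw [e, td4c3_nU_neg_one, ← h1, mul_inv_cancel_right]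

end J

end Cfsg.Agent.Lib.helper23.TD4V
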