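import Mathlib
import Cfsg.Agent.Lib.helper23.TD4V.Defs
import Cfsg.Agent.Lib.helper8.ChevTwD4O
import Cfsg.Agent.Lib.helper23.TD4VComm0
import Cfsg.Agent.Lib.helper23.TD4VComm1
import Cfsg.Agent.Lib.helper23.TD4VComm2
import Cfsg.Agent.Lib.helper23.TD4VComm3

/-!
# Project TD4V (helper23), row JB: `ident_B` (helper26).
-/

set_option autoImplicit false

namespace Cfsg.Agent.Lib.helper23.TD4V

open Cfsg.Lie Cfsg.Lie.ChevalleyDatum Matrix
open Cfsg.Agent.Lib.helper8 Cfsg.Agent.Lib.helper8.TD4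
open Cfsg.Agent.Lib.helper23.P4V

universe u v

/-- move `b` to the left of `a` when they commute (right-associated products) -/
theorem td4vjb_sw {G : Type*} [Group G] {a b : G} (h : a * b = b * a) (z : G) :
    a * (b * z) = b * (a * z) := by
  rw [← mul_assoc, h, mul_assoc]

/-- move `b` to the left of `a` with one commutator term `c` -/
theorem td4vjb_swc {G : Type*} [Group G] {a b c : G} (h : a * b = b * a * c) (z : G) :
    a * (b * z) = b * (a * (c * z)) := by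
  rw [← mul_assoc, h, mul_assoc, mul_assoc]

section J

variable {K : Type u} [Field K]

theorem td4vjb_key (s1 s2 s3 r1 r2 r3 : K) (z : GG K) :
    X 19 s1 * (X 16 s2 * (X 15 s3 * (X 5 r1 * (X 10 r2 * (X 11 r3 * z))))) =
      X 5 r1 * (X 10 r2 * (X 11 r3 * (X 14 (s1 * r1 - s2 * r2 - s3 * r3) *
        (X 19 s1 * (X 16 s2 * (X 15 s3 * z)))))) := by
  rw [td4vjb_sw (td4vc_c_5_15 r1 s3), td4vjb_sw (td4vc_c_5_16 r1 s2),
    td4vjb_swc (td4vc_c_5_19 r1 s1)]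
  rw [td4vjb_sw (td4vc_c_10_15 r2 s3), td4vjb_swc (td4vc_c_10_16 r2 s2),
    td4vjb_sw (td4vc_c_10_14 r2 (r1 * s1)), td4vjb_sw (td4vc_c_10_19 r2 s1)]
  rw [td4vjb_swc (td4vc_c_11_15 r3 s3), td4vjb_sw (td4vc_c_11_14 r3 (-(r2 * s2))),
    td4vjb_sw (td4vc_c_11_16 r3 s2), td4vjb_sw (td4vc_c_11_14 r3 (r1 * s1)),
    td4vjb_sw (td4vc_c_11_19 r3 s1)]
  rw [td4vjb_sw (td4vc_c_14_15 (-(r3 * s3)) s3), td4vc_add' 14 (by decide),
    td4vjb_sw (td4vc_c_14_16 (-(r2 * s2) + -(r3 * s3)) s2), td4vc_add' 14 (by decide),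
    td4vjb_sw (td4vc_c_14_19 (r1 * s1 + (-(r2 * s2) + -(r3 * s3))) s1)]
  have e : r1 * s1 + (-(r2 * s2) + -(r3 * s3)) = s1 * r1 - s2 * r2 - s3 * r3 := by ring
  rw [e]

/-- **JB** [M]. -/
theorem ident_B (s1 s2 s3 r1 r2 r3 : K) :
    XAB s1 s2 s3 * XmA r1 r2 r3 =
      XmA r1 r2 r3 * X 14 (s1 * r1 - s2 * r2 - s3 * r3) * XAB s1 s2 s3 := by
  have h := td4vjb_key s1 s2 s3 r1 r2 r3 1
  simp only [mul_one] at h
  simp only [XAB, XmA, mul_assoc]
  exact h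

end J

end Cfsg.Agent.Lib.helper23.TD4V
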