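import Cfsg.Agent.Lib.Helper26.FusionNC
import Cfsg.Agent.Lib.Helper26.SylowAux

set_option autoImplicit false

namespace Cfsg.Agent.Lib.Helper26

open Cfsg Cfsg.FusionSystem

variable {G : Type*} [Group G]

/-- the conjugate `g K g⁻¹` -/
abbrev cj (K : Subgroup G) (g : G) : Subgroup G := K.map (MulAut.conj g).toMonoidHom

theorem mem_cj_iff {K : Subgroup G} {g z : G} : z ∈ cj K g ↔ g⁻¹ * z * g ∈ K := by
  constructor
  · rintro ⟨x, hx, rfl⟩
    have : g⁻¹ * ((MulAut.conj g).toMonoidHom x) * g = x := by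
      show g⁻¹ * (g * x * g⁻¹) * g = x
      group
    rw [this]; exact hx
  · intro h
    refine ⟨g⁻¹ * z * g, h, ?_⟩
    show g * (g⁻¹ * z * g) * g⁻¹ = z
    group

theorem conj_mem_cj {K : Subgroup G} {g x : G} (hx : x ∈ K) : g * x * g⁻¹ ∈ cj K g :=
  ⟨x, hx, rfl⟩

theorem cj_one (K : Subgroup G) : cj K 1 = K := by
  ext z
  rw [mem_cj_iff]
  simp

theorem cj_cj (K : Subgroup G) (g h : G) : cj (cj K g) h = cj K (h * g) := by
  ext z
  rw [mem_cj_iff, mem_cj_iff, mem_cj_iff]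
  have : g⁻¹ * (h⁻¹ * z * h) * g = (h * g)⁻¹ * z * (h * g) := by group
  rw [this]

theorem cj_inv_cj (K : Subgroup G) (g : G) : cj (cj K g) g⁻¹ = K := by
  rw [cj_cj, inv_mul_cancel, cj_one]

theorem cj_mono {K L : Subgroup G} (h : K ≤ L) (g : G) : cj K g ≤ cj L g :=
  Subgroup.map_mono h

theorem card_cj [Finite G] (K : Subgroup G) (g : G) : Nat.card (cj K g) = Nat.card K :=
  Subgroup.card_map_of_injective (MulAut.conj g).injective

theorem isPGroup_cj {p : ℕ} {K : Subgroup G} (hK : IsPGroup p K) (g : G) : IsPGroup p (cj K g) :=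
  hK.map _

theorem mem_normalizer_cj_iff {K : Subgroup G} {g x : G} :
    x ∈ Subgroup.normalizer ((cj K g : Subgroup G) : Set G) ↔
      g⁻¹ * x * g ∈ Subgroup.normalizer (K : Set G) := by
  rw [Subgroup.mem_normalizer_iff, Subgroup.mem_normalizer_iff]
  constructor
  · intro h y
    have := h (g * y * g⁻¹)
    rw [mem_cj_iff, mem_cj_iff] at this
    have e1 : g⁻¹ * (g * y * g⁻¹) * g = y := by group
    have e2 : g⁻¹ * (x * (g * y * g⁻¹) * x⁻¹) * g = g⁻¹ * x * g * y * (g⁻¹ * x * g)⁻¹ := by group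
    rw [e1, e2] at this
    exact this
  · intro h y
    rw [mem_cj_iff, mem_cj_iff]
    have := h (g⁻¹ * y * g)
    have e2 : g⁻¹ * x * g * (g⁻¹ * y * g) * (g⁻¹ * x * g)⁻¹ = g⁻¹ * (x * y * x⁻¹) * g := by group
    rw [e2] at this
    exact this

theorem mem_centralizer_cj_iff {K : Subgroup G} {g x : G} :
    x ∈ Subgroup.centralizer ((cj K g : Subgroup G) : Set G) ↔
      g⁻¹ * x * g ∈ Subgroup.centralizer (K : Set G) := by
  rw [Subgroup.mem_centralizer_iff, Subgroup.mem_centralizer_iff]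
  constructor
  · intro h y hy
    have := h (g * y * g⁻¹) (conj_mem_cj hy)
    calc y * (g⁻¹ * x * g) = g⁻¹ * (g * y * g⁻¹ * x) * g := by group
      _ = g⁻¹ * (x * (g * y * g⁻¹)) * g := by rw [this]
      _ = g⁻¹ * x * g * y := by group
  · intro h y hy
    have hy' : g⁻¹ * y * g ∈ K := mem_cj_iff.mp hy
    have := h _ hy'
    calc y * x = g * (g⁻¹ * y * g * (g⁻¹ * x * g)) * g⁻¹ := by group
      _ = g * (g⁻¹ * x * g * (g⁻¹ * y * g)) * g⁻¹ := by rw [this]
      _ = x * y := by group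

theorem normalizer_cj (K : Subgroup G) (g : G) :
    Subgroup.normalizer ((cj K g : Subgroup G) : Set G) = cj (Subgroup.normalizer (K : Set G)) g := by
  ext x
  rw [mem_normalizer_cj_iff, mem_cj_iff]

theorem centralizer_cj (K : Subgroup G) (g : G) :
    Subgroup.centralizer ((cj K g : Subgroup G) : Set G) = cj (Subgroup.centralizer (K : Set G)) g := by
  ext x
  rw [mem_centralizer_cj_iff, mem_cj_iff]

theorem exists_conj_le_sylow {p : ℕ} [Fact p.Prime] [Finite G] (S : Sylow p G) {L : Subgroup G}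
    (hL : IsPGroup p L) : ∃ g : G, cj L g ≤ S := by
  obtain ⟨R', hR'⟩ := hL.exists_le_sylow
  obtain ⟨g, hg⟩ := MulAction.exists_smul_eq G R' S
  refine ⟨g, ?_⟩
  rintro _ ⟨x, hx, rfl⟩
  have h2 : g * x * g⁻¹ ∈ (g • R' : Sylow p G) := by
    rw [← SetLike.mem_coe, Sylow.coe_smul]
    exact ⟨_, hR' hx, rfl⟩
  rw [hg] at h2
  exact h2

/-! ### The fusion system of a group -/

theorem groupFS_mem_iff {S : Subgroup G} {P : Subgroup G} {φ : P →* G} :
    φ ∈ (groupFusionSystem S).Hom P ↔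
      P ≤ S ∧ (∀ x : P, φ x ∈ S) ∧ ∃ g : G, ∀ x : P, φ x = g * (x : G) * g⁻¹ := Iff.rfl

theorem groupFS_conjHom_mem {S : Subgroup G} {P : Subgroup G} (hP : P ≤ S) (g : G)
    (h : cj P g ≤ S) : conjHom P g ∈ (groupFusionSystem S).Hom P :=
  ⟨hP, fun x => h (conj_mem_cj x.2), g, fun _ => rfl⟩

theorem range_conjHom (P : Subgroup G) (g : G) : (conjHom P g).range = cj P g := by
  ext z
  constructor
  · rintro ⟨x, rfl⟩
    exact conj_mem_cj x.2
  · rintro ⟨x, hx, rfl⟩
    exact ⟨⟨x, hx⟩, rfl⟩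

theorem groupFS_isConj_iff {S : Subgroup G} {P Q : Subgroup G} :
    (groupFusionSystem S).IsConj P Q ↔ P ≤ S ∧ Q ≤ S ∧ ∃ g : G, cj P g = Q := by
  constructor
  · rintro ⟨φ, ⟨hP, hφS, g, hg⟩, hr⟩
    have hφ : φ = conjHom P g := MonoidHom.ext hg
    refine ⟨hP, ?_, g, ?_⟩
    · rw [← hr]
      rintro _ ⟨x, rfl⟩
      exact hφS x
    · rw [← hr, hφ, range_conjHom]
  · rintro ⟨hP, hQ, g, rfl⟩
    exact ⟨conjHom P g, groupFS_conjHom_mem hP g hQ, range_conjHom P g⟩

theorem normalizerIn_cj_le {S : Subgroup G} (P : Subgroup G) (g : G) {L : Subgroup G}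
    (hL : L ≤ Subgroup.normalizer (P : Set G)) (hLS : cj L g ≤ S) :
    cj L g ≤ normalizerIn S (cj P g) := by
  intro z hz
  exact ⟨hLS hz, mem_normalizer_cj_iff.mpr (hL (mem_cj_iff.mp hz))⟩

theorem centralizerIn_cj_le {S : Subgroup G} (P : Subgroup G) (g : G) {L : Subgroup G}
    (hL : L ≤ Subgroup.centralizer (P : Set G)) (hLS : cj L g ≤ S) :
    cj L g ≤ centralizerIn S (cj P g) := by
  intro z hz
  exact ⟨hLS hz, mem_centralizer_cj_iff.mpr (hL (mem_cj_iff.mp hz))⟩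

end Cfsg.Agent.Lib.Helper26

namespace Cfsg.Agent.Lib.Helper26

open Cfsg Cfsg.FusionSystem

variable {G : Type*} [Group G]

theorem card_le_of_cj_le [Finite G] {L M : Subgroup G} {g : G} (h : cj L g ≤ M) :
    Nat.card L ≤ Nat.card M := by
  rw [← card_cj L g]
  exact Nat.card_le_card_of_injective (Subgroup.inclusion h) (Subgroup.inclusion_injective h)

theorem fully_iff_isSylowIn {p : ℕ} [Fact p.Prime] [Finite G] (S : Sylow p G)
    (X : Subgroup G → Subgroup G) (hXcj : ∀ K g, X (cj K g) = cj (X K) g)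
    (hXN : ∀ K : Subgroup G, X K ≤ Subgroup.normalizer (K : Set G)) (P : Subgroup G)
    (hP : P ≤ (S : Subgroup G)) :
    (∀ Q, (groupFusionSystem (S : Subgroup G)).IsConj P Q →
        Nat.card ↥((S : Subgroup G) ⊓ X Q) ≤ Nat.card ↥((S : Subgroup G) ⊓ X P)) ↔
      IsSylowIn p (X P) ((S : Subgroup G) ⊓ X P) := by
  have hPp : IsPGroup p P := S.isPGroup'.to_le hP
  constructor
  · intro hfull
    refine isSylowIn_of_forall_card_le inf_le_right (S.isPGroup'.to_le inf_le_left) ?_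
    intro L hLX hL _
    have hLP : IsPGroup p (L ⊔ P : Subgroup G) :=
      hL.to_sup_of_normal_right' hPp (hLX.trans (hXN P))
    obtain ⟨g, hg⟩ := exists_conj_le_sylow S hLP
    have hQS : cj P g ≤ (S : Subgroup G) := (cj_mono le_sup_right g).trans hg
    have hLS : cj L g ≤ (S : Subgroup G) := (cj_mono le_sup_left g).trans hg
    have hconj : (groupFusionSystem (S : Subgroup G)).IsConj P (cj P g) :=
      groupFS_isConj_iff.mpr ⟨hP, hQS, g, rfl⟩
    have h1 : cj L g ≤ (S : Subgroup G) ⊓ X (cj P g) := by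
      refine le_inf hLS ?_
      rw [hXcj]
      exact cj_mono hLX g
    exact (card_le_of_cj_le h1).trans (hfull _ hconj)
  · intro hsyl Q hQ
    obtain ⟨-, hQS, g, rfl⟩ := groupFS_isConj_iff.mp hQ
    have h1 : cj ((S : Subgroup G) ⊓ X (cj P g)) g⁻¹ ≤ X P := by
      have : cj (X (cj P g)) g⁻¹ = X P := by rw [hXcj, cj_inv_cj]
      rw [← this]
      exact cj_mono inf_le_right _
    have h2 : IsPGroup p (cj ((S : Subgroup G) ⊓ X (cj P g)) g⁻¹) :=
      isPGroup_cj (S.isPGroup'.to_le inf_le_left) _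
    have := hsyl.card_le inf_le_right h1 h2
    rwa [card_cj] at this

end Cfsg.Agent.Lib.Helper26
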