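import Mathlib
import Cfsg.Prelude.Def_FusionSystem

set_option autoImplicit false

namespace Cfsg.Agent.Lib.Helper26

open Cfsg Cfsg.FusionSystem

variable {Ω : Type*} [Group Ω] {S : Subgroup Ω}

theorem conjHom_apply (P : Subgroup Ω) (g : Ω) (x : P) : conjHom P g x = g * (x : Ω) * g⁻¹ := rfl

theorem conjHom_one (P : Subgroup Ω) : conjHom P 1 = P.subtype := by
  ext x
  simp [conjHom_apply]

theorem mem_of_forall_eq (F : FusionSystem S) {P : Subgroup Ω} {φ φ' : P →* Ω} (hφ : φ ∈ F.Hom P)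
    (h : ∀ x : P, φ' x = φ x) : φ' ∈ F.Hom P := by
  have : φ' = φ := MonoidHom.ext h
  rw [this]
  exact hφ

theorem subtype_mem (F : FusionSystem S) {P : Subgroup Ω} (hP : P ≤ S) : P.subtype ∈ F.Hom P := by
  have := F.conj_mem (g := 1) hP S.one_mem
  rwa [conjHom_one] at this

theorem restrict_mem (F : FusionSystem S) {P Q : Subgroup Ω} {φ : P →* Ω} (hφ : φ ∈ F.Hom P)
    (hQP : Q ≤ P) : φ.comp (Subgroup.inclusion hQP) ∈ F.Hom Q := by
  have hQS : Q ≤ S := hQP.trans (F.le_of_mem hφ).1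
  have h := F.comp_mem (subtype_mem F hQS) hφ (fun x => hQP x.2)
  exact mem_of_forall_eq F h (fun x => rfl)

theorem source_le (F : FusionSystem S) {P : Subgroup Ω} {φ : P →* Ω} (hφ : φ ∈ F.Hom P) : P ≤ S :=
  (F.le_of_mem hφ).1

theorem apply_mem (F : FusionSystem S) {P : Subgroup Ω} {φ : P →* Ω} (hφ : φ ∈ F.Hom P) (x : P) :
    φ x ∈ S :=
  (F.le_of_mem hφ).2 x

theorem range_le (F : FusionSystem S) {P : Subgroup Ω} {φ : P →* Ω} (hφ : φ ∈ F.Hom P) :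
    φ.range ≤ S := by
  rintro _ ⟨x, rfl⟩
  exact apply_mem F hφ x

theorem exists_inv (F : FusionSystem S) {P Q : Subgroup Ω} {φ : P →* Ω} (hφ : φ ∈ F.Hom P)
    (hQ : φ.range = Q) :
    ∃ ψ ∈ F.Hom Q, ψ.range = P ∧ (∀ (x : P) (h : φ x ∈ Q), ψ ⟨φ x, h⟩ = x) ∧
      (∀ (y : Q) (h : ψ y ∈ P), φ ⟨ψ y, h⟩ = y) := by
  subst hQ
  obtain ⟨ψ, hψ, hinv⟩ := F.inv_mem hφ
  refine ⟨ψ, hψ, ?_, fun x h => hinv x, ?_⟩
  · ext y
    constructor
    · rintro ⟨⟨_, x, rfl⟩, rfl⟩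
      rw [hinv x]
      exact x.2
    · intro hy
      exact ⟨⟨φ ⟨y, hy⟩, ⟨y, hy⟩, rfl⟩, hinv ⟨y, hy⟩⟩
  · rintro ⟨_, x, rfl⟩ h
    have : (⟨ψ ⟨φ x, ⟨x, rfl⟩⟩, h⟩ : P) = x := Subtype.ext (hinv x)
    rw [this]

theorem isConj_refl (F : FusionSystem S) {P : Subgroup Ω} (hP : P ≤ S) : F.IsConj P P :=
  ⟨P.subtype, subtype_mem F hP, P.range_subtype⟩

theorem isConj_symm (F : FusionSystem S) {P Q : Subgroup Ω} (h : F.IsConj P Q) : F.IsConj Q P := by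
  obtain ⟨φ, hφ, hr⟩ := h
  obtain ⟨ψ, hψ, hr', -, -⟩ := exists_inv F hφ hr
  exact ⟨ψ, hψ, hr'⟩

theorem isConj_trans (F : FusionSystem S) {P Q R : Subgroup Ω} (h₁ : F.IsConj P Q)
    (h₂ : F.IsConj Q R) : F.IsConj P R := by
  obtain ⟨φ, hφ, hr⟩ := h₁
  obtain ⟨ψ, hψ, hr'⟩ := h₂
  have hφQ : ∀ x : P, φ x ∈ Q := fun x => hr ▸ ⟨x, rfl⟩
  refine ⟨ψ.comp (φ.codRestrict Q hφQ), F.comp_mem hφ hψ hφQ, ?_⟩
  ext z
  constructor
  · rintro ⟨x, rfl⟩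
    rw [← hr']
    exact ⟨_, rfl⟩
  · intro hz
    rw [← hr'] at hz
    obtain ⟨y, rfl⟩ := hz
    have hy : (y : Ω) ∈ φ.range := hr ▸ y.2
    obtain ⟨x, hx⟩ := hy
    refine ⟨x, ?_⟩
    show ψ (φ.codRestrict Q hφQ x) = ψ y
    congr 1
    exact Subtype.ext hx

theorem isConj_le_left (F : FusionSystem S) {P Q : Subgroup Ω} (h : F.IsConj P Q) : P ≤ S := by
  obtain ⟨φ, hφ, -⟩ := h
  exact source_le F hφ

theorem isConj_le_right (F : FusionSystem S) {P Q : Subgroup Ω} (h : F.IsConj P Q) : Q ≤ S := by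
  obtain ⟨φ, hφ, hr⟩ := h
  rw [← hr]
  exact range_le F hφ

def extenderSet (S P : Subgroup Ω) (φ : P →* Ω) : Set Ω :=
  {g : Ω | g ∈ S ∧ g ∈ Subgroup.normalizer (P : Set Ω) ∧
    ∃ h ∈ S, ∀ (x : P) (hx : g * (x : Ω) * g⁻¹ ∈ P), φ ⟨g * x * g⁻¹, hx⟩ = h * φ x * h⁻¹}

theorem extender_eq_closure (S P : Subgroup Ω) (φ : P →* Ω) :
    extender S P φ = Subgroup.closure (extenderSet S P φ) := rfl

theorem conj_mem_of_mem_normalizer {P : Subgroup Ω} {g : Ω} (hg : g ∈ Subgroup.normalizer (P : Set Ω))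
    (x : P) : g * (x : Ω) * g⁻¹ ∈ P :=
  (Subgroup.mem_normalizer_iff.mp hg x).mp x.2

theorem conj_inv_mem_of_mem_normalizer {P : Subgroup Ω} {g : Ω} (hg : g ∈ Subgroup.normalizer (P : Set Ω))
    (x : P) : g⁻¹ * (x : Ω) * g ∈ P :=
  (Subgroup.mem_normalizer_iff''.mp hg x).mp x.2

theorem mem_extenderSet_iff {S P : Subgroup Ω} {φ : P →* Ω} {g : Ω} :
    g ∈ extenderSet S P φ ↔ ∃ (_ : g ∈ S) (hN : g ∈ Subgroup.normalizer (P : Set Ω)),
      ∃ h ∈ S, ∀ x : P, φ ⟨g * x * g⁻¹, conj_mem_of_mem_normalizer hN x⟩ = h * φ x * h⁻¹ := by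
  constructor
  · rintro ⟨hS, hN, h, hh, hx⟩
    exact ⟨hS, hN, h, hh, fun x => hx x _⟩
  · rintro ⟨hS, hN, h, hh, hx⟩
    exact ⟨hS, hN, h, hh, fun x _ => hx x⟩

theorem extender_eq_set (S P : Subgroup Ω) (φ : P →* Ω) :
    (extender S P φ : Set Ω) = extenderSet S P φ := by
  apply le_antisymm _ Subgroup.subset_closure
  intro g hg
  refine Subgroup.closure_induction (p := fun g _ => g ∈ extenderSet S P φ) (fun x hx => hx) ?_ ?_ ?_ hg
  · refine ⟨S.one_mem, Subgroup.one_mem _, 1, S.one_mem, fun x hx => ?_⟩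
    simp
  · rintro a b _ _ ha hb
    rw [mem_extenderSet_iff] at ha hb ⊢
    obtain ⟨haS, haN, h₁, hh₁, h1⟩ := ha
    obtain ⟨hbS, hbN, h₂, hh₂, h2⟩ := hb
    refine ⟨S.mul_mem haS hbS, Subgroup.mul_mem _ haN hbN, h₁ * h₂, S.mul_mem hh₁ hh₂, fun x => ?_⟩
    have e1 := h2 x
    have e2 := h1 ⟨b * x * b⁻¹, conj_mem_of_mem_normalizer hbN x⟩
    have : (⟨a * b * (x : Ω) * (a * b)⁻¹, conj_mem_of_mem_normalizer (Subgroup.mul_mem _ haN hbN) x⟩ : P) =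
        ⟨a * (b * (x : Ω) * b⁻¹) * a⁻¹, conj_mem_of_mem_normalizer haN ⟨b * x * b⁻¹, conj_mem_of_mem_normalizer hbN x⟩⟩ := by
      apply Subtype.ext
      simp only [mul_inv_rev, mul_assoc]
    rw [this, e2, e1]
    simp only [mul_inv_rev, mul_assoc]
  · rintro a _ ha
    rw [mem_extenderSet_iff] at ha ⊢
    obtain ⟨haS, haN, h₁, hh₁, h1⟩ := ha
    refine ⟨S.inv_mem haS, Subgroup.inv_mem _ haN, h₁⁻¹, S.inv_mem hh₁, fun x => ?_⟩
    have e := h1 ⟨a⁻¹ * x * a⁻¹⁻¹, conj_mem_of_mem_normalizer (Subgroup.inv_mem _ haN) x⟩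
    have : (⟨a * ((⟨a⁻¹ * x * a⁻¹⁻¹, conj_mem_of_mem_normalizer (Subgroup.inv_mem _ haN) x⟩ : P) : Ω) * a⁻¹,
        conj_mem_of_mem_normalizer haN _⟩ : P) = x := by
      apply Subtype.ext
      simp [mul_assoc]
    rw [this] at e
    rw [e]
    simp [mul_assoc]

theorem mem_extender_iff {S P : Subgroup Ω} {φ : P →* Ω} {g : Ω} :
    g ∈ extender S P φ ↔ ∃ (_ : g ∈ S) (hN : g ∈ Subgroup.normalizer (P : Set Ω)),
      ∃ h ∈ S, ∀ x : P, φ ⟨g * x * g⁻¹, conj_mem_of_mem_normalizer hN x⟩ = h * φ x * h⁻¹ := by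
  rw [← mem_extenderSet_iff, ← extender_eq_set]
  rfl

theorem extender_le_normalizerIn (S P : Subgroup Ω) (φ : P →* Ω) :
    extender S P φ ≤ normalizerIn S P := by
  intro g hg
  obtain ⟨hS, hN, -⟩ := mem_extender_iff.mp hg
  exact ⟨hS, hN⟩


theorem centralizer_le_normalizer_aux (P : Subgroup Ω) :
    Subgroup.centralizer (P : Set Ω) ≤ Subgroup.normalizer (P : Set Ω) := by
  intro g hg
  rw [Subgroup.mem_normalizer_iff]
  intro x
  have key : ∀ (k : Ω), k ∈ Subgroup.centralizer (P : Set Ω) → ∀ y ∈ P, k * y * k⁻¹ = y := by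
    intro k hk y hy
    have := hk y hy
    rw [← this, mul_inv_cancel_right]
  constructor
  · intro hx
    rw [key g hg x hx]; exact hx
  · intro hx
    have := key g⁻¹ (Subgroup.inv_mem _ hg) _ hx
    have h2 : g⁻¹ * (g * x * g⁻¹) * g⁻¹⁻¹ = x := by group
    rw [h2] at this
    rw [this]; exact hx

theorem centralizerIn_le_normalizerIn (S P : Subgroup Ω) : centralizerIn S P ≤ normalizerIn S P :=
  inf_le_inf_left S (centralizer_le_normalizer_aux P)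

theorem conj_eq_of_mem_centralizer {P : Subgroup Ω} {g : Ω}
    (hg : g ∈ Subgroup.centralizer (P : Set Ω)) {x : Ω} (hx : x ∈ P) : g * x * g⁻¹ = x := by
  have := hg x hx
  rw [← this, mul_inv_cancel_right]

theorem centralizerIn_le_extender (S P : Subgroup Ω) (φ : P →* Ω) :
    centralizerIn S P ≤ extender S P φ := by
  rintro g ⟨hS, hC⟩
  have hN : g ∈ Subgroup.normalizer (P : Set Ω) := centralizer_le_normalizer_aux P hC
  refine mem_extender_iff.mpr ⟨hS, hN, 1, S.one_mem, fun x => ?_⟩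
  have : (⟨g * x * g⁻¹, conj_mem_of_mem_normalizer hN x⟩ : P) = x :=
    Subtype.ext (conj_eq_of_mem_centralizer hC x.2)
  rw [this]; simp

theorem le_extender (F : FusionSystem S) {P : Subgroup Ω} {φ : P →* Ω} (hφ : φ ∈ F.Hom P) :
    P ≤ extender S P φ := by
  intro g hg
  have hN : g ∈ Subgroup.normalizer (P : Set Ω) := Subgroup.le_normalizer hg
  refine mem_extender_iff.mpr ⟨source_le F hφ hg, hN, φ ⟨g, hg⟩, apply_mem F hφ _, fun x => ?_⟩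
  have : (⟨g * x * g⁻¹, conj_mem_of_mem_normalizer hN x⟩ : P) = ⟨g, hg⟩ * x * ⟨g, hg⟩⁻¹ :=
    Subtype.ext rfl
  rw [this, map_mul, map_mul, map_inv]

end Cfsg.Agent.Lib.Helper26
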