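import Cfsg.Agent.Lib.Helper26.FusionSat2

set_option autoImplicit false

namespace Cfsg.Agent.Lib.Helper26

open Cfsg Cfsg.FusionSystem

section GroupLemmas

variable {G : Type*} [Group G]

theorem exists_normalizing_of_lt {K L : Subgroup G} [Finite L] {p : ℕ} [Fact p.Prime]
    (hL : IsPGroup p L) (hKL : K ≤ L) (hne : K ≠ L) :
    ∃ x ∈ L, x ∉ K ∧ x ∈ Subgroup.normalizer (K : Set G) := by
  have hnil : Group.IsNilpotent L := hL.isNilpotent
  have hH : K.subgroupOf L < ⊤ := by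
    rw [lt_top_iff_ne_top]
    intro h
    apply hne
    apply le_antisymm hKL
    intro x hx
    have : (⟨x, hx⟩ : L) ∈ K.subgroupOf L := by rw [h]; trivial
    exact Subgroup.mem_subgroupOf.mp this
  have hlt := Group.normalizerCondition_of_isNilpotent (G := L) (K.subgroupOf L) hH
  obtain ⟨y, hyN, hyK⟩ := SetLike.exists_of_lt hlt
  refine ⟨y, y.2, fun h => hyK (Subgroup.mem_subgroupOf.mpr h), ?_⟩
  rw [Subgroup.mem_normalizer_iff] at hyN ⊢
  intro k
  constructor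
  · intro hk
    have := (hyN ⟨k, hKL hk⟩).mp (Subgroup.mem_subgroupOf.mpr hk)
    exact Subgroup.mem_subgroupOf.mp this
  · intro hk
    have hkL : k ∈ L := by
      have h1 : (y : G)⁻¹ * ((y : G) * k * (y : G)⁻¹) * (y : G) ∈ L :=
        L.mul_mem (L.mul_mem (L.inv_mem y.2) (hKL hk)) y.2
      have e : (y : G)⁻¹ * ((y : G) * k * (y : G)⁻¹) * (y : G) = k := by group
      rwa [e] at h1
    have := (hyN ⟨k, hkL⟩).mpr (Subgroup.mem_subgroupOf.mpr hk)
    exact Subgroup.mem_subgroupOf.mp this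

theorem isSylowIn_or_exists {p : ℕ} [Fact p.Prime] {H U : Subgroup G} [Finite H] (hUH : U ≤ H)
    (hU : IsPGroup p U) :
    IsSylowIn p H U ∨
      ∃ α ∈ H, α ∉ U ∧ α ∈ Subgroup.normalizer (U : Set G) ∧ ∃ k : ℕ, α ^ (p ^ k) = 1 := by
  by_cases hex : ∃ α ∈ H, α ∉ U ∧ α ∈ Subgroup.normalizer (U : Set G) ∧ ∃ k : ℕ, α ^ (p ^ k) = 1
  · exact Or.inr hex
  · left
    refine isSylowIn_of_forall_card_le hUH hU ?_
    intro L hLH hL hUL
    by_cases hne : U = L
    · rw [hne]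
    · exfalso
      have hfinL : Finite L := Finite.of_injective (Subgroup.inclusion hLH) (Subgroup.inclusion_injective _)
      obtain ⟨x, hxL, hxU, hxN⟩ := exists_normalizing_of_lt hL hUL hne
      obtain ⟨k, hk⟩ := hL ⟨x, hxL⟩
      exact hex ⟨x, hLH hxL, hxU, hxN, k, congrArg Subtype.val hk⟩

end GroupLemmas

variable {Ω : Type*} [Group Ω] {S : Subgroup Ω}

/-- An `F`-isomorphism `e : Q ≃* P` onto a receptive subgroup, such that every element of `N_S(Q)`
acts (through `e`) as an element of `S`, extends to `N_S(Q)`. -/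
theorem extend_to_normalizer (F : FusionSystem S) {Q P : Subgroup Ω} (hP : F.IsReceptive P)
    (e : Q ≃* P) (he : IsIso F e)
    (hN : ∀ g (hg : g ∈ normalizerIn S Q), ∃ h ∈ S, ∀ x : Q,
      ((e ⟨g * x * g⁻¹, conj_mem_of_mem_normalizer hg.2 x⟩ : P) : Ω) = h * (e x : P) * h⁻¹) :
    ∃ N : NormalizerHom F Q P, ∀ x : Q,
      N.φ ⟨x, le_normalizerIn_self he.source_le x.2⟩ = (e x : P) := by
  have hQS : Q ≤ S := he.source_le
  set φ₀ : Q →* Ω := P.subtype.comp e.toMonoidHom with hφ₀def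
  have hφ₀ : φ₀ ∈ F.Hom Q := he
  have hφ₀r : φ₀.range = P := range_subtype_comp_equiv _
  have hNle : normalizerIn S Q ≤ extender S Q φ₀ := by
    intro g hg
    obtain ⟨h, hhS, hh⟩ := hN g hg
    exact mem_extender_iff.mpr ⟨hg.1, hg.2, h, hhS, fun x => hh x⟩
  obtain ⟨χ, hχ, hχφ₀⟩ := hP.2 Q φ₀ hφ₀ hφ₀r
  have hQN : Q ≤ normalizerIn S Q := le_normalizerIn_self hQS
  have hχQ : ∀ x : Q, χ ⟨x, hNle (hQN x.2)⟩ = φ₀ x := fun x => hχφ₀ x x.2 _
  have himg : ∀ y ∈ P, ∃ x : Q, χ ⟨x, hNle (hQN x.2)⟩ = y := by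
    intro y hy
    obtain ⟨x, hx⟩ := hφ₀r.ge hy
    exact ⟨x, (hχQ x).trans hx⟩
  have hconjmem : ∀ (n : ↥(normalizerIn S Q)), ∀ y ∈ P,
      χ ⟨n, hNle n.2⟩ * y * (χ ⟨n, hNle n.2⟩)⁻¹ ∈ P := by
    intro n y hy
    obtain ⟨x, rfl⟩ := himg y hy
    have hx' : (n : Ω) * x * (n : Ω)⁻¹ ∈ Q := conj_mem_of_mem_normalizer n.2.2 x
    have : χ ⟨n, hNle n.2⟩ * χ ⟨x, hNle (hQN x.2)⟩ * (χ ⟨n, hNle n.2⟩)⁻¹ =
        χ ⟨(n : Ω) * x * (n : Ω)⁻¹, hNle (hQN hx')⟩ := by
      rw [← map_inv, ← map_mul, ← map_mul]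
      rfl
    rw [this, hχQ ⟨_, hx'⟩]
    exact hφ₀r.le ⟨_, rfl⟩
  refine ⟨⟨χ.comp (Subgroup.inclusion hNle), restrict_mem F hχ hNle, ?_, ?_⟩, fun x => hχQ x⟩
  · intro n
    refine ⟨apply_mem F hχ _, ?_⟩
    refine mem_normalizer_of_forall (hconjmem n) (fun y hy => ?_)
    have := hconjmem n⁻¹ y hy
    have e2 : χ ⟨((n⁻¹ : ↥(normalizerIn S Q)) : Ω), hNle (n⁻¹).2⟩ = (χ ⟨n, hNle n.2⟩)⁻¹ := by
      rw [← map_inv]
      rfl
    rw [e2, inv_inv] at this
    exact this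
  · ext z
    constructor
    · rintro ⟨x, hx, rfl⟩
      have hxQ : (x : Ω) ∈ Q := Subgroup.mem_subgroupOf.mp hx
      have := hχQ ⟨x, hxQ⟩
      show χ (Subgroup.inclusion hNle x) ∈ P
      have e3 : Subgroup.inclusion hNle x = ⟨(x : Ω), hNle (hQN hxQ)⟩ := rfl
      rw [e3, this]
      exact hφ₀r.le ⟨_, rfl⟩
    · intro hz
      obtain ⟨x, hx⟩ := hφ₀r.ge hz
      refine ⟨⟨x, hQN x.2⟩, Subgroup.mem_subgroupOf.mpr x.2, ?_⟩
      rw [← hx, ← hχQ x]
      rfl

theorem isPGroup_zpowers_of_pow_eq_one {G : Type*} [Group G] {p k : ℕ} {x : G} (h : x ^ (p ^ k) = 1) :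
    IsPGroup p (Subgroup.zpowers x) := by
  rintro ⟨y, hy⟩
  obtain ⟨j, rfl⟩ := Subgroup.mem_zpowers_iff.mp hy
  refine ⟨k, Subtype.ext ?_⟩
  show (x ^ j) ^ (p ^ k) = 1
  rw [← zpow_natCast, ← zpow_mul, mul_comm, zpow_mul, zpow_natCast, h, one_zpow]

theorem card_lt_card_of_lt {G : Type*} [Group G] {K L : Subgroup G} [Finite L] (h : K < L) :
    Nat.card K < Nat.card L := by
  have hle : Nat.card K ≤ Nat.card L :=
    Nat.card_le_card_of_injective (Subgroup.inclusion h.le) (Subgroup.inclusion_injective _)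
  rcases hle.lt_or_eq with h1 | h1
  · exact h1
  · exfalso
    have hfinK : Finite K := Finite.of_injective (Subgroup.inclusion h.le) (Subgroup.inclusion_injective _)
    exact h.ne (Subgroup.eq_of_le_of_card_ge h.le h1.ge)

theorem aut_pow_restrict {Q R : Subgroup Ω} (hQR : Q ≤ R) (β : MulAut R) (α : MulAut Q)
    (h : ∀ x : Q, ((β ⟨x, hQR x.2⟩ : R) : Ω) = (α x : Q)) (m : ℕ) :
    ∀ x : Q, (((β ^ m) ⟨x, hQR x.2⟩ : R) : Ω) = ((α ^ m) x : Q) := by
  induction m with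
  | zero => intro x; simp
  | succ m ih =>
    intro x
    rw [pow_succ', pow_succ', MulAut.mul_apply, MulAut.mul_apply]
    have := ih x
    have e : ((β ^ m) ⟨x, hQR x.2⟩ : R) = ⟨((α ^ m) x : Q), hQR ((α ^ m) x).2⟩ := Subtype.ext this
    rw [e, h]

/-- The contradiction at the heart of the Roberts–Shpectorov argument. -/
theorem rs_contradiction [Finite S] {p : ℕ} [Fact p.Prime] (hS : IsPGroup p S)
    (F : FusionSystem S) (h2 : ∀ P : Subgroup Ω, F.IsFullyNormalized P → F.IsReceptive P)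
    {Q : Subgroup Ω} (hQn : F.IsFullyNormalized Q)
    (ih : ∀ R' : Subgroup Ω, F.IsFullyNormalized R' → Nat.card Q < Nat.card R' →
      F.IsFullyAutomized p R')
    (hQlt : Q ≠ S)
    {α : MulAut Q} (hαH : α ∈ F.autGroup Q) (hαU : α ∉ autInducedBy S Q)
    (hαN : α ∈ Subgroup.normalizer ((autInducedBy S Q : Subgroup (MulAut Q)) : Set (MulAut Q)))
    {k : ℕ} (hk : α ^ (p ^ k) = 1) : False := by
  have hQS : Q ≤ S := hQn.1
  have hfinQ : Finite Q := finite_of_le hQS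
  have hp : p.Prime := Fact.out
  set R : Subgroup Ω := normalizerIn S Q with hRdef
  have hRS : R ≤ S := inf_le_left
  have hfinR : Finite R := finite_of_le hRS
  have hQR : Q ≤ R := le_normalizerIn_self hQS
  have hαiso : IsIso F α := (isIso_iff_mem_autGroup F hQS α).mpr hαH
  have hrec : F.IsReceptive Q := h2 Q hQn
  -- every element of R acts through α as an element of S
  have hNα : ∀ g (hg : g ∈ normalizerIn S Q), ∃ h ∈ S, ∀ x : Q,
      ((α ⟨g * x * g⁻¹, conj_mem_of_mem_normalizer hg.2 x⟩ : Q) : Ω) = h * (α x : Q) * h⁻¹ := by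
    intro g hg
    have hu : conjAut Q g hg.2 ∈ autInducedBy S Q := conjAut_mem_autInducedBy hg.1 hg.2
    have := (Subgroup.mem_normalizer_iff.mp hαN (conjAut Q g hg.2)).mp hu
    obtain ⟨h, hhS, hh⟩ := mem_autInducedBy_iff.mp this
    refine ⟨h, hhS, fun x => ?_⟩
    have h3 := hh (α x)
    simp only [MulAut.mul_apply, MulAut.inv_apply_self] at h3
    exact h3
  obtain ⟨N, hNφ⟩ := extend_to_normalizer F hrec α hαiso hNα
  -- β : automorphism of R
  have hbij : Function.Bijective (N.φ.codRestrict R N.maps) := by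
    apply Function.Injective.bijective_of_finite
    intro a b hab
    exact N.injective (congrArg Subtype.val hab)
  set β : MulAut R := MulEquiv.ofBijective (N.φ.codRestrict R N.maps) hbij with hβdef
  have hβapply : ∀ z : R, ((β z : R) : Ω) = N.φ z := fun z => rfl
  have hβmem : β ∈ F.autGroup R := by
    rw [mem_autGroup_iff F hRS]
    exact mem_of_forall_eq F N.mem (fun z => rfl)
  have hβQ : ∀ x : Q, ((β ⟨x, hQR x.2⟩ : R) : Ω) = (α x : Q) := fun x => hNφ x
  -- the power trick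
  have hordβ : orderOf β ≠ 0 := (orderOf_pos β).ne'
  obtain ⟨k', m, hm, hn⟩ := Nat.exists_eq_pow_mul_and_not_dvd hordβ p hp.ne_one
  set β₀ : MulAut R := β ^ m with hβ₀def
  set α' : MulAut Q := α ^ m with hα'def
  have hβ₀pow : β₀ ^ (p ^ k') = 1 := by
    rw [hβ₀def, ← pow_mul, mul_comm, ← hn, pow_orderOf_eq_one]
  have hβ₀Q : ∀ x : Q, ((β₀ ⟨x, hQR x.2⟩ : R) : Ω) = (α' x : Q) := aut_pow_restrict hQR β α hβQ m
  have hβ₀mem : β₀ ∈ F.autGroup R := Subgroup.pow_mem _ hβmem m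
  have hα'U : α' ∉ autInducedBy S Q := by
    intro hcon
    have hcop : Nat.Coprime m (orderOf α) := by
      have hdvd : orderOf α ∣ p ^ k := orderOf_dvd_of_pow_eq_one hk
      obtain ⟨i, -, hi⟩ := (Nat.dvd_prime_pow hp).mp hdvd
      rw [hi]
      exact Nat.Coprime.pow_right i ((Nat.Prime.coprime_iff_not_dvd hp).mpr hm).symm
    obtain ⟨j, hj⟩ := exists_pow_eq_self_of_coprime hcop
    apply hαU
    rw [← hj]
    exact Subgroup.pow_mem _ hcon j
  -- Q < R
  have hQltR : Q < R := by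
    have hfinS : Finite S := inferInstance
    obtain ⟨x, hxS, hxQ, hxN⟩ := exists_normalizing_of_lt (K := Q) (L := S) hS hQS hQlt
    exact lt_of_le_of_ne hQR (fun h => hxQ (h ▸ (⟨hxS, hxN⟩ : x ∈ R)))
  have hcardQR : Nat.card Q < Nat.card R := card_lt_card_of_lt hQltR
  -- R' fully normalized conjugate of R
  obtain ⟨R', hRR', hR'n⟩ := exists_fullyNormalized_conj F hRS
  obtain ⟨e₁, he₁⟩ := exists_iso_of_isConj F hRR'
  have hR'S : R' ≤ S := hR'n.1
  have hfinR' : Finite R' := finite_of_le hR'S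
  have hcardRR' : Nat.card R = Nat.card R' := Nat.card_congr e₁.toEquiv
  have hR'fa : F.IsFullyAutomized p R' := ih R' hR'n (hcardRR' ▸ hcardQR)
  have hsylR' : IsSylowIn p (F.autGroup R') (autInducedBy S R') := hR'fa.2
  set β' : MulAut R' := MulAut.congr e₁ β₀ with hβ'def
  have hβ'mem : β' ∈ F.autGroup R' := congr_mem_autGroup he₁ hβ₀mem
  have hβ'pow : β' ^ (p ^ k') = 1 := by
    rw [hβ'def, ← map_pow, hβ₀pow, map_one]
  have hzle : Subgroup.zpowers β' ≤ F.autGroup R' := (Subgroup.zpowers_le).mpr hβ'mem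
  obtain ⟨γ, hγ, hγconj⟩ := hsylR'.exists_conj_le hzle (isPGroup_zpowers_of_pow_eq_one hβ'pow)
  obtain ⟨h, hhS, hh⟩ := mem_autInducedBy_iff.mp (hγconj β' (Subgroup.mem_zpowers β'))
  have hγiso : IsIso F γ := (isIso_iff_mem_autGroup F hR'S γ).mpr hγ
  set e' : R ≃* R' := e₁.trans γ with he'def
  have he' : IsIso F e' := he₁.trans hγiso
  have hkey : ∀ z : R, ((e' (β₀ z) : R') : Ω) = h * (e' z : R') * h⁻¹ := by
    intro z
    have h3 := hh (e' z)
    rw [← h3]
    simp [he'def, hβ'def, MulAut.mul_apply]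
  -- Q' = e'(Q)
  set ψ : Q →* Ω := (R'.subtype.comp e'.toMonoidHom).comp (Subgroup.inclusion hQR) with hψdef
  have hψmem : ψ ∈ F.Hom Q := restrict_mem F he' hQR
  set Q' : Subgroup Ω := ψ.range with hQ'def
  have hψapply : ∀ x : Q, ψ x = ((e' ⟨x, hQR x.2⟩ : R') : Ω) := fun x => rfl
  have hconj : F.IsConj Q Q' := ⟨ψ, hψmem, rfl⟩
  have hcard : Nat.card (normalizerIn S Q') ≤ Nat.card (normalizerIn S Q) := hQn.2 Q' hconj
  -- β₀ stabilizes Q
  have hβ₀stab : ∀ x : Q, ((β₀ ⟨x, hQR x.2⟩ : R) : Ω) ∈ Q := fun x => by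
    rw [hβ₀Q]; exact (α' x).2
  have hβ₀inv : ∀ x : Q, ∃ x' : Q, β₀ ⟨x', hQR x'.2⟩ = ⟨x, hQR x.2⟩ := by
    intro x
    refine ⟨α'⁻¹ x, Subtype.ext ?_⟩
    rw [hβ₀Q]
    simp
  -- R' normalizes Q'
  have hR'le : R' ≤ normalizerIn S Q' := by
    intro r' hr'
    refine ⟨hR'S hr', ?_⟩
    have hconjmem : ∀ (r : R), ∀ y ∈ Q', ((e' r : R') : Ω) * y * ((e' r : R') : Ω)⁻¹ ∈ Q' := by
      rintro r _ ⟨x, rfl⟩
      have hx' : (r : Ω) * x * (r : Ω)⁻¹ ∈ Q := conj_mem_of_mem_normalizer r.2.2 x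
      refine ⟨⟨_, hx'⟩, ?_⟩
      rw [hψapply, hψapply]
      have e3 : (⟨(r : Ω) * x * (r : Ω)⁻¹, hQR hx'⟩ : R) = r * ⟨x, hQR x.2⟩ * r⁻¹ := Subtype.ext rfl
      rw [e3, map_mul, map_mul, map_inv]
      rfl
    obtain ⟨r, hr⟩ := e'.surjective ⟨r', hr'⟩
    have hr2 : ((e' r : R') : Ω) = r' := congrArg Subtype.val hr
    refine mem_normalizer_of_forall (fun y hy => ?_) (fun y hy => ?_)
    · rw [← hr2]; exact hconjmem r y hy
    · have := hconjmem r⁻¹ y hy
      rw [map_inv] at this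
      rw [← hr2]
      simpa using this
  have hNeq : R' = normalizerIn S Q' := by
    have hfinN : Finite ↥(normalizerIn S Q') := finite_of_le inf_le_left
    apply Subgroup.eq_of_le_of_card_ge hR'le
    rw [← hcardRR']
    exact hcard
  -- h normalizes Q'
  have hhN : h ∈ normalizerIn S Q' := by
    refine ⟨hhS, mem_normalizer_of_forall ?_ ?_⟩
    · rintro _ ⟨x, rfl⟩
      rw [hψapply, ← hkey]
      exact ⟨⟨_, hβ₀stab x⟩, rfl⟩
    · rintro _ ⟨x, rfl⟩
      obtain ⟨x', hx'⟩ := hβ₀inv x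
      have := hkey ⟨x', hQR x'.2⟩
      rw [hx'] at this
      rw [hψapply, this]
      refine ⟨x', ?_⟩
      rw [hψapply]
      group
  rw [← hNeq] at hhN
  obtain ⟨g, hg⟩ := e'.surjective ⟨h, hhN⟩
  have hg2 : ((e' g : R') : Ω) = h := congrArg Subtype.val hg
  apply hα'U
  refine mem_autInducedBy_iff.mpr ⟨g, hRS g.2, fun x => ?_⟩
  have h5 := hkey ⟨x, hQR x.2⟩
  rw [← hg2] at h5
  have h6 : e' (β₀ ⟨x, hQR x.2⟩) = e' (g * ⟨x, hQR x.2⟩ * g⁻¹) := by
    apply Subtype.ext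
    rw [h5, map_mul, map_mul, map_inv]
    rfl
  have h7 := e'.injective h6
  rw [← hβ₀Q, h7]
  rfl


theorem top_fullyNormalized (F : FusionSystem S) [Finite S] : F.IsFullyNormalized S := by
  refine ⟨le_rfl, fun Q _ => ?_⟩
  have h1 : normalizerIn S Q ≤ normalizerIn S S := by
    intro x hx
    exact ⟨hx.1, Subgroup.le_normalizer hx.1⟩
  have hfin : Finite ↥(normalizerIn S S) := finite_of_le inf_le_left
  exact Nat.card_le_card_of_injective (Subgroup.inclusion h1) (Subgroup.inclusion_injective _)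

/-- Roberts–Shpectorov: if `S` is fully automized and every fully normalized subgroup is
receptive, then every fully normalized subgroup is fully automized. -/
theorem fullyAutomized_of_fn_receptive [Finite S] {p : ℕ} [Fact p.Prime] (hS : IsPGroup p S)
    (F : FusionSystem S) (h1 : F.IsFullyAutomized p S)
    (h2 : ∀ P : Subgroup Ω, F.IsFullyNormalized P → F.IsReceptive P) :
    ∀ (n : ℕ) (Q : Subgroup Ω), F.IsFullyNormalized Q → Nat.card S - Nat.card Q = n →
      F.IsFullyAutomized p Q := by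
  intro n
  induction n using Nat.strong_induction_on with
  | _ n ih =>
    intro Q hQn hn
    have hQS : Q ≤ S := hQn.1
    by_cases hQeq : Q = S
    · rw [hQeq]; exact h1
    · have hfinQ : Finite Q := finite_of_le hQS
      have hle : autInducedBy S Q ≤ F.autGroup Q := autInducedBy_le_autGroup F hQS
      rcases isSylowIn_or_exists (p := p) hle (isPGroup_autInducedBy hS Q) with hsyl | ⟨α, hαH, hαU, hαN, k, hk⟩
      · exact ⟨hQS, hsyl⟩
      · exfalso
        refine rs_contradiction hS F h2 hQn ?_ hQeq hαH hαU hαN hk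
        intro R' hR'n hlt
        have hR'le : Nat.card R' ≤ Nat.card S :=
          Nat.card_le_card_of_injective (Subgroup.inclusion hR'n.1) (Subgroup.inclusion_injective _)
        exact ih (Nat.card S - Nat.card R') (by omega) R' hR'n rfl

/-- A fusion system over a finite `p`-group is saturated iff `S` is fully automized and every fully
normalized subgroup is receptive. -/
theorem saturated_iff_top_automized_fn_receptive [Finite S] {p : ℕ} [Fact p.Prime]
    (hS : IsPGroup p S) (F : FusionSystem S) :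
    F.IsSaturated p ↔ (F.IsFullyAutomized p S ∧
      ∀ P : Subgroup Ω, F.IsFullyNormalized P → F.IsReceptive P) := by
  constructor
  · intro hF
    refine ⟨(saturated_fullyNormalized hS F hF (top_fullyNormalized F)).2.1, fun P hP => ?_⟩
    exact (saturated_fullyNormalized hS F hF hP).2.2
  · rintro ⟨h1, h2⟩ P hP
    obtain ⟨Q, hPQ, hQ⟩ := exists_fullyNormalized_conj F hP
    exact ⟨Q, hPQ, fullyAutomized_of_fn_receptive hS F h1 h2 _ Q hQ rfl, h2 Q hQ⟩

end Cfsg.Agent.Lib.Helper26
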