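import Mathlib
import Cfsg.Agent.Lib.Helper11.UNS.Defs
import Cfsg.Agent.Lib.Helper27.SpFusA
import Cfsg.Agent.S0245

set_option autoImplicit false

namespace Cfsg.Agent.Lib.Helper11.UNS

open Matrix Cfsg.Agent.Lib.helper14.SpBN Cfsg.Agent.Lib.helper3 Cfsg.Agent.Lib.helper14
  Cfsg.Agent.Lib.Helper5.UNI

universe u

variable {F : Type u} [Field F] {m : ℕ}

/-- `p` does not divide `∏ (q ^ (2 (i + 1)) - 1)` when `q` is a positive power of `p`. -/
theorem unst4_not_dvd_prod (p : ℕ) (hp : p.Prime) (q f : ℕ) (hf : 0 < f) (hq : q = p ^ f) (m : ℕ) :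
    ¬ p ∣ ∏ i ∈ Finset.range m, (q ^ (2 * (i + 1)) - 1) := by
  intro hdvd
  obtain ⟨i, _, hi⟩ := (Prime.dvd_finsetProd_iff (Nat.Prime.prime hp) _).1 hdvd
  have hpq : p ∣ q := by
    rw [hq]
    exact dvd_pow_self p hf.ne'
  have hpos : 0 < q ^ (2 * (i + 1)) := by
    apply Nat.pos_of_ne_zero
    apply pow_ne_zero
    rw [hq]
    exact pow_ne_zero _ hp.ne_zero
  have h1 : p ∣ q ^ (2 * (i + 1)) := dvd_trans hpq (dvd_pow_self q (by omega))
  have h2 : p ∣ 1 := by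
    have h3 := (Nat.dvd_sub h1 hi)
    have h4 : q ^ (2 * (i + 1)) - (q ^ (2 * (i + 1)) - 1) = 1 := by omega
    rw [h4] at h3
    exact h3
  exact hp.one_lt.ne' (Nat.dvd_one.1 h2)

theorem card_Uup [Fintype F] (p : ℕ) [Fact p.Prime] [CharP F p] (hm : 0 < m) :
    Nat.card ↥(Uup m F) = Fintype.card F ^ (m ^ 2) := by
  have hp : p.Prime := Fact.out
  have h1 := Cfsg.Agent.Lib.Helper27.SpFus.card_Uup_ppart (K := F) hm p
  have h2 := Cfsg.Agent.S0245.result (F := F) rfl m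
  obtain ⟨n, _, hn⟩ := FiniteField.card F p
  have hndvd := unst4_not_dvd_prod p hp (Fintype.card F) (n : ℕ) n.pos hn m
  have hq0 : Fintype.card F ^ (m ^ 2) ≠ 0 := pow_ne_zero _ Fintype.card_ne_zero
  have hprod0 : (∏ i ∈ Finset.range m, (Fintype.card F ^ (2 * (i + 1)) - 1)) ≠ 0 :=
    fun h0 => hndvd (h0 ▸ dvd_zero p)
  rw [h1, h2, Nat.factorization_mul hq0 hprod0]
  simp only [Finsupp.coe_add, Pi.add_apply]
  rw [Nat.factorization_eq_zero_of_not_dvd hndvd, add_zero]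
  conv_lhs => rw [hn]
  rw [← pow_mul, hp.factorization_pow]
  simp only [Finsupp.single_eq_same]
  rw [hn, ← pow_mul]

end Cfsg.Agent.Lib.Helper11.UNS
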