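import Mathlib
import Cfsg.Agent.Lib.helper17.CEM.Defs
import Cfsg.Agent.Lib.Helper26.CEDY1
import Cfsg.Agent.Lib.Lead.STDB1
import Cfsg.Agent.Lib.Helper21.STMB1

/-!
# Project CEM (designer helper17; S2099), rows S1 `Zs_map Zs_eq Zs_cj` and S3 `Ds_zero_left Ds_zero_right`, VERBATIM (helper26).
-/

set_option autoImplicit false

namespace Cfsg.Agent.Lib.helper17.CEM

open Cfsg.Agent.Lib.helper15.St2 Cfsg.Agent.Lib.helper7.Ce Cfsg.Agent.Lib.helper3.STC Cfsg.Agent.Lib.Lead.STD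
  Cfsg.Agent.Lib.helper7.CEC Cfsg.Agent.Lib.helper7.CED Cfsg.Agent.Lib.helper17.STM

section S

variable {F : Type*} [Field F] [Finite F] {A B : F} [Fact (∀ r : F, r ^ 2 ≠ -B + A * r)] {ι : Type*} {Γ G : Type*} [Group Γ] [Group G]
  {S : SysM F A B ι G} {σ : Γ →* G}

omit [Finite F] in
/-- S1 [S]  `map_cm`, `map_lf`, `S.ls`. -/
theorem Zs_map (h : IsCE σ) {a b : ι ⊕ ι} (hab : ab a ≠ ab b) (t : F) (u : Kq F A B) :
    σ (Zs S h a b t u) = S.xs a (t • u) * S.x a (ng b) (t * nm u) := by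
  unfold Zs
  rw [map_cm, map_lf, map_lf]
  exact S.ls a b (cedy1_ne hab).1 (cedy1_ne hab).2 t u

omit [Finite F] in
/-- S1 [S]  `h.cm_congr`. -/
theorem Zs_eq (h : IsCE σ) {a b : ι ⊕ ι} {t : F} {u : Kq F A B} {p q : Γ} (hp : σ p = S.x a b t) (hq : σ q = S.xs b u) : cm p q = Zs S h a b t u := by
  unfold Zs
  exact h.cm_congr (by rw [hp, map_lf]) (by rw [hq, map_lf])

omit [Finite F] in
/-- S1 [S]  `cj_cm`, `Zs_eq`, `hg.1.2 a b hab t`, `hg.2.2.2.2 b u` (`map_cj`). -/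
theorem Zs_cj (h : IsCE σ) {g : G} {π : Equiv.Perm (ι ⊕ ι)} {d : ι ⊕ ι → F} {c0 : Kq F A B} {ε : Bool} (hg : S.IsMon g π d c0 ε) {e : Γ} (he : σ e = g)
    {a b : ι ⊕ ι} (hab : a ≠ b) (t : F) (u : Kq F A B) :
    cj e (Zs S h a b t u) = Zs S h (π a) (π b) (d a * (d b)⁻¹ * t) (d b • (c0 * tw ε u)) := by
  have e1 : cj e (Zs S h a b t u) = cm (cj e (lf h (S.x a b t))) (cj e (lf h (S.xs b u))) :=
    cj_cm e _ _
  rw [e1]
  apply Zs_eq h
  · rw [map_cj, he, map_lf]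
    exact hg.1.2 a b hab t
  · rw [map_cj, he, map_lf]
    exact hg.2.2.2.2 b u

omit [Finite F] in
/-- S3 [S-M]  `lf h (S.x a b 0)` resp. `lf h (S.xs b 0)` is a lift of `1` (STD `x_zero`, B1 `xs_zero`), hence central (`h.comm_of_map_one`, `cm_eq_one_iff`); `L.P.x a (ng b) 0 = 1` (STD `x_zero` for `L.P`; `zero_mul`, `nm_zero`, `mul_zero`). -/
theorem Ds_zero_left (h : IsCE σ) (L : LongLift S σ) (a b : ι ⊕ ι) (u : Kq F A B) : Ds S h L a b 0 u = 1 := by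
  unfold Ds Zs
  have h1 : σ (lf h (S.x a b 0)) = 1 := by
    rw [map_lf]
    exact S.toSysD.x_zero a b
  rw [cm_eq_one_iff.2 (h.comm_of_map_one h1 _), zero_mul, L.P.x_zero, inv_one, mul_one]

omit [Finite F] in
theorem Ds_zero_right (h : IsCE σ) (L : LongLift S σ) (a b : ι ⊕ ι) (t : F) : Ds S h L a b t 0 = 1 := by
  unfold Ds Zs
  have h1 : σ (lf h (S.xs b 0)) = 1 := by
    rw [map_lf]
    exact S.xs_zero b
  rw [cm_eq_one_iff.2 (h.comm_of_map_one h1 _).symm, nm_zero, mul_zero, L.P.x_zero, inv_one, mul_one]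

end S

end Cfsg.Agent.Lib.helper17.CEM
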