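import Mathlib
import Cfsg.Agent.Lib.Helper19.ORE.Defs

/-!
# Project ORE, row B4 (one chain): core version.

`oreb4_core` is `one_chain` with the instances of `cyc_basis` (B3) and `split_det` (A3) that it
uses taken as hypotheses.
-/

set_option autoImplicit false

namespace Cfsg.Agent.Lib.Helper19.ORE

open Polynomial Module

universe u v w

section
variable {F : Type u} [Field F]

theorem oreb4_smulE_apply (κ : Fˣ) (x : F) : smulE κ x = (κ : F) * x := rfl

theorem oreb4_det_smulE (κ : Fˣ) : LinearEquiv.det (smulE κ) = κ := by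
  apply Units.ext
  rw [LinearEquiv.coe_det]
  have h : ((smulE κ : F ≃ₗ[F] F) : F →ₗ[F] F) = (κ : F) • LinearMap.id := by
    ext
    simp [oreb4_smulE_apply]
  rw [h, LinearMap.det_smul]
  simp

theorem oreb4_core {V : Type v} {E : Type w} [AddCommGroup V] [Module F V] [AddCommGroup E]
    [Module F E] [FiniteDimensional F V] [FiniteDimensional F E]
    (g : V ≃ₗ[F] V) (m : E ≃ₗ[F] E) (d : ℕ) (hV : finrank F V = d + 1) (hE : finrank F E = d)
    (hbV : ∃ (v : V) (b : Basis (Fin (d + 1)) F V),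
      ∀ i : Fin (d + 1), b i = ((g : V →ₗ[F] V) ^ (i : ℕ)) v)
    (hbE : ∃ (v : E) (b : Basis (Fin d) F E),
      ∀ i : Fin d, b i = ((m : E →ₗ[F] E) ^ (i : ℕ)) v)
    (hdet : ∀ κ : Fˣ, Split g m (smulE κ) →
      LinearEquiv.det g = LinearEquiv.det m * LinearEquiv.det (smulE κ)) :
    Split g m (smulE (LinearEquiv.det g * (LinearEquiv.det m)⁻¹)) := by
  obtain ⟨v, bV, hbV⟩ := hbV
  obtain ⟨e₀, bE, hbE⟩ := hbE
  -- the embedding `ψ : E → V`
  let ψ : E →ₗ[F] V := bE.constr F (fun i => bV i.castSucc)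
  have hψ : ∀ i : Fin d, ψ (bE i) = bV i.castSucc := fun i => by simp [ψ]
  let w : V := bV (Fin.last d) - ψ (((m : E →ₗ[F] E) ^ d) e₀)
  let f : E × F →ₗ[F] V := ψ.coprod (LinearMap.toSpanSingleton F V w)
  have hf : ∀ x t, f (x, t) = ψ x + t • w := by
    intro x t; simp [f]
  have hsurj : Function.Surjective f := by
    rw [← LinearMap.range_eq_top, eq_top_iff, ← bV.span_eq, Submodule.span_le]
    rintro _ ⟨i, rfl⟩
    refine Fin.lastCases ?_ (fun j => ?_) i
    · exact ⟨(((m : E →ₗ[F] E) ^ d) e₀, 1), by rw [hf]; simp [w]⟩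
    · exact ⟨(bE j, 0), by rw [hf, hψ]; simp⟩
  have hfr : finrank F (E × F) = finrank F V := by
    rw [Module.finrank_prod, hE, hV, Module.finrank_self]
  have hinj : Function.Injective f :=
    (LinearMap.injective_iff_surjective_of_finrank_eq_finrank hfr).mpr hsurj
  let e : V ≃ₗ[F] E × F := (LinearEquiv.ofBijective f ⟨hinj, hsurj⟩).symm
  have he_symm : ∀ x t, e.symm (x, t) = ψ x + t • w := by
    intro x t
    show f (x, t) = _
    exact hf x t
  have he_apply : ∀ x t, e (ψ x + t • w) = (x, t) := by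
    intro x t
    rw [← he_symm, LinearEquiv.apply_symm_apply]
  have he_psi : ∀ x, e (ψ x) = (x, 0) := by
    intro x
    have := he_apply x 0
    simpa using this
  have he_w : e w = (0, 1) := by
    have := he_apply 0 1
    simpa using this
  -- the key computation: `g (ψ x) - ψ (m x) ∈ F w`
  have hkey : ∀ x : E, (e (g (ψ x))).1 = m x := by
    let δ : E →ₗ[F] E := LinearMap.fst F E F ∘ₗ (e : V →ₗ[F] E × F) ∘ₗ
      ((g : V →ₗ[F] V) ∘ₗ ψ - ψ ∘ₗ (m : E →ₗ[F] E))
    have hδ : δ = 0 := by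
      apply bE.ext
      intro i
      have h1 : g (ψ (bE i)) = ((g : V →ₗ[F] V) ^ ((i : ℕ) + 1)) v := by
        rw [hψ, hbV, pow_succ']
        rfl
      have h2 : m (bE i) = ((m : E →ₗ[F] E) ^ ((i : ℕ) + 1)) e₀ := by
        rw [hbE, pow_succ']
        rfl
      by_cases hi : (i : ℕ) + 1 < d
      · have h3 : ((m : E →ₗ[F] E) ^ ((i : ℕ) + 1)) e₀ = bE ⟨(i : ℕ) + 1, hi⟩ := by
          rw [hbE]
        have h4 : ((g : V →ₗ[F] V) ^ ((i : ℕ) + 1)) v = bV (Fin.castSucc ⟨(i : ℕ) + 1, hi⟩) := by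
          rw [hbV]; rfl
        simp only [δ, LinearMap.comp_apply, LinearMap.sub_apply, LinearEquiv.coe_coe,
          LinearMap.zero_apply]
        rw [h1, h2, h3, hψ, h4, sub_self, map_zero]
        rfl
      · have hid : (i : ℕ) + 1 = d := by
          have := i.isLt
          omega
        have h4 : ((g : V →ₗ[F] V) ^ ((i : ℕ) + 1)) v = bV (Fin.last d) := by
          rw [hbV, hid]; rfl
        simp only [δ, LinearMap.comp_apply, LinearMap.sub_apply, LinearEquiv.coe_coe,
          LinearMap.zero_apply]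
        rw [h1, h2, h4, hid]
        change (e w).1 = 0
        rw [he_w]
    intro x
    have := LinearMap.congr_fun hδ x
    simp only [δ, LinearMap.comp_apply, LinearMap.sub_apply, LinearEquiv.coe_coe,
      LinearMap.zero_apply, map_sub, LinearMap.fst_apply] at this
    rw [he_psi] at this
    exact sub_eq_zero.mp this
  -- the data
  let c : E →ₗ[F] F := LinearMap.snd F E F ∘ₗ (e : V →ₗ[F] E × F) ∘ₗ (g : V →ₗ[F] V) ∘ₗ ψ
  have hc : ∀ x, e (g (ψ x)) = (m x, c x) := by
    intro x
    exact Prod.ext (hkey x) rfl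
  set b₀ : E := (e (g w)).1 with hb₀
  set κ' : F := (e (g w)).2 with hκ'
  have hgw : e (g w) = (b₀, κ') := rfl
  let κ₀ : F := κ' - c (m.symm b₀)
  have hκ₀ : κ₀ ≠ 0 := by
    intro h0
    have h1 : e (g (w - ψ (m.symm b₀))) = 0 := by
      rw [map_sub, map_sub, hgw, hc, LinearEquiv.apply_symm_apply]
      ext
      · simp
      · simpa [κ₀, sub_eq_zero] using h0
    have h2 : w - ψ (m.symm b₀) = 0 := by
      have := e.map_eq_zero_iff.mp h1
      exact g.map_eq_zero_iff.mp this
    have h3 : e (w - ψ (m.symm b₀)) = 0 := by rw [h2, map_zero]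
    rw [map_sub, he_w, he_psi] at h3
    have := congrArg Prod.snd h3
    simp at this
  have hsplit : Split g m (smulE (Units.mk0 κ₀ hκ₀)) := by
    refine ⟨e, LinearMap.toSpanSingleton F E b₀, c, ?_⟩
    intro x₁ x₂
    rw [he_symm, map_add, map_smul, map_add, map_smul, hgw, hc]
    ext
    · simp
    · simp [oreb4_smulE_apply, κ₀]
      ring
  have h1 := hdet _ hsplit
  rw [oreb4_det_smulE] at h1
  have h2 : LinearEquiv.det g * (LinearEquiv.det m)⁻¹ = Units.mk0 κ₀ hκ₀ := by
    rw [h1, mul_comm (LinearEquiv.det m), mul_inv_cancel_right]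
  rw [h2]
  exact hsplit

end

end Cfsg.Agent.Lib.Helper19.ORE
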