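import Mathlib
import Cfsg.Agent.Lib.Helper19.ORE.Defs
import Cfsg.Agent.Lib.Helper26.OREB4core
import Cfsg.Agent.Lib.Helper24.OREB3
import Cfsg.Agent.Lib.Helper13.OREA3

/-!
# Project ORE, row B4 (one chain): verbatim statement.
-/

set_option autoImplicit false

namespace Cfsg.Agent.Lib.Helper19.ORE

open Polynomial Module

universe u v w v₁ v₂ v₃ v₄

section General
variable {F : Type u} [Field F]

theorem one_chain {V : Type v} {E : Type w} [AddCommGroup V] [Module F V] [AddCommGroup E]
    [Module F E] [FiniteDimensional F V] [FiniteDimensional F E]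
    (g : V ≃ₗ[F] V) (m : E ≃ₗ[F] E) (d : ℕ) (hV : finrank F V = d + 1) (hE : finrank F E = d)
    (hg : IsCyc g) (hm : IsCyc m) :
    Split g m (smulE (LinearEquiv.det g * (LinearEquiv.det m)⁻¹)) :=
  oreb4_core g m d hV hE (cyc_basis g hg (d + 1) hV) (cyc_basis m hm d hE)
    (fun _ h => split_det h)

end General

end Cfsg.Agent.Lib.Helper19.ORE
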