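import Mathlib
import Cfsg.Prelude.Def_AxialAlgebras
import Cfsg.Agent.Lib.Helper24.SAK.Defs

set_option autoImplicit false

namespace Cfsg.Agent.Lib.Helper24.SAK

open Cfsg.Axial

variable {V : Type*} [AddCommGroup V] [Module ℝ V]

theorem mu_fix {mul : V →ₗ[ℝ] V →ₗ[ℝ] V} {B : LinearMap.BilinForm ℝ V} {μ : V ≃ₗ[ℝ] V} {a : V}
    (h : IsMajoranaPair mul B μ a) : μ a = a := by
  obtain ⟨_, _, hax, hmiy⟩ := h
  have haa : mul a a = a := hax.1.2.1
  have h1 : a ∈ eigen mul a 1 := by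
    unfold eigen
    rw [Module.End.mem_eigenspace_iff, one_smul]
    exact haa
  have h2 : a ∈ eigenSum mul a {1, 0, 1 / 4} := by
    unfold eigenSum
    have hle : eigen mul a 1 ≤ ⨆ c ∈ ({1, 0, 1 / 4} : Set ℝ), eigen mul a c :=
      le_iSup₂_of_le (1 : ℝ) (by simp) le_rfl
    exact hle h1
  exact hmiy.1 a h2

end Cfsg.Agent.Lib.Helper24.SAK
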