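import Mathlib
import Cfsg.Agent.Lib.Helper21.BSQ.Defs

set_option autoImplicit false

namespace Cfsg.Agent.Lib.Helper21.BSQ

universe u

variable {G : Type u} [Group G]

theorem exists_sylow_in [Finite G] (p : ℕ) [Fact p.Prime] (A N : Subgroup G) (hNA : N ≤ A)
    (hNp : IsPGroup p ↥N) :
    ∃ S : Subgroup G, N ≤ S ∧ S ≤ A ∧ IsPGroup p ↥S ∧
      ∃ m : ℕ, Nat.card ↥A = Nat.card ↥S * m ∧ ¬ p ∣ m := by
  have hN' : IsPGroup p ↥(N.subgroupOf A) :=
    hNp.comap_of_injective A.subtype (Subgroup.subtype_injective A)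
  obtain ⟨S₀, hS₀⟩ := hN'.exists_le_sylow
  refine ⟨(S₀ : Subgroup ↥A).map A.subtype, ?_, ?_, ?_, S₀.index, ?_, ?_⟩
  · intro x hx
    refine ⟨⟨x, hNA hx⟩, hS₀ ?_, rfl⟩
    exact hx
  · exact Subgroup.map_subtype_le _
  · exact S₀.isPGroup'.map A.subtype
  · rw [Subgroup.card_map_of_injective (Subgroup.subtype_injective A)]
    exact (Subgroup.card_mul_index (S₀ : Subgroup ↥A)).symm
  · exact S₀.not_dvd_index

end Cfsg.Agent.Lib.Helper21.BSQ
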