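import Mathlib
import Cfsg.Agent.Lib.Helper24.SU3M.Defs
import Cfsg.Agent.Lib.helper7.CeA
import Cfsg.Agent.Lib.helper3.StemTools
import Cfsg.Agent.Lib.helper15.UTorus

/-!
# SU3M row G6 (helper26): `comm_form`.  `E = N ⟨w⟩`, `[N, N]` central ⟹ every element of `[E, E]` is `cm w n * c`, `n ∈ N`, `c ∈ [N, N]`.
-/

set_option autoImplicit false

namespace Cfsg.Agent.Lib.Helper24.SU3M

open Cfsg.Agent.Lib.Helper19.U3P Cfsg.Agent.Lib.Helper25.SU3P Cfsg.Agent.Lib.helper14.SU3J Cfsg.Agent.Lib.helper7.Ce Matrix Polynomial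

universe u

section G

open scoped commutatorElement

/-- an element that conjugates `H` into itself in both directions normalises `H`. -/
theorem su3mg6_mem_normalizer {Γ : Type*} [Group Γ] (H : Subgroup Γ) (g : Γ) (h1 : ∀ x ∈ H, g * x * g⁻¹ ∈ H)
    (h2 : ∀ x ∈ H, g⁻¹ * x * g ∈ H) : g ∈ Subgroup.normalizer (H : Set Γ) := by
  rw [Subgroup.mem_normalizer_iff]
  intro x
  constructor
  · exact h1 x
  · intro hx
    have := h2 _ hx
    have e : g⁻¹ * (g * x * g⁻¹) * g = x := by group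
    rwa [e] at this

/-- the set `{cm w n * c}` as a subgroup. -/
def su3mg6_Q {Γ : Type*} [Group Γ] (N : Subgroup Γ) (w : Γ) (hw : ∀ n ∈ N, w * n * w⁻¹ ∈ N)
    (hC : ∀ a ∈ N, ∀ b ∈ N, cm a b ∈ Subgroup.center Γ) : Subgroup Γ where
  carrier := {u | ∃ n ∈ N, ∃ c ∈ ⁅N, N⁆, u = cm w n * c}
  one_mem' := ⟨1, N.one_mem, 1, Subgroup.one_mem _, by unfold cm; group⟩
  mul_mem' := by
    have hDc : ⁅N, N⁆ ≤ Subgroup.center Γ := Subgroup.commutator_le.2 (fun a ha b hb => hC a ha b hb)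
    have hcmN : ∀ n ∈ N, cm w n ∈ N := fun n hn => N.mul_mem (hw n hn) (N.inv_mem hn)
    rintro _ _ ⟨n, hn, c, hc, rfl⟩ ⟨n', hn', c', hc', rfl⟩
    have hx : cm n (cm w n') ∈ ⁅N, N⁆ := Subgroup.commutator_mem_commutator hn (hcmN n' hn')
    refine ⟨n * n', N.mul_mem hn hn', (cm n (cm w n'))⁻¹ * (c * c'), ?_, ?_⟩
    · exact Subgroup.mul_mem _ (Subgroup.inv_mem _ hx) (Subgroup.mul_mem _ hc hc')
    · have hcc : ∀ g : Γ, g * c = c * g := Subgroup.mem_center_iff.1 (hDc hc)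
      have hxc : ∀ g : Γ, g * cm n (cm w n') = cm n (cm w n') * g := Subgroup.mem_center_iff.1 (hDc hx)
      have key : cm w (n * n') = cm w n * (cm n (cm w n') * cm w n') := by
        unfold cm; group
      have key2 : cm w n * cm w n' = cm w (n * n') * (cm n (cm w n'))⁻¹ := by
        rw [key, ← hxc (cm w n')]
        group
      calc cm w n * c * (cm w n' * c') = cm w n * (c * cm w n') * c' := by group
        _ = cm w n * (cm w n' * c) * c' := by rw [← hcc (cm w n')]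
        _ = cm w n * cm w n' * (c * c') := by group
        _ = cm w (n * n') * (cm n (cm w n'))⁻¹ * (c * c') := by rw [key2]
        _ = cm w (n * n') * ((cm n (cm w n'))⁻¹ * (c * c')) := by group
  inv_mem' := by
    have hDc : ⁅N, N⁆ ≤ Subgroup.center Γ := Subgroup.commutator_le.2 (fun a ha b hb => hC a ha b hb)
    have hcmN : ∀ n ∈ N, cm w n ∈ N := fun n hn => N.mul_mem (hw n hn) (N.inv_mem hn)
    rintro _ ⟨n, hn, c, hc, rfl⟩
    have hn' : n⁻¹ ∈ N := N.inv_mem hn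
    have hx : cm n (cm w n⁻¹) ∈ ⁅N, N⁆ := Subgroup.commutator_mem_commutator hn (hcmN _ hn')
    refine ⟨n⁻¹, hn', cm n (cm w n⁻¹) * c⁻¹, ?_, ?_⟩
    · exact Subgroup.mul_mem _ hx (Subgroup.inv_mem _ hc)
    · have hcc : ∀ g : Γ, g * c = c * g := Subgroup.mem_center_iff.1 (hDc hc)
      have hxc : ∀ g : Γ, g * cm n (cm w n⁻¹) = cm n (cm w n⁻¹) * g := Subgroup.mem_center_iff.1 (hDc hx)
      have key : cm w (n * n⁻¹) = cm w n * (cm n (cm w n⁻¹) * cm w n⁻¹) := by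
        unfold cm; group
      have h1 : cm w (n * n⁻¹) = 1 := by unfold cm; group
      -- `1 = cm w n * (x * y)` so `(cm w n)⁻¹ = x * y`
      have key2 : (cm w n)⁻¹ = cm n (cm w n⁻¹) * cm w n⁻¹ := by
        rw [h1] at key
        exact inv_eq_of_mul_eq_one_right key.symm
      calc (cm w n * c)⁻¹ = c⁻¹ * (cm w n)⁻¹ := by group
        _ = c⁻¹ * (cm n (cm w n⁻¹) * cm w n⁻¹) := by rw [key2]
        _ = c⁻¹ * (cm w n⁻¹ * cm n (cm w n⁻¹)) := by rw [hxc (cm w n⁻¹)]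
        _ = cm w n⁻¹ * (cm n (cm w n⁻¹) * c⁻¹) := by
          have hci : ∀ g : Γ, g * c⁻¹ = c⁻¹ * g := fun g => by
            have := hcc (c⁻¹ * g * c⁻¹)
            calc g * c⁻¹ = c * (c⁻¹ * g * c⁻¹) := by group
              _ = c⁻¹ * g * c⁻¹ * c := (hcc _).symm
              _ = c⁻¹ * g := by group
          rw [← hci (cm w n⁻¹ * cm n (cm w n⁻¹))]
          group

theorem su3mg6_mem_Q {Γ : Type*} [Group Γ] (N : Subgroup Γ) (w : Γ) (hw : ∀ n ∈ N, w * n * w⁻¹ ∈ N)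
    (hC : ∀ a ∈ N, ∀ b ∈ N, cm a b ∈ Subgroup.center Γ) (u : Γ) :
    u ∈ su3mg6_Q N w hw hC ↔ ∃ n ∈ N, ∃ c ∈ ⁅N, N⁆, u = cm w n * c := Iff.rfl

theorem comm_form {Γ : Type*} [Group Γ] (N : Subgroup Γ) (w : Γ) (hw : ∀ n ∈ N, w * n * w⁻¹ ∈ N) (hw' : ∀ n ∈ N, w⁻¹ * n * w ∈ N)
    (hC : ∀ a ∈ N, ∀ b ∈ N, cm a b ∈ Subgroup.center Γ) :
    ∀ u ∈ ⁅N ⊔ Subgroup.zpowers w, N ⊔ Subgroup.zpowers w⁆, ∃ n ∈ N, ∃ c ∈ ⁅N, N⁆, u = cm w n * c := by
  have hDc : ⁅N, N⁆ ≤ Subgroup.center Γ := Subgroup.commutator_le.2 (fun a ha b hb => hC a ha b hb)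
  have hDN : ⁅N, N⁆ ≤ N := Subgroup.commutator_le_self N
  have hcmN : ∀ n ∈ N, cm w n ∈ N := fun n hn => N.mul_mem (hw n hn) (N.inv_mem hn)
  set Q := su3mg6_Q N w hw hC with hQ
  have hQN : Q ≤ N := by
    rintro _ ⟨n, hn, c, hc, rfl⟩
    exact N.mul_mem (hcmN n hn) (hDN hc)
  have hDQ : ⁅N, N⁆ ≤ Q := by
    intro c hc
    exact ⟨1, N.one_mem, c, hc, by unfold cm; group⟩
  have hcmQ : ∀ n ∈ N, cm w n ∈ Q := fun n hn => ⟨n, hn, 1, Subgroup.one_mem _, by rw [mul_one]⟩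
  -- `Q` is normalised by `N` and by `w`
  have hnormN : N ≤ Subgroup.normalizer (Q : Set Γ) := by
    have hconj : ∀ n ∈ N, ∀ x ∈ Q, n * x * n⁻¹ ∈ Q := by
      intro n hn x hx
      have e : n * x * n⁻¹ = cm n x * x := by unfold cm; group
      rw [e]
      exact Q.mul_mem (hDQ (Subgroup.commutator_mem_commutator hn (hQN hx))) hx
    intro n hn
    refine su3mg6_mem_normalizer Q n (hconj n hn) ?_
    intro x hx
    have := hconj n⁻¹ (N.inv_mem hn) x hx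
    rwa [inv_inv] at this
  have hnormw : w ∈ Subgroup.normalizer (Q : Set Γ) := by
    refine su3mg6_mem_normalizer Q w ?_ ?_
    · rintro _ ⟨n, hn, c, hc, rfl⟩
      refine ⟨w * n * w⁻¹, hw n hn, c, hc, ?_⟩
      have hcc : ∀ g : Γ, g * c = c * g := Subgroup.mem_center_iff.1 (hDc hc)
      calc w * (cm w n * c) * w⁻¹ = w * cm w n * (c * w⁻¹) := by group
        _ = w * cm w n * (w⁻¹ * c) := by rw [hcc w⁻¹]
        _ = cm w (w * n * w⁻¹) * c := by unfold cm; group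
    · rintro _ ⟨n, hn, c, hc, rfl⟩
      refine ⟨w⁻¹ * n * w, hw' n hn, c, hc, ?_⟩
      have hcc : ∀ g : Γ, g * c = c * g := Subgroup.mem_center_iff.1 (hDc hc)
      calc w⁻¹ * (cm w n * c) * w = w⁻¹ * cm w n * (c * w) := by group
        _ = w⁻¹ * cm w n * (w * c) := by rw [hcc w]
        _ = cm w (w⁻¹ * n * w) * c := by unfold cm; group
  have hE : N ⊔ Subgroup.zpowers w ≤ Subgroup.normalizer (Q : Set Γ) :=
    sup_le hnormN ((Subgroup.zpowers_le).2 hnormw)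
  have hconjE : ∀ g ∈ N ⊔ Subgroup.zpowers w, ∀ x ∈ Q, g * x * g⁻¹ ∈ Q := fun g hg x hx =>
    (Subgroup.mem_normalizer_iff.1 (hE hg) x).1 hx
  have hconjE' : ∀ g ∈ N ⊔ Subgroup.zpowers w, ∀ x ∈ Q, g⁻¹ * x * g ∈ Q := fun g hg x hx => by
    have := hconjE g⁻¹ (Subgroup.inv_mem _ hg) x hx
    rwa [inv_inv] at this
  -- `E = closure (N ∪ {w})`
  have hEcl : N ⊔ Subgroup.zpowers w = Subgroup.closure ((N : Set Γ) ∪ {w}) := by
    rw [Subgroup.closure_union, Subgroup.closure_eq, Subgroup.zpowers_eq_closure]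
  have hgenE : ∀ g ∈ ((N : Set Γ) ∪ {w}), g ∈ N ⊔ Subgroup.zpowers w := by
    intro g hg
    rw [hEcl]
    exact Subgroup.subset_closure hg
  -- commutators of generators
  have hbase : ∀ g ∈ ((N : Set Γ) ∪ {w}), ∀ k ∈ ((N : Set Γ) ∪ {w}), ⁅g, k⁆ ∈ Q := by
    rintro g (hg | hg) k (hk | hk)
    · exact hDQ (Subgroup.commutator_mem_commutator hg hk)
    · rw [Set.mem_singleton_iff] at hk
      subst hk
      have : ⁅g, k⁆ = (cm k g)⁻¹ := by rw [cm_inv_swap]; rfl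
      rw [this]
      exact Q.inv_mem (hcmQ g hg)
    · rw [Set.mem_singleton_iff] at hg
      subst hg
      exact hcmQ k hk
    · rw [Set.mem_singleton_iff] at hg hk
      subst hg; subst hk
      rw [commutatorElement_self]
      exact Q.one_mem
  -- a generator against all of `E`
  have hstep1 : ∀ g ∈ ((N : Set Γ) ∪ {w}), ∀ k ∈ N ⊔ Subgroup.zpowers w, ⁅g, k⁆ ∈ Q := by
    intro g hg k hk
    have : k ∈ N ⊔ Subgroup.zpowers w ∧ ⁅g, k⁆ ∈ Q := by
      rw [hEcl] at hk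
      induction hk using Subgroup.closure_induction with
      | mem x hx => exact ⟨hgenE x hx, hbase g hg x hx⟩
      | one => exact ⟨Subgroup.one_mem _, by rw [commutatorElement_one_right]; exact Q.one_mem⟩
      | mul x y _ _ ihx ihy =>
        refine ⟨Subgroup.mul_mem _ ihx.1 ihy.1, ?_⟩
        rw [commutatorElement_mul_right_eq_mul_conj]
        have e : ⁅g, x⁆ * x * ⁅g, y⁆ * x⁻¹ = ⁅g, x⁆ * (x * ⁅g, y⁆ * x⁻¹) := by group
        rw [e]
        exact Q.mul_mem ihx.2 (hconjE x ihx.1 _ ihy.2)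
      | inv x _ ihx =>
        refine ⟨Subgroup.inv_mem _ ihx.1, ?_⟩
        rw [commutatorElement_inv_right, ← commutatorElement_inv]
        exact hconjE' x ihx.1 _ (Q.inv_mem ihx.2)
    exact this.2
  -- all of `E` against all of `E`
  have hstep2 : ∀ g ∈ N ⊔ Subgroup.zpowers w, ∀ k ∈ N ⊔ Subgroup.zpowers w, ⁅g, k⁆ ∈ Q := by
    intro g hg k hk
    have : g ∈ N ⊔ Subgroup.zpowers w ∧ ⁅g, k⁆ ∈ Q := by
      rw [hEcl] at hg
      induction hg using Subgroup.closure_induction with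
      | mem x hx => exact ⟨hgenE x hx, hstep1 x hx k hk⟩
      | one => exact ⟨Subgroup.one_mem _, by rw [commutatorElement_one_left]; exact Q.one_mem⟩
      | mul x y _ _ ihx ihy =>
        refine ⟨Subgroup.mul_mem _ ihx.1 ihy.1, ?_⟩
        rw [commutatorElement_mul_left_eq_conj_mul]
        exact Q.mul_mem (hconjE x ihx.1 _ ihy.2) ihx.2
      | inv x _ ihx =>
        refine ⟨Subgroup.inv_mem _ ihx.1, ?_⟩
        rw [commutatorElement_inv_left, ← commutatorElement_inv]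
        exact hconjE' x ihx.1 _ (Q.inv_mem ihx.2)
    exact this.2
  intro u hu
  exact (Subgroup.commutator_le.2 hstep2) hu

end G

end Cfsg.Agent.Lib.Helper24.SU3M
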