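import Mathlib
import Cfsg.Agent.Lib.Helper24.SU3M.Defs
import Cfsg.Agent.Lib.helper7.CeA
import Cfsg.Agent.Lib.helper3.StemTools
import Cfsg.Agent.Lib.helper15.UTorus

/-!
# SU3M row G1 (helper26): `transfer_tors`, the refined transfer lemma (`r`-torsion only).
-/

set_option autoImplicit false

namespace Cfsg.Agent.Lib.Helper24.SU3M

open Cfsg.Agent.Lib.Helper19.U3P Cfsg.Agent.Lib.Helper25.SU3P Cfsg.Agent.Lib.helper14.SU3J Cfsg.Agent.Lib.helper7.Ce Matrix Polynomial

universe u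

section G

variable {Γ G : Type*} [Group Γ] [Group G] {π : Γ →* G}

theorem transfer_tors [Finite Γ] (hsurj : Function.Surjective π) (hcen : π.ker ≤ Subgroup.center Γ) (hder : π.ker ≤ commutator Γ)
    (S : Subgroup G) {r : ℕ} [Fact r.Prime] (hind : ¬ r ∣ S.index)
    (hS : ∀ w ∈ ⁅S.comap π, S.comap π⁆, π w = 1 → w ^ r = 1 → w = 1) {z : Γ} (hz : z ∈ π.ker) (hzr : z ^ r = 1) : z = 1 := by
  by_contra hz1
  have hr : r.Prime := Fact.out
  have hord : orderOf z = r := orderOf_eq_prime hzr hz1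
  have h1 := Cfsg.Agent.Lib.helper3.pow_index_mem_commutator (S.comap π) (hcen hz) (hder hz)
  have h2 : π (z ^ (S.comap π).index) = 1 := by
    rw [map_pow, MonoidHom.mem_ker.mp hz, one_pow]
  have h2' : (z ^ (S.comap π).index) ^ r = 1 := by
    rw [← pow_mul, mul_comm, pow_mul, hzr, one_pow]
  have h3 := hS _ h1 h2 h2'
  rw [Subgroup.index_comap_of_surjective S hsurj] at h3
  have h4 := orderOf_dvd_of_pow_eq_one h3
  rw [hord] at h4
  exact hind h4

end G

end Cfsg.Agent.Lib.Helper24.SU3M
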