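import Mathlib
import Cfsg.Agent.Lib.Helper24.SU3M.Defs
import Cfsg.Agent.Lib.helper7.CeA
import Cfsg.Agent.Lib.helper3.StemTools
import Cfsg.Agent.Lib.helper15.UTorus
import Cfsg.Agent.Lib.helper14.U3PX11
import Cfsg.Agent.Lib.Helper19.U3PX7
import Cfsg.Agent.Lib.Helper25.SU3P.Center

/-!
# SU3M row P5a (helper26): CORE of `Vg_eq`

`su3mp5a_gen`: generic group theory.  `N` a subgroup normalised by `t` (one direction suffices), `A` a subgroup commuting elementwise with `N` and containing the commutators of `N`: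
the set `{cm t x * a | x ∈ N, a ∈ A}` is closed under products and inverses, hence equals the subgroup it generates.
`su3mp5a_core`: `Vg_eq` from the statements of P3 `NA_central`, P4 `NU_comm` and the two facts `t NU t⁻¹ ⊆ NU`, `t NA t⁻¹ ⊆ NA` (from U1 U2 U5).
-/

set_option autoImplicit false
set_option linter.unusedSectionVars false

namespace Cfsg.Agent.Lib.Helper24.SU3M

open Cfsg.Agent.Lib.Helper19.U3P Cfsg.Agent.Lib.Helper25.SU3P Cfsg.Agent.Lib.helper14.SU3J Cfsg.Agent.Lib.helper7.Ce Matrix Polynomial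

universe u

section gen

variable {Γ : Type*} [Group Γ]

/-- the product formula: `cm t x * cm t x' = cm t (x * x') * (cm x (cm t x'))⁻¹` when `cm x (cm t x')` commutes with `cm t x'`. -/
theorem su3mp5a_mul (t x x' : Γ) (hc : cm t x' * cm x (cm t x') = cm x (cm t x') * cm t x') :
    cm t x * cm t x' = cm t (x * x') * (cm x (cm t x'))⁻¹ := by
  have key : cm t (x * x') = cm t x * (cm x (cm t x') * cm t x') := by
    unfold cm; group
  rw [key, ← hc]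
  group

theorem su3mp5a_gen (N A : Subgroup Γ) (t : Γ) (ht : ∀ x ∈ N, t * x * t⁻¹ ∈ N)
    (hA : ∀ a ∈ A, ∀ x ∈ N, x * a = a * x) (hNN : ∀ x ∈ N, ∀ x' ∈ N, cm x x' ∈ A) :
    ∀ g ∈ Subgroup.closure {g | ∃ x ∈ N, ∃ a ∈ A, g = cm t x * a}, ∃ x ∈ N, ∃ a ∈ A, g = cm t x * a := by
  have hcmN : ∀ x ∈ N, cm t x ∈ N := fun x hx => N.mul_mem (ht x hx) (N.inv_mem hx)
  have hmul : ∀ g g' : Γ, (∃ x ∈ N, ∃ a ∈ A, g = cm t x * a) → (∃ x ∈ N, ∃ a ∈ A, g' = cm t x * a) →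
      ∃ x ∈ N, ∃ a ∈ A, g * g' = cm t x * a := by
    rintro _ _ ⟨x, hx, a, ha, rfl⟩ ⟨x', hx', a', ha', rfl⟩
    have hy : cm t x' ∈ N := hcmN x' hx'
    have hc : cm x (cm t x') ∈ A := hNN x hx _ hy
    refine ⟨x * x', N.mul_mem hx hx', (cm x (cm t x'))⁻¹ * (a * a'), A.mul_mem (A.inv_mem hc) (A.mul_mem ha ha'), ?_⟩
    have key2 := su3mp5a_mul t x x' (hA _ hc _ hy)
    calc cm t x * a * (cm t x' * a') = cm t x * (a * cm t x') * a' := by group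
      _ = cm t x * (cm t x' * a) * a' := by rw [← hA a ha _ hy]
      _ = cm t x * cm t x' * (a * a') := by group
      _ = cm t (x * x') * (cm x (cm t x'))⁻¹ * (a * a') := by rw [key2]
      _ = cm t (x * x') * ((cm x (cm t x'))⁻¹ * (a * a')) := by group
  have hinv : ∀ g : Γ, (∃ x ∈ N, ∃ a ∈ A, g = cm t x * a) → ∃ x ∈ N, ∃ a ∈ A, g⁻¹ = cm t x * a := by
    rintro _ ⟨x, hx, a, ha, rfl⟩
    have hx' : x⁻¹ ∈ N := N.inv_mem hx
    have hy : cm t x⁻¹ ∈ N := hcmN _ hx'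
    have hc : cm x (cm t x⁻¹) ∈ A := hNN x hx _ hy
    refine ⟨x⁻¹, hx', cm x (cm t x⁻¹) * a⁻¹, A.mul_mem hc (A.inv_mem ha), ?_⟩
    have key2 := su3mp5a_mul t x x⁻¹ (hA _ hc _ hy)
    have h1 : cm t (x * x⁻¹) = 1 := by unfold cm; group
    rw [h1, one_mul] at key2
    -- `cm t x * cm t x⁻¹ = c⁻¹`
    have key3 : (cm t x)⁻¹ = cm t x⁻¹ * cm x (cm t x⁻¹) := by
      have : cm t x * (cm t x⁻¹ * cm x (cm t x⁻¹)) = 1 := by
        rw [← mul_assoc, key2, inv_mul_cancel]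
      exact inv_eq_of_mul_eq_one_right this
    have hai : cm t x⁻¹ * a⁻¹ = a⁻¹ * cm t x⁻¹ := hA _ (A.inv_mem ha) _ hy
    have hci : cm t x⁻¹ * cm x (cm t x⁻¹) = cm x (cm t x⁻¹) * cm t x⁻¹ := hA _ hc _ hy
    calc (cm t x * a)⁻¹ = a⁻¹ * (cm t x)⁻¹ := by group
      _ = a⁻¹ * (cm t x⁻¹ * cm x (cm t x⁻¹)) := by rw [key3]
      _ = (a⁻¹ * cm t x⁻¹) * cm x (cm t x⁻¹) := by group
      _ = (cm t x⁻¹ * a⁻¹) * cm x (cm t x⁻¹) := by rw [hai]
      _ = cm t x⁻¹ * (a⁻¹ * cm x (cm t x⁻¹)) := by group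
      _ = cm t x⁻¹ * (cm x (cm t x⁻¹) * a⁻¹) := by
        have : a⁻¹ * cm x (cm t x⁻¹) = cm x (cm t x⁻¹) * a⁻¹ := by
          -- `cm x (cm t x⁻¹)` is also an element of `N` (a commutator of elements of `N`), and `A` commutes with `N`
          have hcN : cm x (cm t x⁻¹) ∈ N :=
            N.mul_mem (N.mul_mem (N.mul_mem hx hy) (N.inv_mem hx)) (N.inv_mem hy)
          exact (hA _ (A.inv_mem ha) _ hcN).symm
        rw [this]
  intro g hg
  induction hg using Subgroup.closure_induction with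
  | mem x hx => exact hx
  | one => exact ⟨1, N.one_mem, 1, A.one_mem, by unfold cm; group⟩
  | mul x y _ _ ihx ihy => exact hmul x y ihx ihy
  | inv x _ ihx => exact hinv x ihx

end gen

section P

variable {F : Type u} [Field F] [Fintype F] {K : Type u} [Field K] [Fintype K] {q : ℕ} {Γ : Type*} [Group Γ] {π : Γ →* ↥(Cfsg.SU 3 F q)}

/-- `A0 ≤ NA` when `t` normalises `NA`. -/
theorem su3mp5a_A0_le (D : Par F K q) {t : Γ} (hnA : ∀ y ∈ (Ag D).comap π, t * y * t⁻¹ ∈ (Ag D).comap π) :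
    A0 D π t ≤ (Ag D).comap π := by
  unfold A0
  rw [Subgroup.closure_le]
  rintro _ ⟨y, hy, rfl⟩
  exact Subgroup.mul_mem _ (hnA y hy) (Subgroup.inv_mem _ hy)

/-- `t` normalises `NU` and `NA`: from the statements of U1 `mem_Ug`, U2 `mem_Ag`, U5 `hz_conj`. -/
theorem su3mp5a_norm_core (D : Par F K q) (hF : Fintype.card F = q ^ 2) {hz : ↥(Cfsg.SU 3 F q)} {t : Γ} (ht : π t = hz)
    (hU1 : ∀ X : ↥(Cfsg.SU 3 F q), X ∈ Ug D ↔ IsUT (D.c.cj X))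
    (hU2 : ∀ X : ↥(Cfsg.SU 3 F q), X ∈ Ag D ↔ ∃ e : F, D.c.cj X = uu D.σ 0 e)
    (hU5 : ∀ (X : ↥(Cfsg.SU 3 F q)) (α β : F), D.c.cj X = uu D.σ α β → D.c.cj (hz * X * hz⁻¹) = uu D.σ (D.al * α) (D.bl * β)) :
    (∀ x ∈ (Ug D).comap π, t * x * t⁻¹ ∈ (Ug D).comap π) ∧ (∀ y ∈ (Ag D).comap π, t * y * t⁻¹ ∈ (Ag D).comap π) := by
  have hσσ : ∀ x, D.σ (D.σ x) = x := u3px7_sigma_sigma D hF
  constructor
  · intro x hx
    rw [Subgroup.mem_comap] at hx ⊢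
    rw [map_mul, map_mul, map_inv, ht]
    rw [hU1] at hx ⊢
    obtain ⟨α, β, -, hαβ⟩ := (isUT_iff D hσσ (π x)).1 hx
    rw [hU5 (π x) α β hαβ]
    exact Cfsg.Agent.Lib.Helper25.SU3P.CenterAux.isUT_uu D.σ _ _
  · intro y hy
    rw [Subgroup.mem_comap] at hy ⊢
    rw [map_mul, map_mul, map_inv, ht]
    rw [hU2] at hy ⊢
    obtain ⟨e, he⟩ := hy
    refine ⟨D.bl * e, ?_⟩
    rw [hU5 (π y) 0 e he, mul_zero]

/-- CORE of P5a `Vg_eq`: `hP3` is the statement of `NA_central`, `hP4` the conclusion of `NU_comm`; `hnU`, `hnA`: `t` normalises `NU`, `NA` (rows U1 U2 U5). -/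
theorem su3mp5a_core (D : Par F K q) {t : Γ}
    (hnU : ∀ x ∈ (Ug D).comap π, t * x * t⁻¹ ∈ (Ug D).comap π)
    (hnA : ∀ y ∈ (Ag D).comap π, t * y * t⁻¹ ∈ (Ag D).comap π)
    (hP3 : ∀ y ∈ (Ag D).comap π, ∀ x ∈ (Ug D).comap π, x * y = y * x)
    (hP4 : ∀ x ∈ (Ug D).comap π, ∀ x' ∈ (Ug D).comap π, cm x x' ∈ A0 D π t) :
    ∀ g ∈ Vg D π t, ∃ x ∈ (Ug D).comap π, ∃ a ∈ A0 D π t, g = cm t x * a := by
  intro g hg
  have hA : ∀ a ∈ A0 D π t, ∀ x ∈ (Ug D).comap π, x * a = a * x := fun a ha x hx =>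
    hP3 a (su3mp5a_A0_le D hnA ha) x hx
  have := su3mp5a_gen ((Ug D).comap π) (A0 D π t) t hnU hA hP4 g
  apply this
  unfold Vg at hg
  have e : {g | ∃ x ∈ (Ug D).comap π, ∃ a ∈ A0 D π t, g = t * x * t⁻¹ * x⁻¹ * a} =
      {g | ∃ x ∈ (Ug D).comap π, ∃ a ∈ A0 D π t, g = cm t x * a} := rfl
  rw [e] at hg
  exact hg

end P

end Cfsg.Agent.Lib.Helper24.SU3M
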