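import Mathlib
import Cfsg.Agent.Lib.Helper19.U3P.Defs
import Cfsg.Agent.Lib.Helper9.SP4H1

/-!
Project U3P row P1: `map_z0`, `ev_subL`, `ev_subB` (substitution words are evaluated by evaluating
the substituted letters).
-/

set_option autoImplicit false

namespace Cfsg.Agent.Lib.Helper19.U3P

open Cfsg.Agent.Lib.helper17.SLP Cfsg.Agent.Lib.helper14.SU3J Cfsg.Agent.Lib.Helper25.SU3P
open Polynomial Matrix

universe u v

/-- P1 [S]  `z0 = cm u (cj h u (q-1))`: `map_cm`, `map_cj`. -/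
theorem map_z0 {G : Type u} {H : Type v} [Group G] [Group H] (φ : G →* H) (q : ℕ) (u h : G) :
    φ (z0 q u h) = z0 q (φ u) (φ h) := by
  unfold z0
  rw [map_cm, map_cj]

/-- P1 [S]  `ev u h w` is a homomorphism: SP4 `ev_map` with `φ := ev u h w`, then `map_z0`, `map_pow`, `ev_gU ev_gH ev_gW`. -/
theorem ev_subL {G : Type u} [Group G] (q : ℕ) (u h w : G) (r : FreeGroup (Fin 3)) :
    ev u h w (subL q r) = ev (z0 q u h) (h ^ (q + 1)) w r := by
  unfold subL
  rw [Cfsg.Agent.Lib.helper3.SP4.ev_map (ev u h w), map_z0, map_pow, ev_gU, ev_gH, ev_gW]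

/-- P1 [S]  the same with `subB`. -/
theorem ev_subB {G : Type u} [Group G] (u h w : G) (r : FreeGroup (Fin 3)) :
    ev u h w (subB r) = ev u h 1 r := by
  unfold subB
  rw [Cfsg.Agent.Lib.helper3.SP4.ev_map (ev u h w), ev_gU, ev_gH, map_one]

end Cfsg.Agent.Lib.Helper19.U3P
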