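import Mathlib
import Cfsg.Agent.Lib.helper17.SLP.Defs

set_option autoImplicit false

namespace Cfsg.Agent.Lib.helper17.SLP

open Polynomial

universe u v

/-- X1 core: the statements of XQ and XR (for this `F`, `p`, `ζ`) as hypotheses. -/
theorem slpx1_core {F : Type u} [Field F] [Fintype F] (p : ℕ) [Fact p.Prime] [CharP F p] (hp : p ≠ 2)
    (ζ : Fˣ)
    (hXQ : Fintype.card F < p ^ 3 →
      ∃ (A : List (FreeGroup (Fin 3))) (az : FreeGroup (Fin 3)), A.length ≤ 3 ∧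
      (∀ r ∈ A, ev (xM (1 : F)) (hM ζ) wM r = 1) ∧ ev (xM (1 : F)) (hM ζ) wM az = xM (ζ : F) ∧
      ∀ (G : Type) [Group G] (u h w : G), (∀ r ∈ A, ev u h w r = 1) →
        ∃ x : F → G, (∀ s t, x (s + t) = x s * x t) ∧
          (∀ t, h * x t * h⁻¹ = x ((ζ : F) ^ 2 * t)) ∧ x 1 = u ∧ x (ζ : F) = ev u h w az)
    (hXR : 9 < Fintype.card F →
      ∃ (A : List (FreeGroup (Fin 3))) (az : FreeGroup (Fin 3)), A.length ≤ 5 ∧
      (∀ r ∈ A, ev (xM (1 : F)) (hM ζ) wM r = 1) ∧ ev (xM (1 : F)) (hM ζ) wM az = xM (ζ : F) ∧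
      ∀ (G : Type) [Group G] (u h w : G), (∀ r ∈ A, ev u h w r = 1) →
        ∃ x : F → G, (∀ s t, x (s + t) = x s * x t) ∧
          (∀ t, h * x t * h⁻¹ = x ((ζ : F) ^ 2 * t)) ∧ x 1 = u ∧ x (ζ : F) = ev u h w az) :
    ∃ (A : List (FreeGroup (Fin 3))) (az : FreeGroup (Fin 3)), A.length ≤ 5 ∧
      (∀ r ∈ A, ev (xM (1 : F)) (hM ζ) wM r = 1) ∧ ev (xM (1 : F)) (hM ζ) wM az = xM (ζ : F) ∧
      ∀ (G : Type) [Group G] (u h w : G), (∀ r ∈ A, ev u h w r = 1) →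
        ∃ x : F → G, (∀ s t, x (s + t) = x s * x t) ∧
          (∀ t, h * x t * h⁻¹ = x ((ζ : F) ^ 2 * t)) ∧ x 1 = u ∧ x (ζ : F) = ev u h w az := by
  by_cases hq : 9 < Fintype.card F
  · exact hXR hq
  · have h2 : 2 ≤ p := (Fact.out : p.Prime).two_le
    have hp3 : 3 ≤ p := lt_of_le_of_ne h2 (Ne.symm hp)
    have h27 : 3 ^ 3 ≤ p ^ 3 := Nat.pow_le_pow_left hp3 3
    have hle : Fintype.card F ≤ 9 := not_lt.1 hq
    have hlt : Fintype.card F < p ^ 3 :=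
      lt_of_le_of_lt hle (lt_of_lt_of_le (by norm_num) h27)
    obtain ⟨A, az, hA, h1, h2, h3⟩ := hXQ hlt
    exact ⟨A, az, le_trans hA (by norm_num), h1, h2, h3⟩

end Cfsg.Agent.Lib.helper17.SLP
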