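import Mathlib
import Cfsg.Agent.Lib.helper17.SLP.Defs
import Cfsg.Agent.Lib.Helper26.SLPX1core
import Cfsg.Agent.Lib.Helper28.SLPXQ
import Cfsg.Agent.Lib.helper2.SLPXR

set_option autoImplicit false

namespace Cfsg.Agent.Lib.helper17.SLP

open Polynomial

universe u v

theorem ascheme_odd {F : Type u} [Field F] [Fintype F] (p : ℕ) [Fact p.Prime] [CharP F p] (hp : p ≠ 2)
    (ζ : Fˣ) (hζ : ∀ y : Fˣ, y ∈ Subgroup.zpowers ζ) :
    ∃ (A : List (FreeGroup (Fin 3))) (az : FreeGroup (Fin 3)), A.length ≤ 5 ∧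
      (∀ r ∈ A, ev (xM (1 : F)) (hM ζ) wM r = 1) ∧ ev (xM (1 : F)) (hM ζ) wM az = xM (ζ : F) ∧
      ∀ (G : Type) [Group G] (u h w : G), (∀ r ∈ A, ev u h w r = 1) →
        ∃ x : F → G, (∀ s t, x (s + t) = x s * x t) ∧
          (∀ t, h * x t * h⁻¹ = x ((ζ : F) ^ 2 * t)) ∧ x 1 = u ∧ x (ζ : F) = ev u h w az :=
  slpx1_core p hp ζ (fun hq => ascheme_Q p hq ζ hζ) (fun hq => ascheme_R p hp hq ζ hζ)

end Cfsg.Agent.Lib.helper17.SLP
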