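import Mathlib
import Cfsg.Agent.Lib.helper17.SLP.Defs
import Cfsg.Agent.Lib.helper3.SP4.Defs
import Cfsg.Prelude.Def_Classical
import Cfsg.Agent.Lib.helper2.SLPM1

/-!
# Project SP4 (helper3), row FIN1 `TT_card` (helper26).  Self-contained (does not use D8, R3).
-/

set_option autoImplicit false

namespace Cfsg.Agent.Lib.helper3.SP4

open Cfsg.Agent.Lib.helper17.SLP
open Polynomial

universe u v

section FIN

variable {F : Type u} [Field F] [Fintype F]

omit [Fintype F] in
theorem sp4fin1_rh_mul {G : Type v} [Group G] (φ : Matrix.SpecialLinearGroup (Fin 2) F →* G)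
    (s r : Fˣ) : rh φ (s * r) = rh φ s * rh φ r := by
  unfold rh
  rw [← hM_mul, map_mul]

omit [Fintype F] in
theorem sp4fin1_rh_one {G : Type v} [Group G] (φ : Matrix.SpecialLinearGroup (Fin 2) F →* G) :
    rh φ 1 = 1 := by
  unfold rh
  rw [slpm1_hM_one, map_one]

/-- the torus parametrisation `(s, r) ↦ h_a(s) h_b(r)` -/
def sp4fin1_hom {G : Type v} [Group G] (φa φb : Matrix.SpecialLinearGroup (Fin 2) F →* G)
    (R : Tor4 φa φb) : Fˣ × Fˣ →* G :=
  MonoidHom.mk' (fun p => rh φa p.1 * rh φb p.2) (by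
    rintro ⟨s, r⟩ ⟨s', r'⟩
    show rh φa (s * s') * rh φb (r * r') = rh φa s * rh φb r * (rh φa s' * rh φb r')
    rw [sp4fin1_rh_mul, sp4fin1_rh_mul]
    have h := (R.comm s' r).eq
    calc rh φa s * rh φa s' * (rh φb r * rh φb r')
        = rh φa s * (rh φa s' * rh φb r) * rh φb r' := by simp only [mul_assoc]
      _ = rh φa s * (rh φb r * rh φa s') * rh φb r' := by rw [h]
      _ = rh φa s * rh φb r * (rh φa s' * rh φb r') := by simp only [mul_assoc])

omit [Fintype F] in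
theorem sp4fin1_hom_apply {G : Type v} [Group G] (φa φb : Matrix.SpecialLinearGroup (Fin 2) F →* G)
    (R : Tor4 φa φb) (p : Fˣ × Fˣ) : sp4fin1_hom φa φb R p = rh φa p.1 * rh φb p.2 := rfl

omit [Fintype F] in
theorem sp4fin1_range {G : Type v} [Group G] (φa φb : Matrix.SpecialLinearGroup (Fin 2) F →* G)
    (R : Tor4 φa φb) : TT φa φb = (sp4fin1_hom φa φb R).range := by
  apply le_antisymm
  · unfold TT
    rw [Subgroup.closure_le]
    rintro g (⟨s, rfl⟩ | ⟨r, rfl⟩)
    · exact ⟨(s, 1), by rw [sp4fin1_hom_apply, sp4fin1_rh_one, mul_one]⟩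
    · exact ⟨(1, r), by rw [sp4fin1_hom_apply, sp4fin1_rh_one, one_mul]⟩
  · rintro g ⟨p, rfl⟩
    rw [sp4fin1_hom_apply]
    exact Subgroup.mul_mem _ (Subgroup.subset_closure (Or.inl ⟨p.1, rfl⟩))
      (Subgroup.subset_closure (Or.inr ⟨p.2, rfl⟩))

theorem sp4fin1_card_dom : Nat.card (Fˣ × Fˣ) = (Fintype.card F - 1) ^ 2 := by
  rw [Nat.card_prod, Nat.card_units, Nat.card_eq_fintype_card, sq]

/-- FIN1 [M]. -/
theorem TT_card {G : Type v} [Group G] (φa φb : Matrix.SpecialLinearGroup (Fin 2) F →* G) (R : Tor4 φa φb) :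
    Nat.card (TT φa φb) ≤ (Fintype.card F - 1) ^ 2 ∧
      ((2 : F) ≠ 0 → rh φa (-1) = 1 → 2 * Nat.card (TT φa φb) ≤ (Fintype.card F - 1) ^ 2) := by
  have hmul : Nat.card (sp4fin1_hom φa φb R).range * Nat.card (sp4fin1_hom φa φb R).ker =
      (Fintype.card F - 1) ^ 2 := by
    rw [← sp4fin1_card_dom (F := F),
      Subgroup.card_eq_card_quotient_mul_card_subgroup (sp4fin1_hom φa φb R).ker,
      Nat.card_congr (QuotientGroup.quotientKerEquivRange (sp4fin1_hom φa φb R)).toEquiv]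
  have hpos : 0 < Nat.card (sp4fin1_hom φa φb R).ker := Nat.card_pos
  rw [sp4fin1_range φa φb R]
  refine ⟨?_, fun h2 h1 => ?_⟩
  · calc Nat.card (sp4fin1_hom φa φb R).range
        ≤ Nat.card (sp4fin1_hom φa φb R).range * Nat.card (sp4fin1_hom φa φb R).ker :=
          Nat.le_mul_of_pos_right _ hpos
      _ = _ := hmul
  · have hne : (sp4fin1_hom φa φb R).ker ≠ ⊥ := by
      intro hbot
      have hmem : ((-1 : Fˣ), (1 : Fˣ)) ∈ (sp4fin1_hom φa φb R).ker := by
        rw [MonoidHom.mem_ker, sp4fin1_hom_apply, h1, sp4fin1_rh_one, mul_one]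
      rw [hbot, Subgroup.mem_bot, Prod.ext_iff] at hmem
      have h3 : (-1 : Fˣ) = 1 := hmem.1
      have h4 : (-1 : F) = 1 := by
        have := congrArg (fun x : Fˣ => (x : F)) h3
        simpa using this
      apply h2
      linear_combination (-1 : F) * h4
    have hker : 2 ≤ Nat.card (sp4fin1_hom φa φb R).ker :=
      (Subgroup.one_lt_card_iff_ne_bot _).2 hne
    calc 2 * Nat.card (sp4fin1_hom φa φb R).range
        ≤ Nat.card (sp4fin1_hom φa φb R).ker * Nat.card (sp4fin1_hom φa φb R).range :=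
          Nat.mul_le_mul_right _ hker
      _ = _ := by rw [mul_comm, hmul]

end FIN

end Cfsg.Agent.Lib.helper3.SP4
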