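import Mathlib
import Cfsg.Agent.Lib.helper17.SLP.Defs
import Cfsg.Agent.Lib.helper3.SP4.Defs
import Cfsg.Prelude.Def_Classical

/-!
# Project SP4 (helper3), row FIN5 `sp4_main`: the core, with the statements of the rows
H6, P1, FIN1, FIN2, FIN3, FIN4, M6, T8 as hypotheses (helper26).
-/

set_option autoImplicit false

namespace Cfsg.Agent.Lib.helper3.SP4

open Cfsg.Agent.Lib.helper17.SLP
open Polynomial

universe u v

section FIN

variable {F : Type u} [Field F] [Fintype F]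

/-- FIN5, core. -/
theorem sp4fin5_core
    (hH6 : ∀ (ζ : Fˣ), (∀ y : Fˣ, y ∈ Subgroup.zpowers ζ) →
      ∃ (L : List (FreeGroup (Fin 3))) (az : FreeGroup (Fin 3)), L.length ≤ 9 ∧
        ((2 : F) = 0 → L.length ≤ 5) ∧
        (∀ r ∈ L, ev (xM (1 : F)) (hM ζ) wM r = 1) ∧ ev (xM (1 : F)) (hM ζ) wM az = xM (ζ : F) ∧
        ∀ (G : Type) [Group G] (u h w : G), (∀ r ∈ L, ev u h w r = 1) →
          ∃ φ : Matrix.SpecialLinearGroup (Fin 2) F →* G, φ (xM 1) = u ∧ φ (hM ζ) = h ∧ φ wM = w)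
    (hP1 : ∀ (L : List (FreeGroup (Fin 6)))
      (a₁ a₂ a₃ b₁ b₂ b₃ : ↥(Matrix.symplecticGroup (Fin 2) F)),
      Subgroup.closure {a₁, a₂, a₃, b₁, b₂, b₃} = ⊤ → (∀ r ∈ L, ev6 a₁ a₂ a₃ b₁ b₂ b₃ r = 1) →
      (∀ (G : Type) [Group G] (ua ha wa ub hb wb : G),
        Subgroup.closure {ua, ha, wa, ub, hb, wb} = ⊤ →
        (∀ r ∈ L, ev6 ua ha wa ub hb wb r = 1) →
          Finite G ∧ Nat.card G ≤ Nat.card ↥(Matrix.symplecticGroup (Fin 2) F)) →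
      Nonempty (PresentedGroup (↑L.toFinset : Set (FreeGroup (Fin 6))) ≃*
        ↥(Matrix.symplecticGroup (Fin 2) F)))
    (hFIN1 : ∀ (G : Type) [Group G] (φa φb : Matrix.SpecialLinearGroup (Fin 2) F →* G),
      Tor4 φa φb →
      Nat.card (TT φa φb) ≤ (Fintype.card F - 1) ^ 2 ∧
        ((2 : F) ≠ 0 → rh φa (-1) = 1 → 2 * Nat.card (TT φa φb) ≤ (Fintype.card F - 1) ^ 2))
    (hFIN2 : ∀ (ζ : Fˣ), (∀ y : Fˣ, y ∈ Subgroup.zpowers ζ) → ∀ (G : Type) [Group G]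
      (φa φb : Matrix.SpecialLinearGroup (Fin 2) F →* G), Hyp ζ φa φb →
      Subgroup.closure (Set.range φa ∪ Set.range φb) = ⊤ →
      Finite G ∧ Nat.card G ≤ Nat.card (TT φa φb) * Fintype.card F ^ 4 *
        (1 + 2 * Fintype.card F + 2 * Fintype.card F ^ 2 + 2 * Fintype.card F ^ 3 +
          Fintype.card F ^ 4))
    (hFIN3 : ∀ (ζ : Fˣ) (L : List (FreeGroup (Fin 3))) (az : FreeGroup (Fin 3)),
      ev (xM (1 : F)) (hM ζ) wM az = xM (ζ : F) →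
      (∀ (G : Type) [Group G] (u h w : G), (∀ r ∈ L, ev u h w r = 1) →
        ∃ φ : Matrix.SpecialLinearGroup (Fin 2) F →* G, φ (xM 1) = u ∧ φ (hM ζ) = h ∧ φ wM = w) →
      ∀ (G : Type) [Group G] (ua ha wa ub hb wb : G),
      Subgroup.closure {ua, ha, wa, ub, hb, wb} = ⊤ →
      (∀ r ∈ L.map inA ++ L.map inB ++ wordsS6 (inA az), ev6 ua ha wa ub hb wb r = 1) →
      ∃ φa φb : Matrix.SpecialLinearGroup (Fin 2) F →* G, Hyp ζ φa φb ∧ rh φa ζ = ha ∧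
        Subgroup.closure (Set.range φa ∪ Set.range φb) = ⊤)
    (hFIN4 : ∀ (ζ : Fˣ), (∀ y : Fˣ, y ∈ Subgroup.zpowers ζ) → ∀ (L : List (FreeGroup (Fin 3)))
      (az : FreeGroup (Fin 3)), (∀ r ∈ L, ev (xM (1 : F)) (hM ζ) wM r = 1) →
      ev (xM (1 : F)) (hM ζ) wM az = xM (ζ : F) →
      (∀ r ∈ L.map inA ++ L.map inB ++ wordsS6 (inA az),
        ev6 (rhoA (xM (1 : F))) (rhoA (hM ζ)) (rhoA wM) (rhoB (xM (1 : F))) (rhoB (hM ζ))
          (rhoB wM) r = 1) ∧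
      Subgroup.closure {rhoA (xM (1 : F)), rhoA (hM ζ), rhoA wM, rhoB (xM (1 : F)), rhoB (hM ζ),
        rhoB wM} = ⊤)
    (hM6 : Nat.card (Matrix.symplecticGroup (Fin 2) F) =
      (Fintype.card F - 1) ^ 2 * Fintype.card F ^ 4 *
        (1 + 2 * Fintype.card F + 2 * Fintype.card F ^ 2 + 2 * Fintype.card F ^ 3 +
          Fintype.card F ^ 4))
    (hT8 : ∀ (ζ : Fˣ), (∀ y : Fˣ, y ∈ Subgroup.zpowers ζ) → ∀ (G : Type) [Group G]
      (φa φb : Matrix.SpecialLinearGroup (Fin 2) F →* G), Hyp ζ φa φb → Tor4 φa φb) :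
    ∃ rels : Finset (FreeGroup (Fin 6)), rels.card ≤ 35 ∧
      Nonempty (PresentedGroup (↑rels : Set (FreeGroup (Fin 6))) ≃*
        Matrix.symplecticGroup (Fin 2) F) := by
  obtain ⟨ζ, hζ⟩ := IsCyclic.exists_generator (α := Fˣ)
  obtain ⟨L, az, hlen, -, hLrel, haz, hL⟩ := hH6 ζ hζ
  obtain ⟨hrelM, hgenM⟩ := hFIN4 ζ hζ L az hLrel haz
  refine ⟨(L.map inA ++ L.map inB ++ wordsS6 (inA az)).toFinset, ?_, ?_⟩
  · refine le_trans (List.toFinset_card_le _) ?_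
    simp only [List.length_append, List.length_map, wordsS6, List.length_cons, List.length_nil]
    omega
  · refine hP1 _ _ _ _ _ _ _ hgenM hrelM ?_
    intro G _ ua ha wa ub hb wb hgen hrel
    obtain ⟨φa, φb, H, -, hgen'⟩ := hFIN3 ζ L az haz hL G ua ha wa ub hb wb hgen hrel
    have R := hT8 ζ hζ G φa φb H
    obtain ⟨hfin, hle⟩ := hFIN2 ζ hζ G φa φb H hgen'
    have hT := (hFIN1 G φa φb R).1
    refine ⟨hfin, le_trans hle ?_⟩
    rw [hM6]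
    exact Nat.mul_le_mul_right _ (Nat.mul_le_mul_right _ hT)

end FIN

end Cfsg.Agent.Lib.helper3.SP4
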