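import Mathlib
import Cfsg.Agent.Lib.Helper19.SU5.Defs
import Cfsg.Agent.Lib.Helper19.SU5.Defs2
import Cfsg.Agent.Lib.helper3.SU5.Defs
import Cfsg.Agent.Lib.Helper5.SU5F8
import Cfsg.Agent.Lib.Helper5.SU5T0
import Cfsg.Agent.Lib.Helper28.SP4R3

/-!
# Project SU5 (designer helper19; S2291 odd case), row B1 `tab5_sqU`, VERBATIM (helper26).
The squares of the Weyl elements on the simple root maps (`a2_xB a2_yB b2_xA b2_yA` of helper3's `Tab5`) from `TorU` + F8.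
The parts of the dictionary B0 which are used are proved here (extras `su5b1_nA`, `su5b1_yA`, `su5b1_nB`), so the row does not wait for B0.
-/

set_option autoImplicit false
set_option linter.unusedSectionVars false
set_option linter.unusedSimpArgs false
set_option linter.unusedVariables false

namespace Cfsg.Agent.Lib.Helper19.SU5

open Cfsg.Agent.Lib.helper17.SLP Cfsg.Agent.Lib.helper3.SP4 Cfsg.Agent.Lib.Helper22.SU4
open Cfsg.Agent.Lib.Helper27.STU (Lam XpM XmM XpS XmS SUm XpU XmU SysU)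
open Cfsg.Agent.Lib.helper3.STC (ng sws)
open Cfsg.Agent.Lib.helper3.SU5 (Dat Tab5 Pre)

universe u v w

section B

variable {F : Type u} {K : Type u} [Field F] [Field K] [StarRing F] [Fintype F] [Fintype K] {D : Tw F K}
  {G : Type v} [Group G]

theorem su5b1_act_act (s t : F) (ξ : Lam F True) : Lam.act s (Lam.act t ξ) = Lam.act (s * t) ξ := by
  apply Lam.ext
  · simp only [Lam.act_v]; ring
  · simp only [Lam.act_c, star_mul']; ring

theorem su5b1_act_one (ξ : Lam F True) : Lam.act 1 ξ = ξ := by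
  apply Lam.ext
  · simp only [Lam.act_v, one_mul]
  · simp only [Lam.act_c, star_one, one_mul]

/-- `xm 1 * ym (-1) * xm 1 = wM` in `SL₂(F)`. -/
theorem su5b1_wM : Cfsg.Agent.Lib.helper15.St2.xm (1 : F) * Cfsg.Agent.Lib.helper15.St2.ym (-1) *
    Cfsg.Agent.Lib.helper15.St2.xm 1 = wM := by
  apply Subtype.ext
  show (!![1, 1; 0, 1] * !![1, 0; -1, 1] * !![1, 1; 0, 1] : Matrix (Fin 2) (Fin 2) F) = !![0, 1; -1, 0]
  ext i j
  fin_cases i <;> fin_cases j <;> simp [Matrix.mul_apply, Fin.sum_univ_two]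

/-- `ym t * wM = wM * xM (-t)` in `SL₂(F)`. -/
theorem su5b1_ym (t : F) : Cfsg.Agent.Lib.helper15.St2.ym t * wM = wM * xM (-t) := by
  apply Subtype.ext
  show (!![1, 0; t, 1] * !![0, 1; -1, 0] : Matrix (Fin 2) (Fin 2) F) = !![0, 1; -1, 0] * !![1, -t; 0, 1]
  ext i j
  fin_cases i <;> fin_cases j <;> simp [Matrix.mul_apply, Fin.sum_univ_two]

theorem su5b1_nA (P : RO D) (φa : Matrix.SpecialLinearGroup (Fin 2) F →* G) (φb : ↥(SUm F True) →* G) :
    (datU P φa φb).nA = rn φa := by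
  show φa (Cfsg.Agent.Lib.helper15.St2.xm 1) * φa (Cfsg.Agent.Lib.helper15.St2.ym (-1)) *
    φa (Cfsg.Agent.Lib.helper15.St2.xm 1) = φa wM
  rw [← map_mul, ← map_mul, su5b1_wM]

theorem su5b1_yA (P : RO D) (φa : Matrix.SpecialLinearGroup (Fin 2) F →* G) (φb : ↥(SUm F True) →* G) (t : F) :
    (datU P φa φb).yA t = rn φa * rx φa (-t) * (rn φa)⁻¹ := by
  show φa (Cfsg.Agent.Lib.helper15.St2.ym t) = φa wM * φa (xM (-t)) * (φa wM)⁻¹
  rw [eq_mul_inv_iff_mul_eq, ← map_mul, ← map_mul, su5b1_ym]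

theorem su5b1_nB (P : RO D) (φa : Matrix.SpecialLinearGroup (Fin 2) F →* G) (φb : ↥(SUm F True) →* G) :
    (datU P φa φb).nB = φb (WU (Lam.tr (P.ζ : F))) := by
  show φb (XpU (Lam.tr (P.ζ : F))) * φb (XmU (Lam.mu (Lam.tr (P.ζ : F)))) * φb (XpU (Lam.nu (Lam.tr (P.ζ : F)))) =
    φb (XpU (Lam.tr (P.ζ : F)) * XmU (Lam.mu (Lam.tr (P.ζ : F))) * XpU (Lam.nu (Lam.tr (P.ζ : F))))
  rw [map_mul, map_mul]

theorem su5b1_neg_one_inv : (((-1 : Fˣ)⁻¹ : Fˣ) : F) = -1 := by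
  rw [inv_neg, inv_one, Units.val_neg, Units.val_one]

theorem su5b1_cj_comm (h w y : G) (hc : h * w = w * h) : h * (w * y * w⁻¹) * h⁻¹ = w * (h * y * h⁻¹) * w⁻¹ := by
  have e : h * (w * y * w⁻¹) * h⁻¹ = (h * w) * y * (h * w)⁻¹ := by group
  rw [e, hc]
  group

theorem su5b1_cj_tw (h w g y : G) (hc : h * w = w * g) : h * (w * y * w⁻¹) * h⁻¹ = w * (g * y * g⁻¹) * w⁻¹ := by
  have e : h * (w * y * w⁻¹) * h⁻¹ = (h * w) * y * (h * w)⁻¹ := by group
  rw [e, hc]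
  group

/-- B1 [M]  deps B0 + part 1 F8 (through `φb`), T0, `r_basic`.  `κ ≠ 0`, `star κ / κ = -1 = κ / star κ`.
`a2_xB`: `w_a² = h_a(-1)` (`r_basic`), `R.a_yb` at `s = -1` (`(-1)⁻¹ = -1`).  `a2_yB`: `y_{-b}(η) = w_b y_b(act (-κ) η) w_b⁻¹` (F8 part 3 through `φb`, `Lam.act_act`, `-κ⁻¹ * -κ = 1`); `h_a(-1)` commutes with `w_b`
(`R.wb_ha'` at `s = -1`: `nmu (-1) = 1`, `h_b(1) = 1`); then `a2_xB`.  `b2_xA`: `w_b² = h_b(-1)` (F8 part 2 through `φb`; `rn (phiL P φb) = φb (WU (tr ζ))`: T0), `R.ab` at `r = -1`.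
`b2_yA`: `yA t = w_a x_a(-t) w_a⁻¹` (B0); `h_b(-1) w_a = w_a h_a(-1) h_b(-1)` (`R.wa_hb'`); `h_a(-1) h_b(-1)` acts on `x_a` through `(-1)² (-1)⁻¹ = -1` (`r_basic`, `R.ab`). -/
theorem tab5_sqU (hFK : Fintype.card F = Fintype.card K ^ 2) (P : RO D)
    (φa : Matrix.SpecialLinearGroup (Fin 2) F →* G) (φb : ↥(SUm F True) →* G) (R : TorU P φa φb) :
    (∀ ξ, Cfsg.Agent.Lib.helper15.St2.cj ((datU P φa φb).nA * (datU P φa φb).nA) ((datU P φa φb).xB ξ) = (datU P φa φb).xB (Lam.act (-1) ξ)) ∧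
      (∀ ξ, Cfsg.Agent.Lib.helper15.St2.cj ((datU P φa φb).nA * (datU P φa φb).nA) ((datU P φa φb).yB ξ) = (datU P φa φb).yB (Lam.act (-1) ξ)) ∧
      (∀ t, Cfsg.Agent.Lib.helper15.St2.cj ((datU P φa φb).nB * (datU P φa φb).nB) ((datU P φa φb).xA t) =
        (datU P φa φb).xA (star (datU P φa φb).ξ₀.c / (datU P φa φb).ξ₀.c * t)) ∧
      ∀ t, Cfsg.Agent.Lib.helper15.St2.cj ((datU P φa φb).nB * (datU P φa φb).nB) ((datU P φa φb).yA t) =
        (datU P φa φb).yA ((datU P φa φb).ξ₀.c / star (datU P φa φb).ξ₀.c * t) := by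
  have hk := su5f8_kap_ne hFK P
  have hs := su5f8_star_kap P
  obtain ⟨hw1, hw2, hw3, hw4⟩ := wu_conjU hFK P
  obtain ⟨-, hT0n, -, -, hbm, hb1, hbi, -⟩ := phiL_basicU P φa φb
  obtain ⟨ra, r0, rneg, hm, h1, hi, hz, haa, hnh, hn2⟩ := r_basic φa
  have dnA := su5b1_nA P φa φb
  have dnB := su5b1_nB P φa φb
  have dc : (datU P φa φb).ξ₀.c = P.kap := rfl
  -- `w_a * w_a = h_a(-1)`
  have hA2 : (datU P φa φb).nA * (datU P φa φb).nA = rh φa (-1) := by
    rw [dnA, ← pow_two, hn2]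
  -- `w_b * w_b = h_b(-1)`
  have hB2 : (datU P φa φb).nB * (datU P φa φb).nB = hbF P φb (-1) := by
    rw [dnB, ← map_mul, ← pow_two, hw2]
    rfl
  -- `h_a(-1)` on `y_b`
  have e1 : ∀ ξ, rh φa (-1) * yb φb ξ * (rh φa (-1))⁻¹ = yb φb (Lam.act (-1) ξ) := by
    intro ξ
    have := R.a_yb (-1) ξ
    rw [su5b1_neg_one_inv] at this
    exact this
  -- `y_{-b}` through `w_b`
  have e2 : ∀ η, ybm φb η = rn (phiL P φb) * yb φb (Lam.act (-P.kap) η) * (rn (phiL P φb))⁻¹ := by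
    intro η
    rw [hT0n]
    unfold ybm yb
    rw [← map_inv, ← map_mul, ← map_mul, hw3, su5b1_act_act]
    have : -(P.kap)⁻¹ * -P.kap = 1 := by
      rw [neg_mul_neg, inv_mul_cancel₀ hk]
    rw [this, su5b1_act_one]
  -- `h_a(-1)` commutes with `w_b`
  have e3 : rh φa (-1) * rn (phiL P φb) = rn (phiL P φb) * rh φa (-1) := by
    have h := R.wb_ha' (-1)
    have hn : D.nmu (-1) = 1 := by
      apply Units.ext
      apply D.ι_injective
      show D.ι (D.nm ((-1 : Fˣ) : F)) = D.ι ((1 : Kˣ) : K)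
      rw [D.hnm, Units.val_neg, Units.val_one, Units.val_one, map_neg, map_one, map_one]
      ring
    rw [hn, map_one, hb1, mul_one] at h
    calc rh φa (-1) * rn (phiL P φb) = rn (phiL P φb) * ((rn (phiL P φb))⁻¹ * rh φa (-1) * rn (phiL P φb)) := by group
      _ = rn (phiL P φb) * rh φa (-1) := by rw [h]
  refine ⟨?_, ?_, ?_, ?_⟩
  · intro ξ
    rw [hA2]
    exact e1 ξ
  · intro η
    rw [hA2]
    show rh φa (-1) * ybm φb η * (rh φa (-1))⁻¹ = ybm φb (Lam.act (-1) η)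
    rw [e2 η, e2 (Lam.act (-1) η), su5b1_cj_comm _ _ _ e3, e1, su5b1_act_act, su5b1_act_act]
    have e : (-1 : F) * -P.kap = -P.kap * -1 := by ring
    rw [e]
  · intro t
    rw [hB2, dc, hs]
    have h := R.ab (-1) t
    rw [su5b1_neg_one_inv] at h
    have e : -P.kap / P.kap * t = -1 * t := by
      rw [neg_div, div_self hk]
    rw [e]
    exact h
  · intro t
    rw [hB2, dc, hs, su5b1_yA, su5b1_yA]
    have e : P.kap / -P.kap * t = -t := by
      rw [div_neg, div_self hk]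
      ring
    rw [e, neg_neg]
    have h4 : hbF P φb (-1) * rn φa = rn φa * (rh φa (-1) * hbF P φb (-1)) := by
      rw [← R.wa_hb' (-1)]
      group
    show hbF P φb (-1) * (rn φa * rx φa (-t) * (rn φa)⁻¹) * (hbF P φb (-1))⁻¹ = _
    rw [su5b1_cj_tw _ _ _ _ h4]
    congr 2
    have h5 := R.ab (-1) (-t)
    rw [su5b1_neg_one_inv] at h5
    have h6 := haa (-1) t
    have e' : rh φa (-1) * hbF P φb (-1) * rx φa (-t) * (rh φa (-1) * hbF P φb (-1))⁻¹ =
        rh φa (-1) * (hbF P φb (-1) * rx φa (-t) * (hbF P φb (-1))⁻¹) * (rh φa (-1))⁻¹ := by group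
    rw [e', h5]
    have e'' : (-1 : F) * -t = t := by ring
    rw [e'', h6, Units.val_neg, Units.val_one]
    congr 1
    ring

end B

end Cfsg.Agent.Lib.Helper19.SU5
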