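import Mathlib
import Cfsg.Prelude.Def_GeometricClasses
import Cfsg.Agent.Lib.Helper27.ASC.Defs
import Cfsg.Agent.Lib.Lead.ASCU.Defs
import Cfsg.Agent.Lib.Helper28.UHerm
import Cfsg.Agent.S5643

/-!
# Project ASCU, piece UPR5: `SU_n(q)` is not contained in a subfield group (`n ≥ 3`)

Every unitary transvection `t` lies in `Fˣ · P GL_n(F₀) P⁻¹`; as `t ^ |F| = 1` its scalar lies in `F₀`, so
`t - 1` lies in the `F₀`-algebra `A = P M_n(F₀) P⁻¹`.  Ratios of proportional non-zero elements of `A`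
lie in `F₀`; a triple product of such nilpotents realises every element of `F` as such a ratio.
-/

set_option autoImplicit false
set_option linter.unusedVariables false
set_option linter.unusedSimpArgs false

namespace Cfsg.Agent.Lib.Lead.ASCU

open Cfsg Cfsg.Geo Cfsg.Agent.Lib.Helper27.ASC
open scoped MatrixGroups Matrix

variable {n : ℕ} {F : Type*} [Field F] [Fintype F]

/-- membership in the `F₀`-algebra `P M_n(F₀) P⁻¹` -/
def ascuupr5_InA {n : ℕ} {F : Type*} [Field F] (F₀ : Subfield F) (P : GL (Fin n) F)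
    (X : Matrix (Fin n) (Fin n) F) : Prop :=
  ∃ X₀ : Matrix (Fin n) (Fin n) F₀,
    X = (P : Matrix (Fin n) (Fin n) F) * (F₀.subtype : F₀ →+* F).mapMatrix X₀ *
      ((P⁻¹ : GL (Fin n) F) : Matrix (Fin n) (Fin n) F)

theorem ascuupr5_inv_mul {n : ℕ} {F : Type*} [Field F] (P : GL (Fin n) F) :
    ((P⁻¹ : GL (Fin n) F) : Matrix (Fin n) (Fin n) F) * (P : Matrix (Fin n) (Fin n) F) = 1 := by
  rw [← Units.val_mul, inv_mul_cancel, Units.val_one]

theorem ascuupr5_mul_inv {n : ℕ} {F : Type*} [Field F] (P : GL (Fin n) F) :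
    (P : Matrix (Fin n) (Fin n) F) * ((P⁻¹ : GL (Fin n) F) : Matrix (Fin n) (Fin n) F) = 1 := by
  rw [← Units.val_mul, mul_inv_cancel, Units.val_one]

theorem ascuupr5_InA_one {n : ℕ} {F : Type*} [Field F] (F₀ : Subfield F) (P : GL (Fin n) F) :
    ascuupr5_InA F₀ P 1 :=
  ⟨1, by rw [map_one, mul_one, ascuupr5_mul_inv]⟩

theorem ascuupr5_InA_mul {n : ℕ} {F : Type*} [Field F] {F₀ : Subfield F} {P : GL (Fin n) F}
    {X Y : Matrix (Fin n) (Fin n) F} (hX : ascuupr5_InA F₀ P X) (hY : ascuupr5_InA F₀ P Y) :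
    ascuupr5_InA F₀ P (X * Y) := by
  obtain ⟨a, rfl⟩ := hX
  obtain ⟨b, rfl⟩ := hY
  refine ⟨a * b, ?_⟩
  rw [map_mul]
  calc (P : Matrix (Fin n) (Fin n) F) * (F₀.subtype : F₀ →+* F).mapMatrix a *
        ((P⁻¹ : GL (Fin n) F) : Matrix (Fin n) (Fin n) F) *
        ((P : Matrix (Fin n) (Fin n) F) * (F₀.subtype : F₀ →+* F).mapMatrix b *
        ((P⁻¹ : GL (Fin n) F) : Matrix (Fin n) (Fin n) F))
      = (P : Matrix (Fin n) (Fin n) F) * (F₀.subtype : F₀ →+* F).mapMatrix a *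
        (((P⁻¹ : GL (Fin n) F) : Matrix (Fin n) (Fin n) F) * (P : Matrix (Fin n) (Fin n) F)) *
        (F₀.subtype : F₀ →+* F).mapMatrix b *
        ((P⁻¹ : GL (Fin n) F) : Matrix (Fin n) (Fin n) F) := by
        simp only [Matrix.mul_assoc]
    _ = _ := by
        rw [ascuupr5_inv_mul, Matrix.mul_one]
        simp only [Matrix.mul_assoc]

theorem ascuupr5_InA_sub {n : ℕ} {F : Type*} [Field F] {F₀ : Subfield F} {P : GL (Fin n) F}
    {X Y : Matrix (Fin n) (Fin n) F} (hX : ascuupr5_InA F₀ P X) (hY : ascuupr5_InA F₀ P Y) :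
    ascuupr5_InA F₀ P (X - Y) := by
  obtain ⟨a, rfl⟩ := hX
  obtain ⟨b, rfl⟩ := hY
  refine ⟨a - b, ?_⟩
  rw [map_sub, Matrix.mul_sub, Matrix.sub_mul]

/-- ratios of proportional elements of `A` lie in `F₀` -/
theorem ascuupr5_ratio {n : ℕ} {F : Type*} [Field F] {F₀ : Subfield F} {P : GL (Fin n) F}
    {X Y : Matrix (Fin n) (Fin n) F} (hX : ascuupr5_InA F₀ P X) (hY : ascuupr5_InA F₀ P Y)
    (r : F) (h : Y = r • X) (h0 : X ≠ 0) : r ∈ F₀ := by
  obtain ⟨a, rfl⟩ := hX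
  obtain ⟨b, rfl⟩ := hY
  have h1 : (F₀.subtype : F₀ →+* F).mapMatrix b = r • (F₀.subtype : F₀ →+* F).mapMatrix a := by
    have h2 := congrArg (fun Z => ((P⁻¹ : GL (Fin n) F) : Matrix (Fin n) (Fin n) F) * Z *
      (P : Matrix (Fin n) (Fin n) F)) h
    simp only [Matrix.mul_smul, Matrix.smul_mul] at h2
    simp only [Matrix.mul_assoc] at h2
    rw [ascuupr5_inv_mul, Matrix.mul_one, Matrix.mul_one] at h2
    simp only [← Matrix.mul_assoc] at h2
    rw [ascuupr5_inv_mul, Matrix.one_mul, Matrix.one_mul] at h2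
    exact h2
  have ha : a ≠ 0 := by
    rintro rfl
    apply h0
    rw [map_zero, Matrix.mul_zero, Matrix.zero_mul]
  obtain ⟨i, j, hij⟩ : ∃ i j, a i j ≠ 0 := by
    by_contra hcon
    push Not at hcon
    exact ha (Matrix.ext fun i j => by simpa using hcon i j)
  have h3 := congrFun (congrFun h1 i) j
  simp only [RingHom.mapMatrix_apply, Matrix.map_apply, Matrix.smul_apply, smul_eq_mul,
    Subfield.coe_subtype] at h3
  have hne : ((a i j : F₀) : F) ≠ 0 := fun hz => hij (Subtype.ext hz)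
  have : r = ((b i j : F₀) : F) * ((a i j : F₀) : F)⁻¹ := by
    rw [h3, mul_assoc, mul_inv_cancel₀ hne, mul_one]
  rw [this]
  exact F₀.mul_mem (SetLike.coe_mem _) (F₀.inv_mem (SetLike.coe_mem _))

/-- powers of a transvection -/
theorem ascuupr5_tv_pow {n : ℕ} {F : Type*} [Field F] {σ : F ≃+* F}
    {f : (Fin n → F) → (Fin n → F) → F} (hf : IsUnitaryForm σ f) (w u : Fin n → F)
    (h : f w u = 0) (T : Matrix (Fin n) (Fin n) F) (hT : ∀ x, T *ᵥ x = x + f x u • w) (k : ℕ)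
    (x : Fin n → F) : (T ^ k) *ᵥ x = x + ((k : F) * f x u) • w := by
  induction k generalizing x with
  | zero => simp
  | succ k ih =>
    rw [pow_succ, ← Matrix.mulVec_mulVec, hT, ih, hf.add_left, hf.smul_left, h, mul_zero, add_zero,
      Nat.cast_succ, add_assoc, ← add_smul]
    congr 2
    ring


/-- every unitary transvection minus one lies in `A` -/
theorem ascuupr5_N (q : ℕ) (hF : Fintype.card F = q ^ 2) (hn : 3 ≤ n) (F₀ : Subfield F)
    (P : GL (Fin n) F) (hle : SUg n F q ≤ subfieldSubgroup F₀ P) {σ : F ≃+* F}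
    (hf : IsUnitaryForm σ (hermForm n F q)) (y : Fin n → F) (hy : hermForm n F q y y = 0) (c : F)
    (hc : σ c = -c) :
    ∃ N : Matrix (Fin n) (Fin n) F, ascuupr5_InA F₀ P N ∧
      ∀ x, N *ᵥ x = hermForm n F q x (c • y) • y := by
  classical
  have hyc : hermForm n F q y (c • y) = 0 := by
    rw [Cfsg.Agent.Lib.Helper28.UForm.f_smul_right hf, hy, mul_zero]
  obtain ⟨t, htS, ht⟩ := Cfsg.Agent.S5643.tvGL hf y (c • y) hyc
  have hGU : t ∈ GU n F q := by
    rw [mem_GU_iff]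
    intro u v
    exact Cfsg.Agent.S5643.utv_iso hf y hy c hc t ht u v
  have h1 : t ∈ subfieldSubgroup F₀ P := hle ⟨hGU, htS⟩
  unfold subfieldSubgroup at h1
  obtain ⟨m, hm, hmt⟩ := h1
  have hmt' : P * m * P⁻¹ = t := hmt
  have hnorm : (scalars (Fin n) F).Normal := scalars_normal
  rw [SetLike.mem_coe, Subgroup.mem_sup_of_normal_right] at hm
  obtain ⟨g0, hg0, s, hs, hgs⟩ := hm
  obtain ⟨g00, rfl⟩ := hg0
  obtain ⟨cc, hcc⟩ := (mem_scalars_iff s).mp hs
  set M : Matrix (Fin n) (Fin n) F :=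
    (F₀.subtype : F₀ →+* F).mapMatrix (g00 : Matrix (Fin n) (Fin n) F₀) with hM
  have hT : (t : Matrix (Fin n) (Fin n) F) = (P : Matrix (Fin n) (Fin n) F) * ((cc : F) • M) *
      ((P⁻¹ : GL (Fin n) F) : Matrix (Fin n) (Fin n) F) := by
    rw [← hmt', ← hgs, Units.val_mul, Units.val_mul, Units.val_mul, hcc, Matrix.mul_smul,
      Matrix.mul_one]
    rfl
  -- `t ^ |F| = 1`
  have hpow : (t : Matrix (Fin n) (Fin n) F) ^ (Fintype.card F) = 1 := by
    apply Matrix.toLin'.injective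
    apply LinearMap.ext
    intro x
    rw [Matrix.toLin'_apply, Matrix.toLin'_apply,
      ascuupr5_tv_pow hf y (c • y) hyc _ ht (Fintype.card F) x, Nat.cast_card_eq_zero, zero_mul,
      zero_smul, add_zero, Matrix.one_mulVec]
  have hpow2 : ((cc : F) • M) ^ (Fintype.card F) = 1 := by
    have h2 := hpow
    rw [hT, Units.conj_pow] at h2
    have h3 := congrArg (fun Z => ((P⁻¹ : GL (Fin n) F) : Matrix (Fin n) (Fin n) F) * Z *
      (P : Matrix (Fin n) (Fin n) F)) h2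
    simp only [Matrix.mul_assoc, Matrix.one_mul] at h3
    rw [ascuupr5_inv_mul, Matrix.mul_one] at h3
    simp only [← Matrix.mul_assoc] at h3
    rw [ascuupr5_inv_mul, Matrix.one_mul] at h3
    exact h3
  rw [smul_pow, FiniteField.pow_card, hM, ← map_pow] at hpow2
  have i0 : Fin n := ⟨0, by omega⟩
  have h4 := congrFun (congrFun hpow2 i0) i0
  simp only [RingHom.mapMatrix_apply, Matrix.map_apply, Matrix.smul_apply, smul_eq_mul,
    Subfield.coe_subtype, Matrix.one_apply_eq] at h4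
  have hccmem : (cc : F) ∈ F₀ := by
    have h5 : (cc : F) = ((((g00 : Matrix (Fin n) (Fin n) F₀) ^ Fintype.card F) i0 i0 : F₀) : F)⁻¹ :=
      eq_inv_of_mul_eq_one_left h4
    rw [h5]
    exact F₀.inv_mem (SetLike.coe_mem _)
  refine ⟨(t : Matrix (Fin n) (Fin n) F) - 1, ascuupr5_InA_sub ?_ (ascuupr5_InA_one F₀ P), ?_⟩
  · refine ⟨(⟨(cc : F), hccmem⟩ : F₀) • (g00 : Matrix (Fin n) (Fin n) F₀), ?_⟩
    rw [hT]
    congr 2
  · intro x
    rw [Matrix.sub_mulVec, ht, Matrix.one_mulVec, add_sub_cancel_left]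


/-- the triple product: every `ε b` is a ratio of proportional elements of `A` -/
theorem ascuupr5_key {n : ℕ} {F : Type*} [Field F] [Finite F] {F₀ : Subfield F} {P : GL (Fin n) F}
    {σ : F ≃+* F} {f : (Fin n → F) → (Fin n → F) → F} (hf : IsUnitaryForm σ f) (ε : F)
    (hε : σ ε = -ε) (hε0 : ε ≠ 0)
    (supply : ∀ y : Fin n → F, f y y = 0 → ∃ N : Matrix (Fin n) (Fin n) F,
      ascuupr5_InA F₀ P N ∧ ∀ x, N *ᵥ x = f x (ε • y) • y)
    (z z2 w : Fin n → F) (hzz : f z z = 0) (hz2z2 : f z2 z2 = 0) (hz2z : f z2 z = 1)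
    (hwz : f w z = 0) (hwz2 : f w z2 = 0) (hww : f w w = 1) (b : F) : ε * b ∈ F₀ := by
  have fsr := Cfsg.Agent.Lib.Helper28.UForm.f_smul_right hf
  have far := Cfsg.Agent.Lib.Helper28.UForm.f_add_right hf
  have hzz2 : f z z2 = 1 := by rw [hf.herm, hz2z, map_one]
  have hzw : f z w = 0 := by rw [hf.herm, hwz, map_zero]
  have hz2w : f z2 w = 0 := by rw [hf.herm, hwz2, map_zero]
  have hfix : σ (-(b + σ b)) = -(b + σ b) := by
    rw [map_neg, map_add, hf.involutive, add_comm]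
  obtain ⟨c, hc⟩ := Cfsg.Agent.Lib.Helper28.UForm.norm_surj hf (-(b + σ b)) hfix
  set z1 : Fin n → F := z + b • z2 + c • w with hz1def
  have hz1 : f z1 z1 = 0 := by
    rw [hz1def]
    simp only [hf.add_left, hf.smul_left, far, fsr, hzz, hz2z2, hz2z, hwz, hwz2, hww, hzz2, hzw,
      hz2w]
    linear_combination hc
  have hA : f z2 z1 = 1 := by
    rw [hz1def]
    simp only [far, fsr, hz2z2, hz2z, hz2w]
    ring
  have hB : f z1 z = b := by
    rw [hz1def]
    simp only [hf.add_left, hf.smul_left, hzz, hz2z, hwz]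
    ring
  obtain ⟨N1, hN1A, hN1⟩ := supply z hzz
  obtain ⟨N2, hN2A, hN2⟩ := supply z1 hz1
  obtain ⟨N3, hN3A, hN3⟩ := supply z2 hz2z2
  have hX : ∀ x, (N1 * N3) *ᵥ x = (f x (ε • z2) * (-ε)) • z := by
    intro x
    rw [← Matrix.mulVec_mulVec, hN3, Matrix.mulVec_smul, hN1, fsr ε z2 z, hz2z, hε, mul_one,
      smul_smul]
  have hY : ∀ x, (N1 * N2 * N3) *ᵥ x = (f x (ε • z2) * (-ε) * (-ε * b)) • z := by
    intro x
    rw [← Matrix.mulVec_mulVec, hN3, Matrix.mulVec_smul, ← Matrix.mulVec_mulVec, hN2,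
      Matrix.mulVec_smul, hN1, fsr ε z2 z1, hA, fsr ε z1 z, hB, hε, mul_one, smul_smul, smul_smul]
  have hYX : N1 * N2 * N3 = (-ε * b) • (N1 * N3) := by
    apply Matrix.toLin'.injective
    apply LinearMap.ext
    intro x
    rw [Matrix.toLin'_apply, Matrix.toLin'_apply, Matrix.smul_mulVec, hX, hY, smul_smul]
    congr 1
    ring
  have hz0 : z ≠ 0 := by
    rintro rfl
    rw [Cfsg.Agent.Lib.Helper28.UForm.f_zero_right hf] at hz2z
    exact zero_ne_one hz2z
  have hz20 : z2 ≠ 0 := by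
    rintro rfl
    rw [Cfsg.Agent.Lib.Helper28.UForm.f_zero_left hf] at hz2z
    exact zero_ne_one hz2z
  have hX0 : N1 * N3 ≠ 0 := by
    intro h0
    obtain ⟨⟨x, hx⟩, _⟩ := hf.nondegenerate (ε • z2) (smul_ne_zero hε0 hz20)
    have h1 := hX x
    rw [h0, Matrix.zero_mulVec] at h1
    have h2 : f x (ε • z2) * (-ε) ≠ 0 := mul_ne_zero hx (neg_ne_zero.mpr hε0)
    exact (smul_ne_zero h2 hz0) h1.symm
  have h3 := ascuupr5_ratio (ascuupr5_InA_mul hN1A hN3A)
    (ascuupr5_InA_mul (ascuupr5_InA_mul hN1A hN2A) hN3A) (-ε * b) hYX hX0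
  have h4 := F₀.neg_mem h3
  have h5 : -(-ε * b) = ε * b := by ring
  rw [h5] at h4
  exact h4

/-- a hyperbolic pair and an orthogonal unit vector for the standard hermitian form -/
theorem ascuupr5_geom (q : ℕ) (hF : Fintype.card F = q ^ 2) (hn : 3 ≤ n) {σ : F ≃+* F}
    (hf : IsUnitaryForm σ (hermForm n F q)) :
    ∃ z z2 w : Fin n → F, hermForm n F q z z = 0 ∧ hermForm n F q z2 z2 = 0 ∧
      hermForm n F q z2 z = 1 ∧ hermForm n F q w z = 0 ∧ hermForm n F q w z2 = 0 ∧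
      hermForm n F q w w = 1 := by
  classical
  have hq2 := Cfsg.Agent.Lib.Helper28.UHerm.two_le_q hF
  have hq0 : q ≠ 0 := by omega
  have fsr := Cfsg.Agent.Lib.Helper28.UForm.f_smul_right hf
  have far := Cfsg.Agent.Lib.Helper28.UForm.f_add_right hf
  have hee : ∀ i j : Fin n, hermForm n F q (Pi.single i 1) (Pi.single j 1) =
      if i = j then 1 else 0 := by
    intro i j
    unfold Cfsg.hermForm
    rw [Finset.sum_eq_single i]
    · by_cases hij : i = j
      · subst hij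
        simp
      · have : (Pi.single j (1 : F) : Fin n → F) i = 0 := by
          simp [Pi.single_apply, hij]
        simp [this, hij, hq0]
    · intro k _ hki
      simp [hki]
    · intro h
      exact absurd (Finset.mem_univ _) h
  set i0 : Fin n := ⟨0, by omega⟩ with hi0
  set i1 : Fin n := ⟨1, by omega⟩ with hi1
  set i2 : Fin n := ⟨2, by omega⟩ with hi2
  have h01 : i0 ≠ i1 := by
    intro hh
    have := congrArg Fin.val hh
    simp [hi0, hi1] at this
  have h02 : i0 ≠ i2 := by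
    intro hh
    have := congrArg Fin.val hh
    simp [hi0, hi2] at this
  have h12 : i1 ≠ i2 := by
    intro hh
    have := congrArg Fin.val hh
    simp [hi1, hi2] at this
  set e0 : Fin n → F := Pi.single i0 1 with he0
  set e1 : Fin n → F := Pi.single i1 1 with he1
  set e2 : Fin n → F := Pi.single i2 1 with he2
  have e00 : hermForm n F q e0 e0 = 1 := by rw [he0, hee, if_pos rfl]
  have e11 : hermForm n F q e1 e1 = 1 := by rw [he1, hee, if_pos rfl]
  have e22 : hermForm n F q e2 e2 = 1 := by rw [he2, hee, if_pos rfl]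
  have e01 : hermForm n F q e0 e1 = 0 := by rw [he0, he1, hee, if_neg h01]
  have e10 : hermForm n F q e1 e0 = 0 := by rw [he0, he1, hee, if_neg h01.symm]
  have e02 : hermForm n F q e0 e2 = 0 := by rw [he0, he2, hee, if_neg h02]
  have e20 : hermForm n F q e2 e0 = 0 := by rw [he0, he2, hee, if_neg h02.symm]
  have e12 : hermForm n F q e1 e2 = 0 := by rw [he1, he2, hee, if_neg h12]
  have e21 : hermForm n F q e2 e1 = 0 := by rw [he1, he2, hee, if_neg h12.symm]
  have hm1 : σ (-1) = -1 := by rw [map_neg, map_one]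
  obtain ⟨ζ, hζ⟩ := Cfsg.Agent.Lib.Helper28.UForm.norm_surj hf (-1) hm1
  obtain ⟨a, ha⟩ := Cfsg.Agent.Lib.Helper28.UForm.trace_surj hf (-1) hm1
  refine ⟨e0 + ζ • e1, e0 + a • (e0 + ζ • e1), e2, ?_, ?_, ?_, ?_, ?_, ?_⟩
  · simp only [hf.add_left, hf.smul_left, far, fsr, e00, e11, e22, e01, e10, e02, e20, e12, e21]
    linear_combination hζ
  · simp only [hf.add_left, hf.smul_left, far, fsr, e00, e11, e22, e01, e10, e02, e20, e12, e21]
    linear_combination ha + (a * σ a) * hζ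
  · simp only [hf.add_left, hf.smul_left, far, fsr, e00, e11, e22, e01, e10, e02, e20, e12, e21]
    linear_combination a * hζ
  · simp only [hf.add_left, hf.smul_left, far, fsr, e00, e11, e22, e01, e10, e02, e20, e12, e21]
    ring
  · simp only [hf.add_left, hf.smul_left, far, fsr, e00, e11, e22, e01, e10, e02, e20, e12, e21]
    ring
  · exact e22

/-- UPR5 -/
theorem upr_subfield (q : ℕ) (hF : Fintype.card F = q ^ 2) (hn : 3 ≤ n) (F₀ : Subfield F) (h : F₀ ≠ ⊤)
    (P : GL (Fin n) F) : ¬ SUg n F q ≤ subfieldSubgroup F₀ P := by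
  intro hle
  obtain ⟨σ, hσ, hf⟩ := Cfsg.Agent.Lib.Helper28.UHerm.herm_unitary hF n
  obtain ⟨ε, hε0, hε⟩ := Cfsg.Agent.Lib.Helper28.UForm.exists_K0 hf
  obtain ⟨z, z2, w, hzz, hz2z2, hz2z, hwz, hwz2, hww⟩ := ascuupr5_geom q hF hn hf
  apply h
  rw [eq_top_iff]
  intro x _
  have h1 := ascuupr5_key hf ε hε hε0
    (fun y hy => ascuupr5_N q hF hn F₀ P hle hf y hy ε hε) z z2 w hzz hz2z2 hz2z hwz hwz2 hww
    (ε⁻¹ * x)
  rw [← mul_assoc, mul_inv_cancel₀ hε0, one_mul] at h1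
  exact h1

end Cfsg.Agent.Lib.Lead.ASCU
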