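import Mathlib
import Cfsg.Prelude.Def_GeometricClasses
import Cfsg.Agent.Lib.Helper27.ASC.Defs
import Cfsg.Agent.Lib.Helper19.ASG.Defs
import Cfsg.Agent.Lib.Helper26.ASGD1.Defs
import Cfsg.Agent.Lib.Helper16.ASCOH90
import Cfsg.Agent.Lib.helper4.ASCSUBF1

/-!
# Project ASG, block D1, piece DESC : cyclic Galois descent over a finite field

`S` a set of matrices with scalar centraliser, `M` invertible with `M s^(q₀) = s M` for all `s ∈ S`
(`s^(q₀)` = entrywise `q₀`-th power, `q₀ = |F₀|`).  Then `S` is realisable over `F₀`.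

`φ v = M v^(q₀)` is `q₀`-semilinear and commutes with `S`; `φ^ℓ` (`|F| = q₀^ℓ`) is linear and commutes with `S`, so it is a
scalar `c`, fixed by Frobenius; the norm is onto: `μ^(1 + q₀ + ⋯ + q₀^(ℓ-1)) = c⁻¹`; `ψ = μ φ` has `ψ^ℓ = 1`; the fixed points
of `ψ` span (Dedekind independence of the powers of Frobenius); a basis of fixed points realises `S` over `F₀`.
-/

set_option autoImplicit false
set_option linter.unusedVariables false
set_option linter.unusedSectionVars false
set_option linter.unusedSimpArgs false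

namespace Cfsg.Agent.Lib.Helper19.ASG

open Cfsg Cfsg.Geo Cfsg.Agent.Lib.Helper27.ASC
open scoped MatrixGroups Matrix

variable {n : ℕ} {F : Type*} [Field F] [Fintype F]

section iterates

variable {V : Type*} [AddCommGroup V] [Module F V]

theorem asgd1desc_it_add (ψ : V → V) (h : ∀ u v, ψ (u + v) = ψ u + ψ v) (j : ℕ) (u v : V) :
    ψ^[j] (u + v) = ψ^[j] u + ψ^[j] v := by
  induction j generalizing u v with
  | zero => rfl
  | succ j ih => rw [Function.iterate_succ_apply, Function.iterate_succ_apply, Function.iterate_succ_apply, h, ih]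

theorem asgd1desc_zero (ψ : V → V) (h : ∀ u v, ψ (u + v) = ψ u + ψ v) : ψ 0 = 0 := by
  have := h 0 0
  rw [add_zero] at this
  exact left_eq_add.mp this

theorem asgd1desc_it_sum (ψ : V → V) (h : ∀ u v, ψ (u + v) = ψ u + ψ v) {ι : Type*} (t : Finset ι) (g : ι → V) :
    ψ (∑ i ∈ t, g i) = ∑ i ∈ t, ψ (g i) := by
  classical
  induction t using Finset.induction_on with
  | empty => simpa using asgd1desc_zero ψ h
  | insert a t ha ih => rw [Finset.sum_insert ha, Finset.sum_insert ha, h, ih]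

theorem asgd1desc_it_smul (ψ : V → V) (q : ℕ) (h : ∀ (a : F) (v : V), ψ (a • v) = (a ^ q) • ψ v) (j : ℕ) (a : F) (v : V) :
    ψ^[j] (a • v) = (a ^ (q ^ j)) • ψ^[j] v := by
  induction j generalizing a v with
  | zero => simp
  | succ j ih =>
    rw [Function.iterate_succ_apply, Function.iterate_succ_apply, h, ih, ← pow_mul, pow_succ' q j]

theorem asgd1desc_it_inj (ψ : V → V) (h : ∀ v, ψ v = 0 → v = 0) (j : ℕ) (v : V) (hv : ψ^[j] v = 0) : v = 0 := by
  induction j generalizing v with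
  | zero => exact hv
  | succ j ih =>
    rw [Function.iterate_succ_apply] at hv
    exact h v (ih _ hv)

end iterates

theorem asgd1desc_it_comm (ψ : (Fin n → F) → (Fin n → F)) (s : Matrix (Fin n) (Fin n) F)
    (h : ∀ v, ψ (s *ᵥ v) = s *ᵥ ψ v) (j : ℕ) (v : Fin n → F) : ψ^[j] (s *ᵥ v) = s *ᵥ ψ^[j] v := by
  induction j generalizing v with
  | zero => rfl
  | succ j ih => rw [Function.iterate_succ_apply, Function.iterate_succ_apply, h, ih]

/-- the geometric sum identity in `ℕ` -/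
theorem asgd1desc_geom (q ℓ : ℕ) (hq : 1 ≤ q) : (∑ j ∈ Finset.range ℓ, q ^ j) * (q - 1) = q ^ ℓ - 1 := by
  have h1 : 1 ≤ q ^ ℓ := Nat.one_le_pow _ _ hq
  zify [hq, h1]
  exact geom_sum_mul (q : ℤ) ℓ

/-- Dedekind: the maps `a ↦ a ^ (q₀ ^ j)`, `j < [F : F₀]`, are linearly independent -/
theorem asgd1desc_dedekind (F₀ : Subfield F) (c : ℕ → F)
    (h : ∀ a : F, ∑ j ∈ Finset.range (Module.finrank F₀ F), c j * a ^ (Nat.card F₀ ^ j) = 0) :
    ∀ j < Module.finrank F₀ F, c j = 0 := by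
  classical
  let _ : Fintype F₀ := Fintype.ofFinite F₀
  have hq : Fintype.card F₀ = Nat.card F₀ := Nat.card_eq_fintype_card.symm
  set ℓ := Module.finrank F₀ F with hℓ
  let g : Fin ℓ → (F →* F) := fun j => powMonoidHom (Nat.card F₀ ^ (j : ℕ))
  have hg : Function.Injective g := by
    intro j₁ j₂ h12
    have hb := (FiniteField.bijective_frobeniusAlgHom_pow F₀ F).1
    apply hb
    apply AlgHom.ext
    intro x
    have := DFunLike.congr_fun h12 x
    simp only [g, powMonoidHom_apply] at this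
    simp only [AlgHom.coe_pow, FiniteField.coe_frobeniusAlgHom, pow_iterate, hq]
    exact this
  have hli : LinearIndependent F (fun j : Fin ℓ => (⇑(g j) : F → F)) :=
    (linearIndependent_monoidHom F F).comp g hg
  rw [Fintype.linearIndependent_iff] at hli
  intro j hj
  have := hli (fun j => c j) (by
    funext a
    have := h a
    rw [← Fin.sum_univ_eq_sum_range (fun j => c j * a ^ (Nat.card F₀ ^ j)) ℓ] at this
    simpa [g] using this) ⟨j, hj⟩
  exact this

/-- D1-DESC -/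
theorem d1_descent (F₀ : Subfield F) (S : Set (Matrix (Fin n) (Fin n) F))
    (hS : ∀ M : Matrix (Fin n) (Fin n) F, (∀ s ∈ S, M * s = s * M) → ∃ c : F, M = c • (1 : Matrix (Fin n) (Fin n) F))
    (M : GL (Fin n) F)
    (hM : ∀ s ∈ S, (M : Matrix (Fin n) (Fin n) F) * s.map (fun a => a ^ Nat.card F₀) =
      s * (M : Matrix (Fin n) (Fin n) F)) :
    RealisableOver F₀ S := by
  classical
  rcases Nat.eq_zero_or_pos n with rfl | hn
  · exact ⟨1, fun s _ i => i.elim0⟩
  let _ : Fintype F₀ := Fintype.ofFinite F₀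
  obtain ⟨q₀, hq₀⟩ : ∃ q₀ : ℕ, q₀ = Nat.card F₀ := ⟨_, rfl⟩
  have hq₀' : Fintype.card F₀ = q₀ := by rw [hq₀, Nat.card_eq_fintype_card]
  have hq₀2 : 2 ≤ q₀ := by
    rw [← hq₀']
    exact Fintype.one_lt_card
  rw [← hq₀] at hM
  obtain ⟨τ, hτ⟩ : ∃ τ : F →+* F, ∀ x, τ x = x ^ q₀ :=
    ⟨(FiniteField.frobeniusAlgHom F₀ F).toRingHom, fun x => by
      simp [FiniteField.coe_frobeniusAlgHom, hq₀']⟩
  have hmapτ : ∀ X : Matrix (Fin n) (Fin n) F, X.map (fun a => a ^ q₀) = X.map τ := by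
    intro X
    ext i j
    simp [hτ]
  obtain ⟨ℓ, hℓdef⟩ : ∃ ℓ : ℕ, ℓ = Module.finrank F₀ F := ⟨_, rfl⟩
  have hℓ : 0 < ℓ := hℓdef ▸ Module.finrank_pos
  have hcard : Fintype.card F = q₀ ^ ℓ := by
    rw [hℓdef, Module.card_eq_pow_finrank (K := F₀) (V := F), hq₀']
  have hpowℓ : ∀ a : F, a ^ (q₀ ^ ℓ) = a := fun a => by
    rw [← hcard]
    exact FiniteField.pow_card a
  have hbar : ∀ (X : Matrix (Fin n) (Fin n) F) (v : Fin n → F),
      (fun j => τ ((X *ᵥ v) j)) = X.map τ *ᵥ (fun j => τ (v j)) := by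
    intro X v
    ext j
    exact RingHom.map_mulVec τ X v j
  -- semilinear maps `v ↦ A v^(q₀)`
  have key : ∀ A : Matrix (Fin n) (Fin n) F, IsUnit A.det → (∀ s ∈ S, A * s.map τ = s * A) →
      ∃ ψ : (Fin n → F) → (Fin n → F), (ψ = fun v => A *ᵥ (fun j => τ (v j))) ∧
        (∀ u v, ψ (u + v) = ψ u + ψ v) ∧ (∀ (a : F) (v : Fin n → F), ψ (a • v) = (a ^ q₀) • ψ v) ∧
        (∀ s ∈ S, ∀ v, ψ (s *ᵥ v) = s *ᵥ ψ v) ∧ (∀ v, ψ v = 0 → v = 0) := by
    intro A hA hAs
    refine ⟨_, rfl, ?_, ?_, ?_, ?_⟩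
    · intro u v
      rw [← Matrix.mulVec_add]
      congr 1
      ext j
      simp
    · intro a v
      rw [← Matrix.mulVec_smul]
      congr 1
      ext j
      simp [hτ, mul_pow]
    · intro s hs v
      rw [hbar, Matrix.mulVec_mulVec, hAs s hs, ← Matrix.mulVec_mulVec]
    · intro v hv
      have h1 : (fun j => τ (v j)) = 0 := by
        have := congrArg (fun w => A⁻¹ *ᵥ w) hv
        simp only [Matrix.mulVec_mulVec, Matrix.nonsing_inv_mul A hA, Matrix.one_mulVec,
          Matrix.mulVec_zero] at this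
        exact this
      ext j
      have := congrFun h1 j
      simp only [Pi.zero_apply] at this ⊢
      exact (map_eq_zero τ).mp this
  have hMdet : IsUnit (M : Matrix (Fin n) (Fin n) F).det := by
    have := (Matrix.isUnit_iff_isUnit_det (M : Matrix (Fin n) (Fin n) F)).mp ⟨M, rfl⟩
    exact this
  have hM' : ∀ s ∈ S, (M : Matrix (Fin n) (Fin n) F) * s.map τ = s * (M : Matrix (Fin n) (Fin n) F) := by
    intro s hs
    rw [← hmapτ]
    exact hM s hs
  obtain ⟨φ, hφ, hφadd, hφsmul, hφS, hφinj⟩ := key _ hMdet hM'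
  -- `φ^ℓ` is a scalar
  obtain ⟨c, hc⟩ : ∃ c : F, ∀ v, φ^[ℓ] v = c • v := by
    let L : (Fin n → F) →ₗ[F] (Fin n → F) :=
      { toFun := φ^[ℓ]
        map_add' := asgd1desc_it_add φ hφadd ℓ
        map_smul' := by
          intro a v
          rw [asgd1desc_it_smul φ q₀ hφsmul ℓ a v, hpowℓ]
          rfl }
    have hL : ∀ v, (LinearMap.toMatrix' L) *ᵥ v = φ^[ℓ] v := by
      intro v
      rw [← Matrix.toLin'_apply, Matrix.toLin'_toMatrix']
      rfl
    obtain ⟨c, hc⟩ := hS (LinearMap.toMatrix' L) (by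
      intro s hs
      apply Matrix.toLin'.injective
      apply LinearMap.ext
      intro v
      rw [Matrix.toLin'_apply, Matrix.toLin'_apply, ← Matrix.mulVec_mulVec, ← Matrix.mulVec_mulVec, hL, hL,
        asgd1desc_it_comm φ s (hφS s hs) ℓ v])
    refine ⟨c, fun v => ?_⟩
    rw [← hL, hc, Matrix.smul_mulVec, Matrix.one_mulVec]
  set v0 : Fin n → F := Pi.single ⟨0, hn⟩ 1 with hv0
  have hv0ne : v0 ≠ 0 := by
    intro h
    have := congrFun h ⟨0, hn⟩
    simp [hv0] at this
  have hc0 : c ≠ 0 := by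
    rintro rfl
    apply hv0ne
    apply asgd1desc_it_inj φ hφinj ℓ v0
    rw [hc, zero_smul]
  have hcq : c ^ q₀ = c := by
    have h1 : φ (φ^[ℓ] v0) = φ^[ℓ] (φ v0) := by
      rw [← Function.iterate_succ_apply' φ ℓ v0, Function.iterate_succ_apply]
    rw [hc, hc, hφsmul] at h1
    have h2 : (c ^ q₀ - c) • φ v0 = 0 := by rw [sub_smul, h1, sub_self]
    rcases smul_eq_zero.mp h2 with h3 | h3
    · exact sub_eq_zero.mp h3
    · exact absurd (hφinj v0 h3) hv0ne
  -- norm
  obtain ⟨T, hT⟩ : ∃ T : ℕ, T = ∑ j ∈ Finset.range ℓ, q₀ ^ j := ⟨_, rfl⟩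
  have hTgeom : T * (q₀ - 1) = q₀ ^ ℓ - 1 := by
    rw [hT]
    exact asgd1desc_geom q₀ ℓ (by omega)
  obtain ⟨μ, hμ0, hμ⟩ : ∃ μ : F, μ ≠ 0 ∧ μ ^ T * c = 1 := by
    have hcardu : Nat.card Fˣ = T * (q₀ - 1) := by
      rw [Nat.card_eq_fintype_card, Fintype.card_units, hcard, hTgeom]
    have hu : (Units.mk0 c hc0)⁻¹ ^ (q₀ - 1) = 1 := by
      rw [inv_pow, inv_eq_one]
      apply Units.ext
      rw [Units.val_pow_eq_pow_val, Units.val_mk0, Units.val_one]
      have h1 : c ^ (q₀ - 1) * c = c := by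
        rw [← pow_succ, Nat.sub_add_cancel (by omega), hcq]
      exact mul_right_cancel₀ hc0 (h1.trans (one_mul c).symm)
    obtain ⟨w, hw⟩ := Cfsg.Agent.Lib.helper23.ASCO.ascoh90_pow_of_pow_eq_one T (q₀ - 1) (by omega) hcardu _ hu
    refine ⟨(w : F), w.ne_zero, ?_⟩
    have := congrArg (fun u : Fˣ => (u : F)) hw
    simp only [Units.val_pow_eq_pow_val, Units.val_inv_eq_inv_val, Units.val_mk0] at this
    rw [this, inv_mul_cancel₀ hc0]
  -- the normalised semilinear map
  have hA'det : IsUnit (μ • (M : Matrix (Fin n) (Fin n) F)).det := by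
    rw [Matrix.det_smul]
    exact (isUnit_iff_ne_zero.mpr (pow_ne_zero _ hμ0)).mul hMdet
  have hA's : ∀ s ∈ S, (μ • (M : Matrix (Fin n) (Fin n) F)) * s.map τ = s * (μ • (M : Matrix (Fin n) (Fin n) F)) := by
    intro s hs
    rw [Matrix.smul_mul, hM' s hs, Matrix.mul_smul]
  obtain ⟨ψ, hψ, hψadd, hψsmul, hψS, hψinj⟩ := key _ hA'det hA's
  have hψφ : ∀ v, ψ v = μ • φ v := by
    intro v
    rw [hψ, hφ]
    simp only
    rw [Matrix.smul_mulVec]
  have hψit : ∀ j v, ψ^[j] v = (μ ^ (∑ i ∈ Finset.range j, q₀ ^ i)) • φ^[j] v := by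
    intro j
    induction j with
    | zero => intro v; simp
    | succ j ih =>
      intro v
      rw [Function.iterate_succ_apply, ih, hψφ, asgd1desc_it_smul φ q₀ hφsmul j μ (φ v), smul_smul,
        ← pow_add, ← Finset.sum_range_succ, ← Function.iterate_succ_apply]
  have hψℓ : ∀ v, ψ^[ℓ] v = v := by
    intro v
    rw [hψit, ← hT, hc, smul_smul, hμ, one_smul]
  -- fixed points span
  have hspan : Submodule.span F {w : Fin n → F | ψ w = w} = ⊤ := by
    by_contra hne
    obtain ⟨f, hf0, hfker⟩ := Submodule.exists_le_ker_of_lt_top _ (lt_top_iff_ne_top.mpr hne)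
    apply hf0
    apply LinearMap.ext
    intro v
    have hfix : ∀ a : F, ψ (∑ j ∈ Finset.range ℓ, ψ^[j] (a • v)) = ∑ j ∈ Finset.range ℓ, ψ^[j] (a • v) := by
      intro a
      rw [asgd1desc_it_sum ψ hψadd]
      have h1 : ∀ j, ψ (ψ^[j] (a • v)) = ψ^[j + 1] (a • v) := fun j =>
        (Function.iterate_succ_apply' ψ j (a • v)).symm
      simp only [h1]
      have h2 := Finset.sum_range_succ (fun j => ψ^[j] (a • v)) ℓ
      have h3 := Finset.sum_range_succ' (fun j => ψ^[j] (a • v)) ℓ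
      rw [h3] at h2
      simp only [Function.iterate_zero, id_eq, hψℓ] at h2
      exact add_right_cancel h2
    have hzero : ∀ a : F, ∑ j ∈ Finset.range (Module.finrank F₀ F), f (ψ^[j] v) * a ^ (Nat.card F₀ ^ j) = 0 := by
      intro a
      rw [← hℓdef, ← hq₀]
      have h1 : f (∑ j ∈ Finset.range ℓ, ψ^[j] (a • v)) = 0 := by
        have := hfker (Submodule.subset_span (hfix a))
        exact LinearMap.mem_ker.mp this
      rw [map_sum] at h1
      rw [← h1]
      apply Finset.sum_congr rfl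
      intro j _
      rw [asgd1desc_it_smul ψ q₀ hψsmul j a v, map_smul, smul_eq_mul, mul_comm]
    have := asgd1desc_dedekind F₀ (fun j => f (ψ^[j] v)) hzero 0 (hℓdef ▸ hℓ)
    simpa using this
  -- a basis of fixed points
  obtain ⟨b, hbsub, hbspan, hbli⟩ := exists_linearIndependent F {w : Fin n → F | ψ w = w}
  have hbtop : ⊤ ≤ Submodule.span F (Set.range ((↑) : b → (Fin n → F))) := by
    rw [Subtype.range_coe, hbspan, hspan]
  let Bb : Module.Basis b F (Fin n → F) := Module.Basis.mk hbli hbtop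
  let e : Fin n ≃ b := (Pi.basisFun F (Fin n)).indexEquiv Bb
  obtain ⟨A', hA'⟩ : ∃ A' : Matrix (Fin n) (Fin n) F, A' = μ • (M : Matrix (Fin n) (Fin n) F) := ⟨_, rfl⟩
  rw [← hA'] at hA's hψ
  set W : Matrix (Fin n) (Fin n) F := Matrix.of (fun i j => ((e j : b) : Fin n → F) i) with hW
  have hWcol : W.col = fun j => ((e j : b) : Fin n → F) := by
    ext j i
    rfl
  have hWu : IsUnit W := by
    rw [← Matrix.linearIndependent_cols_iff_isUnit, hWcol]
    exact hbli.comp e e.injective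
  have hWdet : IsUnit W.det := (Matrix.isUnit_iff_isUnit_det W).mp hWu
  have hMW : A' * W.map τ = W := by
    ext i j
    have h1 : ψ ((e j : b) : Fin n → F) = ((e j : b) : Fin n → F) := hbsub (e j).2
    have h2 := congrFun h1 i
    rw [hψ] at h2
    simp only at h2
    have hWij : ∀ i j, W i j = ((e j : b) : Fin n → F) i := fun i j => rfl
    rw [hWij, ← h2, Matrix.mul_apply]
    simp only [Matrix.mulVec, dotProduct, Matrix.map_apply, hWij]
  -- the change of basis
  refine ⟨(Matrix.GeneralLinearGroup.mk'' W hWdet)⁻¹, ?_⟩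
  intro s hs i j
  have hB1 : (((Matrix.GeneralLinearGroup.mk'' W hWdet)⁻¹ : GL (Fin n) F) : Matrix (Fin n) (Fin n) F) = W⁻¹ := by
    rw [Matrix.coe_units_inv]
    rfl
  have hB2 : ((((Matrix.GeneralLinearGroup.mk'' W hWdet)⁻¹)⁻¹ : GL (Fin n) F) : Matrix (Fin n) (Fin n) F) = W := by
    rw [inv_inv]
    rfl
  rw [hB1, hB2]
  obtain ⟨A, hA⟩ : ∃ A : Matrix (Fin n) (Fin n) F, A = W⁻¹ * s * W := ⟨_, rfl⟩
  rw [← hA]
  have hWA : W * A = s * W := by
    rw [hA, ← Matrix.mul_assoc, ← Matrix.mul_assoc, Matrix.mul_nonsing_inv W hWdet, Matrix.one_mul]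
  have hkey : W * A.map τ = W * A := by
    calc W * A.map τ = A' * (W.map τ * A.map τ) := by
          rw [← Matrix.mul_assoc, hMW]
      _ = A' * ((W * A).map τ) := by rw [Matrix.map_mul]
      _ = A' * (s.map τ * W.map τ) := by rw [hWA, Matrix.map_mul]
      _ = s * (A' * W.map τ) := by rw [← Matrix.mul_assoc, hA's s hs, Matrix.mul_assoc]
      _ = W * A := by rw [hMW, hWA]
  have hAA : A.map τ = A := by
    have := congrArg (fun Z => W⁻¹ * Z) hkey
    simp only [← Matrix.mul_assoc] at this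
    rw [Matrix.nonsing_inv_mul W hWdet, Matrix.one_mul, Matrix.one_mul] at this
    exact this
  have h1 := congrFun (congrFun hAA i) j
  simp only [Matrix.map_apply, hτ] at h1
  apply Cfsg.Agent.Lib.Helper27.ASC.ascsubf1_mem_of_pow F₀
  rw [← hq₀]
  exact h1

end Cfsg.Agent.Lib.Helper19.ASG
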