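import Mathlib
import Cfsg.Prelude.Def_GeometricClasses
import Cfsg.Agent.Lib.Helper27.ASC.Defs
import Cfsg.Agent.Lib.Helper19.ASG.Defs
import Cfsg.Agent.Lib.Helper26.ASGD1.Defs
import Cfsg.Agent.Lib.Helper26.ASGD1DESC
import Cfsg.Agent.Lib.Helper11.ASGD1UNIQ

/-!
# Project ASG, block D1, piece REAL : `R` is realisable over every subfield containing the `k`-th roots of unity

`ρ x = x^(q₀)` (entrywise Frobenius over `F₀`) is a second representation of `R` agreeing with the identity on the scalars of `R`;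
`d1_uniq` gives the intertwiner, `d1_descent` the rational structure.
-/

set_option autoImplicit false
set_option linter.unusedVariables false
set_option linter.unusedSectionVars false
set_option linter.unusedSimpArgs false

namespace Cfsg.Agent.Lib.Helper19.ASG

open Cfsg Cfsg.Geo Cfsg.Agent.Lib.Helper27.ASC
open scoped MatrixGroups Matrix

variable {n : ℕ} {F : Type*} [Field F] [Fintype F]

/-- D1-REAL -/
theorem d1_real {r k : ℕ} {R : Subgroup (GL (Fin n) F)} (hR : D1Core r k R) (F₀ : Subfield F)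
    (h : ∀ c : Fˣ, c ^ k = 1 → (c : F) ∈ F₀) : RealisableOver F₀ (matrixSet R) := by
  classical
  rcases Nat.eq_zero_or_pos n with rfl | hn
  · exact ⟨1, fun s _ i => i.elim0⟩
  let _ : Fintype F₀ := Fintype.ofFinite F₀
  obtain ⟨q₀, hq₀⟩ : ∃ q₀ : ℕ, q₀ = Nat.card F₀ := ⟨_, rfl⟩
  have hq₀' : Fintype.card F₀ = q₀ := by rw [hq₀, Nat.card_eq_fintype_card]
  obtain ⟨τ, hτ⟩ : ∃ τ : F →+* F, ∀ x, τ x = x ^ q₀ :=
    ⟨(FiniteField.frobeniusAlgHom F₀ F).toRingHom, fun x => by
      simp [FiniteField.coe_frobeniusAlgHom, hq₀']⟩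
  have hfix : ∀ a : F, a ∈ F₀ → a ^ q₀ = a := by
    intro a ha
    have h1 : (⟨a, ha⟩ : F₀) ^ Fintype.card F₀ = ⟨a, ha⟩ := FiniteField.pow_card _
    have h2 := congrArg (fun x : F₀ => (x : F)) h1
    push_cast at h2
    rw [← hq₀']
    exact h2
  let ρ : R →* GL (Fin n) F := (Matrix.GeneralLinearGroup.map τ).comp R.subtype
  have hρ : ∀ x : R, (x : GL (Fin n) F) ∈ scalars (Fin n) F → ρ x = x := by
    intro x hx
    obtain ⟨c, hc⟩ := (mem_scalars_iff_d1scal _).mp hx
    have hck : c ^ k = 1 := by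
      apply d1scal_injective hn
      rw [d1scal_pow, ← hc, hR.pow _ x.2, d1scal_one]
    have hcF := hfix _ (h c hck)
    apply Units.ext
    ext i j
    simp only [ρ, MonoidHom.comp_apply, Subgroup.coe_subtype, Matrix.GeneralLinearGroup.map_apply]
    rw [hc, d1scal_coe]
    by_cases hij : i = j
    · subst hij
      simp [hτ, hcF]
    · simp [hij]
  obtain ⟨T, hT⟩ := d1_uniq hR.absIrr hR.comm ρ hρ
  refine d1_descent F₀ (matrixSet R) hR.absIrr.2 T⁻¹ ?_
  rintro s ⟨x, hx, rfl⟩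
  have h1 := hT ⟨x, hx⟩
  have h2 : T⁻¹ * ρ ⟨x, hx⟩ = x * T⁻¹ := by
    have : ρ ⟨x, hx⟩ = T * x * T⁻¹ := by
      rw [← h1, mul_assoc, mul_inv_cancel, mul_one]
    rw [this]
    group
  have h3 := congrArg (fun g : GL (Fin n) F => (g : Matrix (Fin n) (Fin n) F)) h2
  simp only [Units.val_mul] at h3
  rw [← h3, ← hq₀]
  congr 1
  ext i j
  simp [ρ, hτ]

end Cfsg.Agent.Lib.Helper19.ASG
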