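import Mathlib
import Cfsg.Prelude.Def_GeometricClasses
import Cfsg.Agent.Lib.Helper27.ASC.Defs
import Cfsg.Agent.Lib.Helper19.ASG.Defs
import Cfsg.Agent.Lib.Helper26.ASGD1.Defs
import Cfsg.Agent.Lib.helper4.ASCES6
import Cfsg.Agent.Lib.Helper18.ASCFORMS
import Cfsg.Agent.Lib.helper4.ASCSUBF1
import Cfsg.Agent.Lib.Helper10.ASCSUBF2
import Cfsg.Agent.Lib.helper8.ASCSUBF3
import Cfsg.Agent.Lib.Helper19.ASGD1GRP
import Cfsg.Agent.Lib.Helper9.ASGD1CYC
import Cfsg.Agent.Lib.Helper9.ASGD1CORE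
import Cfsg.Agent.Lib.helper23.ASGD1NSUP
import Cfsg.Agent.Lib.helper23.ASGD1ORDER
import Cfsg.Agent.Lib.helper23.ASGD1CENT
import Cfsg.Agent.Lib.helper23.ASGD1EXP
import Cfsg.Agent.Lib.helper23.ASGD1ARITH
import Cfsg.Agent.Lib.Helper26.ASGD1REAL
import Cfsg.Agent.Lib.Helper11.ASGD1UNITG
import Cfsg.Agent.Lib.Helper24.ASGD1BILG
import Cfsg.Agent.Lib.Helper24.ASGD1FIELD4

/-!
# Project ASG, block D1 : assembly of `nilp_case` (helper26)
-/

set_option autoImplicit false
set_option linter.unusedVariables false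
set_option linter.unusedSectionVars false

namespace Cfsg.Agent.Lib.Helper19.ASG

open Cfsg Cfsg.Geo Cfsg.Agent.Lib.Helper27.ASC
open scoped MatrixGroups Matrix

variable {n : ℕ} {F : Type*} [Field F] [Fintype F]

/-! ## Assembly -/

/-- an element of order 2 in `Fˣ` forces odd characteristic -/
theorem asgd1main_odd_card (ω : Fˣ) (hω1 : ω ≠ 1) (hω2 : ω ^ 2 = 1) : Odd (Fintype.card F) := by
  rw [← Nat.not_even_iff_odd]
  intro he
  have h2 : ringChar F = 2 := by
    rw [FiniteField.even_card_iff_char_two]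
    exact Nat.even_iff.mp he
  have : CharP F 2 := by
    have := ringChar.charP F
    rwa [h2] at this
  apply hω1
  have h1 : ((ω : F) - 1) ^ 2 = 0 := by
    have h3 : (ω : F) ^ 2 = 1 := by
      have := congrArg (fun u : Fˣ => (u : F)) hω2
      simpa using this
    have h4 : (2 : F) = 0 := CharTwo.two_eq_zero
    calc ((ω : F) - 1) ^ 2 = (ω : F) ^ 2 - 2 * (ω : F) + 1 := by ring
      _ = 0 := by rw [h3, h4]; ring_nf; exact CharTwo.two_eq_zero
  have h5 : (ω : F) - 1 = 0 := by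
    exact pow_eq_zero_iff (two_ne_zero) |>.mp h1
  apply Units.ext
  simpa [sub_eq_zero] using h5

/-- the number of `k`-th roots of unity when a primitive one exists -/
theorem asgd1main_card_roots (k : ℕ) (hk : 0 < k) (ζ : Fˣ) (hζ : orderOf ζ = k) :
    Nat.card (rootsOfUnity k F) = k := by
  have : NeZero k := ⟨hk.ne'⟩
  have h1 : IsPrimitiveRoot ζ k := hζ ▸ IsPrimitiveRoot.orderOf ζ
  have h2 : IsPrimitiveRoot (ζ : F) k := IsPrimitiveRoot.coe_units_iff.mpr h1
  exact h2.card_rootsOfUnity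

/-- every `k`-th root of unity is a power of a primitive one -/
theorem asgd1main_pow_of_root (k : ℕ) (hk : 0 < k) (ζ : Fˣ) (hζ : orderOf ζ = k) (c : Fˣ) (hc : c ^ k = 1) :
    ∃ j : ℕ, c = ζ ^ j := by
  have : NeZero k := ⟨hk.ne'⟩
  have h1 : IsPrimitiveRoot ζ k := hζ ▸ IsPrimitiveRoot.orderOf ζ
  have h2 : IsPrimitiveRoot (ζ : F) k := IsPrimitiveRoot.coe_units_iff.mpr h1
  have hc' : (c : F) ^ k = 1 := by
    have := congrArg (fun u : Fˣ => (u : F)) hc
    simpa using this
  obtain ⟨j, -, hj⟩ := h2.eq_pow_of_pow_eq_one hc'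
  refine ⟨j, Units.ext ?_⟩
  rw [Units.val_pow_eq_pow_val]
  exact hj.symm

/-- D1 -/
theorem nilp_case (hn : 3 ≤ n) {H N : Subgroup (GL (Fin n) F)} (hH : Irr H) (hD : AllNormalAbsIrr H)
    (hN : MinNonscalar N H) (hab : ⁅N, N⁆ ≤ scalars (Fin n) F) : InClass H := by
  have hn2 : 2 ≤ n := by omega
  have hA : AbsIrr N := (hD N hN.1).resolve_left hN.2.1
  have hnc := d1_nonab hn2 hA
  obtain ⟨r, hr, hel⟩ := d1_elab hN hab
  obtain ⟨ω, hω1, hωr⟩ := d1_root hnc hab hel
  have hpow := d1_pow hN hnc hab hr hel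
  obtain ⟨R, hR, hRH, hRN⟩ := d1_core hN.1 hA hab hr hel hpow
  obtain ⟨hRsup, hHR⟩ := d1_normalIn_sup hRH
  have hHle : H ≤ H ⊔ R := le_sup_left
  -- class 5
  have hsub : ∀ F₀ : Subfield F, F₀ ≠ ⊤ → RealisableOver F₀ (matrixSet R) → InClass H := by
    intro F₀ h0 hreal
    obtain ⟨B, hB⟩ := subfield_of_realisable hRsup hR.absIrr F₀ hreal
    obtain ⟨F₁, ℓ, h01, hℓ, hcard⟩ := exists_prime_index_subfield F₀ h0
    exact inClass_of_subfield F₁ hℓ hcard B ((hHle.trans hB).trans (subfieldSubgroup_mono h01 B))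
  -- class 8
  have hforms := forms_dichotomy hn hRsup hR.absIrr
  have hquad : (∃ Q : (Fin n → F) → F, IsNondegenerateQuadraticForm Q ∧ FixesQuadForm (matrixSet R) Q) → InClass H := by
    intro hq
    rcases hforms with ⟨M, hM, hle⟩ | ⟨h1, -, -⟩
    · exact ⟨M, hM, hHle.trans hle⟩
    · exact absurd hq h1
  have hsymp : (∃ f : (Fin n → F) → (Fin n → F) → F, IsSymplecticForm f ∧ FixesForm (matrixSet R) f) → InClass H := by
    intro hq
    rcases hforms with ⟨M, hM, hle⟩ | ⟨-, h1, -⟩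
    · exact ⟨M, hM, hHle.trans hle⟩
    · exact absurd hq h1
  have hunit : (∃ (σ : F ≃+* F) (f : (Fin n → F) → (Fin n → F) → F), IsUnitaryForm σ f ∧ FixesForm (matrixSet R) f) →
      InClass H := by
    intro hq
    rcases hforms with ⟨M, hM, hle⟩ | ⟨-, -, h1⟩
    · exact ⟨M, hM, hHle.trans hle⟩
    · exact absurd hq h1
  -- the invariants of `R`
  have hord := d1_order (by omega) hR.absIrr hR.comm
  obtain ⟨m, hm1, hnm, hcard⟩ := d1_arith hn2 hR hord
  obtain ⟨-, hcentcard⟩ := d1_cent (by omega) hR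
  have hexp := d1_exp hn2 hR
  have hcyc := d1_cyc hn2 hD hN.1 hRH (by rw [← hRN]; exact le_sup_left)
  have hST : IsSymplecticTypeGroup r R := by
    refine ⟨hr, ?_, hcyc, hexp⟩
    intro y
    have hy : y ^ (r * Nat.gcd 2 r) = 1 := by
      apply Subtype.ext
      simpa using hR.pow y y.2
    rcases hr.eq_two_or_odd' with h2 | hodd
    · subst h2
      exact ⟨2, by simpa using hy⟩
    · have hg : Nat.gcd 2 r = 1 := (Nat.coprime_two_left.mpr hodd)
      exact ⟨1, by simpa [hg] using hy⟩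
  rcases hr.eq_two_or_odd' with h2 | hodd
  · -- `r = 2`, `k = 4`
    subst h2
    have hk : 2 * Nat.gcd 2 2 = 4 := by norm_num
    rw [hk] at hR hcentcard
    by_cases hi : ∃ i : Fˣ, i ^ 4 = 1 ∧ i ^ 2 ≠ 1
    · obtain ⟨i, hi4, hi2⟩ := hi
      rcases d1_field4 i hi4 hi2 with ⟨p, hp2, hmin⟩ | ⟨F₀, h0, hc⟩ | ⟨q₀, hq, hc⟩
      · -- class 6
        have hio : orderOf i = 4 := by
          have := orderOf_eq_prime_pow (x := i) (p := 2) (n := 1) (by simpa using hi2) (by simpa using hi4)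
          simpa using this
        have hc4 : Nat.card (Subgroup.center R) = 4 := by
          rw [hcentcard]
          exact asgd1main_card_roots 4 (by norm_num) i hio
        have h4n : 4 ≤ n := by
          rcases Nat.lt_or_ge m 2 with hm | hm
          · have : m = 1 := by omega
            subst this
            omega
          · calc 4 = 2 ^ 2 := by norm_num
              _ ≤ 2 ^ m := Nat.pow_le_pow_right (by norm_num) hm
              _ = n := hnm.symm
        refine inClass_of_sympl R ⟨hST, hR.absIrr, p, 1, hp2, ?_, Or.inr (Or.inl ⟨rfl, rfl, hc4, ?_, m, ?_⟩)⟩ hHR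
        · rw [hc4]; exact hmin
        · simpa using h4n
        · rw [hcard, hc4]
          ring
      · exact hsub F₀ h0 (d1_real hR F₀ hc)
      · exact hunit (d1_unitary hR q₀ hq hc)
    · -- no primitive fourth root of unity
      push Not at hi
      have hodd : Odd (Fintype.card F) := asgd1main_odd_card ω hω1 hωr
      rcases d1_bilin hR hodd hi with hq | hs
      · exact hquad hq
      · exact hsymp hs
  · -- `r` odd, `k = r`
    have hg : Nat.gcd 2 r = 1 := (Nat.coprime_two_left.mpr hodd)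
    have hk : r * Nat.gcd 2 r = r := by rw [hg, mul_one]
    rw [hk] at hR hcentcard
    have hr2 : r ≠ 2 := by
      rintro rfl
      exact absurd hodd (by decide)
    have : Fact r.Prime := ⟨hr⟩
    have hωo : orderOf ω = r := orderOf_eq_prime hωr hω1
    have hcr : Nat.card (Subgroup.center R) = r := by
      rw [hcentcard]
      exact asgd1main_card_roots r hr.pos ω hωo
    have hω1' : (ω : F) ≠ 1 := fun h => hω1 (Units.ext h)
    have hωr' : (ω : F) ^ r = 1 := by
      have := congrArg (fun u : Fˣ => (u : F)) hωr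
      simpa using this
    rcases heis_field_cases hr hr2 (ω : F) hω1' hωr' with ⟨p, e, hrp, hmin, he⟩ | ⟨F₀, h0, hω⟩ | ⟨q₀, hq, hω⟩
    · refine inClass_of_sympl R ⟨hST, hR.absIrr, p, e, hrp, ?_, Or.inl ⟨hodd, he, hcr, m, hm1, ?_⟩⟩ hHR
      · rw [hcr]; exact hmin
      · rw [hcard, hcr]
        ring
    · refine hsub F₀ h0 (d1_real hR F₀ ?_)
      intro c hc
      obtain ⟨j, rfl⟩ := asgd1main_pow_of_root r hr.pos ω hωo c hc
      rw [Units.val_pow_eq_pow_val]
      exact pow_mem hω j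
    · refine hunit (d1_unitary hR q₀ hq ?_)
      intro c hc
      obtain ⟨j, rfl⟩ := asgd1main_pow_of_root r hr.pos ω hωo c hc
      have h1 : ω ^ (q₀ + 1) = 1 := by
        apply Units.ext
        simpa using hω
      rw [← pow_mul, mul_comm, pow_mul, h1, one_pow]

end Cfsg.Agent.Lib.Helper19.ASG
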