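import Mathlib
import Cfsg.Prelude.Def_GeometricClasses
import Cfsg.Agent.Lib.Helper27.ASC.Defs
import Cfsg.Agent.Lib.Helper19.ASG.Defs
import Cfsg.Agent.Lib.Helper9.ASGD2T.Defs
import Cfsg.Agent.Lib.Helper9.ASGD2TF.Defs
import Cfsg.Agent.Lib.Helper20.ASGALG

/-!
# Block D2TF, piece FT-ANTI (helper26): a `σ`-semilinear unital anti-endomorphism of `M_k(F)` is `a ↦ A⁻¹ (σ a)ᵀ A`
-/

set_option autoImplicit false
set_option linter.unusedVariables false
set_option linter.unusedSectionVars false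

namespace Cfsg.Agent.Lib.Helper19.ASG

open Cfsg Cfsg.Geo Cfsg.Agent.Lib.Helper27.ASC
open scoped MatrixGroups Matrix

variable {n : ℕ} {F : Type*} [Field F]

/-- FT-ANTI -/
theorem anti_inner {σ : F →+* F} (hσ : ∀ a, σ (σ a) = a) {k : ℕ}
    (τ : Matrix (Fin k) (Fin k) F → Matrix (Fin k) (Fin k) F)
    (hmul : ∀ a b, τ (a * b) = τ b * τ a) (hadd : ∀ a b, τ (a + b) = τ a + τ b)
    (hsmul : ∀ (c : F) a, τ (c • a) = σ c • τ a) (hone : τ 1 = 1) :
    ∃ A : GL (Fin k) F, ∀ a, τ a = ((A⁻¹ : GL (Fin k) F) : Matrix (Fin k) (Fin k) F) * (a.map σ)ᵀ *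
      (A : Matrix (Fin k) (Fin k) F) := by
  classical
  have hmm : ∀ X : Matrix (Fin k) (Fin k) F, (X.map σ).map σ = X := by
    intro X
    ext i j
    simp [hσ]
  have hmap_mul : ∀ X Y : Matrix (Fin k) (Fin k) F, (X * Y).map σ = X.map σ * Y.map σ :=
    fun X Y => Matrix.map_mul
  have hmap_one : (1 : Matrix (Fin k) (Fin k) F).map σ = 1 := by
    rw [Matrix.map_one σ (map_zero σ) (map_one σ)]
  let βl : Matrix (Fin k) (Fin k) F →ₗ[F] Matrix (Fin k) (Fin k) F :=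
    { toFun := fun a => ((τ a).map σ)ᵀ
      map_add' := by
        intro a b
        rw [hadd]
        ext i j
        simp
      map_smul' := by
        intro c a
        rw [hsmul]
        ext i j
        simp [hσ] }
  let β : Matrix (Fin k) (Fin k) F →ₐ[F] Matrix (Fin k) (Fin k) F :=
    AlgHom.ofLinearMap βl
      (by
        show ((τ 1).map σ)ᵀ = 1
        rw [hone, hmap_one, Matrix.transpose_one])
      (by
        intro a b
        show ((τ (a * b)).map σ)ᵀ = ((τ a).map σ)ᵀ * ((τ b).map σ)ᵀ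
        rw [hmul, hmap_mul, Matrix.transpose_mul])
  have hβ : ∀ a, β a = ((τ a).map σ)ᵀ := fun a => rfl
  obtain ⟨S, hS⟩ := Cfsg.Agent.Lib.Helper20.ASGALG.asgalg_aut_inner β
  have hSS : (S : Matrix (Fin k) (Fin k) F) * ((S⁻¹ : GL (Fin k) F) : Matrix (Fin k) (Fin k) F) = 1 := by
    rw [← Units.val_mul, mul_inv_cancel, Units.val_one]
  have hSS' : ((S⁻¹ : GL (Fin k) F) : Matrix (Fin k) (Fin k) F) * (S : Matrix (Fin k) (Fin k) F) = 1 := by
    rw [← Units.val_mul, inv_mul_cancel, Units.val_one]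
  let A : GL (Fin k) F :=
    ⟨((S : Matrix (Fin k) (Fin k) F).map σ)ᵀ, (((S⁻¹ : GL (Fin k) F) : Matrix (Fin k) (Fin k) F).map σ)ᵀ,
      by rw [← Matrix.transpose_mul, ← hmap_mul, hSS', hmap_one, Matrix.transpose_one],
      by rw [← Matrix.transpose_mul, ← hmap_mul, hSS, hmap_one, Matrix.transpose_one]⟩
  refine ⟨A, fun a => ?_⟩
  have hA : (A : Matrix (Fin k) (Fin k) F) = ((S : Matrix (Fin k) (Fin k) F).map σ)ᵀ := rfl
  have hAi : ((A⁻¹ : GL (Fin k) F) : Matrix (Fin k) (Fin k) F) =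
      (((S⁻¹ : GL (Fin k) F) : Matrix (Fin k) (Fin k) F).map σ)ᵀ := rfl
  have h1 : τ a = ((β a)ᵀ).map σ := by
    rw [hβ, Matrix.transpose_transpose, hmm]
  rw [h1, hS, Matrix.transpose_mul, Matrix.transpose_mul, hmap_mul, hmap_mul, hA, hAi,
    Matrix.transpose_map, Matrix.transpose_map, Matrix.transpose_map, Matrix.mul_assoc]

end Cfsg.Agent.Lib.Helper19.ASG
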