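import Mathlib
import Cfsg.Prelude.Def_GeometricClasses
import Cfsg.Agent.Lib.Helper27.ASC.Defs
import Cfsg.Agent.Lib.Helper19.ASG.Defs
import Cfsg.Agent.Lib.Helper9.ASGD2T.Defs
import Cfsg.Agent.Lib.Helper9.ASGD2TF.Defs
import Cfsg.Agent.Lib.Helper26.ASGD2TFANTI

/-!
# Block D2TF, piece FT-INNER (helper26): the adjoint on a star-stable injective copy of `M_k(F)` is `θ a ↦ θ (A⁻¹ (σ a)ᵀ A)`
-/

set_option autoImplicit false
set_option linter.unusedVariables false
set_option linter.unusedSectionVars false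

namespace Cfsg.Agent.Lib.Helper19.ASG

open Cfsg Cfsg.Geo Cfsg.Agent.Lib.Helper27.ASC
open scoped MatrixGroups Matrix

variable {n : ℕ} {F : Type*} [Field F]

/-- FT-INNER -/
theorem star_inner {σ : F →+* F} (hσ : ∀ a, σ (σ a) = a)
    {star : Matrix (Fin n) (Fin n) F → Matrix (Fin n) (Fin n) F} (hs : IsStarOp σ star) {k : ℕ}
    (θ : Matrix (Fin k) (Fin k) F →ₐ[F] Matrix (Fin n) (Fin n) F) (hinj : Function.Injective θ)
    (hst : ∀ a, ∃ a', star (θ a) = θ a') :
    ∃ A : GL (Fin k) F, ∀ a, star (θ a) = θ (((A⁻¹ : GL (Fin k) F) : Matrix (Fin k) (Fin k) F) * (a.map σ)ᵀ *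
      (A : Matrix (Fin k) (Fin k) F)) := by
  classical
  choose τ hτ using hst
  have hmul : ∀ a b, τ (a * b) = τ b * τ a := by
    intro a b
    apply hinj
    rw [← hτ, map_mul, hs.mul, hτ, hτ, map_mul]
  have hadd : ∀ a b, τ (a + b) = τ a + τ b := by
    intro a b
    apply hinj
    rw [← hτ, map_add, hs.add, hτ, hτ, map_add]
  have hsmul : ∀ (c : F) a, τ (c • a) = σ c • τ a := by
    intro c a
    apply hinj
    rw [← hτ, map_smul, hs.smul, hτ, map_smul]
  have hone : τ 1 = 1 := by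
    apply hinj
    rw [← hτ, map_one, hs.one]
  obtain ⟨A, hA⟩ := anti_inner hσ τ hmul hadd hsmul hone
  exact ⟨A, fun a => by rw [hτ, hA]⟩

end Cfsg.Agent.Lib.Helper19.ASG
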