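import Mathlib
import Cfsg.Agent.Lib.helper3.C6U.Defs
import Cfsg.Agent.Lib.helper6.HermGram
import Cfsg.Agent.Lib.Lead.Unitary

set_option autoImplicit false
set_option linter.unusedVariables false
set_option linter.unusedSectionVars false

/-!
# Project C6U, row E1 (helper26): normal form of a unitary involution.
`V = V₊ ⟂ V₋`, both non-degenerate, orthonormal bases (helper6 `exists_orthonormal`), `j = dim V₊`.
-/

namespace Cfsg.Agent.Lib.helper3.C6U

open Polynomial Matrix
open Cfsg.Agent.Lib.Helper10.C6P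
open scoped MatrixGroups

variable {F : Type*} [Field F]

section fin

variable [Fintype F] {p : ℕ} [Fact p.Prime] [CharP F p]

/-- E1 [M-L] -/
theorem nf_two (hF : Fintype.card F = p ^ 2) (h2 : (2 : F) ≠ 0) (u : M4 F) (hU : IsU p u) (hu : u * u = 1) :
    ∃ (j : ℕ) (B : GL (Fin 4) F), j ≤ 4 ∧ IsU p (B : M4 F) ∧
      ((B⁻¹ : GL (Fin 4) F) : M4 F) * u * (B : M4 F) = D2 F j := by
  classical
  let σ : F →+* F := frobenius F p
  have hσ : ∀ x, σ x = x ^ p := fun x => rfl
  have hσσ := Cfsg.Agent.Lib.Lead.frob_frob hF σ hσ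
  have hU' : uᵀ * u.map σ = 1 := hU
  have hpres : ∀ a b, Cfsg.hermForm 4 F p (u *ᵥ a) (u *ᵥ b) = Cfsg.hermForm 4 F p a b :=
    (Cfsg.Agent.Lib.Lead.preserves_iff σ hσ u).mpr hU'
  have hH : ∀ a b, Cfsg.hermForm 4 F p a b = Cfsg.Agent.Lib.helper6.HF.hB 4 σ b a :=
    fun a b => (Cfsg.Agent.Lib.helper6.HF.hB_apply σ hσ b a).symm
  have huu : ∀ x : Fin 4 → F, u *ᵥ (u *ᵥ x) = x := by
    intro x
    rw [Matrix.mulVec_mulVec, hu, Matrix.one_mulVec]
  -- orthogonality of the eigenspaces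
  have horth : ∀ a b : Fin 4 → F, u *ᵥ a = a → u *ᵥ b = -b →
      Cfsg.hermForm 4 F p a b = 0 ∧ Cfsg.hermForm 4 F p b a = 0 := by
    intro a b ha hb
    constructor
    · have h1 := hpres a b
      rw [ha, hb, hH, hH a b, map_neg, LinearMap.neg_apply] at h1
      have h3 : (2 : F) * Cfsg.Agent.Lib.helper6.HF.hB 4 σ b a = 0 := by linear_combination (-1 : F) * h1
      rw [hH]
      exact (mul_eq_zero.mp h3).resolve_left h2
    · have h1 := hpres b a
      rw [ha, hb, hH, hH b a, map_neg] at h1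
      have h3 : (2 : F) * Cfsg.Agent.Lib.helper6.HF.hB 4 σ a b = 0 := by linear_combination (-1 : F) * h1
      rw [hH]
      exact (mul_eq_zero.mp h3).resolve_left h2
  let Vp : Submodule F (Fin 4 → F) := LinearMap.ker (Matrix.toLin' u - LinearMap.id)
  let Vm : Submodule F (Fin 4 → F) := LinearMap.ker (Matrix.toLin' u + LinearMap.id)
  have hVp : ∀ x, x ∈ Vp ↔ u *ᵥ x = x := by
    intro x
    simp only [Vp, LinearMap.mem_ker, LinearMap.sub_apply, Matrix.toLin'_apply, LinearMap.id_coe, id_eq,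
      sub_eq_zero]
  have hVm : ∀ x, x ∈ Vm ↔ u *ᵥ x = -x := by
    intro x
    simp only [Vm, LinearMap.mem_ker, LinearMap.add_apply, Matrix.toLin'_apply, LinearMap.id_coe, id_eq,
      add_eq_zero_iff_eq_neg]
  -- decomposition
  have hdec : ∀ x : Fin 4 → F, ∃ a b : Fin 4 → F, a ∈ Vp ∧ b ∈ Vm ∧ x = a + b := by
    intro x
    refine ⟨(2 : F)⁻¹ • (x + u *ᵥ x), (2 : F)⁻¹ • (x - u *ᵥ x), ?_, ?_, ?_⟩
    · rw [hVp, Matrix.mulVec_smul, Matrix.mulVec_add, huu, add_comm]
    · rw [hVm, Matrix.mulVec_smul, Matrix.mulVec_sub, huu, ← smul_neg, neg_sub]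
    · rw [← smul_add]
      have : x + u *ᵥ x + (x - u *ᵥ x) = (2 : F) • x := by
        rw [two_smul]; abel
      rw [this, smul_smul, inv_mul_cancel₀ h2, one_smul]
  have hzero : ∀ a : Fin 4 → F, (∀ x, Cfsg.hermForm 4 F p a x = 0) → a = 0 := by
    intro a h
    funext k
    have := h (Pi.single k 1)
    rwa [Cfsg.Agent.Lib.helper6.HF.herm_single_right σ hσ] at this
  have hadd : ∀ a x y : Fin 4 → F, Cfsg.hermForm 4 F p a (x + y)
      = Cfsg.hermForm 4 F p a x + Cfsg.hermForm 4 F p a y := by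
    intro a x y
    rw [hH, hH, hH, map_add, LinearMap.add_apply]
  have hndp : ∀ a ∈ Vp, (∀ v ∈ Vp, Cfsg.hermForm 4 F p a v = 0) → a = 0 := by
    intro a ha h
    apply hzero
    intro x
    obtain ⟨x1, x2, hx1, hx2, rfl⟩ := hdec x
    rw [hadd, h x1 hx1, (horth a x2 ((hVp a).mp ha) ((hVm x2).mp hx2)).1, add_zero]
  have hndm : ∀ b ∈ Vm, (∀ v ∈ Vm, Cfsg.hermForm 4 F p b v = 0) → b = 0 := by
    intro b hb h
    apply hzero
    intro x
    obtain ⟨x1, x2, hx1, hx2, rfl⟩ := hdec x
    rw [hadd, h x2 hx2, (horth x1 b ((hVp x1).mp hx1) ((hVm b).mp hb)).2, add_zero]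
  obtain ⟨bp, hlip, hspanp, honp⟩ := Cfsg.Agent.Lib.helper6.HF.exists_orthonormal hF Vp hndp
  obtain ⟨bm, hlim, hspanm, honm⟩ := Cfsg.Agent.Lib.helper6.HF.exists_orthonormal hF Vm hndm
  have hbp : ∀ a, u *ᵥ bp a = bp a := by
    intro a
    rw [← hVp, ← hspanp]
    exact Submodule.subset_span (Set.mem_range_self a)
  have hbm : ∀ b, u *ᵥ bm b = -bm b := by
    intro b
    rw [← hVm, ← hspanm]
    exact Submodule.subset_span (Set.mem_range_self b)
  -- dimensions
  have hsup : Vp ⊔ Vm = ⊤ := by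
    rw [eq_top_iff]
    intro x _
    obtain ⟨x1, x2, hx1, hx2, rfl⟩ := hdec x
    exact Submodule.add_mem_sup hx1 hx2
  have hinf : Vp ⊓ Vm = ⊥ := by
    rw [eq_bot_iff]
    intro x hx
    rw [Submodule.mem_inf] at hx
    have h1 := (hVp x).mp hx.1
    have h3 := (hVm x).mp hx.2
    rw [h1] at h3
    have h4 : (2 : F) • x = 0 := by
      rw [two_smul]
      nth_rewrite 1 [h3]
      exact neg_add_cancel x
    rcases smul_eq_zero.mp h4 with h5 | h5
    · exact absurd h5 h2
    · rw [h5]; exact Submodule.zero_mem _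
  have hj : Module.finrank F Vp + Module.finrank F Vm = 4 := by
    have h1 := Submodule.finrank_sup_add_finrank_inf_eq Vp Vm
    rw [hsup, hinf, finrank_top, finrank_bot, Module.finrank_fin_fun, add_zero] at h1
    exact h1.symm
  let e : Fin (Module.finrank F Vp) ⊕ Fin (Module.finrank F Vm) ≃ Fin 4 := finSumFinEquiv.trans (finCongr hj)
  have hel : ∀ a, ((e (Sum.inl a) : Fin 4) : ℕ) = a := by
    intro a
    simp [e]
  have her : ∀ b, ((e (Sum.inr b) : Fin 4) : ℕ) = Module.finrank F Vp + b := by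
    intro b
    simp [e]
  let c : Fin 4 → (Fin 4 → F) := fun k => Sum.elim bp bm (e.symm k)
  have hce : ∀ s, c (e s) = Sum.elim bp bm s := by
    intro s
    simp only [c, Equiv.symm_apply_apply]
  have hgs : ∀ s t, Cfsg.hermForm 4 F p (Sum.elim bp bm s) (Sum.elim bp bm t) = if s = t then 1 else 0 := by
    intro s t
    rcases s with a | b <;> rcases t with a' | b'
    · simp only [Sum.elim_inl, Sum.inl.injEq]
      exact honp a a'
    · simp only [Sum.elim_inl, Sum.elim_inr, reduceCtorEq, if_false]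
      exact (horth _ _ (hbp a) (hbm b')).1
    · simp only [Sum.elim_inl, Sum.elim_inr, reduceCtorEq, if_false]
      exact (horth _ _ (hbp a') (hbm b)).2
    · simp only [Sum.elim_inr, Sum.inr.injEq]
      exact honm b b'
  have hg : ∀ k l, Cfsg.hermForm 4 F p (c k) (c l) = if k = l then 1 else 0 := by
    intro k l
    have := hgs (e.symm k) (e.symm l)
    simp only [e.symm.injective.eq_iff] at this
    exact this
  have huc : ∀ k, u *ᵥ c k = (if (k : ℕ) < Module.finrank F Vp then (1 : F) else -1) • c k := by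
    intro k
    obtain ⟨s, rfl⟩ := e.surjective k
    rw [hce]
    rcases s with a | b
    · rw [hel, if_pos a.2, one_smul]
      exact hbp a
    · rw [her, if_neg (by omega), neg_one_smul]
      exact hbm b
  let B : M4 F := Matrix.of (fun r k => c k r)
  have hgram : gram p B = 1 := by
    ext k l
    rw [gram, Matrix.mul_apply, Matrix.one_apply, ← hg k l]
    rfl
  have huB : u * B = B * D2 F (Module.finrank F Vp) := by
    ext r k
    rw [D2, Matrix.mul_diagonal, Matrix.mul_apply]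
    have h1 := congrFun (huc k) r
    rw [Pi.smul_apply, smul_eq_mul] at h1
    rw [mul_comm]
    exact h1
  have hB1 : (B.map (fun a => a ^ p))ᵀ * B = 1 := by
    have h1 := congrArg Matrix.transpose hgram
    rw [gram, Matrix.transpose_mul, Matrix.transpose_transpose, Matrix.transpose_one] at h1
    exact h1
  have hB2 : B * (B.map (fun a => a ^ p))ᵀ = 1 := mul_eq_one_comm.mp hB1
  refine ⟨Module.finrank F Vp, ⟨B, (B.map (fun a => a ^ p))ᵀ, hB2, hB1⟩, by omega, hgram, ?_⟩
  show (B.map (fun a => a ^ p))ᵀ * u * B = D2 F (Module.finrank F Vp)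
  rw [Matrix.mul_assoc, huB, ← Matrix.mul_assoc, hB1, Matrix.one_mul]

end fin

end Cfsg.Agent.Lib.helper3.C6U
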