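import Mathlib
import Cfsg.Agent.Lib.helper7.CED.Defs
import Cfsg.Agent.Lib.Helper24.STCI1
import Cfsg.Agent.Lib.Lead.STDB1
import Cfsg.Agent.Lib.Helper16.STDH3

/-!
# CED row M4 (helper26): `zz_indep`, the spin element does not depend on the pair of indices.
-/

set_option autoImplicit false

namespace Cfsg.Agent.Lib.helper7.CED

open Cfsg.Agent.Lib.helper15.St2 Cfsg.Agent.Lib.helper7.Ce Cfsg.Agent.Lib.helper3.STC Cfsg.Agent.Lib.Lead.STD
  Cfsg.Agent.Lib.helper7.CEC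

section M

universe v w

variable {K : Type*} [Field K] [Finite K] {ι : Type*} {G : Type*} [Group G] (S : SysD K ι G)

theorem cedm4_ne {ι : Type*} {a b : ι ⊕ ι} (hab : ab a ≠ ab b) : a ≠ b ∧ a ≠ ng b := by
  constructor
  · intro e
    exact hab (ab_eq_iff.2 (Or.inl e))
  · intro e
    exact hab (ab_eq_iff.2 (Or.inr e))

theorem cedm4_ab_ng_right {ι : Type*} {a b : ι ⊕ ι} (hab : ab a ≠ ab b) : ab a ≠ ab (ng b) := by
  rw [ab_ng]; exact hab

theorem cedm4_ab_ng_left {ι : Type*} {a b : ι ⊕ ι} (hab : ab a ≠ ab b) : ab (ng a) ≠ ab b := by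
  rw [ab_ng]; exact hab

/-- the torus elements `h a b (-1)` commute -/
theorem cedm4_comm [DecidableEq ι] {a b c d : ι ⊕ ι} (hab : ab a ≠ ab b) (hcd : ab c ≠ ab d) :
    S.h a b (-1) * S.h c d (-1) = S.h c d (-1) * S.h a b (-1) :=
  S.h_comm (cedm4_ne hab).1 (cedm4_ne hab).2 (cedm4_ne hcd).1 (cedm4_ne hcd).2 (-1) (-1)
    (neg_ne_zero.2 one_ne_zero) (neg_ne_zero.2 one_ne_zero)

/-- `h a b (-1)` is an involution -/
theorem cedm4_sq {a b : ι ⊕ ι} (hab : ab a ≠ ab b) : S.h a b (-1) * S.h a b (-1) = 1 := by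
  rw [S.h_mul (cedm4_ne hab).1 (cedm4_ne hab).2 (-1) (-1) (neg_ne_zero.2 one_ne_zero) (neg_ne_zero.2 one_ne_zero),
    neg_one_mul, neg_neg, S.h_one]

theorem cedm4_swap {a b : ι ⊕ ι} (hab : ab a ≠ ab b) : S.h b a (-1) = S.h a b (-1) := by
  rw [S.h_swap (cedm4_ne hab).1 (cedm4_ne hab).2 (-1) (neg_ne_zero.2 one_ne_zero), inv_neg_one]

theorem cedm4_sym {a b : ι ⊕ ι} (hab : ab a ≠ ab b) : S.h a b (-1) = S.h (ng b) (ng a) (-1) :=
  S.h_sym (cedm4_ne hab).1 (cedm4_ne hab).2 (-1) (neg_ne_zero.2 one_ne_zero)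

theorem cedm4_chain [DecidableEq ι] {a b c : ι ⊕ ι} (hab : ab a ≠ ab b) (hac : ab a ≠ ab c) (hcb : ab c ≠ ab b) :
    S.h a b (-1) = S.h a c (-1) * S.h c b (-1) :=
  S.h_chain (cedm4_ne hab).1 (cedm4_ne hab).2 (cedm4_ne hac).1 (cedm4_ne hac).2 (cedm4_ne hcb).1 (cedm4_ne hcb).2 (-1)
    (neg_ne_zero.2 one_ne_zero)

/-- (i) -/
theorem cedm4_zz_ng [DecidableEq ι] {a b : ι ⊕ ι} (hab : ab a ≠ ab b) : zz S a (ng b) = zz S a b := by
  unfold zz
  rw [ng_ng]
  exact cedm4_comm S (cedm4_ab_ng_right hab) hab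

/-- (ii) -/
theorem cedm4_zz_swap {a b : ι ⊕ ι} (hab : ab a ≠ ab b) : zz S b a = zz S a b := by
  unfold zz
  rw [cedm4_swap S hab]
  have e : S.h b (ng a) (-1) = S.h a (ng b) (-1) := by
    have := cedm4_sym S (a := b) (b := ng a) (by rw [ab_ng]; exact fun x => hab x.symm)
    rw [ng_ng] at this
    exact this
  rw [e]

/-- (iii) -/
theorem cedm4_zz_chain [DecidableEq ι] {a b c : ι ⊕ ι} (hab : ab a ≠ ab b) (hac : ab a ≠ ab c) (hcb : ab c ≠ ab b) :
    zz S a b = zz S c b := by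
  unfold zz
  rw [cedm4_chain S hab hac hcb, cedm4_chain S (cedm4_ab_ng_right hab) hac (cedm4_ab_ng_right hcb)]
  have c1 := cedm4_comm S hcb hac
  have s1 := cedm4_sq S hac
  calc S.h a c (-1) * S.h c b (-1) * (S.h a c (-1) * S.h c (ng b) (-1))
      = S.h a c (-1) * (S.h c b (-1) * S.h a c (-1)) * S.h c (ng b) (-1) := by group
    _ = S.h a c (-1) * (S.h a c (-1) * S.h c b (-1)) * S.h c (ng b) (-1) := by rw [c1]
    _ = (S.h a c (-1) * S.h a c (-1)) * S.h c b (-1) * S.h c (ng b) (-1) := by group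
    _ = S.h c b (-1) * S.h c (ng b) (-1) := by rw [s1, one_mul]

/-- the first index can be replaced -/
theorem cedm4_first [DecidableEq ι] {a b c : ι ⊕ ι} (hab : ab a ≠ ab b) (hcb : ab c ≠ ab b) : zz S a b = zz S c b := by
  by_cases hac : ab a = ab c
  · rcases ab_eq_iff.1 hac with e | e
    · rw [e]
    · -- `a = ng c`
      have hbc : ab b ≠ ab c := fun x => hcb x.symm
      calc zz S a b = zz S b a := (cedm4_zz_swap S hab).symm
        _ = zz S b (ng c) := by rw [e]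
        _ = zz S b c := cedm4_zz_ng S hbc
        _ = zz S c b := cedm4_zz_swap S hcb
  · exact cedm4_zz_chain S hab hac hcb

/-- the second index can be replaced -/
theorem cedm4_second [DecidableEq ι] {a b d : ι ⊕ ι} (hab : ab a ≠ ab b) (had : ab a ≠ ab d) : zz S a b = zz S a d := by
  have hba : ab b ≠ ab a := fun x => hab x.symm
  have hda : ab d ≠ ab a := fun x => had x.symm
  calc zz S a b = zz S b a := (cedm4_zz_swap S hab).symm
    _ = zz S d a := cedm4_first S hba hda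
    _ = zz S a d := cedm4_zz_swap S had

theorem zz_indep [DecidableEq ι] (h3 : I3 ι) {a b c d : ι ⊕ ι} (hab : ab a ≠ ab b) (hcd : ab c ≠ ab d) : zz S a b = zz S c d := by
  by_cases hcb : ab c = ab b
  · have hca : ab c ≠ ab a := by rw [hcb]; exact fun x => hab x.symm
    have hba : ab b ≠ ab a := fun x => hab x.symm
    calc zz S a b = zz S b a := (cedm4_zz_swap S hab).symm
      _ = zz S c a := cedm4_first S hba hca
      _ = zz S c d := cedm4_second S hca hcd
  · calc zz S a b = zz S c b := cedm4_first S hab hcb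
      _ = zz S c d := cedm4_second S hcb hcd

end M

end Cfsg.Agent.Lib.helper7.CED
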