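import Mathlib
import Cfsg.Agent.Lib.helper7.Om.Defs

set_option autoImplicit false

/-!
# Project Om, piece H: `d₄(u²) ∈ EO`

For a valid pair of positions `k, l` the homomorphism `ogRho : SL₂(F) → O(Q)` attached to the
singular lines `⟨e_k, e_l⟩`, `⟨e_{k'}, e_{l'}⟩` has its range inside `EO F`, and it maps
`diag(u, u⁻¹)` to `diag(u at k, l; u⁻¹ at k', l')`.  The product of two such elements is `d₄(u²)`.
-/

namespace Cfsg.Agent.Lib.Helper26.Om

open Matrix Cfsg.Agent.Lib.Lead Cfsg.Agent.Lib.Helper26 Cfsg.Agent.Lib.helper7.Om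

variable {F : Type*} [Field F]

/-- the diagonal element `diag(u, u⁻¹)` of `SL₂(F)` -/
def omDiag (u : Fˣ) : Matrix.SpecialLinearGroup (Fin 2) F :=
  ⟨!![(u : F), 0; 0, ((u⁻¹ : Fˣ) : F)], by
    rw [Matrix.det_fin_two_of]
    simp⟩

theorem omValid_swap {k l : P8} (h : CValid k l) : CValid k.swap l.swap := by
  refine ⟨fun e => h.1 (Sum.swap_leftInverse.injective e), fun e => ?_⟩
  rw [Sum.swap_swap] at e
  exact h.2 (by rw [← e, Sum.swap_swap])

theorem omPol11 (k : P8) :
    polarP F 4 (Pi.single k (1 : F)) (Pi.single k.swap 1) = 1 := by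
  rw [ob_single_single, if_pos (Sum.swap_swap k)]

theorem omPol12 {k l : P8} (h : CValid k l) :
    polarP F 4 (Pi.single k (1 : F)) (Pi.single l.swap 1) = 0 := by
  rw [ob_single_single, if_neg]
  rw [Sum.swap_swap]
  exact h.1.symm

/-- the `SL₂` attached to a valid pair of positions -/
noncomputable def omRho {k l : P8} (h : CValid k l) :
    Matrix.SpecialLinearGroup (Fin 2) F →* ↥(ogG F 4) :=
  ogRho (p := Pi.single k (1 : F)) (r := Pi.single l 1) (p' := Pi.single k.swap 1)
    (r' := Pi.single l.swap 1) h.oSing (omValid_swap h).oSing (omPol11 k) (omPol12 h)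
    (omPol12 h.symm) (omPol11 l)

theorem omRho_mem {k l : P8} (h : CValid k l) (M : Matrix.SpecialLinearGroup (Fin 2) F) :
    omRho h M ∈ EO F := by
  have hr : (omRho (F := F) h).range ≤ EO F := by
    unfold omRho
    rw [ogRho_range, sup_le_iff]
    constructor
    · rintro g ⟨c, rfl⟩
      exact W_mem_EO h c
    · rintro g ⟨c, rfl⟩
      exact W_mem_EO (omValid_swap h) c
  exact hr ⟨M, rfl⟩

theorem omRho_diag_mulVec {k l : P8} (h : CValid k l) (u : Fˣ) (x : P8 → F) :
    (omRho h (omDiag u)).1.1 *ᵥ x =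
      x + x k • (((u : F) - 1) • (Pi.single k (1 : F) : P8 → F))
        + x k.swap • ((((u⁻¹ : Fˣ) : F) - 1) • (Pi.single k.swap (1 : F) : P8 → F))
        + x l • (((u : F) - 1) • (Pi.single l (1 : F) : P8 → F))
        + x l.swap • ((((u⁻¹ : Fˣ) : F) - 1) • (Pi.single l.swap (1 : F) : P8 → F)) := by
  unfold omRho
  rw [ogRho_coe, ogRhoMat_mulVec, ob_single, ob_single, ob_single, ob_single]
  simp only [omDiag, Sum.swap_swap, Matrix.of_apply, Matrix.cons_val', Matrix.cons_val_zero,
    Matrix.cons_val_one, Matrix.cons_val_fin_one]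
  module

theorem dT_sq_mem (u : Fˣ) : dT (u * u) ∈ EO F := by
  have h1 : CValid (Sum.inl 2 : P8) (Sum.inl 3) := by
    refine ⟨by decide, by decide⟩
  have h2 : CValid (Sum.inl 2 : P8) (Sum.inr 3) := by
    refine ⟨by decide, by decide⟩
  have key : dT (u * u) = omRho h1 (omDiag u) * omRho h2 (omDiag u⁻¹) := by
    apply og_ext
    intro x
    rw [og_mul_mulVec, omRho_diag_mulVec h1, omRho_diag_mulVec h2, dT_mulVec]
    funext c
    have hu : (u : F) * (u : F)⁻¹ = 1 := mul_inv_cancel₀ u.ne_zero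
    rcases c with i | i <;> fin_cases i <;>
      simp [dV] <;> field_simp <;> ring
  rw [key]
  exact (EO F).mul_mem (omRho_mem h1 _) (omRho_mem h2 _)

end Cfsg.Agent.Lib.Helper26.Om
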