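import Mathlib
import Cfsg.Prelude.Def_Blocks
import Cfsg.Agent.Lib.Helper24.BlockTransport
import Cfsg.Agent.Lib.Helper25.BlockPIndex
import Cfsg.Agent.S0887

/-!
A block of a normal subgroup of `p`-power index, stable under the whole group, contains a
height-zero character which is the restriction of an irreducible character of the group
(`hzs_ppow`); consequence for stabilizers (`hzs_main`).
-/

set_option autoImplicit false
set_option linter.style.haveILetI false
set_option linter.unusedSectionVars false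
set_option linter.unusedVariables false

namespace Cfsg.Agent.Lib.Helper26

open scoped ComplexConjugate
open Cfsg.Agent.Lib.Helper24 Cfsg.Agent.Lib.Helper25 Cfsg.Agent.Lib.Helper11
open Cfsg.Agent.Lib.helper2 Cfsg.Agent.Lib.helper7

section

variable {G : Type*} [Group G]

/-- an irreducible character whose restriction contains `θ` and has the degree of `θ`
restricts to `θ` -/
theorem hzs_restrict_eq [Fintype G] (N : Subgroup G) [Fintype N]
    (χ : Cfsg.IrrCharacter G) (θ : Cfsg.IrrCharacter N)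
    (hcon : Cfsg.classInner (fun n : N => (χ : G → ℂ) n) (θ : N → ℂ) ≠ 0)
    (hdeg : (χ : G → ℂ) 1 = (θ : N → ℂ) 1) :
    (fun n : N => (χ : G → ℂ) n) = (θ : N → ℂ) := by
  classical
  haveI : Fintype (Cfsg.IrrCharacter N) := Fintype.ofFinite _
  have hψ : Cfsg.IsCharacter N (fun n : N => (χ : G → ℂ) n) :=
    isCharacter_restrict (isCharacter_of_irr χ) N
  obtain ⟨m, hm, hexp⟩ := isCharacter_expansion hψ
  have hmθ : m θ ≠ 0 := by
    intro h0
    apply hcon
    rw [hm θ, h0, Nat.cast_zero]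
  have h1 : (θ : N → ℂ) 1 = ∑ φ : Cfsg.IrrCharacter N, (m φ : ℂ) * (φ : N → ℂ) 1 := by
    rw [← hdeg]
    have := congrFun hexp 1
    simp only [Finset.sum_apply, Pi.smul_apply, smul_eq_mul] at this
    exact this
  have h2 : Cfsg.charDegree (θ : N → ℂ) =
      ∑ φ : Cfsg.IrrCharacter N, m φ * Cfsg.charDegree (φ : N → ℂ) := by
    have : ((Cfsg.charDegree (θ : N → ℂ) : ℕ) : ℂ) =
        ((∑ φ : Cfsg.IrrCharacter N, m φ * Cfsg.charDegree (φ : N → ℂ) : ℕ) : ℂ) := by
      rw [(h7_charDegree_props θ).2.2, h1]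
      push_cast
      apply Finset.sum_congr rfl
      intro φ _
      rw [(h7_charDegree_props φ).2.2]
    exact_mod_cast this
  have hpos : ∀ φ : Cfsg.IrrCharacter N, 0 < Cfsg.charDegree (φ : N → ℂ) :=
    fun φ => (h7_charDegree_props φ).2.1
  have h3 : ∑ φ : Cfsg.IrrCharacter N, m φ * Cfsg.charDegree (φ : N → ℂ) =
      m θ * Cfsg.charDegree (θ : N → ℂ) +
        ∑ φ ∈ Finset.univ.erase θ, m φ * Cfsg.charDegree (φ : N → ℂ) := by
    rw [← Finset.add_sum_erase _ _ (Finset.mem_univ θ)]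
  have hmθ1 : m θ = 1 := by
    have : m θ * Cfsg.charDegree (θ : N → ℂ) ≤ Cfsg.charDegree (θ : N → ℂ) := by
      rw [h2] at *
      omega
    have h5 : m θ ≤ 1 := by
      by_contra hc
      have hc' : 2 ≤ m θ := by omega
      have : 2 * Cfsg.charDegree (θ : N → ℂ) ≤ m θ * Cfsg.charDegree (θ : N → ℂ) :=
        Nat.mul_le_mul_right _ hc'
      have := hpos θ
      omega
    omega
  have hrest : ∑ φ ∈ Finset.univ.erase θ, m φ * Cfsg.charDegree (φ : N → ℂ) = 0 := by
    rw [hmθ1, one_mul] at h3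
    omega
  have hzero : ∀ φ : Cfsg.IrrCharacter N, φ ≠ θ → m φ = 0 := by
    intro φ hφ
    have := (Finset.sum_eq_zero_iff.mp hrest) φ (Finset.mem_erase.mpr ⟨hφ, Finset.mem_univ _⟩)
    rcases Nat.mul_eq_zero.mp this with h | h
    · exact h
    · exact absurd h (hpos φ).ne'
  rw [hexp, Finset.sum_eq_single θ]
  · rw [hmθ1, Nat.cast_one, one_smul]
  · intro φ _ hφ
    rw [hzero φ hφ, Nat.cast_zero, zero_smul]
  · intro h
    exact absurd (Finset.mem_univ _) h

/-- `N` normal of `p`-power index, `b` a stable block of `N`: some height-zero member of `b`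
is the restriction of an irreducible character of `G` -/
theorem hzs_ppow [Fintype G] (p : ℕ) [hp : Fact p.Prime] (M : Ideal Cfsg.AlgInt)
    (hM : Cfsg.IsPModular p M) (N : Subgroup G) [hN : N.Normal] [Fintype N]
    (hidx : ∃ k : ℕ, N.index = p ^ k) (b : Set (Cfsg.IrrCharacter N)) (hb : Cfsg.IsPBlock M b)
    (hinv : fc_inv N b) :
    ∃ θ ∈ b, Cfsg.blockHeight p b (θ : N → ℂ) = 0 ∧
      ∃ χ : Cfsg.IrrCharacter G, (fun n : N => (χ : G → ℂ) n) = (θ : N → ℂ) := by
  classical
  haveI : Fintype (Cfsg.IrrCharacter G) := Fintype.ofFinite _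
  haveI : Fintype (Cfsg.IrrCharacter N) := Fintype.ofFinite _
  have hp1 := hp.out.one_lt
  obtain ⟨k, hk⟩ := hidx
  obtain ⟨B₁, hB₁, hcov₁, hd₁⟩ := fc_exists_big_block hM N b hb hinv
  have hd₂ := fc_defect_le hM N b hb hinv B₁ hB₁ hcov₁
  have hsub := fc_block_sub_over hM N b hb hinv B₁ hB₁ hcov₁
  -- a member of B₁ of minimal valuation
  set fG : Cfsg.IrrCharacter G → ℕ := fun χ => (Cfsg.charDegree (χ : G → ℂ)).factorization p
    with hfG
  set fN : Cfsg.IrrCharacter N → ℕ := fun θ => (Cfsg.charDegree (θ : N → ℂ)).factorization p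
    with hfN
  have hneG : (fG '' B₁).Nonempty := by
    obtain ⟨χ, hχ, -⟩ := hcov₁
    exact ⟨_, χ, hχ, rfl⟩
  obtain ⟨χ₀, hχ₀, hχ₀min⟩ := Nat.sInf_mem hneG
  obtain ⟨θ, hθ, hcon⟩ := hsub hχ₀
  obtain ⟨hcd, hcpos, hc1⟩ := h7_charDegree_props χ₀
  obtain ⟨hdd, hdpos, hd1⟩ := h7_charDegree_props θ
  obtain ⟨hdvd, hquot⟩ := Cfsg.Agent.S0887.result N (χ₀ : G → ℂ) χ₀.2 (θ : N → ℂ) θ.2 hcon
    (Cfsg.charDegree (χ₀ : G → ℂ)) (Cfsg.charDegree (θ : N → ℂ)) hc1.symm hd1.symm
  set c := Cfsg.charDegree (χ₀ : G → ℂ) with hc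
  set d := Cfsg.charDegree (θ : N → ℂ) with hd
  obtain ⟨q, hq⟩ := hdvd
  have hq' : c / d = q := by
    rw [hq, Nat.mul_div_cancel_left _ hdpos]
  rw [hq', hk] at hquot
  obtain ⟨j, hj, hqj⟩ := (Nat.dvd_prime_pow hp.out).mp hquot
  -- valuations
  have hcardG : Nat.card G = Nat.card N * N.index := (Subgroup.card_mul_index N).symm
  have hN0 : Nat.card N ≠ 0 := Nat.card_pos.ne'
  have haG : (Nat.card G).factorization p = (Nat.card N).factorization p + k := by
    rw [hcardG, hk, Nat.factorization_mul hN0 (pow_ne_zero _ hp.out.ne_zero)]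
    simp [Nat.Prime.factorization_pow hp.out]
  have hνc : c.factorization p = d.factorization p + j := by
    rw [hq, hqj, Nat.factorization_mul hdpos.ne' (pow_ne_zero _ hp.out.ne_zero)]
    simp [Nat.Prime.factorization_pow hp.out]
  have hνd_le : d.factorization p ≤ (Nat.card N).factorization p :=
    (Nat.factorization_le_iff_dvd hdpos.ne' hN0).mpr hdd p
  have hνc_le : c.factorization p ≤ (Nat.card G).factorization p :=
    (Nat.factorization_le_iff_dvd hcpos.ne' Nat.card_pos.ne').mpr hcd p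
  have hmb : sInf (fN '' b) ≤ d.factorization p := Nat.sInf_le ⟨θ, hθ, rfl⟩
  have hdefG : Cfsg.blockDefect p B₁ = (Nat.card G).factorization p - c.factorization p := by
    unfold Cfsg.blockDefect
    rw [← hχ₀min]
  have hdefN : Cfsg.blockDefect p b = (Nat.card N).factorization p - sInf (fN '' b) := rfl
  have hidxf : N.index.factorization p = k := by
    rw [hk]
    simp [Nat.Prime.factorization_pow hp.out]
  rw [hidxf] at hd₁ hd₂
  have hj0 : j = 0 := by omega
  have hνd : d.factorization p = sInf (fN '' b) := by omega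
  refine ⟨θ, hθ, ?_, χ₀, ?_⟩
  · unfold Cfsg.blockHeight
    change d.factorization p - sInf (fN '' b) = 0
    omega
  · apply hzs_restrict_eq N χ₀ θ hcon
    rw [← hc1, ← hd1]
    rw [hj0, pow_zero] at hqj
    rw [hq, hqj, mul_one]

end

section

variable {A B : Type*} [Group A] [Group B]

theorem hzs_blockHeight_tr [Finite A] [Finite B] (p : ℕ) (e : A ≃* B)
    (b : Set (Cfsg.IrrCharacter B)) (θ' : Cfsg.IrrCharacter A) :
    Cfsg.blockHeight p b (ef_tr e.symm θ' : B → ℂ) =
      Cfsg.blockHeight p (bt_trb e b) (θ' : A → ℂ) := by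
  unfold Cfsg.blockHeight
  have h2 : (fun χ : Cfsg.IrrCharacter A => (Cfsg.charDegree (χ : A → ℂ)).factorization p) ''
      bt_trb e b =
      (fun χ : Cfsg.IrrCharacter B => (Cfsg.charDegree (χ : B → ℂ)).factorization p) '' b := by
    ext n
    constructor
    · rintro ⟨θ', hθ', rfl⟩
      refine ⟨ef_tr e.symm θ', hθ', ?_⟩
      simp only [bt_charDegree_tr]
    · rintro ⟨θ, hθ, rfl⟩
      refine ⟨ef_tr e θ, (bt_mem_trb e b θ).mpr hθ, ?_⟩
      simp only [bt_charDegree_tr]
  rw [h2, bt_charDegree_tr]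

end

section

variable {G : Type*} [Group G]

/-- a block `b` of a normal subgroup `H` has a height-zero member fixed by a Sylow `p`-subgroup
of the stabilizer of `b` (S4723) -/
theorem hzs_main [Finite G] (p : ℕ) [hp : Fact p.Prime] (M : Ideal Cfsg.AlgInt)
    (hM : Cfsg.IsPModular p M) (H : Subgroup G) [hH : H.Normal]
    (b : Set (Cfsg.IrrCharacter ↥H)) (hb : Cfsg.IsPBlock M b) (T : Subgroup G)
    (hT : ∀ g : G, g ∈ T ↔ ∀ θ ∈ b, ∀ θ' : Cfsg.IrrCharacter ↥H,
      (∀ h h' : ↥H, (h' : G) = g * h * g⁻¹ → (θ' : ↥H → ℂ) h' = (θ : ↥H → ℂ) h) → θ' ∈ b)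
    (Q : Sylow p ↥T) :
    ∃ θ ∈ b, Cfsg.blockHeight p b (θ : ↥H → ℂ) = 0 ∧
      ∀ t : ↥T, t ∈ (Q : Subgroup ↥T) → ∀ h h' : ↥H, (h' : G) = (t : G) * h * (t : G)⁻¹ →
        (θ : ↥H → ℂ) h' = (θ : ↥H → ℂ) h := by
  classical
  have hMp := hM.2.1.isPrime
  -- H ≤ T
  have hHT : H ≤ T := by
    intro g hg
    rw [hT]
    intro θ hθ θ' hθ'
    have : θ' = θ := by
      apply Subtype.ext
      funext h'
      have h1 := hθ' ⟨g⁻¹ * (h' : G) * g, by
        have := hH.conj_mem (h' : G) h'.2 g⁻¹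
        simpa using this⟩ h' (by simp [mul_assoc])
      rw [h1]
      have h2 := irr_conj_invariant θ h' (⟨g⁻¹, H.inv_mem hg⟩ : ↥H)
      rw [← h2]
      refine congrArg (θ : ↥H → ℂ) ?_
      apply Subtype.ext
      simp
    rw [this]
    exact hθ
  set Q' : Subgroup G := (Q : Subgroup ↥T).map T.subtype with hQ'
  have hQ'T : Q' ≤ T := by
    rintro g ⟨t, _, rfl⟩
    exact t.2
  have hQ'p : IsPGroup p Q' := Q.isPGroup'.map T.subtype
  set X : Subgroup G := Q' ⊔ H with hX
  have hHX : H ≤ X := le_sup_right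
  have hXT : X ≤ T := sup_le hQ'T hHT
  set N' : Subgroup ↥X := H.subgroupOf X with hN'
  haveI hN'n : N'.Normal := Subgroup.normal_subgroupOf
  haveI : Fintype ↥X := Fintype.ofFinite _
  haveI : Fintype ↥N' := Fintype.ofFinite _
  haveI : Fintype ↥H := Fintype.ofFinite _
  -- index is a power of p
  have hidx : ∃ k : ℕ, N'.index = p ^ k := by
    have h1 : N'.index = H.relIndex X := rfl
    have h2 : H.relIndex (Q' ⊔ H) = H.relIndex Q' := Subgroup.relIndex_sup_right Q' H
    have h3 : (Q' ⊓ H).relIndex Q' = H.relIndex Q' := Subgroup.inf_relIndex_left Q' H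
    obtain ⟨m, hm⟩ := IsPGroup.iff_card.mp hQ'p
    have h4 : (Q' ⊓ H).relIndex Q' ∣ Nat.card Q' := by
      have := Subgroup.index_dvd_card ((Q' ⊓ H).subgroupOf Q')
      exact this
    rw [hm] at h4
    obtain ⟨k, _, hk⟩ := (Nat.dvd_prime_pow hp.out).mp h4
    exact ⟨k, by rw [h1, hX, h2, ← h3, hk]⟩
  set e : ↥N' ≃* ↥H := Subgroup.subgroupOfEquivOfLe hHX with he
  have he_val : ∀ n : ↥N', ((e n : ↥H) : G) = ((n : ↥X) : G) := fun n => rfl
  set b' : Set (Cfsg.IrrCharacter ↥N') := bt_trb e b with hb'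
  have hb'blk : Cfsg.IsPBlock M b' := bt_trb_isPBlock e b hb
  -- stability
  have hinv' : fc_inv N' b' := by
    intro x θ' hθ'
    rw [hb', bt_mem_trb'] at hθ' ⊢
    have hxT : ((x : ↥X) : G)⁻¹ ∈ T := T.inv_mem (hXT x.2)
    refine (hT _).mp hxT _ hθ' _ ?_
    intro h h' hh'
    rw [ef_tr_apply, ef_tr_apply, fr_cj_val, cj_apply]
    refine congrArg (θ' : ↥N' → ℂ) ?_
    apply Subtype.ext
    apply Subtype.ext
    have h5 : (((e.symm h' : ↥N') : ↥X) : G) = (h' : G) := by
      have := he_val (e.symm h')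
      rw [MulEquiv.apply_symm_apply] at this
      exact this.symm
    have h6 : (((e.symm h : ↥N') : ↥X) : G) = (h : G) := by
      have := he_val (e.symm h)
      rw [MulEquiv.apply_symm_apply] at this
      exact this.symm
    simp only [Subgroup.coe_mul, Subgroup.coe_inv]
    rw [h5, h6, hh']
    group
  obtain ⟨θ', hθ', hht, χ, hχ⟩ := hzs_ppow p M hM N' hidx b' hb'blk hinv'
  refine ⟨ef_tr e.symm θ', hθ', ?_, ?_⟩
  · rw [hzs_blockHeight_tr p e b θ']
    exact hht
  · intro t ht h h' hh'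
    rw [ef_tr_apply, ef_tr_apply]
    have htX : (t : G) ∈ X := by
      apply Subgroup.mem_sup_left
      exact ⟨t, ht, rfl⟩
    rw [← congrFun hχ (e.symm h'), ← congrFun hχ (e.symm h)]
    have h5 : (((e.symm h' : ↥N') : ↥X) : G) = (h' : G) := by
      have := he_val (e.symm h')
      rw [MulEquiv.apply_symm_apply] at this
      exact this.symm
    have h6 : (((e.symm h : ↥N') : ↥X) : G) = (h : G) := by
      have := he_val (e.symm h)
      rw [MulEquiv.apply_symm_apply] at this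
      exact this.symm
    have h7 := irr_conj_invariant χ ((e.symm h : ↥N') : ↥X) (⟨(t : G), htX⟩ : ↥X)
    rw [← h7]
    refine congrArg (χ : ↥X → ℂ) ?_
    apply Subtype.ext
    simp only [Subgroup.coe_mul, Subgroup.coe_inv]
    rw [h5, h6, hh']

end

end Cfsg.Agent.Lib.Helper26
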