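import Mathlib
import Cfsg.Prelude.Def_Blocks
import Cfsg.Agent.Lib.Helper26.HeightZeroStable
import Cfsg.Agent.Lib.Helper25.HeightZeroCrit
import Cfsg.Agent.Lib.Helper25.HeightZeroInd
import Cfsg.Agent.Lib.Helper25.BlockOrthReg
import Cfsg.Agent.Lib.Helper25.CentralDefect

/-!
If a block `B` of `G` covers a block `b` of the normal subgroup `N`, every member of `b` lies
under a member of `B` (`cva_main`, S4432).  The argument compares `p`-regular inner products.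
-/

set_option autoImplicit false
set_option linter.style.haveILetI false
set_option linter.unusedSectionVars false
set_option linter.unusedVariables false

namespace Cfsg.Agent.Lib.Helper26

open scoped ComplexConjugate Pointwise
open Cfsg.Agent.Lib.Helper24 Cfsg.Agent.Lib.Helper25 Cfsg.Agent.Lib.Helper11
open Cfsg.Agent.Lib.helper2 Cfsg.Agent.Lib.helper7

section

variable {G : Type*} [Group G]

/-- if the `p`-regular part of `χ|_N` (with `χ` in the block `B`) is not orthogonal to `θ'`,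
then some member of `B` lies over `θ'` -/
theorem cva_star [Fintype G] (p : ℕ) [hp : Fact p.Prime] {M : Ideal Cfsg.AlgInt}
    (hM : Cfsg.IsPModular p M) (N : Subgroup G) [Fintype N]
    (χ₁ χ : Cfsg.IrrCharacter G) (hχ : χ ∈ Cfsg.blockOf M (χ₁ : G → ℂ))
    (θ' : Cfsg.IrrCharacter N)
    (h : Cfsg.classInner (Cfsg.pRegularPart p (fun n : N => (χ : G → ℂ) n)) (θ' : N → ℂ) ≠ 0) :
    ∃ ξ ∈ Cfsg.blockOf M (χ₁ : G → ℂ),
      Cfsg.classInner (fun n : N => (ξ : G → ℂ) n) (θ' : N → ℂ) ≠ 0 := by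
  classical
  haveI : Fintype (Cfsg.IrrCharacter G) := Fintype.ofFinite _
  by_contra hcon
  have hcon' : ∀ ξ ∈ Cfsg.blockOf M (χ₁ : G → ℂ),
      Cfsg.classInner (fun n : N => (ξ : G → ℂ) n) (θ' : N → ℂ) = 0 := by
    intro ξ hξ
    by_contra hne
    exact hcon ⟨ξ, hξ, hne⟩
  apply h
  have hcl : ∀ g k : G, Cfsg.pRegularPart p (χ : G → ℂ) (k * g * k⁻¹) =
      Cfsg.pRegularPart p (χ : G → ℂ) g :=
    fun g k => cd_pRegularPart_conj p _ (fun g h => irr_conj_invariant χ g h) g k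
  have hexp := classFunction_expansion (Cfsg.pRegularPart p (χ : G → ℂ)) hcl
  have hres : Cfsg.pRegularPart p (fun n : N => (χ : G → ℂ) n) =
      ∑ ξ : Cfsg.IrrCharacter G, Cfsg.classInner (Cfsg.pRegularPart p (χ : G → ℂ)) (ξ : G → ℂ) •
        (fun n : N => (ξ : G → ℂ) n) := by
    funext n
    rw [hi_pRegularPart_restrict p N (χ : G → ℂ) n]
    conv_lhs => rw [hexp]
    simp only [Finset.sum_apply, Pi.smul_apply, smul_eq_mul]
  rw [hres, classInner_sum_left]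
  apply Finset.sum_eq_zero
  intro ξ _
  rw [classInner_smul_left]
  by_cases hξ : ξ ∈ Cfsg.blockOf M (χ₁ : G → ℂ)
  · rw [hcon' ξ hξ, mul_zero]
  · rw [cd_inner_reg_symm, cd_block_orth hM χ₁ ξ hξ χ hχ, map_zero, zero_mul]

variable (N : Subgroup G) [hN : N.Normal]

theorem cva_pRegularPart_cj (p : ℕ) (f : N → ℂ) (g : G) :
    Cfsg.pRegularPart p (cj N f g) = cj N (Cfsg.pRegularPart p f) g := by
  funext n
  rw [cj_apply]
  have ho : orderOf (⟨g * n * g⁻¹, hN.conj_mem n n.2 g⟩ : N) = orderOf n := by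
    rw [← Subgroup.orderOf_coe, ← Subgroup.orderOf_coe]
    have hc : IsConj (n : G) (g * (n : G) * g⁻¹) := isConj_iff.mpr ⟨g, rfl⟩
    exact (h7_isConj_orderOf hc).symm
  by_cases hn : p ∣ orderOf n
  · rw [br_pRegularPart_sing p _ n hn, br_pRegularPart_sing p f _ (ho ▸ hn)]
  · rw [br_pRegularPart_reg p _ n hn, br_pRegularPart_reg p f _ (ho ▸ hn), cj_apply]

theorem cva_cj_cj_inv (f : N → ℂ) (g : G) : cj N (cj N f g) g⁻¹ = f := by
  rw [cj_mul, mul_inv_cancel, cj_one]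

theorem cva_cj_inv_cj (f : N → ℂ) (g : G) : cj N (cj N f g⁻¹) g = f := by
  rw [cj_mul, inv_mul_cancel, cj_one]

theorem cva_classInner_cj_right [Fintype N] (φ ψ : N → ℂ) (g : G) :
    Cfsg.classInner φ (cj N ψ g) = Cfsg.classInner (cj N φ g⁻¹) ψ := by
  have := h7_classInner_cj_cj N (cj N φ g⁻¹) ψ g
  rw [cva_cj_inv_cj] at this
  exact this

/-- the sum over `G` of the `p`-regular inner products with the conjugates of `θ₂` -/
noncomputable def cva_W [Fintype G] [Fintype N] (p : ℕ) (θ₂ θ' : N → ℂ) : ℂ :=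
  ∑ g : G, Cfsg.classInner (Cfsg.pRegularPart p (cj N θ₂ g)) θ'

theorem cva_W_symm [Fintype G] [Fintype N] (p : ℕ) (θ₂ θ' : N → ℂ) :
    cva_W N p θ₂ θ' = conj (cva_W N p θ' θ₂) := by
  unfold cva_W
  rw [map_sum, ← Equiv.sum_comp (Equiv.inv G)]
  refine Finset.sum_congr rfl fun g _ => ?_
  rw [Equiv.inv_apply, cd_inner_reg_symm, cva_classInner_cj_right, inv_inv,
    cva_pRegularPart_cj]

theorem cva_pRegularPart_smul_sum {H : Type*} [Group H] (p : ℕ) {ι : Type*} (s : Finset ι)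
    (c : ℂ) (f : ι → H → ℂ) :
    Cfsg.pRegularPart p (c • ∑ i ∈ s, f i) = c • ∑ i ∈ s, Cfsg.pRegularPart p (f i) := by
  funext n
  by_cases hn : p ∣ orderOf n
  · rw [br_pRegularPart_sing p _ n hn]
    simp only [Pi.smul_apply, Finset.sum_apply, smul_eq_mul]
    rw [Finset.sum_eq_zero, mul_zero]
    intro i _
    exact br_pRegularPart_sing p _ n hn
  · rw [br_pRegularPart_reg p _ n hn]
    simp only [Pi.smul_apply, Finset.sum_apply, smul_eq_mul]
    congr 1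
    refine Finset.sum_congr rfl fun i _ => ?_
    rw [br_pRegularPart_reg p _ n hn]

/-- summing over the group versus summing over the distinct conjugates -/
theorem cva_sum_cj [Fintype G] [DecidableEq (N → ℂ)] (θ : N → ℂ) (F : (N → ℂ) → ℂ) :
    ∑ g : G, F (cj N θ g) =
      ((Finset.univ.filter (fun a : G => cj N θ a = θ)).card : ℂ) *
        ∑ ψ ∈ Finset.univ.image (fun g : G => cj N θ g), F ψ := by
  classical
  rw [Finset.sum_comp F (fun g : G => cj N θ g), Finset.mul_sum]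
  refine Finset.sum_congr rfl fun ψ hψ => ?_
  obtain ⟨g₀, -, rfl⟩ := Finset.mem_image.mp hψ
  rw [nsmul_eq_mul]
  congr 2
  apply Finset.card_bij (fun a _ => a * g₀⁻¹)
  · intro a ha
    rw [Finset.mem_filter] at ha ⊢
    refine ⟨Finset.mem_univ _, ?_⟩
    rw [← cj_mul, ha.2, cva_cj_cj_inv]
  · intro a _ a' _ h
    exact mul_right_cancel h
  · intro a ha
    rw [Finset.mem_filter] at ha
    refine ⟨a * g₀, ?_, by group⟩
    rw [Finset.mem_filter]
    refine ⟨Finset.mem_univ _, ?_⟩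
    rw [← cj_mul, ha.2]

theorem cva_fiber_pos [Fintype G] [DecidableEq (N → ℂ)] (θ : N → ℂ) :
    0 < (Finset.univ.filter (fun a : G => cj N θ a = θ)).card := by
  apply Finset.card_pos.mpr
  refine ⟨1, ?_⟩
  rw [Finset.mem_filter]
  exact ⟨Finset.mem_univ _, cj_one N θ⟩

/-- the `p`-regular part of `χ|_N` against `θ'` is a nonzero multiple of `W(θ₂, θ')` when `χ`
lies over `θ₂` -/
theorem cva_V_eq [Fintype G] [Fintype N] (p : ℕ) (χ : Cfsg.IrrCharacter G)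
    (θ₂ : Cfsg.IrrCharacter N)
    (hcon : Cfsg.classInner (fun n : N => (χ : G → ℂ) n) (θ₂ : N → ℂ) ≠ 0) :
    ∃ c : ℂ, c ≠ 0 ∧ ∀ θ' : N → ℂ,
      Cfsg.classInner (Cfsg.pRegularPart p (fun n : N => (χ : G → ℂ) n)) θ' =
        c * cva_W N p (θ₂ : N → ℂ) θ' := by
  classical
  obtain ⟨e, he, -, hexp⟩ := h7_clifford N (χ : G → ℂ) χ.2 (θ₂ : N → ℂ) θ₂.2 hcon
  set k := (Finset.univ.filter (fun a : G => cj N (θ₂ : N → ℂ) a = (θ₂ : N → ℂ))).card with hk
  have hkpos : 0 < k := cva_fiber_pos N (θ₂ : N → ℂ)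
  have hk0 : (k : ℂ) ≠ 0 := by exact_mod_cast hkpos.ne'
  have he0 : (e : ℂ) ≠ 0 := by exact_mod_cast he.ne'
  refine ⟨(e : ℂ) / (k : ℂ), div_ne_zero he0 hk0, ?_⟩
  intro θ'
  unfold cva_W
  rw [cva_sum_cj N (θ₂ : N → ℂ) (fun ψ => Cfsg.classInner (Cfsg.pRegularPart p ψ) θ'), ← hk,
    hexp, cva_pRegularPart_smul_sum, classInner_smul_left, classInner_sum_left]
  field_simp

theorem cva_tilde_cj [Finite N] (p : ℕ) (f : N → ℂ) (g : G) :
    hz_tilde p (cj N f g) = cj N (hz_tilde p f) g := by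
  rw [hz_tilde_eq, hz_tilde_eq, cva_pRegularPart_cj]
  rfl

theorem cva_r_cj [Fintype N] (p : ℕ) (φ ψ : N → ℂ) (g : G) :
    hz_r p (cj N φ g) (cj N ψ g) = hz_r p φ ψ := by
  unfold hz_r
  rw [cva_tilde_cj, h7_classInner_cj_cj, cj_apply]
  congr 2
  apply Subtype.ext
  simp

/-- membership in the stabilizer of a set of irreducible characters of `N` -/
theorem cva_stab_iff [Finite N] (b : Set (Cfsg.IrrCharacter N)) (g : G) :
    (letI := h7_irrAction N; g ∈ MulAction.stabilizer G b) ↔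
      ∀ θ ∈ b, ∀ θ' : Cfsg.IrrCharacter N,
        (∀ h h' : ↥N, (h' : G) = g * h * g⁻¹ → (θ' : N → ℂ) h' = (θ : N → ℂ) h) → θ' ∈ b := by
  letI := h7_irrAction N
  haveI : Finite (Cfsg.IrrCharacter N) := inferInstance
  have hfin : b.Finite := Set.toFinite b
  rw [MulAction.mem_stabilizer_set_iff_smul_set_subset hfin]
  constructor
  · intro hsub θ hθ θ' hθ'
    have : θ' = g • θ := by
      apply Subtype.ext
      funext n
      change (θ' : N → ℂ) n =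
        (θ : N → ℂ) ⟨g⁻¹ * n * g⁻¹⁻¹, hN.conj_mem (n : G) n.2 g⁻¹⟩
      apply hθ'
      simp [mul_assoc]
    rw [this]
    exact hsub (Set.smul_mem_smul_set hθ)
  · intro h x hx
    obtain ⟨θ, hθ, rfl⟩ := hx
    apply h θ hθ
    intro n n' hn
    change (θ : N → ℂ) ⟨g⁻¹ * n' * g⁻¹⁻¹, hN.conj_mem (n' : G) n'.2 g⁻¹⟩ = _
    refine congrArg (θ : N → ℂ) (Subtype.ext ?_)
    change g⁻¹ * (n' : G) * g⁻¹⁻¹ = (n : G)
    rw [hn]
    simp [mul_assoc]

theorem cva_frcj_eq (g : G) (ψ : Cfsg.IrrCharacter N) :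
    fr_cj N g ψ = (letI := h7_irrAction N; g⁻¹ • ψ) := by
  apply Subtype.ext
  change cj N (ψ : N → ℂ) g = cj N (ψ : N → ℂ) g⁻¹⁻¹
  rw [inv_inv]

/-- a block `b` of `N` has a member `θ₀` with `W(θ₀, θ') ≠ 0` for all `θ' ∈ b` -/
theorem cva_W_ne [Fintype G] [Fintype N] (p : ℕ) [hp : Fact p.Prime] (M : Ideal Cfsg.AlgInt)
    (hM : Cfsg.IsPModular p M) (b : Set (Cfsg.IrrCharacter N)) (hb : Cfsg.IsPBlock M b) :
    ∃ θ₀ ∈ b, ∀ θ' ∈ b, cva_W N p (θ₀ : N → ℂ) (θ' : N → ℂ) ≠ 0 := by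
  classical
  letI act : MulAction G (Cfsg.IrrCharacter N) := h7_irrAction N
  have hMp := hM.2.1.isPrime
  haveI : Fintype (Cfsg.IrrCharacter N) := Fintype.ofFinite _
  set T : Subgroup G := MulAction.stabilizer G b with hTdef
  have hT := fun g => cva_stab_iff N b g
  obtain ⟨Q⟩ : Nonempty (Sylow p ↥T) := inferInstance
  obtain ⟨θ₀, hθ₀, hht, hfix⟩ := hzs_main p M hM N b hb T hT Q
  refine ⟨θ₀, hθ₀, ?_⟩
  intro θ' hθ'
  obtain ⟨θ₁, hbeq⟩ := hb
  have hmemb : ∀ ψ : Cfsg.IrrCharacter N, ψ ∈ b ↔ Cfsg.SameBlock M (θ₁ : N → ℂ) (ψ : N → ℂ) := by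
    intro ψ
    rw [hbeq]
    rfl
  set imageIrr : Finset (Cfsg.IrrCharacter N) := Finset.univ.image (fun g : G => fr_cj N g θ₀)
    with himg
  set A' : Finset (Cfsg.IrrCharacter N) := imageIrr.filter (fun θ => θ ∈ b) with hA'
  set a := (Nat.card N).factorization p with ha
  have hpa : ((p ^ a : ℕ) : ℂ) ≠ 0 := by
    exact_mod_cast pow_ne_zero _ hp.out.ne_zero
  have hθ'1 : (θ' : N → ℂ) 1 ≠ 0 := irr_one_ne_zero θ'
  -- step 1 and 2
  have h12 : cva_W N p (θ₀ : N → ℂ) (θ' : N → ℂ) =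
      ((Finset.univ.filter (fun a : G => cj N (θ₀ : N → ℂ) a = (θ₀ : N → ℂ))).card : ℂ) *
        ∑ θ ∈ imageIrr, Cfsg.classInner (Cfsg.pRegularPart p (θ : N → ℂ)) (θ' : N → ℂ) := by
    unfold cva_W
    rw [cva_sum_cj N (θ₀ : N → ℂ)
      (fun ψ => Cfsg.classInner (Cfsg.pRegularPart p ψ) (θ' : N → ℂ))]
    congr 1
    have : Finset.univ.image (fun g : G => cj N (θ₀ : N → ℂ) g) =
        imageIrr.image Subtype.val := by
      rw [himg, Finset.image_image]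
      rfl
    rw [this, Finset.sum_image (fun x _ y _ h => Subtype.ext h)]
  -- step 3
  have h3 : ∑ θ ∈ imageIrr, Cfsg.classInner (Cfsg.pRegularPart p (θ : N → ℂ)) (θ' : N → ℂ) =
      ∑ θ ∈ A', Cfsg.classInner (Cfsg.pRegularPart p (θ : N → ℂ)) (θ' : N → ℂ) := by
    rw [hA']
    symm
    apply Finset.sum_filter_of_ne
    intro θ _ hne
    by_contra hθb
    apply hne
    rw [hbeq] at hθb hθ'
    exact cd_block_orth hM θ₁ θ hθb θ' hθ'
  -- step 4
  have h4 : ∀ θ : Cfsg.IrrCharacter N,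
      Cfsg.classInner (Cfsg.pRegularPart p (θ : N → ℂ)) (θ' : N → ℂ) =
        (θ' : N → ℂ) 1 / ((p ^ a : ℕ) : ℂ) * hz_r p (θ : N → ℂ) (θ' : N → ℂ) := by
    intro θ
    unfold hz_r
    rw [hz_tilde_eq, classInner_smul_left, ← ha]
    field_simp
  -- step 6: the cardinality of A' is prime to p
  have hAset : (A' : Set (Cfsg.IrrCharacter N)) = MulAction.orbit ↥T θ₀ := by
    ext θ
    constructor
    · intro hθ
      rw [Finset.mem_coe, hA', Finset.mem_filter] at hθ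
      obtain ⟨hθim, hθb⟩ := hθ
      obtain ⟨g, -, rfl⟩ := Finset.mem_image.mp hθim
      have hgT : g⁻¹ ∈ T := by
        rw [hTdef, MulAction.mem_stabilizer_set_iff_smul_set_subset (Set.toFinite _)]
        rintro x ⟨ψ, hψ, rfl⟩
        change g⁻¹ • ψ ∈ b
        rw [← cva_frcj_eq N g ψ, hmemb]
        have h1 : Cfsg.SameBlock M (θ₀ : N → ℂ) (ψ : N → ℂ) :=
          h7_sameBlock_trans hMp (h7_sameBlock_symm ((hmemb θ₀).mp hθ₀)) ((hmemb ψ).mp hψ)
        have h2 := fr_sameBlock_cj N g _ _ h1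
        exact h7_sameBlock_trans hMp ((hmemb _).mp hθb) h2
      rw [MulAction.mem_orbit_iff]
      refine ⟨⟨g⁻¹, hgT⟩, ?_⟩
      rw [cva_frcj_eq N g θ₀]
      rfl
    · rintro ⟨t, rfl⟩
      rw [Finset.mem_coe, hA', Finset.mem_filter]
      constructor
      · rw [himg, Finset.mem_image]
        exact ⟨(t : G)⁻¹, Finset.mem_univ _, by rw [cva_frcj_eq N _ θ₀, inv_inv]; rfl⟩
      · have ht : (t : G) • b = b := MulAction.mem_stabilizer_iff.mp t.2
        have h1 : (t : G) • θ₀ ∈ (t : G) • b := Set.smul_mem_smul_set hθ₀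
        rw [ht] at h1
        exact h1
  have hcard : A'.card = (MulAction.stabilizer ↥T θ₀).index := by
    rw [MulAction.index_stabilizer, ← hAset, Set.ncard_coe_finset]
  have hQle : (Q : Subgroup ↥T) ≤ MulAction.stabilizer ↥T θ₀ := by
    intro t ht
    rw [MulAction.mem_stabilizer_iff]
    apply Subtype.ext
    funext n
    change (θ₀ : N → ℂ) ⟨(t : G)⁻¹ * n * (t : G)⁻¹⁻¹, hN.conj_mem (n : G) n.2 (t : G)⁻¹⟩ =
      (θ₀ : N → ℂ) n
    exact (hfix t ht ⟨(t : G)⁻¹ * n * (t : G)⁻¹⁻¹, hN.conj_mem (n : G) n.2 (t : G)⁻¹⟩ n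
      (by simp [mul_assoc])).symm
  have hcop : Nat.Coprime A'.card p := by
    rw [hcard]
    have h1 := Subgroup.index_dvd_of_le hQle
    have h2 := Q.not_dvd_index
    exact ((Nat.Prime.coprime_iff_not_dvd hp.out).mpr (fun h => h2 (dvd_trans h h1))).symm
  -- step 5
  set u := hz_r p (θ₀ : N → ℂ) (θ₀ : N → ℂ) with hu
  have hθ₀' : θ₀ ∈ Cfsg.blockOf M (θ₁ : N → ℂ) := hbeq ▸ hθ₀
  have hunit : ¬ Cfsg.MemLocalIdeal M u := by
    have := (hz_iff p M hM θ₁ θ₀ θ₀ hθ₀' hθ₀').mp (hbeq ▸ hht)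
    exact this
  have hdiff : Cfsg.MemLocalIdeal M
      (∑ θ ∈ A', (hz_r p (θ : N → ℂ) (θ' : N → ℂ) - u)) := by
    apply h7_memLocalIdeal_sum hMp
    intro θ hθ
    rw [hA', Finset.mem_filter] at hθ
    obtain ⟨hθim, hθb⟩ := hθ
    obtain ⟨g, -, rfl⟩ := Finset.mem_image.mp hθim
    have h1 : hz_r p (fr_cj N g θ₀ : N → ℂ) (fr_cj N g θ₀ : N → ℂ) = u := by
      rw [fr_cj_val, cva_r_cj]
    rw [← h1]
    apply hz_r_congr p hM
    exact h7_sameBlock_trans hMp (h7_sameBlock_symm ((hmemb θ').mp hθ')) ((hmemb _).mp hθb)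
  have hcu : ¬ Cfsg.MemLocalIdeal M ((A'.card : ℂ) * u) := by
    intro hmem
    apply hunit
    have h1 := h7_memLocalIdeal_mul_left hMp (h7_memLocalRing_inv_natCast hM A'.card hcop) hmem
    have hc0 : (A'.card : ℂ) ≠ 0 := by
      intro h0
      have : A'.card = 0 := by exact_mod_cast h0
      rw [this] at hcop
      rw [Nat.coprime_zero_left] at hcop
      exact hp.out.one_lt.ne' hcop
    have h2 : ((A'.card : ℂ))⁻¹ * ((A'.card : ℂ) * u) = u := by
      field_simp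
    rw [h2] at h1
    exact h1
  have hS : ¬ Cfsg.MemLocalIdeal M (∑ θ ∈ A', hz_r p (θ : N → ℂ) (θ' : N → ℂ)) := by
    intro hmem
    apply hcu
    have h1 := h7_memLocalIdeal_sub hMp hmem hdiff
    have h2 : ∑ θ ∈ A', hz_r p (θ : N → ℂ) (θ' : N → ℂ) -
        ∑ θ ∈ A', (hz_r p (θ : N → ℂ) (θ' : N → ℂ) - u) = (A'.card : ℂ) * u := by
      rw [Finset.sum_sub_distrib, Finset.sum_const, nsmul_eq_mul]
      ring
    rw [h2] at h1
    exact h1
  have hS0 : ∑ θ ∈ A', hz_r p (θ : N → ℂ) (θ' : N → ℂ) ≠ 0 := by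
    intro h0
    apply hS
    rw [h0]
    exact h7_memLocalIdeal_zero hMp
  rw [h12, h3, Finset.sum_congr rfl (fun θ _ => h4 θ), ← Finset.mul_sum]
  have hk0 : ((Finset.univ.filter
      (fun a : G => cj N (θ₀ : N → ℂ) a = (θ₀ : N → ℂ))).card : ℂ) ≠ 0 := by
    exact_mod_cast (cva_fiber_pos N (θ₀ : N → ℂ)).ne'
  exact mul_ne_zero hk0 (mul_ne_zero (div_ne_zero hθ'1 hpa) hS0)

/-- if `B` covers `b`, every member of `b` lies under a member of `B` (S4432) -/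
theorem cva_main [Fintype G] [Fintype N] (p : ℕ) [hp : Fact p.Prime] (M : Ideal Cfsg.AlgInt)
    (hM : Cfsg.IsPModular p M) (B : Set (Cfsg.IrrCharacter G)) (hB : Cfsg.IsPBlock M B)
    (b : Set (Cfsg.IrrCharacter N)) (hb : Cfsg.IsPBlock M b)
    (hcov : ∃ χ ∈ B, ∃ θ ∈ b,
      Cfsg.classInner (fun n : N => (χ : G → ℂ) n) (θ : N → ℂ) ≠ 0)
    (θ : Cfsg.IrrCharacter N) (hθ : θ ∈ b) :
    ∃ χ ∈ B, Cfsg.classInner (fun n : N => (χ : G → ℂ) n) (θ : N → ℂ) ≠ 0 := by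
  classical
  obtain ⟨θ₀, hθ₀, hW⟩ := cva_W_ne N p M hM b hb
  obtain ⟨χ₁, hχ₁, θ₁, hθ₁, hcon₁⟩ := hcov
  obtain ⟨χ', rfl⟩ := hB
  -- first: some member of B lies over θ₀
  have h0 : ∃ χ₀ ∈ Cfsg.blockOf M (χ' : G → ℂ),
      Cfsg.classInner (fun n : N => (χ₀ : G → ℂ) n) (θ₀ : N → ℂ) ≠ 0 := by
    apply cva_star p hM N χ' χ₁ hχ₁ θ₀
    obtain ⟨c, hc, hV⟩ := cva_V_eq N p χ₁ θ₁ hcon₁
    rw [hV, cva_W_symm]
    refine mul_ne_zero hc ?_
    intro h
    apply hW θ₁ hθ₁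
    have := congrArg (starRingEnd ℂ) h
    rw [Complex.conj_conj, map_zero] at this
    exact this
  obtain ⟨χ₀, hχ₀, hcon₀⟩ := h0
  apply cva_star p hM N χ' χ₀ hχ₀ θ
  obtain ⟨c, hc, hV⟩ := cva_V_eq N p χ₀ θ₀ hcon₀
  rw [hV]
  exact mul_ne_zero hc (hW θ hθ)

end

end Cfsg.Agent.Lib.Helper26
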