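import Mathlib
import Cfsg.Prelude.Def_Blocks
import Cfsg.Prelude.Def_Local
import Cfsg.Agent.Lib.Helper26.CoverAll
import Cfsg.Agent.Lib.Helper24.FongPIndex
import Cfsg.Agent.S0963

/-!
Towards Fong's theorem on `p`-solvable groups (S4492): the characters lying over a stable block
of a normal subgroup form one block when the index is a power of `p` (`fps_step_p`), or prime to
`p` under a class-size condition (`fps_step_pprime`).
-/

set_option autoImplicit false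
set_option linter.style.haveILetI false
set_option linter.unusedSectionVars false
set_option linter.unusedVariables false

namespace Cfsg.Agent.Lib.Helper26

open scoped ComplexConjugate Pointwise
open Cfsg.Agent.Lib.Helper24 Cfsg.Agent.Lib.Helper25 Cfsg.Agent.Lib.Helper11
open Cfsg.Agent.Lib.helper2 Cfsg.Agent.Lib.helper7

section

variable {G : Type*} [Group G]

/-- degree of a character lying over a `p'`-degree character of a normal subgroup of index prime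
to `p` is prime to `p` -/
theorem fps_deg_coprime [Fintype G] (p : ℕ) [hp : Fact p.Prime] (K : Subgroup G) [hK : K.Normal]
    [Fintype K] (hidx : K.index.Coprime p) (χ : Cfsg.IrrCharacter G) (ψ : Cfsg.IrrCharacter K)
    (hcon : Cfsg.classInner (fun n : K => (χ : G → ℂ) n) (ψ : K → ℂ) ≠ 0)
    (hdeg : ¬ p ∣ Cfsg.charDegree (ψ : K → ℂ)) : ¬ p ∣ Cfsg.charDegree (χ : G → ℂ) := by
  obtain ⟨-, hcpos, hc1⟩ := h7_charDegree_props χ
  obtain ⟨-, hdpos, hd1⟩ := h7_charDegree_props ψ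
  obtain ⟨hdvd, hquot⟩ := Cfsg.Agent.S0887.result K (χ : G → ℂ) χ.2 (ψ : K → ℂ) ψ.2 hcon
    (Cfsg.charDegree (χ : G → ℂ)) (Cfsg.charDegree (ψ : K → ℂ)) hc1.symm hd1.symm
  obtain ⟨q, hq⟩ := hdvd
  rw [hq, Nat.mul_div_cancel_left _ hdpos] at hquot
  rw [hq]
  intro h
  rcases (Nat.Prime.dvd_mul hp.out).mp h with h1 | h1
  · exact hdeg h1
  · have h2 : p ∣ K.index := dvd_trans h1 hquot
    exact (Nat.Prime.coprime_iff_not_dvd hp.out).mp hidx.symm h2

/-- the case of index prime to `p` -/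
theorem fps_step_pprime [Fintype G] (p : ℕ) [hp : Fact p.Prime] {M : Ideal Cfsg.AlgInt}
    (hM : Cfsg.IsPModular p M) (K : Subgroup G) [hK : K.Normal] [Fintype K]
    (hidx : K.index.Coprime p) (c : Set (Cfsg.IrrCharacter K)) (hc : Cfsg.IsPBlock M c)
    (hinv : fc_inv K c) (ψ₀ : Cfsg.IrrCharacter K) (hψ₀ : ψ₀ ∈ c)
    (hdeg : ¬ p ∣ Cfsg.charDegree (ψ₀ : K → ℂ))
    (hcls : ∀ x : G, x ∉ K → p ∣ (Subgroup.centralizer ({x} : Set G)).index) :
    Cfsg.IsPBlock M (h7_over K c) ∧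
      ∃ χ ∈ h7_over K c, ¬ p ∣ Cfsg.charDegree (χ : G → ℂ) := by
  classical
  have hMp := hM.2.1.isPrime
  haveI : Fintype (Cfsg.IrrCharacter G) := Fintype.ofFinite _
  haveI : Fintype (Cfsg.IrrCharacter K) := Fintype.ofFinite _
  obtain ⟨χ₀, hχ₀⟩ := itn_exists_over K ψ₀
  have hχ₀deg := fps_deg_coprime p K hidx χ₀ ψ₀ hχ₀ hdeg
  have hχ₀mem : χ₀ ∈ h7_over K c := ⟨ψ₀, hψ₀, hχ₀⟩
  -- (b) members of p'-degree are in the block of χ₀
  have hb : ∀ χ ∈ h7_over K c, ¬ p ∣ Cfsg.charDegree (χ : G → ℂ) →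
      Cfsg.SameBlock M (χ₀ : G → ℂ) (χ : G → ℂ) := by
    rintro χ ⟨ψ, hψ, hcon⟩ hχdeg g
    by_cases hg : g ∈ K
    · have h1 := (Cfsg.Agent.S0963.result K χ₀ ψ₀).mp hχ₀ ⟨g, hg⟩
      have h2 := (Cfsg.Agent.S0963.result K χ ψ).mp hcon ⟨g, hg⟩
      have h1' : Cfsg.centralChar (χ₀ : G → ℂ) g =
          Cfsg.inducedCentralChar K (ψ₀ : K → ℂ) g := h1
      have h2' : Cfsg.centralChar (χ : G → ℂ) g =
          Cfsg.inducedCentralChar K (ψ : K → ℂ) g := h2
      rw [h1', h2']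
      obtain ⟨r, hr, hm1⟩ := fc_icc_cong K hMp c hc hinv ψ₀ hψ₀ ⟨g, hg⟩
      obtain ⟨r', hr', hm2⟩ := fc_icc_cong K hMp c hc hinv ψ hψ ⟨g, hg⟩
      have hrr : r = r' := by
        have hpos : 0 < (Subgroup.centralizer ({(⟨g, hg⟩ : K)} : Set K)).index :=
          Nat.pos_of_ne_zero Subgroup.index_ne_zero_of_finite
        exact Nat.eq_of_mul_eq_mul_right hpos (hr.trans hr'.symm)
      subst hrr
      have hsame : Cfsg.SameBlock M (ψ₀ : K → ℂ) (ψ : K → ℂ) := by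
        obtain ⟨ψ₁, rfl⟩ := hc
        exact h7_sameBlock_trans hMp (h7_sameBlock_symm hψ₀) hψ
      have hm3 := h7_memLocalIdeal_mul_left hMp (h7_memLocalRing_natCast hMp r)
        (hsame (⟨g, hg⟩ : K))
      have hm4 := h7_memLocalIdeal_add hMp (h7_memLocalIdeal_sub hMp hm1 hm2) hm3
      have e : Cfsg.inducedCentralChar K (ψ₀ : K → ℂ) g -
          Cfsg.inducedCentralChar K (ψ : K → ℂ) g =
          (Cfsg.inducedCentralChar K (ψ₀ : K → ℂ) ((⟨g, hg⟩ : K) : G) -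
            (r : ℂ) * Cfsg.centralChar (ψ₀ : K → ℂ) (⟨g, hg⟩ : K)) -
          (Cfsg.inducedCentralChar K (ψ : K → ℂ) ((⟨g, hg⟩ : K) : G) -
            (r : ℂ) * Cfsg.centralChar (ψ : K → ℂ) (⟨g, hg⟩ : K)) +
          (r : ℂ) * (Cfsg.centralChar (ψ₀ : K → ℂ) (⟨g, hg⟩ : K) -
            Cfsg.centralChar (ψ : K → ℂ) (⟨g, hg⟩ : K)) := by
        ring
      rw [e]
      exact hm4
    · have hzero : ∀ ξ : Cfsg.IrrCharacter G, ¬ p ∣ Cfsg.charDegree (ξ : G → ℂ) →
          Cfsg.MemLocalIdeal M (Cfsg.centralChar (ξ : G → ℂ) g) := by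
        intro ξ hξ
        obtain ⟨m, hm⟩ := hcls g hg
        obtain ⟨-, hdpos, hd1⟩ := h7_charDegree_props ξ
        have hcop : (Cfsg.charDegree (ξ : G → ℂ)).Coprime p :=
          ((Nat.Prime.coprime_iff_not_dvd hp.out).mpr hξ).symm
        unfold Cfsg.centralChar
        rw [hm, ← hd1]
        have e : ((p * m : ℕ) : ℂ) * (ξ : G → ℂ) g / ((Cfsg.charDegree (ξ : G → ℂ) : ℕ) : ℂ) =
            (p : ℂ) * ((m : ℂ) * (ξ : G → ℂ) g *
              ((Cfsg.charDegree (ξ : G → ℂ) : ℕ) : ℂ)⁻¹) := by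
          push_cast
          ring
        rw [e]
        apply h7_memLocalIdeal_mul_right hMp (h7_memLocalIdeal_p hM)
        exact h7_memLocalRing_mul hMp (h7_memLocalRing_mul hMp (h7_memLocalRing_natCast hMp m)
          (h7_memLocalRing_of_isIntegral hMp (irr_integral ξ g)))
          (h7_memLocalRing_inv_natCast hM _ hcop)
      exact h7_memLocalIdeal_sub hMp (hzero χ₀ hχ₀deg) (hzero χ hχdeg)
  -- (c) all members are in the block of χ₀
  have hcAll : ∀ χ ∈ h7_over K c, Cfsg.SameBlock M (χ₀ : G → ℂ) (χ : G → ℂ) := by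
    rintro χ ⟨ψ, hψ, hcon⟩
    obtain ⟨ξ, hξ, hξcon⟩ := cva_main K p M hM (Cfsg.blockOf M (χ : G → ℂ)) ⟨χ, rfl⟩ c hc
      ⟨χ, h7_sameBlock_refl hMp _, ψ, hψ, hcon⟩ ψ₀ hψ₀
    have hξdeg := fps_deg_coprime p K hidx ξ ψ₀ hξcon hdeg
    have h1 := hb ξ ⟨ψ₀, hψ₀, hξcon⟩ hξdeg
    exact h7_sameBlock_trans hMp h1 (h7_sameBlock_symm hξ)
  refine ⟨⟨χ₀, ?_⟩, χ₀, hχ₀mem, hχ₀deg⟩
  apply Set.Subset.antisymm
  · intro χ hχ
    exact hcAll χ hχ
  · intro χ hχ
    exact fc_over_closed hM K c hc hinv χ₀ χ hχ hχ₀mem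

/-- the case of `p`-power index -/
theorem fps_step_p [Fintype G] (p : ℕ) [hp : Fact p.Prime] {M : Ideal Cfsg.AlgInt}
    (hM : Cfsg.IsPModular p M) (K : Subgroup G) [hK : K.Normal] [Fintype K]
    (hidx : ∃ k : ℕ, K.index = p ^ k) (c : Set (Cfsg.IrrCharacter K)) (hc : Cfsg.IsPBlock M c)
    (hinv : fc_inv K c) (ψ₀ : Cfsg.IrrCharacter K) (hψ₀ : ψ₀ ∈ c)
    (hdeg : ¬ p ∣ Cfsg.charDegree (ψ₀ : K → ℂ)) :
    Cfsg.IsPBlock M (h7_over K c) ∧
      ∃ χ ∈ h7_over K c, ¬ p ∣ Cfsg.charDegree (χ : G → ℂ) := by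
  classical
  haveI : Fintype (Cfsg.IrrCharacter K) := Fintype.ofFinite _
  refine ⟨(fp_over_is_block hM K hidx c hc hinv).1, ?_⟩
  obtain ⟨θ, hθ, hht, χ, hχ⟩ := hzs_ppow p M hM K hidx c hc hinv
  have hθdeg : ¬ p ∣ Cfsg.charDegree (θ : K → ℂ) := by
    unfold Cfsg.blockHeight at hht
    have h1 : sInf ((fun ψ : Cfsg.IrrCharacter K =>
        (Cfsg.charDegree (ψ : K → ℂ)).factorization p) '' c) ≤
        (Cfsg.charDegree (ψ₀ : K → ℂ)).factorization p := Nat.sInf_le ⟨ψ₀, hψ₀, rfl⟩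
    have h2 : (Cfsg.charDegree (ψ₀ : K → ℂ)).factorization p = 0 :=
      Nat.factorization_eq_zero_of_not_dvd hdeg
    have h3 : (Cfsg.charDegree (θ : K → ℂ)).factorization p = 0 := by omega
    intro hdvd
    have hpos := (h7_charDegree_props θ).2.1
    have := (hp.out.factorization_pos_of_dvd hpos.ne' hdvd)
    omega
  have hχ1 : (χ : G → ℂ) 1 = (θ : K → ℂ) 1 := congrFun hχ 1
  refine ⟨χ, ⟨θ, hθ, ?_⟩, ?_⟩
  · rw [hχ]
    have := irr_classInner θ θ
    rw [if_pos rfl] at this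
    rw [this]
    exact one_ne_zero
  · have : Cfsg.charDegree (χ : G → ℂ) = Cfsg.charDegree (θ : K → ℂ) := by
      unfold Cfsg.charDegree
      rw [hχ1]
    rw [this]
    exact hθdeg

/-- if `C_G(Q) ≤ K` for a `p`-subgroup `Q` and the normal subgroup `K`, the classes outside `K`
have size divisible by `p` -/
theorem fps_cls [Finite G] (p : ℕ) [hp : Fact p.Prime] (K : Subgroup G) [hK : K.Normal]
    (Q : Subgroup G) (hQ : IsPGroup p Q) (hCQ : Subgroup.centralizer (Q : Set G) ≤ K)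
    (x : G) (hx : x ∉ K) : p ∣ (Subgroup.centralizer ({x} : Set G)).index := by
  classical
  by_contra hnd
  set H : Subgroup G := Subgroup.centralizer ({x} : Set G) with hH
  obtain ⟨P₀⟩ : Nonempty (Sylow p ↥H) := inferInstance
  set Q₀ : Subgroup G := (P₀ : Subgroup ↥H).map H.subtype with hQ₀
  have hQ₀H : Q₀ ≤ H := Subgroup.map_subtype_le _
  have hcardQ₀ : Nat.card Q₀ = p ^ (Nat.card G).factorization p := by
    have h1 : Nat.card Q₀ = Nat.card (P₀ : Subgroup ↥H) :=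
      (Nat.card_congr ((P₀ : Subgroup ↥H).equivMapOfInjective H.subtype
        H.subtype_injective).toEquiv).symm
    rw [h1, Sylow.card_eq_multiplicity]
    congr 1
    have h2 : Nat.card G = Nat.card H * H.index := (Subgroup.card_mul_index H).symm
    rw [h2, Nat.factorization_mul Nat.card_pos.ne' Subgroup.index_ne_zero_of_finite]
    simp [Nat.factorization_eq_zero_of_not_dvd hnd]
  let P : Sylow p G := Sylow.ofCard Q₀ hcardQ₀
  obtain ⟨P', hP'⟩ := hQ.exists_le_sylow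
  obtain ⟨g, hg⟩ := MulAction.exists_smul_eq G P P'
  apply hx
  have hmem : g * x * g⁻¹ ∈ Subgroup.centralizer (Q : Set G) := by
    rw [Subgroup.mem_centralizer_iff]
    intro q hq
    have hq' : q ∈ (P' : Subgroup G) := hP' hq
    rw [← hg, Sylow.coe_subgroup_smul, Subgroup.mem_pointwise_smul_iff_inv_smul_mem] at hq'
    have hq'' : g⁻¹ * q * g ∈ Q₀ := by
      have : (MulAut.conj g)⁻¹ • q = g⁻¹ * q * g := by
        simp [MulAut.smul_def, MulAut.conj_inv_apply]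
      rw [this] at hq'
      exact hq'
    have hcomm := Subgroup.mem_centralizer_singleton_iff.mp (hQ₀H hq'')
    calc q * (g * x * g⁻¹) = g * ((g⁻¹ * q * g) * x) * g⁻¹ := by group
      _ = g * (x * (g⁻¹ * q * g)) * g⁻¹ := by rw [hcomm]
      _ = g * x * g⁻¹ * q := by group
  have h4 := hCQ hmem
  have h5 := hK.conj_mem _ h4 g⁻¹
  have e : g⁻¹ * (g * x * g⁻¹) * g⁻¹⁻¹ = x := by group
  rw [e] at h5
  exact h5

end

end Cfsg.Agent.Lib.Helper26
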