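import Mathlib
import Cfsg.Prelude.Def_Blocks
import Cfsg.Prelude.Def_Local
import Cfsg.Agent.Lib.Helper26.FongPSolv
import Cfsg.Agent.Lib.Helper24.BlockTransport

/-!
Towards Fong's theorem on `p`-solvable groups (S4492): lying over in stages, for a tower
`L ≤ K ≤ G` of subgroups.
-/

set_option autoImplicit false
set_option linter.style.haveILetI false
set_option linter.unusedSectionVars false
set_option linter.unusedVariables false

namespace Cfsg.Agent.Lib.Helper26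

open scoped ComplexConjugate Pointwise
open Cfsg.Agent.Lib.Helper24 Cfsg.Agent.Lib.Helper25 Cfsg.Agent.Lib.Helper11
open Cfsg.Agent.Lib.helper2 Cfsg.Agent.Lib.helper7

section

variable {G : Type*} [Group G]

/-- the irreducible characters of `K` lying over a member of the set `c` of irreducible characters
of the subgroup `L ≤ K` -/
def fps_ovs (L K : Subgroup G) (hLK : L ≤ K) [Fintype L] (c : Set (Cfsg.IrrCharacter L)) :
    Set (Cfsg.IrrCharacter K) :=
  {ψ | ∃ φ ∈ c, Cfsg.classInner (fun l : L => (ψ : K → ℂ) ⟨(l : G), hLK l.2⟩) (φ : L → ℂ) ≠ 0}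

theorem fps_inner_stage [Fintype G] (L K : Subgroup G) (hLK : L ≤ K) [Fintype L] [Fintype K]
    [Fintype (Cfsg.IrrCharacter K)] (χ : Cfsg.IrrCharacter G) (φ : Cfsg.IrrCharacter L) :
    Cfsg.classInner (fun l : L => (χ : G → ℂ) l) (φ : L → ℂ) =
      ∑ ψ : Cfsg.IrrCharacter K, Cfsg.classInner (fun k : K => (χ : G → ℂ) k) (ψ : K → ℂ) *
        Cfsg.classInner (fun l : L => (ψ : K → ℂ) ⟨(l : G), hLK l.2⟩) (φ : L → ℂ) := by
  classical
  set f : K → ℂ := fun k => (χ : G → ℂ) k with hf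
  have hfc : ∀ g h : K, f (h * g * h⁻¹) = f g := by
    intro g h
    exact irr_conj_invariant χ (g : G) (h : G)
  have hexp := classFunction_expansion f hfc
  have h1 : (fun l : L => (χ : G → ℂ) l) =
      ∑ ψ : Cfsg.IrrCharacter K, Cfsg.classInner f (ψ : K → ℂ) •
        (fun l : L => (ψ : K → ℂ) ⟨(l : G), hLK l.2⟩) := by
    funext l
    have h2 := congrFun hexp ⟨(l : G), hLK l.2⟩
    rw [Finset.sum_apply] at h2 ⊢
    exact h2
  rw [h1, classInner_sum_left]
  apply Finset.sum_congr rfl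
  intro ψ _
  rw [classInner_smul_left]

theorem fps_over_stage [Fintype G] (L K : Subgroup G) (hLK : L ≤ K) [Fintype L] [Fintype K]
    (c : Set (Cfsg.IrrCharacter L)) : h7_over K (fps_ovs L K hLK c) = h7_over L c := by
  classical
  haveI : Fintype (Cfsg.IrrCharacter K) := Fintype.ofFinite _
  have hnat1 : ∀ (χ : Cfsg.IrrCharacter G) (ψ : Cfsg.IrrCharacter K), ∃ m : ℕ,
      Cfsg.classInner (fun k : K => (χ : G → ℂ) k) (ψ : K → ℂ) = (m : ℂ) := fun χ ψ =>
    classInner_character_nat (isCharacter_restrict (isCharacter_of_irr χ) K) (isCharacter_of_irr ψ)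
  have hnat2 : ∀ (ψ : Cfsg.IrrCharacter K) (φ : Cfsg.IrrCharacter L), ∃ m : ℕ,
      Cfsg.classInner (fun l : L => (ψ : K → ℂ) ⟨(l : G), hLK l.2⟩) (φ : L → ℂ) = (m : ℂ) :=
    fun ψ φ => classInner_character_nat
      (isCharacter_comp_hom (isCharacter_of_irr ψ) (Subgroup.inclusion hLK)) (isCharacter_of_irr φ)
  choose a ha using hnat1
  choose b hb using hnat2
  have hkey : ∀ (χ : Cfsg.IrrCharacter G) (φ : Cfsg.IrrCharacter L),
      Cfsg.classInner (fun l : L => (χ : G → ℂ) l) (φ : L → ℂ) =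
        ((∑ ψ : Cfsg.IrrCharacter K, a χ ψ * b ψ φ : ℕ) : ℂ) := by
    intro χ φ
    rw [fps_inner_stage L K hLK χ φ]
    push_cast
    apply Finset.sum_congr rfl
    intro ψ _
    rw [ha, hb]
  ext χ
  constructor
  · rintro ⟨ψ, ⟨φ, hφ, h2⟩, h1⟩
    refine ⟨φ, hφ, ?_⟩
    rw [hkey]
    rw [ha] at h1
    rw [hb] at h2
    have h1' : a χ ψ ≠ 0 := by exact_mod_cast h1
    have h2' : b ψ φ ≠ 0 := by exact_mod_cast h2
    have : 0 < ∑ ψ : Cfsg.IrrCharacter K, a χ ψ * b ψ φ := by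
      apply Finset.sum_pos'
      · intro i _
        exact Nat.zero_le _
      · exact ⟨ψ, Finset.mem_univ _, Nat.mul_pos (Nat.pos_of_ne_zero h1') (Nat.pos_of_ne_zero h2')⟩
    exact_mod_cast this.ne'
  · rintro ⟨φ, hφ, h⟩
    rw [hkey] at h
    have h' : ∑ ψ : Cfsg.IrrCharacter K, a χ ψ * b ψ φ ≠ 0 := by exact_mod_cast h
    obtain ⟨ψ, _, hψ⟩ := Finset.exists_ne_zero_of_sum_ne_zero h'
    have h1 : a χ ψ ≠ 0 := left_ne_zero_of_mul hψ
    have h2 : b ψ φ ≠ 0 := right_ne_zero_of_mul hψ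
    refine ⟨ψ, ⟨φ, hφ, ?_⟩, ?_⟩
    · rw [hb]
      exact_mod_cast h2
    · rw [ha]
      exact_mod_cast h1

end

end Cfsg.Agent.Lib.Helper26
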