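import Mathlib
import Cfsg.Prelude.Def_Blocks
import Cfsg.Prelude.Def_Local
import Cfsg.Agent.Lib.Helper26.FongPSolv2
import Cfsg.Agent.Lib.Helper22.SpanOrbit

/-!
Towards Fong's theorem on `p`-solvable groups (S4492): transport along `↥(L.subgroupOf K) ≃* ↥L`,
stability of the set of characters lying over a stable set.
-/

set_option autoImplicit false
set_option linter.style.haveILetI false
set_option linter.unusedSectionVars false
set_option linter.unusedVariables false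

namespace Cfsg.Agent.Lib.Helper26

open scoped ComplexConjugate Pointwise
open Cfsg.Agent.Lib.Helper24 Cfsg.Agent.Lib.Helper25 Cfsg.Agent.Lib.Helper11
open Cfsg.Agent.Lib.helper2 Cfsg.Agent.Lib.helper7

section

variable {G : Type*} [Group G]

theorem fps_over_tr (L K : Subgroup G) (hLK : L ≤ K) [Fintype L] [Fintype (L.subgroupOf K)]
    (c : Set (Cfsg.IrrCharacter L)) :
    h7_over (L.subgroupOf K) (bt_trb (Subgroup.subgroupOfEquivOfLe hLK) c) =
      fps_ovs L K hLK c := by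
  classical
  set e : ↥(L.subgroupOf K) ≃* ↥L := Subgroup.subgroupOfEquivOfLe hLK with he
  have he_val : ∀ n : ↥(L.subgroupOf K), ((e n : ↥L) : G) = ((n : ↥K) : G) := fun n => rfl
  have hres : ∀ ψ : Cfsg.IrrCharacter K,
      (fun a : ↥(L.subgroupOf K) => (fun l : L => (ψ : K → ℂ) ⟨(l : G), hLK l.2⟩) (e a)) =
        fun a : ↥(L.subgroupOf K) => (ψ : K → ℂ) a := by
    intro ψ
    funext a
    rfl
  ext ψ
  constructor
  · rintro ⟨θ', hθ', hcon⟩
    refine ⟨ef_tr e.symm θ', hθ', ?_⟩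
    have h1 := h7_classInner_comp_equiv e (fun l : L => (ψ : K → ℂ) ⟨(l : G), hLK l.2⟩)
      (ef_tr e.symm θ' : L → ℂ)
    rw [← h1, hres ψ]
    have h2 : (fun a : ↥(L.subgroupOf K) => (ef_tr e.symm θ' : L → ℂ) (e a)) =
        (θ' : ↥(L.subgroupOf K) → ℂ) := by
      funext a
      rw [ef_tr_apply, MulEquiv.symm_apply_apply]
    rw [h2]
    exact hcon
  · rintro ⟨φ, hφ, hcon⟩
    refine ⟨ef_tr e φ, (bt_mem_trb e c φ).mpr hφ, ?_⟩
    have h1 := h7_classInner_comp_equiv e (fun l : L => (ψ : K → ℂ) ⟨(l : G), hLK l.2⟩)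
      (φ : L → ℂ)
    rw [hres ψ] at h1
    have h2 : (fun a : ↥(L.subgroupOf K) => (φ : L → ℂ) (e a)) =
        (ef_tr e φ : ↥(L.subgroupOf K) → ℂ) := rfl
    rw [h2] at h1
    rw [h1]
    exact hcon

theorem fps_inv_ovs (L K : Subgroup G) (hLK : L ≤ K) [hL : L.Normal] [hK : K.Normal] [Fintype L]
    (c : Set (Cfsg.IrrCharacter L)) (hinv : fc_inv L c) : fc_inv K (fps_ovs L K hLK c) := by
  rintro g ψ ⟨φ, hφ, hcon⟩
  refine ⟨fr_cj L g φ, hinv g φ hφ, ?_⟩
  have h1 : (fun l : L => (fr_cj K g ψ : K → ℂ) ⟨(l : G), hLK l.2⟩) =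
      cj L (fun l : L => (ψ : K → ℂ) ⟨(l : G), hLK l.2⟩) g := by
    funext l
    rfl
  rw [h1, fr_cj_val, h7_classInner_cj_cj]
  exact hcon

theorem fps_inv_tr (L K : Subgroup G) (hLK : L ≤ K) [hL : L.Normal]
    (c : Set (Cfsg.IrrCharacter L)) (hinv : fc_inv L c) :
    fc_inv (L.subgroupOf K) (bt_trb (Subgroup.subgroupOfEquivOfLe hLK) c) := by
  set e : ↥(L.subgroupOf K) ≃* ↥L := Subgroup.subgroupOfEquivOfLe hLK with he
  intro x θ' hθ'
  rw [bt_mem_trb'] at hθ' ⊢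
  have h1 := hinv (x : G) _ hθ'
  have h2 : ef_tr e.symm (fr_cj (L.subgroupOf K) x θ') = fr_cj L (x : G) (ef_tr e.symm θ') := by
    apply Subtype.ext
    funext l
    rw [ef_tr_apply, fr_cj_val, fr_cj_val, cj_apply, cj_apply, ef_tr_apply]
    refine congrArg (θ' : ↥(L.subgroupOf K) → ℂ) ?_
    apply Subtype.ext
    apply Subtype.ext
    rfl
  rw [h2]
  exact h1

end

end Cfsg.Agent.Lib.Helper26
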