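import Mathlib
import Cfsg.Prelude.Def_Blocks
import Cfsg.Prelude.Def_Local
import Cfsg.Agent.Lib.Helper26.FongPSolv3

/-!
Towards Fong's theorem on `p`-solvable groups (S4492): the induction along a `p`-series above a
normal subgroup `L` containing a `p`-subgroup `Q` with `C_X(Q) ≤ L`.
-/

set_option autoImplicit false
set_option linter.style.haveILetI false
set_option linter.unusedSectionVars false
set_option linter.unusedVariables false

namespace Cfsg.Agent.Lib.Helper26

open scoped ComplexConjugate Pointwise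
open Cfsg.Agent.Lib.Helper24 Cfsg.Agent.Lib.Helper25 Cfsg.Agent.Lib.Helper11
open Cfsg.Agent.Lib.helper2 Cfsg.Agent.Lib.helper7
open Cfsg.Agent.Lib.Helper22.SpanOrbit

universe u

theorem fps_induct (p : ℕ) [hp : Fact p.Prime] {M : Ideal Cfsg.AlgInt}
    (hM : Cfsg.IsPModular p M) :
    ∀ (n : ℕ) (X : Type u) [Group X] [Fintype X], Nat.card X = n → Cfsg.IsPSolvable p X →
    ∀ (L : Subgroup X) [L.Normal] [Fintype L] (Q : Subgroup X), IsPGroup p Q → Q ≤ L →
      Subgroup.centralizer (Q : Set X) ≤ L →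
      ∀ (c : Set (Cfsg.IrrCharacter L)), Cfsg.IsPBlock M c → fc_inv L c →
      (∃ ψ₀ ∈ c, ¬ p ∣ Cfsg.charDegree (ψ₀ : L → ℂ)) →
      Cfsg.IsPBlock M (h7_over L c) ∧
        ∃ χ ∈ h7_over L c, ¬ p ∣ Cfsg.charDegree (χ : X → ℂ) := by
  intro n
  induction n using Nat.strong_induction_on with
  | _ n ih =>
    intro X _ _ hcard hsolv L hLn _ Q hQ hQL hCQ c hc hinv hex0
    obtain ⟨ψ₀, hψ₀, hdeg⟩ := hex0
    by_cases hLtop : L = ⊤
    · exact fps_step_p p hM L ⟨0, by rw [hLtop, Subgroup.index_top, pow_zero]⟩ c hc hinv ψ₀ hψ₀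
        hdeg
    · have hsolv' := hsolv
      obtain ⟨m, H, h0, hlast, hmono, hnorm, hfac⟩ := hsolv'
      have hex : ∃ i : Fin m, L ⊔ H i.castSucc ≠ ⊤ ∧ L ⊔ H i.succ = ⊤ := by
        by_contra hno
        have hall : ∀ j : Fin (m + 1), L ⊔ H j ≠ ⊤ := by
          intro j
          induction j using Fin.induction with
          | zero =>
            rw [h0, sup_bot_eq]
            exact hLtop
          | succ i ihj =>
            intro h
            exact hno ⟨i, ihj, h⟩
        exact hall (Fin.last m) (by rw [hlast, sup_top_eq])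
      obtain ⟨i, hi1, hi2⟩ := hex
      have hK : ∃ K : Subgroup X, K = L ⊔ H i.castSucc := ⟨_, rfl⟩
      obtain ⟨K, hKdef⟩ := hK
      haveI hKn : K.Normal := by
        have := hnorm i.castSucc
        rw [hKdef]
        exact Subgroup.sup_normal L (H i.castSucc)
      have hLK : L ≤ K := hKdef ▸ le_sup_left
      have hHK : H i.castSucc ≤ K := hKdef ▸ le_sup_right
      have hKtop : K ≠ ⊤ := hKdef ▸ hi1
      have hidx : K.index ∣ (H i.castSucc).relIndex (H i.succ) := by
        have h1 : H i.succ ⊔ K = ⊤ := by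
          have h2 : H i.castSucc ≤ H i.succ := hmono (Fin.castSucc_lt_succ).le
          apply le_antisymm le_top
          rw [← hi2]
          exact sup_le (hLK.trans le_sup_right) le_sup_left
        have h3 : K.index = K.relIndex (H i.succ ⊔ K) := by
          rw [h1, Subgroup.relIndex_top_right]
        rw [h3, Subgroup.relIndex_sup_right]
        exact Subgroup.relIndex_dvd_of_le_left (H i.succ) hHK
      haveI : Fintype ↥K := Fintype.ofFinite _
      haveI : Fintype ↥(L.subgroupOf K) := Fintype.ofFinite _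
      have hcardK : Nat.card ↥K < n := by
        rw [← hcard]
        apply lt_of_le_of_ne (Subgroup.card_le_card_group K)
        intro h
        exact hKtop (Subgroup.card_eq_iff_eq_top K |>.mp h)
      have hQ' : IsPGroup p (Q.subgroupOf K) := hQ.comap_subtype
      have hQL' : Q.subgroupOf K ≤ L.subgroupOf K := Subgroup.comap_mono hQL
      have hCQ' : Subgroup.centralizer ((Q.subgroupOf K : Subgroup ↥K) : Set ↥K) ≤
          L.subgroupOf K := by
        intro x hx
        rw [Subgroup.mem_subgroupOf]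
        apply hCQ
        rw [Subgroup.mem_centralizer_iff] at hx ⊢
        intro q hq
        have := hx ⟨q, hLK (hQL hq)⟩ (by
          rw [SetLike.mem_coe, Subgroup.mem_subgroupOf]
          exact hq)
        exact congrArg Subtype.val this
      obtain ⟨hblk, ψ₁, hψ₁, hdeg₁⟩ := ih (Nat.card ↥K) hcardK ↥K rfl (pSolvable_subgroup hsolv K)
        (L.subgroupOf K) (Q.subgroupOf K) hQ' hQL' hCQ'
        (bt_trb (Subgroup.subgroupOfEquivOfLe hLK) c)
        (bt_trb_isPBlock (Subgroup.subgroupOfEquivOfLe hLK) c hc) (fps_inv_tr L K hLK c hinv)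
        ⟨ef_tr (Subgroup.subgroupOfEquivOfLe hLK) ψ₀,
          (bt_mem_trb (Subgroup.subgroupOfEquivOfLe hLK) c ψ₀).mpr hψ₀, by
            rw [bt_charDegree_tr]
            exact hdeg⟩
      rw [fps_over_tr L K hLK c] at hblk hψ₁
      have hinvK := fps_inv_ovs L K hLK c hinv
      have hres : Cfsg.IsPBlock M (h7_over K (fps_ovs L K hLK c)) ∧
          ∃ χ ∈ h7_over K (fps_ovs L K hLK c), ¬ p ∣ Cfsg.charDegree (χ : X → ℂ) := by
        rcases hfac i with ⟨k, hk⟩ | hcop
        · rw [hk] at hidx
          obtain ⟨j, _, hj⟩ := (Nat.dvd_prime_pow hp.out).mp hidx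
          exact fps_step_p p hM K ⟨j, hj⟩ _ hblk hinvK ψ₁ hψ₁ hdeg₁
        · have hcopK : K.index.Coprime p := Nat.Coprime.coprime_dvd_left hidx hcop
          exact fps_step_pprime p hM K hcopK _ hblk hinvK ψ₁ hψ₁ hdeg₁
            (fun x hx => fps_cls p K Q hQ (hCQ.trans hLK) x hx)
      rw [fps_over_stage L K hLK c] at hres
      exact hres

end Cfsg.Agent.Lib.Helper26
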