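import Mathlib
import Cfsg.Prelude.Def_Blocks
import Cfsg.Prelude.Def_Local
import Cfsg.Agent.Lib.Helper26.FongPSolv4
import Cfsg.Agent.Lib.Helper5.PConstr
import Cfsg.Agent.Lib.helper7.BlockDefGrp
import Cfsg.Agent.S0629
import Cfsg.Agent.S0914
import Cfsg.Agent.S0906
import Cfsg.Agent.S0908

/-!
Fong's theorem on `p`-solvable groups (S4492): the irreducible characters lying over an invariant
irreducible character of `O_{p'}(G)` form one block, with Sylow defect groups.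
-/

set_option autoImplicit false
set_option linter.style.haveILetI false
set_option linter.unusedSectionVars false
set_option linter.unusedVariables false

namespace Cfsg.Agent.Lib.Helper26

open scoped ComplexConjugate Pointwise
open Cfsg.Agent.Lib.Helper24 Cfsg.Agent.Lib.Helper25 Cfsg.Agent.Lib.Helper11
open Cfsg.Agent.Lib.helper2 Cfsg.Agent.Lib.helper7
open Cfsg.Agent.Lib.Helper22.SpanOrbit

universe u

/-- a block with a member of degree prime to `p` has the Sylow `p`-subgroups as defect groups -/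
theorem fps_defect_sylow {G : Type u} [Group G] [Fintype G] (p : ℕ) [hp : Fact p.Prime]
    (M : Ideal Cfsg.AlgInt) (hM : Cfsg.IsPModular p M) (B : Set (Cfsg.IrrCharacter G))
    (hB : Cfsg.IsPBlock M B) (χ₁ : Cfsg.IrrCharacter G) (hχ₁ : χ₁ ∈ B)
    (hdeg : ¬ p ∣ Cfsg.charDegree (χ₁ : G → ℂ)) :
    (∀ P : Sylow p G, Cfsg.IsDefectGroup p M B (P : Subgroup G)) ∧
      ∀ D : Subgroup G, Cfsg.IsDefectGroup p M B D → ∃ P : Sylow p G, D = (P : Subgroup G) := by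
  classical
  have hdef : Cfsg.blockDefect p B = (Nat.card G).factorization p := by
    unfold Cfsg.blockDefect
    have h1 : sInf ((fun χ : Cfsg.IrrCharacter G =>
        (Cfsg.charDegree (χ : G → ℂ)).factorization p) '' B) ≤
        (Cfsg.charDegree (χ₁ : G → ℂ)).factorization p := Nat.sInf_le ⟨χ₁, hχ₁, rfl⟩
    have h2 : (Cfsg.charDegree (χ₁ : G → ℂ)).factorization p = 0 :=
      Nat.factorization_eq_zero_of_not_dvd hdeg
    omega
  have hsyl : ∀ D : Subgroup G, Cfsg.IsDefectGroup p M B D →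
      ∃ P : Sylow p G, D = (P : Subgroup G) := by
    intro D hD
    have hcard := Cfsg.Agent.S0908.result p M hM B hB D hD
    rw [hdef] at hcard
    exact ⟨Sylow.ofCard D hcard, (Sylow.coe_ofCard D hcard).symm⟩
  refine ⟨?_, hsyl⟩
  intro P
  obtain ⟨g, hg⟩ := Cfsg.Agent.S0906.result p M hM B hB
  obtain ⟨P₁⟩ : Nonempty (Sylow p ↥(Subgroup.centralizer ({g} : Set G))) := inferInstance
  have hD₀ : Cfsg.IsDefectGroup p M B
      ((P₁ : Subgroup ↥(Subgroup.centralizer ({g} : Set G))).map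
        (Subgroup.centralizer ({g} : Set G)).subtype) := ⟨g, hg, P₁, rfl⟩
  obtain ⟨P₀, hP₀⟩ := hsyl _ hD₀
  obtain ⟨x, hx⟩ := MulAction.exists_smul_eq G P₀ P
  have h3 := h7_isDefectGroup_conj p M B _ hD₀ x
  rw [hP₀] at h3
  have h4 : (P : Subgroup G) = (P₀ : Subgroup G).map (MulAut.conj x).toMonoidHom := by
    rw [← hx]
    rfl
  rw [h4]
  exact h3

theorem fps_main {G : Type u} [Group G] [Fintype G] (p : ℕ) [hp : Fact p.Prime]
    (M : Ideal Cfsg.AlgInt) (hM : Cfsg.IsPModular p M) (hsolv : Cfsg.IsPSolvable p G)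
    (N : Subgroup G) [hN : N.Normal] [Fintype N] (hNdef : N = Cfsg.pPrimeCore p G)
    (θ : Cfsg.IrrCharacter N)
    (hinv : ∀ (g : G) (n : N),
      (θ : N → ℂ) ⟨g * n * g⁻¹, hN.conj_mem n n.2 g⟩ = (θ : N → ℂ) n) :
    ∃ B : Set (Cfsg.IrrCharacter G), Cfsg.IsPBlock M B ∧
      (∀ χ : Cfsg.IrrCharacter G, χ ∈ B ↔
        Cfsg.classInner (fun n : N => (χ : G → ℂ) n) (θ : N → ℂ) ≠ 0) ∧
      (∀ P : Sylow p G, Cfsg.IsDefectGroup p M B (P : Subgroup G)) ∧
      ∀ D : Subgroup G, Cfsg.IsDefectGroup p M B D → ∃ P : Sylow p G, D = (P : Subgroup G) := by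
  classical
  subst hNdef
  have hcopN : (Nat.card ↥(Cfsg.pPrimeCore p G)).Coprime p :=
    Cfsg.Agent.Lib.Helper1.pPrimeCore_card_coprime p
  obtain ⟨hθdvd, hθpos, -⟩ := h7_charDegree_props θ
  have hdeg0 : ¬ p ∣ Cfsg.charDegree (θ : ↥(Cfsg.pPrimeCore p G) → ℂ) := by
    intro h
    have h1 : p ∣ Nat.card ↥(Cfsg.pPrimeCore p G) := dvd_trans h hθdvd
    exact (Nat.Prime.coprime_iff_not_dvd hp.out).mp hcopN.symm h1
  have hc0 : Cfsg.IsPBlock M ({θ} : Set (Cfsg.IrrCharacter ↥(Cfsg.pPrimeCore p G))) := by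
    refine ⟨θ, ?_⟩
    symm
    rw [← Cfsg.Agent.S0914.result p M hM θ]
    intro h
    have h1 : p ∣ Nat.card ↥(Cfsg.pPrimeCore p G) :=
      dvd_trans h (Nat.div_dvd_of_dvd hθdvd)
    exact (Nat.Prime.coprime_iff_not_dvd hp.out).mp hcopN.symm h1
  have hinv0 : fc_inv (Cfsg.pPrimeCore p G)
      ({θ} : Set (Cfsg.IrrCharacter ↥(Cfsg.pPrimeCore p G))) := by
    intro g θ' hθ'
    rw [Set.mem_singleton_iff] at hθ' ⊢
    subst hθ'
    apply Subtype.ext
    funext n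
    rw [fr_cj_val, cj_apply]
    exact hinv g n
  -- the subgroup `L = O_{p',p}(G)`
  have hL : ∃ L : Subgroup G, L = Cfsg.pPrimePCore p G := ⟨_, rfl⟩
  obtain ⟨L, hLdef⟩ := hL
  haveI hLn : L.Normal := hLdef ▸ Cfsg.Agent.Lib.Helper5.h5_pPrimePCore_normal p G
  have hNL : Cfsg.pPrimeCore p G ≤ L :=
    hLdef ▸ Cfsg.Agent.Lib.Helper5.h5_pPrimeCore_le_pPrimePCore p G
  haveI : Fintype ↥L := Fintype.ofFinite _
  haveI : Fintype ↥((Cfsg.pPrimeCore p G).subgroupOf L) := Fintype.ofFinite _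
  have hidx : ∃ k : ℕ, ((Cfsg.pPrimeCore p G).subgroupOf L).index = p ^ k := by
    have h1 : ((Cfsg.pPrimeCore p G).subgroupOf L).index = (Cfsg.pPrimeCore p G).relIndex L := rfl
    have h2 : (Cfsg.pPrimeCore p G) =
        (⊥ : Subgroup (G ⧸ Cfsg.pPrimeCore p G)).comap
          (QuotientGroup.mk' (Cfsg.pPrimeCore p G)) := by
      rw [MonoidHom.comap_bot, QuotientGroup.ker_mk']
    have h3 : (Cfsg.pPrimeCore p G).relIndex L =
        Nat.card ↥(Cfsg.pCore p (G ⧸ Cfsg.pPrimeCore p G)) := by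
      conv_lhs => rw [h2]
      rw [Subgroup.relIndex_comap, Subgroup.relIndex_bot_left, hLdef]
      unfold Cfsg.pPrimePCore
      rw [Subgroup.map_comap_eq_self_of_surjective (QuotientGroup.mk'_surjective _)]
    have h4 : IsPGroup p ↥(Cfsg.pCore p (G ⧸ Cfsg.pPrimeCore p G)) :=
      Sylow.sSup_of_normal _ (fun _ h => h.2) (fun _ h => h.1)
    obtain ⟨k, hk⟩ := IsPGroup.iff_card.mp h4
    exact ⟨k, by rw [h1, h3, hk]⟩
  -- the `p`-subgroup `Q`
  have hPC : ∃ Q : Subgroup G, IsPGroup p Q ∧ Q ≤ L ∧ Subgroup.centralizer (Q : Set G) ≤ L := by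
    rw [hLdef]
    obtain ⟨P₀⟩ : Nonempty (Sylow p ↥(Cfsg.pPrimePCore p G)) := inferInstance
    refine ⟨(P₀ : Subgroup ↥(Cfsg.pPrimePCore p G)).map (Cfsg.pPrimePCore p G).subtype,
      P₀.isPGroup'.map _, Subgroup.map_subtype_le _, ?_⟩
    exact Cfsg.Agent.S0629.result P₀ (pSolvable_subgroup hsolv _) P₀
  obtain ⟨Q, hQ, hQL, hCQ⟩ := hPC
  -- the step from `N` to `L`
  obtain ⟨hblk, ψ₁, hψ₁, hdeg₁⟩ := fps_step_p p hM ((Cfsg.pPrimeCore p G).subgroupOf L) hidx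
    (bt_trb (Subgroup.subgroupOfEquivOfLe hNL) {θ})
    (bt_trb_isPBlock (Subgroup.subgroupOfEquivOfLe hNL) _ hc0)
    (fps_inv_tr (Cfsg.pPrimeCore p G) L hNL {θ} hinv0)
    (ef_tr (Subgroup.subgroupOfEquivOfLe hNL) θ)
    ((bt_mem_trb (Subgroup.subgroupOfEquivOfLe hNL) {θ} θ).mpr rfl)
    (by rw [bt_charDegree_tr]; exact hdeg0)
  rw [fps_over_tr (Cfsg.pPrimeCore p G) L hNL {θ}] at hblk hψ₁
  -- the induction from `L` to `G`
  obtain ⟨hblkG, χ₁, hχ₁, hdegχ₁⟩ := fps_induct p hM (Nat.card G) G rfl hsolv L Q hQ hQL hCQ _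
    hblk (fps_inv_ovs (Cfsg.pPrimeCore p G) L hNL {θ} hinv0) ⟨ψ₁, hψ₁, hdeg₁⟩
  rw [fps_over_stage (Cfsg.pPrimeCore p G) L hNL {θ}] at hblkG hχ₁
  refine ⟨h7_over (Cfsg.pPrimeCore p G) {θ}, hblkG, ?_, ?_⟩
  · intro χ
    constructor
    · rintro ⟨θ', hθ', h⟩
      rw [Set.mem_singleton_iff] at hθ'
      rw [hθ'] at h
      exact h
    · intro h
      exact ⟨θ, rfl, h⟩
  · exact fps_defect_sylow p M hM _ hblkG χ₁ hχ₁ hdegχ₁

end Cfsg.Agent.Lib.Helper26
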