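import Mathlib
import Cfsg.Agent.Lib.helper3.S5953.Defs2
import Cfsg.Prelude.Def_LieClassical
import Cfsg.Agent.Lib.Helper21.S5955N9

/-!
# S5953 rows N4 (core) + N5 (helper26): block sums — the block sum of contexts is a context, and the fixed space of a block sum of
fixed-point-free blocks is the last summand.
-/

set_option autoImplicit false

namespace Cfsg.Agent.Lib.helper3.S5953

open Polynomial Module

section
variable {F : Type*} [Field F]

/-- the `a`-th block of a vector -/
def s5953n4_blk {A : ℕ} {κ ω : Type*} (v : BIdx A κ ω → F) (a : Fin A) : κ → F :=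
  fun k => v (Sum.inl (a, k))

theorem s5953n4_blk_bsumX {A : ℕ} {κ : Type*} (ω : Type*) (y : Fin A → Module.End F (κ → F))
    (v : BIdx A κ ω → F) (a : Fin A) :
    s5953n4_blk (bsumX ω y v) a = y a (s5953n4_blk v a) := rfl

theorem s5953n4_bsumX_mul {A : ℕ} {κ : Type*} (ω : Type*) (y y' : Fin A → Module.End F (κ → F)) :
    bsumX ω y * bsumX ω y' = bsumX ω (fun a => y a * y' a) := by
  apply LinearMap.ext
  intro v
  funext j
  rcases j with ⟨a, k⟩ | o
  · rfl
  · rfl

theorem s5953n4_bsumX_one {A : ℕ} {κ : Type*} (ω : Type*) :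
    bsumX ω (fun _ : Fin A => (1 : Module.End F (κ → F))) = 1 := by
  apply LinearMap.ext
  intro v
  funext j
  rcases j with ⟨a, k⟩ | o
  · rfl
  · rfl

theorem s5953n4_bsumX_pow {A : ℕ} {κ : Type*} (ω : Type*) (y : Fin A → Module.End F (κ → F))
    (k : ℕ) : bsumX ω y ^ k = bsumX ω (fun a => y a ^ k) := by
  induction k with
  | zero =>
    simp only [pow_zero]
    exact (s5953n4_bsumX_one ω).symm
  | succ k ih =>
    rw [pow_succ, ih, s5953n4_bsumX_mul]
    rfl

/-- the hermitian form of a block index type splits -/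
theorem s5953n4_hermI_split {A : ℕ} {κ ω : Type*} [Fintype κ] [Fintype ω] (q : ℕ)
    (u v : BIdx A κ ω → F) :
    hermI (BIdx A κ ω) F q u v =
      (∑ a, hermI κ F q (s5953n4_blk u a) (s5953n4_blk v a)) +
        hermI ω F q (fun o => u (Sum.inr o)) (fun o => v (Sum.inr o)) := by
  unfold hermI
  rw [Fintype.sum_sum_type, Fintype.sum_prod_type]
  rfl

/-- N4 core: the block sum is a context (`z ≠ 0` is needed when there is no block) -/
theorem s5953n4_core {q r A : ℕ} {κ ω : Type*} [Fintype κ] [Fintype ω] {z : F}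
    (hz : z = 1 ∨ IsEmpty ω) (hz0 : z ≠ 0) (y : Fin A → Module.End F (κ → F))
    (hy : ∀ a, HCtx q r z (y a)) : HCtx q r z (bsumX ω y) := by
  refine ⟨?_, ?_, hz0⟩
  · intro u v
    rw [s5953n4_hermI_split, s5953n4_hermI_split]
    congr 1
    apply Finset.sum_congr rfl
    intro a _
    rw [s5953n4_blk_bsumX, s5953n4_blk_bsumX]
    exact (hy a).pres _ _
  · rw [s5953n4_bsumX_pow]
    apply LinearMap.ext
    intro v
    funext j
    rcases j with ⟨a, k⟩ | o
    · rw [bsumX_inl, (hy a).pow]
      rfl
    · rw [bsumX_inr]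
      rcases hz with h1 | h1
      · rw [h1, one_smul]
        rfl
      · exact (h1.false o).elim

/-- membership in the fixed space of a block sum -/
theorem s5953n5_mem_fix {A : ℕ} {κ : Type*} (ω : Type*) (y : Fin A → Module.End F (κ → F))
    (v : BIdx A κ ω → F) :
    v ∈ fixS (bsumX ω y) ↔ ∀ a, s5953n4_blk v a ∈ fixS (y a) := by
  rw [Cfsg.Agent.Lib.Helper13.S5955.s5955n9_mem_fixS]
  constructor
  · intro h a
    rw [Cfsg.Agent.Lib.Helper13.S5955.s5955n9_mem_fixS, ← s5953n4_blk_bsumX, h]
  · intro h
    funext j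
    rcases j with ⟨a, k⟩ | o
    · have h1 := (Cfsg.Agent.Lib.Helper13.S5955.s5955n9_mem_fixS _ _).mp (h a)
      rw [bsumX_inl]
      exact congrFun h1 k
    · rfl

end

/-- N5 [M] BSUMFIX: fixed-point-free blocks: the fixed space is the last summand. -/
theorem bsum_fix {F : Type*} [Field F] {A : ℕ} {κ ω : Type*} [Fintype κ] [Fintype ω]
    (y : Fin A → Module.End F (κ → F)) (hy : ∀ a, fixS (y a) = ⊥) :
    finrank F (fixS (bsumX ω y)) = Fintype.card ω ∧
      (1 ≤ A → Nonempty κ → bsumX ω y ≠ 1) := by
  classical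
  have hmem : ∀ v : BIdx A κ ω → F, v ∈ fixS (bsumX ω y) ↔ ∀ a k, v (Sum.inl (a, k)) = 0 := by
    intro v
    rw [s5953n5_mem_fix]
    constructor
    · intro h a k
      have h1 := h a
      rw [hy a, Submodule.mem_bot] at h1
      exact congrFun h1 k
    · intro h a
      rw [hy a, Submodule.mem_bot]
      funext k
      exact h a k
  constructor
  · -- the linear equivalence with `ω → F`
    let φ : (ω → F) →ₗ[F] (BIdx A κ ω → F) :=
      { toFun := fun w => Sum.elim (fun _ => 0) w
        map_add' := by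
          intro w w'
          funext j
          rcases j with ⟨a, k⟩ | o <;> simp
        map_smul' := by
          intro c w
          funext j
          rcases j with ⟨a, k⟩ | o <;> simp }
    have hφinj : Function.Injective φ := by
      intro w w' h
      funext o
      exact congrFun h (Sum.inr o)
    have hrange : LinearMap.range φ = fixS (bsumX ω y) := by
      apply le_antisymm
      · rintro _ ⟨w, rfl⟩
        rw [hmem]
        intro a k
        rfl
      · intro v hv
        rw [hmem] at hv
        refine ⟨fun o => v (Sum.inr o), ?_⟩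
        funext j
        rcases j with ⟨a, k⟩ | o
        · exact (hv a k).symm
        · rfl
    rw [← hrange, LinearMap.finrank_range_of_inj hφinj, Module.finrank_fintype_fun_eq_card]
  · intro hA hκ h1
    obtain ⟨k0⟩ := hκ
    let a0 : Fin A := ⟨0, by omega⟩
    let v : BIdx A κ ω → F := Pi.single (Sum.inl (a0, k0)) 1
    have hv : v ∈ fixS (bsumX ω y) := by
      rw [Cfsg.Agent.Lib.Helper13.S5955.s5955n9_mem_fixS, h1]
      rfl
    have h2 := (hmem v).mp hv a0 k0
    have h3 : v (Sum.inl (a0, k0)) = 1 := by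
      show (Pi.single (Sum.inl (a0, k0)) (1 : F) : BIdx A κ ω → F) (Sum.inl (a0, k0)) = 1
      rw [Pi.single_eq_same]
    rw [h3] at h2
    exact one_ne_zero h2

end Cfsg.Agent.Lib.helper3.S5953
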