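import Mathlib
import Cfsg.Agent.Lib.helper17.STM.Defs
import Cfsg.Agent.Lib.helper17.STM.Defs2
import Cfsg.Agent.Lib.helper17.STM.Defs3
import Cfsg.Agent.Lib.helper17.STM.Sub
import Cfsg.Agent.Lib.Helper26.STMK2core
import Cfsg.Agent.Lib.Helper1.STMInD
import Cfsg.Agent.Lib.Helper26.STMA2
import Cfsg.Agent.Lib.Helper26.STMA4
import Cfsg.Agent.Lib.Helper25.STMJ2
import Cfsg.Agent.Lib.Helper5.STMJ2b
import Cfsg.Agent.Lib.Helper11.STMJ7
import Cfsg.Agent.Lib.Helper16.STMJ4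

/-!
# Project STM (designer helper17; S2099), row K2 `ker_trivial_aux`, VERBATIM (helper26): wrapper of `stmk2_core` on
`SysM.stmind_InD_all` (helper1's own-name copy of F18b `InD_all`, `Helper1.STMInD`), A2 `Phat_decomp`, A4 `Phat_decomp_one`,
J2 `Y_fix_eq_one`, J2b `Y_fix_eq_one_one`, J7 `Phat_ker`, J7b `Phat_ker_one`, J8 `ker_trivial`.
-/

set_option autoImplicit false
set_option linter.unusedVariables false

namespace Cfsg.Agent.Lib.helper17.STM

open Matrix Cfsg.Agent.Lib.helper15.St2 Cfsg.Agent.Lib.helper3.STC Cfsg.Agent.Lib.Lead.STD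

universe v w

open SysM

/-- K2 [M-L]  model STB K2 `ker_trivial_aux`: strong induction on the rank. -/
theorem ker_trivial_aux {F : Type*} [Field F] [Finite F] {A B : F} [Fact (∀ r : F, r ^ 2 ≠ -B + A * r)] {l : Type*} [Fintype l] [DecidableEq l] :
    ∀ (m : ℕ) (ι : Type v) [Finite ι] (G : Type w) [Group G] (S : SysM F A B ι G) (R : S.Rep l),
      Nat.card ι = m → S.Spin → S.XQ (fun _ _ => True) (fun _ => True) = ⊤ → ∀ g, R.φ g = 1 → g = 1 :=
  stmk2_core
    (fun ι _ _ G _ S o hgen g => SysM.stmind_InD_all S o hgen g)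
    (fun ι _ G _ S o j hj hj' => SysM.Phat_decomp S o hj hj')
    (fun ι _ G _ S o hι => SysM.Phat_decomp_one S o hι)
    (fun ι G _ S R o o' ho' ho'' IH y hy h => SysM.Rep.Y_fix_eq_one R o ho' ho'' IH hy h)
    (fun ι G _ S R o hι y hy h => SysM.Rep.Y_fix_eq_one_one R o hι hy h)
    (fun ι _ G _ S R o j hj hj' hdec hY IH p hp h => SysM.Rep.Phat_ker R o hj hj' hdec hY IH hp h)
    (fun ι _ G _ S R o hS hι hdec hY p hp h => SysM.Rep.Phat_ker_one R o hS hι hdec hY hp h)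
    (fun ι G _ S R o hInD hY hP g hg => SysM.Rep.ker_trivial R o hInD hY hP g hg)

end Cfsg.Agent.Lib.helper17.STM
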