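import Mathlib
import Cfsg.Agent.Lib.helper15.St2
import Cfsg.Agent.Lib.helper7.StA
import Cfsg.Agent.Lib.helper7.StC
import Cfsg.Agent.Lib.helper7.StE
import Cfsg.Agent.Lib.Helper24.STCI1
import Cfsg.Agent.Lib.helper23.STCX2
import Cfsg.Agent.Lib.Helper27.STU.Defs
import Cfsg.Agent.Lib.Helper27.STU.Defs2

/-!
Project STU (designer helper27; S2291) row N3 (`IsMon.cj_mem_Yg`, `IsMon.cj_mem_Ag`, `IsMon.cj_mem_Lg`), VERBATIM vs `Helper27/STU/Skel2.lean.txt`.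
EXPRESS: the cited fact of X1 (`IsMon.cj_mem_XQ`) was not on main when this was written; the file has an own-name copy `stun3_cj_mem_XQ`
with the exact Skel statement.
-/

set_option autoImplicit false

namespace Cfsg.Agent.Lib.Helper27.STU

open Cfsg.Agent.Lib.helper15.St2 Cfsg.Agent.Lib.helper7.St Cfsg.Agent.Lib.helper3.STC

namespace SysU

variable {F : Type*} [Field F] [StarRing F] {od : Prop} {ι : Type*} {G : Type*} [Group G] (S : SysU F od ι G)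

/-- own-name copy of X1 `IsMon.cj_mem_XQ` -/
theorem stun3_cj_mem_XQ {g : G} {π : Equiv.Perm (ι ⊕ ι)} {d : ι ⊕ ι → F} {d0 : F} (hg : S.IsMon g π d d0)
    {Q Q' : ι ⊕ ι → ι ⊕ ι → Prop} (hQ : ∀ k l, k ≠ l → Q k l → Q' (π k) (π l)) :
    ∀ z ∈ S.XQ Q, cj g z ∈ S.XQ Q' := by
  apply cj_mem_of_gens
  rintro _ (⟨k, l, t, hkl, hkl', hQkl, rfl⟩ | ⟨k, ξ, hQk, rfl⟩)
  · rw [hg.2.1 k l hkl hkl']
    refine Subgroup.subset_closure (Or.inl ⟨π k, π l, _, π.injective.ne hkl, ?_, hQ k l hkl hQkl, rfl⟩)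
    rw [← hg.1.pi_ng]
    exact π.injective.ne hkl'
  · rw [hg.2.2 k ξ]
    refine Subgroup.subset_closure (Or.inr ⟨π k, _, ?_, rfl⟩)
    rw [← hg.1.pi_ng]
    exact hQ k (ng k) (ne_ng k) hQk

section N
variable (o : ι ⊕ ι)

/-- N3 [S]  monomial elements fixing `o` (and `ng o`) normalise the subgroups (model `helper2.STCN3`). -/
theorem IsMon.cj_mem_Yg {g : G} {π : Equiv.Perm (ι ⊕ ι)} {d : ι ⊕ ι → F} {d0 : F} (hg : S.IsMon g π d d0)
    (hπ : π o = o) : ∀ y ∈ S.Yg o, cj g y ∈ S.Yg o := by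
  apply stun3_cj_mem_XQ S hg
  rintro k l - rfl
  exact hπ

theorem IsMon.cj_mem_Ag {g : G} {π : Equiv.Perm (ι ⊕ ι)} {d : ι ⊕ ι → F} {d0 : F} (hg : S.IsMon g π d d0)
    (hπ : π o = o) : ∀ y ∈ S.Ag o, cj g y ∈ S.Ag o := by
  apply stun3_cj_mem_XQ S hg
  rintro k l - rfl
  exact hπ

theorem IsMon.cj_mem_Lg {g : G} {π : Equiv.Perm (ι ⊕ ι)} {d : ι ⊕ ι → F} {d0 : F} (hg : S.IsMon g π d d0)
    (hπ : π o = o) : ∀ y ∈ S.Lg o, cj g y ∈ S.Lg o := by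
  have hπ' : π (ng o) = ng o := by rw [hg.1.pi_ng, hπ]
  apply stun3_cj_mem_XQ S hg
  rintro k l - ⟨⟨hk, hk'⟩, ⟨hl, hl'⟩⟩
  have key : ∀ m : ι ⊕ ι, m ≠ o → m ≠ ng o → π m ≠ o ∧ π m ≠ ng o := by
    intro m hm hm'
    refine ⟨fun h => hm (π.injective (h.trans hπ.symm)), fun h => hm' (π.injective (h.trans hπ'.symm))⟩
  exact ⟨key k hk hk', key l hl hl'⟩

end N

end SysU

end Cfsg.Agent.Lib.Helper27.STU
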