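import Mathlib
import Cfsg.Prelude.Def_CaseTheorems
import Cfsg.Agent.Lib.helper7.BR.Defs
import Cfsg.Agent.Lib.Helper18.BRF.Defs

/-!
# BRF pieces QSYL and QCOUNT : Sylow subgroups of a quotient (Mathlib only)
-/

set_option autoImplicit false
set_option linter.unusedVariables false
set_option linter.unusedSectionVars false

namespace Cfsg.Agent.Lib.Helper18.BRF

open Classical
open Cfsg.Agent.Lib.Helper25
open Cfsg.Agent.Lib.helper7.BR

universe u

/-- QSYL : the Sylow subgroups of `G / K`, `K` a normal `p'`-subgroup, have the order of those of `G`. -/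
theorem quot_sylow_card {G : Type u} [Group G] [Finite G] (p : ℕ) [Fact p.Prime] (K : Subgroup G)
    [K.Normal] (hK : (Nat.card K).Coprime p) (P : Sylow p G) (Q : Sylow p (G ⧸ K)) :
    Nat.card ↥(Q : Subgroup (G ⧸ K)) = Nat.card ↥(P : Subgroup G) := by
  have hp : p.Prime := Fact.out
  rw [Sylow.card_eq_multiplicity, Sylow.card_eq_multiplicity]
  have hmul : Nat.card G = Nat.card (G ⧸ K) * Nat.card K :=
    Subgroup.card_eq_card_quotient_mul_card_subgroup K
  have h1 : Nat.card (G ⧸ K) ≠ 0 := Nat.card_pos.ne'
  have h2 : Nat.card K ≠ 0 := Nat.card_pos.ne'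
  have h3 : (Nat.card K).factorization p = 0 := by
    apply Nat.factorization_eq_zero_of_not_dvd
    intro hd
    have := (Nat.Coprime.symm hK)
    rw [Nat.Prime.coprime_iff_not_dvd hp] at this
    exact this hd
  rw [hmul, Nat.factorization_mul h1 h2]
  simp [h3]

/-- QCOUNT : the number of Sylow subgroups of a quotient divides the number of Sylow subgroups.
(`|Syl_p| = |G : N_G(P)|`; with `Q = P K / K` (`Sylow.mapSurjective`) the preimage of `N(Q)` contains `N_G(P)`
(`Subgroup.le_normalizer_map`) and has the index of `N(Q)`.) -/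
theorem quot_sylow_count {G : Type u} [Group G] [Finite G] (p : ℕ) [Fact p.Prime] (K : Subgroup G)
    [K.Normal] : Nat.card (Sylow p (G ⧸ K)) ∣ Nat.card (Sylow p G) := by
  have hs : Function.Surjective (QuotientGroup.mk' K) := QuotientGroup.mk'_surjective K
  obtain ⟨P⟩ : Nonempty (Sylow p G) := inferInstance
  have hQ := Sylow.card_eq_index_normalizer (P.mapSurjective hs)
  rw [hQ, Sylow.card_eq_index_normalizer P,
    ← Subgroup.index_comap_of_surjective _ hs]
  apply Subgroup.index_dvd_of_le
  have h1 := Subgroup.le_normalizer_map (H := (P : Subgroup G)) (QuotientGroup.mk' K)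
  rw [Subgroup.map_le_iff_le_comap] at h1
  exact h1

end Cfsg.Agent.Lib.Helper18.BRF
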