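import Mathlib
import Cfsg.Agent.Lib.helper7.CED.Defs
import Cfsg.Agent.Lib.Helper24.STCI1

/-!
# CED row T1 (helper26): `t1_milnor` (port of CEC T1, `helper14.CECT1`).
-/

set_option autoImplicit false

namespace Cfsg.Agent.Lib.helper7.CED

open Cfsg.Agent.Lib.helper15.St2 Cfsg.Agent.Lib.helper7.Ce Cfsg.Agent.Lib.helper3.STC Cfsg.Agent.Lib.Lead.STD
  Cfsg.Agent.Lib.helper7.CEC

section T

variable {K : Type*} [Field K] {ι : Type*} {Γ G : Type*} [Group Γ] [Group G] {S : SysD K ι G} {σ : Γ →* G}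

theorem cedt1_unpack {ι : Type*} {a b : ι ⊕ ι} (h : ab a ≠ ab b) : a ≠ b ∧ a ≠ ng b := by
  constructor
  · intro e; exact h (by rw [e])
  · intro e; exact h (ab_eq_iff.2 (Or.inr e))

theorem t1_milnor (h : IsCE σ) (h3 : I3 ι) :
    ∀ a b : ι ⊕ ι, ab a ≠ ab b → ∀ t u : K, CL σ (S.x a b t) (S.x a b u) := by
  intro a b hab t u
  obtain ⟨e, hea, heb⟩ := h3 a b
  obtain ⟨hab1, hab2⟩ := cedt1_unpack hab
  obtain ⟨hea1, hea2⟩ := cedt1_unpack hea
  obtain ⟨heb1, heb2⟩ := cedt1_unpack heb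
  have hae1 : a ≠ e := fun x => hea1 x.symm
  have hae2 : a ≠ ng e := fun x => hea2 (ng_eq_iff.1 x.symm)
  have e1 : S.x a b t = cm (S.x a e t) (S.x e b 1) := by
    have := S.comm3 a e b hae1 hae2 heb1 heb2 hab1 hab2 t 1
    rw [mul_one] at this
    rw [← this]
    rfl
  rw [e1]
  apply h.milnor
  · exact S.comm a e a b hae1 hae2 hab1 hab2 hea1 hab1 heb2 (ne_ng a) t u
  · exact S.comm e b a b heb1 heb2 hab1 hab2 hab1.symm heb1 (ne_ng b) hea2 1 u

end T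

end Cfsg.Agent.Lib.helper7.CED
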