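import Cfsg.Agent.Lib.Helper26.FusionHyp2
import Cfsg.Agent.Lib.Helper1.Residual
import Cfsg.Agent.Lib.Helper1.Frat
import Cfsg.Agent.S5076

set_option autoImplicit false

namespace Cfsg.Agent.Lib.Helper26

open Cfsg Cfsg.FusionSystem
open scoped commutatorElement

variable {G : Type*} [Group G]

/-- an automorphism of `P` induced by `G`, of order prime to `p`, is induced by a `p'`-element -/
theorem exists_coprime_inducing [Finite G] {p : ℕ} [Fact p.Prime] {P : Subgroup G} {β : MulAut P}
    (hβ : Nat.Coprime (orderOf β) p) {g : G} (hg : ∀ x : P, ((β x : P) : G) = g * (x : G) * g⁻¹) :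
    ∃ h : G, Nat.Coprime (orderOf h) p ∧ ∀ x : P, ((β x : P) : G) = h * (x : G) * h⁻¹ := by
  have hp : p.Prime := Fact.out
  have hpow : ∀ (n : ℕ) (x : P), (((β ^ n) x : P) : G) = g ^ n * (x : G) * (g ^ n)⁻¹ := by
    intro n
    induction n with
    | zero => intro x; simp
    | succ n ih =>
      intro x
      rw [pow_succ', MulAut.mul_apply, hg, ih, pow_succ']
      group
  set q := p ^ (Nat.card G).factorization p with hq
  have hcop : Nat.Coprime q (orderOf β) := (Nat.Coprime.pow_left _ hβ.symm)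
  obtain ⟨m, hm⟩ := exists_pow_eq_self_of_coprime hcop
  refine ⟨(g ^ q) ^ m, ?_, fun x => ?_⟩
  · have h1 : (g ^ q) ^ (Nat.card G / q) = 1 := by
      rw [← pow_mul, Nat.mul_div_cancel' (Nat.ordProj_dvd _ _), pow_card_eq_one']
    have h2 : orderOf (g ^ q) ∣ Nat.card G / q := orderOf_dvd_of_pow_eq_one h1
    have h3 : Nat.Coprime (Nat.card G / q) p :=
      (Nat.coprime_ordCompl hp Nat.card_pos.ne').symm
    have h4 : orderOf ((g ^ q) ^ m) ∣ orderOf (g ^ q) := orderOf_pow_dvd m
    exact Nat.Coprime.coprime_dvd_left (h4.trans h2) h3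
  · have h5 := hpow (q * m) x
    rw [pow_mul, hm, pow_mul] at h5
    exact h5

theorem hyperfocal_groupFS_le_pResidual [Finite G] (p : ℕ) [Fact p.Prime] (S : Subgroup G) :
    (groupFusionSystem S).hyperfocalSubgroup p ≤ pResidual p G := by
  have hn : (pResidual p G).Normal := Helper1.pResidual_normal p
  refine (Subgroup.closure_le _).mpr ?_
  rintro _ ⟨P, α, x, hPS, hα, rfl⟩
  have key : ∀ β : (groupFusionSystem S).autGroup P, β ∈ pResidual p ((groupFusionSystem S).autGroup P) →
      ∀ x : P, (x : G)⁻¹ * (((β : MulAut P) x : P) : G) ∈ pResidual p G := by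
    intro β hβ
    have hβ' : β ∈ Subgroup.closure {g : (groupFusionSystem S).autGroup P |
      Nat.Coprime (orderOf g) p} := hβ
    refine Subgroup.closure_induction (p := fun (β : (groupFusionSystem S).autGroup P) _ => ∀ x : P,
      (x : G)⁻¹ * (((β : MulAut P) x : P) : G) ∈ pResidual p G) ?_ ?_ ?_ ?_ hβ'
    · intro γ hγ x
      have hγ' : Nat.Coprime (orderOf (γ : MulAut P)) p := by
        rw [Subgroup.orderOf_coe]
        exact hγ
      have hmem : (γ : MulAut P) ∈ autInducedBy ⊤ P := by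
        rw [← Cfsg.Agent.S5076.groupFS_autGroup_eq hPS]
        exact γ.2
      obtain ⟨g, -, hg⟩ := mem_autInducedBy_iff.mp hmem
      obtain ⟨h, hh, hhx⟩ := exists_coprime_inducing hγ' hg
      rw [hhx]
      have hhK : h ∈ pResidual p G := Helper1.mem_pResidual_of_coprime hh
      have e : (x : G)⁻¹ * (h * (x : G) * h⁻¹) = ((x : G)⁻¹ * h * (x : G)⁻¹⁻¹) * h⁻¹ := by group
      rw [e]
      exact Subgroup.mul_mem _ (hn.conj_mem h hhK _) (Subgroup.inv_mem _ hhK)
    · intro x
      simp
    · intro a b _ _ ha hb x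
      have e : (x : G)⁻¹ * ((((a * b : (groupFusionSystem S).autGroup P) : MulAut P) x : P) : G) =
          ((x : G)⁻¹ * (((b : MulAut P) x : P) : G)) *
          ((((b : MulAut P) x : P) : G)⁻¹ * (((a : MulAut P) ((b : MulAut P) x) : P) : G)) := by
        rw [Subgroup.coe_mul, MulAut.mul_apply]
        group
      rw [e]
      exact Subgroup.mul_mem _ (hb x) (ha _)
    · intro a _ ha x
      have h1 := ha ((a : MulAut P)⁻¹ x)
      rw [MulAut.apply_inv_self] at h1
      have e : (x : G)⁻¹ * ((((a⁻¹ : (groupFusionSystem S).autGroup P) : MulAut P) x : P) : G) =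
          (((((a : MulAut P)⁻¹ x : P) : G))⁻¹ * (x : G))⁻¹ := by
        rw [Subgroup.coe_inv]
        group
      rw [e]
      exact Subgroup.inv_mem _ h1
  exact key α hα x


/-- `O^p(G)`, as a group, is generated by its `p'`-elements -/
theorem closure_coprime_eq_top_pResidual (p : ℕ) :
    Subgroup.closure {k : ↥(pResidual p G) | Nat.Coprime (orderOf k) p} = ⊤ := by
  rw [eq_top_iff]
  rintro ⟨k, hk⟩ -
  have hk' : k ∈ Subgroup.closure {g : G | Nat.Coprime (orderOf g) p} := hk
  have key : ∀ (g : G) (hg : g ∈ Subgroup.closure {g : G | Nat.Coprime (orderOf g) p}),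
      (⟨g, hg⟩ : ↥(pResidual p G)) ∈
        Subgroup.closure {k : ↥(pResidual p G) | Nat.Coprime (orderOf k) p} := by
    intro g hg
    refine Subgroup.closure_induction (p := fun g hg => (⟨g, hg⟩ : ↥(pResidual p G)) ∈
        Subgroup.closure {k : ↥(pResidual p G) | Nat.Coprime (orderOf k) p}) ?_ ?_ ?_ ?_ hg
    · intro x hx
      apply Subgroup.subset_closure
      have h1 := Subgroup.orderOf_coe (⟨x, Subgroup.subset_closure hx⟩ : ↥(pResidual p G))
      show Nat.Coprime (orderOf (⟨x, Subgroup.subset_closure hx⟩ : ↥(pResidual p G))) p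
      rw [← h1]
      exact hx
    · exact Subgroup.one_mem _
    · intro a b ha hb iha ihb
      exact Subgroup.mul_mem _ iha ihb
    · intro a ha iha
      exact Subgroup.inv_mem _ iha
  exact key k hk'

/-- in a commutative group generated by `p'`-elements every element is a `p'`-element -/
theorem coprime_orderOf_of_closure_eq_top {A : Type*} [CommGroup A] {p : ℕ}
    (h : Subgroup.closure {a : A | Nat.Coprime (orderOf a) p} = ⊤) (a : A) :
    Nat.Coprime (orderOf a) p := by
  have ha : a ∈ Subgroup.closure {a : A | Nat.Coprime (orderOf a) p} := by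
    rw [h]; exact Subgroup.mem_top _
  refine Subgroup.closure_induction (p := fun a _ => Nat.Coprime (orderOf a) p) ?_ ?_ ?_ ?_ ha
  · intro x hx
    exact hx
  · rw [orderOf_one]
    exact Nat.coprime_one_left p
  · intro x y _ _ hx hy
    exact Nat.Coprime.coprime_dvd_left
      ((Commute.all x y).orderOf_mul_dvd_lcm.trans (Nat.lcm_dvd_mul _ _))
      (Nat.Coprime.mul_left hx hy)
  · intro x _ hx
    rw [orderOf_inv]
    exact hx

theorem sylow_le_commutator_pResidual [Finite G] {p : ℕ} [Fact p.Prime]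
    (T : Sylow p ↥(pResidual p G)) : (T : Subgroup ↥(pResidual p G)) ≤ commutator ↥(pResidual p G) := by
  intro t ht
  have hp : p.Prime := Fact.out
  have hgen : Subgroup.closure {a : Abelianization ↥(pResidual p G) | Nat.Coprime (orderOf a) p} = ⊤ := by
    rw [eq_top_iff, ← (Subgroup.map_top_of_surjective Abelianization.of
      (QuotientGroup.mk'_surjective _) : (⊤ : Subgroup ↥(pResidual p G)).map Abelianization.of = ⊤),
      ← closure_coprime_eq_top_pResidual p, MonoidHom.map_closure]
    apply Subgroup.closure_mono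
    rintro _ ⟨k, hk, rfl⟩
    exact Nat.Coprime.coprime_dvd_left (orderOf_map_dvd _ k) hk
  have h1 := coprime_orderOf_of_closure_eq_top hgen (Abelianization.of t)
  obtain ⟨k, hk⟩ := T.isPGroup' ⟨t, ht⟩
  have hk' : t ^ p ^ k = 1 := congrArg Subtype.val hk
  have h2 : orderOf (Abelianization.of t) ∣ p ^ k := by
    apply orderOf_dvd_of_pow_eq_one
    rw [← map_pow, hk', map_one]
  have h3 : orderOf (Abelianization.of t) = 1 :=
    Nat.Coprime.eq_one_of_dvd (Nat.Coprime.pow_right k h1) h2
  rw [orderOf_eq_one_iff] at h3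
  have h4 : t ∈ (Abelianization.of : ↥(pResidual p G) →* _).ker := h3
  rwa [Abelianization.ker_of] at h4


theorem mathlib_focal_le_groupFS_focal (T : Subgroup G) :
    T.focalSubgroup ≤ (groupFusionSystem T).focalSubgroup := by
  rw [Subgroup.focalSubgroup_def, Subgroup.closure_le]
  rintro g ⟨hgT, x, hxT, u, rfl⟩
  have hyT : x⁻¹ ∈ T := T.inv_mem hxT
  have hP : Subgroup.zpowers x⁻¹ ≤ T := (Subgroup.zpowers_le).mpr hyT
  have hcj : cj (Subgroup.zpowers x⁻¹) u ≤ T := by
    show (Subgroup.zpowers x⁻¹).map (MulAut.conj u).toMonoidHom ≤ T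
    rw [MonoidHom.map_zpowers, Subgroup.zpowers_le]
    have e : (MulAut.conj u).toMonoidHom x⁻¹ = x⁻¹ * ⁅x, u⁆ := by
      show u * x⁻¹ * u⁻¹ = x⁻¹ * (x * u * x⁻¹ * u⁻¹)
      group
    rw [e]
    exact T.mul_mem hyT hgT
  refine Subgroup.subset_closure ⟨Subgroup.zpowers x⁻¹, conjHom _ u,
    ⟨x⁻¹, Subgroup.mem_zpowers _⟩, groupFS_conjHom_mem hP u hcj, ?_⟩
  rw [conjHom_apply]
  show x * u * x⁻¹ * u⁻¹ = x⁻¹⁻¹ * (u * x⁻¹ * u⁻¹)
  group

theorem le_of_le_sup_commutator {p : ℕ} [Fact p.Prime] {T H : Subgroup G} [Finite T]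
    (hT : IsPGroup p T) (hHT : H ≤ T) (h : T ≤ H ⊔ ⁅T, T⁆) : T ≤ H := by
  have hcT : ⁅T, T⁆ ≤ T := Subgroup.commutator_le.mpr (fun a ha b hb =>
    T.mul_mem (T.mul_mem (T.mul_mem ha hb) (T.inv_mem ha)) (T.inv_mem hb))
  have h1 : (H ⊔ ⁅T, T⁆).subgroupOf T = ⊤ := Subgroup.subgroupOf_eq_top.mpr h
  rw [Subgroup.subgroupOf_sup hHT hcT] at h1
  have h2 : (⁅T, T⁆).subgroupOf T = commutator T := by
    rw [← Subgroup.map_subtype_commutator]
    exact Subgroup.comap_map_eq_self_of_injective T.subtype_injective _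
  rw [h2] at h1
  have h3 : H.subgroupOf T ⊔ frattini T = ⊤ := by
    rw [eq_top_iff, ← h1]
    exact sup_le_sup_left (Helper1.pgroup_commutator_le_frattini hT) _
  exact Subgroup.subgroupOf_eq_top.mp (frattini_nongenerating h3)


theorem congr_mem_groupFS_autGroup {K : Subgroup G} {T : Subgroup ↥K} {S : Subgroup G}
    {P₀ : Subgroup ↥K} (hP₀T : P₀ ≤ T) (hPS : P₀.map K.subtype ≤ S) {β : MulAut P₀}
    (hβ : β ∈ (groupFusionSystem T).autGroup P₀) :
    MulAut.congr (P₀.equivMapOfInjective K.subtype K.subtype_injective) β ∈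
      (groupFusionSystem S).autGroup (P₀.map K.subtype) := by
  rw [Cfsg.Agent.S5076.groupFS_autGroup_eq hP₀T] at hβ
  rw [Cfsg.Agent.S5076.groupFS_autGroup_eq hPS]
  obtain ⟨u, -, hu⟩ := mem_autInducedBy_iff.mp hβ
  refine mem_autInducedBy_iff.mpr ⟨(u : G), Subgroup.mem_top _, fun z => ?_⟩
  have h1 : ((MulAut.congr (P₀.equivMapOfInjective K.subtype K.subtype_injective) β) z) =
      (P₀.equivMapOfInjective K.subtype K.subtype_injective)
        (β ((P₀.equivMapOfInjective K.subtype K.subtype_injective).symm z)) := rfl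
  rw [h1]
  have h2 : ∀ w : P₀, (((P₀.equivMapOfInjective K.subtype K.subtype_injective) w :
      P₀.map K.subtype) : G) = ((w : ↥K) : G) := fun w => rfl
  rw [h2, hu]
  have h3 := h2 ((P₀.equivMapOfInjective K.subtype K.subtype_injective).symm z)
  rw [MulEquiv.apply_symm_apply] at h3
  rw [Subgroup.coe_mul, Subgroup.coe_mul, Subgroup.coe_inv, ← h3]

noncomputable def autLift {K : Subgroup G} (T : Subgroup ↥K) (S : Subgroup G)
    {P₀ : Subgroup ↥K} (hP₀T : P₀ ≤ T) (hPS : P₀.map K.subtype ≤ S) :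
    (groupFusionSystem T).autGroup P₀ →* (groupFusionSystem S).autGroup (P₀.map K.subtype) :=
  ((MulAut.congr (P₀.equivMapOfInjective K.subtype K.subtype_injective)).toMonoidHom.comp
    ((groupFusionSystem T).autGroup P₀).subtype).codRestrict _
    (fun β => congr_mem_groupFS_autGroup hP₀T hPS β.2)

theorem autLift_injective {K : Subgroup G} (T : Subgroup ↥K) (S : Subgroup G)
    {P₀ : Subgroup ↥K} (hP₀T : P₀ ≤ T) (hPS : P₀.map K.subtype ≤ S) :
    Function.Injective (autLift T S hP₀T hPS) := by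
  intro a b hab
  apply Subtype.ext
  have h1 : MulAut.congr (P₀.equivMapOfInjective K.subtype K.subtype_injective) (a : MulAut P₀) =
      MulAut.congr (P₀.equivMapOfInjective K.subtype K.subtype_injective) (b : MulAut P₀) :=
    congrArg Subtype.val hab
  exact (MulAut.congr _).injective h1

theorem map_hyperfocal_groupFS_le {K : Subgroup G} (p : ℕ) (T : Subgroup ↥K) (S : Subgroup G)
    (hTS : T.map K.subtype ≤ S) :
    ((groupFusionSystem T).hyperfocalSubgroup p).map K.subtype ≤
      (groupFusionSystem S).hyperfocalSubgroup p := by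
  unfold hyperfocalSubgroup
  rw [MonoidHom.map_closure, Subgroup.closure_le]
  rintro _ ⟨_, ⟨P₀, β, x, hP₀T, hβ, rfl⟩, rfl⟩
  have hPS : P₀.map K.subtype ≤ S := (Subgroup.map_mono hP₀T).trans hTS
  have hβ' : autLift T S hP₀T hPS β ∈
      pResidual p ((groupFusionSystem S).autGroup (P₀.map K.subtype)) :=
    map_pResidual_le p _ (autLift_injective T S hP₀T hPS) ⟨β, hβ, rfl⟩
  have h1 := gen_mem_hyperfocal (groupFusionSystem S) p hPS _ hβ'
    ((P₀.equivMapOfInjective K.subtype K.subtype_injective) x)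
  have h2 : ((((autLift T S hP₀T hPS β : (groupFusionSystem S).autGroup (P₀.map K.subtype)) :
      MulAut (P₀.map K.subtype)) ((P₀.equivMapOfInjective K.subtype K.subtype_injective) x) :
      P₀.map K.subtype) : G) = ((((β : MulAut P₀) x : P₀) : ↥K) : G) := by
    show (((P₀.equivMapOfInjective K.subtype K.subtype_injective)
      ((β : MulAut P₀) ((P₀.equivMapOfInjective K.subtype K.subtype_injective).symm
        ((P₀.equivMapOfInjective K.subtype K.subtype_injective) x))) : P₀.map K.subtype) : G) = _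
    rw [MulEquiv.symm_apply_apply]
    rfl
  rw [h2] at h1
  exact h1

end Cfsg.Agent.Lib.Helper26
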