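import Cfsg.Agent.Lib.Helper26.FusionHyp
import Cfsg.Agent.Lib.Helper26.FusionGroup

set_option autoImplicit false

namespace Cfsg.Agent.Lib.Helper26

open Cfsg Cfsg.FusionSystem

variable {Ω : Type*} [Group Ω] {S : Subgroup Ω}

theorem map_pResidual_le {G H : Type*} [Group G] [Group H] (p : ℕ) (f : G →* H)
    (hf : Function.Injective f) : (pResidual p G).map f ≤ pResidual p H := by
  unfold pResidual
  rw [MonoidHom.map_closure]
  apply Subgroup.closure_mono
  rintro _ ⟨g, hg, rfl⟩
  show Nat.Coprime (orderOf (f g)) p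
  rw [orderOf_injective f hf g]
  exact hg

/-- transport of automorphisms along an isomorphism of the system -/
noncomputable def autTransport (F : FusionSystem S) {P P' : Subgroup Ω} (e : P ≃* P') (he : IsIso F e) :
    F.autGroup P →* F.autGroup P' :=
  ((MulAut.congr e).toMonoidHom.comp (F.autGroup P).subtype).codRestrict (F.autGroup P')
    (fun β => congr_mem_autGroup he β.2)

theorem autTransport_apply (F : FusionSystem S) {P P' : Subgroup Ω} (e : P ≃* P') (he : IsIso F e)
    (β : F.autGroup P) (z : P') :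
    ((autTransport F e he β : F.autGroup P') : MulAut P') z = e ((β : MulAut P) (e.symm z)) := rfl

theorem autTransport_injective (F : FusionSystem S) {P P' : Subgroup Ω} (e : P ≃* P')
    (he : IsIso F e) : Function.Injective (autTransport F e he) := by
  intro a b hab
  apply Subtype.ext
  have h1 : MulAut.congr e (a : MulAut P) = MulAut.congr e (b : MulAut P) :=
    congrArg Subtype.val hab
  exact (MulAut.congr e).injective h1

theorem autTransport_mem_pResidual (F : FusionSystem S) (p : ℕ) {P P' : Subgroup Ω} (e : P ≃* P')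
    (he : IsIso F e) {β : F.autGroup P} (hβ : β ∈ pResidual p (F.autGroup P)) :
    autTransport F e he β ∈ pResidual p (F.autGroup P') :=
  map_pResidual_le p _ (autTransport_injective F e he) ⟨β, hβ, rfl⟩

/-- the conjugation isomorphism `P ≃* sPs⁻¹` -/
noncomputable def cjEquiv (P : Subgroup Ω) (s : Ω) : P ≃* cj P s :=
  P.equivMapOfInjective (MulAut.conj s).toMonoidHom (MulAut.conj s).injective

theorem cjEquiv_apply (P : Subgroup Ω) (s : Ω) (x : P) :
    ((cjEquiv P s x : cj P s) : Ω) = s * (x : Ω) * s⁻¹ := rfl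

theorem cjEquiv_isIso (F : FusionSystem S) {P : Subgroup Ω} (hPS : P ≤ S) {s : Ω} (hs : s ∈ S) :
    IsIso F (cjEquiv P s) :=
  mem_of_forall_eq F (F.conj_mem hPS hs) (fun _ => rfl)

theorem conj_gen_mem_hyperfocal (F : FusionSystem S) (p : ℕ) {s : Ω} (hs : s ∈ S) {y : Ω}
    (hy : y ∈ F.hyperfocalSubgroup p) : s * y * s⁻¹ ∈ F.hyperfocalSubgroup p := by
  refine Subgroup.closure_induction (p := fun y _ => s * y * s⁻¹ ∈ F.hyperfocalSubgroup p)
    ?_ ?_ ?_ ?_ hy
  · rintro _ ⟨P, β, x, hPS, hβ, rfl⟩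
    have he := cjEquiv_isIso F hPS hs
    have hP'S : cj P s ≤ S := he.target_le
    have h1 := gen_mem_hyperfocal F p hP'S (autTransport F (cjEquiv P s) he β)
      (autTransport_mem_pResidual F p _ he hβ) (cjEquiv P s x)
    rw [autTransport_apply, MulEquiv.symm_apply_apply, cjEquiv_apply, cjEquiv_apply] at h1
    have e : s * ((x : Ω)⁻¹ * (((β : MulAut P) x : P) : Ω)) * s⁻¹ =
        (s * (x : Ω) * s⁻¹)⁻¹ * (s * (((β : MulAut P) x : P) : Ω) * s⁻¹) := by group
    rw [e]
    exact h1
  · simp
  · intro a b _ _ ha hb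
    have e : s * (a * b) * s⁻¹ = (s * a * s⁻¹) * (s * b * s⁻¹) := by group
    rw [e]
    exact Subgroup.mul_mem _ ha hb
  · intro a _ ha
    have e : s * a⁻¹ * s⁻¹ = (s * a * s⁻¹)⁻¹ := by group
    rw [e]
    exact Subgroup.inv_mem _ ha

theorem le_normalizer_hyperfocal (F : FusionSystem S) (p : ℕ) :
    S ≤ Subgroup.normalizer ((F.hyperfocalSubgroup p : Subgroup Ω) : Set Ω) := by
  intro s hs
  refine mem_normalizer_of_forall (fun y hy => conj_gen_mem_hyperfocal F p hs hy) (fun y hy => ?_)
  have := conj_gen_mem_hyperfocal F p (S.inv_mem hs) hy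
  rwa [inv_inv] at this

end Cfsg.Agent.Lib.Helper26
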