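import Mathlib
import Cfsg.Prelude.Def_GeometricClasses
import Cfsg.Agent.Lib.Helper27.ASC.Defs
import Cfsg.Agent.Lib.Helper19.ASG.Defs
import Cfsg.Agent.Lib.Helper19.ASU.Defs
import Cfsg.Agent.Lib.Helper26.ASUC.Defs
import Cfsg.Agent.Lib.Helper24.ASGCASM
import Cfsg.Agent.Lib.Helper20.ASUCHSTD
import Cfsg.Agent.Lib.Helper13.ASUCNORM
import Cfsg.Agent.Lib.Helper11.ASUC22SKEW
import Cfsg.Agent.Lib.Helper11.ASUC22SUB
import Cfsg.Agent.Lib.Helper25.ASUC22FIX
import Cfsg.Agent.Lib.Helper25.ASUC22FORM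

set_option autoImplicit false
set_option linter.unusedVariables false
set_option linter.unusedSectionVars false

/-! # Project ASU, block C : the case `k = d = 2` (`n = 4`), a subfield class (assembly, helper26) -/

namespace Cfsg.Agent.Lib.Helper19.ASU

open Cfsg Cfsg.Geo Cfsg.Agent.Lib.Helper27.ASC Cfsg.Agent.Lib.Helper19.ASG
open scoped MatrixGroups Matrix Kronecker

variable {n : ℕ} {F : Type*} [Field F]

/-- C-22 -/
theorem uc_two_two [Fintype F] (q : ℕ) (hF : Fintype.card F = q ^ 2) {H : Subgroup (GL (Fin n) F)}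
    (hI : H ≤ GU n F q) (e : Fin n ≃ Fin 2 × Fin 2) (P : GL (Fin n) F) (A B : Matrix (Fin 2) (Fin 2) F)
    (hA : A.det ≠ 0) (hB : B.det ≠ 0) (hAh : uadj q A = A) (hBh : uadj q B = B) (hK : UKrGram q e P A B)
    (hH : H ≤ tensorProductSubgroup 2 2 e P) : InU n q H := by
  obtain ⟨c, hc0, hc⟩ := uc_exists_skew q hF
  have hJh := uc_J_herm q hF c hc
  have hJd := uc_J_det c hc0
  obtain ⟨S₁, hS₁⟩ := uc_herm_equiv q hF A (c • ucJ) hA hAh hJd hJh
  obtain ⟨S₂, hS₂⟩ := uc_herm_equiv q hF B (c • ucJ) hB hBh hJd hJh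
  obtain ⟨P', hP', hK'⟩ := uc_change_basis q hF e P A B hK S₁ S₂
  rw [hS₁, hS₂] at hK'
  have hH' : H ≤ tensorProductSubgroup 2 2 e P' := by rw [hP']; exact hH
  obtain ⟨F₀, hcard, hF₀⟩ := uc_fixed_subfield q hF
  have hle := uc_two_two_le q hF F₀ hF₀ hI e P' c hc0 hK' hH'
  obtain ⟨hrat, halt⟩ := uc_two_two_form q hF F₀ hF₀ e P' c hc hK'
  by_cases hq : Odd q
  · exact inU_of_subfield_orth hI F₀ hq hcard P' hrat hle
  · have hcF : ¬ Odd (Fintype.card F) := by
      rw [hF]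
      intro h
      exact hq (Nat.Odd.of_mul_right (by rwa [pow_two] at h))
    have h2 : (2 : F) = 0 := asgc_two_eq_zero hcF
    have hn4 : n = 4 := by
      have := Fintype.card_congr e
      simpa using this
    refine inU_of_subfield_symp hI F₀ (by rw [hn4]; decide) hcard P' 1 one_ne_zero ?_ hrat (halt h2) hle
    rw [one_pow]
    linear_combination h2

end Cfsg.Agent.Lib.Helper19.ASU
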