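import Mathlib
import Cfsg.Prelude.Def_GeometricClasses
import Cfsg.Agent.Lib.Helper27.ASC.Defs
import Cfsg.Agent.Lib.Helper19.ASG.Defs
import Cfsg.Agent.Lib.Helper19.ASU.Defs
import Cfsg.Agent.Lib.Helper26.ASUC.Defs
import Cfsg.Agent.Lib.Helper24.ASGCASM
import Cfsg.Agent.Lib.Helper10.ASGCSWAP
import Cfsg.Agent.Lib.Helper10.ASGCWR
import Cfsg.Agent.Lib.Helper22.ASUCFG
import Cfsg.Agent.Lib.helper8.ASUCGRAM1
import Cfsg.Agent.Lib.Helper20.ASUCHERM
import Cfsg.Agent.Lib.Helper20.ASUCHSTD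
import Cfsg.Agent.Lib.Helper13.ASUCNORM
import Cfsg.Agent.Lib.Helper13.ASUCSWAPF
import Cfsg.Agent.Lib.Helper22.ASUCPOW

set_option autoImplicit false
set_option linter.unusedVariables false
set_option linter.unusedSectionVars false

/-!
# Project ASU, block C : the assembly of `u_tensor_case`, with the two exceptional cases `k = d = 2` (`uc_two_two`) and
`(q, k, d) = (2, 3, 3)` (`uc_three_three`) as hypotheses (helper26)
-/

namespace Cfsg.Agent.Lib.Helper19.ASU

open Cfsg Cfsg.Geo Cfsg.Agent.Lib.Helper27.ASC Cfsg.Agent.Lib.Helper19.ASG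
open scoped MatrixGroups Matrix Kronecker

variable {n : ℕ} {F : Type*} [Field F]

theorem asucasm_ne_zero_of_det {k : ℕ} (hk : 0 < k) (A : Matrix (Fin k) (Fin k) F) (hA : A.det ≠ 0) : A ≠ 0 := by
  rintro rfl
  have : Nonempty (Fin k) := ⟨⟨0, hk⟩⟩
  exact hA Matrix.det_zero

theorem asucasm_smul_kron {k d : ℕ} (ν : F) (hν : ν ≠ 0) (A : Matrix (Fin k) (Fin k) F)
    (B : Matrix (Fin d) (Fin d) F) : (ν • A) ⊗ₖ (ν⁻¹ • B) = A ⊗ₖ B := by
  rw [Matrix.smul_kronecker, Matrix.kronecker_smul, smul_smul, mul_inv_cancel₀ hν, one_smul]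

theorem asucasm_one_conj (q : ℕ) (hq : q ≠ 0) {k : ℕ} (A : Matrix (Fin k) (Fin k) F) :
    ((1 : GL (Fin k) F) : Matrix (Fin k) (Fin k) F)ᵀ * A *
      ((1 : GL (Fin k) F) : Matrix (Fin k) (Fin k) F).map (fun a : F => a ^ q) = A := by
  rw [Units.val_one, Matrix.transpose_one, Matrix.one_mul,
    Matrix.map_one (fun a : F => a ^ q) (zero_pow hq) (one_pow q), Matrix.mul_one]

theorem asucasm_det_smul {k : ℕ} (ν : F) (hν : ν ≠ 0) (A : Matrix (Fin k) (Fin k) F) (hA : A.det ≠ 0) :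
    (ν • A).det ≠ 0 := by
  rw [Matrix.det_smul]
  exact mul_ne_zero (pow_ne_zero _ hν) hA

variable [Fintype F]

/-- the Gram matrix in the Kronecker basis: hermitian invertible factors -/
theorem asucasm_gram (q : ℕ) (hF : Fintype.card F = q ^ 2) {N : Subgroup (GL (Fin n) F)}
    (hNI : N ≤ GU n F q) {k d : ℕ} (hk : 0 < k) (hd : 0 < d)
    (φ : centAlg N ≃ₐ[F] Matrix (Fin k) (Fin k) F) (e : Fin n ≃ Fin k × Fin d) (P : GL (Fin n) F)
    (hstd : ∀ a : Matrix (Fin k) (Fin k) F, ((φ.symm a : centAlg N) : Matrix (Fin n) (Fin n) F) =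
      (P : Matrix (Fin n) (Fin n) F) *
        Matrix.reindexAlgEquiv F F e.symm (a ⊗ₖ (1 : Matrix (Fin d) (Fin d) F)) *
        ((P⁻¹ : GL (Fin n) F) : Matrix (Fin n) (Fin n) F)) :
    ∃ (A : Matrix (Fin k) (Fin k) F) (B : Matrix (Fin d) (Fin d) F), A.det ≠ 0 ∧ B.det ≠ 0 ∧
      uadj q A = A ∧ uadj q B = B ∧ UKrGram q e P A B := by
  obtain ⟨A, B, hA, hB, hK⟩ := uc_gram_kron q hF hNI hk hd φ e P hstd
  obtain ⟨ν, hν, hAh, hBh⟩ := uc_kron_herm q hF hk hd A B hA hB (uc_krGram_herm q hF e P A B hK)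
  refine ⟨ν • A, ν⁻¹ • B, asucasm_det_smul ν hν A hA, asucasm_det_smul ν⁻¹ (inv_ne_zero hν) B hB, hAh, hBh, ?_⟩
  intro x y
  rw [asucasm_smul_kron ν hν]
  exact hK x y

/-- U-C with the two exceptional cases as hypotheses -/
theorem u_tensor_case_core (q : ℕ) (hF : Fintype.card F = q ^ 2) (hn : 3 ≤ n) {H N : Subgroup (GL (Fin n) F)}
    (hI : H ≤ GU n F q) (hH : Irr H) (hN : NormalIn N H) {k : ℕ}
    (φ : centAlg N ≃ₐ[F] Matrix (Fin k) (Fin k) F) (hk1 : 1 < k) (hkn : k < n)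
    (h22 : ∀ (e : Fin n ≃ Fin 2 × Fin 2) (P : GL (Fin n) F) (A B : Matrix (Fin 2) (Fin 2) F),
      A.det ≠ 0 → B.det ≠ 0 → uadj q A = A → uadj q B = B → UKrGram q e P A B →
      H ≤ tensorProductSubgroup 2 2 e P → InU n q H)
    (h33 : q = 2 → ∀ (e : Fin n ≃ Fin 3 × Fin 3) (P : GL (Fin n) F) (A B : Matrix (Fin 3) (Fin 3) F),
      A.det ≠ 0 → B.det ≠ 0 → uadj q A = A → uadj q B = B → UKrGram q e P A B →
      H ≤ tensorProductSubgroup 3 3 e P → InU n q H) : InU n q H := by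
  classical
  have hq : q ≠ 0 := by
    rintro rfl
    have h1 : 1 < Fintype.card F := Fintype.one_lt_card
    rw [hF] at h1
    norm_num at h1
  obtain ⟨d, e, P, hstd⟩ := std_embedding (n := n) (by omega : 0 < k)
    ((centAlg N).val.comp (φ.symm : Matrix (Fin k) (Fin k) F →ₐ[F] centAlg N))
  have hnkd : n = k * d := by
    have := Fintype.card_congr e
    simpa using this
  have hstd' : ∀ a : Matrix (Fin k) (Fin k) F, ((φ.symm a : centAlg N) : Matrix (Fin n) (Fin n) F) =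
      (P : Matrix (Fin n) (Fin n) F) *
        Matrix.reindexAlgEquiv F F e.symm (a ⊗ₖ (1 : Matrix (Fin d) (Fin d) F)) *
        ((P⁻¹ : GL (Fin n) F) : Matrix (Fin n) (Fin n) F) := fun a => hstd a
  have hHle : H ≤ tensorProductSubgroup k d e P :=
    (normalizes_cent hN).trans (normalizer_le_tensor (by omega) (centAlg N) φ e P hstd')
  have hd : 2 ≤ d := by
    by_contra hcon
    have : d ≤ 1 := by omega
    have : k * d ≤ k * 1 := Nat.mul_le_mul_left k this
    omega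
  have hNI : N ≤ GU n F q := hN.1.trans hI
  obtain ⟨A, B, hA, hB, hAh, hBh, hK⟩ := asucasm_gram q hF hNI (by omega) (by omega) φ e P hstd'
  have htf : ∀ {k' d' : ℕ} (e' : Fin n ≃ Fin k' × Fin d') (P' : GL (Fin n) F) (A' : Matrix (Fin k') (Fin k') F)
      (B' : Matrix (Fin d') (Fin d') F), UKrGram q e' P' A' B' →
      IsTensorFormStructure (fun x : F => x ^ q) (hermForm n F q) (formOfGram (fun a : F => a ^ q) A')
        (formOfGram (fun a : F => a ^ q) B') e' P' := by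
    intro k' d' e' P' A' B' hK'
    refine ⟨1, one_ne_zero, fun x y => ?_⟩
    rw [uc_gram_formOfGram q hq, uc_gram_formOfGram q hq, one_mul]
    exact hK' x y
  rcases lt_trichotomy k d with hkd | hkd | hkd
  · -- class 4
    exact inU_of_tensor hI e P _ _ (by omega) hkd (uc_formOfGram_unitary q hF A hA hAh)
      (uc_formOfGram_unitary q hF B hB hBh) (htf e P A B hK) hHle
  · -- equal dimensions
    subst hkd
    obtain ⟨S, hS⟩ := uc_herm_equiv q hF B A hB hBh hA hAh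
    obtain ⟨P', hP', hK'⟩ := uc_change_basis q hF e P A B hK 1 S
    rw [asucasm_one_conj q hq, hS] at hK'
    have hHle' : H ≤ tensorProductSubgroup k k e P' := by rw [hP']; exact hHle
    by_cases hk2 : k = 2
    · subst hk2
      exact h22 e P' A A hA hA hAh hAh hK' hHle'
    · by_cases hex : q = 2 ∧ k = 3
      · obtain ⟨hq2, rfl⟩ := hex
        exact h33 hq2 e P' A A hA hA hAh hAh hK' hHle'
      · exact inU_of_tpower hI _ P' _ (by omega) le_rfl hex (uc_formOfGram_unitary q hF A hA hAh)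
          (uc_tensor_pow q hq e P' A hK') (hHle'.trans (tensor_le_wreath e P'))
  · -- class 4, factors swapped
    have hK' := uc_krGram_swap q e P A B hK
    have hHle' : H ≤ tensorProductSubgroup d k (e.trans (Equiv.prodComm (Fin k) (Fin d))) P := by
      rw [← tensor_swap]
      exact hHle
    exact inU_of_tensor hI _ P _ _ hd hkd (uc_formOfGram_unitary q hF B hB hBh)
      (uc_formOfGram_unitary q hF A hA hAh) (htf _ P B A hK') hHle'


end Cfsg.Agent.Lib.Helper19.ASU
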