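import Mathlib
import Cfsg.Agent.Lib.Helper19.G2V.Defs
import Cfsg.Agent.Lib.helper8.ChevPerf
import Cfsg.Agent.S1055

set_option autoImplicit false

namespace Cfsg.Agent.Lib.Helper19.G2V

open Cfsg.Lie Cfsg.Lie.ChevalleyDatum Matrix
open Cfsg.Agent.Lib.helper8
open Cfsg.Agent.Lib.helper23.P4V

universe u

variable {F : Type u} [Field F]

/-- E4 core: the statement of E4A (`X0_not_mem_Pp`) as a hypothesis. -/
theorem g2ve4_core (hE4A : (X 0 1 : GG F) ∉ Pp F) (hF : ∃ a : F, a ≠ 0 ∧ a ≠ 1) (g : GG F)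
    (hg : g ∈ Gp F) (h1 : g ≠ 1) : ∃ y ∈ Gp F, y * g * y⁻¹ ∉ Pp F := by
  have hsimp : IsSimpleGroup ↥(Gp F) := (Cfsg.Agent.S1055.result (F := F) hF).1
  by_contra hcon
  push Not at hcon
  have hK : ((Pp F).subgroupOf (Gp F)).normalCore = ⊥ ∨
      ((Pp F).subgroupOf (Gp F)).normalCore = ⊤ :=
    (Subgroup.normalCore_normal _).eq_bot_or_eq_top
  have hgK : (⟨g, hg⟩ : ↥(Gp F)) ∈ ((Pp F).subgroupOf (Gp F)).normalCore := by
    intro b
    rw [Subgroup.mem_subgroupOf]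
    exact hcon b.1 b.2
  rcases hK with hK | hK
  · rw [hK, Subgroup.mem_bot] at hgK
    apply h1
    exact congrArg Subtype.val hgK
  · have hX : (X 0 1 : GG F) ∈ Gp F := h8xU_mem_group chevG2 hB 0 1
    have hmem : (⟨X 0 1, hX⟩ : ↥(Gp F)) ∈ ((Pp F).subgroupOf (Gp F)).normalCore := by
      rw [hK]
      exact Subgroup.mem_top _
    have h2 := Subgroup.normalCore_le _ hmem
    rw [Subgroup.mem_subgroupOf] at h2
    exact hE4A h2

end Cfsg.Agent.Lib.Helper19.G2V
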