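import Mathlib
import Cfsg.Agent.Lib.Helper19.G2V.Defs
import Cfsg.Agent.Lib.Helper26.G2VE4core
import Cfsg.Agent.Lib.Helper11.G2VE4A

set_option autoImplicit false

namespace Cfsg.Agent.Lib.Helper19.G2V

open Cfsg.Lie Cfsg.Lie.ChevalleyDatum Matrix
open Cfsg.Agent.Lib.helper8
open Cfsg.Agent.Lib.helper23.P4V

universe u

variable {F : Type u} [Field F]

theorem exists_conj_not_mem_Pp (hF : ∃ a : F, a ≠ 0 ∧ a ≠ 1) (g : GG F) (hg : g ∈ Gp F) (h1 : g ≠ 1) :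
    ∃ y ∈ Gp F, y * g * y⁻¹ ∉ Pp F :=
  g2ve4_core X0_not_mem_Pp hF g hg h1

end Cfsg.Agent.Lib.Helper19.G2V
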