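import Mathlib
import Cfsg.Agent.Lib.Helper19.G2V.Defs
import Cfsg.Agent.Lib.helper8.ChevPerf

set_option autoImplicit false

namespace Cfsg.Agent.Lib.Helper19.G2V

open Cfsg.Lie Cfsg.Lie.ChevalleyDatum Matrix
open Cfsg.Agent.Lib.helper8
open Cfsg.Agent.Lib.helper23.P4V

universe u

variable {F : Type u} [Field F]

/-- own copy of `CovG.of_conj` (block G). -/
theorem g2vc4_of_conj {x g : GG F} (c : GG F) (hc : c ∈ Gp F) (h : CovG x (c * g * c⁻¹)) :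
    CovG x g := by
  obtain ⟨a, ha, b, hb, hab⟩ := h
  refine ⟨c⁻¹ * a, Subgroup.mul_mem _ (Subgroup.inv_mem _ hc) ha, c⁻¹ * b,
    Subgroup.mul_mem _ (Subgroup.inv_mem _ hc) hb, ?_⟩
  have : g = c⁻¹ * (c * g * c⁻¹) * c := by group
  rw [this, hab]
  group

/-- `InSig ν a` forces `det a = ν ^ 2`. -/
theorem g2vc4_det_of_insig (ν : F) (a : M2 F) (h : InSig ν a) : a.det = ν ^ 2 := by
  rcases h with h | h
  · rw [h, Matrix.det_smul, Matrix.det_one]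
    simp
  · exact h.1

/-- C4 core: the cited rows L4, J4, CB, I2, Q2, M2 as hypotheses. -/
theorem g2vc4_core (τ ν : F) (hG : Good' τ ν)
    (hL4 : ∀ (ν : F), ν ≠ 0 → ∀ (A : M2 F), A.det ≠ 0 →
      ∃ β γ δ : F, γ ≠ 0 ∧ InSig ν (!![1, β; γ, δ] * A))
    (hJ4 : ∀ (r s1 s3 s5 : F) (B : GL (Fin 2) F),
      (B : M2 F) = !![1, -2 * r * s3 + r ^ 2 * s5; -(r * s1), 1 - r ^ 2 * s1 * s3] →
      ∃ v' ∈ Qm F, ∃ u' ∈ Qp F, X 6 s1 * X 9 s3 * X 11 s5 * X 3 r = v' * iota B * u')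
    (hCB : ∀ (v' : GG F), v' ∈ Qm F → ∀ (u' : GG F), u' ∈ Qp F → ∀ (M : GL (Fin 2) F),
      InSig ν (M : M2 F) → CovG (xG τ ν hG.1.nu_ne_zero) (v' * iota M * u'))
    (hI2 : ∀ A B : GL (Fin 2) F, iota (A * B) = iota A * iota B)
    (hQ2 : ∀ (A : GL (Fin 2) F) (u : GG F), u ∈ Qp F → (iota A)⁻¹ * u * iota A ∈ Qp F)
    (hM2 : ∀ (r : ℕ), r ∈ [6, 8, 9, 10, 11] → ∀ (t : F), X r t ∈ Qp F)
    (r : F) (hr : r ≠ 0) (A : GL (Fin 2) F) (u : GG F) (hu : u ∈ Qp F) :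
    CovG (xG τ ν hG.1.nu_ne_zero) (X 3 r * iota A * u) := by
  have hν : ν ≠ 0 := hG.1.nu_ne_zero
  have hAdet : (A : M2 F).det ≠ 0 := by
    have := A.isUnit.map (Matrix.detMonoidHom (n := Fin 2) (R := F))
    exact this.ne_zero
  obtain ⟨β, γ, δ, hγ, hsig⟩ := hL4 ν hν (A : M2 F) hAdet
  -- the matrix `B`
  have hBdet : (!![1, β; γ, δ] : M2 F).det ≠ 0 := by
    intro h0
    have h1 := g2vc4_det_of_insig ν _ hsig
    rw [Matrix.det_mul, h0, zero_mul] at h1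
    exact pow_ne_zero 2 hν h1.symm
  set B : GL (Fin 2) F := mk2 (!![1, β; γ, δ] : M2 F) hBdet with hBdef
  have hBval : (B : M2 F) = !![1, β; γ, δ] := mk2_val _ _
  -- parameters
  set s1 : F := -γ / r with hs1
  have hs1ne : s1 ≠ 0 := by
    rw [hs1]
    exact div_ne_zero (neg_ne_zero.2 hγ) hr
  set s3 : F := (1 - δ) / (r ^ 2 * s1) with hs3
  set s5 : F := (β + 2 * r * s3) / r ^ 2 with hs5
  have e1 : -(r * s1) = γ := by
    rw [hs1]
    field_simp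
  have e2 : 1 - r ^ 2 * s1 * s3 = δ := by
    rw [hs3]
    field_simp
    ring
  have e3 : -2 * r * s3 + r ^ 2 * s5 = β := by
    rw [hs5]
    field_simp
    ring
  have hB' : (B : M2 F) =
      !![1, -2 * r * s3 + r ^ 2 * s5; -(r * s1), 1 - r ^ 2 * s1 * s3] := by
    rw [hBval, e1, e2, e3]
  obtain ⟨v', hv', u', hu', hid⟩ := hJ4 r s1 s3 s5 B hB'
  -- the conjugator
  set y : GG F := X 6 s1 * X 9 s3 * X 11 s5 with hy
  have hyQ : y ∈ Qp F :=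
    Subgroup.mul_mem _ (Subgroup.mul_mem _ (hM2 6 (by simp) s1) (hM2 9 (by simp) s3))
      (hM2 11 (by simp) s5)
  have hyG : y ∈ Gp F :=
    Subgroup.mul_mem _ (Subgroup.mul_mem _ (h8xU_mem_group chevG2 hB 6 s1)
      (h8xU_mem_group chevG2 hB 9 s3)) (h8xU_mem_group chevG2 hB 11 s5)
  apply g2vc4_of_conj y hyG
  set u'' : GG F := (iota A)⁻¹ * u' * iota A * u * y⁻¹ with hu''
  have hu''Q : u'' ∈ Qp F :=
    Subgroup.mul_mem _ (Subgroup.mul_mem _ (hQ2 A u' hu') hu) (Subgroup.inv_mem _ hyQ)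
  have hM : InSig ν ((B * A : GL (Fin 2) F) : M2 F) := by
    have : ((B * A : GL (Fin 2) F) : M2 F) = (B : M2 F) * (A : M2 F) := rfl
    rw [this, hBval]
    exact hsig
  have hfin := hCB v' hv' u'' hu''Q (B * A) hM
  have heq : y * (X 3 r * iota A * u) * y⁻¹ = v' * iota (B * A) * u'' := by
    have h1 : y * (X 3 r * iota A * u) * y⁻¹ = (y * X 3 r) * iota A * u * y⁻¹ := by group
    rw [h1, hid, hI2, hu'']
    group
  rw [heq]
  exact hfin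

end Cfsg.Agent.Lib.Helper19.G2V
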