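import Mathlib
import Cfsg.Prelude.Def_Classical
import Cfsg.Prelude.Def_GeometricClasses
import Cfsg.Agent.Lib.Helper19.O9U.Defs
import Cfsg.Agent.Lib.Helper28.BCSB0

set_option autoImplicit false

/-!
# Project O9U (designer helper19), row MAIN9 (`o9u_main`), written by helper26: CORE on the statement of UPPER
(`omega9_upper` is not on main yet).  Once UPPER is landed, `o9u_main hF p x = o9umain9_core hF p (fun x hx => omega9_upper hF p x hx) x`.
Extras prefixed `o9umain9_`.
-/

namespace Cfsg.Agent.Lib.Helper19.O9U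

open Polynomial

/-- odd cardinality of a finite field gives `2 ≠ 0` -/
theorem o9umain9_two_ne_zero {F : Type*} [Field F] [Fintype F] (hF : Odd (Fintype.card F)) :
    (2 : F) ≠ 0 := by
  intro h
  have h2 : ringChar F = 2 := by
    have hdvd : ringChar F ∣ 2 := by
      have := (ringChar.spec F 2).mp (by exact_mod_cast h)
      exact this
    have hp : (ringChar F).Prime := CharP.char_is_prime F (ringChar F)
    exact (Nat.prime_dvd_prime_iff_eq hp Nat.prime_two).mp hdvd
  have h3 := FiniteField.even_card_of_char_two h2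
  rcases hF with ⟨k, hk⟩
  omega

/-- MAIN9 core: `o9u_main` from the statement of UPPER (`omega9_upper`). -/
theorem o9umain9_core {F : Type*} [Field F] [Fintype F] (hF : Odd (Fintype.card F)) (p : ℕ) [Fact p.Prime]
    [CharP F p]
    (hUPPER : ∀ x : GL I9 F, x ∈ Cfsg.Geo.omegaGL (Cfsg.quadFormOdd 4 F) →
      ∃ N, InT9 (Fintype.card F) p N ∧ orderOf x ∣ N)
    (x : Cfsg.POmega F (Cfsg.quadFormOdd 4 F)) :
    ∃ N, InT9 (Fintype.card F) p N ∧ orderOf x ∣ N := by
  have h2 : (2 : F) ≠ 0 := o9umain9_two_ne_zero hF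
  obtain ⟨X, hX, hord⟩ := Cfsg.Agent.Lib.Lead.BCS.bcs_lift h2 4 (by norm_num) (orderOf x) ⟨x, rfl⟩
  obtain ⟨N, hN, hdvd⟩ := hUPPER X hX
  exact ⟨N, hN, hord ▸ hdvd⟩

end Cfsg.Agent.Lib.Helper19.O9U
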