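import Mathlib
import Cfsg.Agent.Lib.helper3.SU5.Defs
import Cfsg.Agent.Lib.Helper27.STUQ1
import Cfsg.Agent.Lib.Helper11.STUX1

/-!
# SU5 row S6 (helper26): `sys_gen`, the root elements generate.
-/

set_option autoImplicit false

namespace Cfsg.Agent.Lib.helper3.SU5

open Cfsg.Agent.Lib.helper15.St2 Cfsg.Agent.Lib.Helper27.STU
open Cfsg.Agent.Lib.helper3.STC (ng sws)

universe u v w w₀

namespace Dat

variable {F : Type u} [Field F] [StarRing F] {G : Type w} [Group G] (D : Dat F G)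

theorem sys_gen (S : SysU F True (Fin 2) G) (hxs : S.xs = D.xs) (hxl : S.xl = D.xl)
    (hgen : Subgroup.closure (Set.range D.φa ∪ Set.range D.φb) = ⊤) : S.XQ (fun _ _ => True) = ⊤ := by
  rw [eq_top_iff, ← hgen, Subgroup.closure_le]
  have hxA : ∀ t : F, D.φa (xm t) ∈ S.XQ (fun _ _ => True) := by
    intro t
    have e : D.φa (xm t) = S.xs (Sum.inl 0) (Sum.inl 1) t := by
      rw [hxs]; rfl
    rw [e]
    exact S.xs_mem_XQ (by decide) (by decide) trivial t
  have hyA : ∀ t : F, D.φa (ym t) ∈ S.XQ (fun _ _ => True) := by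
    intro t
    have e : D.φa (ym t) = S.xs (Sum.inl 1) (Sum.inl 0) t := by
      rw [hxs]; rfl
    rw [e]
    exact S.xs_mem_XQ (by decide) (by decide) trivial t
  have hxB : ∀ ξ : Lam F True, D.φb (XpU ξ) ∈ S.XQ (fun _ _ => True) := by
    intro ξ
    have e : D.φb (XpU ξ) = S.xl (Sum.inl 1) ξ := by
      rw [hxl]; rfl
    rw [e]
    exact S.xl_mem_XQ trivial ξ
  have hyB : ∀ ξ : Lam F True, D.φb (XmU ξ) ∈ S.XQ (fun _ _ => True) := by
    intro ξ
    have e : D.φb (XmU ξ) = S.xl (Sum.inr 1) ξ := by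
      rw [hxl]; rfl
    rw [e]
    exact S.xl_mem_XQ trivial ξ
  rintro g (⟨A, rfl⟩ | ⟨M, rfl⟩)
  · have hsurj := surjective_of ((S.XQ (fun _ _ => True)).comap D.φa).subtype
      (fun t => ⟨⟨xm t, hxA t⟩, rfl⟩) (fun t => ⟨⟨ym t, hyA t⟩, rfl⟩)
    obtain ⟨⟨B, hB⟩, rfl⟩ := hsurj A
    exact hB
  · exact stuq1_induction (p := fun M => D.φb M ∈ S.XQ (fun _ _ => True)) hxB hyB
      (by rw [map_one]; exact Subgroup.one_mem _)
      (fun M N hM hN => by rw [map_mul]; exact Subgroup.mul_mem _ hM hN) M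

end Dat

end Cfsg.Agent.Lib.helper3.SU5
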