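import Mathlib
import Cfsg.Agent.Lib.Helper20.GLE.Defs

/-!
Project GLE (designer helper20; block of PSU, S2291) row Λ1 (`exists_zeta span_of_ne`), VERBATIM vs `Helper20/GLE/SkelA.lean.txt`.
-/

set_option autoImplicit false

namespace Cfsg.Agent.Lib.Helper20.GLE

open Cfsg.Agent.Lib.helper3.STC (ng ab)
open Cfsg.Agent.Lib.helper3.SPM (Pts pe sgm sn sig2 ptsFin pe2)
open Cfsg.Agent.Lib.Helper27.STU
open Cfsg.Agent.Lib.helper17.SLP (cm)

universe u v w x v' y

section lam
variable {F : Type u} [Field F] [StarRing F]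

/-- Λ1 [S-M]  the involution is not trivial, and `F = F₀ + F₀ ζ` for every `ζ` which is not fixed. -/
theorem exists_zeta (hF : Hyp F) : ∃ ζ : F, star ζ ≠ ζ := by
  by_contra hcon
  push Not at hcon
  obtain ⟨c, hc0, hc⟩ := hF.ex_skew
  rw [hcon c] at hc
  have h2 : (2 : F) = 0 := by
    have h1 : (2 : F) * c = 0 := by linear_combination hc
    rcases mul_eq_zero.1 h1 with h | h
    · exact h
    · exact absurd h hc0
  obtain ⟨y, hy⟩ := hF.trace_surj 1 (star_one F)
  rw [hcon y] at hy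
  have h3 : (1 : F) = 0 := by
    calc (1 : F) = y + y := hy.symm
      _ = 2 * y := by ring
      _ = 0 := by rw [h2, zero_mul]
  exact one_ne_zero h3

theorem span_of_ne {ζ : F} (hζ : star ζ ≠ ζ) (t : F) : ∃ s s' : F, star s = s ∧ star s' = s' ∧ t = s + s' * ζ := by
  have hd : ζ - star ζ ≠ 0 := sub_ne_zero.2 (Ne.symm hζ)
  have hd' : star ζ - ζ ≠ 0 := sub_ne_zero.2 hζ
  have hs' : star ((t - star t) / (ζ - star ζ)) = (t - star t) / (ζ - star ζ) := by
    rw [star_div₀, star_sub, star_sub, star_star, star_star, ← neg_sub t (star t), ← neg_sub ζ (star ζ), neg_div_neg_eq]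
  refine ⟨t - (t - star t) / (ζ - star ζ) * ζ, (t - star t) / (ζ - star ζ), ?_, hs', by ring⟩
  rw [star_sub, star_mul', hs']
  field_simp
  ring

end lam

end Cfsg.Agent.Lib.Helper20.GLE
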