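import Cfsg.Agent.Lib.Helper26.SatCrit19

set_option autoImplicit false

namespace Cfsg.Agent.Lib.Helper26

open Cfsg Cfsg.FusionSystem

variable {Ω : Type*} [Group Ω] {S : Subgroup Ω}

theorem finite_setOf_le [Finite S] : Set.Finite {P : Subgroup Ω | P ≤ S} := by
  apply Set.Finite.of_finite_image (f := fun P : Subgroup Ω => P.subgroupOf S) (Set.toFinite _)
  intro P hP P' hP' h
  have h1 : (P.subgroupOf S).map S.subtype = (P'.subgroupOf S).map S.subtype := by
    show ((fun P : Subgroup Ω => P.subgroupOf S) P).map S.subtype =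
      ((fun P : Subgroup Ω => P.subgroupOf S) P').map S.subtype
    rw [h]
  rwa [Subgroup.map_subgroupOf_eq_of_le hP, Subgroup.map_subgroupOf_eq_of_le hP'] at h1

theorem isConj_top_eq [Finite S] (F : FusionSystem S) {Q : Subgroup Ω} (h : F.IsConj S Q) :
    Q = S := by
  apply Subgroup.eq_of_le_of_card_ge (isConj_le_right F h)
  rw [card_eq_of_isConj F h]

theorem autInducedBy_top_le_inn : autInducedBy S S ≤ Inn S := by
  intro α hα
  obtain ⟨g, hg, hgα⟩ := mem_autInducedBy_iff.mp hα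
  refine ⟨⟨g, hg⟩, ?_⟩
  ext x
  rw [hgα]
  rfl

theorem saturated_of_family_aux [Finite S] {p : ℕ} [Fact p.Prime] (hS : IsPGroup p S)
    (F : FusionSystem S) : ∀ (n : ℕ) (ℋ : Set (Subgroup Ω)),
    (∀ P ∈ ℋ, ∀ Q, F.IsConj P Q → Q ∈ ℋ) → (∀ P ∈ ℋ, HasFar F p P) →
    (∀ E : FusionSystem S, (∀ P ∈ ℋ, F.Hom P ⊆ E.Hom P) → F ≤ E) →
    (∀ P : Subgroup Ω, F.IsCentric P → P ∉ ℋ → ∃ Q, F.IsConj P Q ∧
      ¬ (autInducedBy S Q ⊓ (pCore p ↥(F.autGroup Q)).map (F.autGroup Q).subtype ≤ Inn Q)) →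
    {P : Subgroup Ω | P ≤ S ∧ P ∉ ℋ}.ncard = n → F.IsSaturated p := by
  intro n
  induction n using Nat.strong_induction_on with
  | _ n ih =>
    intro ℋ hconj hsat hgen hstar hn
    by_cases hempty : {P : Subgroup Ω | P ≤ S ∧ P ∉ ℋ} = ∅
    · intro P hP
      have hPℋ : P ∈ ℋ := by
        by_contra h
        have : P ∈ {P : Subgroup Ω | P ≤ S ∧ P ∉ ℋ} := ⟨hP, h⟩
        rw [hempty] at this
        exact this
      exact hsat P hPℋ
    · have hne : {P : Subgroup Ω | P ≤ S ∧ P ∉ ℋ}.Nonempty := Set.nonempty_iff_ne_empty.mpr hempty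
      obtain ⟨P₀, ⟨hP₀S, hP₀ℋ⟩, hmax⟩ := exists_max_nat _ hne (fun P => Nat.card P) (Nat.card S)
        (fun P hP => card_le_card_of_le_of_finite hP.1)
      have htop : S ∈ ℋ := by
        by_contra h
        have hcen : F.IsCentric S := by
          refine ⟨le_rfl, fun Q hQ => ?_⟩
          rw [isConj_top_eq F hQ]
          exact inf_le_left
        obtain ⟨Q, hQ, hQn⟩ := hstar S hcen h
        have hQS := isConj_top_eq F hQ
        subst hQS
        exact hQn (inf_le_left.trans autInducedBy_top_le_inn)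
      have C : SatCtx F p ℋ P₀ :=
        { hS := hS
          hsat := hsat
          hgen := hgen
          hP₀ := hP₀S
          hP₀ℋ := fun Q hQ hQℋ => hP₀ℋ (hconj Q hQℋ P₀ (isConj_symm F hQ))
          hbig := fun R hRS hlt => by
            by_contra h
            have h3 : Nat.card R ≤ Nat.card P₀ := hmax R ⟨hRS, h⟩
            omega
          htop := htop }
      have hfar : HasFar F p P₀ :=
        hasFar_of_satCtx C (fun hc => hstar P₀ hc hP₀ℋ)
      have hsub : {P : Subgroup Ω | P ≤ S ∧ P ∉ ℋ ∪ {Q | F.IsConj P₀ Q}} ⊂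
          {P : Subgroup Ω | P ≤ S ∧ P ∉ ℋ} := by
        refine ⟨fun P hP => ⟨hP.1, fun h => hP.2 (Or.inl h)⟩, fun hsup => ?_⟩
        have := hsup ⟨hP₀S, hP₀ℋ⟩
        exact this.2 (Or.inr (isConj_refl F hP₀S))
      have hfin : {P : Subgroup Ω | P ≤ S ∧ P ∉ ℋ}.Finite :=
        finite_setOf_le.subset (fun P hP => hP.1)
      have hlt := Set.ncard_lt_ncard hsub hfin
      rw [hn] at hlt
      refine ih _ hlt (ℋ ∪ {Q | F.IsConj P₀ Q}) ?_ ?_ ?_ ?_ rfl
      · rintro P (hP | hP) Q hPQ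
        · exact Or.inl (hconj P hP Q hPQ)
        · exact Or.inr (isConj_trans F hP hPQ)
      · rintro P (hP | hP)
        · exact hsat P hP
        · exact hfar.of_isConj hP
      · intro E hE
        exact hgen E (fun P hP => hE P (Or.inl hP))
      · intro P hPc hP
        exact hstar P hPc (fun h => hP (Or.inl h))

/-- BCGLO saturation criterion -/
theorem saturated_of_family [Finite S] {p : ℕ} [Fact p.Prime] (hS : IsPGroup p S)
    (F : FusionSystem S) (ℋ : Set (Subgroup Ω))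
    (hconj : ∀ P ∈ ℋ, ∀ Q, F.IsConj P Q → Q ∈ ℋ)
    (hsat : ∀ P ∈ ℋ, ∃ Q, F.IsConj P Q ∧ F.IsFullyAutomized p Q ∧ F.IsReceptive Q)
    (hgen : ∀ E : FusionSystem S, (∀ P ∈ ℋ, F.Hom P ⊆ E.Hom P) → F ≤ E)
    (hstar : ∀ P : Subgroup Ω, F.IsCentric P → P ∉ ℋ → ∃ Q, F.IsConj P Q ∧
      ¬ (autInducedBy S Q ⊓ (pCore p ↥(F.autGroup Q)).map (F.autGroup Q).subtype ≤ Inn Q)) :
    F.IsSaturated p :=
  saturated_of_family_aux hS F _ ℋ hconj hsat hgen hstar rfl

end Cfsg.Agent.Lib.Helper26
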