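import Mathlib
import Cfsg.Agent.Lib.helper3.S5953.Defs2
import Cfsg.Prelude.Def_LieClassical
import Cfsg.Agent.Lib.helper23.S5953U2

/-!
# S5953 row N2 (helper26): `cauchy` — an isometry `≠ 1` of order `r` of the standard `c`-space from Cauchy's theorem in `GU_c(q)`.
-/

set_option autoImplicit false

namespace Cfsg.Agent.Lib.helper3.S5953

open Polynomial Module

/-- N2 [M] CAUCHY: an isometry `≠ 1` of order `r` of the standard `c`-space when
`r ∣ q^c - (-1)^c` (U3 + Cauchy in `GU_c(q)`). -/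
theorem cauchy {F : Type*} [Field F] [Fintype F] {q : ℕ} (hF : Fintype.card F = q ^ 2)
    (r : ℕ) [Fact r.Prime] (c : ℕ) (hc : 1 ≤ c) (hdvd : (-(q : ZMod r)) ^ c = 1) :
    ∃ y : Module.End F (Fin c → F), HCtx q r 1 y ∧ y ≠ 1 := by
  classical
  have hrP : r.Prime := Fact.out
  have h1 : r ∣ Nat.card (Cfsg.GU c F q) := gu_dvd' hF c r c hc (le_refl c) hdvd
  obtain ⟨g, hg⟩ := exists_prime_orderOf_dvd_card' r h1
  have hgr : g ^ r = 1 := by rw [← hg]; exact pow_orderOf_eq_one g
  have hg1 : g ≠ 1 := by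
    intro h
    rw [h, orderOf_one] at hg
    exact hrP.one_lt.ne hg
  set M : Matrix (Fin c) (Fin c) F := ((g : Matrix.GeneralLinearGroup (Fin c) F) : Matrix (Fin c) (Fin c) F)
    with hM
  have hMr : M ^ r = 1 := by
    have h2 : ((g ^ r : Cfsg.GU c F q) : Matrix.GeneralLinearGroup (Fin c) F) = 1 := by
      rw [hgr]; rfl
    have h3 := congrArg (fun u : Matrix.GeneralLinearGroup (Fin c) F => (u : Matrix (Fin c) (Fin c) F)) h2
    simpa [hM] using h3
  refine ⟨Matrix.toLin' M, ⟨?_, ?_, one_ne_zero⟩, ?_⟩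
  · intro u v
    have h2 := g.2 u v
    rw [Matrix.toLin'_apply, Matrix.toLin'_apply]
    exact h2
  · rw [← Matrix.toLin'_pow, hMr, Matrix.toLin'_one, one_smul]
    rfl
  · intro h
    apply hg1
    have h2 : M = 1 := by
      apply Matrix.toLin'.injective
      rw [h, Matrix.toLin'_one]
      rfl
    apply Subtype.ext
    apply Units.ext
    exact h2

end Cfsg.Agent.Lib.helper3.S5953
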