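import Mathlib
import Cfsg.Agent.Lib.helper3.T2E.Defs
import Cfsg.Agent.Lib.helper8.ChevTwE6H16
import Cfsg.Agent.Lib.helper8.ChevTwE6c
import Cfsg.Agent.Lib.helper8.ChevTw7

/-!
# Project T2E = S2108 (designer helper3), block D, row D13e (`comm_one`, the eleven commuting pairs) (helper26), VERBATIM.
`decide +kernel` certificate on `commTerms` of the (at most four) pairs of `E₆` roots involved; `h8xU_commute`.
-/

set_option autoImplicit false

namespace Cfsg.Agent.Lib.helper3.T2E

open Cfsg.Lie Cfsg.Lie.ChevalleyDatum Matrix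
open Cfsg.Agent.Lib.helper8 Cfsg.Agent.Lib.Helper10.TEM Cfsg.Agent.Lib.helper7.Ce
  Cfsg.Agent.Lib.helper15.St2

universe u

variable {K : Type u} [Field K] {q : ℕ} {f : K ≃+* K}

set_option synthInstance.maxSize 1024 in
/-- certificate: all pairs of `E₆` roots below the eleven pairs have a trivial commutator formula -/
theorem t2ed13eh26_cert : ∀ p ∈ [(42, 44), (40, 44), (46, 47), (39, 47), (56, 57), (42, 57), (39, 43), (39, 44),
      (44, 43), (39, 56), (44, 42)], ∀ a' ∈ [p.1, h8sE6 p.1], ∀ b' ∈ [p.2, h8sE6 p.2],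
    a' < 72 ∧ b' < 72 ∧ b' ≠ a' ∧ b' ≠ 71 - a' ∧ chevE6.commTerms a' b' = [] := by
  decide +kernel

/-- root elements of two roots with trivial commutator formula commute -/
theorem t2ed13eh26_X_comm (a b : ℕ) (ha : a < 72) (hb : b < 72) (hne : b ≠ a) (hneg : b ≠ 71 - a)
    (hterms : chevE6.commTerms a b = []) (t u : K) : X a t * X b u = X b u * X a t := by
  have hn : chevE6.nroots = 72 := by decide
  have hnegi : chevE6.negIdx.getD a 0 = 71 - a := (root_data a ha).2.1
  exact h8xU_commute (K := K) chevE6 hB hC a b (by rw [hn]; exact ha) (by rw [hn]; exact hb) hne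
    (by rw [hnegi]; exact hneg) hterms t u

/-- `XT` is a product of root elements of `r` and `σ r` -/
theorem t2ed13eh26_XT_cases (q r : ℕ) (t : K) :
    XT q r t = X r t ∨ ∃ v : K, XT q r t = X r t * X (h8sE6 r) v := by
  unfold XT
  split_ifs with h
  · exact Or.inl rfl
  · exact Or.inr ⟨_, rfl⟩

-- ROW D13e [S-M]  the commuting pairs (`decide` on `commTerms` of the at most four pairs of `E₆` roots involved).
theorem comm_one (hF : Frob q f) (a b : ℕ)
    (h : (a, b) ∈ [(42, 44), (40, 44), (46, 47), (39, 47), (56, 57), (42, 57), (39, 43), (39, 44),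
      (44, 43), (39, 56), (44, 42)]) (t u : K) :
    XT q a t * XT q b u = XT q b u * XT q a t := by
  have hc := t2ed13eh26_cert (a, b) h
  have c11 : ∀ t u : K, X a t * X b u = X b u * X a t := fun t u => by
    obtain ⟨h1, h2, h3, h4, h5⟩ := hc a (by simp) b (by simp)
    exact t2ed13eh26_X_comm a b h1 h2 h3 h4 h5 t u
  have c12 : ∀ t u : K, X a t * X (h8sE6 b) u = X (h8sE6 b) u * X a t := fun t u => by
    obtain ⟨h1, h2, h3, h4, h5⟩ := hc a (by simp) (h8sE6 b) (by simp)
    exact t2ed13eh26_X_comm a _ h1 h2 h3 h4 h5 t u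
  have c21 : ∀ t u : K, X (h8sE6 a) t * X b u = X b u * X (h8sE6 a) t := fun t u => by
    obtain ⟨h1, h2, h3, h4, h5⟩ := hc (h8sE6 a) (by simp) b (by simp)
    exact t2ed13eh26_X_comm _ b h1 h2 h3 h4 h5 t u
  have c22 : ∀ t u : K, X (h8sE6 a) t * X (h8sE6 b) u = X (h8sE6 b) u * X (h8sE6 a) t := fun t u => by
    obtain ⟨h1, h2, h3, h4, h5⟩ := hc (h8sE6 a) (by simp) (h8sE6 b) (by simp)
    exact t2ed13eh26_X_comm _ _ h1 h2 h3 h4 h5 t u
  rcases t2ed13eh26_XT_cases q a t with ea | ⟨v, ea⟩ <;> rcases t2ed13eh26_XT_cases q b u with eb | ⟨w, eb⟩ <;>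
    rw [ea, eb]
  · exact c11 t u
  · calc X a t * (X b u * X (h8sE6 b) w) = (X a t * X b u) * X (h8sE6 b) w := by rw [mul_assoc]
      _ = X b u * (X a t * X (h8sE6 b) w) := by rw [c11, mul_assoc]
      _ = X b u * X (h8sE6 b) w * X a t := by rw [c12, mul_assoc]
  · calc X a t * X (h8sE6 a) v * X b u = X a t * (X (h8sE6 a) v * X b u) := by rw [mul_assoc]
      _ = (X a t * X b u) * X (h8sE6 a) v := by rw [c21, mul_assoc]
      _ = X b u * (X a t * X (h8sE6 a) v) := by rw [c11, mul_assoc]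
  · calc X a t * X (h8sE6 a) v * (X b u * X (h8sE6 b) w)
        = X a t * ((X (h8sE6 a) v * X b u) * X (h8sE6 b) w) := by simp only [mul_assoc]
      _ = X a t * (X b u * (X (h8sE6 a) v * X (h8sE6 b) w)) := by rw [c21, mul_assoc]
      _ = (X a t * X b u) * (X (h8sE6 b) w * X (h8sE6 a) v) := by rw [c22, mul_assoc]
      _ = X b u * ((X a t * X (h8sE6 b) w) * X (h8sE6 a) v) := by rw [c11]; simp only [mul_assoc]
      _ = X b u * X (h8sE6 b) w * (X a t * X (h8sE6 a) v) := by rw [c12]; simp only [mul_assoc]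

end Cfsg.Agent.Lib.helper3.T2E
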