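import Mathlib
import Cfsg.Agent.Lib.Helper21.BSQ.Defs
import Cfsg.Agent.Lib.Helper21.BSQE6
import Cfsg.Agent.Lib.Helper1.Cores

set_option autoImplicit false

namespace Cfsg.Agent.Lib.Helper21.BSQ

universe u

variable {G : Type u} [Group G]

/-- `QuaternionGroup (2 ^ k)`, `k ≥ 2`, is not commutative. -/
theorem bsqe7a_quat_not_comm (k : ℕ) (hk : 2 ≤ k)
    (h : ∀ x y : QuaternionGroup (2 ^ k), x * y = y * x) : False := by
  have h1 := h (QuaternionGroup.a 1) (QuaternionGroup.xa 0)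
  rw [QuaternionGroup.a_mul_xa, QuaternionGroup.xa_mul_a] at h1
  have h2 : (0 : ZMod (2 * 2 ^ k)) - 1 = 0 + 1 := by
    injection h1
  have h3 : ((2 : ℕ) : ZMod (2 * 2 ^ k)) = 0 := by
    have : (2 : ZMod (2 * 2 ^ k)) = (0 + 1) - (0 - 1) := by ring
    rw [← h2] at this
    simpa using this
  rw [ZMod.natCast_eq_zero_iff] at h3
  have h4 : 2 * 2 ^ k ≤ 2 := Nat.le_of_dvd (by norm_num) h3
  have h5 : 2 ^ 2 ≤ 2 ^ k := Nat.pow_le_pow_right (by norm_num) hk
  omega

/-- E7a core: the cited rows E1, E2', E5 as hypotheses. -/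
theorem bsqe7a_core [Finite G] (hB : IsBStar G) {k : ℕ}
    (hE1 : Subgroup.closure {x : QuaternionGroup (2 ^ k) | orderOf x = 4} = ⊤)
    (hE2p : ∀ (P : Subgroup G) [P.Normal] (_ : ↥P ≃* QuaternionGroup (2 ^ k)) (g : G),
      Odd (orderOf g) → ∀ x ∈ P, g * x = x * g)
    (hE5 : ∀ (Q : Subgroup G) [Q.Normal] (x : G), x ∈ Q → orderOf x = 4 →
      ∀ y : G, orderOf y = 4 → y ∈ Q)
    (hC : Subgroup.centralizer (Cfsg.pCore 2 G : Set G) ≤ Cfsg.pCore 2 G) (P : Sylow 2 G)
    (hk : 2 ≤ k) (e : ↥(P : Subgroup G) ≃* QuaternionGroup (2 ^ k)) (x : G)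
    (hxQ : x ∈ Cfsg.pCore 2 G) (hx : orderOf x = 4) : False := by
  have : Fact (Nat.Prime 2) := ⟨Nat.prime_two⟩
  have hQn : (Cfsg.pCore 2 G).Normal := Cfsg.Agent.Lib.Helper1.pCore_normal 2
  have hQP : Cfsg.pCore 2 G ≤ (P : Subgroup G) := Cfsg.Agent.Lib.Helper1.pCore_le_sylow 2 P
  have h4 : ∀ y : G, orderOf y = 4 → y ∈ Cfsg.pCore 2 G := hE5 (Cfsg.pCore 2 G) x hxQ hx
  -- `P ≤ Q`
  have hPQ : (P : Subgroup G) ≤ Cfsg.pCore 2 G := by
    let K : Subgroup (QuaternionGroup (2 ^ k)) :=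
      ((Cfsg.pCore 2 G).subgroupOf (P : Subgroup G)).map e.toMonoidHom
    have hK : K = ⊤ := by
      rw [eq_top_iff, ← hE1, Subgroup.closure_le]
      intro z hz
      have hz4 : orderOf z = 4 := hz
      refine ⟨e.symm z, ?_, ?_⟩
      · show ((e.symm z : ↥(P : Subgroup G)) : G) ∈ Cfsg.pCore 2 G
        apply h4
        rw [Subgroup.orderOf_coe, MulEquiv.orderOf_eq]
        exact hz4
      · simp
    intro y hy
    have hmem : e ⟨y, hy⟩ ∈ K := by rw [hK]; exact Subgroup.mem_top _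
    obtain ⟨w, hw, hwe⟩ := hmem
    have hwy : w = ⟨y, hy⟩ := e.injective hwe
    have : (w : G) ∈ Cfsg.pCore 2 G := hw
    rw [hwy] at this
    exact this
  have hPeq : (P : Subgroup G) = Cfsg.pCore 2 G := le_antisymm hPQ hQP
  have hPn : (P : Subgroup G).Normal := by rw [hPeq]; exact hQn
  -- elements of odd order are trivial
  have hodd : ∀ g : G, Odd (orderOf g) → g = 1 := by
    intro g hg
    have hcent := hE2p (P : Subgroup G) e g hg
    have hgC : g ∈ Subgroup.centralizer (Cfsg.pCore 2 G : Set G) := by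
      rw [Subgroup.mem_centralizer_iff]
      intro y hy
      have hyP : y ∈ (P : Subgroup G) := hQP hy
      exact (hcent y hyP).symm
    have hgQ : g ∈ Cfsg.pCore 2 G := hC hgC
    have hgP : g ∈ (P : Subgroup G) := hQP hgQ
    obtain ⟨j, hj⟩ := P.2 ⟨g, hgP⟩
    have hj' : g ^ (2 ^ j) = 1 := by
      have := congrArg (Subtype.val) hj
      simpa using this
    have hdvd : orderOf g ∣ 2 ^ j := orderOf_dvd_of_pow_eq_one hj'
    obtain ⟨i, _, hi⟩ := (Nat.dvd_prime_pow Nat.prime_two).1 hdvd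
    rcases Nat.eq_zero_or_pos i with h0 | hpos
    · rw [h0, pow_zero] at hi
      exact orderOf_eq_one_iff.1 hi
    · exfalso
      rw [hi] at hg
      have : Even (2 ^ i) := (Nat.even_pow.2 ⟨even_two, hpos.ne'⟩)
      exact (Nat.not_odd_iff_even.2 this) hg
  have hcyc : IsCyclic G := cyclic_of_no_odd hB hodd
  have hmc : IsMulCommutative G := IsCyclic.isMulCommutative
  have hcomm : ∀ a b : G, a * b = b * a := fun a b => hmc.is_comm.comm a b
  apply bsqe7a_quat_not_comm k hk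
  intro u v
  have h1 : e.symm u * e.symm v = e.symm v * e.symm u := by
    apply Subtype.ext
    simp only [Subgroup.coe_mul]
    exact hcomm _ _
  have h2 := congrArg e h1
  simpa using h2

end Cfsg.Agent.Lib.Helper21.BSQ
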