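import Cfsg.Agent.Lib.Helper26.StrongEmb
import Cfsg.Agent.Lib.Helper26.FusionGroup

set_option autoImplicit false

namespace Cfsg.Agent.Lib.Helper26

open Cfsg Cfsg.FusionSystem

variable {X : Type*} [Group X]

theorem normalizer_le_of_core_le {p : ℕ} [Fact p.Prime] [Finite X] (T : Sylow p X) {Y : Subgroup X}
    (hY : kGeneratedCore p 1 (T : Subgroup X) ≤ Y) {D : Subgroup X} (hDT : D ≤ T) (hD : D ≠ ⊥) :
    Subgroup.normalizer (D : Set X) ≤ Y := by
  have h1 : ¬ PRankLE p (1 - 1) D := not_pRankLE_zero_of_ne_bot D (T.isPGroup'.to_le hDT) hD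
  exact le_trans (le_iSup (fun Q : {Q : Subgroup X // Q ≤ (T : Subgroup X) ∧ ¬ PRankLE p (1 - 1) Q} =>
    Subgroup.normalizer ((Q : Subgroup X) : Set X)) ⟨D, hDT, h1⟩) hY

theorem mem_normalizer_of_cj_le [Finite X] {K : Subgroup X} {g : X} (h : cj K g ≤ K) :
    g ∈ Subgroup.normalizer (K : Set X) := by
  have heq : cj K g = K := Subgroup.eq_of_le_of_card_ge h (by rw [card_cj])
  rw [Subgroup.mem_normalizer_iff]
  intro y
  constructor
  · intro hy
    exact h (conj_mem_cj hy)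
  · intro hy
    rw [← heq, mem_cj_iff] at hy
    have e : g⁻¹ * (g * y * g⁻¹) * g = y := by group
    rwa [e] at hy

theorem exists_isSylowIn_ge {p : ℕ} [Fact p.Prime] {N U : Subgroup X} (hUN : U ≤ N)
    (hU : IsPGroup p U) : ∃ R : Subgroup X, R ≤ N ∧ U ≤ R ∧ IsSylowIn p N R ∧ IsPGroup p R := by
  have hU' : IsPGroup p (U.subgroupOf N) := hU.comap_subtype
  obtain ⟨R, hR⟩ := hU'.exists_le_sylow
  refine ⟨(R : Subgroup N).map N.subtype, ?_, ?_, ⟨R, ?_⟩, R.isPGroup'.map _⟩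
  · rintro _ ⟨x, -, rfl⟩
    exact x.2
  · intro x hx
    exact ⟨⟨x, hUN hx⟩, hR (Subgroup.mem_subgroupOf.mpr hx), rfl⟩
  · ext x
    rw [Subgroup.mem_subgroupOf]
    constructor
    · intro hx
      exact ⟨x, hx, rfl⟩
    · rintro ⟨y, hy, hyx⟩
      have : y = x := Subtype.ext hyx
      rwa [← this]

/-- A subgroup containing `Γ_{T,1}(X)` controls fusion of nontrivial subgroups of `T`. -/
theorem mem_of_cj_le_sylow {p : ℕ} [Fact p.Prime] [Finite X] (T : Sylow p X) {Y : Subgroup X}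
    (hY : kGeneratedCore p 1 (T : Subgroup X) ≤ Y) :
    ∀ (n : ℕ) (D : Subgroup X), D ≤ T → D ≠ ⊥ → Nat.card (T : Subgroup X) - Nat.card D = n →
      ∀ ξ : X, cj D ξ ≤ T → ξ ∈ Y := by
  intro n
  induction n using Nat.strong_induction_on with
  | _ n ih =>
    intro D hDT hD hn ξ hξ
    have hTp : IsPGroup p (T : Subgroup X) := T.isPGroup'
    by_cases hDeq : D = T
    · subst hDeq
      exact normalizer_le_of_core_le T hY le_rfl hD (mem_normalizer_of_cj_le hξ)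
    · have hDlt : Nat.card D < Nat.card (T : Subgroup X) :=
        card_lt_card_of_lt (lt_of_le_of_ne hDT hDeq)
      have hD'ne : cj D ξ ≠ T := by
        intro h
        have := card_cj D ξ
        rw [h] at this
        omega
      have hD'bot : cj D ξ ≠ ⊥ := by
        intro h
        apply hD
        have := cj_inv_cj D ξ
        rw [h] at this
        rw [← this]
        exact Subgroup.map_bot _
      obtain ⟨x, hxT, hxD, hxN⟩ := exists_normalizing_of_lt hTp hDT hDeq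
      obtain ⟨x', hx'T, hx'D, hx'N⟩ := exists_normalizing_of_lt hTp hξ hD'ne
      have hDT₁ : D < (T : Subgroup X) ⊓ Subgroup.normalizer (D : Set X) :=
        lt_of_le_of_ne (le_inf hDT Subgroup.le_normalizer) (fun h => hxD (h ▸ ⟨hxT, hxN⟩))
      have hDT₂ : cj D ξ < (T : Subgroup X) ⊓ Subgroup.normalizer ((cj D ξ : Subgroup X) : Set X) :=
        lt_of_le_of_ne (le_inf hξ Subgroup.le_normalizer) (fun h => hx'D (h ▸ ⟨hx'T, hx'N⟩))
      have hc1 := card_lt_card_of_lt hDT₁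
      have hc2 := card_lt_card_of_lt hDT₂
      have hcD' := card_cj D ξ
      have hT₁le : Nat.card ↥((T : Subgroup X) ⊓ Subgroup.normalizer (D : Set X)) ≤
          Nat.card (T : Subgroup X) := Subgroup.card_le_of_le inf_le_left
      have hT₂le : Nat.card ↥((T : Subgroup X) ⊓ Subgroup.normalizer ((cj D ξ : Subgroup X) : Set X)) ≤
          Nat.card (T : Subgroup X) := Subgroup.card_le_of_le inf_le_left
      have hT₂N : cj ((T : Subgroup X) ⊓ Subgroup.normalizer ((cj D ξ : Subgroup X) : Set X)) ξ⁻¹ ≤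
          Subgroup.normalizer (D : Set X) := by
        rintro _ ⟨w, hw, rfl⟩
        have h1 := mem_normalizer_cj_iff.mp hw.2
        show ξ⁻¹ * w * ξ⁻¹⁻¹ ∈ _
        rw [inv_inv]
        exact h1
      obtain ⟨R, hRN, hT₁R, hRs, hRp⟩ := exists_isSylowIn_ge
        (inf_le_right : (T : Subgroup X) ⊓ Subgroup.normalizer (D : Set X) ≤ _) (hTp.to_le inf_le_left)
      obtain ⟨n₀, hn₀N, hn₀⟩ := hRs.exists_conj_le hT₂N (isPGroup_cj (hTp.to_le inf_le_left) _)
      obtain ⟨z, hz⟩ := exists_conj_le_sylow T hRp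
      have hzY : z ∈ Y := by
        refine ih (Nat.card (T : Subgroup X) -
          Nat.card ↥((T : Subgroup X) ⊓ Subgroup.normalizer (D : Set X))) (by omega)
          ((T : Subgroup X) ⊓ Subgroup.normalizer (D : Set X)) inf_le_left ?_ rfl z
          ((cj_mono hT₁R z).trans hz)
        intro h
        rw [h] at hDT₁
        exact not_lt_bot hDT₁
      have hwY : z * n₀ * ξ⁻¹ ∈ Y := by
        refine ih (Nat.card (T : Subgroup X) -
          Nat.card ↥((T : Subgroup X) ⊓ Subgroup.normalizer ((cj D ξ : Subgroup X) : Set X))) (by omega)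
          ((T : Subgroup X) ⊓ Subgroup.normalizer ((cj D ξ : Subgroup X) : Set X)) inf_le_left ?_ rfl
          (z * n₀ * ξ⁻¹) ?_
        · intro h
          rw [h] at hDT₂
          exact not_lt_bot hDT₂
        · rintro _ ⟨w, hw, rfl⟩
          have h1 : ξ⁻¹ * w * ξ⁻¹⁻¹ ∈
              cj ((T : Subgroup X) ⊓ Subgroup.normalizer ((cj D ξ : Subgroup X) : Set X)) ξ⁻¹ :=
            conj_mem_cj hw
          have h2 := hn₀ _ h1
          have h3 : z * (n₀ * (ξ⁻¹ * w * ξ⁻¹⁻¹) * n₀⁻¹) * z⁻¹ ∈ cj R z := conj_mem_cj h2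
          have h4 := hz h3
          have e : (MulAut.conj (z * n₀ * ξ⁻¹)).toMonoidHom w =
              z * (n₀ * (ξ⁻¹ * w * ξ⁻¹⁻¹) * n₀⁻¹) * z⁻¹ := by
            show z * n₀ * ξ⁻¹ * w * (z * n₀ * ξ⁻¹)⁻¹ = _
            group
          rw [e]
          exact h4
      have hn₀Y : n₀ ∈ Y := normalizer_le_of_core_le T hY hDT hD hn₀N
      have e : ξ = (z * n₀ * ξ⁻¹)⁻¹ * z * n₀ := by group
      rw [e]
      exact Y.mul_mem (Y.mul_mem (Y.inv_mem hwY) hzY) hn₀Y

theorem mem_of_conj_mem_sylow {p : ℕ} [Fact p.Prime] [Finite X] (T : Sylow p X) {Y : Subgroup X}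
    (hY : kGeneratedCore p 1 (T : Subgroup X) ≤ Y) {d ξ : X} (hd : d ∈ T) (hd1 : d ≠ 1)
    (hξ : ξ * d * ξ⁻¹ ∈ T) : ξ ∈ Y := by
  refine mem_of_cj_le_sylow T hY _ (Subgroup.zpowers d) ((Subgroup.zpowers_le).mpr hd) ?_ rfl ξ ?_
  · intro h
    exact hd1 (Subgroup.zpowers_eq_bot.mp h)
  · show (Subgroup.zpowers d).map (MulAut.conj ξ).toMonoidHom ≤ T
    rw [MonoidHom.map_zpowers]
    exact (Subgroup.zpowers_le).mpr hξ

theorem coe_smul_sylow_eq_cj {p : ℕ} (T : Sylow p X) (g : X) :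
    ((g • T : Sylow p X) : Subgroup X) = cj (T : Subgroup X) g := by
  rw [Sylow.coe_subgroup_smul]
  rfl

theorem cj_ne_top [Finite X] {Y : Subgroup X} (hY : Y ≠ ⊤) (g : X) : cj Y g ≠ ⊤ := by
  intro h
  apply hY
  have h1 := cj_inv_cj Y g
  rw [h] at h1
  rw [← h1]
  ext x
  simp only [Subgroup.mem_top, iff_true]
  exact mem_cj_iff.mpr (Subgroup.mem_top _)

/-- If `X` has a strongly `p`-embedded subgroup and `T` is any Sylow `p`-subgroup, some proper
subgroup contains every `ξ` that conjugates a nontrivial element of `T` into `T`. -/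
theorem exists_proper_of_stronglyPEmbedded {p : ℕ} [Fact p.Prime] [Finite X] {Y : Subgroup X}
    (hY : IsStronglyPEmbedded p Y) (T : Sylow p X) :
    ∃ Y' : Subgroup X, Y' ≠ ⊤ ∧ ∀ d ξ : X, d ∈ T → d ≠ 1 → ξ * d * ξ⁻¹ ∈ T → ξ ∈ Y' := by
  obtain ⟨-, hYtop, P₀, hP₀⟩ := hY
  obtain ⟨g, hg⟩ := MulAction.exists_smul_eq X T P₀
  have hP₀eq : (P₀ : Subgroup X) = cj (T : Subgroup X) g := by
    rw [← hg]
    exact coe_smul_sylow_eq_cj T g
  refine ⟨cj Y g⁻¹, cj_ne_top hYtop _, fun d ξ hd hd1 hξ => ?_⟩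
  rw [mem_cj_iff, inv_inv]
  have h1 : g * d * g⁻¹ ∈ P₀ := by
    rw [← SetLike.mem_coe, ← Sylow.coe_coe, SetLike.mem_coe, hP₀eq]
    exact conj_mem_cj hd
  have h2 : g * d * g⁻¹ ≠ 1 := by
    intro h
    apply hd1
    have : d = g⁻¹ * (g * d * g⁻¹) * g := by group
    rw [this, h]
    group
  have h3 : (g * ξ * g⁻¹) * (g * d * g⁻¹) * (g * ξ * g⁻¹)⁻¹ ∈ P₀ := by
    rw [← SetLike.mem_coe, ← Sylow.coe_coe, SetLike.mem_coe, hP₀eq]
    have e : (g * ξ * g⁻¹) * (g * d * g⁻¹) * (g * ξ * g⁻¹)⁻¹ = g * (ξ * d * ξ⁻¹) * g⁻¹ := by group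
    rw [e]
    exact conj_mem_cj hξ
  exact mem_of_conj_mem_sylow P₀ hP₀ h1 h2 h3

end Cfsg.Agent.Lib.Helper26
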