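import Mathlib
import Cfsg.Agent.Lib.helper23.P4S.DefsC
import Cfsg.Agent.Lib.Helper25.P4CR1

/-! P4C row SL2 (`rho2M_conj`), helper26: if `A` is conjugate over `K` to `diag(b, b⁻¹)` then `ρ₂ A` is conjugate over `K` to
`diag (wt2 b q)`.  Uses R1 (`rho2M_map`, helper25); the content of R2 is reproved here as `p4csl2_diag`. -/

set_option autoImplicit false

namespace Cfsg.Agent.Lib.helper23.P4S

open Matrix
open scoped Kronecker

/-- `ρ₂` of a diagonal matrix (the content of row R2) -/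
theorem p4csl2_diag {K : Type} [Field K] (p : ℕ) [Fact p.Prime] [CharP K p] (n : ℕ) (b : K) :
    rho2M (frq K p n) (Matrix.diagonal ![b, b⁻¹]) = Matrix.diagonal (wt2 b (p ^ n)) := by
  unfold rho2M
  rw [Matrix.diagonal_map (map_zero _), Matrix.diagonal_kronecker_diagonal]
  congr 1

/-- SL2 -/
theorem rho2M_conj {E K : Type} [Field E] [Field K] [Algebra E K] (p : ℕ) [Fact p.Prime] [CharP E p] [CharP K p] (n : ℕ)
    (A : Matrix (Fin 2) (Fin 2) E) (b : K) (P : Matrix (Fin 2) (Fin 2) K) (hP : IsUnit P.det)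
    (h : A.map (algebraMap E K) = P * Matrix.diagonal ![b, b⁻¹] * P⁻¹) :
    ∃ Q : Matrix (Fin 2 × Fin 2) (Fin 2 × Fin 2) K, IsUnit Q.det ∧
      (rho2M (frq E p n) A).map (algebraMap E K) = Q * Matrix.diagonal (wt2 b (p ^ n)) * Q⁻¹ := by
  have hf : ∀ x : E, algebraMap E K (frq E p n x) = frq K p n (algebraMap E K x) := by
    intro x
    rw [frq_apply, frq_apply, map_pow]
  have h1 := rho2M_map (algebraMap E K) (frq E p n) (frq K p n) hf A
  have hinv : rho2M (frq K p n) P * rho2M (frq K p n) P⁻¹ = 1 := by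
    rw [← rho2M_mul, Matrix.mul_nonsing_inv P hP, rho2M_one]
  refine ⟨rho2M (frq K p n) P, Matrix.isUnit_det_of_right_inverse hinv, ?_⟩
  rw [Matrix.inv_eq_right_inv hinv, h1, h, rho2M_mul, rho2M_mul, p4csl2_diag]

end Cfsg.Agent.Lib.helper23.P4S
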