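import Mathlib
import Cfsg.Agent.S0711

set_option autoImplicit false

namespace Cfsg.Agent.Lib.Helper26.AltGenTWE

open Equiv Equiv.Perm MulAction

/-- A group acting freely on a finite set has order dividing the size of the set. -/
theorem card_dvd_of_free {K X : Type*} [Group K] [MulAction K X] [Finite X]
    (h : ∀ b : X, MulAction.stabilizer K b = ⊥) : Nat.card K ∣ Nat.card X := by
  have e := MulAction.selfEquivOrbitsQuotientProd h
  rw [Nat.card_congr e, Nat.card_prod]
  exact Dvd.intro_left _ rfl

/-- TW-E of the S4150 plan: a 5-transitive group of degree 13 contains `A_13` or has order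
`13 * 12 * 11 * 10 * 9 * k` with `k ∣ 8`. -/
theorem five_trans_13 {β : Type*} [Fintype β] [DecidableEq β] (hβ : Fintype.card β = 13)
    (G : Subgroup (Perm β)) (h5 : IsMultiplyPretransitive G β 5) :
    alternatingGroup β ≤ G ∨ ∃ k, k ∣ 8 ∧ Nat.card G = 13 * 12 * 11 * 10 * 9 * k := by
  by_cases hex : ∃ g ∈ G, g ≠ 1 ∧ g.support.card < 8
  · obtain ⟨g, hg, hg1, hsupp⟩ := hex
    left
    exact (Cfsg.Agent.S0711.result G (k := 5) (by norm_num) (by rw [hβ]; norm_num) h5 g hg hg1
      (by norm_num; exact hsupp)).2
  · push Not at hex
    right
    obtain ⟨s, -, hs⟩ := Finset.exists_subset_card_eq (s := (Finset.univ : Finset β)) (n := 5)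
      (by rw [Finset.card_univ, hβ]; norm_num)
    have hsn : (s : Set β).ncard = 5 := by rw [Set.ncard_coe_finset]; exact hs
    have hidx := h5.index_of_fixingSubgroup_mul hsn
    rw [Nat.card_eq_fintype_card, hβ] at hidx
    have hidx' : (fixingSubgroup G (s : Set β)).index = 13 * 12 * 11 * 10 * 9 := by
      have h8 : (13 - 5).factorial = 40320 := by decide
      have h13 : (13).factorial = 13 * 12 * 11 * 10 * 9 * 40320 := by decide
      rw [h8, h13] at hidx
      exact Nat.eq_of_mul_eq_mul_right (by norm_num) hidx
    refine ⟨Nat.card (fixingSubgroup G (s : Set β)), ?_, ?_⟩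
    · have hfree : ∀ b : SubMulAction.ofFixingSubgroup G (s : Set β),
          MulAction.stabilizer (fixingSubgroup G (s : Set β)) b = ⊥ := by
        intro b
        rw [Subgroup.eq_bot_iff_forall]
        intro k hk
        rw [MulAction.mem_stabilizer_iff] at hk
        by_contra hk1
        have hkG : ((k : G) : Perm β) ∈ G := (k : G).2
        have hkne : ((k : G) : Perm β) ≠ 1 := by
          intro h
          apply hk1
          apply Subtype.ext
          apply Subtype.ext
          exact h
        have h8 := hex _ hkG hkne
        have hb : (b : β) ∉ (s : Set β) := by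
          have := b.2
          rw [SubMulAction.mem_ofFixingSubgroup_iff] at this
          exact this
        have hkb : ((k : G) : Perm β) (b : β) = b := by
          have := congrArg Subtype.val hk
          exact this
        have hsub : ((k : G) : Perm β).support ⊆ (Finset.univ \ s).erase (b : β) := by
          intro x hx
          rw [Finset.mem_erase, Finset.mem_sdiff]
          refine ⟨?_, Finset.mem_univ _, ?_⟩
          · rintro rfl
            exact (Equiv.Perm.mem_support.mp hx) hkb
          · intro hxs
            have := (mem_fixingSubgroup_iff G).mp k.2 x (by exact_mod_cast hxs)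
            exact (Equiv.Perm.mem_support.mp hx) this
        have hcard := Finset.card_le_card hsub
        rw [Finset.card_erase_of_mem (by
          rw [Finset.mem_sdiff]; exact ⟨Finset.mem_univ _, by exact_mod_cast hb⟩),
          Finset.card_sdiff_of_subset (Finset.subset_univ s), Finset.card_univ, hβ, hs] at hcard
        omega
      have h := card_dvd_of_free hfree
      have hX : Nat.card (SubMulAction.ofFixingSubgroup G (s : Set β)) = 8 := by
        have h1 : Nat.card (SubMulAction.ofFixingSubgroup G (s : Set β))
            = ((s : Set β)ᶜ).ncard := by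
          rw [← Nat.card_coe_set_eq]
          rfl
        rw [h1, Set.ncard_compl, hsn, Nat.card_eq_fintype_card, hβ]
      rwa [hX] at h
    · rw [← (fixingSubgroup G (s : Set β)).index_mul_card, hidx']

end Cfsg.Agent.Lib.Helper26.AltGenTWE
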