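import Mathlib
import Cfsg.Agent.S0713

set_option autoImplicit false

namespace Cfsg.Agent.Lib.Helper26.AltGenTWF

open Equiv Equiv.Perm MulAction

/-- TW-F of the S4150 plan: Sylow 13 count in a permutation group of degree 13. -/
theorem sylow13_count {β : Type*} [Fintype β] [DecidableEq β] (hβ : Fintype.card β = 13)
    (G : Subgroup (Perm β)) (h13 : 13 ∣ Nat.card G) :
    ∃ r n : ℕ, r ∣ 12 ∧ n % 13 = 1 ∧ Nat.card G = 13 * r * n := by
  have hp : Fact (Nat.Prime 13) := ⟨by norm_num⟩
  have hGdvd : Nat.card G ∣ (13).factorial := by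
    have h1 : Nat.card G ∣ Nat.card (Perm β) := Subgroup.card_subgroup_dvd_card G
    rw [Nat.card_perm] at h1
    rw [Nat.card_eq_fintype_card (α := β), hβ] at h1
    exact h1
  have P : Sylow 13 G := default
  obtain ⟨k, hk⟩ := IsPGroup.iff_card.mp P.isPGroup'
  have hPdvd : Nat.card P ∣ Nat.card G := Subgroup.card_subgroup_dvd_card _
  have h13P : 13 ∣ Nat.card P := P.dvd_card_of_dvd_card h13
  have hPcard : Nat.card P = 13 := by
    rw [hk] at hPdvd h13P ⊢
    have hk1 : k ≤ 1 := by
      by_contra hlt
      push Not at hlt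
      have h2 : 13 ^ 2 ∣ (13).factorial := ((pow_dvd_pow 13 hlt).trans hPdvd).trans hGdvd
      have h3 : (13).factorial = 6227020800 := by decide
      rw [h3] at h2
      norm_num at h2
    have hk0 : k ≠ 0 := by
      rintro rfl
      norm_num at h13P
    have : k = 1 := by omega
    rw [this, pow_one]
  have hcyc : IsCyclic P := isCyclic_of_prime_card hPcard
  obtain ⟨g0, hg0⟩ := hcyc.exists_generator
  have hg0ord : orderOf g0 = 13 := by
    rw [orderOf_eq_card_of_forall_mem_zpowers hg0, hPcard]
  let gp : Equiv.Perm β := ((g0 : G) : Equiv.Perm β)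
  have hgpord : orderOf gp = 13 := by
    rw [← hg0ord]
    show orderOf (((g0 : G) : Equiv.Perm β)) = orderOf g0
    rw [Subgroup.orderOf_coe, Subgroup.orderOf_coe]
  have hgpc : gp.IsCycle :=
    Equiv.Perm.isCycle_of_prime_order'' (by rw [hβ]; norm_num) (by rw [hgpord, hβ])
  have hsupp : ∀ z, gp z ≠ z := by
    intro z
    have h1 : gp.support.card = 13 := by rw [← hgpc.orderOf, hgpord]
    have h2 : gp.support = Finset.univ := by
      apply Finset.eq_univ_of_card
      rw [h1, hβ]
    have : z ∈ gp.support := by rw [h2]; exact Finset.mem_univ z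
    exact Equiv.Perm.mem_support.mp this
  set N : Subgroup G := Subgroup.normalizer ((P : Subgroup G) : Set G) with hN
  have hPN : (P : Subgroup G) ≤ N := Subgroup.le_normalizer
  have hnorm : ((P : Subgroup G).subgroupOf N).Normal := Subgroup.normal_in_normalizer
  let φ : N →* MulAut ((P : Subgroup G).subgroupOf N) := MulAut.conjNormal
  have hP'card : Nat.card ((P : Subgroup G).subgroupOf N) = 13 := by
    rw [Nat.card_congr (Subgroup.subgroupOfEquivOfLe hPN).toEquiv]
    exact hPcard
  have hP'cyc : IsCyclic ((P : Subgroup G).subgroupOf N) := isCyclic_of_prime_card hP'card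
  have haut : Nat.card (MulAut ((P : Subgroup G).subgroupOf N)) = 12 := by
    rw [IsCyclic.card_mulAut, hP'card]
    decide
  have hrange : Nat.card φ.range ∣ 12 := by
    rw [← haut]
    exact Subgroup.card_subgroup_dvd_card _
  have hker : φ.ker ≤ (P : Subgroup G).subgroupOf N := by
    intro x hx
    rw [MonoidHom.mem_ker] at hx
    have hg0N : (g0 : G) ∈ N := hPN g0.2
    have hg0P' : (⟨(g0 : G), hg0N⟩ : N) ∈ (P : Subgroup G).subgroupOf N := by
      rw [Subgroup.mem_subgroupOf]; exact g0.2
    have h1 := congrArg (fun f => f ⟨⟨(g0 : G), hg0N⟩, hg0P'⟩) hx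
    simp only [MulAut.one_apply] at h1
    have h2 : ((x : G) : Equiv.Perm β) * gp * ((x : G) : Equiv.Perm β)⁻¹ = gp := by
      have := congrArg (fun y : ((P : Subgroup G).subgroupOf N) => (((y : N) : G) : Equiv.Perm β)) h1
      simpa [φ, MulAut.conjNormal_apply] using this
    have hcomm : Commute ((x : G) : Equiv.Perm β) gp := by
      rw [Commute, SemiconjBy]
      nth_rewrite 2 [← h2]
      group
    obtain ⟨j, hj⟩ := Cfsg.Agent.S0713.cycle_centralizer hgpc hcomm
    have hxeq : ((x : G) : Equiv.Perm β) = gp ^ j := by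
      ext z
      exact hj z (hsupp z)
    rw [Subgroup.mem_subgroupOf]
    have : (x : G) = (g0 : G) ^ j := by
      apply Subtype.ext
      rw [hxeq]
      simp [gp]
    rw [this]
    exact (P : Subgroup G).zpow_mem g0.2 j
  have hkercard : Nat.card φ.ker ∣ 13 := by
    have := Subgroup.card_dvd_of_le hker
    rwa [hP'card] at this
  have hNcard : Nat.card N = Nat.card φ.ker * Nat.card φ.range := by
    rw [← Subgroup.index_ker, Subgroup.card_mul_index]
  have h13N : 13 ∣ Nat.card N := by
    rw [← hPcard]
    exact Subgroup.card_dvd_of_le hPN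
  have hidx : N.index % 13 = 1 := by
    have h1 := card_sylow_modEq_one 13 G
    rw [Sylow.card_eq_index_normalizer P] at h1
    exact h1
  have hGN : Nat.card N * N.index = Nat.card G := Subgroup.card_mul_index N
  rw [hNcard] at hGN h13N
  have hk13 : Nat.card φ.ker = 1 ∨ Nat.card φ.ker = 13 := (Nat.dvd_prime (by norm_num)).mp hkercard
  refine ⟨Nat.card φ.range, N.index, hrange, hidx, ?_⟩
  rcases hk13 with h1 | h1
  · rw [h1, one_mul] at h13N
    have h12 := Nat.le_of_dvd (by norm_num) hrange
    have := Nat.le_of_dvd (Nat.pos_of_dvd_of_pos hrange (by norm_num)) h13N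
    omega
  · rw [h1] at hGN
    exact hGN.symm

end Cfsg.Agent.Lib.Helper26.AltGenTWF
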