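import Mathlib
import Cfsg.Agent.Lib.helper3.BSZ.Defs

set_option autoImplicit false

/-!
# Project BSZ, row A13 (odd_swap): the swap criterion for stabilisers of odd order.
-/

namespace Cfsg.Agent.Lib.helper3.BSZ

open Cfsg Cfsg.Agent.Lib.helper3

/-- `x` fixes the coset `w H` as soon as `w⁻¹ x w ∈ H`. -/
theorem bsza13_fix {G : Type*} [Group G] (H : Subgroup G) (x w : G) (h : w⁻¹ * x * w ∈ H) :
    x • (QuotientGroup.mk w : G ⧸ H) = QuotientGroup.mk w := by
  rw [MulAction.Quotient.smul_mk, QuotientGroup.eq]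
  have e : (x • w)⁻¹ * w = (w⁻¹ * x * w)⁻¹ := by
    rw [smul_eq_mul]; group
  rw [e]
  exact H.inv_mem h

/-- conversely. -/
theorem bsza13_mem_of_fix {G : Type*} [Group G] (H : Subgroup G) (x w : G)
    (h : x • (QuotientGroup.mk w : G ⧸ H) = QuotientGroup.mk w) : w⁻¹ * x * w ∈ H := by
  rw [MulAction.Quotient.smul_mk, QuotientGroup.eq] at h
  have e : w⁻¹ * x * w = ((x • w)⁻¹ * w)⁻¹ := by
    rw [smul_eq_mul]; group
  rw [e]
  exact H.inv_mem h

theorem odd_swap {G : Type*} [Group G] (H : Subgroup G) (hodd : ∀ h ∈ H, Odd (orderOf h))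
    (t a b u v : G) (ht1 : t ≠ 1) (ht2 : t * t = 1) (hab : t = a * b) (ha : u⁻¹ * a * u ∈ H)
    (hb : v⁻¹ * b * v ∈ H) : ¬ BinH H := by
  intro hB
  set α : G ⧸ H := QuotientGroup.mk u with hα
  set γ : G ⧸ H := QuotientGroup.mk v with hγ
  have haα : a • α = α := bsza13_fix H a u ha
  have hbγ : b • γ = γ := bsza13_fix H b v hb
  have htinv : t⁻¹ = t := inv_eq_of_mul_eq_one_left ht2
  have hainvα : a⁻¹ • α = α := by rw [inv_smul_eq_iff, haα]
  have hbinvγ : b⁻¹ • γ = γ := by rw [inv_smul_eq_iff, hbγ]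
  set β : G ⧸ H := t • α with hβ
  have htβ : t • β = α := by rw [hβ, smul_smul, ht2, one_smul]
  have hbinvα : b⁻¹ • α = β := by
    calc b⁻¹ • α = b⁻¹ • (a⁻¹ • α) := by rw [hainvα]
      _ = (a * b)⁻¹ • α := by rw [smul_smul, mul_inv_rev]
      _ = t • α := by rw [← hab, htinv]
  have hbβ : b • β = α := by rw [← hbinvα, smul_inv_smul]
  have hne : β ≠ α := by
    intro h
    have h1 : u⁻¹ * t * u ∈ H := bsza13_mem_of_fix H t u h
    have h2 := hodd _ h1
    have h3 : orderOf (u⁻¹ * t * u) = 2 := by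
      apply orderOf_eq_prime
      · have : (u⁻¹ * t * u) ^ 2 = u⁻¹ * (t * t) * u := by rw [pow_two]; group
        rw [this, ht2]; group
      · intro h'
        apply ht1
        have : t = u * (u⁻¹ * t * u) * u⁻¹ := by group
        rw [this, h']; group
    rw [h3] at h2
    exact (by decide : ¬ Odd 2) h2
  obtain ⟨g, hg⟩ := hB 3 ![α, β, γ] ![β, α, γ] (by norm_num) (by
    intro i j hij
    fin_cases i <;> fin_cases j
    · exact absurd rfl hij
    · exact ⟨t, rfl, htβ⟩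
    · exact ⟨b⁻¹, hbinvα, hbinvγ⟩
    · exact ⟨t, htβ, rfl⟩
    · exact absurd rfl hij
    · exact ⟨b, hbβ, hbγ⟩
    · exact ⟨b⁻¹, hbinvγ, hbinvα⟩
    · exact ⟨b, hbγ, hbβ⟩
    · exact absurd rfl hij)
  have h0 : g • α = β := hg 0
  have h1 : g • β = α := hg 1
  have h2 : g • γ = γ := hg 2
  have hmem : v⁻¹ * g * v ∈ H := bsza13_mem_of_fix H g v h2
  obtain ⟨n, hn⟩ := hodd _ hmem
  have hy : (v⁻¹ * g * v) ^ (2 * n + 1) = 1 := by rw [← hn]; exact pow_orderOf_eq_one _
  have hgk : g ^ (2 * n + 1) = 1 := by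
    have e : g = v * (v⁻¹ * g * v) * v⁻¹ := by group
    rw [e, conj_pow, hy]; group
  have hsq : ∀ m : ℕ, g ^ (2 * m) • α = α := by
    intro m
    induction m with
    | zero => simp
    | succ m ih =>
      have : g ^ (2 * (m + 1)) = g ^ (2 * m) * g * g := by
        rw [mul_add, pow_add]; simp [pow_two, mul_assoc]
      rw [this, mul_smul, mul_smul, h0, h1, ih]
  have : g ^ (2 * n + 1) • α = β := by
    rw [pow_succ, mul_smul, h0]
    have hsqβ : g ^ (2 * n) • β = β := by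
      rw [← h0, ← mul_smul, ← pow_succ, pow_succ', mul_smul, hsq n]
    exact hsqβ
  rw [hgk, one_smul] at this
  exact hne this.symm

end Cfsg.Agent.Lib.helper3.BSZ
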