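import Mathlib
import Cfsg.Agent.Lib.helper8.OME.Defs
import Cfsg.Agent.Lib.helper2.OPECM2abs
import Cfsg.Agent.Lib.helper17.OPEQTYSUM
import Cfsg.Agent.Lib.helper17.OPEQCTXO
import Cfsg.Agent.Lib.helper17.OPEQTYCLASS

set_option autoImplicit false
set_option linter.unusedVariables false
set_option linter.unusedSectionVars false

/-!
# Project OME, row CM2M (`ome_ap_count`, helper26): the core on the standard minus space, with the statements of the OME rows STDFACTS
(`ome_std_facts`), FROZEN (`ome_frozen_iff`) and AP3M (`ap_planes_minus`) as hypotheses (port of helper2's `opecm2_core`; the abstract bijection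
`opecm2_abs` of helper2 is used as it is, the complement lemma is redone for a top space of type `τ`).
-/

namespace Cfsg.Agent.Lib.helper8.OME

open Polynomial Module Cfsg.Agent.Lib.Helper13.S5955 Cfsg.Agent.Lib.helper15.S5972
  Cfsg.Agent.Lib.Helper18.OPE
open scoped Matrix

/-- the orthogonal complement of a nondegenerate `W'` of type `1` in a nondegenerate space of type `τ`: nondegenerate, complementary dimension,
type `τ` -/
theorem omecm2m_perp {F : Type*} [Field F] [Fintype F]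
    {V : Type*} [AddCommGroup V] [Module F V] [FiniteDimensional F V]
    (Q : QuadraticForm F V)
    (hnd : SND (QuadraticMap.polarBilin Q) ⊤) (hVev : Even (finrank F V)) (τ : ℤ) (hτ : τ = 1 ∨ τ = -1)
    (htop : QTy Q (⊤ : Submodule F V) τ)
    (W' : Submodule F V) (hW'nd : SND (QuadraticMap.polarBilin Q) W') (hW'ev : Even (finrank F W'))
    (hW'ty : QTy Q W' 1) :
    SND (QuadraticMap.polarBilin Q) (LinearMap.BilinForm.orthogonal (QuadraticMap.polarBilin Q) W') ∧
      finrank F ↥(LinearMap.BilinForm.orthogonal (QuadraticMap.polarBilin Q) W') + finrank F W' = finrank F V ∧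
      QTy Q (LinearMap.BilinForm.orthogonal (QuadraticMap.polarBilin Q) W') τ := by
  have hsymm : ∀ u v, QuadraticMap.polarBilin Q u v = QuadraticMap.polarBilin Q v u := by
    intro u v
    simp only [QuadraticMap.polarBilin_apply_apply]
    exact QuadraticMap.polar_comm Q u v
  obtain ⟨hdis, hsup, hNnd, hNorth, hNdim⟩ :=
    Cfsg.Agent.Lib.Helper18.ONE.nd_perp_symm (QuadraticMap.polarBilin Q) hsymm ⊤ W' hnd le_top hW'nd
  rw [top_inf_eq] at hdis hsup hNnd hNorth hNdim
  rw [finrank_top] at hNdim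
  refine ⟨hNnd, hNdim, ?_⟩
  have hNev : Even (finrank F ↥(LinearMap.BilinForm.orthogonal (QuadraticMap.polarBilin Q) W')) := by
    rcases hVev with ⟨a, ha⟩
    rcases hW'ev with ⟨b, hb⟩
    exact ⟨a - b, by omega⟩
  have key : ∀ s : ℤ, QTy Q (LinearMap.BilinForm.orthogonal (QuadraticMap.polarBilin Q) W') s →
      QTy Q (⊤ : Submodule F V) s := by
    intro s hs
    have h2 := qty_sum Q W' _ hW'nd hNnd hNorth hW'ev hNev 1 s hW'ty hs
    rw [hsup, one_mul] at h2
    exact h2
  rcases (qty_iff Q _ hNnd hNev).2.2 with h1 | h1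
  · rcases hτ with rfl | rfl
    · exact h1
    · exact absurd htop (fun h => qty_uniq Q ⊤ (key 1 h1) h)
  · rcases hτ with rfl | rfl
    · exact absurd (key (-1) h1) (fun h => qty_uniq Q ⊤ htop h)
    · exact h1

/-- the core of CM2M -/
theorem omecm2m_core {F : Type*} [Field F] [Fintype F] (d h : ℕ) (hh1 : 1 ≤ h) (hh : h < d) (a b : F)
    (W' : HYPm d (2 * h - 2) F a b)
    (hfacts : finrank F (MI d → F) = 2 * d ∧
      QTy (Qm d F a b) (⊤ : Submodule F (MI d → F)) (-1) ∧
      (∀ u, (∀ v, stdM d F a b u v = 0) → u = 0))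
    (hfrozen : ∀ m : ℕ, Even m → ∀ W : Submodule F (MI d → F),
      ((Module.finrank F ↥W = m ∧
          (∀ u ∈ W, u ≠ 0 → ∃ v ∈ W, QuadraticMap.polar (Cfsg.quadFormMinus (d - 1) F a b) u v ≠ 0) ∧
          ∃ U : Submodule F (MI d → F), U ≤ W ∧ 2 * Module.finrank F ↥U = m ∧
            ∀ u ∈ U, Cfsg.quadFormMinus (d - 1) F a b u = 0) ↔
        (finrank F W = m ∧ SND (stdM d F a b) W ∧ QTy (Qm d F a b) W 1)) ∧
      ((Module.finrank F ↥W = m ∧
          Cfsg.Geo.IsNondegenerateOn (QuadraticMap.polar (Cfsg.quadFormMinus (d - 1) F a b)) W ∧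
          ¬ Cfsg.Geo.IsPlusTypeOn (Cfsg.quadFormMinus (d - 1) F a b) W) ↔
        (finrank F W = m ∧ SND (stdM d F a b) W ∧ QTy (Qm d F a b) W (-1))))
    (hplanes : ∀ (N : Submodule F (MI d → F)) (a' : ℕ), SND (stdM d F a b) N → 2 ≤ a' → finrank F N = 2 * a' →
      QTy (Qm d F a b) N (-1) →
      2 * (Fintype.card F + 1) * Nat.card {P : Submodule F (MI d → F) // P ≤ N ∧
          SND (stdM d F a b) P ∧ finrank F P = 2 ∧ QTy (Qm d F a b) P (-1)} =
        Fintype.card F ^ (2 * a' - 2) * (Fintype.card F ^ a' + 1) * (Fintype.card F ^ (a' - 1) + 1)) :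
    2 * (Fintype.card F + 1) * Nat.card {W : ELLm d (2 * h) F a b // W'.1 ≤ W.1} =
      Fintype.card F ^ (2 * (d - h)) * (Fintype.card F ^ (d - h + 1) + 1) *
        (Fintype.card F ^ (d - h) + 1) := by
  obtain ⟨hW'dim, hW'nd, hW'ty⟩ := ((hfrozen (2 * h - 2) ⟨h - 1, by omega⟩ W'.1).1).mp W'.2
  have hnd : SND (stdM d F a b) ⊤ := fun u _ hu => hfacts.2.2 u (fun v => hu v trivial)
  have hVev : Even (finrank F (MI d → F)) := ⟨d, by rw [hfacts.1]; ring⟩
  have hW'ev : Even (finrank F W'.1) := ⟨h - 1, by omega⟩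
  obtain ⟨hNnd, hNdim, hNty⟩ := omecm2m_perp (Qm d F a b) hnd hVev (-1) (Or.inr rfl)
    hfacts.2.1 W'.1 hW'nd hW'ev hW'ty
  -- step 1: the frozen subtype in the abstract vocabulary
  have h1 : Nat.card {W : ELLm d (2 * h) F a b // W'.1 ≤ W.1} =
      Nat.card {W : Submodule F (MI d → F) // W'.1 ≤ W ∧ finrank F W = 2 * h ∧ SND (stdM d F a b) W ∧
        QTy (Qm d F a b) W (-1)} := by
    apply Nat.card_congr
    refine (Equiv.subtypeSubtypeEquivSubtypeInter _ _).trans (Equiv.subtypeEquivRight ?_)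
    intro W
    have hf := (hfrozen (2 * h) ⟨h, by ring⟩ W).2
    constructor
    · rintro ⟨hW, hle⟩
      exact ⟨hle, hf.mp hW⟩
    · rintro ⟨hle, hW⟩
      exact ⟨hf.mpr hW, hle⟩
  -- step 2: the abstract bijection (helper2)
  have h2 := opecm2_abs (Qm d F a b)
    (fun W₁ W₂ h₁ h₂ ho he₁ he₂ s₁ s₂ hs₁ hs₂ => qty_sum (Qm d F a b) W₁ W₂ h₁ h₂ ho he₁ he₂ s₁ s₂ hs₁ hs₂)
    (fun W hW hev => (qty_iff (Qm d F a b) W hW hev).2.2)
    (fun W h1 h2 => qty_uniq (Qm d F a b) W h1 h2) hnd W'.1 hW'nd h hh1 hW'dim hW'ty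
  -- step 3: AP3M
  have h3 := hplanes _ (d - h + 1) hNnd (by omega) (by rw [hfacts.1] at hNdim; omega) hNty
  have e1 : 2 * (d - h + 1) - 2 = 2 * (d - h) := by omega
  have e2 : d - h + 1 - 1 = d - h := by omega
  rw [e1, e2] at h3
  rw [h1]
  exact (congrArg (fun n => 2 * (Fintype.card F + 1) * n) h2).trans h3

end Cfsg.Agent.Lib.helper8.OME
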