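import Mathlib
import Cfsg.Agent.Lib.helper8.OME.Defs
import Cfsg.Agent.Lib.Helper26.OMECM2Mcore
import Cfsg.Agent.Lib.Helper20.OMESTDCTX
import Cfsg.Agent.Lib.Helper27.OMEFROZEN
import Cfsg.Agent.Lib.Helper11.OMEAP3M

set_option autoImplicit false

/-!
# Project OME, row CM2M (helper26): `ome_ap_count`, verbatim (= `omecm2m_core` + STDFACTS + FROZEN + AP3M).
-/

namespace Cfsg.Agent.Lib.helper8.OME

open Polynomial Module Cfsg.Agent.Lib.Helper13.S5955 Cfsg.Agent.Lib.helper15.S5972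
  Cfsg.Agent.Lib.Helper18.OPE
open scoped Matrix

/-- CM2M [M-L] -/
theorem ome_ap_count {F : Type*} [Field F] [Fintype F] (d h : ℕ) (hh1 : 1 ≤ h) (hh : h < d) (a b : F)
    (hab : ∀ x y : F, x ^ 2 + a * x * y + b * y ^ 2 = 0 → x = 0 ∧ y = 0)
    (W' : HYPm d (2 * h - 2) F a b) :
    2 * (Fintype.card F + 1) * Nat.card {W : ELLm d (2 * h) F a b // W'.1 ≤ W.1} =
      Fintype.card F ^ (2 * (d - h)) * (Fintype.card F ^ (d - h + 1) + 1) *
        (Fintype.card F ^ (d - h) + 1) :=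
  omecm2m_core d h hh1 hh a b W' (ome_std_facts d (by omega) a b hab)
    (fun m hme W => ome_frozen_iff d m hme a b W)
    (fun N a' hN ha hdim hty => ap_planes_minus (Qm d F a b) N hN a' ha hdim hty)

end Cfsg.Agent.Lib.helper8.OME
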