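import Mathlib
import Cfsg.Prelude.Def_AxialAlgebras
import Cfsg.Agent.Lib.Helper24.SAK.Defs

set_option autoImplicit false

namespace Cfsg.Agent.Lib.Helper24.SAK

open Cfsg.Axial

variable {V : Type*} [AddCommGroup V] [Module ℝ V]

theorem saka8_law : monsterLaw (1 / 4 : ℝ) (1 / 32) 0 (1 / 4) = {1 / 4} := by
  unfold monsterLaw
  have h1 : ¬ ((0 : ℝ) = 1 / 32 ∧ (1 / 4 : ℝ) = 1 / 32) := by norm_num
  have h2 : ¬ ((0 : ℝ) = 1 / 32 ∨ (1 / 4 : ℝ) = 1 / 32) := by norm_num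
  have h3 : ¬ ((0 : ℝ) = 1 / 4 ∧ (1 / 4 : ℝ) = 1 / 4) := by norm_num
  have h4 : ((0 : ℝ) = 1 / 4 ∨ (1 / 4 : ℝ) = 1 / 4) := Or.inr rfl
  rw [if_neg h1, if_neg h2, if_neg h3, if_pos h4]

theorem fuse04 {mul : V →ₗ[ℝ] V →ₗ[ℝ] V} {B : LinearMap.BilinForm ℝ V} {μ : V ≃ₗ[ℝ] V} {a : V}
    (h : IsMajoranaPair mul B μ a) (x y : V) (hx : mul a x = 0) (hy : mul a y = (1 / 4 : ℝ) • y) :
    mul a (mul x y) = (1 / 4 : ℝ) • mul x y := by
  obtain ⟨_, _, hax, _⟩ := h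
  have hfus := hax.1.2.2.2
  have hx' : x ∈ eigen mul a 0 := by
    unfold eigen
    rw [Module.End.mem_eigenspace_iff, zero_smul]
    exact hx
  have hy' : y ∈ eigen mul a (1 / 4) := by
    unfold eigen
    rw [Module.End.mem_eigenspace_iff]
    exact hy
  have h0 : (0 : ℝ) ∈ majoranaSpectrum := by
    unfold majoranaSpectrum
    simp
  have h4 : (1 / 4 : ℝ) ∈ majoranaSpectrum := by
    unfold majoranaSpectrum
    simp
  have hmem := hfus 0 h0 (1 / 4) h4 x hx' y hy'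
  rw [saka8_law] at hmem
  unfold eigenSum at hmem
  rw [iSup_singleton] at hmem
  unfold eigen at hmem
  rw [Module.End.mem_eigenspace_iff] at hmem
  exact hmem

end Cfsg.Agent.Lib.Helper24.SAK
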