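import Mathlib
import Cfsg.Prelude.Def_AxialAlgebras
import Cfsg.Agent.Lib.Helper24.SAK.Defs

set_option autoImplicit false

namespace Cfsg.Agent.Lib.Helper24.SAK

open Cfsg.Axial

variable {V : Type*} [AddCommGroup V] [Module ℝ V]

theorem saka9_law : monsterLaw (1 / 4 : ℝ) (1 / 32) (1 / 4) (1 / 4) = {1, 0} := by
  unfold monsterLaw
  have h1 : ¬ ((1 / 4 : ℝ) = 1 / 32 ∧ (1 / 4 : ℝ) = 1 / 32) := by norm_num
  have h2 : ¬ ((1 / 4 : ℝ) = 1 / 32 ∨ (1 / 4 : ℝ) = 1 / 32) := by norm_num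
  have h3 : ((1 / 4 : ℝ) = 1 / 4 ∧ (1 / 4 : ℝ) = 1 / 4) := ⟨rfl, rfl⟩
  rw [if_neg h1, if_neg h2, if_pos h3]

theorem fuse44 {mul : V →ₗ[ℝ] V →ₗ[ℝ] V} {B : LinearMap.BilinForm ℝ V} {μ : V ≃ₗ[ℝ] V} {a : V}
    (hV : IsMajoranaAmbient mul B) (h : IsMajoranaPair mul B μ a) (hn : B a a = 1) (x y : V)
    (hx : mul a x = (1 / 4 : ℝ) • x) (hy : mul a y = (1 / 4 : ℝ) • y) :
    mul a (mul x y) = ((1 / 4 : ℝ) * B x y) • a := by
  obtain ⟨_, _, hax, _⟩ := h
  obtain ⟨_, _, _, hassoc, _⟩ := hV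
  have hfus := hax.1.2.2.2
  have haa : mul a a = a := hax.1.2.1
  have hprim : eigen mul a 1 = Submodule.span ℝ {a} := hax.2
  have hx' : x ∈ eigen mul a (1 / 4) := by
    unfold eigen
    rw [Module.End.mem_eigenspace_iff]
    exact hx
  have hy' : y ∈ eigen mul a (1 / 4) := by
    unfold eigen
    rw [Module.End.mem_eigenspace_iff]
    exact hy
  have h4 : (1 / 4 : ℝ) ∈ majoranaSpectrum := by
    unfold majoranaSpectrum
    simp
  have hmem := hfus (1 / 4) h4 (1 / 4) h4 x hx' y hy'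
  rw [saka9_law] at hmem
  unfold eigenSum at hmem
  rw [iSup_insert, iSup_singleton, Submodule.mem_sup] at hmem
  obtain ⟨z1, hz1, z0, hz0, hz⟩ := hmem
  rw [hprim, Submodule.mem_span_singleton] at hz1
  obtain ⟨t, rfl⟩ := hz1
  have hz0' : mul a z0 = 0 := by
    unfold eigen at hz0
    rw [Module.End.mem_eigenspace_iff, zero_smul] at hz0
    exact hz0
  have hB0 : B a z0 = 0 := by
    have h1 := hassoc a a z0
    rw [hz0', haa] at h1
    rw [← h1]
    simp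
  have hBxy : B a (mul x y) = (1 / 4 : ℝ) * B x y := by
    rw [hassoc a x y, hx]
    simp
  have ht : t = (1 / 4 : ℝ) * B x y := by
    rw [← hBxy, ← hz]
    simp [hB0, hn]
  rw [← hz, map_add, map_smul, haa, hz0', add_zero, ht]

end Cfsg.Agent.Lib.Helper24.SAK
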