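import Mathlib
import Cfsg.Prelude.Def_Blocks
import Cfsg.Agent.Lib.Helper24.BlockTransport
import Cfsg.Agent.Lib.Helper24.ExtFirstMain3
import Cfsg.Agent.Lib.Helper25.ThirdMain
import Cfsg.Agent.Lib.helper7.SecondMain3
import Cfsg.Agent.S0919
import Cfsg.Agent.S0906
import Cfsg.Agent.S0908

set_option autoImplicit false
set_option linter.style.haveILetI false
set_option linter.unusedSectionVars false
set_option linter.unusedVariables false

namespace Cfsg.Agent.Lib.Helper26

open scoped ComplexConjugate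
open Cfsg.Agent.Lib.Helper24 Cfsg.Agent.Lib.Helper25 Cfsg.Agent.Lib.helper7

/-- The defect of an induced block is at least the defect of the block it is induced from. -/
theorem dcl_defect_le {G : Type*} [Group G] [Finite G] (p : ℕ) [Fact p.Prime]
    (M : Ideal Cfsg.AlgInt) (hM : Cfsg.IsPModular p M) (H : Subgroup G)
    (b : Set (Cfsg.IrrCharacter H)) (B : Set (Cfsg.IrrCharacter G))
    (hI : Cfsg.IsInducedBlock M H b B) : Cfsg.blockDefect p b ≤ Cfsg.blockDefect p B := by
  classical
  haveI : Fintype G := Fintype.ofFinite _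
  haveI : Fintype (Cfsg.IrrCharacter G) := Fintype.ofFinite _
  haveI : Fintype H := Fintype.ofFinite _
  haveI : Fintype (Cfsg.IrrCharacter H) := Fintype.ofFinite _
  have hPr := hM.2.1.isPrime
  obtain ⟨⟨ξ₀, rfl⟩, ⟨χ₀, rfl⟩, hc⟩ := hI
  obtain ⟨l, hl⟩ := Cfsg.Agent.S0906.result p M hM (Cfsg.blockOf M (ξ₀ : H → ℂ)) ⟨ξ₀, rfl⟩
  obtain ⟨Q⟩ : Nonempty (Sylow p (Subgroup.centralizer ({l} : Set H))) := inferInstance
  have hξ : ξ₀ ∈ Cfsg.blockOf M (ξ₀ : H → ℂ) := h7_sameBlock_refl hPr _
  have hχ : χ₀ ∈ Cfsg.blockOf M (χ₀ : G → ℂ) := h7_sameBlock_refl hPr _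
  obtain ⟨E, hE, hle⟩ := h7_induced_defect_le hM H ξ₀ χ₀ (fun g => hc ξ₀ hξ χ₀ hχ g)
    ((Q : Subgroup (Subgroup.centralizer ({l} : Set H))).map
      (Subgroup.centralizer ({l} : Set H)).subtype) ⟨l, hl, Q, rfl⟩
  obtain ⟨gE, hgE, QE, hQE⟩ := hE
  have c1 := Cfsg.Agent.S0908.defect_card p M hM χ₀ gE hgE QE
  have c2 := Cfsg.Agent.S0908.defect_card p M hM ξ₀ l hl Q
  have h2 := Subgroup.card_le_of_le hle
  rw [Subgroup.card_map_of_injective (Subgroup.subtype_injective _), c2, hQE, c1] at h2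
  exact (Nat.pow_le_pow_iff_right (Fact.out : p.Prime).one_lt).mp h2

/-- Forward direction: deficiency class passes to centralizers of `p`-elements. -/
theorem dcl_forward {G : Type*} [Group G] [Finite G] (p : ℕ) [Fact p.Prime]
    (M : Ideal Cfsg.AlgInt) (hM : Cfsg.IsPModular p M) (r : ℕ)
    (hG : ∀ B' : Set (Cfsg.IrrCharacter G), Cfsg.IsPBlock M B' →
      B' ≠ Cfsg.principalBlock M G → Cfsg.blockDefect p B' < r)
    (y : G) (hy : ∃ k : ℕ, orderOf y = p ^ k)
    (b : Set (Cfsg.IrrCharacter ↥(Subgroup.centralizer ({y} : Set G))))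
    (hb : Cfsg.IsPBlock M b)
    (hne : b ≠ Cfsg.principalBlock M ↥(Subgroup.centralizer ({y} : Set G))) :
    Cfsg.blockDefect p b < r := by
  classical
  obtain ⟨k, hk⟩ := hy
  have hP : IsPGroup p (Subgroup.zpowers y) := by
    apply IsPGroup.of_card (n := k)
    rw [Nat.card_zpowers, hk]
  have hyy : y ∈ Subgroup.centralizer ({y} : Set G) :=
    Subgroup.mem_centralizer_singleton_iff.mpr rfl
  have hPH : Subgroup.zpowers y ≤ Subgroup.centralizer ({y} : Set G) :=
    (Subgroup.zpowers_le).mpr hyy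
  have hCH : Subgroup.centralizer ((Subgroup.zpowers y : Subgroup G) : Set G) ≤
      Subgroup.centralizer ({y} : Set G) :=
    Subgroup.centralizer_le (Set.singleton_subset_iff.mpr (Subgroup.mem_zpowers y))
  have hHN : Subgroup.centralizer ({y} : Set G) ≤
      Subgroup.normalizer ((Subgroup.zpowers y : Subgroup G) : Set G) := by
    intro x hx
    have hxy : Commute x y := Subgroup.mem_centralizer_singleton_iff.mp hx
    have hfix : ∀ h ∈ Subgroup.zpowers y, x * h * x⁻¹ = h := by
      intro h hh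
      obtain ⟨n, rfl⟩ := Subgroup.mem_zpowers_iff.mp hh
      have := (hxy.zpow_right n).eq
      rw [this, mul_inv_cancel_right]
    rw [Subgroup.mem_normalizer_iff]
    intro h
    constructor
    · intro hh
      rw [hfix h hh]
      exact hh
    · intro hh
      have h1 := hfix _ hh
      have h2 : x * h * x⁻¹ = h := by
        have h3 : x⁻¹ * (x * (x * h * x⁻¹) * x⁻¹) * x = x⁻¹ * (x * h * x⁻¹) * x := by rw [h1]
        have e1 : x⁻¹ * (x * (x * h * x⁻¹) * x⁻¹) * x = x * h * x⁻¹ := by group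
        have e2 : x⁻¹ * (x * h * x⁻¹) * x = h := by group
        rw [e1, e2] at h3
        exact h3
      rw [← h2]
      exact hh
  obtain ⟨B, hB⟩ := Cfsg.Agent.S0919.result p M hM (Subgroup.zpowers y)
    (Subgroup.centralizer ({y} : Set G)) hP hPH hCH hHN b hb
  have hBne : B ≠ Cfsg.principalBlock M G := by
    intro h
    rw [h] at hB
    exact hne ((tm_main p M hM _ b ⟨_, hB⟩).mp hB)
  exact lt_of_le_of_lt (dcl_defect_le p M hM _ b B hB) (hG B hB.2.1 hBne)

/-- Transport of the principal block along a group isomorphism. -/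
theorem dcl_trb_principal {A B : Type*} [Group A] [Group B] [Finite A] [Finite B]
    (M : Ideal Cfsg.AlgInt) (e : A ≃* B) :
    bt_trb e (Cfsg.principalBlock M B) = Cfsg.principalBlock M A := by
  have h := bt_trb_blockOf (M := M) e (trivIrr B)
  exact h

theorem dcl_trb_inj {A B : Type*} [Group A] [Group B] (e : A ≃* B)
    (b b' : Set (Cfsg.IrrCharacter B)) (h : bt_trb e b = bt_trb e b') : b = b' := by
  ext θ
  rw [← bt_mem_trb e b θ, ← bt_mem_trb e b' θ, h]

/-- Backward direction: deficiency class of the centralizers of elements of order `p`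
gives deficiency class of the group, for positive `r`. -/
theorem dcl_backward {G : Type*} [Group G] [Finite G] (p : ℕ) [Fact p.Prime]
    (M : Ideal Cfsg.AlgInt) (hM : Cfsg.IsPModular p M) (r : ℕ) (hr : 0 < r)
    (hC : ∀ y : G, orderOf y = p →
      ∀ B' : Set (Cfsg.IrrCharacter ↥(Subgroup.centralizer ({y} : Set G))),
        Cfsg.IsPBlock M B' →
        B' ≠ Cfsg.principalBlock M ↥(Subgroup.centralizer ({y} : Set G)) →
        Cfsg.blockDefect p B' < r)
    (B : Set (Cfsg.IrrCharacter G)) (hB : Cfsg.IsPBlock M B)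
    (hne : B ≠ Cfsg.principalBlock M G) : Cfsg.blockDefect p B < r := by
  classical
  haveI : Fintype G := Fintype.ofFinite _
  haveI : Fintype (Cfsg.IrrCharacter G) := Fintype.ofFinite _
  have hPr := hM.2.1.isPrime
  have hpp : p.Prime := Fact.out
  by_contra hlt
  rw [not_lt] at hlt
  obtain ⟨g, hg⟩ := Cfsg.Agent.S0906.result p M hM B hB
  obtain ⟨Q⟩ : Nonempty (Sylow p (Subgroup.centralizer ({g} : Set G))) := inferInstance
  set D : Subgroup G := (Q : Subgroup (Subgroup.centralizer ({g} : Set G))).map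
    (Subgroup.centralizer ({g} : Set G)).subtype with hDdef
  have hD : Cfsg.IsDefectGroup p M B D := ⟨g, hg, Q, rfl⟩
  have hcardD : Nat.card D = p ^ Cfsg.blockDefect p B := by
    obtain ⟨χ₀, rfl⟩ := hB
    exact Cfsg.Agent.S0908.defect_card p M hM χ₀ g hg Q
  have hDp : IsPGroup p D := ef_isPGroup_of_defect hD
  have hDnt : Nontrivial D := by
    rw [← Finite.one_lt_card_iff_nontrivial, hcardD]
    exact Nat.one_lt_pow (by omega) hpp.one_lt
  haveI := hDnt
  have hZnt : Nontrivial (Subgroup.center D) := hDp.center_nontrivial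
  have hZp : IsPGroup p (Subgroup.center D) := hDp.to_subgroup _
  have hdvd : p ∣ Nat.card (Subgroup.center D) := by
    rcases hZp.card_eq_or_dvd with h | h
    · exfalso
      have := Finite.one_lt_card_iff_nontrivial.mpr hZnt
      omega
    · exact h
  obtain ⟨z, hz⟩ := exists_prime_orderOf_dvd_card' p hdvd
  set y : G := ((z : D) : G) with hydef
  have hy : orderOf y = p := by
    rw [hydef, Subgroup.orderOf_coe, Subgroup.orderOf_coe, hz]
  have hyD : y ∈ D := (z : D).2
  have hDH : D ≤ Subgroup.centralizer ({y} : Set G) := by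
    intro d hd
    rw [Subgroup.mem_centralizer_singleton_iff]
    have h1 := Subgroup.mem_center_iff.mp z.2 ⟨d, hd⟩
    have h2 := congrArg (fun t : D => (t : G)) h1
    simp only [Subgroup.coe_mul] at h2
    exact h2
  have hCDH : Subgroup.centralizer (D : Set G) ≤ Subgroup.centralizer ({y} : Set G) :=
    Subgroup.centralizer_le (Set.singleton_subset_iff.mpr hyD)
  set H : Subgroup G := Subgroup.centralizer ({y} : Set G) with hHdef
  set K : Subgroup G := D ⊔ Subgroup.centralizer (D : Set G) with hKdef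
  have hKH : K ≤ H := sup_le hDH hCDH
  have hDK : D ≤ K := le_sup_left
  have hCK : Subgroup.centralizer (D : Set G) ≤ K := le_sup_right
  have hKN : K ≤ Subgroup.normalizer (D : Set G) :=
    sup_le Subgroup.le_normalizer (Subgroup.centralizer_le_normalizer _)
  obtain ⟨⟨b, hDb, hI⟩, -⟩ := ef_main p M hM B hB D hD
  have hb : Cfsg.IsPBlock M b := hI.1
  have hbne : b ≠ Cfsg.principalBlock M K := by
    intro h
    have h1 := (tm_main p M hM K b ⟨B, hI⟩).mpr h
    exact hne (h7_induced_unique hPr K b _ _ hI h1)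
  have hdefb : Cfsg.blockDefect p b = Cfsg.blockDefect p B := by
    haveI : Fintype K := Fintype.ofFinite _
    haveI : Fintype (Cfsg.IrrCharacter K) := Fintype.ofFinite _
    obtain ⟨l, hl, Ql, hQl⟩ := hDb
    obtain ⟨ξ₀, hξ₀⟩ := hb
    have c := Cfsg.Agent.S0908.defect_card p M hM ξ₀ l (hξ₀ ▸ hl) Ql
    rw [← hQl, ← hξ₀] at c
    have c2 : Nat.card (D.subgroupOf K) = Nat.card D :=
      Nat.card_congr (Subgroup.subgroupOfEquivOfLe hDK).toEquiv
    rw [c2, hcardD] at c
    exact (Nat.pow_right_injective hpp.two_le c).symm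
  set e : ↥(K.subgroupOf H) ≃* ↥K := Subgroup.subgroupOfEquivOfLe hKH with hedef
  have hb' : Cfsg.IsPBlock M (bt_trb e b) := bt_trb_isPBlock e b hb
  have hb'ne : bt_trb e b ≠ Cfsg.principalBlock M ↥(K.subgroupOf H) := by
    intro h
    rw [← dcl_trb_principal M e] at h
    exact hbne (dcl_trb_inj e _ _ h)
  have hP' : IsPGroup p (D.subgroupOf H) := hDp.comap_subtype
  have hPK' : D.subgroupOf H ≤ K.subgroupOf H := by
    intro x hx
    exact Subgroup.mem_subgroupOf.mpr (hDK (Subgroup.mem_subgroupOf.mp hx))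
  have hCK' : Subgroup.centralizer ((D.subgroupOf H : Subgroup H) : Set H) ≤ K.subgroupOf H := by
    intro x hx
    apply Subgroup.mem_subgroupOf.mpr
    apply hCK
    rw [Subgroup.mem_centralizer_iff]
    intro d hd
    have h1 : (⟨d, hDH hd⟩ : H) ∈ D.subgroupOf H := Subgroup.mem_subgroupOf.mpr hd
    have h2 := Subgroup.mem_centralizer_iff.mp hx _ h1
    have h3 := congrArg (fun t : H => (t : G)) h2
    simp only [Subgroup.coe_mul] at h3
    exact h3
  have hKN' : K.subgroupOf H ≤ Subgroup.normalizer ((D.subgroupOf H : Subgroup H) : Set H) := by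
    intro x hx
    have hxN := hKN (Subgroup.mem_subgroupOf.mp hx)
    rw [Subgroup.mem_normalizer_iff] at hxN ⊢
    intro u
    rw [Subgroup.mem_subgroupOf, Subgroup.mem_subgroupOf]
    have := hxN (u : G)
    simpa using this
  obtain ⟨BH, hBH⟩ := Cfsg.Agent.S0919.result p M hM (D.subgroupOf H) (K.subgroupOf H)
    hP' hPK' hCK' hKN' (bt_trb e b) hb'
  have hBHne : BH ≠ Cfsg.principalBlock M ↥H := by
    intro h
    rw [h] at hBH
    exact hb'ne ((tm_main p M hM _ _ ⟨_, hBH⟩).mp hBH)
  have h1 := hC y hy BH hBH.2.1 hBHne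
  have h2 := dcl_defect_le p M hM _ _ _ hBH
  rw [bt_blockDefect, hdefb] at h2
  omega

end Cfsg.Agent.Lib.Helper26
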