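import Mathlib
import Cfsg.Agent.Lib.Helper24.MNP.Defs

set_option autoImplicit false

namespace Cfsg.Agent.Lib.Helper24.MNP

open scoped commutatorElement
open Cfsg.Agent.Lib.Helper24.SCH (SchAct)

universe u

section T

variable {K : Type u} [Field K] [Finite K] {p q : ℕ} [Fact p.Prime] [Fact q.Prime] [CharP K p]

variable {σ : InvHom K}

omit [Finite K] in
theorem mnpt3_fixed (x : K) : σ.s (x * σ.s x) = x * σ.s x := by
  rw [map_mul, σ.inv, mul_comm]

noncomputable def mnpt3_equiv (z₀ : K → K) (hz₀ : ∀ x, z₀ x + σ.s (z₀ x) = x * σ.s x) :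
    UT K σ ≃ K × {z : K // σ.s z = -z} where
  toFun t := (t.x, ⟨t.z - z₀ t.x, by
    have h1 := t.h
    have h2 := hz₀ t.x
    rw [map_sub]
    linear_combination h1 - h2⟩)
  invFun y := ⟨y.1, y.2.1 + z₀ y.1, by
    have h1 := y.2.2
    have h2 := hz₀ y.1
    rw [map_add]
    linear_combination h1 + h2⟩
  left_inv t := by
    ext
    · rfl
    · show t.z - z₀ t.x + z₀ t.x = t.z
      ring
  right_inv y := by
    obtain ⟨x, z, hz⟩ := y
    apply Prod.ext
    · rfl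
    · apply Subtype.ext
      show z + z₀ x - z₀ x = z
      ring

theorem mnpt3_core {m : ℕ} (hK : Nat.card K = p ^ (2 * m))
    (hF7 : Nat.card {x : K // σ.s x = -x} = p ^ m ∧ (∀ t, σ.s t = t → ∃ w, t = w + σ.s w) ∧
      ∀ t, σ.s t = -t → ∃ w, t = σ.s w - w) : Nat.card (UT K σ) = p ^ (3 * m) := by
  obtain ⟨h1, h2, -⟩ := hF7
  have h3 : ∀ x : K, ∃ w, w + σ.s w = x * σ.s x := fun x => by
    obtain ⟨w, hw⟩ := h2 (x * σ.s x) (mnpt3_fixed x)
    exact ⟨w, hw.symm⟩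
  choose z₀ hz₀ using h3
  rw [Nat.card_congr (mnpt3_equiv z₀ hz₀), Nat.card_prod, hK, h1, ← pow_add]
  congr 1
  ring

end T

end Cfsg.Agent.Lib.Helper24.MNP
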