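import Mathlib
import Cfsg.Agent.Lib.Helper24.MNP.Defs

set_option autoImplicit false

namespace Cfsg.Agent.Lib.Helper24.MNP

open scoped commutatorElement
open Cfsg.Agent.Lib.Helper24.SCH (SchAct)

universe u

section F

variable {K : Type u} [Field K] [Finite K] {p q : ℕ} [Fact p.Prime] [Fact q.Prime] [CharP K p]

theorem mnpf1_dvd (q p a : ℕ) (ha : a = orderOf (p : ZMod q)) (hp : 0 < p) : q ∣ p ^ a - 1 := by
  have h1 : ((p ^ a : ℕ) : ZMod q) = ((1 : ℕ) : ZMod q) := by
    push_cast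
    rw [ha]
    exact pow_orderOf_eq_one _
  have h2 := (ZMod.natCast_eq_natCast_iff _ _ _).mp h1
  exact (Nat.modEq_iff_dvd' (Nat.one_le_pow _ _ hp)).mp h2.symm

theorem exists_zeta (hpq : p ≠ q) {a : ℕ} (hK : Nat.card K = p ^ a) (ha : a = orderOf (p : ZMod q)) :
    ∃ ζ : K, orderOf ζ = q := by
  classical
  haveI := Fintype.ofFinite K
  have hcard : Nat.card Kˣ = p ^ a - 1 := by
    rw [Nat.card_eq_fintype_card, Fintype.card_units, ← Nat.card_eq_fintype_card, hK]
  have hdvd : q ∣ Nat.card Kˣ := by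
    rw [hcard]
    exact mnpf1_dvd q p a ha (Fact.out : p.Prime).pos
  obtain ⟨u, hu⟩ := exists_prime_orderOf_dvd_card' q hdvd
  exact ⟨(u : K), by rw [orderOf_units, hu]⟩

end F

end Cfsg.Agent.Lib.Helper24.MNP
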