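import Mathlib
import Cfsg.Agent.Lib.Helper24.P2P.Defs
import Cfsg.Agent.Lib.Helper24.SigmaParity2
import Cfsg.Agent.Lib.Helper24.GaloisNorm
import Cfsg.Agent.Lib.Helper11.GaloisRat
import Cfsg.Agent.Lib.Helper25.CharBasic

set_option autoImplicit false
set_option linter.unusedVariables false
set_option linter.unusedSectionVars false
set_option linter.style.haveILetI false
open scoped ComplexConjugate
open Classical

namespace Cfsg.Agent.Lib.Helper24.P2P

open MulAction Cfsg.Agent.Lib.helper6.PermChar Cfsg.Agent.Lib.Lead.W2P Cfsg.Agent.Lib.Helper25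

universe u v

section generic

variable {G : Type u} [Group G] [Fintype G]

theorem p2pint_inner_add (α β γ : G → ℂ) :
    Cfsg.classInner α (fun g => β g + γ g) = Cfsg.classInner α β + Cfsg.classInner α γ := by
  unfold Cfsg.classInner
  simp only [map_add, mul_add, Finset.sum_add_distrib]

variable {Ω : Type v} [Fintype Ω] [DecidableEq Ω] [MulAction G Ω]

theorem p2pint_pi_pow (m : ℕ) (hm : Nat.Coprime m (Nat.card G)) (g : G) :
    piChar G Ω (g ^ m) = piChar G Ω g := by
  unfold piChar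
  have hset : fixedBy Ω (g ^ m) = fixedBy Ω g := by
    have hcop : Nat.Coprime m (orderOf g) :=
      Nat.Coprime.coprime_dvd_right (orderOf_dvd_natCard g) hm
    obtain ⟨k, hk⟩ := exists_pow_eq_self_of_coprime hcop
    ext a
    simp only [mem_fixedBy]
    constructor
    · intro h
      have h2 : ∀ j : ℕ, (g ^ m) ^ j • a = a := by
        intro j
        induction j with
        | zero => simp
        | succ j ih => rw [pow_succ, mul_smul, h, ih]
      rw [← hk]; exact h2 k
    · intro h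
      have h2 : ∀ j : ℕ, g ^ j • a = a := by
        intro j
        induction j with
        | zero => simp
        | succ j ih => rw [pow_succ, mul_smul, h, ih]
      exact h2 m
  rw [hset]

theorem chi_int (χ₁ χ₂ : Cfsg.IrrCharacter G)
    (hπ : ∀ g : G, piChar G Ω g = 1 + (χ₁ : G → ℂ) g + (χ₂ : G → ℂ) g)
    (hdeg : (χ₁ : G → ℂ) 1 ≠ (χ₂ : G → ℂ) 1) (g : G) :
    ∃ n : ℤ, (χ₁ : G → ℂ) g = (n : ℂ) := by
  -- Galois invariance
  have hinv : ∀ m : ℕ, Nat.Coprime m (Nat.card G) → ∀ x : G, (χ₁ : G → ℂ) (x ^ m) = (χ₁ : G → ℂ) x := by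
    intro m hm
    set α := Cfsg.Agent.Lib.Helper24.sp_gal m hm χ₁ with hα
    set β := Cfsg.Agent.Lib.Helper24.sp_gal m hm χ₂ with hβ
    have hsum : ∀ x : G, (α : G → ℂ) x + (β : G → ℂ) x = (χ₁ : G → ℂ) x + (χ₂ : G → ℂ) x := by
      intro x
      rw [hα, hβ, Cfsg.Agent.Lib.Helper24.sp_gal_apply, Cfsg.Agent.Lib.Helper24.sp_gal_apply]
      have h1 := hπ (x ^ m)
      have h2 := hπ x
      rw [p2pint_pi_pow m hm x] at h1
      have : 1 + (χ₁ : G → ℂ) (x ^ m) + (χ₂ : G → ℂ) (x ^ m) = 1 + (χ₁ : G → ℂ) x + (χ₂ : G → ℂ) x := by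
        rw [← h1, ← h2]
      linear_combination this
    have hfun : (fun x => (α : G → ℂ) x + (β : G → ℂ) x) = fun x => (χ₁ : G → ℂ) x + (χ₂ : G → ℂ) x :=
      funext hsum
    have hL := p2pint_inner_add (α : G → ℂ) (α : G → ℂ) (β : G → ℂ)
    have hR := p2pint_inner_add (α : G → ℂ) (χ₁ : G → ℂ) (χ₂ : G → ℂ)
    rw [hfun] at hL
    rw [hL] at hR
    rw [irr_classInner, irr_classInner, irr_classInner, irr_classInner, if_pos rfl] at hR
    have hαeq : α = χ₁ := by
      by_cases h1 : α = χ₁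
      · exact h1
      · exfalso
        rw [if_neg h1] at hR
        by_cases h2 : α = χ₂
        · have hd : (α : G → ℂ) 1 = (χ₁ : G → ℂ) 1 := by
            rw [hα, Cfsg.Agent.Lib.Helper24.sp_gal_apply, one_pow]
          rw [h2] at hd
          exact hdeg hd.symm
        · rw [if_neg h2] at hR
          by_cases h3 : α = β
          · rw [if_pos h3] at hR; norm_num at hR
          · rw [if_neg h3] at hR; norm_num at hR
    intro x
    have h9 : (α : G → ℂ) x = (χ₁ : G → ℂ) x := by rw [hαeq]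
    rw [hα, Cfsg.Agent.Lib.Helper24.sp_gal_apply] at h9
    exact h9
  have hchar : Cfsg.IsCharacter G (χ₁ : G → ℂ) := Cfsg.Agent.Lib.helper2.isCharacter_of_irr χ₁
  obtain ⟨s, c, hs, hc⟩ := Cfsg.Agent.Lib.Helper24.gn_char_pow_expansion hchar g
  have hfix : ∀ m : ℕ, Nat.Coprime m (Nat.card G) →
      ∑ z ∈ s, (((c z : ℤ)) : ℂ) * z ^ m = ∑ z ∈ s, (((c z : ℤ)) : ℂ) * z := by
    intro m hm
    have h1 := hc m
    have h2 := hc 1
    simp only [pow_one] at h2
    simp only [Int.cast_natCast]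
    rw [← h1, ← h2, hinv m hm g]
  obtain ⟨n, hn⟩ := Cfsg.Agent.Lib.Helper11.int_of_galois_fixed (Nat.card G) Nat.card_pos s
    (fun z => (c z : ℤ)) hs hfix
  refine ⟨n, ?_⟩
  have h2 := hc 1
  simp only [pow_one] at h2
  rw [h2, ← hn]
  simp only [Int.cast_natCast]

end generic

end Cfsg.Agent.Lib.Helper24.P2P
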