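import Mathlib

set_option autoImplicit false
set_option linter.unusedVariables false
set_option linter.unusedSectionVars false
set_option linter.style.haveILetI false

namespace Cfsg.Agent.Lib.helper8.SFO

open Matrix Polynomial

/-- a generator of `Fˣ` with its order. -/
theorem sfonthroot_gen {F : Type*} [Field F] [Fintype F] {q : ℕ} (hq : Fintype.card F = q) :
    ∃ g : Fˣ, orderOf g = q - 1 ∧ ∀ x : Fˣ, ∃ j : ℕ, x = g ^ j := by
  classical
  obtain ⟨g, hg⟩ := IsCyclic.exists_monoid_generator (α := Fˣ)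
  refine ⟨g, ?_, fun x => ?_⟩
  · have h1 : orderOf g = Nat.card Fˣ := by
      apply orderOf_eq_card_of_forall_mem_zpowers
      intro x
      obtain ⟨k, hk⟩ := hg x
      exact ⟨(k : ℤ), by simpa using hk⟩
    rw [h1, Nat.card_eq_fintype_card, Fintype.card_units, hq]
  · obtain ⟨k, hk⟩ := hg x
    exact ⟨k, hk.symm⟩

theorem sfonthroot_arith (n N r : ℕ) (hr : r.Prime) (hn : n ≠ 0) (hN : N ≠ 0)
    (hv : padicValNat r n < padicValNat r N) : Nat.gcd n N * r ∣ N := by
  have hd : Nat.gcd n N ≠ 0 := Nat.gcd_ne_zero_left hn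
  rw [← Nat.factorization_le_iff_dvd (Nat.mul_ne_zero hd hr.ne_zero) hN]
  rw [Nat.factorization_mul hd hr.ne_zero, Nat.factorization_gcd hn hN, hr.factorization]
  intro t
  simp only [Finsupp.coe_add, Pi.add_apply, Finsupp.inf_apply]
  by_cases ht : t = r
  · subst ht
    rw [Finsupp.single_eq_same]
    haveI : Fact t.Prime := ⟨hr⟩
    rw [Nat.factorization_def n hr, Nat.factorization_def N hr]
    have : min (padicValNat t n) (padicValNat t N) = padicValNat t n := min_eq_left hv.le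
    rw [this]; omega
  · rw [Finsupp.single_eq_of_ne ht]
    simp

/-- NTHROOT [M]. -/
theorem exists_nth_root {F : Type*} [Field F] [Fintype F] {q : ℕ} (hq : Fintype.card F = q)
    (n r : ℕ) [Fact r.Prime] (hn : 0 < n) (hv : padicValNat r n < padicValNat r (q - 1))
    (l : F) (hl : l ^ r = 1) : ∃ ν : F, ν ≠ 0 ∧ ν ^ n = l := by
  classical
  have hr : r.Prime := Fact.out
  have hl0 : l ≠ 0 := by
    intro h0; rw [h0, zero_pow hr.ne_zero] at hl; exact zero_ne_one hl
  obtain ⟨g, hg, hgen⟩ := sfonthroot_gen hq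
  obtain ⟨j, hj⟩ := hgen (Units.mk0 l hl0)
  have hN : q - 1 ≠ 0 := by
    have : 1 < Fintype.card F := Fintype.one_lt_card
    omega
  have hNrj : q - 1 ∣ j * r := by
    rw [← hg]
    apply orderOf_dvd_of_pow_eq_one
    rw [pow_mul, ← hj]
    ext; simpa using hl
  have hdr := sfonthroot_arith n (q - 1) r hr hn.ne' hN hv
  have hdj : Nat.gcd n (q - 1) ∣ j :=
    Nat.dvd_of_mul_dvd_mul_right hr.pos (hdr.trans hNrj)
  obtain ⟨t, ht⟩ := hdj
  -- Bezout
  have hbez := Nat.gcd_eq_gcd_ab n (q - 1)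
  have hgN : g ^ (((q - 1 : ℕ)) : ℤ) = 1 := by
    rw [zpow_natCast, ← hg, pow_orderOf_eq_one]
  have hgd : g ^ (Nat.gcd n (q - 1)) = (g ^ (Nat.gcdA n (q - 1))) ^ n := by
    rw [← zpow_natCast g (Nat.gcd n (q - 1)), hbez, _root_.zpow_add, _root_.zpow_mul (a := g) (m := ((q - 1 : ℕ) : ℤ)), hgN, _root_.one_zpow,
      mul_one, mul_comm, _root_.zpow_mul, zpow_natCast]
  refine ⟨(((g ^ (Nat.gcdA n (q - 1))) ^ t : Fˣ) : F), Units.ne_zero _, ?_⟩
  have : ((g ^ (Nat.gcdA n (q - 1))) ^ t) ^ n = Units.mk0 l hl0 := by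
    rw [hj, ht, pow_mul, hgd, ← pow_mul, ← pow_mul, mul_comm]
  have h2 := congrArg (fun u : Fˣ => (u : F)) this
  simpa using h2

end Cfsg.Agent.Lib.helper8.SFO
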