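import Mathlib
import Cfsg.Agent.Lib.Helper26.SFONTHROOT

set_option autoImplicit false
set_option linter.unusedVariables false
set_option linter.unusedSectionVars false
set_option linter.style.haveILetI false

namespace Cfsg.Agent.Lib.helper8.SFO

open Matrix Polynomial

/-- CYCARITH [M]. -/
theorem cyc_arith {F : Type*} [Field F] [Fintype F] {q : ℕ} (hq : Fintype.card F = q) (n r : ℕ)
    [Fact r.Prime] (hn : 0 < n) (z : F) (hz0 : z ≠ 0) (hrn : r ∣ n) (hz : z ^ (n / r) = 1)
    (hv : padicValNat r n ≤ padicValNat r (q - 1)) : ∃ b : F, b ^ r = z := by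
  classical
  have hr : r.Prime := Fact.out
  obtain ⟨g, hg, hgen⟩ := sfonthroot_gen hq
  obtain ⟨j, hj⟩ := hgen (Units.mk0 z hz0)
  have hN : q - 1 ≠ 0 := by
    have : 1 < Fintype.card F := Fintype.one_lt_card
    omega
  have hnr : n / r ≠ 0 := by
    obtain ⟨t, rfl⟩ := hrn
    rw [Nat.mul_div_cancel_left _ hr.pos]
    rintro rfl; simp at hn
  have hNj : q - 1 ∣ j * (n / r) := by
    rw [← hg]
    apply orderOf_dvd_of_pow_eq_one
    rw [pow_mul, ← hj]
    ext; simpa using hz
  have hvn : 1 ≤ padicValNat r n := one_le_padicValNat_of_dvd hn.ne' hrn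
  have hrj : r ∣ j := by
    by_contra hnd
    have hj0 : j ≠ 0 := by rintro rfl; exact hnd (dvd_zero _)
    have h1 : r ^ padicValNat r (q - 1) ∣ j * (n / r) := pow_padicValNat_dvd.trans hNj
    have h2 := (padicValNat_dvd_iff_le (Nat.mul_ne_zero hj0 hnr)).1 h1
    rw [padicValNat.mul hj0 hnr, padicValNat.eq_zero_of_not_dvd hnd, padicValNat.div hrn] at h2
    omega
  obtain ⟨t, ht⟩ := hrj
  refine ⟨((g ^ t : Fˣ) : F), ?_⟩
  have : (g ^ t) ^ r = Units.mk0 z hz0 := by
    rw [hj, ht, ← pow_mul, mul_comm]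
  have h2 := congrArg (fun u : Fˣ => (u : F)) this
  simpa using h2

end Cfsg.Agent.Lib.helper8.SFO
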