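import Mathlib
import Cfsg.Prelude.Def_GeometricClasses
import Cfsg.Agent.Lib.Helper27.ASC.Defs
import Cfsg.Agent.Lib.helper23.ASCO.Defs
import Cfsg.Agent.Lib.Helper19.ASG.Defs
import Cfsg.Agent.Lib.Helper1.ASGCLIF3
import Cfsg.Agent.Lib.Lead.Reindex
import Cfsg.Agent.Lib.Helper25.ASO.Defs
import Cfsg.Agent.Lib.Helper28.OTrans
import Cfsg.Agent.Lib.Helper24.ASCOTRND

/-!
# Project ASO, piece TR1 (helper26): transport of the class-1 members (totally singular / non-degenerate subspaces)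
along a reindexing, in preimage form.
-/

set_option autoImplicit false
set_option linter.unusedVariables false
set_option linter.unusedSectionVars false

namespace Cfsg.Agent.Lib.Helper25.ASO

open Cfsg Cfsg.Geo Cfsg.Agent.Lib.Helper27.ASC Cfsg.Agent.Lib.helper23.ASCO Cfsg.Agent.Lib.Helper19.ASG
open scoped MatrixGroups Matrix Kronecker

variable {n : ℕ} {F : Type*} [Field F] [Fintype F]

section transport

open Cfsg.Agent.Lib.Lead

variable {ι κ : Type} [Fintype ι] [DecidableEq ι] [Fintype κ] [DecidableEq κ]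

/-- preimage of `S' ⊓ isometryGroup Q'` when `S'` is the image of `S` -/
theorem asotr1_comap_inf (e : ι ≃ κ) (Q : (ι → F) → F) (S : Subgroup (GL ι F)) (S' : Subgroup (GL κ F))
    (hS : S.map (RI.glReindex (F := F) e).toMonoidHom = S') :
    (S' ⊓ isometryGroup F (fun x : κ → F => Q (x ∘ e))).comap (RI.glReindex (F := F) e).toMonoidHom =
      S ⊓ isometryGroup F Q := by
  have hinj : Function.Injective (RI.glReindex (F := F) e).toMonoidHom := (RI.glReindex (F := F) e).injective
  rw [Subgroup.comap_inf, ← hS, ← RI.map_iso e Q, Subgroup.comap_map_eq_self_of_injective hinj,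
    Subgroup.comap_map_eq_self_of_injective hinj]

/-- the subspace stabiliser of the transported subspace -/
theorem asotr1_stab (e : ι ≃ κ) (W' : Submodule F (κ → F)) :
    (subspaceStabilizer (W'.map (LinearEquiv.funCongrLeft F F e : (κ → F) →ₗ[F] (ι → F)))).map
      (RI.glReindex (F := F) e).toMonoidHom = subspaceStabilizer W' := by
  rw [Cfsg.Agent.Lib.Helper28.OTrans.map_stab, ascotrnd_comap_map]

theorem asotr1_ne_bot (e : ι ≃ κ) (W' : Submodule F (κ → F)) (h : W' ≠ ⊥) :
    W'.map (LinearEquiv.funCongrLeft F F e : (κ → F) →ₗ[F] (ι → F)) ≠ ⊥ := by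
  intro hbot
  apply h
  rw [← ascotrnd_comap_map e W', hbot]
  ext x
  rw [Submodule.mem_comap, Submodule.mem_bot, Submodule.mem_bot]
  constructor
  · intro hx
    apply (LinearEquiv.funCongrLeft F F e).injective
    rw [map_zero]
    exact hx
  · rintro rfl
    exact map_zero _

theorem asotr1_ne_top (e : ι ≃ κ) (W' : Submodule F (κ → F)) (h : W' ≠ ⊤) :
    W'.map (LinearEquiv.funCongrLeft F F e : (κ → F) →ₗ[F] (ι → F)) ≠ ⊤ := by
  intro htop
  apply h
  rw [← ascotrnd_comap_map e W', htop]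
  rfl

/-- TR1 -/
theorem ots_transport (e : ι ≃ κ) (Q : (ι → F) → F) (M' : Subgroup (GL κ F))
    (h : OTS (fun x : κ → F => Q (x ∘ e)) M') :
    OTS Q (M'.comap (RI.glReindex (F := F) e).toMonoidHom) := by
  obtain ⟨W', hW0, hts, rfl⟩ := h
  refine ⟨W'.map (LinearEquiv.funCongrLeft F F e : (κ → F) →ₗ[F] (ι → F)), asotr1_ne_bot e W' hW0, ?_,
    asotr1_comap_inf e Q _ _ (asotr1_stab e W')⟩
  rintro _ ⟨x, hx, rfl⟩
  exact hts x hx

/-- TR1 (same piece) -/
theorem ond_transport (e : ι ≃ κ) (Q : (ι → F) → F) (M' : Subgroup (GL κ F))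
    (h : OND (fun x : κ → F => Q (x ∘ e)) M') :
    OND Q (M'.comap (RI.glReindex (F := F) e).toMonoidHom) := by
  obtain ⟨W', hW0, hW1, hnd, rfl⟩ := h
  exact ⟨W'.map (LinearEquiv.funCongrLeft F F e : (κ → F) →ₗ[F] (ι → F)), asotr1_ne_bot e W' hW0,
    asotr1_ne_top e W' hW1, ascotrnd_nondeg e Q W' hnd, asotr1_comap_inf e Q _ _ (asotr1_stab e W')⟩

end transport

end Cfsg.Agent.Lib.Helper25.ASO
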