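import Mathlib
import Cfsg.Prelude.Def_GeometricClasses
import Cfsg.Agent.Lib.Helper27.ASC.Defs
import Cfsg.Agent.Lib.helper23.ASCO.Defs
import Cfsg.Agent.Lib.Helper19.ASG.Defs
import Cfsg.Agent.Lib.Helper1.ASGCLIF3
import Cfsg.Agent.Lib.Lead.Reindex
import Cfsg.Agent.Lib.Helper25.ASO.Defs
import Cfsg.Agent.Lib.Helper28.OTrans
import Cfsg.Agent.Lib.Helper28.OFrameT
import Cfsg.Agent.Lib.Helper24.ASCOTRND
import Cfsg.Agent.Lib.Helper24.ASCOTRFR
import Cfsg.Agent.Lib.Helper26.ASOTR1

/-!
# Project ASO, piece TR2 (helper26): transport of the class-2 members (orthogonal decompositions, frames of lines)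
along a reindexing, in preimage form.
-/

set_option autoImplicit false
set_option linter.unusedVariables false
set_option linter.unusedSectionVars false

namespace Cfsg.Agent.Lib.Helper25.ASO

open Cfsg Cfsg.Geo Cfsg.Agent.Lib.Helper27.ASC Cfsg.Agent.Lib.helper23.ASCO Cfsg.Agent.Lib.Helper19.ASG
open scoped MatrixGroups Matrix Kronecker

variable {n : ℕ} {F : Type*} [Field F] [Fintype F]

section transport

open Cfsg.Agent.Lib.Lead

variable {ι κ : Type} [Fintype ι] [DecidableEq ι] [Fintype κ] [DecidableEq κ]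

/-- transport of an `m`-decomposition -/
theorem asotr2_mdecomp (e : ι ≃ κ) {t m : ℕ} (D' : Fin t → Submodule F (κ → F))
    (h : IsMDecomposition m D') :
    IsMDecomposition m
      (fun i => (D' i).map (LinearEquiv.funCongrLeft F F e : (κ → F) →ₗ[F] (ι → F))) := by
  refine ⟨h.two_le, h.pos, fun i => ?_, ?_, ?_⟩
  · rw [ascotrnd_finrank]
    exact h.finrank_eq i
  · exact h.indep.map_orderIso (Submodule.orderIsoMapComap (LinearEquiv.funCongrLeft F F e))
  · rw [← Submodule.map_iSup, h.iSup_eq_top, Submodule.map_top, LinearMap.range_eq_top]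
    exact (LinearEquiv.funCongrLeft F F e).surjective

/-- transport of an orthogonal `m`-decomposition -/
theorem asotr2_odecomp (e : ι ≃ κ) (Q : (ι → F) → F) {t m : ℕ} (D' : Fin t → Submodule F (κ → F))
    (hD : IsOrthogonalMDecomposition (fun x : κ → F => Q (x ∘ e)) m D') :
    IsOrthogonalMDecomposition Q m
      (fun i => (D' i).map (LinearEquiv.funCongrLeft F F e : (κ → F) →ₗ[F] (ι → F))) := by
  refine ⟨⟨asotr2_mdecomp e D' hD.decomp.decomp, fun i => ascotrnd_nondeg e Q (D' i)
      (hD.decomp.nondegenerate i), ?_⟩, fun i j => ascotrfr_isometric e Q _ _ (hD.isometric i j)⟩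
  rintro i j hij u ⟨x, hx, rfl⟩ v ⟨y, hy, rfl⟩
  exact hD.decomp.orthogonal i j hij x hx y hy

/-- the stabiliser of the transported decomposition -/
theorem asotr2_stab (e : ι ≃ κ) {t : ℕ} (D' : Fin t → Submodule F (κ → F)) :
    (decompositionStabilizer
      (fun i => (D' i).map (LinearEquiv.funCongrLeft F F e : (κ → F) →ₗ[F] (ι → F)))).map
      (RI.glReindex (F := F) e).toMonoidHom = decompositionStabilizer D' := by
  rw [Cfsg.Agent.Lib.Helper28.OFrameT.map_decomp]
  congr 1
  funext i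
  exact ascotrnd_comap_map e (D' i)

/-- TR2 -/
theorem odec_transport (e : ι ≃ κ) (Q : (ι → F) → F) (M' : Subgroup (GL κ F))
    (h : ODec (fun x : κ → F => Q (x ∘ e)) M') :
    ODec Q (M'.comap (RI.glReindex (F := F) e).toMonoidHom) := by
  obtain ⟨t, k, D', hk, hD, rfl⟩ := h
  exact ⟨t, k, fun i => (D' i).map (LinearEquiv.funCongrLeft F F e : (κ → F) →ₗ[F] (ι → F)), hk,
    asotr2_odecomp e Q D' hD, asotr1_comap_inf e Q _ _ (asotr2_stab e D')⟩

/-- TR2 (same piece) -/
theorem oframe_transport (e : ι ≃ κ) (Q : (ι → F) → F) (M' : Subgroup (GL κ F))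
    (h : OFrame (fun x : κ → F => Q (x ∘ e)) M') :
    OFrame Q (M'.comap (RI.glReindex (F := F) e).toMonoidHom) := by
  obtain ⟨t, D', hp, hD, rfl⟩ := h
  exact ⟨t, fun i => (D' i).map (LinearEquiv.funCongrLeft F F e : (κ → F) →ₗ[F] (ι → F)), hp,
    asotr2_odecomp e Q D' hD, asotr1_comap_inf e Q _ _ (asotr2_stab e D')⟩

end transport

end Cfsg.Agent.Lib.Helper25.ASO
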