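import Mathlib
import Cfsg.Prelude.Def_Characters
import Cfsg.Agent.Lib.Helper11.GaloisConj
import Cfsg.Agent.Lib.Helper25.RealOver
import Cfsg.Agent.Lib.Helper24.QuotDefect2

/-!
Galois-fixed characters over a Galois-fixed character of a normal subgroup of odd index (S4519):
basic facts.
-/

set_option autoImplicit false
set_option linter.style.haveILetI false
set_option linter.unusedSectionVars false
set_option linter.unusedVariables false

namespace Cfsg.Agent.Lib.Helper26

open scoped ComplexConjugate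
open Cfsg.Agent.Lib.Helper24 Cfsg.Agent.Lib.Helper25 Cfsg.Agent.Lib.Helper11
open Cfsg.Agent.Lib.helper2 Cfsg.Agent.Lib.helper7

section

variable {G : Type*} [Group G]

/-- the hypotheses on the exponent `k`: prime to the group order and inverting the elements of
odd order -/
def gfo_Hyp (G : Type*) [Group G] (k : ℕ) : Prop :=
  Nat.Coprime k (Nat.card G) ∧ ∀ g : G, Odd (orderOf g) → g ^ k = g⁻¹

theorem gfo_Hyp_subgroup [Finite G] {k : ℕ} (h : gfo_Hyp G k) (H : Subgroup G) :
    gfo_Hyp H k := by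
  refine ⟨Nat.Coprime.coprime_dvd_right (Subgroup.card_subgroup_dvd_card H) h.1, ?_⟩
  intro x hx
  apply Subtype.ext
  rw [Subgroup.coe_pow, Subgroup.coe_inv]
  apply h.2
  rw [← Subgroup.orderOf_coe] at hx
  exact hx

/-- Galois conjugate of an irreducible character by `g ↦ g ^ k` -/
theorem gfo_gal_irr [Finite G] (k : ℕ) (hk : Nat.Coprime k (Nat.card G)) (χ : G → ℂ)
    (hχ : Cfsg.IsIrrCharacter G χ) : Cfsg.IsIrrCharacter G (fun g => χ (g ^ k)) := by
  obtain ⟨τ, hτ⟩ := exists_ringAut_pow (Nat.card G) k Nat.card_pos hk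
  have h1 : (fun g => χ (g ^ k)) = fun g => τ (χ g) := by
    funext g
    exact (ringAut_character_apply τ k hτ (h7_irr_isCharacter hχ) g).symm
  rw [h1]
  exact isIrrCharacter_ringAut τ hχ

noncomputable def gfo_gal [Finite G] (k : ℕ) (hk : Nat.Coprime k (Nat.card G))
    (χ : Cfsg.IrrCharacter G) : Cfsg.IrrCharacter G :=
  ⟨fun g => (χ : G → ℂ) (g ^ k), gfo_gal_irr k hk _ χ.2⟩

theorem gfo_gal_apply [Finite G] (k : ℕ) (hk : Nat.Coprime k (Nat.card G))
    (χ : Cfsg.IrrCharacter G) (g : G) :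
    (gfo_gal k hk χ : G → ℂ) g = (χ : G → ℂ) (g ^ k) := rfl

/-- a homomorphism whose image is killed by an odd number turns `k`-th powers into inverses -/
theorem gfo_inv_of_odd [Finite G] {Q : Type*} [Group Q] (f : G →* Q) (m : ℕ) (hm : Odd m)
    (hfm : ∀ g : G, f g ^ m = 1) (k : ℕ) (hk₂ : ∀ g : G, Odd (orderOf g) → g ^ k = g⁻¹)
    (g : G) : f g ^ k = (f g)⁻¹ := by
  obtain ⟨a, b, hb, ho⟩ := Nat.exists_eq_two_pow_mul_odd (orderOf_pos g).ne'
  have hy : Odd (orderOf (g ^ (2 ^ a))) := by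
    apply Odd.of_dvd_nat hb
    apply orderOf_dvd_of_pow_eq_one
    rw [← pow_mul, ← ho, pow_orderOf_eq_one]
  have h1 := hk₂ _ hy
  have h2 : (g ^ (k + 1)) ^ (2 ^ a) = 1 := by
    rw [← pow_mul, mul_comm, pow_mul, pow_succ, h1, inv_mul_cancel]
  have h3 : (f g ^ (k + 1)) ^ (2 ^ a) = 1 := by
    rw [← map_pow, ← map_pow, h2, map_one]
  have h4 : (f g ^ (k + 1)) ^ m = 1 := by
    rw [← map_pow]
    exact hfm _
  have hcop : Nat.gcd (2 ^ a) m = 1 :=
    Nat.Coprime.pow_left a (Nat.coprime_two_left.mpr hm)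
  have h5 := pow_gcd_eq_one.mpr ⟨h3, h4⟩
  rw [hcop, pow_one] at h5
  rw [pow_succ] at h5
  exact eq_inv_of_mul_eq_one_left h5

/-- in a quotient of odd order, `k`-th powers are inverses -/
theorem gfo_quot_inv [Finite G] (N : Subgroup G) [hN : N.Normal] (hidx : Odd N.index) (k : ℕ)
    (hk₂ : ∀ g : G, Odd (orderOf g) → g ^ k = g⁻¹) (x : G ⧸ N) : x ^ k = x⁻¹ := by
  obtain ⟨g, rfl⟩ := QuotientGroup.mk_surjective x
  have := gfo_inv_of_odd (QuotientGroup.mk' N) N.index hidx (fun g => by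
    rw [Subgroup.index_eq_card]
    exact pow_card_eq_one') k hk₂ g
  exact this

/-- Burnside: a real-valued irreducible character of a group of odd order is trivial -/
theorem gfo_burnside {Q : Type*} [Group Q] [Fintype Q] (hodd : Odd (Nat.card Q))
    (β : Cfsg.IrrCharacter Q) (hreal : ∀ x : Q, (β : Q → ℂ) x⁻¹ = (β : Q → ℂ) x) :
    β = trivIrr Q := by
  classical
  haveI : Fintype ↥(⊥ : Subgroup Q) := Fintype.ofFinite _
  have hodd' : Odd (⊥ : Subgroup Q).index := by
    rw [Subgroup.index_bot]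
    exact hodd
  have hψ : irrConj (trivIrr ↥(⊥ : Subgroup Q)) = trivIrr ↥(⊥ : Subgroup Q) := by
    apply Subtype.ext
    funext x
    rw [irrConj_apply, trivIrr_apply, map_one]
  obtain ⟨χ, -, huniq⟩ := unique_real_over (⊥ : Subgroup Q) hodd' (trivIrr _) hψ
  have hne : ∀ χ' : Cfsg.IrrCharacter Q, resInner (⊥ : Subgroup Q) χ' (trivIrr _) ≠ 0 := by
    intro χ'
    unfold resInner Cfsg.classInner
    have hcard : Nat.card ↥(⊥ : Subgroup Q) = 1 := Subgroup.card_bot
    rw [hcard, Nat.cast_one, inv_one, one_mul]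
    haveI : Subsingleton ↥(⊥ : Subgroup Q) :=
      ⟨fun x y => Subtype.ext ((Subgroup.mem_bot.mp x.2).trans (Subgroup.mem_bot.mp y.2).symm)⟩
    rw [Fintype.sum_subsingleton _ (1 : ↥(⊥ : Subgroup Q)), trivIrr_apply, map_one, mul_one]
    exact irr_one_ne_zero χ'
  have h1 : β = χ := by
    apply huniq
    refine ⟨?_, hne β⟩
    apply Subtype.ext
    funext x
    rw [irrConj_apply, ← irr_inv, hreal]
  have h2 : trivIrr Q = χ := by
    apply huniq
    refine ⟨?_, hne _⟩
    apply Subtype.ext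
    funext x
    rw [irrConj_apply, trivIrr_apply, map_one]
  rw [h1, ← h2]

end

end Cfsg.Agent.Lib.Helper26
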