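import Mathlib
import Cfsg.Prelude.Def_Characters
import Cfsg.Agent.Lib.Helper26.GalFixOver1
import Cfsg.Agent.Lib.Helper11.AbelianQuot
import Cfsg.Agent.Lib.helper7.BlockQuot
import Cfsg.Agent.S0856

/-!
Galois-fixed characters over a Galois-fixed character of a normal subgroup of odd index (S4519):
the Gallagher correspondence and uniqueness over an extendible character.
-/

set_option autoImplicit false
set_option linter.style.haveILetI false
set_option linter.unusedSectionVars false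
set_option linter.unusedVariables false

namespace Cfsg.Agent.Lib.Helper26

open scoped ComplexConjugate
open Cfsg.Agent.Lib.Helper24 Cfsg.Agent.Lib.Helper25 Cfsg.Agent.Lib.Helper11
open Cfsg.Agent.Lib.helper2 Cfsg.Agent.Lib.helper7

section

variable {G : Type*} [Group G]

/-- an irreducible character lies over the trivial character of `N` iff `N` is in its kernel -/
theorem gfo_over_triv_iff [Fintype G] (N : Subgroup G) [hN : N.Normal] [Fintype N]
    (β : Cfsg.IrrCharacter G) :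
    Cfsg.classInner (fun n : N => (β : G → ℂ) n) (fun _ : N => (1 : ℂ)) ≠ 0 ↔
      ∀ n ∈ N, (β : G → ℂ) n = (β : G → ℂ) 1 := by
  classical
  constructor
  · intro hcon
    obtain ⟨e, he, h1, h2⟩ := h7_clifford_invariant N (β : G → ℂ) β.2 (fun _ : N => (1 : ℂ))
      (trivIrr N).2 hcon (fun g => rfl)
    intro n hn
    have h3 := congrFun h2 ⟨n, hn⟩
    have h4 := congrFun h2 1
    simp only [Pi.smul_apply, smul_eq_mul, mul_one] at h3 h4
    rw [h3]
    rw [← h4]
    rfl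
  · intro h
    have h1 : (fun n : N => (β : G → ℂ) n) = ((β : G → ℂ) 1) • (fun _ : N => (1 : ℂ)) := by
      funext n
      rw [Pi.smul_apply, smul_eq_mul, mul_one]
      exact h n n.2
    rw [h1, classInner_smul_left]
    have h2 := h7_irr_norm (trivIrr N).2
    have h3 : ((trivIrr N : Cfsg.IrrCharacter N) : N → ℂ) = fun _ : N => (1 : ℂ) := rfl
    rw [h3] at h2
    rw [h2, mul_one]
    exact irr_one_ne_zero β

/-- Gallagher's correspondence over an extendible character -/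
theorem gfo_gallagher [Fintype G] (N : Subgroup G) [hN : N.Normal] [Fintype N]
    (θ : Cfsg.IrrCharacter N) (χ₀ : Cfsg.IrrCharacter G)
    (hχ₀ : ∀ n : N, (χ₀ : G → ℂ) n = (θ : N → ℂ) n) :
    (∀ χ' : Cfsg.IrrCharacter G,
      Cfsg.classInner (fun n : N => (χ' : G → ℂ) n) (θ : N → ℂ) ≠ 0 →
      ∃ β : Cfsg.IrrCharacter G, (∀ n ∈ N, (β : G → ℂ) n = (β : G → ℂ) 1) ∧
        (χ' : G → ℂ) = (β : G → ℂ) * (χ₀ : G → ℂ)) ∧
    (∀ β₁ β₂ : Cfsg.IrrCharacter G, (∀ n ∈ N, (β₁ : G → ℂ) n = (β₁ : G → ℂ) 1) →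
      (∀ n ∈ N, (β₂ : G → ℂ) n = (β₂ : G → ℂ) 1) →
      (β₁ : G → ℂ) * (χ₀ : G → ℂ) = (β₂ : G → ℂ) * (χ₀ : G → ℂ) → β₁ = β₂) := by
  classical
  have hθinv : ∀ (g : G) (n : N),
      (θ : N → ℂ) ⟨g * n * g⁻¹, hN.conj_mem (n : G) n.2 g⟩ = (θ : N → ℂ) n := by
    intro g n
    rw [← hχ₀, ← hχ₀]
    exact irr_conj_invariant χ₀ (n : G) g
  have e : ((fun _ : N => (1 : ℂ)) * (θ : N → ℂ)) = (θ : N → ℂ) := by
    funext n
    rw [Pi.mul_apply, one_mul]
  have key := Cfsg.Agent.S0856.result N (fun _ : N => (1 : ℂ)) (θ : N → ℂ) (trivIrr N).2 θ.2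
    (fun g n => rfl) hθinv (by rw [e]; exact θ.2) (χ₀ : G → ℂ) χ₀.2 hχ₀
  rw [e] at key
  have hS : ∀ β : Cfsg.IrrCharacter G, (∀ n ∈ N, (β : G → ℂ) n = (β : G → ℂ) 1) →
      (β : G → ℂ) ∈ {β : G → ℂ | Cfsg.IsIrrCharacter G β ∧
        Cfsg.classInner (Cfsg.indFun N (fun _ : N => (1 : ℂ))) β ≠ 0} := by
    intro β hβ
    refine ⟨β.2, ?_⟩
    rw [h7_frobenius_irr N (β : G → ℂ) (h7_irr_isClassFunction β.2)]
    intro h0
    have := (gfo_over_triv_iff N β).mpr hβ
    apply this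
    have h1 := congrArg conj h0
    rw [Complex.conj_conj, map_zero] at h1
    exact h1
  constructor
  · intro χ' hcon
    have hT : (χ' : G → ℂ) ∈ {ψ : G → ℂ | Cfsg.IsIrrCharacter G ψ ∧
        Cfsg.classInner (Cfsg.indFun N (θ : N → ℂ)) ψ ≠ 0} := by
      refine ⟨χ'.2, ?_⟩
      rw [h7_frobenius_irr N (χ' : G → ℂ) (h7_irr_isClassFunction χ'.2)]
      intro h0
      apply hcon
      have h1 := congrArg conj h0
      rw [Complex.conj_conj, map_zero] at h1
      exact h1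
    obtain ⟨β, ⟨hβirr, hβ⟩, hβχ⟩ := key.surjOn hT
    refine ⟨⟨β, hβirr⟩, ?_, hβχ.symm⟩
    apply (gfo_over_triv_iff N ⟨β, hβirr⟩).mp
    rw [h7_frobenius_irr N β (h7_irr_isClassFunction hβirr)] at hβ
    intro h0
    apply hβ
    show conj (Cfsg.classInner (fun n : N => β n) (fun _ : N => (1 : ℂ))) = 0
    rw [h0, map_zero]
  · intro β₁ β₂ h1 h2 heq
    apply Subtype.ext
    exact key.injOn (hS β₁ h1) (hS β₂ h2) heq

end

end Cfsg.Agent.Lib.Helper26
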