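import Mathlib
import Cfsg.Prelude.Def_Characters
import Cfsg.Prelude.Def_Blocks
import Cfsg.Agent.Lib.helper7.CharCentral
import Cfsg.Agent.Lib.helper7.Clifford
import Cfsg.Agent.Lib.Helper25.Gagola
import Cfsg.Agent.Lib.Helper25.DefectZeroCount
import Cfsg.Agent.Lib.Helper24.QuotDefect2
import Cfsg.Agent.Lib.helper2.CharNat

set_option autoImplicit false
set_option linter.style.haveILetI false
set_option linter.unusedSectionVars false
set_option linter.unusedVariables false

namespace Cfsg.Agent.Lib.Helper26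

open scoped ComplexConjugate commutatorElement
open Cfsg.Agent.Lib.Helper24 Cfsg.Agent.Lib.Helper25 Cfsg.Agent.Lib.Helper11 Cfsg.Agent.Lib.helper2
  Cfsg.Agent.Lib.helper7

/-- In a cyclic group of prime order every nonidentity element is a generator. -/
theorem cdp_prime_zpowers {G : Type*} [Group G] [Finite G] {p : ℕ} (hp : p.Prime) (z w : G)
    (hz : orderOf z = p) (hw : w ∈ Subgroup.zpowers z) (hw1 : w ≠ 1) :
    z ∈ Subgroup.zpowers w := by
  have hle : Subgroup.zpowers w ≤ Subgroup.zpowers z := Subgroup.zpowers_le.mpr hw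
  have hcz : Nat.card (Subgroup.zpowers z) = p := by rw [Nat.card_zpowers, hz]
  have hdvd : Nat.card (Subgroup.zpowers w) ∣ p := by
    rw [← hcz]
    exact Subgroup.card_dvd_of_le hle
  have hne : Nat.card (Subgroup.zpowers w) ≠ 1 := by
    rw [Nat.card_zpowers]
    intro h
    exact hw1 (orderOf_eq_one_iff.mp h)
  have hcw : Nat.card (Subgroup.zpowers w) = p := by
    rcases (Nat.dvd_prime hp).mp hdvd with h | h
    · exact absurd h hne
    · exact h
  have heq : Subgroup.zpowers w = Subgroup.zpowers z :=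
    Subgroup.eq_of_le_of_card_ge hle (by rw [hcz, hcw])
  rw [heq]
  exact Subgroup.mem_zpowers z

/-- Separation: if `b` lies in the kernel of every irreducible character that does not
contain a fixed nontrivial normal subgroup `N` in its kernel, then `b = 1`. -/
theorem cdp_sep {G : Type*} [Group G] [Finite G] (N : Subgroup G) [hN : N.Normal] (hN1 : N ≠ ⊥)
    (b : G)
    (h : ∀ χ : Cfsg.IrrCharacter G, (∃ n ∈ N, (χ : G → ℂ) n ≠ (χ : G → ℂ) 1) →
      (χ : G → ℂ) b = (χ : G → ℂ) 1) : b = 1 := by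
  classical
  haveI := Fintype.ofFinite G
  haveI : Fintype (Cfsg.IrrCharacter G) := Fintype.ofFinite _
  haveI : Fintype (Cfsg.IrrCharacter (G ⧸ N)) := Fintype.ofFinite _
  by_contra hb
  have h1 := irr_regular_indicator b
  rw [if_neg hb] at h1
  have h2 := irr_regular_indicator (1 : G)
  rw [if_pos rfl] at h2
  have h3 := irr_regular_indicator ((b : G ⧸ N))
  have h4 := irr_regular_indicator ((1 : G ⧸ N))
  rw [if_pos rfl] at h4
  set R : Finset (Cfsg.IrrCharacter G) := Finset.univ.image (qh_infl N) with hR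
  have himg : ∀ F : Cfsg.IrrCharacter G → ℂ,
      ∑ χ ∈ R, F χ = ∑ ψ : Cfsg.IrrCharacter (G ⧸ N), F (qh_infl N ψ) := by
    intro F
    rw [hR, Finset.sum_image]
    intro x _ y _ hxy
    exact qh_infl_injective N hxy
  have hsplit : ∀ F : Cfsg.IrrCharacter G → ℂ,
      ∑ χ : Cfsg.IrrCharacter G, F χ = ∑ χ ∈ R, F χ + ∑ χ ∈ Finset.univ \ R, F χ := by
    intro F
    rw [add_comm]
    exact (Finset.sum_sdiff (Finset.subset_univ R)).symm
  have hout : ∑ χ ∈ Finset.univ \ R, (χ : G → ℂ) b * (χ : G → ℂ) 1 =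
      ∑ χ ∈ Finset.univ \ R, (χ : G → ℂ) 1 * (χ : G → ℂ) 1 := by
    apply Finset.sum_congr rfl
    intro χ hχ
    rw [Finset.mem_sdiff] at hχ
    have hnr : ¬ ∃ ψ, qh_infl N ψ = χ := by
      intro hex
      apply hχ.2
      rw [hR, Finset.mem_image]
      obtain ⟨ψ, hψ⟩ := hex
      exact ⟨ψ, Finset.mem_univ _, hψ⟩
    rw [qh_mem_range_iff] at hnr
    have hex : ∃ n ∈ N, (χ : G → ℂ) n ≠ (χ : G → ℂ) 1 := by
      by_contra hc
      apply hnr
      intro n hn
      by_contra hne
      exact hc ⟨n, hn, hne⟩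
    rw [h χ hex]
  have e1 := hsplit (fun χ => (χ : G → ℂ) b * (χ : G → ℂ) 1)
  have e2 := hsplit (fun χ => (χ : G → ℂ) 1 * (χ : G → ℂ) 1)
  rw [himg] at e1 e2
  simp only [qh_infl_apply, QuotientGroup.mk_one] at e1 e2
  rw [h1, hout] at e1
  rw [h2] at e2
  rw [h4] at e2
  rw [h3] at e1
  have hcard : Nat.card G = Nat.card (G ⧸ N) * Nat.card N := by
    rw [← Subgroup.index_eq_card, Subgroup.index_mul_card]
  have hNcard : 2 ≤ Nat.card N := by
    have hpos : 0 < Nat.card N := Nat.card_pos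
    have hne1 : Nat.card N ≠ 1 := by
      intro h1
      exact hN1 (Subgroup.card_eq_one.mp h1)
    omega
  have hQpos : 0 < Nat.card (G ⧸ N) := Nat.card_pos
  by_cases hbN : ((b : G ⧸ N)) = 1
  · rw [if_pos hbN] at e1
    have : (Nat.card G : ℂ) = 0 := by
      rw [e2]
      exact e1.symm
    have h0 : Nat.card G = 0 := by exact_mod_cast this
    have : 0 < Nat.card G := Nat.card_pos
    omega
  · rw [if_neg hbN] at e1
    have : (Nat.card G : ℂ) = (Nat.card (G ⧸ N) : ℂ) := by
      rw [e2]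
      linear_combination -e1
    have h0 : Nat.card G = Nat.card (G ⧸ N) := by exact_mod_cast this
    rw [hcard] at h0
    nlinarith

end Cfsg.Agent.Lib.Helper26
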