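import Mathlib
import Cfsg.Prelude.Def_Characters
import Cfsg.Prelude.Def_Blocks
import Cfsg.Agent.Lib.Helper26.CdOneP1
import Cfsg.Agent.Lib.Helper25.CharLinear

set_option autoImplicit false
set_option linter.style.haveILetI false
set_option linter.unusedSectionVars false
set_option linter.unusedVariables false

namespace Cfsg.Agent.Lib.Helper26

open scoped ComplexConjugate commutatorElement
open Cfsg.Agent.Lib.Helper24 Cfsg.Agent.Lib.Helper25 Cfsg.Agent.Lib.Helper11 Cfsg.Agent.Lib.helper2
  Cfsg.Agent.Lib.helper7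

/-- Restriction dichotomy: an irreducible character of prime degree restricted to a normal
subgroup is either irreducible or trivial on all commutators of the subgroup. -/
theorem cdp_restrict {G : Type*} [Group G] [Finite G] {p : ℕ} (hp : p.Prime) (N : Subgroup G)
    [hN : N.Normal] (χ : Cfsg.IrrCharacter G) (hdeg : (χ : G → ℂ) 1 = (p : ℂ)) :
    Cfsg.IsIrrCharacter N (fun n : N => (χ : G → ℂ) n) ∨
      ∀ a ∈ N, ∀ b ∈ N, (χ : G → ℂ) ⁅a, b⁆ = (χ : G → ℂ) 1 := by
  classical
  haveI := Fintype.ofFinite G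
  haveI : Fintype N := Fintype.ofFinite N
  haveI : Fintype (Cfsg.IrrCharacter N) := Fintype.ofFinite _
  have hR := isCharacter_restrict (h7_irr_isCharacter χ.2) N
  obtain ⟨m, hm, hexp⟩ := isCharacter_expansion hR
  by_cases hex : ∃ μ : Cfsg.IrrCharacter N, m μ ≠ 0 ∧ (μ : N → ℂ) 1 ≠ 1
  · left
    obtain ⟨μ, hμ0, hμ1⟩ := hex
    have hcon : Cfsg.classInner (fun n : N => (χ : G → ℂ) n) (μ : N → ℂ) ≠ 0 := by
      rw [hm μ]
      exact_mod_cast hμ0
    obtain ⟨e, he, -, hcl⟩ := h7_clifford N (χ : G → ℂ) χ.2 (μ : N → ℂ) μ.2 hcon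
    obtain ⟨d, hd, hμd⟩ := irr_one_eq_finrank μ
    have h1 := congrFun hcl 1
    set S := Finset.univ.image (fun g : G => cj N (μ : N → ℂ) g) with hS
    simp only [Pi.smul_apply, Finset.sum_apply, smul_eq_mul] at h1
    have hψ1 : ∀ ψ ∈ S, ψ 1 = (d : ℂ) := by
      intro ψ hψ
      rw [hS, Finset.mem_image] at hψ
      obtain ⟨g, -, rfl⟩ := hψ
      rw [cj_apply]
      have h11 : (⟨g * ((1 : N) : G) * g⁻¹, hN.conj_mem (1 : N) (1 : N).2 g⟩ : N) = 1 := by
        apply Subtype.ext
        simp
      rw [h11, hμd]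
    rw [Finset.sum_congr rfl hψ1, Finset.sum_const, nsmul_eq_mul] at h1
    have hnat : p = e * (S.card * d) := by
      have h2 : ((p : ℕ) : ℂ) = ((e * (S.card * d) : ℕ) : ℂ) := by
        push_cast
        rw [← hdeg]
        exact h1
      exact_mod_cast h2
    have hd1 : d ≠ 1 := by
      intro h
      apply hμ1
      rw [hμd, h]
      simp
    have hdp : d = p := by
      have hdvd : d ∣ p := ⟨e * S.card, by rw [hnat]; ring⟩
      rcases (Nat.dvd_prime hp).mp hdvd with h | h
      · exact absurd h hd1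
      · exact h
    have heS : e * S.card = 1 := by
      have hp0 : 0 < p := hp.pos
      rw [hdp] at hnat
      have h3 : p * 1 = p * (e * S.card) := by
        rw [mul_one]
        calc p = e * (S.card * p) := hnat
          _ = p * (e * S.card) := by ring
      exact (Nat.eq_of_mul_eq_mul_left hp0 h3).symm
    have he1 : e = 1 := Nat.eq_one_of_mul_eq_one_right heS
    have hS1 : S.card = 1 := Nat.eq_one_of_mul_eq_one_left heS
    have hμS : (μ : N → ℂ) ∈ S := by
      rw [hS, Finset.mem_image]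
      exact ⟨1, Finset.mem_univ _, cj_one N _⟩
    obtain ⟨ψ0, hψ0⟩ := Finset.card_eq_one.mp hS1
    have hψμ : ψ0 = (μ : N → ℂ) := by
      rw [hψ0] at hμS
      exact (Finset.mem_singleton.mp hμS).symm
    have hfinal : (fun n : N => (χ : G → ℂ) n) = (μ : N → ℂ) := by
      rw [hcl, he1, hψ0, Finset.sum_singleton, hψμ]
      simp
    rw [hfinal]
    exact μ.2
  · right
    intro a ha b hb
    have hall : ∀ μ : Cfsg.IrrCharacter N, m μ ≠ 0 → (μ : N → ℂ) 1 = 1 := by
      intro μ h0
      by_contra h1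
      exact hex ⟨μ, h0, h1⟩
    set w : N := ⁅(⟨a, ha⟩ : N), ⟨b, hb⟩⁆ with hw
    have hwc : w ∈ commutator N := by
      rw [commutator_def]
      exact Subgroup.commutator_mem_commutator (Subgroup.mem_top _) (Subgroup.mem_top _)
    have hwval : (w : G) = ⁅a, b⁆ := by
      simp [hw, commutatorElement_def]
    have e1 := congrFun hexp w
    have e2 := congrFun hexp 1
    simp only [Finset.sum_apply, Pi.smul_apply, smul_eq_mul] at e1 e2
    have hterm : ∀ μ : Cfsg.IrrCharacter N,
        (m μ : ℂ) * (μ : N → ℂ) w = (m μ : ℂ) * (μ : N → ℂ) 1 := by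
      intro μ
      by_cases h0 : m μ = 0
      · rw [h0]
        simp
      · rw [irr_linear_commutator μ (hall μ h0) hwc, hall μ h0]
    rw [Finset.sum_congr rfl (fun μ _ => hterm μ), ← e2] at e1
    rw [hwval] at e1
    simpa using e1

end Cfsg.Agent.Lib.Helper26
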