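import Mathlib
import Cfsg.Prelude.Def_Characters
import Cfsg.Prelude.Def_Blocks
import Cfsg.Agent.Lib.Helper26.CdOneP2
import Cfsg.Agent.Lib.Helper25.CharAbelian

set_option autoImplicit false
set_option linter.style.haveILetI false
set_option linter.unusedSectionVars false
set_option linter.unusedVariables false

namespace Cfsg.Agent.Lib.Helper26

open scoped ComplexConjugate commutatorElement
open Cfsg.Agent.Lib.Helper24 Cfsg.Agent.Lib.Helper25 Cfsg.Agent.Lib.Helper11 Cfsg.Agent.Lib.helper2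
  Cfsg.Agent.Lib.helper7

/-- The commutator map `g ↦ ⁅y, g⁆` as a homomorphism into a central subgroup. -/
def cdp_commHom {P : Type*} [Group P] (K : Subgroup P) (hK : K ≤ Subgroup.center P) (y : P)
    (hy : ∀ g : P, ⁅y, g⁆ ∈ K) : P →* K where
  toFun g := ⟨⁅y, g⁆, hy g⟩
  map_one' := by
    apply Subtype.ext
    simp
  map_mul' := by
    intro g h
    apply Subtype.ext
    show ⁅y, g * h⁆ = ⁅y, g⁆ * ⁅y, h⁆
    have hc := Subgroup.mem_center_iff.mp (hK (hy h))
    have hc' := hc g⁻¹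
    simp only [commutatorElement_def] at *
    calc y * (g * h) * y⁻¹ * (g * h)⁻¹
        = y * g * y⁻¹ * ((y * h * y⁻¹ * h⁻¹) * g⁻¹) := by group
      _ = y * g * y⁻¹ * (g⁻¹ * (y * h * y⁻¹ * h⁻¹)) := by rw [hc']
      _ = y * g * y⁻¹ * g⁻¹ * (y * h * y⁻¹ * h⁻¹) := by group

theorem cdp_commHom_ker {P : Type*} [Group P] (K : Subgroup P) (hK : K ≤ Subgroup.center P) (y : P)
    (hy : ∀ g : P, ⁅y, g⁆ ∈ K) :
    (cdp_commHom K hK y hy).ker = Subgroup.centralizer ({y} : Set P) := by
  ext g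
  rw [MonoidHom.mem_ker, Subgroup.mem_centralizer_iff]
  constructor
  · intro h x hx
    rw [Set.mem_singleton_iff] at hx
    subst hx
    have h1 : ⁅x, g⁆ = 1 := congrArg Subtype.val h
    exact commutatorElement_eq_one_iff_mul_comm.mp h1
  · intro h
    apply Subtype.ext
    show ⁅y, g⁆ = 1
    exact commutatorElement_eq_one_iff_mul_comm.mpr (h y rfl)

/-- Vanishing principle. -/
theorem cdp_vanish {P : Type*} [Group P] [Finite P] {p : ℕ} (hp : p.Prime)
    (χ : Cfsg.IrrCharacter P) (z : P) (hz : z ∈ Subgroup.center P) (hzo : orderOf z = p)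
    (hχz : (χ : P → ℂ) z ≠ (χ : P → ℂ) 1) (x y : P) (hw : ⁅y, x⁆ ∈ Subgroup.zpowers z)
    (hw1 : ⁅y, x⁆ ≠ 1) : (χ : P → ℂ) x = 0 := by
  have hwc : ⁅y, x⁆ ∈ Subgroup.center P := (Subgroup.zpowers_le.mpr hz) hw
  have hzw : z ∈ Subgroup.zpowers ⁅y, x⁆ := cdp_prime_zpowers hp z _ hzo hw hw1
  have hne : z ∉ h7_shiftKer (χ : P → ℂ) := by
    intro h
    have := h 1
    rw [mul_one] at this
    exact hχz this
  refine h7_vanish_of_central_shift χ.2 ⁅y, x⁆ hwc z hzw hne x y ?_
  rw [commutatorElement_def]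
  group

theorem cdp_sum_restrict {P : Type*} [Group P] [Fintype P] (M : Subgroup P) [Fintype M]
    (f : P → ℂ) (hf : ∀ g, g ∉ M → f g = 0) : ∑ m : M, f m = ∑ g : P, f g := by
  classical
  have h1 : ∑ x ∈ Finset.univ.filter (fun g => g ∈ M), f x = ∑ x : {x // x ∈ M}, f x :=
    Finset.sum_subtype (Finset.univ.filter (fun g => g ∈ M)) (by simp) f
  have h2 : ∑ x ∈ Finset.univ.filter (fun g => g ∈ M), f x = ∑ x, f x := by
    apply Finset.sum_subset (Finset.filter_subset _ _)
    intro x _ hx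
    apply hf
    simpa using hx
  rw [← h2, h1]

theorem cdp_irr_sum_sq {P : Type*} [Group P] [Fintype P] (χ : Cfsg.IrrCharacter P) :
    ∑ g : P, (χ : P → ℂ) g * conj ((χ : P → ℂ) g) = (Nat.card P : ℂ) := by
  have h := h7_irr_norm χ.2
  unfold Cfsg.classInner at h
  have hne : (Nat.card P : ℂ) ≠ 0 := by exact_mod_cast Nat.card_pos.ne'
  field_simp at h
  exact h

theorem cdp_normal_of_le_center {P : Type*} [Group P] (K : Subgroup P)
    (hK : K ≤ Subgroup.center P) : K.Normal := by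
  constructor
  intro n hn g
  have := Subgroup.mem_center_iff.mp (hK hn) g
  rw [this, mul_inv_cancel_right]
  exact hn

/-- Degree of a character nontrivial on a central commutator element of order `p`. -/
theorem cdp_deg_eq {P : Type*} [Group P] [Finite P] {p : ℕ}
    (hcd : ∀ χ : Cfsg.IrrCharacter P, Cfsg.charDegree (χ : P → ℂ) = 1 ∨
      Cfsg.charDegree (χ : P → ℂ) = p)
    (z : P) (hzc : z ∈ commutator P) (χ : Cfsg.IrrCharacter P)
    (hχz : (χ : P → ℂ) z ≠ (χ : P → ℂ) 1) : (χ : P → ℂ) 1 = (p : ℂ) := by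
  rcases hcd χ with h | h
  · exfalso
    have h1 : (χ : P → ℂ) 1 = 1 := by
      rw [← (charDegree_irr χ).1, h]
      simp
    apply hχz
    rw [irr_linear_commutator χ h1 hzc, h1]
  · rw [← (charDegree_irr χ).1, h]

/-- If `χ z ≠ χ 1` fails then the whole cyclic group of `z` is in the kernel. -/
theorem cdp_ne_of_exists {P : Type*} [Group P] [Finite P] (χ : Cfsg.IrrCharacter P) (z : P)
    (h : ∃ n ∈ Subgroup.zpowers z, (χ : P → ℂ) n ≠ (χ : P → ℂ) 1) :
    (χ : P → ℂ) z ≠ (χ : P → ℂ) 1 := by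
  intro hz
  obtain ⟨n, hn, hne⟩ := h
  apply hne
  have hzk : z ∈ irrKer χ := (mem_irrKer χ z).mpr hz
  have : n ∈ irrKer χ := (Subgroup.zpowers_le.mpr hzk) hn
  exact (mem_irrKer χ n).mp this

theorem cdp_key {P : Type*} [Group P] [Finite P] {p : ℕ} (hp : p.Prime)
    (hcd : ∀ χ : Cfsg.IrrCharacter P, Cfsg.charDegree (χ : P → ℂ) = 1 ∨
      Cfsg.charDegree (χ : P → ℂ) = p)
    (z : P) (hz : z ∈ Subgroup.center P) (hzo : orderOf z = p) (hzc : z ∈ commutator P)
    (y : P) (hy : y ∉ Subgroup.center P) (hyK : ∀ g : P, ⁅y, g⁆ ∈ Subgroup.zpowers z) :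
    (∀ a ∈ Subgroup.centralizer ({y} : Set P), ∀ b ∈ Subgroup.centralizer ({y} : Set P),
      a * b = b * a) ∧ (Subgroup.centralizer ({y} : Set P)).index = p := by
  classical
  haveI := Fintype.ofFinite P
  set K := Subgroup.zpowers z with hKdef
  have hK : K ≤ Subgroup.center P := Subgroup.zpowers_le.mpr hz
  haveI hKn : K.Normal := cdp_normal_of_le_center K hK
  have hKcard : Nat.card K = p := by rw [hKdef, Nat.card_zpowers, hzo]
  have hz1 : z ≠ 1 := by
    intro h
    rw [h, orderOf_one] at hzo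
    exact hp.one_lt.ne hzo
  have hKbot : K ≠ ⊥ := by
    intro h
    have : z ∈ K := Subgroup.mem_zpowers z
    rw [h, Subgroup.mem_bot] at this
    exact hz1 this
  set φ := cdp_commHom K hK y hyK with hφ
  have hker : φ.ker = Subgroup.centralizer ({y} : Set P) := cdp_commHom_ker K hK y hyK
  set M := Subgroup.centralizer ({y} : Set P) with hM
  haveI hMn : M.Normal := by
    rw [← hker]
    exact MonoidHom.normal_ker φ
  have hidx : M.index = p := by
    rw [← hker, Subgroup.index_ker]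
    have hdvd : Nat.card φ.range ∣ p := by
      rw [← hKcard]
      exact Subgroup.card_subgroup_dvd_card φ.range
    rcases (Nat.dvd_prime hp).mp hdvd with h | h
    · exfalso
      apply hy
      rw [Subgroup.mem_center_iff]
      intro g
      have hr : φ.range = ⊥ := Subgroup.card_eq_one.mp h
      have hg : φ g ∈ φ.range := ⟨g, rfl⟩
      rw [hr, Subgroup.mem_bot] at hg
      have h1 : ⁅y, g⁆ = 1 := congrArg Subtype.val hg
      exact (commutatorElement_eq_one_iff_mul_comm.mp h1).symm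
    · exact h
  refine ⟨?_, hidx⟩
  intro a ha b hb
  apply commutatorElement_eq_one_iff_mul_comm.mp
  apply cdp_sep K hKbot
  intro χ hex
  have hχz := cdp_ne_of_exists χ z hex
  have hdeg := cdp_deg_eq hcd z hzc χ hχz
  have hvan : ∀ g, g ∉ M → (χ : P → ℂ) g * conj ((χ : P → ℂ) g) = 0 := by
    intro g hg
    have hne : ⁅y, g⁆ ≠ 1 := by
      intro h1
      apply hg
      rw [← hker, MonoidHom.mem_ker]
      apply Subtype.ext
      exact h1
    rw [cdp_vanish hp χ z hz hzo hχz g y (hyK g) hne, zero_mul]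
  rcases cdp_restrict hp M χ hdeg with hirr | hcomm
  · exfalso
    haveI : Fintype M := Fintype.ofFinite M
    have h1 := cdp_irr_sum_sq (⟨_, hirr⟩ : Cfsg.IrrCharacter M)
    have h2 := cdp_sum_restrict M (fun g => (χ : P → ℂ) g * conj ((χ : P → ℂ) g)) hvan
    have h3 := cdp_irr_sum_sq χ
    simp only at h1
    rw [h2, h3] at h1
    have h4 : Nat.card P = Nat.card M := by exact_mod_cast h1
    have h5 := Subgroup.index_mul_card M
    rw [hidx, ← h4] at h5
    have hpos : 0 < Nat.card P := Nat.card_pos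
    have : p = 1 := by nlinarith
    exact hp.one_lt.ne' this
  · exact hcomm a ha b hb

end Cfsg.Agent.Lib.Helper26
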