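import Mathlib
import Cfsg.Prelude.Def_Characters
import Cfsg.Agent.Lib.Helper25.CharBasic
import Cfsg.Agent.Lib.Helper25.CharOrth
import Cfsg.Agent.Lib.Helper25.CharAbelian
import Cfsg.Agent.Lib.Helper11.Coherence
import Cfsg.Agent.Lib.helper2.CharNat

/-!
Averaging a class function over a normal subgroup: the operator `f ↦ f * e_K`.
-/

set_option autoImplicit false
set_option linter.style.haveILetI false
set_option linter.unusedSectionVars false
set_option linter.unusedVariables false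

namespace Cfsg.Agent.Lib.Helper26

open scoped ComplexConjugate
open Cfsg.Agent.Lib.Helper25 Cfsg.Agent.Lib.Helper11 Cfsg.Agent.Lib.helper2

variable {M : Type*} [Group M]

/-- average of `f` over the right translates by `K` -/
noncomputable def ftbAvg (K : Subgroup M) [Fintype K] (f : M → ℂ) : M → ℂ :=
  fun g => (Nat.card K : ℂ)⁻¹ * ∑ k : K, f (g * k)

theorem ftbAvg_apply (K : Subgroup M) [Fintype K] (f : M → ℂ) (g : M) :
    ftbAvg K f g = (Nat.card K : ℂ)⁻¹ * ∑ k : K, f (g * k) := rfl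

theorem ftb_card_ne (K : Subgroup M) [Fintype K] : (Nat.card K : ℂ) ≠ 0 := by
  exact_mod_cast Nat.card_pos.ne'

theorem ftb_avg_idem (K : Subgroup M) [Fintype K] (f : M → ℂ) :
    ftbAvg K (ftbAvg K f) = ftbAvg K f := by
  funext g
  simp only [ftbAvg_apply]
  have h1 : ∀ k : K, ∑ k' : K, f (g * k * k') = ∑ k' : K, f (g * k') := by
    intro k
    refine Fintype.sum_equiv (Equiv.mulLeft k) _ _ (fun k' => ?_)
    simp [mul_assoc]
  simp_rw [h1]
  rw [Finset.sum_const, Finset.card_univ, nsmul_eq_mul, ← Nat.card_eq_fintype_card]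
  have := ftb_card_ne K
  field_simp

theorem ftb_avg_selfadj [Fintype M] (K : Subgroup M) [Fintype K] (f h : M → ℂ) :
    Cfsg.classInner (ftbAvg K f) h = Cfsg.classInner f (ftbAvg K h) := by
  unfold Cfsg.classInner
  congr 1
  have hL : ∀ g : M, ftbAvg K f g * conj (h g) =
      ∑ k : K, (Nat.card K : ℂ)⁻¹ * (f (g * k) * conj (h g)) := by
    intro g
    rw [ftbAvg_apply, Finset.mul_sum, Finset.sum_mul]
    refine Finset.sum_congr rfl fun k _ => ?_
    ring
  have hR : ∀ g : M, f g * conj (ftbAvg K h g) =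
      ∑ k : K, (Nat.card K : ℂ)⁻¹ * (f g * conj (h (g * k))) := by
    intro g
    rw [ftbAvg_apply, map_mul, map_sum, map_inv₀, Complex.conj_natCast, Finset.mul_sum,
      Finset.mul_sum]
    refine Finset.sum_congr rfl fun k _ => ?_
    ring
  simp_rw [hL, hR]
  rw [Finset.sum_comm]
  conv_rhs => rw [Finset.sum_comm]
  rw [← Equiv.sum_comp (Equiv.inv K)
    (fun k => ∑ g : M, (Nat.card K : ℂ)⁻¹ * (f g * conj (h (g * k))))]
  refine Finset.sum_congr rfl fun k _ => ?_
  refine Fintype.sum_equiv (Equiv.mulRight (k : M)) _ _ (fun g => ?_)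
  simp only [Equiv.coe_mulRight, Equiv.inv_apply, InvMemClass.coe_inv, mul_inv_cancel_right]

theorem ftb_avg_class (K : Subgroup M) [hK : K.Normal] [Fintype K] (f : M → ℂ)
    (hf : ∀ g x : M, f (x * g * x⁻¹) = f g) (g x : M) :
    ftbAvg K f (x * g * x⁻¹) = ftbAvg K f g := by
  simp only [ftbAvg_apply]
  congr 1
  refine Fintype.sum_equiv (MulAut.conjNormal x⁻¹ : K ≃* K).toEquiv _ _ (fun k => ?_)
  have : x * g * x⁻¹ * (k : M) = x * (g * (x⁻¹ * k * x⁻¹⁻¹)) * x⁻¹ := by group
  rw [this, hf]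
  rfl

theorem ftb_avg_sub (K : Subgroup M) [Fintype K] (f h : M → ℂ) :
    ftbAvg K (f - h) = ftbAvg K f - ftbAvg K h := by
  funext g
  simp only [ftbAvg_apply, Pi.sub_apply, Finset.sum_sub_distrib, mul_sub]

/-- on an irreducible character the averaging operator is `0` or the identity -/
theorem ftb_avg_irr [Fintype M] (K : Subgroup M) [hK : K.Normal] [Fintype K]
    (μ : Cfsg.IrrCharacter M) :
    ftbAvg K (μ : M → ℂ) = (μ : M → ℂ) ∨ ftbAvg K (μ : M → ℂ) = 0 := by
  classical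
  obtain ⟨d, ρ, hρ, hμ⟩ := μ.2
  haveI := hρ
  obtain ⟨E, hE⟩ : ∃ E : (Fin d → ℂ) →ₗ[ℂ] (Fin d → ℂ), E = ∑ k : K, ρ (k : M) := ⟨_, rfl⟩
  have hcomm : ∀ g : M, E ∘ₗ ρ g = ρ g ∘ₗ E := by
    intro g
    rw [← Module.End.mul_eq_comp, ← Module.End.mul_eq_comp, hE, Finset.sum_mul, Finset.mul_sum]
    refine Fintype.sum_equiv (MulAut.conjNormal g⁻¹ : K ≃* K).toEquiv _ _ (fun k => ?_)
    rw [← map_mul, ← map_mul]
    congr 1
    show (k : M) * g = g * (g⁻¹ * k * g⁻¹⁻¹)
    group
  obtain ⟨c, hc⟩ := commuting_end_scalar ρ E hcomm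
  have hEE : E * E = (Nat.card K : ℂ) • E := by
    have h1 : ∀ k : K, ρ (k : M) * E = E := by
      intro k
      rw [hE, Finset.mul_sum]
      refine Fintype.sum_equiv (Equiv.mulLeft k) _ _ (fun k' => ?_)
      rw [← map_mul]
      rfl
    conv_lhs => rw [hE, Finset.sum_mul, ← hE]
    simp_rw [h1]
    rw [Finset.sum_const, Finset.card_univ, ← Nat.card_eq_fintype_card,
      ← Nat.cast_smul_eq_nsmul ℂ]
  have hid : (LinearMap.id : (Fin d → ℂ) →ₗ[ℂ] (Fin d → ℂ)) ≠ 0 := by
    intro h0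
    have h1 := congrArg (LinearMap.trace ℂ (Fin d → ℂ)) h0
    rw [LinearMap.trace_id, map_zero] at h1
    exact finrank_ne_zero_of_irr ρ (by exact_mod_cast h1)
  have hcc : c * c = (Nat.card K : ℂ) * c := by
    rw [hc] at hEE
    have h2 : (c • (LinearMap.id : (Fin d → ℂ) →ₗ[ℂ] (Fin d → ℂ))) * (c • LinearMap.id) =
        (c * c) • LinearMap.id := by
      rw [smul_mul_smul_comm, Module.End.mul_eq_comp, LinearMap.id_comp]
    rw [h2, smul_smul] at hEE
    have h3 := congrArg (LinearMap.trace ℂ (Fin d → ℂ)) hEE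
    rw [map_smul, map_smul, LinearMap.trace_id, smul_eq_mul, smul_eq_mul] at h3
    have h4 : ((Module.finrank ℂ (Fin d → ℂ) : ℕ) : ℂ) ≠ 0 := by
      exact_mod_cast finrank_ne_zero_of_irr ρ
    exact mul_right_cancel₀ h4 h3
  have hval : ∀ g : M, ftbAvg K (μ : M → ℂ) g = (Nat.card K : ℂ)⁻¹ * c * (μ : M → ℂ) g := by
    intro g
    rw [ftbAvg_apply, mul_assoc]
    congr 1
    have h4 : ∑ k : K, (μ : M → ℂ) (g * k) = LinearMap.trace ℂ _ (ρ g * E) := by
      rw [hE, Finset.mul_sum, map_sum]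
      refine Finset.sum_congr rfl fun k _ => ?_
      rw [← map_mul, ← hμ]
      rfl
    rw [h4, hc, mul_smul_comm, map_smul, smul_eq_mul, Module.End.mul_eq_comp, LinearMap.comp_id,
      ← hμ]
    rfl
  have hK0 := ftb_card_ne K
  by_cases h0 : c = 0
  · right
    funext g
    rw [hval, h0, mul_zero, zero_mul]
    rfl
  · left
    have hcK : c = (Nat.card K : ℂ) := mul_right_cancel₀ h0 hcc
    funext g
    rw [hval, hcK, inv_mul_cancel₀ hK0, one_mul]

/-- if `g` commutes with no nonidentity element of `K`, the average of a class function at `g`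
is its value at `g` -/
theorem ftb_avg_eq_of_free (K : Subgroup M) [hK : K.Normal] [Fintype K] (f : M → ℂ)
    (hf : ∀ g x : M, f (x * g * x⁻¹) = f g) (g : M)
    (hg : ∀ k : K, (k : M) * g = g * k → k = 1) : ftbAvg K f g = f g := by
  classical
  have hconj : ∀ k : K, f (g * k) = f g := by
    let c : K → K := fun k' => ⟨g⁻¹ * (k' : M)⁻¹ * g * k',
      K.mul_mem (by
        have := hK.conj_mem _ (K.inv_mem k'.2) g⁻¹
        simpa using this) k'.2⟩
    have hinj : Function.Injective c := by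
      intro k₁ k₂ h12
      have h1 : g⁻¹ * (k₁ : M)⁻¹ * g * k₁ = g⁻¹ * (k₂ : M)⁻¹ * g * k₂ := congrArg Subtype.val h12
      have h2 : ((k₂ * k₁⁻¹ : K) : M) * g = g * ((k₂ * k₁⁻¹ : K) : M) := by
        have h3 : (k₁ : M)⁻¹ * g * k₁ = (k₂ : M)⁻¹ * g * k₂ := by
          have := congrArg (fun y => g * y) h1
          simpa [mul_assoc] using this
        have h4 : g = (k₁ : M) * ((k₂ : M)⁻¹ * g * k₂) * (k₁ : M)⁻¹ := by
          rw [← h3]; group
        push_cast
        calc (k₂ : M) * (k₁ : M)⁻¹ * g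
            = (k₂ : M) * (k₁ : M)⁻¹ * ((k₁ : M) * ((k₂ : M)⁻¹ * g * k₂) * (k₁ : M)⁻¹) := by
              rw [← h4]
          _ = g * ((k₂ : M) * (k₁ : M)⁻¹) := by group
      have h5 := hg _ h2
      have : k₂ = k₁ := by
        have := mul_inv_eq_one.mp h5
        exact this
      exact this.symm
    have hsurj : Function.Surjective c := Finite.injective_iff_surjective.mp hinj
    intro k
    obtain ⟨k', hk'⟩ := hsurj k
    have h6 : g * (k : M) = (k' : M)⁻¹ * g * ((k' : M)⁻¹)⁻¹ := by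
      rw [← hk']
      show g * (g⁻¹ * (k' : M)⁻¹ * g * k') = _
      group
    rw [h6, hf]
  rw [ftbAvg_apply]
  simp_rw [hconj]
  rw [Finset.sum_const, Finset.card_univ, nsmul_eq_mul, ← Nat.card_eq_fintype_card]
  have := ftb_card_ne K
  field_simp

end Cfsg.Agent.Lib.Helper26
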