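import Mathlib
import Cfsg.Prelude.Def_Characters
import Cfsg.Agent.Lib.Helper26.FTBound1
import Cfsg.Agent.Lib.Helper11.CyclicTI
import Cfsg.Agent.Lib.helper2.BergerLib

/-!
Norm decomposition of a character under averaging over a normal subgroup.
-/

set_option autoImplicit false
set_option linter.style.haveILetI false
set_option linter.unusedSectionVars false
set_option linter.unusedVariables false

namespace Cfsg.Agent.Lib.Helper26

open scoped ComplexConjugate
open Cfsg.Agent.Lib.Helper25 Cfsg.Agent.Lib.helper2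

variable {M : Type*} [Group M]

theorem ftb_norm_split [Fintype M] (K : Subgroup M) [Fintype K] (θ : M → ℂ) :
    Cfsg.classInner θ θ = Cfsg.classInner (ftbAvg K θ) (ftbAvg K θ) +
      Cfsg.classInner (θ - ftbAvg K θ) (θ - ftbAvg K θ) := by
  have h1 : Cfsg.classInner (ftbAvg K θ) (ftbAvg K θ) = Cfsg.classInner θ (ftbAvg K θ) := by
    rw [ftb_avg_selfadj, ftb_avg_idem]
  have h2 : Cfsg.classInner (θ - ftbAvg K θ) (ftbAvg K θ) = 0 := by
    rw [classInner_sub_left, h1, sub_self]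
  have h3 : Cfsg.classInner (ftbAvg K θ) (θ - ftbAvg K θ) = 0 := by
    rw [Cfsg.Agent.Lib.Helper11.classInner_conj_symm, h2, map_zero]
  have h4 : θ = ftbAvg K θ + (θ - ftbAvg K θ) := by
    funext g
    simp
  conv_lhs => rw [h4]
  rw [classInner_add_add, h2, h3]
  ring

theorem ftb_xi_norm [Fintype M] (K : Subgroup M) [hK : K.Normal] [Fintype K] (θ : M → ℂ)
    (hθ : Cfsg.IsCharacter M θ) (hne : θ ≠ ftbAvg K θ) :
    ∃ a : ℕ, 0 < a ∧ Cfsg.classInner (θ - ftbAvg K θ) (θ - ftbAvg K θ) = (a : ℂ) := by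
  classical
  haveI : Fintype (Cfsg.IrrCharacter M) := Fintype.ofFinite _
  have hcl : ∀ g x : M, θ (x * g * x⁻¹) = θ g := fun g x => isCharacter_isClassFunction hθ g x
  have hclξ : ∀ g x : M, (θ - ftbAvg K θ) (x * g * x⁻¹) = (θ - ftbAvg K θ) g := by
    intro g x
    rw [Pi.sub_apply, Pi.sub_apply, hcl, ftb_avg_class K θ hcl]
  have hpar := classInner_parseval (θ - ftbAvg K θ) hclξ
  have hb : ∀ μ : Cfsg.IrrCharacter M, ∃ b : ℕ,
      Cfsg.classInner (θ - ftbAvg K θ) (μ : M → ℂ) = (b : ℂ) := by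
    intro μ
    obtain ⟨m, hm⟩ := classInner_character_nat hθ (isCharacter_of_irr μ)
    rw [classInner_sub_left, ftb_avg_selfadj]
    rcases ftb_avg_irr K μ with h | h
    · refine ⟨0, ?_⟩
      rw [h, sub_self, Nat.cast_zero]
    · refine ⟨m, ?_⟩
      rw [h, hm]
      have : Cfsg.classInner θ (0 : M → ℂ) = 0 := by
        simp [Cfsg.classInner]
      rw [this, sub_zero]
  choose b hb using hb
  simp_rw [hb, Complex.conj_natCast] at hpar
  refine ⟨∑ μ : Cfsg.IrrCharacter M, b μ * b μ, ?_, ?_⟩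
  · rw [Nat.pos_iff_ne_zero]
    intro h0
    apply hne
    have h5 : Cfsg.classInner (θ - ftbAvg K θ) (θ - ftbAvg K θ) = 0 := by
      rw [hpar]
      have : ((∑ μ : Cfsg.IrrCharacter M, b μ * b μ : ℕ) : ℂ) = 0 := by rw [h0, Nat.cast_zero]
      push_cast at this
      exact this
    have h6 := Cfsg.Agent.Lib.Helper11.eq_zero_of_classInner_self _ h5
    exact sub_eq_zero.mp h6
  · rw [hpar]
    push_cast
    rfl

/-- the real form of the norm decomposition -/
theorem ftb_real_split [Fintype M] (K : Subgroup M) [hK : K.Normal] [Fintype K] (θ : M → ℂ)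
    (hθ : Cfsg.IsCharacter M θ) (hne : θ ≠ ftbAvg K θ) :
    ∑ g : M, Complex.normSq (ftbAvg K θ g) + (Nat.card M : ℝ) ≤ ∑ g : M, Complex.normSq (θ g) := by
  obtain ⟨a, ha, hxi⟩ := ftb_xi_norm K θ hθ hne
  have hs := ftb_norm_split K θ
  rw [hxi, Cfsg.Agent.Lib.Helper11.classInner_self_eq, Cfsg.Agent.Lib.Helper11.classInner_self_eq]
    at hs
  have hs' : (Nat.card M : ℝ)⁻¹ * ∑ g : M, Complex.normSq (θ g) =
      (Nat.card M : ℝ)⁻¹ * ∑ g : M, Complex.normSq (ftbAvg K θ g) + (a : ℝ) := by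
    exact_mod_cast hs
  have hM : (0 : ℝ) < (Nat.card M : ℝ) := by exact_mod_cast Nat.card_pos
  have h1 : ∑ g : M, Complex.normSq (θ g) =
      ∑ g : M, Complex.normSq (ftbAvg K θ g) + (Nat.card M : ℝ) * (a : ℝ) := by
    have := congrArg (fun t => (Nat.card M : ℝ) * t) hs'
    simp only [mul_add] at this
    rw [← mul_assoc, ← mul_assoc, mul_inv_cancel₀ hM.ne', one_mul, one_mul] at this
    exact this
  rw [h1]
  have ha' : (1 : ℝ) ≤ (a : ℝ) := by exact_mod_cast ha
  nlinarith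

end Cfsg.Agent.Lib.Helper26
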