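import Mathlib
import Cfsg.Prelude.Def_Characters
import Cfsg.Agent.Lib.Helper26.FTBound2
import Cfsg.Agent.Lib.Helper26.CdOneP3
import Cfsg.Agent.Lib.helper2.CenterIndex

/-!
The trivial-intersection counting of Feit and Thompson for an abelian subgroup `H` whose
conjugates are separated by centralizers of noncentral elements.
-/

set_option autoImplicit false
set_option linter.style.haveILetI false
set_option linter.unusedSectionVars false
set_option linter.unusedVariables false

namespace Cfsg.Agent.Lib.Helper26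

open scoped ComplexConjugate
open Cfsg.Agent.Lib.Helper25 Cfsg.Agent.Lib.helper2

variable {G : Type*} [Group G]

/-- the centralizer of `g` meets the conjugate `a H a⁻¹` nontrivially -/
def ftbMeets (H : Subgroup G) (g a : G) : Prop :=
  ∃ h ∈ H, h ≠ 1 ∧ g * (a * h * a⁻¹) = (a * h * a⁻¹) * g

theorem ftb_meets_iff (H : Subgroup G) (g a : G) :
    Subgroup.centralizer ({g} : Set G) ⊓ H.map (MulAut.conj a).toMonoidHom ≠ ⊥ ↔
      ftbMeets H g a := by
  rw [Subgroup.ne_bot_iff_exists_ne_one]
  constructor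
  · rintro ⟨⟨x, hx⟩, hx1⟩
    obtain ⟨hxc, hxm⟩ := Subgroup.mem_inf.mp hx
    obtain ⟨h, hh, rfl⟩ := Subgroup.mem_map.mp hxm
    refine ⟨h, hh, ?_, ?_⟩
    · rintro rfl
      apply hx1
      apply Subtype.ext
      simp
    · have := Subgroup.mem_centralizer_iff.mp hxc g rfl
      simpa using this
  · rintro ⟨h, hh, h1, hc⟩
    refine ⟨⟨a * h * a⁻¹, Subgroup.mem_inf.mpr ⟨?_, ?_⟩⟩, ?_⟩
    · rw [Subgroup.mem_centralizer_iff]
      intro y hy
      rw [Set.mem_singleton_iff.mp hy]
      exact hc
    · exact Subgroup.mem_map.mpr ⟨h, hh, by simp⟩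
    · intro h0
      apply h1
      have h2 : a * h * a⁻¹ = 1 := congrArg Subtype.val h0
      have h3 := congrArg (fun y => a⁻¹ * y * a) h2
      simpa [mul_assoc] using h3

/-- the friendly form of the separation hypothesis -/
theorem ftb_sep (H : Subgroup G)
    (hone : ∀ g : G, g ∉ Subgroup.center G → ∀ a b : G,
      Subgroup.centralizer ({g} : Set G) ⊓ H.map (MulAut.conj a).toMonoidHom ≠ ⊥ →
      Subgroup.centralizer ({g} : Set G) ⊓ H.map (MulAut.conj b).toMonoidHom ≠ ⊥ →
      H.map (MulAut.conj a).toMonoidHom = H.map (MulAut.conj b).toMonoidHom)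
    (g : G) (hg : g ∉ Subgroup.center G) (a b : G) (ha : ftbMeets H g a) (hb : ftbMeets H g b) :
    a⁻¹ * b ∈ Subgroup.normalizer (H : Set G) := by
  have h1 := hone g hg a b ((ftb_meets_iff H g a).mpr ha) ((ftb_meets_iff H g b).mpr hb)
  rw [Subgroup.mem_normalizer_iff]
  intro h
  constructor
  · intro hh
    have h2 : b * h * b⁻¹ ∈ H.map (MulAut.conj a).toMonoidHom := by
      rw [h1]
      exact Subgroup.mem_map.mpr ⟨h, hh, by simp⟩
    obtain ⟨h', hh', he⟩ := Subgroup.mem_map.mp h2
    have h3 : a * h' * a⁻¹ = b * h * b⁻¹ := by simpa using he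
    have h4 : a⁻¹ * b * h * (a⁻¹ * b)⁻¹ = h' := by
      have := congrArg (fun y => a⁻¹ * y * a) h3
      simp only [mul_assoc, inv_mul_cancel_left, inv_mul_cancel, mul_one] at this
      rw [mul_inv_rev, inv_inv]
      simp only [mul_assoc]
      exact this.symm
    rw [h4]
    exact hh'
  · intro hh
    have h2 : a * (a⁻¹ * b * h * (a⁻¹ * b)⁻¹) * a⁻¹ ∈ H.map (MulAut.conj b).toMonoidHom := by
      rw [← h1]
      exact Subgroup.mem_map.mpr ⟨_, hh, by simp⟩
    obtain ⟨h', hh', he⟩ := Subgroup.mem_map.mp h2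
    have h3 : b * h' * b⁻¹ = a * (a⁻¹ * b * h * (a⁻¹ * b)⁻¹) * a⁻¹ := by simpa using he
    have h4 : h = h' := by
      have := congrArg (fun y => b⁻¹ * y * b) h3
      simp only [mul_assoc, inv_mul_cancel_left, inv_mul_cancel, mul_one, mul_inv_rev, inv_inv,
        mul_inv_cancel_left] at this
      exact this.symm
    rw [h4]
    exact hh'

/-- an element centralizing a nonidentity element of `H` normalizes `H` -/
theorem ftb_meets_normalizer (H : Subgroup G)
    (hone : ∀ g : G, g ∉ Subgroup.center G → ∀ a b : G,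
      Subgroup.centralizer ({g} : Set G) ⊓ H.map (MulAut.conj a).toMonoidHom ≠ ⊥ →
      Subgroup.centralizer ({g} : Set G) ⊓ H.map (MulAut.conj b).toMonoidHom ≠ ⊥ →
      H.map (MulAut.conj a).toMonoidHom = H.map (MulAut.conj b).toMonoidHom)
    (g : G) (hg : g ∉ Subgroup.center G) (hm : ftbMeets H g 1) :
    g ∈ Subgroup.normalizer (H : Set G) := by
  have h2 : ftbMeets H g g := by
    obtain ⟨h, hh, h1, hc⟩ := hm
    refine ⟨h, hh, h1, ?_⟩
    have hc' : g * h = h * g := by simpa using hc
    calc g * (g * h * g⁻¹) = g * (h * g * g⁻¹) := by rw [hc']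
      _ = g * h := by group
      _ = g * h * g⁻¹ * g := by group
  have := ftb_sep H hone g hg 1 g hm h2
  simpa using this

theorem ftb_meets_conj (H : Subgroup G) (y x : G) (hm : ftbMeets H (x⁻¹ * y * x) 1) :
    ftbMeets H y x := by
  obtain ⟨h, hh, h1, hc⟩ := hm
  refine ⟨h, hh, h1, ?_⟩
  have hc' : x⁻¹ * y * x * h = h * (x⁻¹ * y * x) := by simpa using hc
  have := congrArg (fun t => x * t * x⁻¹) hc'
  simp only [mul_assoc, mul_inv_cancel_left, mul_inv_cancel, mul_one] at this
  simp only [mul_assoc]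
  exact this

end Cfsg.Agent.Lib.Helper26
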