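import Mathlib
import Cfsg.Prelude.Def_Characters
import Cfsg.Agent.Lib.Helper26.FTBound3

/-!
The counting inequality: the conjugates of the set `B` of noncentral elements centralizing a
nonidentity element of `H` are pairwise disjoint.
-/

set_option autoImplicit false
set_option linter.style.haveILetI false
set_option linter.unusedSectionVars false
set_option linter.unusedVariables false

namespace Cfsg.Agent.Lib.Helper26

open scoped ComplexConjugate
open Cfsg.Agent.Lib.Helper25 Cfsg.Agent.Lib.helper2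

variable {G : Type*} [Group G]

theorem ftb_fiber_card [Fintype G] [DecidableEq G] (H : Subgroup G)
    (hone : ∀ g : G, g ∉ Subgroup.center G → ∀ a b : G,
      Subgroup.centralizer ({g} : Set G) ⊓ H.map (MulAut.conj a).toMonoidHom ≠ ⊥ →
      Subgroup.centralizer ({g} : Set G) ⊓ H.map (MulAut.conj b).toMonoidHom ≠ ⊥ →
      H.map (MulAut.conj a).toMonoidHom = H.map (MulAut.conj b).toMonoidHom)
    (y : G) (hy : y ∉ Subgroup.center G) (P : G → Prop) [DecidablePred P]
    (hP : ∀ x, P x → ftbMeets H (x⁻¹ * y * x) 1) :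
    ((Finset.univ.filter P).card : ℝ) ≤ (Nat.card (Subgroup.normalizer (H : Set G)) : ℝ) := by
  classical
  by_cases hne : (Finset.univ.filter P).Nonempty
  · obtain ⟨x₁, hx₁⟩ := hne
    have hx₁' : P x₁ := (Finset.mem_filter.mp hx₁).2
    have hm₁ := ftb_meets_conj H y x₁ (hP x₁ hx₁')
    haveI : Fintype (Subgroup.normalizer (H : Set G)) := Fintype.ofFinite _
    rw [Nat.card_eq_fintype_card]
    norm_cast
    rw [← Finset.card_univ]
    refine Finset.card_le_card_of_injOn (fun x => if h : x₁⁻¹ * x ∈ Subgroup.normalizer (H : Set G)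
      then ⟨x₁⁻¹ * x, h⟩ else 1) (fun x _ => Finset.mem_univ _) ?_
    intro a ha b hb hab
    have ha' : P a := (Finset.mem_filter.mp ha).2
    have hb' : P b := (Finset.mem_filter.mp hb).2
    have hma := ftb_sep H hone y hy x₁ a hm₁ (ftb_meets_conj H y a (hP a ha'))
    have hmb := ftb_sep H hone y hy x₁ b hm₁ (ftb_meets_conj H y b (hP b hb'))
    simp only [dif_pos hma, dif_pos hmb] at hab
    have := congrArg Subtype.val hab
    exact mul_left_cancel this
  · rw [Finset.not_nonempty_iff_eq_empty] at hne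
    rw [hne, Finset.card_empty, Nat.cast_zero]
    positivity

/-- the set of noncentral elements centralizing a nonidentity element of `H` -/
def ftbB (H : Subgroup G) : Set G := {g | g ∉ Subgroup.center G ∧ ftbMeets H g 1}

theorem ftb_count [Fintype G] (H : Subgroup G)
    (hone : ∀ g : G, g ∉ Subgroup.center G → ∀ a b : G,
      Subgroup.centralizer ({g} : Set G) ⊓ H.map (MulAut.conj a).toMonoidHom ≠ ⊥ →
      Subgroup.centralizer ({g} : Set G) ⊓ H.map (MulAut.conj b).toMonoidHom ≠ ⊥ →
      H.map (MulAut.conj a).toMonoidHom = H.map (MulAut.conj b).toMonoidHom)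
    (F : G → ℝ) (hF0 : ∀ g, 0 ≤ F g) (hFc : ∀ g x : G, F (x * g * x⁻¹) = F g) :
    (Nat.card G : ℝ) * ∑ g : G, (ftbB H).indicator F g ≤
      (Nat.card (Subgroup.normalizer (H : Set G)) : ℝ) *
        ∑ y : G, ((Subgroup.center G : Set G)ᶜ).indicator F y := by
  classical
  have h1 : (Nat.card G : ℝ) * ∑ g : G, (ftbB H).indicator F g =
      ∑ x : G, ∑ y : G, (if (x⁻¹ * y * x) ∈ ftbB H then F y else 0) := by
    have h2 : ∀ x : G, ∑ y : G, (if (x⁻¹ * y * x) ∈ ftbB H then F y else 0) =
        ∑ g : G, (ftbB H).indicator F g := by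
      intro x
      refine Fintype.sum_equiv (MulAut.conj x⁻¹).toEquiv _ _ (fun y => ?_)
      show _ = (ftbB H).indicator F (x⁻¹ * y * x⁻¹⁻¹)
      rw [Set.indicator_apply, hFc, inv_inv]
    simp_rw [h2]
    rw [Finset.sum_const, Finset.card_univ, nsmul_eq_mul, Nat.card_eq_fintype_card]
  rw [h1, Finset.sum_comm, Finset.mul_sum]
  refine Finset.sum_le_sum fun y _ => ?_
  by_cases hy : y ∈ Subgroup.center G
  · have hy' : y ∉ ((Subgroup.center G : Set G)ᶜ) := fun h => h hy
    rw [Set.indicator_of_notMem hy', mul_zero]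
    apply le_of_eq
    apply Finset.sum_eq_zero
    intro x _
    rw [if_neg]
    rintro ⟨hc, -⟩
    apply hc
    have : x⁻¹ * y * x = y := by
      have := Subgroup.mem_center_iff.mp hy x
      rw [mul_assoc, ← this, inv_mul_cancel_left]
    rw [this]
    exact hy
  · have hy' : y ∈ ((Subgroup.center G : Set G)ᶜ) := hy
    rw [Set.indicator_of_mem hy']
    have h3 : ∑ x : G, (if (x⁻¹ * y * x) ∈ ftbB H then F y else 0) =
        ((Finset.univ.filter (fun x : G => (x⁻¹ * y * x) ∈ ftbB H)).card : ℝ) * F y := by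
      rw [← Finset.sum_filter, Finset.sum_const, nsmul_eq_mul]
    rw [h3]
    exact mul_le_mul_of_nonneg_right
      (ftb_fiber_card H hone y hy (fun x => (x⁻¹ * y * x) ∈ ftbB H) (fun x hx => hx.2)) (hF0 y)

end Cfsg.Agent.Lib.Helper26
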