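import Mathlib
import Cfsg.Prelude.Def_Characters
import Cfsg.Agent.Lib.Helper26.FTBound4

/-!
The local analysis in the normalizer of `H`.
-/

set_option autoImplicit false
set_option linter.style.haveILetI false
set_option linter.unusedSectionVars false
set_option linter.unusedVariables false

namespace Cfsg.Agent.Lib.Helper26

open scoped ComplexConjugate
open Cfsg.Agent.Lib.Helper25 Cfsg.Agent.Lib.helper2

variable {G : Type*} [Group G]

/-- the average of `χ` over the right translates by `H`, as a function on `G` -/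
noncomputable def ftbPsi (H : Subgroup G) [Fintype H] (χ : G → ℂ) : G → ℂ :=
  fun g => (Nat.card H : ℂ)⁻¹ * ∑ h : H, χ (g * h)

theorem ftbPsi_apply (H : Subgroup G) [Fintype H] (χ : G → ℂ) (g : G) :
    ftbPsi H χ g = (Nat.card H : ℂ)⁻¹ * ∑ h : H, χ (g * h) := rfl

/-- on the normalizer, `ftbPsi` is the averaging operator of the normal subgroup `H` -/
theorem ftb_psi_eq_avg (H : Subgroup G) [Fintype H]
    [Fintype (H.subgroupOf (Subgroup.normalizer (H : Set G)))] (χ : G → ℂ)
    (g : Subgroup.normalizer (H : Set G)) :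
    ftbAvg (H.subgroupOf (Subgroup.normalizer (H : Set G)))
      (fun x : Subgroup.normalizer (H : Set G) => χ x) g = ftbPsi H χ g := by
  rw [ftbAvg_apply, ftbPsi_apply]
  have hle : H ≤ Subgroup.normalizer (H : Set G) := Subgroup.le_normalizer
  have hcard : Nat.card (H.subgroupOf (Subgroup.normalizer (H : Set G))) = Nat.card H :=
    Nat.card_congr (Subgroup.subgroupOfEquivOfLe hle).toEquiv
  rw [hcard]
  congr 1
  refine Fintype.sum_equiv (Subgroup.subgroupOfEquivOfLe hle).toEquiv _ _ (fun k => ?_)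
  rfl

/-- `ftbPsi` is constant on `H` -/
theorem ftb_psi_const (H : Subgroup G) [Fintype H] (χ : G → ℂ) (h : H) :
    ftbPsi H χ h = ftbPsi H χ 1 := by
  rw [ftbPsi_apply, ftbPsi_apply]
  congr 1
  refine Fintype.sum_equiv (Equiv.mulLeft h) _ _ (fun k => ?_)
  simp

/-- value of `ftbPsi` at `1` is the multiplicity of the trivial character -/
theorem ftb_psi_one (H : Subgroup G) [Fintype H] (χ : G → ℂ) :
    ftbPsi H χ 1 = Cfsg.classInner (fun h : H => χ h) (fun _ => 1) := by
  rw [ftbPsi_apply]
  unfold Cfsg.classInner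
  congr 1
  refine Finset.sum_congr rfl fun h _ => ?_
  rw [one_mul, map_one, mul_one]

/-- the norm of `ftbPsi` on `H Z(G)` -/
theorem ftb_psi_HZ [Finite G] (H : Subgroup G) [Fintype H] (χ : G → ℂ)
    (hχ : Cfsg.IsIrrCharacter G χ) (h : H) (z : G) (hz : z ∈ Subgroup.center G) :
    Complex.normSq (ftbPsi H χ (h * z)) = Complex.normSq (ftbPsi H χ 1) := by
  obtain ⟨n, ρ, hρ, rfl⟩ := hχ
  haveI := hρ
  obtain ⟨c, hc1, hc⟩ := center_scalar ρ z hz
  have h1 : ftbPsi H ρ.character (h * z) = c * ftbPsi H ρ.character 1 := by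
    rw [← ftb_psi_const H _ h, ftbPsi_apply, ftbPsi_apply, mul_left_comm]
    congr 1
    rw [Finset.mul_sum]
    refine Finset.sum_congr rfl fun k _ => ?_
    have : (h : G) * z * k = h * k * z := by
      rw [mul_assoc, mul_assoc]
      congr 1
      exact (Subgroup.mem_center_iff.mp hz k).symm
    rw [this]
    exact char_mul_scalar ρ _ z c hc
  rw [h1, Complex.normSq_mul]
  have : Complex.normSq c = 1 := by
    rw [Complex.normSq_eq_norm_sq, hc1, one_pow]
  rw [this, one_mul]

/-- the value of `|χ|²` on the centre -/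
theorem ftb_center_norm [Finite G] (χ : G → ℂ) (hχ : Cfsg.IsIrrCharacter G χ) (z : G)
    (hz : z ∈ Subgroup.center G) : Complex.normSq (χ z) = Complex.normSq (χ 1) := by
  obtain ⟨n, ρ, hρ, rfl⟩ := hχ
  haveI := hρ
  obtain ⟨c, hc1, hc⟩ := center_scalar ρ z hz
  have h1 := char_mul_scalar ρ 1 z c hc
  rw [one_mul] at h1
  rw [h1, Complex.normSq_mul]
  have : Complex.normSq c = 1 := by
    rw [Complex.normSq_eq_norm_sq, hc1, one_pow]
  rw [this, one_mul]

end Cfsg.Agent.Lib.Helper26
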