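import Mathlib
import Cfsg.Prelude.Def_Characters
import Cfsg.Agent.Lib.Helper26.FTBound5
import Cfsg.Agent.Lib.helper7.CharTools

/-!
The first Feit–Thompson inequality: `|H| [χ_H, 1_H]² < χ(1)²`.
-/

set_option autoImplicit false
set_option linter.style.haveILetI false
set_option linter.unusedSectionVars false
set_option linter.unusedVariables false

namespace Cfsg.Agent.Lib.Helper26

open scoped ComplexConjugate
open Cfsg.Agent.Lib.Helper25 Cfsg.Agent.Lib.helper2 Cfsg.Agent.Lib.helper7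

variable {G : Type*} [Group G]

theorem ftb_first [Fintype G] (H : Subgroup G) [Fintype H]
    (hZ : H ⊓ Subgroup.center G = ⊥)
    (hone : ∀ g : G, g ∉ Subgroup.center G → ∀ a b : G,
      Subgroup.centralizer ({g} : Set G) ⊓ H.map (MulAut.conj a).toMonoidHom ≠ ⊥ →
      Subgroup.centralizer ({g} : Set G) ⊓ H.map (MulAut.conj b).toMonoidHom ≠ ⊥ →
      H.map (MulAut.conj a).toMonoidHom = H.map (MulAut.conj b).toMonoidHom)
    (χ : G → ℂ) (hχ : Cfsg.IsIrrCharacter G χ) (hker : ∃ h ∈ H, χ h ≠ χ 1) :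
    (Nat.card H : ℝ) * Complex.normSq (Cfsg.classInner (fun h : H => χ h) (fun _ => 1)) <
      Complex.normSq (χ 1) := by
  classical
  obtain ⟨N, hN⟩ : ∃ N : Subgroup G, N = Subgroup.normalizer (H : Set G) := ⟨_, rfl⟩
  haveI : Fintype N := Fintype.ofFinite _
  haveI : Fintype (H.subgroupOf N) := Fintype.ofFinite _
  haveI : Fintype (Subgroup.center G) := Fintype.ofFinite _
  haveI hKn : (H.subgroupOf N).Normal := by
    rw [hN]
    infer_instance
  have hHN : H ≤ N := by rw [hN]; exact Subgroup.le_normalizer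
  have hZNle : Subgroup.center G ≤ N := by
    rw [hN]
    intro z hz
    rw [Subgroup.mem_normalizer_iff]
    intro h
    have : z * h * z⁻¹ = h := by
      rw [← Subgroup.mem_center_iff.mp hz h, mul_inv_cancel_right]
    rw [this]
  obtain ⟨F, hF⟩ : ∃ F : G → ℝ, F = fun g => Complex.normSq (χ g) := ⟨_, rfl⟩
  obtain ⟨P, hP⟩ : ∃ P : G → ℝ, P = fun g => Complex.normSq (ftbPsi H χ g) := ⟨_, rfl⟩
  have hF0 : ∀ g, 0 ≤ F g := by intro g; rw [hF]; exact Complex.normSq_nonneg _
  have hP0 : ∀ g, 0 ≤ P g := by intro g; rw [hP]; exact Complex.normSq_nonneg _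
  have hcl : ∀ g x : G, χ (x * g * x⁻¹) = χ g := fun g x => h7_irr_isClassFunction hχ g x
  have hFc : ∀ g x : G, F (x * g * x⁻¹) = F g := by intro g x; rw [hF]; simp only [hcl]
  obtain ⟨fN, hfN⟩ : ∃ s : Finset G, s = Finset.univ.filter (· ∈ N) := ⟨_, rfl⟩
  obtain ⟨fZ, hfZ⟩ : ∃ s : Finset G, s = Finset.univ.filter (· ∈ Subgroup.center G) := ⟨_, rfl⟩
  obtain ⟨fB, hfB⟩ : ∃ s : Finset G, s = Finset.univ.filter (· ∈ ftbB H) := ⟨_, rfl⟩
  have memN : ∀ g, g ∈ fN ↔ g ∈ N := by intro g; rw [hfN]; simp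
  have memZ : ∀ g, g ∈ fZ ↔ g ∈ Subgroup.center G := by intro g; rw [hfZ]; simp
  have memB : ∀ g, g ∈ fB ↔ g ∈ ftbB H := by intro g; rw [hfB]; simp
  have hZN : fZ ⊆ fN := by
    intro g hg
    rw [memN]
    exact hZNle ((memZ g).mp hg)
  have hBN : fB ⊆ fN := by
    intro g hg
    rw [memN, hN]
    have := (memB g).mp hg
    exact ftb_meets_normalizer H hone g this.1 this.2
  have hZB : Disjoint fZ fB := by
    rw [Finset.disjoint_left]
    intro g hg hg'
    exact ((memB g).mp hg').1 ((memZ g).mp hg)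
  have hUN : fZ ∪ fB ⊆ fN := Finset.union_subset hZN hBN
  -- the restricted character
  obtain ⟨θ, hθdef⟩ : ∃ θ : N → ℂ, θ = fun x : N => χ x := ⟨_, rfl⟩
  have hθ : Cfsg.IsCharacter N θ := by
    rw [hθdef]
    exact isCharacter_restrict (h7_irr_isCharacter hχ) N
  have hθcl : ∀ g x : N, θ (x * g * x⁻¹) = θ g := fun g x => isCharacter_isClassFunction hθ g x
  have havg : ∀ g : N, ftbAvg (H.subgroupOf N) θ g = ftbPsi H χ g := by
    intro g
    subst hN
    rw [hθdef]
    exact ftb_psi_eq_avg H χ g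
  have hne : θ ≠ ftbAvg (H.subgroupOf N) θ := by
    intro heq
    obtain ⟨h, hh, hh1⟩ := hker
    apply hh1
    have e1 := congrFun heq ⟨h, hHN hh⟩
    have e2 := congrFun heq 1
    rw [havg] at e1 e2
    have e3 := ftb_psi_const H χ ⟨h, hh⟩
    have e4 : θ ⟨h, hHN hh⟩ = χ h := by rw [hθdef]
    have e5 : θ 1 = χ 1 := by rw [hθdef]; rfl
    rw [← e4, e1, ← e5, e2]
    exact e3
  -- (C1)
  have hC1 : ∑ g ∈ fN, P g + (Nat.card N : ℝ) ≤ ∑ g ∈ fN, F g := by
    have h1 := ftb_real_split (H.subgroupOf N) θ hθ hne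
    have h2 : ∑ g ∈ fN, P g = ∑ g : N, Complex.normSq (ftbAvg (H.subgroupOf N) θ g) := by
      rw [Finset.sum_subtype fN memN P]
      refine Finset.sum_congr rfl fun g _ => ?_
      rw [havg, hP]
    have h3 : ∑ g ∈ fN, F g = ∑ g : N, Complex.normSq (θ g) := by
      rw [Finset.sum_subtype fN memN F]
      refine Finset.sum_congr rfl fun g _ => ?_
      rw [hF, hθdef]
    rw [h2, h3]
    exact h1
  -- (C2)
  have hC2 : ∀ g ∈ fN \ (fZ ∪ fB), P g = F g := by
    intro g hg
    rw [Finset.mem_sdiff, Finset.mem_union, not_or] at hg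
    obtain ⟨hgN, hgZ, hgB⟩ := hg
    have hgN' : g ∈ N := (memN g).mp hgN
    have hnm : ¬ ftbMeets H g 1 := by
      intro hm
      apply hgB
      rw [memB]
      exact ⟨fun hz => hgZ ((memZ g).mpr hz), hm⟩
    have hfree : ∀ k : H.subgroupOf N, (k : N) * ⟨g, hgN'⟩ = ⟨g, hgN'⟩ * k → k = 1 := by
      intro k hk
      by_contra hk1
      apply hnm
      refine ⟨((k : N) : G), Subgroup.mem_subgroupOf.mp k.2, ?_, ?_⟩
      · intro h1
        apply hk1
        apply Subtype.ext
        apply Subtype.ext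
        exact h1
      · have := congrArg (fun x : N => (x : G)) hk
        simp only [Subgroup.coe_mul] at this
        simp only [one_mul, inv_one, mul_one]
        exact this.symm
    have h1 := ftb_avg_eq_of_free (H.subgroupOf N) θ hθcl ⟨g, hgN'⟩ hfree
    rw [havg] at h1
    have h2 : θ ⟨g, hgN'⟩ = χ g := by rw [hθdef]
    rw [hP, hF]
    show Complex.normSq (ftbPsi H χ g) = Complex.normSq (χ g)
    rw [← h2, ← h1]
  -- (C3)
  have hC3 : ∑ g ∈ fZ, F g = (Nat.card (Subgroup.center G) : ℝ) * F 1 := by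
    rw [Finset.sum_subtype fZ memZ F]
    have : ∀ z : Subgroup.center G, F (z : G) = F 1 := by
      intro z
      rw [hF]
      exact ftb_center_norm χ hχ z z.2
    simp_rw [this]
    rw [Finset.sum_const, Finset.card_univ, nsmul_eq_mul, Nat.card_eq_fintype_card]
  -- (C4)
  have hC4 : (Nat.card H : ℝ) * (Nat.card (Subgroup.center G) : ℝ) * P 1 ≤
      ∑ g ∈ fZ ∪ fB, P g := by
    let j : H × Subgroup.center G → G := fun p => (p.1 : G) * (p.2 : G)
    have hjinj : ∀ x ∈ (Finset.univ : Finset (H × Subgroup.center G)),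
        ∀ y ∈ (Finset.univ : Finset (H × Subgroup.center G)), j x = j y → x = y := by
      intro x _ y _ hxy
      have h1 : (y.1 : G)⁻¹ * (x.1 : G) = (y.2 : G) * (x.2 : G)⁻¹ := by
        have : (x.1 : G) * (x.2 : G) = (y.1 : G) * (y.2 : G) := hxy
        have h2 := congrArg (fun t => (y.1 : G)⁻¹ * t * (x.2 : G)⁻¹) this
        simp only [mul_assoc, mul_inv_cancel, mul_one, inv_mul_cancel_left] at h2
        exact h2
      have h3 : (y.1 : G)⁻¹ * (x.1 : G) ∈ H ⊓ Subgroup.center G := by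
        refine Subgroup.mem_inf.mpr ⟨H.mul_mem (H.inv_mem y.1.2) x.1.2, ?_⟩
        rw [h1]
        exact (Subgroup.center G).mul_mem y.2.2 ((Subgroup.center G).inv_mem x.2.2)
      rw [hZ, Subgroup.mem_bot] at h3
      have h4 : (x.1 : G) = (y.1 : G) := by
        have := congrArg (fun t => (y.1 : G) * t) h3
        simpa using this
      have h5 : (x.2 : G) = (y.2 : G) := by
        have : (x.1 : G) * (x.2 : G) = (y.1 : G) * (y.2 : G) := hxy
        rw [h4] at this
        exact mul_left_cancel this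
      exact Prod.ext (Subtype.ext h4) (Subtype.ext h5)
    have hsub : Finset.univ.image j ⊆ fZ ∪ fB := by
      intro g hg
      obtain ⟨⟨h, z⟩, -, rfl⟩ := Finset.mem_image.mp hg
      rw [Finset.mem_union]
      by_cases h1 : (h : G) = 1
      · left
        rw [memZ]
        show (h : G) * (z : G) ∈ Subgroup.center G
        rw [h1, one_mul]
        exact z.2
      · right
        rw [memB]
        refine ⟨?_, (h : G), h.2, h1, ?_⟩
        · intro hc
          apply h1
          have h2 : (h : G) ∈ H ⊓ Subgroup.center G := by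
            refine Subgroup.mem_inf.mpr ⟨h.2, ?_⟩
            have := (Subgroup.center G).mul_mem hc ((Subgroup.center G).inv_mem z.2)
            simpa [j] using this
          rw [hZ, Subgroup.mem_bot] at h2
          exact h2
        · show (h : G) * (z : G) * (1 * (h : G) * 1⁻¹) = 1 * (h : G) * 1⁻¹ * ((h : G) * (z : G))
          have hz := Subgroup.mem_center_iff.mp z.2 (h : G)
          simp only [one_mul, inv_one, mul_one]
          rw [mul_assoc, ← hz]
    calc (Nat.card H : ℝ) * (Nat.card (Subgroup.center G) : ℝ) * P 1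
        = ∑ p : H × Subgroup.center G, P (j p) := by
          have : ∀ p : H × Subgroup.center G, P (j p) = P 1 := by
            intro p
            rw [hP]
            exact ftb_psi_HZ H χ hχ p.1 p.2 p.2.2
          simp_rw [this]
          rw [Finset.sum_const, Finset.card_univ, nsmul_eq_mul, Fintype.card_prod,
            Nat.card_eq_fintype_card, Nat.card_eq_fintype_card]
          push_cast
          ring
      _ = ∑ g ∈ Finset.univ.image j, P g := (Finset.sum_image hjinj).symm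
      _ ≤ ∑ g ∈ fZ ∪ fB, P g :=
          Finset.sum_le_sum_of_subset_of_nonneg hsub (fun g _ _ => hP0 g)
  -- total norm
  have hG : ∑ g : G, F g = (Nat.card G : ℝ) := by
    have h1 := cdp_irr_sum_sq (⟨χ, hχ⟩ : Cfsg.IrrCharacter G)
    have h2 : ((∑ g : G, F g : ℝ) : ℂ) = (Nat.card G : ℂ) := by
      rw [← h1]
      push_cast
      refine Finset.sum_congr rfl fun g _ => ?_
      rw [hF, Complex.mul_conj]
    exact_mod_cast h2
  -- counting
  have hcount := ftb_count H hone F hF0 hFc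
  have hind1 : ∑ g : G, (ftbB H).indicator F g = ∑ g ∈ fB, F g := by
    rw [hfB, Finset.sum_filter]
    refine Finset.sum_congr rfl fun g _ => ?_
    rw [Set.indicator_apply]
  have hind2 : ∑ y : G, ((Subgroup.center G : Set G)ᶜ).indicator F y =
      (Nat.card G : ℝ) - ∑ g ∈ fZ, F g := by
    rw [← hG, hfZ, Finset.sum_filter, ← Finset.sum_sub_distrib]
    refine Finset.sum_congr rfl fun g _ => ?_
    rw [Set.indicator_apply]
    by_cases hg : g ∈ Subgroup.center G
    · rw [if_pos hg, if_neg (fun h => h hg), sub_self]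
    · rw [if_neg hg, if_pos (show g ∈ ((Subgroup.center G : Set G)ᶜ) from hg), sub_zero]
  rw [hind1, hind2, hC3, ← hN] at hcount
  -- splitting the sums over N
  have hsF : ∑ g ∈ fN \ (fZ ∪ fB), F g + ∑ g ∈ fZ ∪ fB, F g = ∑ g ∈ fN, F g :=
    Finset.sum_sdiff hUN
  have hsP : ∑ g ∈ fN \ (fZ ∪ fB), P g + ∑ g ∈ fZ ∪ fB, P g = ∑ g ∈ fN, P g :=
    Finset.sum_sdiff hUN
  have hRR : ∑ g ∈ fN \ (fZ ∪ fB), P g = ∑ g ∈ fN \ (fZ ∪ fB), F g :=
    Finset.sum_congr rfl hC2
  have hUF : ∑ g ∈ fZ ∪ fB, F g = ∑ g ∈ fZ, F g + ∑ g ∈ fB, F g := Finset.sum_union hZB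
  rw [hC3] at hUF
  -- the final arithmetic
  have hP1 : P 1 = Complex.normSq (Cfsg.classInner (fun h : H => χ h) (fun _ => 1)) := by
    rw [hP]
    show Complex.normSq (ftbPsi H χ 1) = _
    rw [ftb_psi_one]
  have hF1 : F 1 = Complex.normSq (χ 1) := by rw [hF]
  rw [← hP1, ← hF1]
  have hcG : (0 : ℝ) < (Nat.card G : ℝ) := by exact_mod_cast Nat.card_pos
  have hcN : (0 : ℝ) < (Nat.card N : ℝ) := by exact_mod_cast Nat.card_pos
  have hcZ : (0 : ℝ) < (Nat.card (Subgroup.center G) : ℝ) := by exact_mod_cast Nat.card_pos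
  have hcH : (0 : ℝ) < (Nat.card H : ℝ) := by exact_mod_cast Nat.card_pos
  have hF1pos : 0 < F 1 := by
    rw [hF1]
    exact Complex.normSq_pos.mpr (irr_one_ne_zero ⟨χ, hχ⟩)
  -- S_B lower bound
  have hSB : (Nat.card H : ℝ) * (Nat.card (Subgroup.center G) : ℝ) * P 1 + (Nat.card N : ℝ) -
      (Nat.card (Subgroup.center G) : ℝ) * F 1 ≤ ∑ g ∈ fB, F g := by
    linarith
  have hmul : (Nat.card G : ℝ) * ((Nat.card H : ℝ) * (Nat.card (Subgroup.center G) : ℝ) * P 1 +
      (Nat.card N : ℝ) - (Nat.card (Subgroup.center G) : ℝ) * F 1) ≤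
      (Nat.card N : ℝ) * ((Nat.card G : ℝ) - (Nat.card (Subgroup.center G) : ℝ) * F 1) :=
    le_trans (mul_le_mul_of_nonneg_left hSB hcG.le) hcount
  have hkey : (Nat.card (Subgroup.center G) : ℝ) * ((Nat.card G : ℝ) * ((Nat.card H : ℝ) * P 1)) ≤
      (Nat.card (Subgroup.center G) : ℝ) * (F 1 * ((Nat.card G : ℝ) - (Nat.card N : ℝ))) := by
    nlinarith
  have hkey2 : (Nat.card G : ℝ) * ((Nat.card H : ℝ) * P 1) ≤
      F 1 * ((Nat.card G : ℝ) - (Nat.card N : ℝ)) := le_of_mul_le_mul_left hkey hcZ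
  have hkey3 : (Nat.card G : ℝ) * ((Nat.card H : ℝ) * P 1) < (Nat.card G : ℝ) * F 1 := by
    nlinarith
  exact lt_of_mul_lt_mul_left hkey3 hcG.le

end Cfsg.Agent.Lib.Helper26
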