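import Mathlib
import Cfsg.Prelude.Def_Characters
import Cfsg.Agent.Lib.Helper26.FTBound6
import Cfsg.Agent.Lib.Helper25.CharReal
import Cfsg.Agent.Lib.Helper25.CharLinear
import Cfsg.Agent.Lib.Helper25.Gagola
import Cfsg.Agent.Lib.helper7.CharMul

/-!
The second Feit–Thompson inequality: `|H| < (1 + χ(1))²`.
-/

set_option autoImplicit false
set_option linter.style.haveILetI false
set_option linter.unusedSectionVars false
set_option linter.unusedVariables false

namespace Cfsg.Agent.Lib.Helper26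

open scoped ComplexConjugate
open Cfsg.Agent.Lib.Helper25 Cfsg.Agent.Lib.helper2 Cfsg.Agent.Lib.helper7

variable {G : Type*} [Group G]

/-- a nonprincipal irreducible character does not have `H` in its kernel when `H` lies in no
proper normal subgroup -/
theorem ftb_not_in_ker [Fintype G] (H : Subgroup G)
    (hnorm : ∀ M : Subgroup G, M.Normal → H ≤ M → M = ⊤)
    (μ : Cfsg.IrrCharacter G) (hμ : μ ≠ trivIrr G) : ∃ h ∈ H, (μ : G → ℂ) h ≠ (μ : G → ℂ) 1 := by
  by_contra hcon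
  have hall : ∀ h ∈ H, (μ : G → ℂ) h = (μ : G → ℂ) 1 := by
    intro h hh
    by_contra hne
    exact hcon ⟨h, hh, hne⟩
  have hle : H ≤ irrKer μ := fun h hh => (mem_irrKer μ h).mpr (hall h hh)
  have htop := hnorm (irrKer μ) inferInstance hle
  have hconst : ∀ g : G, (μ : G → ℂ) g = (μ : G → ℂ) 1 := by
    intro g
    apply (mem_irrKer μ g).mp
    rw [htop]
    exact Subgroup.mem_top g
  have h1 := irr_classInner μ (trivIrr G)
  rw [if_neg hμ] at h1
  unfold Cfsg.classInner at h1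
  simp only [trivIrr_apply, map_one, mul_one, hconst, Finset.sum_const, Finset.card_univ,
    nsmul_eq_mul] at h1
  rw [Nat.card_eq_fintype_card, ← mul_assoc, inv_mul_cancel₀, one_mul] at h1
  · exact irr_one_ne_zero μ h1
  · exact_mod_cast Fintype.card_ne_zero

theorem ftb_second [Fintype G] (H : Subgroup G) [Fintype H]
    (hab : ∀ a ∈ H, ∀ b ∈ H, a * b = b * a)
    (hZ : H ⊓ Subgroup.center G = ⊥)
    (hone : ∀ g : G, g ∉ Subgroup.center G → ∀ a b : G,
      Subgroup.centralizer ({g} : Set G) ⊓ H.map (MulAut.conj a).toMonoidHom ≠ ⊥ →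
      Subgroup.centralizer ({g} : Set G) ⊓ H.map (MulAut.conj b).toMonoidHom ≠ ⊥ →
      H.map (MulAut.conj a).toMonoidHom = H.map (MulAut.conj b).toMonoidHom)
    (χ : G → ℂ) (hχ : Cfsg.IsIrrCharacter G χ) (h1 : χ 1 ≠ 1)
    (hnorm : ∀ M : Subgroup G, M.Normal → H ≤ M → M = ⊤) :
    (Nat.card H : ℝ) < (1 + (χ 1).re) ^ 2 := by
  classical
  haveI : Fintype (Cfsg.IrrCharacter G) := Fintype.ofFinite _
  obtain ⟨d, hd0, hd⟩ := irr_one_eq_finrank (⟨χ, hχ⟩ : Cfsg.IrrCharacter G)
  have hd' : χ 1 = (d : ℂ) := hd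
  have hd2 : 2 ≤ d := by
    rcases Nat.lt_or_ge d 2 with h | h
    · exfalso
      apply h1
      have : d = 1 := by omega
      rw [hd', this, Nat.cast_one]
    · exact h
  -- the character χ χ̄
  obtain ⟨Φ, hΦdef⟩ : ∃ Φ : G → ℂ, Φ = χ * (irrConj (⟨χ, hχ⟩ : Cfsg.IrrCharacter G) : G → ℂ) :=
    ⟨_, rfl⟩
  have hΦval : ∀ g, Φ g = χ g * conj (χ g) := by
    intro g
    rw [hΦdef, Pi.mul_apply, irrConj_apply]
  have hΦ : Cfsg.IsCharacter G Φ := by
    rw [hΦdef]
    exact h7_isCharacter_mul (h7_irr_isCharacter hχ) (h7_irr_isCharacter (irrConj ⟨χ, hχ⟩).2)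
  obtain ⟨m, hm, hexp⟩ := isCharacter_expansion hΦ
  -- multiplicity of the trivial character
  have hmtriv : m (trivIrr G) = 1 := by
    have h2 := hm (trivIrr G)
    have h3 : Cfsg.classInner Φ ((trivIrr G : Cfsg.IrrCharacter G) : G → ℂ) = 1 := by
      have h4 := h7_irr_norm hχ
      unfold Cfsg.classInner at h4 ⊢
      rw [← h4]
      congr 1
      refine Finset.sum_congr rfl fun g _ => ?_
      rw [trivIrr_apply, map_one, mul_one, hΦval]
    rw [h3] at h2
    exact_mod_cast h2.symm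
  -- degrees and multiplicities of 1_H
  have hdeg : ∀ μ : Cfsg.IrrCharacter G, ∃ e : ℕ, 0 < e ∧ (μ : G → ℂ) 1 = (e : ℂ) :=
    fun μ => irr_one_eq_finrank μ
  choose e he0 he using hdeg
  have hk : ∀ μ : Cfsg.IrrCharacter G, ∃ k : ℕ,
      Cfsg.classInner (fun h : H => (μ : G → ℂ) h) (fun _ => 1) = (k : ℂ) := by
    intro μ
    have h2 : (fun _ : H => (1 : ℂ)) = ((trivIrr H : Cfsg.IrrCharacter H) : H → ℂ) := by
      funext h
      rw [trivIrr_apply]
    rw [h2]
    exact classInner_character_nat (isCharacter_restrict (isCharacter_of_irr μ) H)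
      (isCharacter_of_irr (trivIrr H))
  choose k hk using hk
  have hetriv : e (trivIrr G) = 1 := by
    have := he (trivIrr G)
    rw [trivIrr_apply] at this
    exact_mod_cast this.symm
  have hHne : (Nat.card H : ℂ) ≠ 0 := by exact_mod_cast Nat.card_pos.ne'
  have hktriv : k (trivIrr G) = 1 := by
    have := hk (trivIrr G)
    unfold Cfsg.classInner at this
    simp only [trivIrr_apply, map_one, mul_one, Finset.sum_const, Finset.card_univ,
      nsmul_eq_mul] at this
    rw [Nat.card_eq_fintype_card, inv_mul_cancel₀] at this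
    · exact_mod_cast this.symm
    · exact_mod_cast Fintype.card_ne_zero
  -- the first inequality for nonprincipal μ
  set s : ℝ := Real.sqrt (Nat.card H : ℝ) with hs
  have hs0 : 0 ≤ s := Real.sqrt_nonneg _
  have hss : s * s = (Nat.card H : ℝ) := Real.mul_self_sqrt (by positivity)
  have hfirst : ∀ μ : Cfsg.IrrCharacter G, μ ≠ trivIrr G → s * (k μ : ℝ) < (e μ : ℝ) := by
    intro μ hμ
    have h2 := ftb_first H hZ hone (μ : G → ℂ) μ.2 (ftb_not_in_ker H hnorm μ hμ)
    rw [hk μ, he μ, Complex.normSq_natCast, Complex.normSq_natCast] at h2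
    have h3 : (s * (k μ : ℝ)) * (s * (k μ : ℝ)) < (e μ : ℝ) * (e μ : ℝ) := by
      have : (s * (k μ : ℝ)) * (s * (k μ : ℝ)) = (s * s) * ((k μ : ℝ) * (k μ : ℝ)) := by ring
      rw [this, hss]
      exact h2
    have h4 : 0 ≤ (e μ : ℝ) := by positivity
    exact lt_of_mul_self_lt_mul_self₀ h4 h3
  -- evaluation at 1
  have hsum1 : ((d * d : ℕ) : ℝ) = ∑ μ : Cfsg.IrrCharacter G, (m μ : ℝ) * (e μ : ℝ) := by
    have h2 := congrFun hexp 1
    rw [hΦval, hd', Complex.conj_natCast] at h2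
    simp only [Finset.sum_apply, Pi.smul_apply, smul_eq_mul, he] at h2
    have h3 : (((d * d : ℕ) : ℝ) : ℂ) = ((∑ μ : Cfsg.IrrCharacter G, (m μ : ℝ) * (e μ : ℝ) : ℝ) : ℂ) := by
      push_cast
      exact h2
    exact_mod_cast h3
  -- inner product with 1_H
  obtain ⟨b, hbdef⟩ : ∃ b : ℝ, b = (Nat.card H : ℝ)⁻¹ * ∑ h : H, Complex.normSq (χ h) := ⟨_, rfl⟩
  have hsumH : b = ∑ μ : Cfsg.IrrCharacter G, (m μ : ℝ) * (k μ : ℝ) := by
    have h2 : ((b : ℝ) : ℂ) = Cfsg.classInner (fun h : H => Φ h) (fun _ => 1) := by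
      rw [hbdef]
      unfold Cfsg.classInner
      push_cast
      congr 1
      refine Finset.sum_congr rfl fun h _ => ?_
      rw [map_one, mul_one, hΦval, Complex.mul_conj]
    have h3 : Cfsg.classInner (fun h : H => Φ h) (fun _ => 1) =
        ∑ μ : Cfsg.IrrCharacter G, (m μ : ℂ) * (k μ : ℂ) := by
      simp_rw [← hk]
      unfold Cfsg.classInner
      simp_rw [Finset.mul_sum]
      rw [Finset.sum_comm]
      refine Finset.sum_congr rfl fun h _ => ?_
      have h4 := congrFun hexp (h : G)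
      simp only [Finset.sum_apply, Pi.smul_apply, smul_eq_mul] at h4
      rw [h4, map_one, mul_one, Finset.mul_sum]
      refine Finset.sum_congr rfl fun μ _ => ?_
      ring
    have h5 : ((b : ℝ) : ℂ) = ((∑ μ : Cfsg.IrrCharacter G, (m μ : ℝ) * (k μ : ℝ) : ℝ) : ℂ) := by
      rw [h2, h3]
      push_cast
      rfl
    exact_mod_cast h5
  -- b ≥ d
  have hbd : (d : ℝ) ≤ b := by
    obtain ⟨n, ρ, hρ, hρχ⟩ := hχ
    haveI := hρ
    letI : CommGroup H :=
      { (inferInstance : Group H) with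
        mul_comm := fun a b => Subtype.ext (hab a a.2 b b.2) }
    let σ : Representation ℂ H (Fin n → ℂ) := ρ.comp H.subtype
    have hb := abelian_bound σ
    have hfr : (Module.finrank ℂ (Fin n → ℂ) : ℂ) = (d : ℂ) := by
      rw [← hd', ← hρχ, Representation.char_one]
    have hfr' : Module.finrank ℂ (Fin n → ℂ) = d := by exact_mod_cast hfr
    rw [hfr'] at hb
    have h2 : ∑ a : H, ‖σ.character a‖ ^ 2 = ∑ h : H, Complex.normSq (χ h) := by
      refine Finset.sum_congr rfl fun h _ => ?_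
      rw [← hρχ, Complex.normSq_eq_norm_sq]
      rfl
    rw [h2] at hb
    have hHpos : (0 : ℝ) < (Nat.card H : ℝ) := by exact_mod_cast Nat.card_pos
    rw [hbdef]
    rw [le_inv_mul_iff₀ hHpos]
    exact hb
  -- split off the trivial character
  have hsplit1 := Finset.add_sum_erase Finset.univ (fun μ : Cfsg.IrrCharacter G => (m μ : ℝ) * (e μ : ℝ))
    (Finset.mem_univ (trivIrr G))
  have hsplit2 := Finset.add_sum_erase Finset.univ (fun μ : Cfsg.IrrCharacter G => (m μ : ℝ) * (k μ : ℝ))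
    (Finset.mem_univ (trivIrr G))
  simp only [hmtriv, hetriv, hktriv, Nat.cast_one, mul_one] at hsplit1 hsplit2
  rw [← hsum1] at hsplit1
  rw [← hsumH] at hsplit2
  -- the strict inequality
  have hex : ∃ μ ∈ Finset.univ.erase (trivIrr G), 0 < m μ := by
    by_contra hcon
    have hall : ∀ μ ∈ Finset.univ.erase (trivIrr G), (m μ : ℝ) * (e μ : ℝ) = 0 := by
      intro μ hμ
      have : m μ = 0 := by
        by_contra h0
        exact hcon ⟨μ, hμ, Nat.pos_of_ne_zero h0⟩
      rw [this, Nat.cast_zero, zero_mul]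
    rw [Finset.sum_eq_zero hall, add_zero] at hsplit1
    have : d * d = 1 := by exact_mod_cast hsplit1.symm
    nlinarith
  have hT : 0 < ∑ μ ∈ Finset.univ.erase (trivIrr G),
      (m μ : ℝ) * ((e μ : ℝ) - s * (k μ : ℝ)) := by
    apply Finset.sum_pos'
    · intro μ hμ
      have hμ' : μ ≠ trivIrr G := (Finset.mem_erase.mp hμ).1
      have := hfirst μ hμ'
      have hm0 : (0 : ℝ) ≤ (m μ : ℝ) := by positivity
      nlinarith
    · obtain ⟨μ, hμ, hmμ⟩ := hex
      refine ⟨μ, hμ, ?_⟩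
      have hμ' : μ ≠ trivIrr G := (Finset.mem_erase.mp hμ).1
      have := hfirst μ hμ'
      have hm0 : (0 : ℝ) < (m μ : ℝ) := by exact_mod_cast hmμ
      nlinarith
  have hT2 : ∑ μ ∈ Finset.univ.erase (trivIrr G), (m μ : ℝ) * ((e μ : ℝ) - s * (k μ : ℝ)) =
      (((d * d : ℕ) : ℝ) - 1) - s * (b - 1) := by
    have h2 : ∑ μ ∈ Finset.univ.erase (trivIrr G), (m μ : ℝ) * ((e μ : ℝ) - s * (k μ : ℝ)) =
        ∑ μ ∈ Finset.univ.erase (trivIrr G), (m μ : ℝ) * (e μ : ℝ) -
          s * ∑ μ ∈ Finset.univ.erase (trivIrr G), (m μ : ℝ) * (k μ : ℝ) := by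
      rw [Finset.mul_sum, ← Finset.sum_sub_distrib]
      refine Finset.sum_congr rfl fun μ _ => ?_
      ring
    have hE : ∑ μ ∈ Finset.univ.erase (trivIrr G), (m μ : ℝ) * (e μ : ℝ) =
        ((d * d : ℕ) : ℝ) - 1 := by linarith
    have hK : ∑ μ ∈ Finset.univ.erase (trivIrr G), (m μ : ℝ) * (k μ : ℝ) = b - 1 := by linarith
    rw [h2, hE, hK]
  rw [hT2] at hT
  -- conclusion
  have hdre : (χ 1).re = (d : ℝ) := by rw [hd', Complex.natCast_re]
  rw [hdre, ← hss]
  have hd2' : (2 : ℝ) ≤ (d : ℝ) := by exact_mod_cast hd2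
  push_cast at hT
  have h5 : s * ((d : ℝ) - 1) ≤ s * (b - 1) := by
    apply mul_le_mul_of_nonneg_left _ hs0
    linarith
  have h6 : s * ((d : ℝ) - 1) < ((d : ℝ) + 1) * ((d : ℝ) - 1) := by nlinarith
  have h7 : s < (d : ℝ) + 1 := by
    have hpos : (0 : ℝ) < (d : ℝ) - 1 := by linarith
    exact lt_of_mul_lt_mul_right h6 hpos.le
  nlinarith

end Cfsg.Agent.Lib.Helper26
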