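import Mathlib
import Cfsg.Prelude.Def_Characters
import Cfsg.Agent.Lib.Helper26.FTBound7

/-!
The Feit–Thompson bounds in the form of the frozen statement.
-/

set_option autoImplicit false
set_option linter.style.haveILetI false
set_option linter.unusedSectionVars false
set_option linter.unusedVariables false

namespace Cfsg.Agent.Lib.Helper26

open scoped ComplexConjugate
open Cfsg.Agent.Lib.Helper25 Cfsg.Agent.Lib.helper2 Cfsg.Agent.Lib.helper7

theorem ftb_main {G : Type*} [Group G] [Fintype G] (H : Subgroup G) [Fintype H]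
    (hab : ∀ a ∈ H, ∀ b ∈ H, a * b = b * a) (hZ : H ⊓ Subgroup.center G = ⊥)
    (hone : ∀ g : G, g ∉ Subgroup.center G → ∀ a b : G,
      Subgroup.centralizer ({g} : Set G) ⊓ H.map (MulAut.conj a).toMonoidHom ≠ ⊥ →
      Subgroup.centralizer ({g} : Set G) ⊓ H.map (MulAut.conj b).toMonoidHom ≠ ⊥ →
      H.map (MulAut.conj a).toMonoidHom = H.map (MulAut.conj b).toMonoidHom)
    (χ : G → ℂ) (hχ : Cfsg.IsIrrCharacter G χ) (hker : ∃ h ∈ H, χ h ≠ χ 1) :
    (χ 1).re ^ 2 > (Nat.card H : ℝ) *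
        (Cfsg.classInner (fun h : H => χ h) (fun _ => 1)).re ^ 2 ∧
      (χ 1 ≠ 1 → (∀ M : Subgroup G, M.Normal → H ≤ M → M = ⊤) →
        (1 + (χ 1).re) ^ 2 > (Nat.card H : ℝ)) := by
  constructor
  · have h1 := ftb_first H hZ hone χ hχ hker
    obtain ⟨d, -, hd⟩ := irr_one_eq_finrank (⟨χ, hχ⟩ : Cfsg.IrrCharacter G)
    have hd' : χ 1 = (d : ℂ) := hd
    have h2 : (fun _ : H => (1 : ℂ)) = ((trivIrr H : Cfsg.IrrCharacter H) : H → ℂ) := by
      funext h
      rw [trivIrr_apply]
    obtain ⟨k, hk⟩ := classInner_character_nat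
      (isCharacter_restrict (h7_irr_isCharacter hχ) H) (isCharacter_of_irr (trivIrr H))
    rw [← h2] at hk
    rw [hk, hd', Complex.normSq_natCast, Complex.normSq_natCast] at h1
    rw [hk, hd', Complex.natCast_re, Complex.natCast_re, pow_two, pow_two]
    exact h1
  · intro h1 hnorm
    exact ftb_second H hab hZ hone χ hχ h1 hnorm

end Cfsg.Agent.Lib.Helper26
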