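import Mathlib
import Cfsg.Agent.Lib.Helper5.S1906.Defs

set_option autoImplicit false

namespace Cfsg.Agent.Lib.Helper5.S1906

open scoped IsMulCommutative

section P

variable {G : Type*} [Group G] {X X0 : Subgroup G} {c z : G}

/-- index two: `a * b ∈ X0 ↔ (a ∈ X0 ↔ b ∈ X0)` for `a b ∈ X`. -/
theorem s1906p1_mul_mem_iff (hle : X0 ≤ X) (hidx : X0.relIndex X = 2) {a b : G} (ha : a ∈ X) (hb : b ∈ X) :
    a * b ∈ X0 ↔ (a ∈ X0 ↔ b ∈ X0) := by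
  have h2 : (X0.subgroupOf X).index = 2 := hidx
  have := Subgroup.mul_mem_iff_of_index_two h2 (a := (⟨a, ha⟩ : X)) (b := ⟨b, hb⟩)
  simpa [Subgroup.mem_subgroupOf] using this

/-- a central element of `X` lies in `X0`. -/
theorem s1906p1_central_mem (h : Ctx X X0 c z) (ζ : G) (hζX : ζ ∈ X) (hζ : Cen X ζ) : ζ ∈ X0 := by
  by_contra hn
  -- every element of X is a or ζ a with a ∈ X0
  have hform : ∀ x ∈ X, x ∈ X0 ∨ ζ⁻¹ * x ∈ X0 := by
    intro x hx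
    by_cases hx0 : x ∈ X0
    · exact Or.inl hx0
    · right
      rw [s1906p1_mul_mem_iff h.le h.idx (X.inv_mem hζX) hx]
      constructor
      · intro h1; exact absurd (by simpa using X0.inv_mem h1) hn
      · intro h1; exact absurd h1 hx0
  have hcomm : ∀ x ∈ X, ∀ y ∈ X, x * y = y * x := by
    intro x hx y hy
    have hζx : x * ζ = ζ * x := hζ x hx
    have hζy : y * ζ = ζ * y := hζ y hy
    rcases hform x hx with h1 | h1 <;> rcases hform y hy with h2 | h2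
    · exact h.ab x h1 y h2
    · -- y = ζ * b
      have hb := h.ab x h1 _ h2
      have hy' : y = ζ * (ζ⁻¹ * y) := by group
      rw [hy']
      calc x * (ζ * (ζ⁻¹ * y)) = (x * ζ) * (ζ⁻¹ * y) := by group
        _ = ζ * (x * (ζ⁻¹ * y)) := by rw [hζx]; group
        _ = ζ * ((ζ⁻¹ * y) * x) := by rw [hb]
        _ = ζ * (ζ⁻¹ * y) * x := by group
    · have hb := h.ab _ h1 y h2
      have hx' : x = ζ * (ζ⁻¹ * x) := by group
      rw [hx']
      calc ζ * (ζ⁻¹ * x) * y = ζ * ((ζ⁻¹ * x) * y) := by group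
        _ = ζ * (y * (ζ⁻¹ * x)) := by rw [hb]
        _ = (ζ * y) * (ζ⁻¹ * x) := by group
        _ = (y * ζ) * (ζ⁻¹ * x) := by rw [hζy]
        _ = y * (ζ * (ζ⁻¹ * x)) := by group
    · have hb := h.ab _ h1 _ h2
      have hx' : x = ζ * (ζ⁻¹ * x) := by group
      have hy' : y = ζ * (ζ⁻¹ * y) := by group
      have hζa : (ζ⁻¹ * x) * ζ = ζ * (ζ⁻¹ * x) := by
        calc (ζ⁻¹ * x) * ζ = ζ⁻¹ * (x * ζ) := by group
          _ = ζ⁻¹ * (ζ * x) := by rw [hζx]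
          _ = x := by group
          _ = ζ * (ζ⁻¹ * x) := by group
      have hζb : (ζ⁻¹ * y) * ζ = ζ * (ζ⁻¹ * y) := by
        calc (ζ⁻¹ * y) * ζ = ζ⁻¹ * (y * ζ) := by group
          _ = ζ⁻¹ * (ζ * y) := by rw [hζy]
          _ = y := by group
          _ = ζ * (ζ⁻¹ * y) := by group
      rw [hx', hy']
      calc ζ * (ζ⁻¹ * x) * (ζ * (ζ⁻¹ * y)) = ζ * ((ζ⁻¹ * x) * ζ) * (ζ⁻¹ * y) := by group
        _ = ζ * (ζ * (ζ⁻¹ * x)) * (ζ⁻¹ * y) := by rw [hζa]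
        _ = ζ * ζ * ((ζ⁻¹ * x) * (ζ⁻¹ * y)) := by group
        _ = ζ * ζ * ((ζ⁻¹ * y) * (ζ⁻¹ * x)) := by rw [hb]
        _ = ζ * (ζ * (ζ⁻¹ * y)) * (ζ⁻¹ * x) := by group
        _ = ζ * ((ζ⁻¹ * y) * ζ) * (ζ⁻¹ * x) := by rw [hζb]
        _ = ζ * (ζ⁻¹ * y) * (ζ * (ζ⁻¹ * x)) := by group
  have hbot : ⁅X, X⁆ = ⊥ := by
    rw [Subgroup.commutator_eq_bot_iff_le_centralizer]
    intro x hx
    rw [Subgroup.mem_centralizer_iff]
    intro y hy
    exact hcomm y hy x hx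
  have hc := h.cD
  rw [hbot, Subgroup.mem_bot] at hc
  exact h.c1 hc

/-- P1 -/
theorem cz_mem (h : Ctx X X0 c z) : c ∈ X0 ∧ z ∈ X0 :=
  ⟨s1906p1_central_mem h c h.cX h.cC, s1906p1_central_mem h z h.zX h.zC⟩

end P

end Cfsg.Agent.Lib.Helper5.S1906
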