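import Mathlib
import Cfsg.Agent.Lib.Helper5.S1906.Defs

set_option autoImplicit false

namespace Cfsg.Agent.Lib.Helper5.S1906

open scoped IsMulCommutative

section P

variable {G : Type*} [Group G] {X X0 : Subgroup G} {c z : G}

/-- P2 -/
theorem le_normalizer (h : Ctx X X0 c z) : X ≤ Subgroup.normalizer (X0 : Set G) := by
  have h2 : (X0.subgroupOf X).index = 2 := h.idx
  haveI hnorm : (X0.subgroupOf X).Normal := Subgroup.normal_of_index_eq_two h2
  have key : ∀ x ∈ X, ∀ n ∈ X0, x * n * x⁻¹ ∈ X0 := by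
    intro x hx n hn
    have hnX : n ∈ X := h.le hn
    have := hnorm.conj_mem (⟨n, hnX⟩ : X) (by rw [Subgroup.mem_subgroupOf]; exact hn) ⟨x, hx⟩
    rw [Subgroup.mem_subgroupOf] at this
    simpa using this
  intro x hx
  rw [Subgroup.mem_set_normalizer_iff]
  intro n
  constructor
  · intro hn; exact key x hx n hn
  · intro hn
    have := key x⁻¹ (X.inv_mem hx) _ hn
    have e : x⁻¹ * (x * n * x⁻¹) * x⁻¹⁻¹ = n := by group
    rw [e] at this; exact this

end P

end Cfsg.Agent.Lib.Helper5.S1906
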