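import Mathlib
import Cfsg.Agent.Lib.Helper26.SU3MP5acore
import Cfsg.Agent.Lib.helper14.SU3MU1
import Cfsg.Agent.Lib.helper14.SU3MU4
import Cfsg.Agent.Lib.Helper24.SU3MP3

/-!
# SU3M row P5a (helper26): `Vg_eq`, VERBATIM wrapper of `su3mp5a_core` (deps U1 `mem_Ug`, U2 `mem_Ag`, U5 `hz_conj`, P3 `NA_central`, P4 `NU_comm`).
-/

set_option autoImplicit false
set_option linter.unusedSectionVars false

namespace Cfsg.Agent.Lib.Helper24.SU3M

open Cfsg.Agent.Lib.Helper19.U3P Cfsg.Agent.Lib.Helper25.SU3P Cfsg.Agent.Lib.helper14.SU3J Cfsg.Agent.Lib.helper7.Ce Matrix Polynomial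

universe u

section P

variable {F : Type u} [Field F] [Fintype F] {K : Type u} [Field K] [Fintype K] {q : ℕ} {Γ : Type*} [Group Γ] {π : Γ →* ↥(Cfsg.SU 3 F q)}

/-- P5a [M]  `cm t (x * x') = cm t x * (x * cm t x' * x⁻¹) = cm t x * cm t x' * c`, `c ∈ ⁅NU, NU⁆ ⊆ A0` (`NU_comm`; `cm t x' ∈ NU`); `A0 ≤ NA` is central in `NU` (`NA_central`): the generating set is closed under products and inverses. -/
theorem Vg_eq (D : Par F K q) (hF : Fintype.card F = q ^ 2) (hq : 3 ≤ q) (h : IsCE π) {hz : ↥(Cfsg.SU 3 F q)} (hhz : D.c.cj hz = dd D.σ (D.ζ : F))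
    {t : Γ} (ht : π t = hz) : ∀ g ∈ Vg D π t, ∃ x ∈ (Ug D).comap π, ∃ a ∈ A0 D π t, g = cm t x * a := by
  obtain ⟨hnU, hnA⟩ := su3mp5a_norm_core D hF ht (mem_Ug D) (mem_Ag D)
    (fun X α β hX => hz_conj D hF hhz X α β hX)
  exact su3mp5a_core D hnU hnA (NA_central D hF hq h hhz) (NU_comm D hF hq h hhz ht)

end P

end Cfsg.Agent.Lib.Helper24.SU3M
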