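import Mathlib
import Cfsg.Agent.Lib.helper8.A7R.Defs
import Cfsg.Agent.Lib.helper8.CountOrder
import Cfsg.Agent.Lib.helper8.SylowBasic
import Cfsg.Agent.Lib.helper8.SubgroupCard
import Cfsg.Agent.Lib.helper8.SylowConj
import Cfsg.Agent.Lib.Helper12.Ord.ThreeTransp

/-! A7R row B26 (`cls_three`), helper26: every Sylow 3-subgroup has exactly four elements of type 3A.

Route (two double counts, no use of the structure of `N(P)`):
* the involutions form one class of `2520 / 24 = 105` elements;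
* a 3A element commutes with exactly 3 involutions (those of `V`), an involution with exactly 2 elements of type 3A:
  `3 * #3A = 2 * 105`, so there are 70 elements of type 3A;
* a 3A element `x` lies in exactly 4 Sylow 3-subgroups (they are the Sylow 3-subgroups of `C(x)`, permuted transitively by `C(x)`,
  the stabilizer has odd order: an involution of `C(x) ∩ N(P)` would lie in `V` and centralize `P`);
* `#(3A ∩ P)` does not depend on `P` (Sylow), so `70 * 4 = 70 * #(3A ∩ P)`. -/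

set_option autoImplicit false

namespace Cfsg.Agent.Lib.helper8.A7R

universe u

variable {G : Type u} [Group G]

open Cfsg.Agent.Lib.helper8

theorem a7rb26_mem_cz {a b : G} : a ∈ Cz b ↔ a * b = b * a :=
  Subgroup.mem_centralizer_singleton_iff

theorem a7rb26_orderOf_conj (g x : G) : orderOf (g * x * g⁻¹) = orderOf x := by
  have := (MulAut.conj g).orderOf_eq x
  rwa [MulAut.conj_apply] at this

theorem a7rb26_card_cz_conj (g x : G) : Nat.card (Cz (g * x * g⁻¹)) = Nat.card (Cz x) := by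
  symm
  refine Nat.card_congr ((MulAut.conj g).toEquiv.subtypeEquiv fun c => ?_)
  show c ∈ Cz x ↔ (MulAut.conj g) c ∈ Cz (g * x * g⁻¹)
  rw [MulAut.conj_apply, a7rb26_mem_cz, a7rb26_mem_cz]
  constructor
  · intro h
    have e1 : g * c * g⁻¹ * (g * x * g⁻¹) = g * (c * x) * g⁻¹ := by group
    have e2 : g * x * g⁻¹ * (g * c * g⁻¹) = g * (x * c) * g⁻¹ := by group
    rw [e1, e2, h]
  · intro h
    have e1 : g * c * g⁻¹ * (g * x * g⁻¹) = g * (c * x) * g⁻¹ := by group
    have e2 : g * x * g⁻¹ * (g * c * g⁻¹) = g * (x * c) * g⁻¹ := by group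
    rw [e1, e2] at h
    exact mul_left_cancel (mul_right_cancel h)

theorem a7rb26_is3A_conj (g x : G) (h : Is3A x) : Is3A (g * x * g⁻¹) :=
  ⟨by rw [a7rb26_orderOf_conj, h.1], by rw [a7rb26_card_cz_conj, h.2]⟩

theorem a7rb26_is3A_conj_iff (g x : G) : Is3A (g * x * g⁻¹) ↔ Is3A x := by
  constructor
  · intro h
    have := a7rb26_is3A_conj g⁻¹ _ h
    have e : g⁻¹ * (g * x * g⁻¹) * g⁻¹⁻¹ = x := by group
    rwa [e] at this
  · exact a7rb26_is3A_conj g x

theorem a7rb26_cz_inv (x : G) : Cz x⁻¹ = Cz x := by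
  ext a
  rw [a7rb26_mem_cz, a7rb26_mem_cz]
  constructor
  · intro h
    exact ((Commute.inv_right_iff (a := a) (b := x)).mp h).eq
  · intro h
    exact ((Commute.inv_right_iff (a := a) (b := x)).mpr h).eq

theorem a7rb26_is3A_inv (x : G) (h : Is3A x) : Is3A x⁻¹ :=
  ⟨by rw [orderOf_inv, h.1], by rw [a7rb26_cz_inv, h.2]⟩

/-- a generic double count -/
theorem a7rb26_double_count {α β : Type*} [Finite α] [Finite β] (r : α → β → Prop) (p : α → Prop)
    (q : β → Prop) (m n : ℕ) (h1 : ∀ a, p a → Nat.card {b : β // q b ∧ r a b} = m)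
    (h2 : ∀ b, q b → Nat.card {a : α // p a ∧ r a b} = n) :
    Nat.card {a : α // p a} * m = Nat.card {b : β // q b} * n := by
  classical
  haveI : Fintype α := Fintype.ofFinite α
  haveI : Fintype β := Fintype.ofFinite β
  have key := Finset.sum_card_bipartiteAbove_eq_sum_card_bipartiteBelow
    (s := Finset.univ.filter p) (t := Finset.univ.filter q) r
  have e1 : ∀ a ∈ Finset.univ.filter p, ((Finset.univ.filter q).bipartiteAbove r a).card = m := by
    intro a ha
    rw [Finset.mem_filter] at ha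
    rw [← h1 a ha.2, Nat.card_eq_fintype_card, Fintype.card_subtype]
    congr 1
    ext b
    simp [Finset.bipartiteAbove, Finset.mem_filter]
  have e2 : ∀ b ∈ Finset.univ.filter q, ((Finset.univ.filter p).bipartiteBelow r b).card = n := by
    intro b hb
    rw [Finset.mem_filter] at hb
    rw [← h2 b hb.2, Nat.card_eq_fintype_card, Fintype.card_subtype]
    congr 1
    ext a
    simp [Finset.bipartiteBelow, Finset.mem_filter]
  rw [Finset.sum_congr rfl e1, Finset.sum_congr rfl e2, Finset.sum_const, Finset.sum_const,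
    smul_eq_mul, smul_eq_mul] at key
  rw [Nat.card_eq_fintype_card, Nat.card_eq_fintype_card, Fintype.card_subtype, Fintype.card_subtype]
  exact key

/-- the involutions form one class of 105 elements -/
theorem a7rb26_card_inv (hS : Std G)
    (hconj : ∀ u v : G, orderOf u = 2 → orderOf v = 2 → ∃ g : G, g * u * g⁻¹ = v)
    (h24 : ∀ u : G, orderOf u = 2 → Nat.card (Cz u) = 24) :
    Nat.card {v : G // orderOf v = 2} = 105 := by
  have := hS.finite
  obtain ⟨u, hu⟩ := exists_prime_orderOf_dvd_card' (G := G) 2 (by rw [hS.card]; norm_num)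
  have hset : {v : G | orderOf v = 2} = conjugatesOf u := by
    ext v
    show orderOf v = 2 ↔ IsConj u v
    rw [isConj_iff]
    constructor
    · intro hv
      exact hconj u v hu hv
    · rintro ⟨c, rfl⟩
      show orderOf (c * u * c⁻¹) = 2
      rw [a7rb26_orderOf_conj, hu]
  have h1 := Cfsg.Agent.Lib.Helper12.Ord.card_conjugatesOf_eq_index u
  have h2 := Subgroup.card_mul_index (Cz u)
  rw [h24 u hu, hS.card] at h2
  have h3 : Nat.card {v : G // orderOf v = 2} = Nat.card (conjugatesOf u) := by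
    rw [← hset]
    rfl
  rw [h3, h1]
  have h4 : (Subgroup.centralizer ({u} : Set G)).index = (Cz u).index := rfl
  rw [h4]
  omega

/-- a 3A element commutes with exactly three involutions -/
theorem a7rb26_inv_of_3A (hS : Std G) (h3 : St3 G) (x : G) (hx : Is3A x) :
    Nat.card {v : G // orderOf v = 2 ∧ x * v = v * x} = 3 := by
  have := hS.finite
  obtain ⟨V, hVle, hV4, hVexp, hVnorm, hVinv⟩ := h3.cent3V x hx
  have e : Nat.card {v : G // orderOf v = 2 ∧ x * v = v * x} = Nat.card {g : G // g ∈ V ∧ g ≠ 1} := by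
    refine Nat.card_congr (Equiv.subtypeEquivRight fun v => ?_)
    constructor
    · rintro ⟨hv2, hc⟩
      refine ⟨hVinv v (a7rb26_mem_cz.mpr hc.symm) hv2, ?_⟩
      rintro rfl
      rw [orderOf_one] at hv2
      omega
    · rintro ⟨hvV, hne⟩
      exact ⟨orderOf_eq_prime (hVexp v hvV) hne, (a7rb26_mem_cz.mp (hVle hvV)).symm⟩
  rw [e, h8_card_ne_one_subgroup V, hV4]

/-- an involution commutes with exactly two elements of type 3A -/
theorem a7rb26_3A_of_inv
    (hi3 : ∀ u : G, orderOf u = 2 → ∃ x ∈ Cz u, Is3A x ∧ ∀ y ∈ Cz u, orderOf y = 3 → y = x ∨ y = x⁻¹)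
    (v : G) (hv : orderOf v = 2) :
    Nat.card {x : G // Is3A x ∧ x * v = v * x} = 2 := by
  obtain ⟨x₀, hx₀C, hx₀A, huniq⟩ := hi3 v hv
  have hne : x₀ ≠ x₀⁻¹ := by
    intro h
    have h2 : x₀ ^ 2 = 1 := by
      rw [sq]
      nth_rewrite 2 [h]
      exact mul_inv_cancel x₀
    have := orderOf_dvd_of_pow_eq_one h2
    rw [hx₀A.1] at this
    omega
  have hset : {x : G | Is3A x ∧ x * v = v * x} = {x₀, x₀⁻¹} := by
    ext x
    simp only [Set.mem_ofPred_eq, Set.mem_insert_iff, Set.mem_singleton_iff]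
    constructor
    · rintro ⟨hxA, hc⟩
      exact huniq x (a7rb26_mem_cz.mpr hc) hxA.1
    · rintro (rfl | rfl)
      · exact ⟨hx₀A, a7rb26_mem_cz.mp hx₀C⟩
      · refine ⟨a7rb26_is3A_inv _ hx₀A, ?_⟩
        exact a7rb26_mem_cz.mp ((Cz v).inv_mem hx₀C)
  have : Nat.card {x : G // Is3A x ∧ x * v = v * x} = Set.ncard {x : G | Is3A x ∧ x * v = v * x} := rfl
  rw [this, hset, Set.ncard_pair hne]

/-- there are 70 elements of type 3A -/
theorem a7rb26_card_3A (hS : Std G) (h3 : St3 G)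
    (hconj : ∀ u v : G, orderOf u = 2 → orderOf v = 2 → ∃ g : G, g * u * g⁻¹ = v)
    (h24 : ∀ u : G, orderOf u = 2 → Nat.card (Cz u) = 24)
    (hi3 : ∀ u : G, orderOf u = 2 → ∃ x ∈ Cz u, Is3A x ∧ ∀ y ∈ Cz u, orderOf y = 3 → y = x ∨ y = x⁻¹) :
    Nat.card {x : G // Is3A x} = 70 := by
  have := hS.finite
  have key := a7rb26_double_count (α := G) (β := G) (fun x v => x * v = v * x) (fun x => Is3A x)
    (fun v => orderOf v = 2) 3 2 (fun x hx => a7rb26_inv_of_3A hS h3 x hx)
    (fun v hv => a7rb26_3A_of_inv hi3 v hv)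
  rw [a7rb26_card_inv hS hconj h24] at key
  omega

theorem a7rb26_mem_smul (g : G) (P : Sylow 3 G) (y : G) :
    y ∈ ((g • P : Sylow 3 G) : Subgroup G) ↔ g⁻¹ * y * g ∈ (P : Subgroup G) := by
  rw [Sylow.coe_subgroup_smul, Subgroup.mem_pointwise_smul_iff_inv_smul_mem]
  simp [MulAut.smul_def]

theorem a7rb26_sylow_le_cz (h3 : St3 G) (P : Sylow 3 G) (x : G) (hx : x ∈ (P : Subgroup G)) :
    (P : Subgroup G) ≤ Cz x := by
  intro p hp
  rw [a7rb26_mem_cz]
  have hxC : x ∈ Cs (P : Subgroup G) := by rw [h3.centP P]; exact hx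
  rw [Subgroup.mem_centralizer_iff] at hxC
  exact hxC p hp

theorem a7rb26_cardP (hS : Std G) (P : Sylow 3 G) : Nat.card (P : Subgroup G) = 9 := by
  have := hS.finite
  have : Fact (Nat.Prime 3) := ⟨Nat.prime_three⟩
  have := h8_sylow_card 3 2 280 (by rw [hS.card]; norm_num) (by norm_num) P
  simpa using this

/-- a 3A element lies in exactly four Sylow 3-subgroups -/
theorem a7rb26_nsyl (hS : Std G) (h3 : St3 G) (x : G) (hx : Is3A x) :
    Nat.card {P' : Sylow 3 G // x ∈ (P' : Subgroup G)} = 4 := by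
  have := hS.finite
  have : Fact (Nat.Prime 3) := ⟨Nat.prime_three⟩
  obtain ⟨V, hVle, hV4, hVexp, hVnorm, hVinv⟩ := h3.cent3V x hx
  have hp : IsPGroup 3 (Subgroup.zpowers x) :=
    IsPGroup.of_card (n := 1) (by rw [Nat.card_zpowers, hx.1]; norm_num)
  obtain ⟨P₀, hP₀⟩ := hp.exists_le_sylow
  have hxP₀ : x ∈ (P₀ : Subgroup G) := hP₀ (Subgroup.mem_zpowers x)
  have hP₀le : (P₀ : Subgroup G) ≤ Cz x := a7rb26_sylow_le_cz h3 P₀ x hxP₀
  -- the set of Sylow subgroups containing `x` is an orbit of `C(x)`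
  have horb : {P' : Sylow 3 G | x ∈ (P' : Subgroup G)} = MulAction.orbit (↥(Cz x)) P₀ := by
    ext P'
    rw [Set.mem_ofPred_eq, MulAction.mem_orbit_iff]
    constructor
    · intro hxP'
      have hP'le : (P' : Subgroup G) ≤ Cz x := a7rb26_sylow_le_cz h3 P' x hxP'
      obtain ⟨n, hn, hnP⟩ := h8_sylow_conj_in_subgroup 3 (Cz x) P₀ hP₀le (P' : Subgroup G)
        P'.isPGroup' hP'le
      refine ⟨⟨n⁻¹, (Cz x).inv_mem hn⟩, ?_⟩
      rw [Subgroup.smul_def]
      show n⁻¹ • P₀ = P'
      have hle : (P' : Subgroup G) ≤ ((n⁻¹ • P₀ : Sylow 3 G) : Subgroup G) := by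
        intro h hh
        rw [a7rb26_mem_smul, inv_inv]
        exact hnP h hh
      have := P'.is_maximal' (n⁻¹ • P₀ : Sylow 3 G).isPGroup' hle
      exact Sylow.ext this
    · rintro ⟨c, rfl⟩
      rw [Subgroup.smul_def, a7rb26_mem_smul]
      have hc : (c : G) * x = x * (c : G) := a7rb26_mem_cz.mp c.2
      have e : (c : G)⁻¹ * x * (c : G) = x := by
        rw [mul_assoc, ← hc, inv_mul_cancel_left]
      rw [e]
      exact hxP₀
  -- the stabilizer
  have hmemSt : ∀ c : ↥(Cz x), c ∈ MulAction.stabilizer (↥(Cz x)) P₀ ↔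
      (c : G) ∈ Nz (P₀ : Subgroup G) := by
    intro c
    rw [MulAction.mem_stabilizer_iff, Subgroup.smul_def, Sylow.smul_eq_iff_mem_normalizer]
    exact Iff.rfl
  have hidx := MulAction.index_stabilizer (↥(Cz x)) P₀
  have hcm := Subgroup.card_mul_index (MulAction.stabilizer (↥(Cz x)) P₀)
  rw [hx.2] at hcm
  have h9 : 9 ∣ Nat.card (MulAction.stabilizer (↥(Cz x)) P₀) := by
    have hle : (P₀ : Subgroup G).subgroupOf (Cz x) ≤ MulAction.stabilizer (↥(Cz x)) P₀ := by
      intro c hc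
      rw [Subgroup.mem_subgroupOf] at hc
      rw [hmemSt]
      exact Subgroup.le_normalizer hc
    have := Subgroup.card_dvd_of_le hle
    rwa [h8_card_subgroupOf hP₀le, a7rb26_cardP hS] at this
  have hodd : ¬ 2 ∣ Nat.card (MulAction.stabilizer (↥(Cz x)) P₀) := by
    intro h2
    obtain ⟨s, hs⟩ := exists_prime_orderOf_dvd_card'
      (G := ↥(MulAction.stabilizer (↥(Cz x)) P₀)) 2 h2
    have hv2 : orderOf ((s : ↥(Cz x)) : G) = 2 := by
      rw [Subgroup.orderOf_coe, Subgroup.orderOf_coe, hs]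
    have hvC : ((s : ↥(Cz x)) : G) ∈ Cz x := (s : ↥(Cz x)).2
    have hvN : ((s : ↥(Cz x)) : G) ∈ Nz (P₀ : Subgroup G) := (hmemSt s.1).mp s.2
    set v : G := ((s : ↥(Cz x)) : G) with hv
    have hvV : v ∈ V := hVinv v hvC hv2
    -- `v` centralizes `P₀`
    have hcent : v ∈ Cs (P₀ : Subgroup G) := by
      rw [Subgroup.mem_centralizer_iff]
      intro p hp
      have hp' : p ∈ (P₀ : Subgroup G) := hp
      have hw1 : v * p * v⁻¹ * p⁻¹ ∈ (P₀ : Subgroup G) := by
        refine (P₀ : Subgroup G).mul_mem ?_ ((P₀ : Subgroup G).inv_mem hp')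
        exact (Subgroup.mem_normalizer_iff.mp hvN p).mp hp'
      have hw2 : v * p * v⁻¹ * p⁻¹ ∈ V := by
        have e : v * p * v⁻¹ * p⁻¹ = v * (p * v⁻¹ * p⁻¹) := by group
        rw [e]
        exact V.mul_mem hvV (hVnorm p (hP₀le hp') v⁻¹ (V.inv_mem hvV))
      have e3 := h3.expP P₀ _ hw1
      have e2 := hVexp _ hw2
      have e1 : v * p * v⁻¹ * p⁻¹ = 1 := by
        have : (v * p * v⁻¹ * p⁻¹) ^ 3 = (v * p * v⁻¹ * p⁻¹) ^ 2 * (v * p * v⁻¹ * p⁻¹) := pow_succ _ 2
        rw [e3, e2, one_mul] at this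
        exact this.symm
      have e4 : v * p = p * v := by
        have : v * p = (v * p * v⁻¹ * p⁻¹) * (p * v) := by group
        rw [this, e1, one_mul]
      exact e4.symm
    rw [h3.centP P₀] at hcent
    have e3 := h3.expP P₀ v hcent
    have e2 := hVexp v hvV
    have e1 : v = 1 := by
      have : v ^ 3 = v ^ 2 * v := pow_succ _ 2
      rw [e3, e2, one_mul] at this
      exact this.symm
    rw [e1, orderOf_one] at hv2
    omega
  have hcard : Nat.card {P' : Sylow 3 G // x ∈ (P' : Subgroup G)} =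
      Set.ncard {P' : Sylow 3 G | x ∈ (P' : Subgroup G)} := rfl
  rw [hcard, horb, ← hidx]
  obtain ⟨k, hk⟩ := h9
  rw [hk] at hcm hodd
  have hk4 : k * (MulAction.stabilizer (↥(Cz x)) P₀).index = 4 := by
    have : 9 * (k * (MulAction.stabilizer (↥(Cz x)) P₀).index) = 9 * 4 := by
      rw [← mul_assoc, hcm]
    omega
  have hkle : k ≤ 4 := Nat.le_of_dvd (by norm_num) ⟨_, hk4.symm⟩
  interval_cases k
  · omega
  · omega
  · exfalso; exact hodd ⟨9, by norm_num⟩
  · omega
  · exfalso; exact hodd ⟨18, by norm_num⟩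

/-- the number of 3A elements of a Sylow 3-subgroup does not depend on the subgroup -/
theorem a7rb26_const (hS : Std G) (P P' : Sylow 3 G) :
    Nat.card {x : G // x ∈ (P : Subgroup G) ∧ Is3A x} =
      Nat.card {x : G // x ∈ (P' : Subgroup G) ∧ Is3A x} := by
  have := hS.finite
  have : Fact (Nat.Prime 3) := ⟨Nat.prime_three⟩
  obtain ⟨g, rfl⟩ := MulAction.exists_smul_eq G P P'
  refine Nat.card_congr ((MulAut.conj g).toEquiv.subtypeEquiv fun x => ?_)
  show (x ∈ (P : Subgroup G) ∧ Is3A x) ↔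
    ((MulAut.conj g) x ∈ ((g • P : Sylow 3 G) : Subgroup G) ∧ Is3A ((MulAut.conj g) x))
  rw [MulAut.conj_apply, a7rb26_mem_smul, a7rb26_is3A_conj_iff]
  have e : g⁻¹ * (g * x * g⁻¹) * g = x := by group
  rw [e]

/-- B26 -/
theorem cls_three (hS : Std G) (h1 : St1 G) (h2 : St2 G) (h3 : St3 G)
    (hconj : ∀ u v : G, orderOf u = 2 → orderOf v = 2 → ∃ g : G, g * u * g⁻¹ = v)
    (h24 : ∀ u : G, orderOf u = 2 → Nat.card (Cz u) = 24)
    (hi3 : ∀ u : G, orderOf u = 2 → ∃ x ∈ Cz u, Is3A x ∧ ∀ y ∈ Cz u, orderOf y = 3 → y = x ∨ y = x⁻¹)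
    (P : Sylow 3 G) : Nat.card {x : G // x ∈ (P : Subgroup G) ∧ Is3A x} = 4 := by
  have := hS.finite
  have : Fact (Nat.Prime 3) := ⟨Nat.prime_three⟩
  have key := a7rb26_double_count (α := G) (β := Sylow 3 G) (fun x P' => x ∈ (P' : Subgroup G))
    (fun x => Is3A x) (fun _ => True) 4 (Nat.card {x : G // x ∈ (P : Subgroup G) ∧ Is3A x})
    (fun x hx => by
      rw [← a7rb26_nsyl hS h3 x hx]
      exact Nat.card_congr (Equiv.subtypeEquivRight fun P' => by simp))
    (fun P' _ => by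
      rw [a7rb26_const hS P P']
      exact Nat.card_congr (Equiv.subtypeEquivRight fun x => and_comm))
  rw [a7rb26_card_3A hS h3 hconj h24 hi3] at key
  have hsyl : Nat.card {P' : Sylow 3 G // True} = 70 := by
    rw [← h2.syl3]
    exact Nat.card_congr (Equiv.subtypeUnivEquiv fun _ => trivial)
  rw [hsyl] at key
  omega

end Cfsg.Agent.Lib.helper8.A7R
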