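import Mathlib
import Cfsg.Prelude.Def_GeometricClasses
import Cfsg.Agent.Lib.Helper27.ASC.Defs
import Cfsg.Agent.Lib.Lead.ASCU.Defs
import Cfsg.Agent.Lib.Helper28.UHerm
import Cfsg.Agent.Lib.Helper29.ASCGRAM

/-!
# Project ASCU, piece UQF: an absolutely irreducible subgroup of `GU_n(q)` fixing a non-degenerate
quadratic form is realisable over `F_q`

`S` = Gram matrix of the polar form, `x̄ = S x S⁻¹` for `x ∈ P`; `J v = M v̄` (`M = λ S⁻¹`) is a semilinear
involution commuting with `P`; its fixed points span `V`; a basis of fixed points realises `P` over `Fix σ`.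
-/

set_option autoImplicit false
set_option linter.unusedVariables false
set_option linter.unusedSimpArgs false

namespace Cfsg.Agent.Lib.Lead.ASCU

open Cfsg Cfsg.Geo Cfsg.Agent.Lib.Helper27.ASC
open scoped MatrixGroups Matrix

variable {n : ℕ} {F : Type*} [Field F] [Fintype F]

/-- descent: a semilinear involution `v ↦ M v̄` commuting with `P` realises `P` over `Fix σ` -/
theorem ascuuqf_descent {n : ℕ} {F : Type*} [Field F] (σ : F ≃+* F) (hinv : ∀ a, σ (σ a) = a)
    (θ : F) (hθ : σ θ ≠ θ) (S : Set (Matrix (Fin n) (Fin n) F)) (M : Matrix (Fin n) (Fin n) F)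
    (hMM : M * M.map σ = 1) (hMs : ∀ s ∈ S, M * s.map σ = s * M) :
    RealisableOver ((σ : F →+* F).eqLocusField (RingHom.id F)) S := by
  classical
  -- the semilinear involution
  set J : (Fin n → F) → (Fin n → F) := fun v => M *ᵥ (fun j => σ (v j)) with hJ
  have hbar : ∀ (X : Matrix (Fin n) (Fin n) F) (v : Fin n → F),
      (fun j => σ ((X *ᵥ v) j)) = X.map σ *ᵥ (fun j => σ (v j)) := by
    intro X v
    ext j
    exact RingHom.map_mulVec (σ : F →+* F) X v j
  have hJJ : ∀ v, J (J v) = v := by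
    intro v
    simp only [hJ]
    rw [hbar, Matrix.mulVec_mulVec, hMM]
    simp only [hinv]
    rw [Matrix.one_mulVec]
  have hJadd : ∀ u v, J (u + v) = J u + J v := by
    intro u v
    simp only [hJ]
    rw [← Matrix.mulVec_add]
    congr 1
    ext j
    simp
  have hJsmul : ∀ (a : F) (v : Fin n → F), J (a • v) = σ a • J v := by
    intro a v
    simp only [hJ]
    rw [← Matrix.mulVec_smul]
    congr 1
    ext j
    simp
  -- fixed points span
  have hspan : Submodule.span F {w : Fin n → F | J w = w} = ⊤ := by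
    rw [eq_top_iff]
    intro v _
    have h1 : J (v + J v) = v + J v := by rw [hJadd, hJJ, add_comm]
    have h2 : J (θ • v + σ θ • J v) = θ • v + σ θ • J v := by
      rw [hJadd, hJsmul, hJsmul, hJJ, hinv, add_comm]
    have hd : σ θ - θ ≠ 0 := sub_ne_zero.mpr hθ
    have hv : v = (σ θ - θ)⁻¹ • (σ θ • (v + J v) - (θ • v + σ θ • J v)) := by
      have : σ θ • (v + J v) - (θ • v + σ θ • J v) = (σ θ - θ) • v := by
        rw [smul_add, sub_smul]
        abel
      rw [this, smul_smul, inv_mul_cancel₀ hd, one_smul]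
    rw [hv]
    exact Submodule.smul_mem _ _ (Submodule.sub_mem _
      (Submodule.smul_mem _ _ (Submodule.subset_span h1)) (Submodule.subset_span h2))
  -- a basis of fixed points
  obtain ⟨b, hbsub, hbspan, hbli⟩ := exists_linearIndependent F {w : Fin n → F | J w = w}
  have hbtop : ⊤ ≤ Submodule.span F (Set.range ((↑) : b → (Fin n → F))) := by
    rw [Subtype.range_coe, hbspan, hspan]
  let Bb : Module.Basis b F (Fin n → F) := Module.Basis.mk hbli hbtop
  let e : Fin n ≃ b := (Pi.basisFun F (Fin n)).indexEquiv Bb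
  set W : Matrix (Fin n) (Fin n) F := Matrix.of (fun i j => ((e j : b) : Fin n → F) i) with hW
  have hWcol : W.col = fun j => ((e j : b) : Fin n → F) := by
    ext j i
    rfl
  have hWu : IsUnit W := by
    rw [← Matrix.linearIndependent_cols_iff_isUnit, hWcol]
    exact hbli.comp e e.injective
  have hWdet : IsUnit W.det := (Matrix.isUnit_iff_isUnit_det W).mp hWu
  have hMW : M * W.map σ = W := by
    ext i j
    have h1 : J ((e j : b) : Fin n → F) = ((e j : b) : Fin n → F) := hbsub (e j).2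
    have h2 := congrFun h1 i
    simp only [hJ] at h2
    have hWij : ∀ i j, W i j = ((e j : b) : Fin n → F) i := fun i j => rfl
    rw [hWij, ← h2, Matrix.mul_apply]
    simp only [Matrix.mulVec, dotProduct, Matrix.map_apply, hWij]
  -- the change of basis
  refine ⟨(Matrix.GeneralLinearGroup.mk'' W hWdet)⁻¹, ?_⟩
  intro s hs i j
  have hB1 : (((Matrix.GeneralLinearGroup.mk'' W hWdet)⁻¹ : GL (Fin n) F) : Matrix (Fin n) (Fin n) F) = W⁻¹ := by
    rw [Matrix.coe_units_inv]
    rfl
  have hB2 : ((((Matrix.GeneralLinearGroup.mk'' W hWdet)⁻¹)⁻¹ : GL (Fin n) F) : Matrix (Fin n) (Fin n) F) = W := by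
    rw [inv_inv]
    rfl
  rw [hB1, hB2, RingHom.mem_eqLocusField]
  obtain ⟨A, hA⟩ : ∃ A : Matrix (Fin n) (Fin n) F, A = W⁻¹ * s * W := ⟨_, rfl⟩
  rw [← hA]
  have hWA : W * A = s * W := by
    rw [hA, ← Matrix.mul_assoc, ← Matrix.mul_assoc, Matrix.mul_nonsing_inv W hWdet, Matrix.one_mul]
  have hkey : W * A.map σ = W * A := by
    calc W * A.map σ = M * (W.map σ * A.map σ) := by
          rw [← Matrix.mul_assoc, hMW]
      _ = M * ((W * A).map σ) := by rw [Matrix.map_mul]
      _ = M * (s.map σ * W.map σ) := by rw [hWA, Matrix.map_mul]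
      _ = s * (M * W.map σ) := by rw [← Matrix.mul_assoc, hMs s hs, Matrix.mul_assoc]
      _ = W * A := by rw [hMW, hWA]
  have hAA : A.map σ = A := by
    have := congrArg (fun Z => W⁻¹ * Z) hkey
    simp only [← Matrix.mul_assoc] at this
    rw [Matrix.nonsing_inv_mul W hWdet, Matrix.one_mul, Matrix.one_mul] at this
    exact this
  have := congrFun (congrFun hAA i) j
  simpa using this


/-- UQF -/
theorem urealisable_of_quad (q : ℕ) (hF : Fintype.card F = q ^ 2) (hodd : Odd n) {P : Subgroup (GL (Fin n) F)}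
    (hPU : P ≤ GU n F q) (hA : AbsIrr P) (Q : (Fin n → F) → F) (hQ : IsNondegenerateQuadraticForm Q)
    (hfix : FixesQuadForm (matrixSet P) Q) :
    ∃ F₀ : Subfield F, F₀ ≠ ⊤ ∧ RealisableOver F₀ (matrixSet P) := by
  classical
  obtain ⟨σ, hσ, hf⟩ := Cfsg.Agent.Lib.Helper28.UHerm.herm_unitary hF n
  obtain ⟨θ, hθ⟩ := Cfsg.Agent.Lib.Helper28.UForm.exists_moved hf
  have hn0 : 0 < n := hodd.pos
  set i0 : Fin n := ⟨0, hn0⟩ with hi0
  have hbb : ∀ X : Matrix (Fin n) (Fin n) F, (X.map σ).map σ = X := by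
    intro X
    ext i j
    simp [hf.involutive]
  refine ⟨(σ : F →+* F).eqLocusField (RingHom.id F), ?_, ?_⟩
  · intro htop
    apply hθ
    have : θ ∈ (σ : F →+* F).eqLocusField (RingHom.id F) := by rw [htop]; trivial
    exact RingHom.mem_eqLocusField.mp this
  -- the unitary relation `sᵀ s̄ = 1`
  have hU : ∀ s ∈ matrixSet P, sᵀ * s.map σ = 1 := by
    rintro s ⟨g, hg, rfl⟩
    have hgU := (mem_GU_iff q g).mp (hPU hg)
    have h1 : ∀ u v : Fin n → F, hermForm n F q u v =
        u ⬝ᵥ ((1 : Matrix (Fin n) (Fin n) F) *ᵥ (fun j => (σ : F →+* F) (v j))) := by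
      intro u v
      rw [Matrix.one_mulVec]
      unfold Cfsg.hermForm dotProduct
      apply Finset.sum_congr rfl
      intro i _
      simp [hσ]
    have h2 := ascform_ext (σ : F →+* F)
      ((g : Matrix (Fin n) (Fin n) F)ᵀ * 1 * (g : Matrix (Fin n) (Fin n) F).map (σ : F →+* F)) 1 (by
        intro u v
        rw [← ascform_transport, ← h1, ← h1, hgU])
    rw [Matrix.mul_one] at h2
    exact h2
  -- the Gram matrix of the polar form
  obtain ⟨B, hB⟩ : ∃ B : (Fin n → F) → (Fin n → F) → F, B = QuadraticMap.polar Q := ⟨_, rfl⟩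
  have hBbil : IsBilinearForm B := hB ▸ hQ.polar_bilinear
  have hBnd : IsNondegenerateForm B := hB ▸ hQ.nondegenerate
  obtain ⟨S, hSdef⟩ : ∃ S : Matrix (Fin n) (Fin n) F, S = ascformGram B := ⟨_, rfl⟩
  have hgram : ∀ u v : Fin n → F, B u v = u ⬝ᵥ (S *ᵥ (fun j => (RingHom.id F) (v j))) := by
    intro u v
    rw [hSdef]
    exact ascform_gram (RingHom.id F) B hBbil.add_left hBbil.smul_left hBbil.add_right
      (fun c v x => by rw [hBbil.smul_right]; rfl) u v
  have hSu : IsUnit S.det := by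
    apply ascform_gram_isUnit_det (RingEquiv.refl F) S
    intro v hv
    obtain ⟨x, hx⟩ := (hBnd v hv).1
    refine ⟨x, ?_⟩
    rw [hgram] at hx
    exact hx
  have hBinv : ∀ s ∈ matrixSet P, ∀ u v, B (s *ᵥ u) (s *ᵥ v) = B u v := by
    intro s hs u v
    rw [hB]
    unfold QuadraticMap.polar
    rw [← Matrix.mulVec_add, hfix s hs, hfix s hs, hfix s hs]
  have hSinv : ∀ s ∈ matrixSet P, sᵀ * S * s = S := by
    intro s hs
    have h2 := ascform_ext (RingHom.id F) (sᵀ * S * s.map (RingHom.id F)) S (by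
      intro u v
      rw [← ascform_transport, ← hgram, ← hgram, hBinv s hs])
    have h3 : s.map (RingHom.id F) = s := by
      ext i j
      simp
    rw [h3] at h2
    exact h2
  -- `S s = s̄ S`
  have hSs : ∀ s ∈ matrixSet P, S * s = s.map σ * S := by
    intro s hs
    have h1 : s.map σ * sᵀ = 1 := mul_eq_one_comm.mp (hU s hs)
    calc S * s = (s.map σ * sᵀ) * (S * s) := by rw [h1, Matrix.one_mul]
      _ = s.map σ * (sᵀ * S * s) := by simp only [Matrix.mul_assoc]
      _ = s.map σ * S := by rw [hSinv s hs]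
  have hSS : S * S⁻¹ = 1 := Matrix.mul_nonsing_inv S hSu
  have hSS' : S⁻¹ * S = 1 := Matrix.nonsing_inv_mul S hSu
  obtain ⟨M0, hM0⟩ : ∃ M0 : Matrix (Fin n) (Fin n) F, M0 = S⁻¹ := ⟨_, rfl⟩
  have hM0s : ∀ s ∈ matrixSet P, M0 * s.map σ = s * M0 := by
    intro s hs
    calc M0 * s.map σ = M0 * (s.map σ * S) * M0 := by
          rw [hM0, Matrix.mul_assoc, Matrix.mul_assoc, hSS, Matrix.mul_one]
      _ = M0 * (S * s) * M0 := by rw [hSs s hs]
      _ = s * M0 := by
          rw [hM0, ← Matrix.mul_assoc, hSS', Matrix.one_mul]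
  -- `C = M0 M̄0` is scalar
  have hM0s' : ∀ s ∈ matrixSet P, M0.map σ * s = s.map σ * M0.map σ := by
    intro s hs
    have := congrArg (fun Z : Matrix (Fin n) (Fin n) F => Z.map σ) (hM0s s hs)
    simp only [Matrix.map_mul, hbb] at this
    exact this
  have hCs : ∀ s ∈ matrixSet P, (M0 * M0.map σ) * s = s * (M0 * M0.map σ) := by
    intro s hs
    rw [Matrix.mul_assoc, hM0s' s hs, ← Matrix.mul_assoc, hM0s s hs, Matrix.mul_assoc]
  obtain ⟨c, hc⟩ := hA.2 (M0 * M0.map σ) hCs
  have hone : (1 : Matrix (Fin n) (Fin n) F) i0 i0 = 1 := Matrix.one_apply_eq i0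
  have hc0 : c ≠ 0 := by
    rintro rfl
    rw [zero_smul] at hc
    have h1 : M0.map σ = 0 := by
      have := congrArg (fun Z => S * Z) hc
      simp only [← Matrix.mul_assoc, Matrix.mul_zero] at this
      rw [hM0, hSS, Matrix.one_mul] at this
      rw [hM0]
      exact this
    have h2 : M0 = 0 := by
      have := congrArg (fun Z : Matrix (Fin n) (Fin n) F => Z.map σ) h1
      simp only [hbb] at this
      rw [this]
      ext i j
      simp
    rw [hM0] at h2
    rw [h2, Matrix.mul_zero] at hSS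
    have := congrFun (congrFun hSS i0) i0
    rw [hone] at this
    exact zero_ne_one this
  have hcfix : σ c = c := by
    have h1 : M0.map σ * M0 = c • 1 := by
      have h2 : M0 * (c⁻¹ • M0.map σ) = 1 := by
        rw [Matrix.mul_smul, hc, smul_smul, inv_mul_cancel₀ hc0, one_smul]
      have h3 := mul_eq_one_comm.mp h2
      rw [Matrix.smul_mul] at h3
      have h4 := congrArg (fun Z => c • Z) h3
      simp only [smul_smul, mul_inv_cancel₀ hc0, one_smul] at h4
      exact h4
    have h5 : M0.map σ * M0 = (σ c) • 1 := by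
      have := congrArg (fun Z : Matrix (Fin n) (Fin n) F => Z.map σ) hc
      simp only [Matrix.map_mul, hbb] at this
      rw [this]
      ext i j
      by_cases hij : i = j
      · subst hij; simp
      · simp [hij]
    rw [h1] at h5
    have := congrFun (congrFun h5 i0) i0
    simp only [Matrix.smul_apply, hone, smul_eq_mul, mul_one] at this
    exact this.symm
  obtain ⟨l, hl⟩ := Cfsg.Agent.Lib.Helper28.UForm.norm_surj hf c⁻¹ (by rw [map_inv₀, hcfix])
  refine ascuuqf_descent σ hf.involutive θ hθ (matrixSet P) (l • M0) ?_ ?_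
  · have h1 : (l • M0).map σ = σ l • M0.map σ := by
      ext i j
      simp
    rw [h1, Matrix.smul_mul, Matrix.mul_smul, hc, smul_smul, smul_smul, hl,
      inv_mul_cancel₀ hc0, one_smul]
  · intro s hs
    rw [Matrix.smul_mul, hM0s s hs, Matrix.mul_smul]

end Cfsg.Agent.Lib.Lead.ASCU
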