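import Mathlib
import Cfsg.Prelude.Def_GeometricClasses
import Cfsg.Agent.Lib.Helper27.ASC.Defs
import Cfsg.Agent.Lib.Helper19.ASG.Defs
import Cfsg.Agent.Lib.Helper18.ASP.Defs
import Cfsg.Agent.Lib.Helper26.ASGD1.Defs
import Cfsg.Agent.Lib.Helper11.ASGD1INDEP
import Cfsg.Agent.Lib.Helper11.ASPD1COMPL

/-!
# Project ASP, block D1, piece MINUS, core (helper26): `N` is of minus type, with PM / EV as hypotheses
-/

set_option autoImplicit false
set_option linter.unusedVariables false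
set_option linter.unusedSectionVars false
set_option linter.unusedSimpArgs false

namespace Cfsg.Agent.Lib.Helper18.ASP

open Cfsg Cfsg.Geo Cfsg.Agent.Lib.Helper27.ASC Cfsg.Agent.Lib.Helper19.ASG
open scoped MatrixGroups Matrix

variable {n : ℕ} {F : Type*} [Field F] [Fintype F]

/-- an elementary abelian subgroup of `N` without `-1` has fewer than `n` elements -/
theorem aspd1minus_small (hn : 2 ≤ n) (f : (Fin n → F) → (Fin n → F) → F)
    {N : Subgroup (GL (Fin n) F)} (hNI : N ≤ isoGL f) (hA : AbsIrr N) (hab : ⁅N, N⁆ ≤ scalars (Fin n) F)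
    (hpm : ∀ c : Fˣ, (d1scal c : GL (Fin n) F) ∈ isoGL f → c = 1 ∨ c = -1)
    (hev : ∀ A : Subgroup (GL (Fin n) F), A ≤ isoGL f → (∀ a ∈ A, ∀ b ∈ A, a * b = b * a) → (∀ a ∈ A, a * a = 1) →
      LinearIndependent F (fun a : A => ((a : GL (Fin n) F) : Matrix (Fin n) (Fin n) F)) → Nat.card A < n)
    (B : Subgroup (GL (Fin n) F)) (hBN : B ≤ N) (hcomm : ∀ a ∈ B, ∀ b ∈ B, a * b = b * a) (hsq : ∀ a ∈ B, a * a = 1)
    (hz : (d1scal (-1 : Fˣ) : GL (Fin n) F) ∉ B) : Nat.card B < n := by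
  apply hev B (hBN.trans hNI) hcomm hsq
  apply d1_indep (by omega) hA hab (fun a : B => (a : GL (Fin n) F)) (fun a => hBN a.2)
  intro a b hab'
  obtain ⟨c, hc⟩ := (mem_scalars_iff_d1scal _).mp hab'
  have hmem : (d1scal c : GL (Fin n) F) ∈ B := hc ▸ B.mul_mem (B.inv_mem a.2) b.2
  rcases hpm c (hNI (hBN hmem)) with rfl | rfl
  · rw [d1scal_one] at hc
    apply Subtype.ext
    exact inv_mul_eq_one.mp hc
  · exact absurd hmem hz

/-- D1-MINUS, core -/
theorem aspd1minus_core (hn : 2 ≤ n) (f : (Fin n → F) → (Fin n → F) → F)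
    {N : Subgroup (GL (Fin n) F)} (hNI : N ≤ isoGL f) (hA : AbsIrr N) (hab : ⁅N, N⁆ ≤ scalars (Fin n) F)
    (k : ℕ) (hk : n = 2 ^ k) (h2 : (2 : F) ≠ 0)
    (hpm : ∀ c : Fˣ, (d1scal c : GL (Fin n) F) ∈ isoGL f → c = 1 ∨ c = -1)
    (hev : ∀ A : Subgroup (GL (Fin n) F), A ≤ isoGL f → (∀ a ∈ A, ∀ b ∈ A, a * b = b * a) → (∀ a ∈ A, a * a = 1) →
      LinearIndependent F (fun a : A => ((a : GL (Fin n) F) : Matrix (Fin n) (Fin n) F)) → Nat.card A < n) :
    IsOfMinusType k N := by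
  classical
  intro A hAc hAsq
  obtain ⟨B, hB⟩ : ∃ B : Subgroup (GL (Fin n) F), B = A.map N.subtype := ⟨_, rfl⟩
  have hcard : Nat.card B = Nat.card A := by
    rw [hB]
    exact Nat.card_congr (A.equivMapOfInjective N.subtype N.subtype_injective).symm.toEquiv
  have hBN : B ≤ N := by
    rw [hB]
    rintro _ ⟨x, -, rfl⟩
    exact x.2
  have hcomm : ∀ a ∈ B, ∀ b ∈ B, a * b = b * a := by
    rw [hB]
    rintro _ ⟨x, hx, rfl⟩ _ ⟨y, hy, rfl⟩
    have h1 : (⟨x, hx⟩ : A) * ⟨y, hy⟩ = ⟨y, hy⟩ * ⟨x, hx⟩ := hAc.is_comm.comm _ _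
    have h3 : x * y = y * x := congrArg (fun z : A => (z : N)) h1
    have h4 := congrArg (fun z : N => (z : GL (Fin n) F)) h3
    exact h4
  have hsq : ∀ a ∈ B, a * a = 1 := by
    rw [hB]
    rintro _ ⟨x, hx, rfl⟩
    have h1 := hAsq x hx
    have h4 := congrArg (fun z : N => (z : GL (Fin n) F)) h1
    exact h4
  rw [← hcard]
  have hnk : n < 2 ^ (k + 1) := by
    rw [hk, pow_succ]
    have : 0 < 2 ^ k := Nat.pos_of_ne_zero (by positivity)
    omega
  by_cases hz : (d1scal (-1 : Fˣ) : GL (Fin n) F) ∈ B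
  · have hz1 : (d1scal (-1 : Fˣ) : GL (Fin n) F) ≠ 1 := by
      intro h
      rw [← d1scal_one] at h
      have h3 := d1scal_injective (by omega : 0 < n) h
      have h4 : ((-1 : Fˣ) : F) = 1 := by rw [h3]; rfl
      apply h2
      have h5 : (-1 : F) = 1 := by simpa using h4
      linear_combination -h5
    obtain ⟨B₀, hB₀, hzB₀, hle⟩ := spd1_compl B hcomm hsq _ hz hz1
    have h1 := aspd1minus_small hn f hNI hA hab hpm hev B₀ (hB₀.trans hBN)
      (fun a ha b hb => hcomm a (hB₀ ha) b (hB₀ hb)) (fun a ha => hsq a (hB₀ ha)) hzB₀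
    have h3 : 2 ^ (k + 1) = 2 * n := by rw [hk, pow_succ, mul_comm]
    omega
  · exact (aspd1minus_small hn f hNI hA hab hpm hev B hBN hcomm hsq hz).trans hnk

end Cfsg.Agent.Lib.Helper18.ASP
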