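import Mathlib
import Cfsg.Prelude.Def_GeometricClasses
import Cfsg.Agent.Lib.Helper27.ASC.Defs
import Cfsg.Agent.Lib.Helper19.ASG.Defs
import Cfsg.Agent.Lib.Helper18.ASP.Defs
import Cfsg.Agent.Lib.Helper26.ASGD1.Defs
import Cfsg.Agent.Lib.Helper26.ASPD1MINUScore
import Cfsg.Agent.Lib.Helper19.ASGD1GRP
import Cfsg.Agent.Lib.Helper13.ASPD1SQ
import Cfsg.Agent.Lib.Helper27.ASPD1EV

/-!
# Project ASP, block D1, piece MINUS (helper26): `N` is of minus type (verbatim wrapper of `aspd1minus_core`)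
-/

set_option autoImplicit false
set_option linter.unusedVariables false
set_option linter.unusedSectionVars false

namespace Cfsg.Agent.Lib.Helper18.ASP

open Cfsg Cfsg.Geo Cfsg.Agent.Lib.Helper27.ASC Cfsg.Agent.Lib.Helper19.ASG
open scoped MatrixGroups Matrix commutatorElement

variable {n : ℕ} {F : Type*} [Field F] [Fintype F]

/-- a non-trivial commutator of `N` is the scalar `-1`, so `2 ≠ 0` -/
theorem aspd1minus_two_ne_zero (hn : 2 ≤ n) (f : (Fin n → F) → (Fin n → F) → F) (hf : IsSymplecticForm f)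
    {N : Subgroup (GL (Fin n) F)} (hNI : N ≤ isoGL f) (hA : AbsIrr N) (hab : ⁅N, N⁆ ≤ scalars (Fin n) F) :
    (2 : F) ≠ 0 := by
  obtain ⟨x, hx, y, hy, hxy⟩ := d1_nonab hn hA
  have hcN : ⁅x, y⁆ ∈ N := N.mul_mem (N.mul_mem (N.mul_mem hx hy) (N.inv_mem hx)) (N.inv_mem hy)
  obtain ⟨ω, hω⟩ := (mem_scalars_iff_d1scal _).mp (hab (Subgroup.commutator_mem_commutator hx hy))
  have hne : ⁅x, y⁆ ≠ 1 := fun h => hxy (commutatorElement_eq_one_iff_mul_comm.mp h)
  intro h2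
  have hneg : (-1 : Fˣ) = 1 := by
    apply Units.ext
    simp only [Units.val_neg, Units.val_one]
    linear_combination -h2
  apply hne
  rcases aspd1sq_pm (by omega) f hf ω (hω ▸ hNI hcN) with rfl | rfl
  · rw [hω, d1scal_one]
  · rw [hω, hneg, d1scal_one]

/-- D1-MINUS -/
theorem spd1_minus (hn : 2 ≤ n) (f : (Fin n → F) → (Fin n → F) → F) (hf : IsSymplecticForm f)
    {N : Subgroup (GL (Fin n) F)} (hNI : N ≤ isoGL f) (hA : AbsIrr N) (hab : ⁅N, N⁆ ≤ scalars (Fin n) F)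
    (k : ℕ) (hk : n = 2 ^ k) : IsOfMinusType k N := by
  have h2 : (2 : F) ≠ 0 := aspd1minus_two_ne_zero hn f hf hNI hA hab
  exact aspd1minus_core hn f hNI hA hab k hk h2 (fun c hc => aspd1sq_pm (by omega) f hf c hc)
    (fun A hAI hc hs hli => spd1_indep_ev (by omega) f hf h2 A hAI hc hs hli)

end Cfsg.Agent.Lib.Helper18.ASP
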