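import Cfsg.Agent.Lib.Helper26.ASUCMAINcore
import Cfsg.Agent.Lib.Helper26.ASUC22
import Cfsg.Agent.Lib.Helper19.ASUC33MAIN

set_option autoImplicit false
set_option linter.unusedVariables false
set_option linter.unusedSectionVars false

/-!
# Project ASU, block C : `u_tensor_case` (interface of `Helper19/ASU/Skel.lean.txt`), helper26

`centAlg N ≃ M_k(F)`, `1 < k < n` : class 4 (`k ≠ d`), class 7 (`k = d ≥ 3`, `(q, k) ≠ (2, 3)`), class 5 (`k = d = 2`, `uc_two_two`),
class 6 (`(q, k, d) = (2, 3, 3)`, `uc_three_three`, helper19).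
-/

namespace Cfsg.Agent.Lib.Helper19.ASU

open Cfsg Cfsg.Geo Cfsg.Agent.Lib.Helper27.ASC Cfsg.Agent.Lib.Helper19.ASG
open scoped MatrixGroups Matrix

variable {n : ℕ} {F : Type*} [Field F] [Fintype F]

/-- U-C -/
theorem u_tensor_case (q : ℕ) (hF : Fintype.card F = q ^ 2) (hn : 3 ≤ n) {H N : Subgroup (GL (Fin n) F)}
    (hI : H ≤ GU n F q) (hH : Irr H) (hN : NormalIn N H) {k : ℕ}
    (φ : centAlg N ≃ₐ[F] Matrix (Fin k) (Fin k) F) (hk1 : 1 < k) (hkn : k < n) : InU n q H := by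
  refine u_tensor_case_core q hF hn hI hH hN φ hk1 hkn
    (fun e P A B hA hB hAh hBh hK hHle => uc_two_two q hF hI e P A B hA hB hAh hBh hK hHle) ?_
  rintro rfl e P A B hA hB hAh hBh hK hHle
  exact uc_three_three hF hI e P A B hA hB hAh hBh hK hHle

end Cfsg.Agent.Lib.Helper19.ASU
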