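import Mathlib
import Cfsg.Prelude.Def_GeometricClasses
import Cfsg.Agent.Lib.helper4.ASCES6

/-!
# A finite field with a primitive `k`-th root of unity is the minimal field for `k`, or the `k`-th roots of unity lie in a
proper subfield (helper26; generic, for the symplectic-type blocks of ASU / ASP / ASO)
-/

set_option autoImplicit false
set_option linter.unusedVariables false
set_option linter.unusedSectionVars false

namespace Cfsg.Agent.Lib.Helper26.FieldMin

open Cfsg Cfsg.Geo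

variable {F : Type*} [Field F] [Fintype F]

/-- the dichotomy, with the characteristic and the degree exposed -/
theorem fieldmin_cases (k : ℕ) (ζ : Fˣ) (hζ : orderOf ζ = k) :
    ∃ p e₀ : ℕ, p.Prime ∧ CharP F p ∧ Fintype.card F = p ^ e₀ ∧
      (IsMinimalFieldFor k p e₀ F ∨
        ∃ e : ℕ, 0 < e ∧ e < e₀ ∧ k ∣ p ^ e - 1 ∧
          ∃ F₀ : Subfield F, F₀ ≠ ⊤ ∧ ∀ c : Fˣ, c ^ k = 1 → (c : F) ∈ F₀) := by
  classical
  obtain ⟨p, hchar⟩ := CharP.exists F
  have := hchar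
  obtain ⟨e₀, hpp, hcard⟩ := FiniteField.card F p
  have : Fact p.Prime := ⟨hpp⟩
  have hp1 : 1 < p := hpp.one_lt
  refine ⟨p, e₀, hpp, hchar, hcard, ?_⟩
  have hk0 : k ∣ p ^ (e₀ : ℕ) - 1 := by
    have h1 : orderOf ζ ∣ Fintype.card Fˣ := orderOf_dvd_card
    rwa [hζ, Fintype.card_units, hcard] at h1
  have hex : ∃ d : ℕ, 0 < d ∧ k ∣ p ^ d - 1 := ⟨e₀, e₀.pos, hk0⟩
  obtain ⟨e, he⟩ : ∃ e : ℕ, e = Nat.find hex := ⟨_, rfl⟩
  obtain ⟨he0, hek⟩ : 0 < e ∧ k ∣ p ^ e - 1 := he ▸ Nat.find_spec hex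
  have hmin : ∀ d : ℕ, 0 < d → d < e → ¬ k ∣ p ^ d - 1 := by
    intro d hd0 hde hdk
    have := Nat.find_min hex (he ▸ hde)
    exact this ⟨hd0, hdk⟩
  have hle : e ≤ e₀ := he ▸ Nat.find_min' hex ⟨e₀.pos, hk0⟩
  rcases Nat.eq_or_lt_of_le hle with heq | hlt
  · left
    exact ⟨hpp, hchar, hcard, hk0, fun d hd0 hde => hmin d hd0 (heq ▸ hde)⟩
  · right
    refine ⟨e, he0, hlt, hek, (iterateFrobenius F p e).eqLocusField (RingHom.id F),
      Cfsg.Agent.Lib.Helper27.ASC.asces6_fixed_ne_top p hcard he0 hlt, ?_⟩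
    intro c hc
    rw [RingHom.mem_eqLocusField, iterateFrobenius_def, RingHom.id_apply]
    have hpe1 : 1 ≤ p ^ e := Nat.one_le_pow _ _ (by omega)
    obtain ⟨t, ht⟩ := hek
    have h1 : c ^ (p ^ e - 1) = 1 := by
      rw [ht, pow_mul, hc, one_pow]
    have h2 : (c : F) ^ (p ^ e - 1) = 1 := by
      rw [← Units.val_pow_eq_pow_val, h1, Units.val_one]
    calc (c : F) ^ p ^ e = (c : F) ^ (p ^ e - 1) * (c : F) := by
          rw [← pow_succ, Nat.sub_add_cancel hpe1]
      _ = (c : F) := by rw [h2, one_mul]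

/-- the unitary version: `|F| = q ^ 2`, `k = r * gcd(2, r)` for a prime `r` -/
theorem fieldmin_unitary {r : ℕ} (hr : r.Prime) (q : ℕ) (hF : Fintype.card F = q ^ 2) (ζ : Fˣ)
    (hζ : orderOf ζ = r * Nat.gcd 2 r) :
    (∃ p e : ℕ, r ≠ p ∧ IsMinimalFieldFor (r * Nat.gcd 2 r) p e F ∧ (r = 2 → e = 2)) ∨
    (∃ F₀ : Subfield F, F₀ ≠ ⊤ ∧ ∀ c : Fˣ, c ^ (r * Nat.gcd 2 r) = 1 → (c : F) ∈ F₀) := by
  obtain ⟨p, e₀, hpp, hchar, hcard, h⟩ := fieldmin_cases (r * Nat.gcd 2 r) ζ hζ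
  rcases h with hmin | ⟨e, -, -, -, F₀, h0, hc⟩
  · left
    refine ⟨p, e₀, ?_, hmin, ?_⟩
    · rintro rfl
      -- `r ∣ r ^ e₀ - 1` is impossible
      have h1 : r ∣ r ^ e₀ - 1 := (Dvd.intro _ rfl).trans hmin.2.2.2.1
      have he0 : e₀ ≠ 0 := by
        rintro rfl
        have : Fintype.card F = 1 := by rw [hcard, pow_zero]
        exact absurd this (Fintype.one_lt_card).ne'
      have h2 : r ∣ r ^ e₀ := dvd_pow_self r he0
      have h3 : 1 ≤ r ^ e₀ := Nat.one_le_pow _ _ hr.pos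
      have h4 : r ∣ 1 := by
        have := (Nat.dvd_sub h2 h1)
        rwa [Nat.sub_sub_self h3] at this
      exact hr.one_lt.ne' (Nat.dvd_one.mp h4)
    · rintro rfl
      -- `k = 4`, `4 ∣ p ^ 2 - 1`, `e₀` even and minimal
      have hk : 2 * Nat.gcd 2 2 = 4 := by norm_num
      rw [hk] at hmin
      have hp2 : p ≠ 2 := by
        rintro rfl
        have h1 : 4 ∣ 2 ^ e₀ - 1 := hmin.2.2.2.1
        have he0 : e₀ ≠ 0 := by
          rintro rfl
          have : Fintype.card F = 1 := by rw [hcard, pow_zero]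
          exact absurd this (Fintype.one_lt_card).ne'
        have h2 : 2 ∣ 2 ^ e₀ := dvd_pow_self 2 he0
        have h3 : 1 ≤ 2 ^ e₀ := Nat.one_le_pow _ _ (by norm_num)
        omega
      have hpodd : p % 2 = 1 := by
        rcases hpp.eq_two_or_odd with h | h
        · exact absurd h hp2
        · exact h
      have h4 : 4 ∣ p ^ 2 - 1 := by
        have h5 : p % 4 = 1 ∨ p % 4 = 3 := by omega
        have h6 : p ^ 2 % 4 = 1 := by
          rcases h5 with h | h <;> simp [pow_two, Nat.mul_mod, h]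
        have h7 : 1 ≤ p ^ 2 := Nat.one_le_pow _ _ hpp.pos
        omega
      -- `e₀` is even
      have heven : Even e₀ := by
        have h1 : q ^ 2 = p ^ e₀ := by rw [← hF, hcard]
        have hq : q ∣ p ^ e₀ := h1 ▸ Dvd.intro_left (q ^ 1) (by ring)
        obtain ⟨a, -, rfl⟩ := (Nat.dvd_prime_pow hpp).mp hq
        rw [← pow_mul] at h1
        have := Nat.pow_right_injective hpp.two_le h1
        exact ⟨a, by omega⟩
      obtain ⟨a, ha⟩ := heven
      by_contra hne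
      have h2lt : 2 < e₀ := by
        have : e₀ ≠ 0 := by
          rintro h
          have : Fintype.card F = 1 := by rw [hcard, h, pow_zero]
          exact absurd this (Fintype.one_lt_card).ne'
        omega
      exact hmin.2.2.2.2 2 (by norm_num) h2lt h4
  · right
    exact ⟨F₀, h0, hc⟩

end Cfsg.Agent.Lib.Helper26.FieldMin
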