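import Mathlib
import Cfsg.Agent.Lib.Lead.BCG.Defs
import Cfsg.Agent.Lib.helper17.BCGPSP
import Cfsg.Agent.Lib.Helper20.BCGR1

set_option autoImplicit false

/-!
# Project BCG, row S6 (helper26): the core of `s_ps_suf`, with the statement of S1 (`sp_cauchy`) as a hypothesis
(R1 `cof_facts` and helper17's `bcgpsp_emb_order_p` are cited from main).
-/

namespace Cfsg.Agent.Lib.Lead.BCG

open Polynomial Module Matrix Cfsg.Agent.Lib.Helper13.S5955 Cfsg.Agent.Lib.helper15.S5972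
  Cfsg.Agent.Lib.Helper18.ONE Cfsg.Agent.Lib.Lead.BCS

/-- `2 ≠ 0` in a finite field of odd order -/
theorem bcgs6_two_ne {F : Type*} [Field F] [Fintype F] {p : ℕ} [Fact p.Prime] [CharP F p]
    (hodd : Odd (Fintype.card F)) : (2 : F) ≠ 0 := by
  intro h
  have hp : p.Prime := Fact.out
  have h1 : ((2 : ℕ) : F) = 0 := by exact_mod_cast h
  have h3 : p ∣ 2 := (CharP.cast_eq_zero_iff F p 2).mp h1
  have h4 : p = 2 := (Nat.prime_dvd_prime_iff_eq hp Nat.prime_two).mp h3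
  obtain ⟨k, _, hk⟩ := FiniteField.card F p
  rw [hk, h4] at hodd
  have : Even (2 ^ (k : ℕ)) := (Nat.even_pow' (by exact k.ne_zero)).mpr even_two
  exact (Nat.not_even_iff_odd.mpr hodd) this

/-- a prime `s ≠ p` does not divide the order of the field -/
theorem bcgs6_not_dvd {F : Type*} [Field F] [Fintype F] {p : ℕ} [Fact p.Prime] [CharP F p]
    (s : ℕ) [Fact s.Prime] (hsp : s ≠ p) : ¬ s ∣ Fintype.card F := by
  intro h
  have hp : p.Prime := Fact.out
  have hs : s.Prime := Fact.out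
  obtain ⟨k, _, hk⟩ := FiniteField.card F p
  rw [hk] at h
  exact hsp ((Nat.prime_dvd_prime_iff_eq hs hp).mp (hs.dvd_of_dvd_pow h))

/-- the core of S6 -/
theorem bcgs6_core {F : Type*} [Field F] [Fintype F] {p : ℕ} [Fact p.Prime] [CharP F p]
    (hodd : Odd (Fintype.card F)) (n : ℕ) (hn : 3 ≤ n) (s : ℕ) [Fact s.Prime] (hsp : s ≠ p)
    (hs2 : s ≠ 2) (h : CritP (Fintype.card F) n s)
    (hS1 : ∀ (m j : ℕ), 1 ≤ j → j ≤ m → s ∣ Fintype.card F ^ (2 * j) - 1 →
      ∃ y : Matrix.symplecticGroup (Fin m) F, orderOf y = s) :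
    p * s ∈ Set.range (orderOf : Cfsg.PSp n F → ℕ) := by
  have hs : s.Prime := Fact.out
  have hp : p.Prime := Fact.out
  obtain ⟨hce, hc2, hcd⟩ := cof_facts (Fintype.card F) s hs hs2 (bcgs6_not_dvd s hsp)
  obtain ⟨j, hj⟩ := hce
  unfold CritP at h
  obtain ⟨m, rfl⟩ : ∃ m, n = m + 1 := ⟨n - 1, by omega⟩
  have hj2 : cOf (Fintype.card F) s = 2 * j := by omega
  rw [hj2] at hcd
  obtain ⟨y, hy⟩ := hS1 m j (by omega) (by omega) hcd
  have hcop : (orderOf y).Coprime p := by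
    rw [hy]
    exact (Nat.coprime_primes hs hp).mpr hsp
  have h3 := Cfsg.Agent.Lib.helper17.BCGPSP.bcgpsp_emb_order_p (bcgs6_two_ne hodd) m y hcop
  rw [hy, mul_comm] at h3
  exact h3

end Cfsg.Agent.Lib.Lead.BCG
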