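import Mathlib
import Cfsg.Agent.Lib.Lead.BCG.Defs
import Cfsg.Agent.Lib.Helper26.BCGS6core
import Cfsg.Agent.Lib.Helper11.BCGS1

set_option autoImplicit false

/-!
# Project BCG, row S6 (helper26): `s_ps_suf`, verbatim (= `bcgs6_core` + S1 `sp_cauchy`).
-/

namespace Cfsg.Agent.Lib.Lead.BCG

open Polynomial Module Matrix Cfsg.Agent.Lib.Helper13.S5955 Cfsg.Agent.Lib.helper15.S5972
  Cfsg.Agent.Lib.Helper18.ONE Cfsg.Agent.Lib.Lead.BCS

/-- S6 [M] -/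
theorem s_ps_suf {F : Type*} [Field F] [Fintype F] {p : ℕ} [Fact p.Prime] [CharP F p]
    (hodd : Odd (Fintype.card F)) (n : ℕ) (hn : 3 ≤ n) (s : ℕ) [Fact s.Prime] (hsp : s ≠ p)
    (hs2 : s ≠ 2) (h : CritP (Fintype.card F) n s) :
    p * s ∈ Set.range (orderOf : Cfsg.PSp n F → ℕ) :=
  bcgs6_core hodd n hn s hsp hs2 h (fun m j hj1 hjm hs => sp_cauchy m s j hj1 hjm hs)

end Cfsg.Agent.Lib.Lead.BCG
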