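import Mathlib
import Cfsg.Agent.Lib.Lead.BCG.Defs
import Cfsg.Agent.Lib.helper15.BCGT5
import Cfsg.Agent.Lib.Helper11.BCGX3
import Cfsg.Agent.Lib.Helper25.BCGX4
import Cfsg.Agent.Lib.helper15.S5972STDCTX
import Cfsg.Agent.Lib.Helper25.S5972OMEGAODD
import Cfsg.Agent.Lib.Helper26.BCGS6core

set_option autoImplicit false
set_option linter.unusedVariables false

/-!
# Project BCG, row T7 (second copy by helper26): the core of `odd_S_to_O` with the statements of X1 (`sp_ctx`) and T3 (`s_restrict_geo`)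
as hypotheses.
-/

namespace Cfsg.Agent.Lib.Lead.BCG

open Polynomial Module Matrix Cfsg.Agent.Lib.Helper13.S5955 Cfsg.Agent.Lib.helper15.S5972
  Cfsg.Agent.Lib.Helper18.ONE Cfsg.Agent.Lib.Lead.BCS

/-- the core of T7 -/
theorem bcgt7_h26 {F : Type*} [Field F] [Fintype F] {p : ℕ} [Fact p.Prime] [CharP F p]
    (hodd : Odd (Fintype.card F)) (n : ℕ) (hn : 3 ≤ n) (N : ℕ) (hNo : Odd N) (hN1 : 1 < N)
    (hNp : ¬ p ∣ N) (hx : ∃ x : Matrix.symplecticGroup (Fin n) F, orderOf x = N)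
    (hX1 : ∀ x : Matrix.symplecticGroup (Fin n) F, x ^ N = 1 →
      SCtx N (stdB n F) (Matrix.toLin' (x : Matrix (Fin n ⊕ Fin n) (Fin n ⊕ Fin n) F)))
    (hT3 : ∀ x : Module.End F (Fin n ⊕ Fin n → F), SCtx N (stdB n F) x →
      ∃ (h' : ℕ) (y₀ : Module.End F (Fin h' ⊕ Fin h' → F)), SCtx N (stdB h' F) y₀ ∧
        fixS y₀ = ⊥ ∧ 2 * h' + finrank F (fixS x) = finrank F (Fin n ⊕ Fin n → F) ∧ SameOrd y₀ x) :
    InO n F N := by
  obtain ⟨x, hxo⟩ := hx
  have h2 : (2 : F) ≠ 0 := bcgs6_two_ne hodd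
  have hxN : x ^ N = 1 := by rw [← hxo]; exact pow_orderOf_eq_one x
  have hctx := hX1 x hxN
  obtain ⟨h', y₀, hy₀, hfix, hdim, hsame⟩ := hT3 _ hctx
  have hfr : finrank F (Fin n ⊕ Fin n → F) = 2 * n := by
    rw [Module.finrank_fintype_fun_eq_card, Fintype.card_sum, Fintype.card_fin]
    ring
  have hh : h' ≤ n := by omega
  obtain ⟨y, hyctx, hsame2⟩ := o_of_fpf_std h2 hNo hN1 h' n hh y₀ hy₀ hfix
  obtain ⟨X, hXiso, hXy, _⟩ := o_realize h2 n N y hyctx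
  have hord : orderOf X = orderOf x := by
    rw [orderOf_eq_orderOf_iff]
    intro k
    rw [gl_same X k, hXy, hsame2 k, hsame k, ← sp_same n x k]
  have hXo : orderOf X = N := by rw [hord, hxo]
  refine ⟨X, omega_of_odd hodd n hn X hXiso (by rw [hXo]; exact hNo), hXo⟩

end Cfsg.Agent.Lib.Lead.BCG
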