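import Mathlib
import Cfsg.Agent.Lib.Lead.BCG.Defs
import Cfsg.Agent.Lib.Helper26.BCGT7h26
import Cfsg.Agent.Lib.Helper1.BCGT3
import Cfsg.Agent.Lib.helper8.S5955X1
import Cfsg.Agent.Lib.helper6.Symp

set_option autoImplicit false

/-!
# Project BCG, row T7 (helper26, second writer): spare copy `bcgt7_h26_odd_S_to_O` of `odd_S_to_O` (the verbatim row is Helper24.BCGT7) (= `bcgt7_h26` + T3 + a private copy of X1).
-/

namespace Cfsg.Agent.Lib.Lead.BCG

open Polynomial Module Matrix Cfsg.Agent.Lib.Helper13.S5955 Cfsg.Agent.Lib.helper15.S5972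
  Cfsg.Agent.Lib.Helper18.ONE Cfsg.Agent.Lib.Lead.BCS

/-- the statement of X1 (`sp_ctx`), under a private name so that this file does not wait for that row -/
theorem bcgt7_sp_ctx {F : Type*} [Field F] (d : ℕ) (x : Matrix.symplecticGroup (Fin d) F) (N : ℕ)
    (hx : x ^ N = 1) :
    SCtx N (stdB d F) (Matrix.toLin' (x : Matrix (Fin d ⊕ Fin d) (Fin d ⊕ Fin d) F)) := by
  obtain ⟨halt, hnd⟩ := stdB_alt_nd (F := F) d
  refine ⟨halt, hnd, ?_, (sp_same d x N).mp hx⟩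
  intro u v
  rw [stdB_apply, stdB_apply, Matrix.toLin'_apply, Matrix.toLin'_apply]
  exact (Cfsg.Agent.Lib.helper6.mem_symplecticGroup_iff_sympForm _ _).mp x.2 u v

/-- T7 [M] -/
theorem bcgt7_h26_odd_S_to_O {F : Type*} [Field F] [Fintype F] {p : ℕ} [Fact p.Prime] [CharP F p]
    (hodd : Odd (Fintype.card F)) (n : ℕ) (hn : 3 ≤ n) (N : ℕ) (hNo : Odd N) (hN1 : 1 < N)
    (hNp : ¬ p ∣ N) (hx : ∃ x : Matrix.symplecticGroup (Fin n) F, orderOf x = N) :
    InO n F N := by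
  have hN : (N : F) ≠ 0 := fun h => hNp ((CharP.cast_eq_zero_iff F p N).mp h)
  exact bcgt7_h26 hodd n hn N hNo hN1 hNp hx (fun x hx => bcgt7_sp_ctx n x N hx)
    (fun x hx => s_restrict_geo hNo hN hx)

end Cfsg.Agent.Lib.Lead.BCG
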