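import Mathlib
import Cfsg.Agent.Lib.helper14.BGL.SPDefs
import Cfsg.Agent.Lib.helper14.BGL.SPDefs2
import Cfsg.Agent.Lib.Helper10.BGL.Defs
import Cfsg.Agent.Lib.Helper26.BGLSPC1core
import Cfsg.Agent.Lib.Helper26.BGLSPN1
import Cfsg.Agent.Lib.Helper12.BGLSPO1
import Cfsg.Agent.Lib.Helper1.BGLSPO2
import Cfsg.Agent.Lib.helper4.BGLSPN3

/-!
Project BGL (designer helper10), block SP (designer helper14) row C1 (`col_lam`), VERBATIM vs `helper14/BGL/SPSkel.lean.txt`:
`bglspc1_core` applied to O1 `spOrb_spec`, O4 `spBase_spec` (helper12), O2 `spOrb_induct` (helper1), S1 `stabP_n`, N3 `refl_facts` (helper4), N1 `n_mulVec_re`.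
-/

set_option autoImplicit false

namespace Cfsg.Agent.Lib.helper14.BGLSP

open Cfsg.Lie Cfsg.Lie.ChevalleyDatum Cfsg.Agent.Lib.helper8 Cfsg.Agent.Lib.Helper10.BGL Matrix

universe u

variable {K : Type u} [Field K] (D : ChevalleyDatum)

section C
variable {D} {lam : List ℕ} (hT : SPTab D lam) (W : Submodule K (D.Idx → K)) (hW : StabP D (· ∈ W))
  (htop : re D K (D.nroots - 1) ∈ W)
include hT hW htop

/-- C1 [M] -/
theorem col_lam : ∀ s ∈ lam, re D K s ∈ W :=
  bglspc1_core D hT W hW htop (fun h => spOrb_spec D h) (fun h Q h0 hstep => spOrb_induct D h Q h0 hstep)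
    (fun h => spBase_spec D h) (fun hP _ hr hnr _ hw => stabP_n D hP hr hnr hw)
    (fun hA _ hi _ hs => n_mulVec_re D hA hi hs) (fun hA _ hi _ hs => refl_facts D hA hi hs)

end C

end Cfsg.Agent.Lib.helper14.BGLSP
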