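import Mathlib
import Cfsg.Agent.Lib.Helper26.BGLUKC4core
import Cfsg.Agent.Lib.helper14.BGLUKL4
import Cfsg.Agent.Lib.helper14.BGLUKT2
import Cfsg.Agent.Lib.helper23.BGLUKB2

/-!
# BGL block UK, row UKC4 (helper26): `bk_ind` VERBATIM (wrapper of `bglukc4_core` on UKL5 `uk_kap_lead`, UKB2 `uk_rat_lead`, UKT2 `ukLT_all`).
-/

set_option autoImplicit false

namespace Cfsg.Agent.Lib.helper14.BGLUK

open Cfsg.Lie Cfsg.Lie.ChevalleyDatum Cfsg.Agent.Lib.helper8 Cfsg.Agent.Lib.helper14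
  Cfsg.Agent.Lib.Helper10.BGL

universe u

variable {K : Type u} [Field K]

section C

variable [Finite K] [CharP K 2]

theorem bk_ind (D : ChevalleyDatum) (hD : Seven D) (a : ℕ) (H : Subgroup (GL D.Idx K))
    (hL : Lq D K (2 ^ a) ≤ H)
    (hU : ∀ g ∈ H, g ∈ D.posUnipotent K → g ∈ ratS (K := K) 2 D a)
    (h : GL D.Idx K) (hh : h ∈ D.diagonalSubgroup K) (hrat : h ∈ ratS (K := K) 2 D a) :
    ∀ n m : ℕ, m + n = D.nroots → ∀ u ∈ ukV D K m, u * h ∈ H → u ∈ ratS (K := K) 2 D a :=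
  bglukc4_core D hD (h8base_all.{u} D hD)
    (fun m γ m' hLT t v hv =>
      uk_kap_lead D (h8base_all.{u} D hD) (h8commAll D hD) (h8ord_all D hD).1 (cfMax_all D hD) m γ m' hLT t v hv)
    (fun a m hm t v hv hr => uk_rat_lead 2 D (h8base_all.{u} D hD) (h8ord_all D hD).2 a m hm t v hv hr)
    (fun m hm => ukLT_all D hD m hm) a H hL hU h hh hrat

end C

end Cfsg.Agent.Lib.helper14.BGLUK
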