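import Mathlib

/-!
# Project BLI (leader helper29), sub-lemma of ATOM: an eigenvector of an isometry `T` for `ε`, `‖ε‖ = 1`,
is orthogonal to every `T`-invariant subspace meeting the `ε`-eigenspace trivially
-/

set_option autoImplicit false
set_option linter.unusedVariables false

namespace Cfsg.Agent.Lib.Helper29.BLI

open scoped ComplexConjugate InnerProductSpace

theorem bliatom_orth_of_invariant {V : Type*} [NormedAddCommGroup V] [InnerProductSpace ℂ V]
    [FiniteDimensional ℂ V]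
    (T : V →L[ℂ] V) (hT : ∀ v, ‖T v‖ = ‖v‖) (ε : ℂ) (hε : ‖ε‖ = 1)
    (L : Submodule ℂ V) (hinv : ∀ u ∈ L, T u ∈ L) (hbot : ∀ u ∈ L, T u = ε • u → u = 0)
    (f : V) (hf : T f = ε • f) (u : V) (hu : u ∈ L) : ⟪f, u⟫_ℂ = 0 := by
  -- `T - ε` restricted to `L`
  have hmem : ∀ x ∈ L, ((T : V →ₗ[ℂ] V) - ε • (LinearMap.id : V →ₗ[ℂ] V)) x ∈ L := by
    intro x hx
    simp only [LinearMap.sub_apply, ContinuousLinearMap.coe_coe, LinearMap.smul_apply,
      LinearMap.id_coe, id_eq]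
    exact L.sub_mem (hinv x hx) (L.smul_mem ε hx)
  set S : L →ₗ[ℂ] L :=
    ((T : V →ₗ[ℂ] V) - ε • (LinearMap.id : V →ₗ[ℂ] V)).restrict hmem with hS
  have hSinj : Function.Injective S := by
    rw [← LinearMap.ker_eq_bot, LinearMap.ker_eq_bot']
    intro x hx
    have h1 : ((S x : L) : V) = 0 := by rw [hx]; rfl
    rw [hS, LinearMap.coe_restrict_apply] at h1
    simp only [LinearMap.sub_apply, ContinuousLinearMap.coe_coe, LinearMap.smul_apply,
      LinearMap.id_coe, id_eq] at h1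
    have h2 : T (x : V) = ε • (x : V) := sub_eq_zero.mp h1
    exact Subtype.ext (hbot x x.2 h2)
  have hSsurj : Function.Surjective S := LinearMap.injective_iff_surjective.mp hSinj
  obtain ⟨u1, hu1⟩ := hSsurj ⟨u, hu⟩
  have hu1' : T (u1 : V) - ε • (u1 : V) = u := by
    have h1 : ((S u1 : L) : V) = u := by rw [hu1]
    rw [hS, LinearMap.coe_restrict_apply] at h1
    simpa using h1
  -- `T` preserves inner products
  have hTi : ∀ x y : V, ⟪T x, T y⟫_ℂ = ⟪x, y⟫_ℂ :=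
    (LinearMap.norm_map_iff_inner_map_map (T : V →ₗ[ℂ] V)).mp hT
  have hε0 : ε ≠ 0 := by
    intro h0
    rw [h0, norm_zero] at hε
    exact zero_ne_one hε
  have hcc : (starRingEnd ℂ) ε * ε = 1 := by
    rw [mul_comm, Complex.mul_conj, Complex.normSq_eq_norm_sq, hε]
    norm_num
  have h3 : (starRingEnd ℂ) ε * ⟪f, T (u1 : V)⟫_ℂ = ⟪f, (u1 : V)⟫_ℂ := by
    rw [← inner_smul_left, ← hf, hTi]
  have h4 : ⟪f, T (u1 : V)⟫_ℂ = ε * ⟪f, (u1 : V)⟫_ℂ := by
    rw [← h3, ← mul_assoc, mul_comm ε, hcc, one_mul]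
  rw [← hu1', inner_sub_right, inner_smul_right, h4, sub_self]

end Cfsg.Agent.Lib.Helper29.BLI
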