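import Mathlib
import Cfsg.Prelude.Def_Blocks

/-!
# Project BLI (leader helper29), piece SIMPLE, core: Blichfeldt's lemma for simple groups from the
Blichfeldt decomposition (the conclusion of `bli_atoms` is a hypothesis here)
-/

set_option autoImplicit false
set_option linter.unusedVariables false

namespace Cfsg.Agent.Lib.Helper29.BLI

open scoped ComplexConjugate InnerProductSpace

/-- the action on subspaces is multiplicative -/
theorem blisimple_map_mul {G : Type*} [Group G] {V : Type*} [NormedAddCommGroup V]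
    [InnerProductSpace ℂ V] (U : G →* (V →L[ℂ] V)) (g h : G) (L : Submodule ℂ V) :
    L.map ((U (g * h) : V →L[ℂ] V) : V →ₗ[ℂ] V) =
      (L.map ((U h : V →L[ℂ] V) : V →ₗ[ℂ] V)).map ((U g : V →L[ℂ] V) : V →ₗ[ℂ] V) := by
  rw [← Submodule.map_comp, map_mul]
  rfl

theorem blisimple_map_one {G : Type*} [Group G] {V : Type*} [NormedAddCommGroup V]
    [InnerProductSpace ℂ V] (U : G →* (V →L[ℂ] V)) (L : Submodule ℂ V) :
    L.map ((U 1 : V →L[ℂ] V) : V →ₗ[ℂ] V) = L := by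
  rw [map_one]
  exact Submodule.map_id L

/-- SIMPLE, with the Blichfeldt decomposition as a hypothesis -/
theorem blisimple_core {G : Type*} [Group G] [Finite G] [IsSimpleGroup G] (hna : ∃ a b : G, a * b ≠ b * a)
    {V : Type*} [NormedAddCommGroup V] [InnerProductSpace ℂ V] [FiniteDimensional ℂ V]
    (U : G →* (V →L[ℂ] V)) (hU : ∀ g v, ‖U g v‖ = ‖v‖) (hinj : Function.Injective U)
    (hirr : ∀ W : Submodule ℂ V,
      (∀ g : G, W.map ((U g : V →L[ℂ] V) : V →ₗ[ℂ] V) ≤ W) → W = ⊥ ∨ W = ⊤)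
    (z : G) (hz : z ≠ 1) (ε : ℂ)
    (hclose : ‖U z - ε • (1 : V →L[ℂ] V)‖ < 1)
    (hat : ∃ 𝒜 : Set (Submodule ℂ V), 𝒜.Finite ∧ 𝒜.Nonempty ∧ (∀ L ∈ 𝒜, L ≠ ⊥) ∧
      (∀ L ∈ 𝒜, ∀ x : G, L.map ((U x : V →L[ℂ] V) : V →ₗ[ℂ] V) ∈ 𝒜) ∧
      (∀ L ∈ 𝒜, ∀ L' ∈ 𝒜, L ≠ L' → ∀ u ∈ L, ∀ w ∈ L', ⟪u, w⟫_ℂ = 0) ∧
      (∀ L ∈ 𝒜, ∃ x : G, ∀ u ∈ L, U (x * z * x⁻¹) u = ε • u)) : False := by
  classical
  obtain ⟨𝒜, hfin, hne, hbot, hstab, horth, heig⟩ := hat
  obtain ⟨a, b, hab⟩ := hna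
  -- Case: some atom is everything
  by_cases htop : (⊤ : Submodule ℂ V) ∈ 𝒜
  · obtain ⟨x, hx⟩ := heig ⊤ htop
    have hsc : U (x * z * x⁻¹) = ε • (1 : V →L[ℂ] V) := by
      ext u
      rw [hx u Submodule.mem_top]
      simp
    have hcen : x * z * x⁻¹ ∈ Subgroup.center G := by
      rw [Subgroup.mem_center_iff]
      intro g
      apply hinj
      rw [map_mul U g, map_mul U _ g, hsc]
      ext u
      simp
    have hne1 : x * z * x⁻¹ ≠ 1 := by
      intro h1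
      apply hz
      have : z = x⁻¹ * (x * z * x⁻¹) * x := by group
      rw [this, h1]
      group
    rcases (Subgroup.center G).normal_of_characteristic.eq_bot_or_eq_top with hc | hc
    · rw [hc, Subgroup.mem_bot] at hcen
      exact hne1 hcen
    · apply hab
      have hb : b ∈ Subgroup.center G := by rw [hc]; trivial
      exact Subgroup.mem_center_iff.mp hb a
  -- the kernel of the action on the atoms
  let K : Subgroup G :=
    { carrier := {g | ∀ L ∈ 𝒜, L.map ((U g : V →L[ℂ] V) : V →ₗ[ℂ] V) = L}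
      mul_mem' := by
        intro g h hg hh L hL
        rw [blisimple_map_mul, hh L hL, hg L hL]
      one_mem' := by
        intro L hL
        exact blisimple_map_one U L
      inv_mem' := by
        intro g hg L hL
        have h1 := hg L hL
        calc L.map ((U g⁻¹ : V →L[ℂ] V) : V →ₗ[ℂ] V)
            = (L.map ((U g : V →L[ℂ] V) : V →ₗ[ℂ] V)).map ((U g⁻¹ : V →L[ℂ] V) : V →ₗ[ℂ] V) := by
              rw [h1]
          _ = L := by rw [← blisimple_map_mul, inv_mul_cancel, blisimple_map_one] }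
  have hKmem : ∀ g, g ∈ K ↔ ∀ L ∈ 𝒜, L.map ((U g : V →L[ℂ] V) : V →ₗ[ℂ] V) = L := fun g => Iff.rfl
  have hKn : K.Normal := by
    refine ⟨fun g hg h => ?_⟩
    rw [hKmem] at hg ⊢
    intro L hL
    have h1 : L.map ((U h⁻¹ : V →L[ℂ] V) : V →ₗ[ℂ] V) ∈ 𝒜 := hstab L hL h⁻¹
    rw [blisimple_map_mul, blisimple_map_mul, hg _ h1, ← blisimple_map_mul, mul_inv_cancel,
      blisimple_map_one]
  -- `z` fixes every atom
  have hzK : z ∈ K := by
    rw [hKmem]
    intro L hL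
    by_contra hLz
    have hL' : L.map ((U z : V →L[ℂ] V) : V →ₗ[ℂ] V) ∈ 𝒜 := hstab L hL z
    obtain ⟨u, huL, hu0⟩ := (Submodule.ne_bot_iff L).mp (hbot L hL)
    have hzu : U z u ∈ L.map ((U z : V →L[ℂ] V) : V →ₗ[ℂ] V) :=
      Submodule.mem_map_of_mem huL
    have h0 : ⟪u, U z u⟫_ℂ = 0 := horth L hL _ hL' (fun h => hLz h.symm) u huL _ hzu
    have h1 : ⟪U z u, ε • u⟫_ℂ = 0 := by
      rw [inner_smul_right, ← inner_conj_symm, h0, map_zero, mul_zero]
    have h2 : ‖U z u - ε • u‖ ^ 2 = ‖U z u‖ ^ 2 + ‖ε • u‖ ^ 2 := by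
      rw [@norm_sub_sq ℂ, h1]
      simp
    have h3 : ‖u‖ ^ 2 ≤ ‖U z u - ε • u‖ ^ 2 := by
      rw [h2, hU]
      nlinarith [sq_nonneg ‖ε • u‖]
    have h4 : ‖U z u - ε • u‖ ≤ ‖U z - ε • (1 : V →L[ℂ] V)‖ * ‖u‖ := by
      have := (U z - ε • (1 : V →L[ℂ] V)).le_opNorm u
      simpa using this
    have hupos : 0 < ‖u‖ := norm_pos_iff.mpr hu0
    have h5 : ‖U z u - ε • u‖ < ‖u‖ := by
      calc ‖U z u - ε • u‖ ≤ ‖U z - ε • (1 : V →L[ℂ] V)‖ * ‖u‖ := h4
        _ < 1 * ‖u‖ := by exact mul_lt_mul_of_pos_right hclose hupos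
        _ = ‖u‖ := one_mul _
    have h6 : ‖U z u - ε • u‖ ^ 2 < ‖u‖ ^ 2 := by
      have := norm_nonneg (U z u - ε • u)
      nlinarith
    linarith
  rcases hKn.eq_bot_or_eq_top with hK | hK
  · rw [hK, Subgroup.mem_bot] at hzK
    exact hz hzK
  · obtain ⟨L, hL⟩ := hne
    have hinv : ∀ g : G, L.map ((U g : V →L[ℂ] V) : V →ₗ[ℂ] V) ≤ L := by
      intro g
      have hg : g ∈ K := by rw [hK]; trivial
      exact ((hKmem g).mp hg L hL).le
    rcases hirr L hinv with h | h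
    · exact hbot L hL h
    · exact htop (h ▸ hL)

end Cfsg.Agent.Lib.Helper29.BLI
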