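import Mathlib
import Cfsg.Agent.Lib.Helper28.BP2.Defs

/-!
# BP2 row E2 (binS_PU): core version.

`bp2e2_core` is `binS_PU` with the statement of E1 (`binS_US`) and the instance of T2
(`binS_map_equiv`) as hypotheses.  The facts U1 / U3 about `pr` are proved here under own names.
-/

set_option autoImplicit false

namespace Cfsg.Agent.Lib.Helper28.BP2

open Cfsg.Agent.Lib.helper14

universe u v w

section Util

variable {F : Type u} [Field F]

theorem bp2e2_pr_surjective : Function.Surjective (pr F) :=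
  QuotientGroup.mk'_surjective _

theorem bp2e2_center_char2 [CharP F 2] : Subgroup.center (SL2 F) = ⊥ := by
  rw [eq_bot_iff]
  intro A hA
  rw [Matrix.SpecialLinearGroup.mem_center_iff] at hA
  obtain ⟨r, hr, hA⟩ := hA
  rw [Subgroup.mem_bot]
  have hr2 : r ^ 2 = 1 := by simpa using hr
  have h1 : (r - 1) ^ 2 = 0 := by
    have h2 : (2 : F) = 0 := CharP.cast_eq_zero F 2
    have : (r - 1) ^ 2 = r ^ 2 - 2 * r + 1 := by ring
    rw [this, hr2, h2]
    ring_nf
    rw [h2]
  have hr1 : r = 1 := by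
    have := pow_eq_zero_iff (two_ne_zero) |>.mp h1
    exact sub_eq_zero.mp this
  apply Subtype.ext
  rw [← hA, hr1]
  simp

theorem bp2e2_pr_injective [CharP F 2] : Function.Injective (pr F) := by
  rw [← MonoidHom.ker_eq_bot_iff]
  unfold pr
  rw [QuotientGroup.ker_mk', bp2e2_center_char2]

/-- `pr` as an isomorphism in characteristic 2. -/
noncomputable def bp2e2_prEquiv [CharP F 2] : SL2 F ≃* PSL2 F :=
  MulEquiv.ofBijective (pr F) ⟨bp2e2_pr_injective, bp2e2_pr_surjective⟩

theorem bp2e2_prEquiv_toMonoidHom [CharP F 2] :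
    (bp2e2_prEquiv (F := F)).toMonoidHom = pr F := by
  ext x
  rfl

end Util

section Easy

variable {F : Type u} [Field F] [Fintype F]

theorem bp2e2_core [CharP F 2] (hE1 : BinS (US F))
    (hT2 : ∀ (e : SL2 F ≃* PSL2 F) (H : Subgroup (SL2 F)),
      BinS (H.map e.toMonoidHom) ↔ BinS H) : BinS (PU F) := by
  unfold PU
  rw [← bp2e2_prEquiv_toMonoidHom]
  exact (hT2 bp2e2_prEquiv (US F)).mpr hE1

end Easy

end Cfsg.Agent.Lib.Helper28.BP2
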