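import Mathlib
import Cfsg.Agent.Lib.Helper28.BP2.Defs
import Cfsg.Agent.Lib.Helper26.BP2E2core
import Cfsg.Agent.Lib.Helper16.BP2E1
import Cfsg.Agent.Lib.helper2.BP2T2

/-!
# BP2 row E2 (binS_PU), verbatim.
-/

set_option autoImplicit false

namespace Cfsg.Agent.Lib.Helper28.BP2

open Cfsg.Agent.Lib.helper14

universe u v w

section Easy

variable {F : Type u} [Field F] [Fintype F]

theorem binS_PU [CharP F 2] : BinS (PU F) :=
  bp2e2_core binS_US (fun e H => binS_map_equiv e H)

end Easy

end Cfsg.Agent.Lib.Helper28.BP2
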