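import Mathlib
import Cfsg.Agent.Lib.Helper21.BSQ.Defs
import Cfsg.Agent.Lib.Helper26.BSQE7acore
import Cfsg.Agent.Lib.Helper29.BSQE1
import Cfsg.Agent.Lib.Helper25.BSQE2p
import Cfsg.Agent.Lib.Helper10.BSQE5

set_option autoImplicit false

namespace Cfsg.Agent.Lib.Helper21.BSQ

universe u

variable {G : Type u} [Group G]

theorem fitting_case_four [Finite G] (hB : IsBStar G)
    (hC : Subgroup.centralizer (Cfsg.pCore 2 G : Set G) ≤ Cfsg.pCore 2 G) (P : Sylow 2 G) (k : ℕ)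
    (hk : 2 ≤ k) (e : ↥(P : Subgroup G) ≃* QuaternionGroup (2 ^ k)) (x : G)
    (hxQ : x ∈ Cfsg.pCore 2 G) (hx : orderOf x = 4) : False :=
  bsqe7a_core hB (quat_gen_four k)
    (fun P' _ e' g hg => odd_centralizes_quat k hk P' e' g hg)
    (fun Q _ x' hx'Q hx' => order_four_mem hB Q x' hx'Q hx') hC P hk e x hxQ hx

end Cfsg.Agent.Lib.Helper21.BSQ
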