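import Mathlib
import Cfsg.Agent.Lib.helper3.BSZ.Defs
import Cfsg.Agent.Lib.helper17.BSZC01

set_option autoImplicit false

/-!
# Project BSZ, row C02 (exists_order_five), verbatim.
-/

namespace Cfsg.Agent.Lib.helper3.BSZ

open Cfsg Cfsg.Agent.Lib.helper3

variable {F : Type*} [Field F] [Fintype F] {m : ℕ}

theorem exists_order_five (hF : Fintype.card F = 2 ^ (2 * m + 1)) (hm : 1 ≤ m) :
    ∃ w : Sz F m, orderOf w = 5 ∧ Fpf w := by
  haveI : Finite (Sz F m) := finite_Sz hF hm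
  haveI : Fact (Nat.Prime 5) := ⟨by norm_num⟩
  have h5 : 5 ∣ Nat.card (Sz F m) := by
    rw [card_Sz hm hF]
    exact Dvd.dvd.mul_right (Dvd.dvd.mul_left (five_dvd m) _) _
  obtain ⟨w, hw⟩ := exists_prime_orderOf_dvd_card' 5 h5
  refine ⟨w, hw, fpf_of_order hF hm ?_ ?_⟩
  · rintro rfl
    rw [orderOf_one] at hw
    norm_num at hw
  · rw [hw]
    exact five_dvd m

end Cfsg.Agent.Lib.helper3.BSZ
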