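import Mathlib
import Cfsg.Prelude.Def_Blocks
import Cfsg.Agent.Lib.Helper24.BlockDefClass
import Cfsg.Agent.Lib.helper7.BlockMinMax
import Cfsg.Agent.Lib.helper7.BlockDefGrp
import Cfsg.Agent.Lib.helper7.Induction
import Cfsg.Agent.Lib.helper2.CharInd
import Cfsg.Agent.Lib.helper2.CharNat
import Cfsg.Agent.Lib.Helper25.CharOrth
import Cfsg.Agent.S0908

set_option autoImplicit false
open scoped ComplexConjugate

namespace Cfsg.Agent.Lib.Helper26

open Cfsg.Agent.Lib.helper2 Cfsg.Agent.Lib.helper7 Cfsg.Agent.Lib.Helper25 Cfsg.Agent.Lib.Helper24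

section bsepA

variable {G : Type*} [Group G] [Fintype G]

theorem bsep_orderOf_mul_comm {Γ : Type*} [Group Γ] (a b : Γ) :
    orderOf (a * b) = orderOf (b * a) := by
  have h := (MulAut.conj b).orderOf_eq (a * b)
  rw [MulAut.conj_apply] at h
  rw [← h]
  congr 1
  group

/-- The permutation character on the cosets of a `p`-subgroup is supported on `p`-elements. -/
theorem bsep_ind_support (p : ℕ) [hp : Fact p.Prime] (P : Subgroup G) (hP : IsPGroup p P) (w : G)
    (hw : Cfsg.indFun P (fun _ => (1 : ℂ)) w ≠ 0) : ∃ k : ℕ, orderOf w = p ^ k := by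
  unfold Cfsg.indFun at hw
  have h1 : ∃ x : G, x⁻¹ * w * x ∈ P := by
    by_contra hcon
    push Not at hcon
    apply hw
    rw [Finset.sum_eq_zero, mul_zero]
    intro x _
    exact h7_extendByZero_not_mem P _ _ (hcon x)
  obtain ⟨x, hx⟩ := h1
  obtain ⟨k, hk⟩ := hP ⟨_, hx⟩
  have h2 : (x⁻¹ * w * x) ^ (p ^ k) = 1 := by
    have := congrArg Subtype.val hk
    simpa using this
  have hord : orderOf (x⁻¹ * w * x) ∣ p ^ k := orderOf_dvd_of_pow_eq_one h2
  have h3 : orderOf (x⁻¹ * w * x) = orderOf w := by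
    rw [mul_assoc, bsep_orderOf_mul_comm, mul_assoc, mul_inv_cancel, mul_one]
  obtain ⟨j, _, hj⟩ := (Nat.dvd_prime_pow hp.out).mp hord
  exact ⟨j, by rw [← h3, hj]⟩

/-- The basic identity: with `φ = (1_P)^G = ∑ m χ • χ`, and `x`, `y` such that no quotient
`x * (conjugate of y)⁻¹` is a non-identity `p`-element. -/
theorem bsep_identity [Fintype (Cfsg.IrrCharacter G)] (p : ℕ) [hp : Fact p.Prime] (P : Sylow p G)
    (m : Cfsg.IrrCharacter G → ℕ)
    (hm : Cfsg.indFun (P : Subgroup G) (fun _ => (1 : ℂ)) =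
      ∑ χ : Cfsg.IrrCharacter G, (m χ : ℂ) • (χ : G → ℂ))
    (x y : G) [DecidablePred (fun t : G => t * y * t⁻¹ = x)]
    (hsep : ∀ t : G, ∀ k : ℕ, 0 < k → orderOf (x * (t * y * t⁻¹)⁻¹) ≠ p ^ k) :
    ∑ χ : Cfsg.IrrCharacter G, (m χ : ℂ) *
        ((Nat.card G : ℂ) * (χ : G → ℂ) y⁻¹ * (χ : G → ℂ) x / (χ : G → ℂ) 1) =
      ((P : Subgroup G).index : ℂ) *
        ((Finset.univ.filter (fun t : G => t * y * t⁻¹ = x)).card : ℂ) := by
  classical
  set φ := Cfsg.indFun (P : Subgroup G) (fun _ => (1 : ℂ)) with hφ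
  have hL : ∑ t : G, φ (t * y⁻¹ * t⁻¹ * x) = ∑ χ : Cfsg.IrrCharacter G, (m χ : ℂ) *
        ((Nat.card G : ℂ) * (χ : G → ℂ) y⁻¹ * (χ : G → ℂ) x / (χ : G → ℂ) 1) := by
    have h1 : ∀ t : G, φ (t * y⁻¹ * t⁻¹ * x) =
        ∑ χ : Cfsg.IrrCharacter G, (m χ : ℂ) * (χ : G → ℂ) (t * y⁻¹ * t⁻¹ * x) := by
      intro t
      rw [hm]
      simp [Finset.sum_apply]
    simp only [h1]
    rw [Finset.sum_comm]
    refine Finset.sum_congr rfl fun χ _ => ?_
    rw [← Finset.mul_sum, irr_sum_conj_mul]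
  have hR : ∀ t : G, φ (t * y⁻¹ * t⁻¹ * x) =
      if t * y * t⁻¹ = x then ((P : Subgroup G).index : ℂ) else 0 := by
    intro t
    split_ifs with h
    · have h1 : t * y⁻¹ * t⁻¹ * x = 1 := by
        rw [← h]; group
      rw [h1, hφ, h7_indFun_one, mul_one]
    · by_contra hne
      obtain ⟨k, hk⟩ := bsep_ind_support p (P : Subgroup G) P.isPGroup' _ hne
      have h2 : t * y⁻¹ * t⁻¹ * x = (t * y * t⁻¹)⁻¹ * x := by group
      rw [h2, bsep_orderOf_mul_comm] at hk
      rcases Nat.eq_zero_or_pos k with h0 | h0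
      · rw [h0, pow_zero, orderOf_eq_one_iff] at hk
        apply h
        have : x = t * y * t⁻¹ := by
          have := mul_inv_eq_one.mp hk
          exact this
        exact this.symm
      · exact hsep t k h0 hk
  rw [← hL]
  simp only [hR]
  rw [Finset.sum_ite, Finset.sum_const_zero, add_zero, Finset.sum_const, nsmul_eq_mul, mul_comm]

end bsepA

section bsepC

variable {K : Type*} [Field K]


theorem bsep_exists_li {ι : Type*} [Fintype ι] (r : ℕ) (v w : ι → Fin r → K) (lam : ι → K)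
    (T : ι → Prop) [DecidablePred T] (Δ : Fin r → K) (hΔ : ∀ j, Δ j ≠ 0)
    (h : ∀ i j : Fin r, ∑ χ : ι, (if T χ then lam χ * v χ i * w χ j else 0) =
      if i = j then Δ j else 0) :
    ∃ f : Fin r → ι, (∀ l, T (f l)) ∧ LinearIndependent K (fun l => v (f l)) := by
  classical
  set S : Set (Fin r → K) := v '' {χ | T χ} with hS
  have hej : ∀ j : Fin r, (Pi.single j (1 : K) : Fin r → K) ∈ Submodule.span K S := by
    intro j
    have h1 : (fun i => if i = j then Δ j else 0) =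
        ∑ χ : ι, (if T χ then (lam χ * w χ j) • v χ else 0) := by
      funext i
      rw [← h i j, Finset.sum_apply]
      refine Finset.sum_congr rfl fun χ _ => ?_
      split_ifs
      · simp only [Pi.smul_apply, smul_eq_mul]; ring
      · rfl
    have h2 : (fun i => if i = j then Δ j else 0) ∈ Submodule.span K S := by
      rw [h1]
      apply Submodule.sum_mem
      intro χ _
      split_ifs with hT
      · exact Submodule.smul_mem _ _ (Submodule.subset_span ⟨χ, hT, rfl⟩)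
      · exact Submodule.zero_mem _
    have h3 : (Pi.single j (1 : K) : Fin r → K) =
        (Δ j)⁻¹ • (fun i => if i = j then Δ j else 0) := by
      funext i
      by_cases hij : i = j
      · subst hij; simp [hΔ]
      · simp [hij]
    rw [h3]
    exact Submodule.smul_mem _ _ h2
  have hspan : Submodule.span K S = ⊤ := by
    rw [eq_top_iff, ← (Pi.basisFun K (Fin r)).span_eq, Submodule.span_le]
    rintro _ ⟨j, rfl⟩
    rw [Pi.basisFun_apply]
    exact hej j
  obtain ⟨b, hbS, hbspan, hbli⟩ := exists_linearIndependent K S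
  have hbtop : ⊤ ≤ Submodule.span K (Set.range (Subtype.val : b → Fin r → K)) := by
    rw [Subtype.range_coe, hbspan, hspan]
  let Bs := Module.Basis.mk hbli hbtop
  haveI : Fintype b := FiniteDimensional.fintypeBasisIndex Bs
  have hcard : Fintype.card b = r := by
    rw [← Module.finrank_eq_card_basis Bs, Module.finrank_fin_fun]
  let e : Fin r ≃ b := (Fintype.equivFinOfCardEq hcard).symm
  have hpre : ∀ u : b, ∃ χ, T χ ∧ v χ = u := fun u => by
    obtain ⟨χ, hχ, h⟩ := hbS u.2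
    exact ⟨χ, hχ, h⟩
  choose g hgT hgv using hpre
  refine ⟨fun l => g (e l), fun l => hgT _, ?_⟩
  have h4 : (fun l => v (g (e l))) = (Subtype.val : b → Fin r → K) ∘ e := by
    funext l
    simp [hgv]
  rw [h4]
  exact hbli.comp e e.injective



theorem bsep_det_ne_zero (r : ℕ) (V : Fin r → Fin r → K) (h : LinearIndependent K V) :
    Matrix.det (Matrix.of V) ≠ 0 := by
  have h1 : LinearIndependent K (Matrix.of V).row := h
  rw [Matrix.linearIndependent_rows_iff_isUnit, Matrix.isUnit_iff_isUnit_det] at h1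
  exact h1.ne_zero

/-- scaling -/
theorem bsep_det_scale (r : ℕ) (A V : Matrix (Fin r) (Fin r) K) (k c : Fin r → K)
    (hc : ∀ l, c l ≠ 0) (hV : V.det ≠ 0)
    (h : ∀ l j, k j * A l j = c l * V l j) : A.det ≠ 0 := by
  have h1 : Matrix.det (Matrix.of fun l j => k j * A l j) = (∏ j, k j) * A.det :=
    Matrix.det_mul_row k A
  have h2 : Matrix.det (Matrix.of fun l j => c l * V l j) = (∏ l, c l) * V.det :=
    Matrix.det_mul_column c V
  have h3 : (Matrix.of fun l j => k j * A l j) = (Matrix.of fun l j => c l * V l j) := by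
    ext l j
    exact h l j
  rw [h3, h2] at h1
  intro h0
  rw [h0, mul_zero] at h1
  have : (∏ l, c l) ≠ 0 := Finset.prod_ne_zero_iff.mpr (fun l _ => hc l)
  exact (mul_ne_zero this hV) h1


end bsepC

section bsepB

variable {G : Type*} [Group G] [Fintype G]

/-- The central character value as an algebraic integer. -/
noncomputable def bsepOm (χ : Cfsg.IrrCharacter G) (g : G) : Cfsg.AlgInt :=
  ⟨Cfsg.centralChar (χ : G → ℂ) g, irr_central_char_integral χ g⟩

/-- The character value as an algebraic integer. -/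
noncomputable def bsepVal (χ : Cfsg.IrrCharacter G) (g : G) : Cfsg.AlgInt :=
  ⟨(χ : G → ℂ) g, irr_integral χ g⟩

theorem bsepOm_coe (χ : Cfsg.IrrCharacter G) (g : G) :
    ((bsepOm χ g : Cfsg.AlgInt) : ℂ) = Cfsg.centralChar (χ : G → ℂ) g := rfl

theorem bsepVal_coe (χ : Cfsg.IrrCharacter G) (g : G) :
    ((bsepVal χ g : Cfsg.AlgInt) : ℂ) = (χ : G → ℂ) g := rfl

theorem bsep_om_congr {M : Ideal Cfsg.AlgInt} (hMp : M.IsPrime) {χ ψ : Cfsg.IrrCharacter G}
    (h : Cfsg.SameBlock M (χ : G → ℂ) (ψ : G → ℂ)) (g : G) :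
    Ideal.Quotient.mk M (bsepOm χ g) = Ideal.Quotient.mk M (bsepOm ψ g) := by
  rw [Ideal.Quotient.eq]
  apply (h7_memLocalIdeal_algInt_iff hMp _).mp
  have := h g
  rw [← bsepOm_coe, ← bsepOm_coe] at this
  exact_mod_cast this

theorem bsep_om_mem [Fintype (Cfsg.IrrCharacter G)] (p : ℕ) [hp : Fact p.Prime]
    {M : Ideal Cfsg.AlgInt} (hM : Cfsg.IsPModular p M) (χ : Cfsg.IrrCharacter G) (g : G)
    (h : (Nat.card (Subgroup.centralizer ({g} : Set G))).factorization p <
      Cfsg.blockDefect p (Cfsg.blockOf M (χ : G → ℂ))) : bsepOm χ g ∈ M := by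
  by_contra hn
  have h1 := bd_lower p M hM χ g (fun hmem => hn
    ((h7_memLocalIdeal_algInt_iff hM.2.1.isPrime (bsepOm χ g)).mp hmem))
  omega

theorem bsep_rel (χ : Cfsg.IrrCharacter G) (g : G) :
    (((Subgroup.centralizer ({g} : Set G)).index : ℕ) : Cfsg.AlgInt) * bsepVal χ g =
      bsepOm χ g * ((Cfsg.charDegree (χ : G → ℂ) : ℕ) : Cfsg.AlgInt) := by
  apply Subtype.ext
  push_cast
  rw [bsepOm_coe, bsepVal_coe]
  obtain ⟨_, _, hd3⟩ := h7_charDegree_props χ
  rw [hd3]
  unfold Cfsg.centralChar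
  have h1 := irr_one_ne_zero χ
  field_simp

theorem bsep_natCast_pow_ne_zero (p : ℕ) [hp : Fact p.Prime] (e : ℕ) :
    ((p ^ e : ℕ) : Cfsg.AlgInt) ≠ 0 := by
  have h : (p ^ e : ℕ) ≠ 0 := pow_ne_zero e hp.out.ne_zero
  exact_mod_cast h

theorem bsep_rel_div (p : ℕ) [hp : Fact p.Prime] (e : ℕ) (χ : Cfsg.IrrCharacter G) (g : G)
    (he1 : p ^ e ∣ (Subgroup.centralizer ({g} : Set G)).index)
    (he2 : p ^ e ∣ Cfsg.charDegree (χ : G → ℂ)) :
    (((Subgroup.centralizer ({g} : Set G)).index / p ^ e : ℕ) : Cfsg.AlgInt) * bsepVal χ g =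
      bsepOm χ g * ((Cfsg.charDegree (χ : G → ℂ) / p ^ e : ℕ) : Cfsg.AlgInt) := by
  have h := bsep_rel χ g
  obtain ⟨k, hk⟩ := he1
  obtain ⟨c, hc⟩ := he2
  have hpe : 0 < p ^ e := pow_pos hp.out.pos e
  rw [hk, hc] at h ⊢
  rw [Nat.mul_div_cancel_left _ hpe, Nat.mul_div_cancel_left _ hpe]
  push_cast at h ⊢
  have h0 : ((p : Cfsg.AlgInt) ^ e) ≠ 0 := by
    have := bsep_natCast_pow_ne_zero p e
    push_cast at this
    exact this
  apply mul_left_cancel₀ h0
  calc (p : Cfsg.AlgInt) ^ e * ((k : Cfsg.AlgInt) * bsepVal χ g)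
      = (p : Cfsg.AlgInt) ^ e * (k : Cfsg.AlgInt) * bsepVal χ g := by ring
    _ = bsepOm χ g * ((p : Cfsg.AlgInt) ^ e * (c : Cfsg.AlgInt)) := h
    _ = (p : Cfsg.AlgInt) ^ e * (bsepOm χ g * (c : Cfsg.AlgInt)) := by ring

/-- Valuation facts for a member of a block. -/
theorem bsep_val_facts [Fintype (Cfsg.IrrCharacter G)] (p : ℕ) [hp : Fact p.Prime]
    {M : Ideal Cfsg.AlgInt} (hM : Cfsg.IsPModular p M) (χ₀ χ : Cfsg.IrrCharacter G)
    (hχ : χ ∈ Cfsg.blockOf M (χ₀ : G → ℂ)) :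
    Cfsg.blockDefect p (Cfsg.blockOf M (χ₀ : G → ℂ)) ≤ (Nat.card G).factorization p ∧
    p ^ ((Nat.card G).factorization p - Cfsg.blockDefect p (Cfsg.blockOf M (χ₀ : G → ℂ))) ∣
      Cfsg.charDegree (χ : G → ℂ) ∧
    (Cfsg.blockHeight p (Cfsg.blockOf M (χ₀ : G → ℂ)) (χ : G → ℂ) = 0 →
      ¬ p ∣ Cfsg.charDegree (χ : G → ℂ) /
        p ^ ((Nat.card G).factorization p -
          Cfsg.blockDefect p (Cfsg.blockOf M (χ₀ : G → ℂ)))) := by
  have hMp := hM.2.1.isPrime
  obtain ⟨h₀, ⟨χ1, hχ1, hχ1e⟩, hall, hle0, hd⟩ := bd_min p M hMp χ₀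
  obtain ⟨hd1, hd2, hd3⟩ := h7_charDegree_props χ
  have he : (Nat.card G).factorization p -
      Cfsg.blockDefect p (Cfsg.blockOf M (χ₀ : G → ℂ)) = h₀ := by
    rw [hd]; omega
  rw [he]
  refine ⟨by rw [hd]; omega, ?_, ?_⟩
  · exact dvd_trans (pow_dvd_pow p (hall χ hχ)) (Nat.ordProj_dvd _ _)
  · intro h0
    have hνχ : (Cfsg.charDegree (χ : G → ℂ)).factorization p = h₀ := by
      apply le_antisymm _ (hall χ hχ)
      unfold Cfsg.blockHeight at h0
      have h1 : sInf ((fun ψ : Cfsg.IrrCharacter G =>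
          (Cfsg.charDegree (ψ : G → ℂ)).factorization p) '' Cfsg.blockOf M (χ₀ : G → ℂ)) ≤ h₀ :=
        Nat.sInf_le ⟨χ1, hχ1, hχ1e⟩
      omega
    rw [← hνχ]
    exact Nat.not_dvd_ordCompl hp.out hd2.ne'

/-- In a block of defect smaller than `d`, degrees are divisible by `p ^ (a - d + 1)`. -/
theorem bsep_low [Fintype (Cfsg.IrrCharacter G)] (p : ℕ) [hp : Fact p.Prime]
    {M : Ideal Cfsg.AlgInt} (hM : Cfsg.IsPModular p M) (χ : Cfsg.IrrCharacter G) (d : ℕ)
    (hd : d ≤ (Nat.card G).factorization p)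
    (hlt : Cfsg.blockDefect p (Cfsg.blockOf M (χ : G → ℂ)) < d) :
    p ^ ((Nat.card G).factorization p - d + 1) ∣ Cfsg.charDegree (χ : G → ℂ) := by
  have hMp := hM.2.1.isPrime
  obtain ⟨h₀, _, hall, hle0, hdd⟩ := bd_min p M hMp χ
  have h1 : (Nat.card G).factorization p - d + 1 ≤ h₀ := by
    rw [hdd] at hlt; omega
  exact dvd_trans (pow_dvd_pow p (h1.trans (hall χ (h7_sameBlock_refl hMp _))))
    (Nat.ordProj_dvd _ _)

end bsepB

section bsepT

variable {G : Type*} [Group G] [Fintype G]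

theorem bsep_centralizer_inv (y : G) :
    Subgroup.centralizer ({y⁻¹} : Set G) = Subgroup.centralizer ({y} : Set G) := by
  ext t
  rw [Subgroup.mem_centralizer_singleton_iff, Subgroup.mem_centralizer_singleton_iff]
  constructor
  · intro h
    have h1 : Commute t y⁻¹ := h
    exact (Commute.inv_right_iff.mp h1)
  · intro h
    have h1 : Commute t y := h
    exact (Commute.inv_right_iff.mpr h1)

theorem bsep_pow_dvd_index (p : ℕ) [hp : Fact p.Prime] (g : G) (d : ℕ)
    (hg : (Nat.card (Subgroup.centralizer ({g} : Set G))).factorization p = d) :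
    d ≤ (Nat.card G).factorization p ∧
    p ^ ((Nat.card G).factorization p - d) ∣ (Subgroup.centralizer ({g} : Set G)).index ∧
    ¬ p ∣ (Subgroup.centralizer ({g} : Set G)).index / p ^ ((Nat.card G).factorization p - d) := by
  have h := bd_card_centralizer p g
  have h1 : (Subgroup.centralizer ({g} : Set G)).index.factorization p =
      (Nat.card G).factorization p - d := by omega
  refine ⟨by omega, ?_, ?_⟩
  · rw [← h1]; exact Nat.ordProj_dvd _ _
  · rw [← h1]; exact Nat.not_dvd_ordCompl hp.out Subgroup.index_ne_zero_of_finite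

/-- The term-by-term reduction modulo `M`. -/
theorem bsep_term [Fintype (Cfsg.IrrCharacter G)] (p : ℕ) [hp : Fact p.Prime] {M : Ideal Cfsg.AlgInt} (hM : Cfsg.IsPModular p M)
    (d : ℕ) (g y : G)
    (hg : (Nat.card (Subgroup.centralizer ({g} : Set G))).factorization p = d)
    (hy : (Nat.card (Subgroup.centralizer ({y} : Set G))).factorization p = d)
    (χ : Cfsg.IrrCharacter G) [Decidable (Cfsg.blockDefect p (Cfsg.blockOf M (χ : G → ℂ)) = d)] :
    Ideal.Quotient.mk M (((Subgroup.centralizer ({g} : Set G)).index /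
        p ^ ((Nat.card G).factorization p - d) : ℕ) : Cfsg.AlgInt) *
      Ideal.Quotient.mk M (bsepVal χ g) * Ideal.Quotient.mk M (bsepOm χ y) =
    if Cfsg.blockDefect p (Cfsg.blockOf M (χ : G → ℂ)) = d then
      Ideal.Quotient.mk M ((Cfsg.charDegree (χ : G → ℂ) /
        p ^ ((Nat.card G).factorization p - d) : ℕ) : Cfsg.AlgInt) *
      Ideal.Quotient.mk M (bsepOm χ g) * Ideal.Quotient.mk M (bsepOm χ y)
    else 0 := by
  have hMp := hM.2.1.isPrime
  obtain ⟨hda, hdvd, _⟩ := bsep_pow_dvd_index p g d hg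
  set e := (Nat.card G).factorization p - d with he
  split_ifs with hT
  · obtain ⟨_, h2, _⟩ := bsep_val_facts p hM χ χ (h7_sameBlock_refl hMp _)
    rw [hT] at h2
    have h3 := bsep_rel_div p e χ g hdvd h2
    rw [← map_mul, h3, map_mul]
    ring
  · rcases lt_or_gt_of_ne hT with hlt | hgt
    · have h1 := bsep_low p hM χ d hda hlt
      obtain ⟨c, hc⟩ := h1
      obtain ⟨k, hk⟩ := hdvd
      have hrel := bsep_rel χ g
      have hpe : 0 < p ^ e := pow_pos hp.out.pos e
      rw [hk, Nat.mul_div_cancel_left _ hpe]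
      rw [hk, hc] at hrel
      have h0 : ((p : Cfsg.AlgInt) ^ e) ≠ 0 := by
        have := bsep_natCast_pow_ne_zero p e
        push_cast at this
        exact this
      have h4 : (k : Cfsg.AlgInt) * bsepVal χ g = bsepOm χ g * ((p : Cfsg.AlgInt) * (c : Cfsg.AlgInt)) := by
        apply mul_left_cancel₀ h0
        push_cast at hrel
        calc (p : Cfsg.AlgInt) ^ e * ((k : Cfsg.AlgInt) * bsepVal χ g)
            = (p : Cfsg.AlgInt) ^ e * (k : Cfsg.AlgInt) * bsepVal χ g := by ring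
          _ = bsepOm χ g * ((p : Cfsg.AlgInt) ^ (e + 1) * (c : Cfsg.AlgInt)) := hrel
          _ = (p : Cfsg.AlgInt) ^ e * (bsepOm χ g * ((p : Cfsg.AlgInt) * (c : Cfsg.AlgInt))) := by
            ring
      have h5 : Ideal.Quotient.mk M (p : Cfsg.AlgInt) = 0 :=
        Ideal.Quotient.eq_zero_iff_mem.mpr hM.2.2
      rw [← map_mul, h4, map_mul, map_mul, h5]
      ring
    · have h1 : bsepOm χ y ∈ M := bsep_om_mem p hM χ y (by rw [hy]; exact hgt)
      rw [Ideal.Quotient.eq_zero_iff_mem.mpr h1, mul_zero]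

end bsepT

section bsepI

variable {G : Type*} [Group G] [Fintype G] [Fintype (Cfsg.IrrCharacter G)]

theorem bsep_term_eq (χ : Cfsg.IrrCharacter G) (x y : G) :
    (Nat.card G : ℂ) * (χ : G → ℂ) y⁻¹ * (χ : G → ℂ) x / (χ : G → ℂ) 1 =
      (Nat.card (Subgroup.centralizer ({y} : Set G)) : ℂ) *
        ((χ : G → ℂ) x * Cfsg.centralChar (χ : G → ℂ) y⁻¹) := by
  unfold Cfsg.centralChar
  rw [bsep_centralizer_inv]
  have h := Subgroup.index_mul_card (Subgroup.centralizer ({y} : Set G))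
  rw [← h]
  push_cast
  have h1 := irr_one_ne_zero χ
  field_simp

/-- The identity in the ring of algebraic integers. -/
theorem bsep_identity_algInt [DecidableEq G] (p : ℕ) [hp : Fact p.Prime] (P : Sylow p G)
    (m : Cfsg.IrrCharacter G → ℕ)
    (hm : Cfsg.indFun (P : Subgroup G) (fun _ => (1 : ℂ)) =
      ∑ χ : Cfsg.IrrCharacter G, (m χ : ℂ) • (χ : G → ℂ))
    (x y : G)
    (hsep : ∀ t : G, ∀ k : ℕ, 0 < k → orderOf (x * (t * y * t⁻¹)⁻¹) ≠ p ^ k)
    (hxy : x = y ∨ ¬ IsConj y x) :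
    ∑ χ : Cfsg.IrrCharacter G, (m χ : Cfsg.AlgInt) * bsepVal χ x * bsepOm χ y⁻¹ =
      if x = y then (((P : Subgroup G).index : ℕ) : Cfsg.AlgInt) else 0 := by
  classical
  have h := bsep_identity p P m hm x y hsep
  simp only [bsep_term_eq] at h
  have hC : (Nat.card (Subgroup.centralizer ({y} : Set G)) : ℂ) ≠ 0 := by
    exact_mod_cast Nat.card_pos.ne'
  have h2 : ∑ χ : Cfsg.IrrCharacter G, (m χ : ℂ) *
      ((χ : G → ℂ) x * Cfsg.centralChar (χ : G → ℂ) y⁻¹) =
      if x = y then (((P : Subgroup G).index : ℕ) : ℂ) else 0 := by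
    apply mul_left_cancel₀ hC
    rw [Finset.mul_sum]
    have h3 : ∑ χ : Cfsg.IrrCharacter G, (Nat.card (Subgroup.centralizer ({y} : Set G)) : ℂ) *
        ((m χ : ℂ) * ((χ : G → ℂ) x * Cfsg.centralChar (χ : G → ℂ) y⁻¹)) =
        ∑ χ : Cfsg.IrrCharacter G, (m χ : ℂ) *
          ((Nat.card (Subgroup.centralizer ({y} : Set G)) : ℂ) *
            ((χ : G → ℂ) x * Cfsg.centralChar (χ : G → ℂ) y⁻¹)) :=
      Finset.sum_congr rfl fun χ _ => by ring
    rw [h3, h]
    split_ifs with hxy'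
    · subst hxy'
      have h4 : (Finset.univ.filter (fun t : G => t * x * t⁻¹ = x)).card =
          Nat.card (Subgroup.centralizer ({x} : Set G)) := by
        rw [Nat.card_eq_fintype_card, Fintype.card_subtype]
        congr 1
        ext t
        simp only [Finset.mem_filter, Finset.mem_univ, true_and,
          Subgroup.mem_centralizer_singleton_iff]
        constructor
        · intro h5
          have : t * x = t * x * t⁻¹ * t := by group
          rw [this, h5]
        · intro h5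
          rw [h5]; group
      rw [h4]; ring
    · have h4 : (Finset.univ.filter (fun t : G => t * y * t⁻¹ = x)) = ∅ := by
        rw [Finset.filter_eq_empty_iff]
        intro t _ ht
        rcases hxy with h5 | h5
        · exact hxy' h5
        · exact h5 (isConj_iff.mpr ⟨t, ht⟩)
      rw [h4]; simp
  apply Subtype.ext
  have h5 : ((∑ χ : Cfsg.IrrCharacter G, (m χ : Cfsg.AlgInt) * bsepVal χ x * bsepOm χ y⁻¹ :
      Cfsg.AlgInt) : ℂ) = ∑ χ : Cfsg.IrrCharacter G, (m χ : ℂ) *
      ((χ : G → ℂ) x * Cfsg.centralChar (χ : G → ℂ) y⁻¹) := by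
    push_cast
    refine Finset.sum_congr rfl fun χ _ => ?_
    rw [bsepVal_coe, bsepOm_coe]; ring
  rw [h5, h2]
  split_ifs <;> simp

end bsepI

section bsepM

variable {G : Type*} [Group G] [Fintype G] [Fintype (Cfsg.IrrCharacter G)]

/-- The identity modulo `M`, in the shape needed for `bsep_exists_li`. -/
theorem bsep_modM [DecidableEq G] (p : ℕ) [hp : Fact p.Prime] {M : Ideal Cfsg.AlgInt}
    (hM : Cfsg.IsPModular p M) (P : Sylow p G) (m : Cfsg.IrrCharacter G → ℕ)
    (hm : Cfsg.indFun (P : Subgroup G) (fun _ => (1 : ℂ)) =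
      ∑ χ : Cfsg.IrrCharacter G, (m χ : ℂ) • (χ : G → ℂ))
    {r : ℕ} (x : Fin r → G) (hx : ∀ i j : Fin r, IsConj (x i) (x j) → i = j) (d : ℕ)
    (hd : ∀ i : Fin r, (Nat.card (Subgroup.centralizer ({x i} : Set G))).factorization p = d)
    (hsep : ∀ i j : Fin r, ∀ g h : G, IsConj (x i) g → IsConj (x j) h → ∀ k : ℕ, 0 < k →
      orderOf (g * h⁻¹) ≠ p ^ k) (i j : Fin r) :
    ∑ χ : Cfsg.IrrCharacter G,
      (if Cfsg.blockDefect p (Cfsg.blockOf M (χ : G → ℂ)) = d then
        (Ideal.Quotient.mk M ((m χ : ℕ) : Cfsg.AlgInt) *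
          Ideal.Quotient.mk M ((Cfsg.charDegree (χ : G → ℂ) /
            p ^ ((Nat.card G).factorization p - d) : ℕ) : Cfsg.AlgInt)) *
          Ideal.Quotient.mk M (bsepOm χ (x i)) * Ideal.Quotient.mk M (bsepOm χ (x j)⁻¹)
      else 0) =
    if i = j then
      Ideal.Quotient.mk M (((Subgroup.centralizer ({x j} : Set G)).index /
        p ^ ((Nat.card G).factorization p - d) : ℕ) : Cfsg.AlgInt) *
      Ideal.Quotient.mk M ((((P : Subgroup G).index : ℕ)) : Cfsg.AlgInt)
    else 0 := by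
  have hxy : x i = x j ∨ ¬ IsConj (x j) (x i) := by
    by_cases hij : i = j
    · left; rw [hij]
    · right
      intro hc
      exact hij (hx j i hc).symm
  have h := bsep_identity_algInt p P m hm (x i) (x j)
    (fun t k hk => hsep i j (x i) (t * x j * t⁻¹) (IsConj.refl _) (isConj_iff.mpr ⟨t, rfl⟩) k hk) hxy
  have hyd : (Nat.card (Subgroup.centralizer ({(x j)⁻¹} : Set G))).factorization p = d := by
    rw [bsep_centralizer_inv]; exact hd j
  have hterm : ∀ χ : Cfsg.IrrCharacter G,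
      (if Cfsg.blockDefect p (Cfsg.blockOf M (χ : G → ℂ)) = d then
        (Ideal.Quotient.mk M ((m χ : ℕ) : Cfsg.AlgInt) *
          Ideal.Quotient.mk M ((Cfsg.charDegree (χ : G → ℂ) /
            p ^ ((Nat.card G).factorization p - d) : ℕ) : Cfsg.AlgInt)) *
          Ideal.Quotient.mk M (bsepOm χ (x i)) * Ideal.Quotient.mk M (bsepOm χ (x j)⁻¹)
      else 0) =
      Ideal.Quotient.mk M ((m χ : ℕ) : Cfsg.AlgInt) *
        (Ideal.Quotient.mk M (((Subgroup.centralizer ({x i} : Set G)).index /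
          p ^ ((Nat.card G).factorization p - d) : ℕ) : Cfsg.AlgInt) *
        Ideal.Quotient.mk M (bsepVal χ (x i)) * Ideal.Quotient.mk M (bsepOm χ (x j)⁻¹)) := by
    intro χ
    rw [bsep_term p hM d (x i) (x j)⁻¹ (hd i) hyd χ]
    split_ifs
    · ring
    · ring
  simp only [hterm]
  have hsum : ∑ χ : Cfsg.IrrCharacter G, Ideal.Quotient.mk M ((m χ : ℕ) : Cfsg.AlgInt) *
        (Ideal.Quotient.mk M (((Subgroup.centralizer ({x i} : Set G)).index /
          p ^ ((Nat.card G).factorization p - d) : ℕ) : Cfsg.AlgInt) *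
        Ideal.Quotient.mk M (bsepVal χ (x i)) * Ideal.Quotient.mk M (bsepOm χ (x j)⁻¹)) =
      Ideal.Quotient.mk M (((Subgroup.centralizer ({x i} : Set G)).index /
          p ^ ((Nat.card G).factorization p - d) : ℕ) : Cfsg.AlgInt) *
      Ideal.Quotient.mk M (∑ χ : Cfsg.IrrCharacter G,
        (m χ : Cfsg.AlgInt) * bsepVal χ (x i) * bsepOm χ (x j)⁻¹) := by
    rw [map_sum, Finset.mul_sum]
    refine Finset.sum_congr rfl fun χ _ => ?_
    rw [map_mul, map_mul]
    ring
  rw [hsum, h]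
  by_cases hij : i = j
  · subst hij
    rw [if_pos rfl, if_pos rfl]
  · have hne : x i ≠ x j := by
      intro he
      apply hij
      apply hx
      rw [he]
    rw [if_neg hne, if_neg hij, map_zero, mul_zero]

end bsepM

section bsepD

variable {G : Type*} [Group G] [Fintype G] [Fintype (Cfsg.IrrCharacter G)]

theorem bsep_conj_conj_inv (c : G) (D : Subgroup G) :
    (D.map (MulAut.conj c).toMonoidHom).map (MulAut.conj c⁻¹).toMonoidHom = D := by
  rw [Subgroup.map_map]
  have : (MulAut.conj c⁻¹).toMonoidHom.comp (MulAut.conj c).toMonoidHom = MonoidHom.id G := by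
    ext t
    simp only [MonoidHom.coe_comp, MulEquiv.coe_toMonoidHom, Function.comp_apply,
      MulAut.conj_apply, MonoidHom.id_apply]
    group
  rw [this, Subgroup.map_id]

/-- If `ω_χ(g)` is a unit and the block of `χ` has defect `ν_p |C(g)|`, then every Sylow
`p`-subgroup of `C(g)` is a defect group of the block of `χ`. -/
theorem bsep_defectGroup (p : ℕ) [hp : Fact p.Prime] {M : Ideal Cfsg.AlgInt}
    (hM : Cfsg.IsPModular p M) (χ : Cfsg.IrrCharacter G) (g : G)
    (hω : ¬ Cfsg.MemLocalIdeal M (Cfsg.centralChar (χ : G → ℂ) g))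
    (hdef : Cfsg.blockDefect p (Cfsg.blockOf M (χ : G → ℂ)) =
      (Nat.card (Subgroup.centralizer ({g} : Set G))).factorization p)
    (D : Subgroup G) (S : Sylow p (Subgroup.centralizer ({g} : Set G)))
    (hS : (S : Subgroup (Subgroup.centralizer ({g} : Set G))).map
      (Subgroup.centralizer ({g} : Set G)).subtype = D) :
    Cfsg.IsDefectGroup p M (Cfsg.blockOf M (χ : G → ℂ)) D := by
  have hMp := hM.2.1.isPrime
  obtain ⟨g₀, hg₀⟩ := h7_exists_defect_class hMp χ
  let D₀ : Sylow p (Subgroup.centralizer ({g₀} : Set G)) := default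
  obtain ⟨y, Q, hle⟩ := h7_minmax_b hM χ g₀ hg₀ D₀ g ⟨χ, h7_sameBlock_refl hMp _, hω⟩
  set R : Subgroup G := ((D₀ : Subgroup (Subgroup.centralizer ({g₀} : Set G))).map
      (Subgroup.centralizer ({g₀} : Set G)).subtype).map (MulAut.conj y).toMonoidHom with hR
  have hD₀ : Cfsg.IsDefectGroup p M (Cfsg.blockOf M (χ : G → ℂ))
      ((D₀ : Subgroup (Subgroup.centralizer ({g₀} : Set G))).map
      (Subgroup.centralizer ({g₀} : Set G)).subtype) := ⟨g₀, hg₀, D₀, rfl⟩
  have hRdef : Cfsg.IsDefectGroup p M (Cfsg.blockOf M (χ : G → ℂ)) R :=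
    h7_isDefectGroup_conj p M _ _ hD₀ y
  have hRcard : Nat.card R = p ^ (Nat.card (Subgroup.centralizer ({g} : Set G))).factorization p := by
    rw [hR, Subgroup.card_map_of_injective (MulAut.conj y).injective,
      Cfsg.Agent.S0908.defect_card p M hM χ g₀ hg₀ D₀, hdef]
  have hRp : IsPGroup p R := IsPGroup.of_card hRcard
  have hRC : R ≤ Subgroup.centralizer ({g} : Set G) := by
    refine hle.trans ?_
    rintro _ ⟨u, _, rfl⟩
    exact u.2
  obtain ⟨c, _, hRc⟩ := h7_le_conj_sylow p (Subgroup.centralizer ({g} : Set G)) S R hRp hRC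
  rw [hS] at hRc
  have hDcard : Nat.card D = p ^ (Nat.card (Subgroup.centralizer ({g} : Set G))).factorization p := by
    rw [← hS, Subgroup.card_map_of_injective (Subgroup.subtype_injective _)]
    exact Sylow.card_eq_multiplicity S
  have heq : R = D.map (MulAut.conj c).toMonoidHom := by
    apply Subgroup.eq_of_le_of_card_ge hRc
    rw [Subgroup.card_map_of_injective (MulAut.conj c).injective, hDcard, hRcard]
  have h2 := h7_isDefectGroup_conj p M _ _ hRdef c⁻¹
  rw [heq, bsep_conj_conj_inv] at h2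
  exact h2

end bsepD

section bsepMain

variable {G : Type*} [Group G] [Fintype G]

theorem bsep_main (p : ℕ) [hp : Fact p.Prime] (M : Ideal Cfsg.AlgInt)
    (hM : Cfsg.IsPModular p M) (D : Subgroup G) {r : ℕ} (x : Fin r → G)
    (hx : ∀ i j : Fin r, IsConj (x i) (x j) → i = j)
    (hD : ∀ i : Fin r, ∃ S : Sylow p ↥(Subgroup.centralizer ({x i} : Set G)),
      (S : Subgroup ↥(Subgroup.centralizer ({x i} : Set G))).map
        (Subgroup.centralizer ({x i} : Set G)).subtype = D)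
    (hsep : ∀ i j : Fin r, ∀ g h : G, IsConj (x i) g → IsConj (x j) h → ∀ k : ℕ, 0 < k →
      orderOf (g * h⁻¹) ≠ p ^ k) :
    ∃ B : Fin r → Set (Cfsg.IrrCharacter G), Function.Injective B ∧
      (∀ i : Fin r, Cfsg.IsPBlock M (B i) ∧ Cfsg.IsDefectGroup p M (B i) D) ∧
      ∀ χ : Fin r → Cfsg.IrrCharacter G,
        (∀ i : Fin r, χ i ∈ B i ∧ Cfsg.blockHeight p (B i) (χ i : G → ℂ) = 0) →
        ¬ Cfsg.MemLocalIdeal M (Matrix.det (Matrix.of fun i j : Fin r => (χ i : G → ℂ) (x j))) := by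
  classical
  haveI : Fintype (Cfsg.IrrCharacter G) := Fintype.ofFinite _
  have hMp := hM.2.1.isPrime
  haveI : M.IsMaximal := hM.2.1
  letI : Field (Cfsg.AlgInt ⧸ M) := Ideal.Quotient.field M
  let P : Sylow p G := default
  have hφchar : Cfsg.IsCharacter G (Cfsg.indFun (P : Subgroup G) (fun _ => (1 : ℂ))) :=
    isCharacter_indFun (P : Subgroup G) _ (isCharacter_of_irr (trivIrr (P : Subgroup G)))
  obtain ⟨m, _, hm⟩ := isCharacter_expansion hφchar
  set d := (Nat.card D).factorization p with hdD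
  have hd : ∀ i : Fin r,
      (Nat.card (Subgroup.centralizer ({x i} : Set G))).factorization p = d := by
    intro i
    obtain ⟨S, hS⟩ := hD i
    have h1 : Nat.card D =
        p ^ (Nat.card (Subgroup.centralizer ({x i} : Set G))).factorization p := by
      rw [← hS, Subgroup.card_map_of_injective (Subgroup.subtype_injective _)]
      exact Sylow.card_eq_multiplicity S
    rw [hdD, h1, Nat.Prime.factorization_pow hp.out]
    simp
  set e := (Nat.card G).factorization p - d with he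
  have hcop : ∀ n : ℕ, ¬ p ∣ n → Ideal.Quotient.mk M (n : Cfsg.AlgInt) ≠ 0 := by
    intro n hn h0
    have h1 : n.Coprime p := ((Nat.Prime.coprime_iff_not_dvd hp.out).mpr hn).symm
    exact h7_natCast_not_mem hM n h1 (Ideal.Quotient.eq_zero_iff_mem.mp h0)
  have hΔ : ∀ j : Fin r,
      Ideal.Quotient.mk M (((Subgroup.centralizer ({x j} : Set G)).index / p ^ e : ℕ) : Cfsg.AlgInt) *
      Ideal.Quotient.mk M ((((P : Subgroup G).index : ℕ)) : Cfsg.AlgInt) ≠ 0 := by
    intro j
    apply mul_ne_zero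
    · exact hcop _ (bsep_pow_dvd_index p (x j) d (hd j)).2.2
    · exact hcop _ P.not_dvd_index
  obtain ⟨f, hfT, hfli⟩ := @bsep_exists_li (Cfsg.AlgInt ⧸ M) _ (Cfsg.IrrCharacter G) _ r
    (fun χ i => Ideal.Quotient.mk M (bsepOm χ (x i)))
    (fun χ j => Ideal.Quotient.mk M (bsepOm χ (x j)⁻¹))
    (fun χ => Ideal.Quotient.mk M ((m χ : ℕ) : Cfsg.AlgInt) *
      Ideal.Quotient.mk M ((Cfsg.charDegree (χ : G → ℂ) / p ^ e : ℕ) : Cfsg.AlgInt))
    (fun χ => Cfsg.blockDefect p (Cfsg.blockOf M (χ : G → ℂ)) = d)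
    (fun χ => instDecidableEqNat _ _)
    (fun j => Ideal.Quotient.mk M
        (((Subgroup.centralizer ({x j} : Set G)).index / p ^ e : ℕ) : Cfsg.AlgInt) *
      Ideal.Quotient.mk M ((((P : Subgroup G).index : ℕ)) : Cfsg.AlgInt)) hΔ
    (fun i j => bsep_modM p hM P m hm x hx d hd hsep i j)
  have hsame : ∀ (l : Fin r) (ψ : Cfsg.IrrCharacter G), ψ ∈ Cfsg.blockOf M ((f l : Cfsg.IrrCharacter G) : G → ℂ) →
      ∀ g : G, Ideal.Quotient.mk M (bsepOm ψ g) = Ideal.Quotient.mk M (bsepOm (f l) g) := by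
    intro l ψ hψ g
    exact bsep_om_congr hMp (h7_sameBlock_symm hψ) g
  refine ⟨fun l => Cfsg.blockOf M ((f l : Cfsg.IrrCharacter G) : G → ℂ), ?_, ?_, ?_⟩
  · intro l l' hll
    apply hfli.injective
    funext i
    have h1 : f l' ∈ Cfsg.blockOf M ((f l : Cfsg.IrrCharacter G) : G → ℂ) := by
      have h2 : Cfsg.blockOf M ((f l : Cfsg.IrrCharacter G) : G → ℂ) =
          Cfsg.blockOf M ((f l' : Cfsg.IrrCharacter G) : G → ℂ) := hll
      rw [h2]
      exact h7_sameBlock_refl hMp _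
    exact (hsame l (f l') h1 (x i)).symm
  · intro l
    refine ⟨⟨f l, rfl⟩, ?_⟩
    have hne := hfli.ne_zero l
    obtain ⟨i, hi⟩ := Function.ne_iff.mp hne
    have hω : ¬ Cfsg.MemLocalIdeal M (Cfsg.centralChar ((f l : Cfsg.IrrCharacter G) : G → ℂ) (x i)) := by
      intro hmem
      apply hi
      have : bsepOm (f l) (x i) ∈ M := (h7_memLocalIdeal_algInt_iff hMp _).mp hmem
      exact Ideal.Quotient.eq_zero_iff_mem.mpr this
    obtain ⟨S, hS⟩ := hD i
    exact bsep_defectGroup p hM (f l) (x i) hω ((hfT l).trans (hd i).symm) D S hS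
  · intro χ' hχ' hmem
    let A' : Matrix (Fin r) (Fin r) Cfsg.AlgInt := Matrix.of fun l j => bsepVal (χ' l) (x j)
    have hcoe : ((A'.det : Cfsg.AlgInt) : ℂ) =
        Matrix.det (Matrix.of fun i j : Fin r => (χ' i : G → ℂ) (x j)) := by
      have h1 := RingHom.map_det (algebraMap Cfsg.AlgInt ℂ) A'
      have h2 : (algebraMap Cfsg.AlgInt ℂ).mapMatrix A' =
          Matrix.of fun i j : Fin r => (χ' i : G → ℂ) (x j) := by
        ext i j
        rfl
      rw [h2] at h1
      exact h1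
    rw [← hcoe] at hmem
    have hdetM : A'.det ∈ M := (h7_memLocalIdeal_algInt_iff hMp _).mp hmem
    have hdet0 : ((Ideal.Quotient.mk M).mapMatrix A').det = 0 := by
      rw [← RingHom.map_det]
      exact Ideal.Quotient.eq_zero_iff_mem.mpr hdetM
    have hfacts : ∀ l : Fin r, p ^ e ∣ Cfsg.charDegree ((χ' l : Cfsg.IrrCharacter G) : G → ℂ) ∧
        ¬ p ∣ Cfsg.charDegree ((χ' l : Cfsg.IrrCharacter G) : G → ℂ) / p ^ e := by
      intro l
      obtain ⟨_, h2, h3⟩ := bsep_val_facts p hM (f l) (χ' l) (hχ' l).1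
      rw [hfT l] at h2 h3
      exact ⟨h2, h3 (hχ' l).2⟩
    refine bsep_det_scale r ((Ideal.Quotient.mk M).mapMatrix A')
      (Matrix.of fun l j => Ideal.Quotient.mk M (bsepOm (f l) (x j)))
      (fun j => Ideal.Quotient.mk M
        (((Subgroup.centralizer ({x j} : Set G)).index / p ^ e : ℕ) : Cfsg.AlgInt))
      (fun l => Ideal.Quotient.mk M
        ((Cfsg.charDegree ((χ' l : Cfsg.IrrCharacter G) : G → ℂ) / p ^ e : ℕ) : Cfsg.AlgInt))
      (fun l => hcop _ (hfacts l).2)
      (bsep_det_ne_zero r (fun l j => Ideal.Quotient.mk M (bsepOm (f l) (x j))) hfli)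
      ?_ hdet0
    intro l j
    have h1 := bsep_rel_div p e (χ' l) (x j) (bsep_pow_dvd_index p (x j) d (hd j)).2.1 (hfacts l).1
    show Ideal.Quotient.mk M _ * Ideal.Quotient.mk M (bsepVal (χ' l) (x j)) =
      Ideal.Quotient.mk M _ * Ideal.Quotient.mk M (bsepOm (f l) (x j))
    rw [← map_mul, h1, map_mul, hsame l (χ' l) (hχ' l).1 (x j)]
    ring

end bsepMain

end Cfsg.Agent.Lib.Helper26
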