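import Mathlib
import Cfsg.Agent.Lib.Helper10.C3Q.Defs
import Cfsg.Agent.Lib.Helper16.SpinAdjust2
import Cfsg.Agent.Lib.helper15.OTSSTDCTX

set_option autoImplicit false

/-!
# Project C3Q, row SFIN (helper26): the core, with the statements of SSCAL, SPOS, SNEG and CLS as hypotheses.
-/

namespace Cfsg.Agent.Lib.Helper10.C3Q

open Matrix Module Cfsg.Agent.Lib.Helper13.OTS Cfsg.Agent.Lib.Helper16

universe u

variable {F : Type u} [Field F] {ι : Type} [Fintype ι] [DecidableEq ι]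

/-- transport of `NrmA` along `h A = A' h` -/
theorem c3qsfin_nrm_conj (A A' : Matrix ι ι F) (h : GL ι F)
    (hh : (h : Matrix ι ι F) * A = A' * (h : Matrix ι ι F)) (y : GL ι F) (hy : NrmA A' y) :
    NrmA A (h⁻¹ * y * h) := by
  have h1 : ((h⁻¹ : GL ι F) : Matrix ι ι F) * (h : Matrix ι ι F) = 1 := by
    rw [← Units.val_mul, inv_mul_cancel, Units.val_one]
  have h2 : (h : Matrix ι ι F) * ((h⁻¹ : GL ι F) : Matrix ι ι F) = 1 := by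
    rw [← Units.val_mul, mul_inv_cancel, Units.val_one]
  have h3 : ((h⁻¹ : GL ι F) : Matrix ι ι F) * A' = A * ((h⁻¹ : GL ι F) : Matrix ι ι F) := by
    calc ((h⁻¹ : GL ι F) : Matrix ι ι F) * A'
        = ((h⁻¹ : GL ι F) : Matrix ι ι F) * (A' * (h : Matrix ι ι F)) * ((h⁻¹ : GL ι F) : Matrix ι ι F) := by
          rw [Matrix.mul_assoc, Matrix.mul_assoc, h2, Matrix.mul_one]
      _ = ((h⁻¹ : GL ι F) : Matrix ι ι F) * ((h : Matrix ι ι F) * A) * ((h⁻¹ : GL ι F) : Matrix ι ι F) := by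
          rw [hh]
      _ = A * ((h⁻¹ : GL ι F) : Matrix ι ι F) := by
          rw [← Matrix.mul_assoc, h1, Matrix.one_mul]
  unfold NrmA at hy ⊢
  rw [Units.val_mul, Units.val_mul]
  rcases hy with hy | hy
  · left
    calc ((h⁻¹ : GL ι F) : Matrix ι ι F) * (y : Matrix ι ι F) * (h : Matrix ι ι F) * A
        = ((h⁻¹ : GL ι F) : Matrix ι ι F) * ((y : Matrix ι ι F) * A') * (h : Matrix ι ι F) := by
          rw [Matrix.mul_assoc, hh]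
          simp only [Matrix.mul_assoc]
      _ = (((h⁻¹ : GL ι F) : Matrix ι ι F) * A') * (y : Matrix ι ι F) * (h : Matrix ι ι F) := by
          rw [hy]
          simp only [Matrix.mul_assoc]
      _ = A * (((h⁻¹ : GL ι F) : Matrix ι ι F) * (y : Matrix ι ι F) * (h : Matrix ι ι F)) := by
          rw [h3]
          simp only [Matrix.mul_assoc]
  · right
    calc ((h⁻¹ : GL ι F) : Matrix ι ι F) * (y : Matrix ι ι F) * (h : Matrix ι ι F) * A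
        = ((h⁻¹ : GL ι F) : Matrix ι ι F) * ((y : Matrix ι ι F) * A') * (h : Matrix ι ι F) := by
          rw [Matrix.mul_assoc, hh]
          simp only [Matrix.mul_assoc]
      _ = -((((h⁻¹ : GL ι F) : Matrix ι ι F) * A') * (y : Matrix ι ι F) * (h : Matrix ι ι F)) := by
          rw [hy]
          simp only [Matrix.mul_assoc, Matrix.mul_neg, Matrix.neg_mul]
      _ = -(A * (((h⁻¹ : GL ι F) : Matrix ι ι F) * (y : Matrix ι ι F) * (h : Matrix ι ι F))) := by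
          rw [h3]
          simp only [Matrix.mul_assoc]

/-- the core of SFIN -/
theorem s_fin_core [Fintype F] (h2 : (2 : F) ≠ 0) (Q : QuadraticForm F (ι → F))
    (hQ : (QuadraticMap.polarBilin Q).Nondegenerate) (δ : F) (A : Matrix ι ι F)
    (hSCAL : ∀ x : GL ι F, x ∈ Cfsg.isometryGroup F (⇑Q) → ∀ z : F,
      ((x ^ 2 : GL ι F) : Matrix ι ι F) = z • (1 : Matrix ι ι F) → z = 1 ∨ z = -1)
    (hPOS : ∀ x : GL ι F, x ∈ Cfsg.Geo.omegaGL (⇑Q) → ((x ^ 2 : GL ι F) : Matrix ι ι F) = 1 →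
      ∃ (A' : Matrix ι ι F) (a b : ι → F) (ha : Q a ≠ 0) (hb : Q b ≠ 0), Gen (⇑Q) δ A' ∧
        IsSquare (Q a) ∧ ¬ IsSquare (Q b) ∧
        ∀ ρ : GL ι F, (ρ = 1 ∨ ρ = ((reflG Q a ha : ↥(Cfsg.isometryGroup F (⇑Q))) : GL ι F) ∨
            ρ = ((reflG Q b hb : ↥(Cfsg.isometryGroup F (⇑Q))) : GL ι F) ∨
            ρ = ((reflG Q a ha * reflG Q b hb : ↥(Cfsg.isometryGroup F (⇑Q))) : GL ι F)) →
          NrmA A' (ρ⁻¹ * x * ρ))
    (hNEG : ∀ x : GL ι F, x ∈ Cfsg.isometryGroup F (⇑Q) →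
      ((x ^ 2 : GL ι F) : Matrix ι ι F) = (-1 : F) • (1 : Matrix ι ι F) →
      ∃ (A' : Matrix ι ι F) (a b : ι → F) (ha : Q a ≠ 0) (hb : Q b ≠ 0), Gen (⇑Q) δ A' ∧
        IsSquare (Q a) ∧ ¬ IsSquare (Q b) ∧
        ∀ ρ : GL ι F, (ρ = 1 ∨ ρ = ((reflG Q a ha : ↥(Cfsg.isometryGroup F (⇑Q))) : GL ι F) ∨
            ρ = ((reflG Q b hb : ↥(Cfsg.isometryGroup F (⇑Q))) : GL ι F) ∨
            ρ = ((reflG Q a ha * reflG Q b hb : ↥(Cfsg.isometryGroup F (⇑Q))) : GL ι F)) →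
          NrmA A' (ρ⁻¹ * x * ρ))
    (hCLS : ∀ A' : Matrix ι ι F, Gen (⇑Q) δ A' → ∃ h : GL ι F, h ∈ Cfsg.isometryGroup F (⇑Q) ∧
      (h : Matrix ι ι F) * A = A' * (h : Matrix ι ι F)) :
    AllConjA (⇑Q) A 2 := by
  intro x hx hz _
  obtain ⟨z, hz⟩ := hz
  have hxiso : x ∈ Cfsg.isometryGroup F (⇑Q) := q_omega_le Q x hx
  have hloc : ∃ (A' : Matrix ι ι F) (a b : ι → F) (ha : Q a ≠ 0) (hb : Q b ≠ 0), Gen (⇑Q) δ A' ∧
      IsSquare (Q a) ∧ ¬ IsSquare (Q b) ∧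
      ∀ ρ : GL ι F, (ρ = 1 ∨ ρ = ((reflG Q a ha : ↥(Cfsg.isometryGroup F (⇑Q))) : GL ι F) ∨
          ρ = ((reflG Q b hb : ↥(Cfsg.isometryGroup F (⇑Q))) : GL ι F) ∨
          ρ = ((reflG Q a ha * reflG Q b hb : ↥(Cfsg.isometryGroup F (⇑Q))) : GL ι F)) →
        NrmA A' (ρ⁻¹ * x * ρ) := by
    rcases hSCAL x hxiso z hz with rfl | rfl
    · exact hPOS x hx (by rw [hz, one_smul])
    · exact hNEG x hxiso hz
  obtain ⟨A', a, b, ha, hb, hGen, hsa, hsb, hρ⟩ := hloc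
  obtain ⟨h, hiso, hhA⟩ := hCLS A' hGen
  obtain ⟨ρ', hΩ, hcases⟩ := spin_adjust2 h2 Q hQ ⟨h, hiso⟩ a b ha hb hsa hsb
  refine ⟨((ρ' * ⟨h, hiso⟩ : ↥(Cfsg.isometryGroup F (⇑Q))) : GL ι F), ⟨ρ' * ⟨h, hiso⟩, hΩ, rfl⟩, ?_⟩
  have hN : NrmA A' ((ρ' : GL ι F)⁻¹ * x * (ρ' : GL ι F)) := by
    apply hρ
    rcases hcases with rfl | rfl | rfl | rfl
    · exact Or.inl rfl
    · exact Or.inr (Or.inl rfl)
    · exact Or.inr (Or.inr (Or.inl rfl))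
    · exact Or.inr (Or.inr (Or.inr rfl))
  have h3 := c3qsfin_nrm_conj A A' h hhA _ hN
  have h4 : (((ρ' * ⟨h, hiso⟩ : ↥(Cfsg.isometryGroup F (⇑Q))) : GL ι F))⁻¹ * x *
      ((ρ' * ⟨h, hiso⟩ : ↥(Cfsg.isometryGroup F (⇑Q))) : GL ι F)
      = h⁻¹ * ((ρ' : GL ι F)⁻¹ * x * (ρ' : GL ι F)) * h := by
    rw [Subgroup.coe_mul]
    show ((ρ' : GL ι F) * h)⁻¹ * x * ((ρ' : GL ι F) * h) = _
    group
  rw [h4]
  exact h3

end Cfsg.Agent.Lib.Helper10.C3Q
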