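import Mathlib
import Cfsg.Agent.Lib.helper7.CEC.Defs
import Cfsg.Agent.Lib.Helper24.STCI1
import Cfsg.Agent.Lib.Helper22.STCF1

/-!
Project CEC (designer helper7; S2092) row L14 (core): the rank one relation for the lifts of the long root elements;
the statements of L4 `Dl_cj`, L8 `Dl_eq_Xl`, L10 `xF_map` are hypotheses.
-/

set_option autoImplicit false

namespace Cfsg.Agent.Lib.helper7.CEC

open Cfsg.Agent.Lib.helper15.St2 Cfsg.Agent.Lib.helper7.Ce Cfsg.Agent.Lib.helper3.STC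

section L

variable {K : Type*} [Field K] {ι : Type*} {Γ G : Type*} [Group Γ] [Group G] {S : SysC K ι G} {σ : Γ →* G} {h : IsCE σ}

/-- `swap a (ng a)` commutes with `ng` -/
theorem cecl14_swap_ng [DecidableEq ι] (a k : ι ⊕ ι) :
    Equiv.swap a (ng a) (ng k) = ng (Equiv.swap a (ng a) k) := by
  by_cases h1 : k = a
  · subst h1
    rw [Equiv.swap_apply_right, Equiv.swap_apply_left, ng_ng]
  · by_cases h2 : k = ng a
    · subst h2
      rw [ng_ng, Equiv.swap_apply_left, Equiv.swap_apply_right]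
    · rw [Equiv.swap_apply_of_ne_of_ne h1 h2,
        Equiv.swap_apply_of_ne_of_ne (fun e => h2 (ng_eq_iff.1 e)) (fun e => h1 (ng_inj.1 e))]

/-- L14 core -/
theorem cecl14_core [DecidableEq ι] (hW : S.HW) (L : ShortLift S h) (h2 : I2 ι)
    (hDl_cj : ∀ {g : G} {π : Equiv.Perm (ι ⊕ ι)} {d : ι ⊕ ι → K}, S.IsMon g π d → (∀ k, π (ng k) = ng (π k)) →
      ∀ {e : Γ}, σ e = g → ∀ {a b : ι ⊕ ι}, ab a ≠ ab b → ∀ t u : K,
        cj e (Dl L a b t u) = Dl L (π a) (π b) (d a * (d (ng a))⁻¹ * t) (d (ng a) * (d b)⁻¹ * u))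
    (hDl_eq : ∀ {a b : ι ⊕ ι}, ab a ≠ ab b → ∀ t u : K, Dl L a b t u = Xl L h2 b (sg a * sg b * t * u ^ 2))
    (hmap : ∀ (a b : ι ⊕ ι) (t : K), σ (xF L h2 a b t) = S.x a b t)
    (a : ι ⊕ ι) (t u : K) (ht : t ≠ 0) :
    cj (xF L h2 a (ng a) t * xF L h2 (ng a) a (-t⁻¹) * xF L h2 a (ng a) t) (xF L h2 a (ng a) u) =
      xF L h2 (ng a) a (-(t⁻¹ ^ 2 * u)) := by
  -- the lift of the Weyl element
  have he : σ (xF L h2 a (ng a) t * xF L h2 (ng a) a (-t⁻¹) * xF L h2 a (ng a) t) = S.w a (ng a) t := by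
    rw [map_mul, map_mul, hmap, hmap]
    rfl
  -- the long lifts
  have hx1 : ∀ s : K, xF L h2 a (ng a) s = Xl L h2 (ng a) s := by
    intro s
    unfold xF
    rw [if_neg (ne_ng a), if_pos rfl]
  have hx2 : ∀ s : K, xF L h2 (ng a) a s = Xl L h2 a s := by
    intro s
    unfold xF
    rw [if_neg (ng_ne a), if_pos (ng_ng a).symm]
  obtain ⟨c, hc⟩ := h2 a
  have hca : c ≠ a := fun e => hc (by rw [e])
  have hcna : c ≠ ng a := fun e => hc (by rw [e, ab_ng])
  have hnca : ng c ≠ a := fun e => hcna (ng_eq_iff.1 e)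
  have hncna : ng c ≠ ng a := fun e => hca (ng_inj.1 e)
  have hc' : ab c ≠ ab (ng a) := by rw [ab_ng]; exact hc
  have hmon := SysC.HW.long S hW a t ht
  have hsg : (sg c : K) * sg (ng a) * (sg c * sg (ng a) * u) * (1 : K) ^ 2 = u := by
    have h1 := sg_mul_self (K := K) c
    have h2' := sg_mul_self (K := K) (ng a)
    linear_combination (sg (ng a) * sg (ng a) * u) * h1 + u * h2'
  have hX : Xl L h2 (ng a) u = Dl L c (ng a) (sg c * sg (ng a) * u) 1 := by
    rw [hDl_eq hc']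
    congr 1
    exact hsg.symm
  rw [hx1 u, hx2 (-(t⁻¹ ^ 2 * u)), hX, hDl_cj hmon (cecl14_swap_ng a) he hc',
    Equiv.swap_apply_of_ne_of_ne hca hcna, Equiv.swap_apply_right, hDl_eq hc]
  congr 1
  have d1 : dwl a t c = 1 := by
    unfold dwl
    rw [if_neg hca, if_neg hcna]
  have d2 : dwl a t (ng c) = 1 := by
    unfold dwl
    rw [if_neg hnca, if_neg hncna]
  have d3 : dwl a t (ng a) = t := by
    unfold dwl
    rw [if_neg (ng_ne a), if_pos rfl]
  rw [d1, d2, d3, sg_ng]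
  have h1 := sg_mul_self (K := K) c
  have h3 := sg_mul_self (K := K) a
  field_simp
  linear_combination (-(sg a * sg a * u)) * h1 - u * h3

end L

end Cfsg.Agent.Lib.helper7.CEC
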