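import Mathlib
import Cfsg.Agent.Lib.helper7.CEC.Defs
import Cfsg.Agent.Lib.Helper26.CECL14core
import Cfsg.Agent.Lib.helper14.CECL4
import Cfsg.Agent.Lib.Helper13.CECL7
import Cfsg.Agent.Lib.helper4.CECL10

/-!
Project CEC (designer helper7; S2092) row L14 (`xF_rel_long`), VERBATIM vs `helper7/CEC/Skel.lean.txt`:
`cecl14_core` applied to L4 `Dl_cj` (helper14), L8 `Dl_eq_Xl` (helper13), L10 `xF_map` (helper4).
-/

set_option autoImplicit false

namespace Cfsg.Agent.Lib.helper7.CEC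

open Cfsg.Agent.Lib.helper15.St2 Cfsg.Agent.Lib.helper7.Ce Cfsg.Agent.Lib.helper3.STC

section L

variable {K : Type*} [Field K] {ι : Type*} {Γ G : Type*} [Group Γ] [Group G] {S : SysC K ι G} {σ : Γ →* G} {h : IsCE σ}

/-- L14 [M] -/
theorem xF_rel_long [DecidableEq ι] (hC : HC S σ) (hW : S.HW) (hH : S.HH) (L : ShortLift S h) (h2 : I2 ι) (a : ι ⊕ ι) (t u : K) (ht : t ≠ 0) :
    cj (xF L h2 a (ng a) t * xF L h2 (ng a) a (-t⁻¹) * xF L h2 a (ng a) t) (xF L h2 a (ng a) u) = xF L h2 (ng a) a (-(t⁻¹ ^ 2 * u)) :=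
  cecl14_core hW L h2 (fun hg hπ _ he _ _ hab t u => Dl_cj L hg hπ he hab t u)
    (fun hab t u => Dl_eq_Xl hC hW hH L h2 hab t u) (xF_map L h2) a t u ht

end L

end Cfsg.Agent.Lib.helper7.CEC
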