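import Mathlib
import Cfsg.Agent.Lib.helper7.CEC.Defs
import Cfsg.Agent.Lib.helper7.CEC.Defs2
import Cfsg.Agent.Lib.Helper24.STCI1
import Cfsg.Agent.Lib.Helper22.STCF1
import Cfsg.Agent.Lib.helper23.STCX2

/-!
Project CEC (designer helper7; S2092) block Z row Z1 (`t7_three`), VERBATIM vs `helper7/CEC/Skel2.lean.txt`:
two long roots over the field with three elements.  Extras `cecz1_*`: the commutator `cecz1_kap` of the lifts of two
long root elements with different absolute values is central, additive in both arguments, and antisymmetric up to the Weyl swap.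
-/

set_option autoImplicit false

namespace Cfsg.Agent.Lib.helper7.CEC

open Cfsg.Agent.Lib.helper15.St2 Cfsg.Agent.Lib.helper7.Ce Cfsg.Agent.Lib.helper3.STC

section Z

variable {K : Type*} [Field K] {ι : Type*} {Γ G : Type*} [Group Γ] [Group G] {S : SysC K ι G} {σ : Γ →* G}

/-- additivity of the commutator on the left when one of the values is central -/
theorem cecz1_cm_mul_left (h : IsCE σ) {p q b : Γ} (hq : σ (cm q b) = 1) : cm (p * q) b = cm p b * cm q b := by
  rw [cm_mul_left]
  have e1 := h.cj_of_map_one hq p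
  unfold cj at e1
  rw [e1]
  exact h.comm_of_map_one hq (cm p b)

/-- additivity of the commutator on the right when one of the values is central -/
theorem cecz1_cm_mul_right (h : IsCE σ) {a b c : Γ} (hc : σ (cm a c) = 1) : cm a (b * c) = cm a b * cm a c := by
  rw [cm_mul_right]
  have e1 := h.cj_of_map_one hc b
  unfold cj at e1
  rw [e1]

/-- the commutator of the chosen lifts of two long root elements -/
noncomputable def cecz1_kap (S : SysC K ι G) (h : IsCE σ) (a c : ι ⊕ ι) (t u : K) : Γ :=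
  cm (lf h (S.x a (ng a) t)) (lf h (S.x c (ng c) u))

theorem cecz1_comm {a c : ι ⊕ ι} (hac : ab a ≠ ab c) (t u : K) :
    S.x a (ng a) t * S.x c (ng c) u = S.x c (ng c) u * S.x a (ng a) t := by
  have hac2 : a ≠ ng c := fun e => hac (by rw [e, ab_ng])
  have hnac : ng a ≠ c := fun e => hac2 (ng_eq_iff.1 e)
  exact S.comm a (ng a) c (ng c) (ne_ng a) (ne_ng c) hnac hac2 (by rw [ng_ng]; exact hnac) hac2 t u

theorem cecz1_kap_eq (h : IsCE σ) {a c : ι ⊕ ι} {t u : K} {p q : Γ} (hp : σ p = S.x a (ng a) t) (hq : σ q = S.x c (ng c) u) :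
    cm p q = cecz1_kap S h a c t u := by
  unfold cecz1_kap
  exact h.cm_congr (by rw [hp, map_lf]) (by rw [hq, map_lf])

theorem cecz1_map_cm {a c : ι ⊕ ι} (hac : ab a ≠ ab c) {t u : K} {p q : Γ} (hp : σ p = S.x a (ng a) t) (hq : σ q = S.x c (ng c) u) :
    σ (cm p q) = 1 := by
  rw [map_cm, hp, hq, cm_eq_one_iff]
  exact cecz1_comm hac t u

theorem cecz1_kap_map (h : IsCE σ) {a c : ι ⊕ ι} (hac : ab a ≠ ab c) (t u : K) : σ (cecz1_kap S h a c t u) = 1 :=
  cecz1_map_cm hac (map_lf h _) (map_lf h _)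

theorem cecz1_kap_add_left (h : IsCE σ) {a c : ι ⊕ ι} (hac : ab a ≠ ab c) (t t' u : K) :
    cecz1_kap S h a c (t + t') u = cecz1_kap S h a c t u * cecz1_kap S h a c t' u := by
  have e1 : σ (lf h (S.x a (ng a) t) * lf h (S.x a (ng a) t')) = S.x a (ng a) (t + t') := by
    rw [map_mul, map_lf, map_lf, S.add a (ng a) (ne_ng a)]
  rw [← cecz1_kap_eq h e1 (map_lf h (S.x c (ng c) u)),
    cecz1_cm_mul_left h (cecz1_map_cm hac (map_lf h _) (map_lf h _))]
  rfl

theorem cecz1_kap_add_right (h : IsCE σ) {a c : ι ⊕ ι} (hac : ab a ≠ ab c) (t u u' : K) :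
    cecz1_kap S h a c t (u + u') = cecz1_kap S h a c t u * cecz1_kap S h a c t u' := by
  have e1 : σ (lf h (S.x c (ng c) u) * lf h (S.x c (ng c) u')) = S.x c (ng c) (u + u') := by
    rw [map_mul, map_lf, map_lf, S.add c (ng c) (ne_ng c)]
  rw [← cecz1_kap_eq h (map_lf h (S.x a (ng a) t)) e1,
    cecz1_cm_mul_right h (cecz1_map_cm hac (map_lf h _) (map_lf h _))]
  rfl

theorem cecz1_kap_zero_left (h : IsCE σ) {a c : ι ⊕ ι} (hac : ab a ≠ ab c) (u : K) : cecz1_kap S h a c 0 u = 1 := by
  have := cecz1_kap_add_left (S := S) h hac 0 0 u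
  rw [add_zero] at this
  exact mul_eq_left.1 this.symm

theorem cecz1_kap_zero_right (h : IsCE σ) {a c : ι ⊕ ι} (hac : ab a ≠ ab c) (t : K) : cecz1_kap S h a c t 0 = 1 := by
  have := cecz1_kap_add_right (S := S) h hac t 0 0
  rw [add_zero] at this
  exact mul_eq_left.1 this.symm

theorem cecz1_kap_neg_left (h : IsCE σ) {a c : ι ⊕ ι} (hac : ab a ≠ ab c) (t u : K) :
    cecz1_kap S h a c (-t) u = (cecz1_kap S h a c t u)⁻¹ := by
  have := cecz1_kap_add_left (S := S) h hac (-t) t u
  rw [neg_add_cancel, cecz1_kap_zero_left h hac] at this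
  exact eq_inv_of_mul_eq_one_left this.symm

theorem cecz1_kap_neg_right (h : IsCE σ) {a c : ι ⊕ ι} (hac : ab a ≠ ab c) (t u : K) :
    cecz1_kap S h a c t (-u) = (cecz1_kap S h a c t u)⁻¹ := by
  have := cecz1_kap_add_right (S := S) h hac t (-u) u
  rw [neg_add_cancel, cecz1_kap_zero_right h hac] at this
  exact eq_inv_of_mul_eq_one_left this.symm

/-- the Weyl swap of the two long roots -/
theorem cecz1_kap_swap [DecidableEq ι] (h : IsCE σ) (hW : S.HW) {a c : ι ⊕ ι} (hac : ab a ≠ ab c) (t u : K) :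
    cecz1_kap S h a c t u = (cecz1_kap S h a c (sg a * sg c * u) (sg a * sg c * t))⁻¹ := by
  have hac1 : a ≠ c := fun e => hac (by rw [e])
  have hac2 : a ≠ ng c := fun e => hac (by rw [e, ab_ng])
  have hnac : ng a ≠ c := fun e => hac2 (ng_eq_iff.1 e)
  have hnanc : ng a ≠ ng c := fun e => hac1 (ng_inj.1 e)
  have hcna : c ≠ ng a := fun e => hnac e.symm
  have hmon := SysC.HW.short S hW hac1 hac2 1 one_ne_zero
  have d1 : dws a c (1 : K) a = -1 := by
    unfold dws
    rw [if_pos rfl, inv_one]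
  have d2 : dws a c (1 : K) c = 1 := by
    unfold dws
    rw [if_neg hac1.symm, if_pos rfl]
  have d3 : dws a c (1 : K) (ng c) = sg a * sg c := by
    unfold dws
    rw [if_neg (fun e => hac2 e.symm), if_neg (ng_ne c), if_pos rfl, inv_one, mul_one]
  have d4 : dws a c (1 : K) (ng a) = -(sg a * sg c) := by
    unfold dws
    rw [if_neg (ng_ne a), if_neg hnac, if_neg hnanc, if_pos rfl, mul_one]
  have p1 : sws a c a = c := by
    have := SysC.wpm_left hac1
    rwa [SysC.wpm_short hcna] at this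
  have p2 : sws a c c = a := by
    have := SysC.wpm_right hac1
    rwa [SysC.wpm_short hcna] at this
  have p3 : sws a c (ng a) = ng c := by rw [SysC.stcx2_sws_ng, p1]
  have p4 : sws a c (ng c) = ng a := by rw [SysC.stcx2_sws_ng, p2]
  have hs : (sg a * sg c : K) * (sg a * sg c) = 1 := by
    have h1 := sg_mul_self (K := K) a
    have h2 := sg_mul_self (K := K) c
    linear_combination (sg c * sg c) * h1 + h2
  have hsi : (sg a * sg c : K)⁻¹ = sg a * sg c := by
    rw [inv_eq_iff_eq_inv]; exact eq_inv_of_mul_eq_one_left hs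
  set e := lf h (S.w a c 1) with he
  have se : σ e = S.w a c 1 := map_lf h _
  have s1 : σ (cj e (lf h (S.x a (ng a) t))) = S.x c (ng c) (sg a * sg c * t) := by
    rw [map_cj, se, map_lf, hmon.2 a (ng a) (ne_ng a) t, p1, p3, d1, d4, inv_neg, hsi]
    congr 1
    ring
  have s2 : σ (cj e (lf h (S.x c (ng c) u))) = S.x a (ng a) (sg a * sg c * u) := by
    rw [map_cj, se, map_lf, hmon.2 c (ng c) (ne_ng c) u, p2, p4, d2, d3, hsi, one_mul]
  have e1 : cj e (cecz1_kap S h a c t u) = cecz1_kap S h a c t u := h.cj_of_map_one (cecz1_kap_map h hac t u) e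
  rw [← e1]
  unfold cecz1_kap
  rw [cj_cm, cm_inv_swap]
  exact h.cm_congr (by rw [s1, map_lf]) (by rw [s2, map_lf])

/-- Z1 [M-L] -/
theorem t7_three [DecidableEq ι] (h : IsCE σ) (hW : S.HW) (h3 : (3 : K) = 0) (hK : ∀ t : K, t = 0 ∨ t = 1 ∨ t = -1) :
    ∀ a c : ι ⊕ ι, ab a ≠ ab c → ∀ t u : K, CL σ (S.x a (ng a) t) (S.x c (ng c) u) := by
  intro a c hac
  -- the value at `(1, 1)`
  have h11 : cecz1_kap S h a c 1 1 = 1 := by
    have hsw : cecz1_kap S h a c 1 1 = (cecz1_kap S h a c 1 1)⁻¹ := by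
      have e0 := cecz1_kap_swap h hW hac (1 : K) 1
      rw [mul_one] at e0
      rcases hK (sg a * sg c) with e | e | e
      · exact absurd e (mul_ne_zero (sg_ne_zero a) (sg_ne_zero c))
      · rw [e] at e0
        exact e0
      · rw [e, cecz1_kap_neg_left h hac, cecz1_kap_neg_right h hac, inv_inv] at e0
        exact e0
    have hcube : cecz1_kap S h a c 1 1 * cecz1_kap S h a c 1 1 * cecz1_kap S h a c 1 1 = 1 := by
      rw [← cecz1_kap_add_left h hac, ← cecz1_kap_add_left h hac]
      have : (1 + 1 + 1 : K) = 0 := by rw [← h3]; norm_num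
      rw [this, cecz1_kap_zero_left h hac]
    have hsq : cecz1_kap S h a c 1 1 * cecz1_kap S h a c 1 1 = 1 := by
      nth_rewrite 1 [hsw]
      exact inv_mul_cancel _
    rw [hsq, one_mul] at hcube
    exact hcube
  have hall : ∀ t u : K, cecz1_kap S h a c t u = 1 := by
    intro t u
    rcases hK t with rfl | rfl | rfl
    · exact cecz1_kap_zero_left h hac u
    · rcases hK u with rfl | rfl | rfl
      · exact cecz1_kap_zero_right h hac _
      · exact h11
      · rw [cecz1_kap_neg_right h hac, h11, inv_one]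
    · rcases hK u with rfl | rfl | rfl
      · exact cecz1_kap_zero_right h hac _
      · rw [cecz1_kap_neg_left h hac, h11, inv_one]
      · rw [cecz1_kap_neg_left h hac, cecz1_kap_neg_right h hac, h11, inv_one, inv_one]
  intro t u p q hp hq
  rw [← cm_eq_one_iff, cecz1_kap_eq h hp hq]
  exact hall t u

end Z

end Cfsg.Agent.Lib.helper7.CEC
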