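import Mathlib
import Cfsg.Agent.Lib.helper17.CEM.Defs

/-!
# Project CEM (designer helper17; S2099), row M2 `restrict_genM`, VERBATIM (helper26).
The restriction of a `SysM` to the subgroup generated by its root elements generates (twin of SPB T0b `restrict_genB`).
-/

set_option autoImplicit false

namespace Cfsg.Agent.Lib.helper17.CEM

open Cfsg.Agent.Lib.helper15.St2 Cfsg.Agent.Lib.helper7.Ce Cfsg.Agent.Lib.helper3.STC Cfsg.Agent.Lib.Lead.STD
  Cfsg.Agent.Lib.helper7.CEC Cfsg.Agent.Lib.helper7.CED Cfsg.Agent.Lib.helper17.STM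

section M

universe v w w'

variable {F : Type*} [Field F] [Finite F] {A B : F} [Fact (∀ r : F, r ^ 2 ≠ -B + A * r)]

omit [Finite F] in
/-- M2 [S-M]  the restriction of a system to the subgroup generated by its root elements generates (model SPB T0b `restrict_genB`, `Helper26.SPBT0b`; `SysM.restrict` of `STM/Defs3.lean`). -/
theorem restrict_genM {ι : Type*} {Γ : Type*} [Group Γ] (Q : SysM F A B ι Γ)
    (hL : ∀ a b t, Q.x a b t ∈ Q.XQ (fun _ _ => True) (fun _ => True)) (hLs : ∀ a u, Q.xs a u ∈ Q.XQ (fun _ _ => True) (fun _ => True)) :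
    (Q.restrict (Q.XQ (fun _ _ => True) (fun _ => True)) hL hLs).XQ (fun _ _ => True) (fun _ => True) = ⊤ := by
  rw [eq_top_iff]
  rintro ⟨x, hx⟩ -
  have hmap : Q.XQ (fun _ _ => True) (fun _ => True) ≤
      ((Q.restrict (Q.XQ (fun _ _ => True) (fun _ => True)) hL hLs).XQ (fun _ _ => True) (fun _ => True)).map
        (Q.XQ (fun _ _ => True) (fun _ => True)).subtype := by
    conv_lhs => unfold SysM.XQ
    rw [Subgroup.closure_le]
    rintro _ (⟨a, b, t, hab, hab', -, rfl⟩ | ⟨a, t, -, rfl⟩)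
    · refine ⟨(Q.restrict (Q.XQ (fun _ _ => True) (fun _ => True)) hL hLs).x a b t, ?_, rfl⟩
      exact Subgroup.subset_closure (Or.inl ⟨a, b, t, hab, hab', trivial, rfl⟩)
    · refine ⟨(Q.restrict (Q.XQ (fun _ _ => True) (fun _ => True)) hL hLs).xs a t, ?_, rfl⟩
      exact Subgroup.subset_closure (Or.inr ⟨a, t, trivial, rfl⟩)
  obtain ⟨x', hx', hxx⟩ := hmap hx
  have : x' = ⟨x, hx⟩ := Subtype.ext hxx
  rw [← this]
  exact hx'

end M

end Cfsg.Agent.Lib.helper17.CEM
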