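import Mathlib
import Cfsg.Prelude.Def_Characters
import Cfsg.Prelude.Def_Blocks
import Cfsg.Agent.Lib.Helper26.CdOneP3
import Cfsg.Agent.Lib.Helper25.CharBound
import Cfsg.Agent.Lib.helper2.Cd2F

set_option autoImplicit false
set_option linter.style.haveILetI false
set_option linter.unusedSectionVars false
set_option linter.unusedVariables false

namespace Cfsg.Agent.Lib.Helper26

open scoped ComplexConjugate commutatorElement
open Cfsg.Agent.Lib.Helper24 Cfsg.Agent.Lib.Helper25 Cfsg.Agent.Lib.Helper11 Cfsg.Agent.Lib.helper2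
  Cfsg.Agent.Lib.helper7

/-- Some irreducible character is nontrivial at a nonidentity element. -/
theorem cdp_exists_ne {P : Type*} [Group P] [Finite P] (z : P) (hz1 : z ≠ 1) :
    ∃ χ : Cfsg.IrrCharacter P, (χ : P → ℂ) z ≠ (χ : P → ℂ) 1 := by
  by_contra h
  apply hz1
  apply cd2_eq_one_of_all_deg
  intro χ
  by_contra hne
  exact h ⟨χ, hne⟩

/-- Restriction to a nonabelian normal subgroup with commutators in `⟨z⟩` is irreducible. -/
theorem cdp_restrict_irr {P : Type*} [Group P] [Finite P] {p : ℕ} (hp : p.Prime)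
    (z : P) (hzo : orderOf z = p)
    (A : Subgroup P) [hAn : A.Normal]
    (hAK : ∀ a ∈ A, ∀ b ∈ A, ⁅a, b⁆ ∈ Subgroup.zpowers z)
    (hAna : ∃ a ∈ A, ∃ b ∈ A, a * b ≠ b * a)
    (χ : Cfsg.IrrCharacter P) (hdeg : (χ : P → ℂ) 1 = (p : ℂ))
    (hχz : (χ : P → ℂ) z ≠ (χ : P → ℂ) 1) :
    Cfsg.IsIrrCharacter A (fun n : A => (χ : P → ℂ) n) := by
  rcases cdp_restrict hp A χ hdeg with h | h
  · exact h
  · exfalso
    obtain ⟨a, ha, b, hb, hab⟩ := hAna
    have hw1 : ⁅a, b⁆ ≠ 1 := fun h1 => hab (commutatorElement_eq_one_iff_mul_comm.mp h1)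
    have hzw := cdp_prime_zpowers hp z _ hzo (hAK a ha b hb) hw1
    have hwk : ⁅a, b⁆ ∈ irrKer χ := (mem_irrKer χ _).mpr (h a ha b hb)
    have hzk : z ∈ irrKer χ := (Subgroup.zpowers_le.mpr hwk) hzw
    exact hχz ((mem_irrKer χ z).mp hzk)

theorem cdp_caseii {P : Type*} [Group P] [Finite P] {p : ℕ} (hp : p.Prime)
    (hcd : ∀ χ : Cfsg.IrrCharacter P, Cfsg.charDegree (χ : P → ℂ) = 1 ∨
      Cfsg.charDegree (χ : P → ℂ) = p)
    (z : P) (hz : z ∈ Subgroup.center P) (hzo : orderOf z = p) (hzc : z ∈ commutator P)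
    (A : Subgroup P) [hAn : A.Normal] (hAi : A.index = p)
    (hAK : ∀ a ∈ A, ∀ b ∈ A, ⁅a, b⁆ ∈ Subgroup.zpowers z)
    (hAna : ∃ a ∈ A, ∃ b ∈ A, a * b ≠ b * a) :
    ∃ C : Subgroup P, C ≤ Subgroup.center P ∧ Nat.card P ≤ p ^ 3 * Nat.card C := by
  classical
  haveI := Fintype.ofFinite P
  haveI : Fintype A := Fintype.ofFinite A
  set K := Subgroup.zpowers z with hKdef
  have hK : K ≤ Subgroup.center P := Subgroup.zpowers_le.mpr hz
  haveI hKn : K.Normal := cdp_normal_of_le_center K hK
  have hz1 : z ≠ 1 := by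
    intro h
    rw [h, orderOf_one] at hzo
    exact hp.one_lt.ne hzo
  have hKbot : K ≠ ⊥ := by
    intro h
    have : z ∈ K := Subgroup.mem_zpowers z
    rw [h, Subgroup.mem_bot] at this
    exact hz1 this
  set C : Subgroup P := A ⊓ Subgroup.centralizer (A : Set P) with hC
  have hCA : C ≤ A := inf_le_left
  haveI : Fintype C := Fintype.ofFinite C
  have hp0 : (p : ℂ) ≠ 0 := by exact_mod_cast hp.ne_zero
  refine ⟨C, ?_, ?_⟩
  · -- C is central
    intro a haC
    rw [Subgroup.mem_center_iff]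
    intro g
    have haA : a ∈ A := hCA haC
    have hacent : ∀ h ∈ A, h * a = a * h := by
      intro h hh
      exact (Subgroup.mem_centralizer_iff.mp haC.2) h hh
    set a' := g * a * g⁻¹ with ha'
    have ha'A : a' ∈ A := hAn.conj_mem a haA g
    have ha'cent : ∀ h ∈ A, h * a' = a' * h := by
      intro h hh
      have h1 : g⁻¹ * h * g ∈ A := by
        have := hAn.conj_mem h hh g⁻¹
        rwa [inv_inv] at this
      have h2 := hacent _ h1
      rw [ha']
      calc h * (g * a * g⁻¹) = g * ((g⁻¹ * h * g) * a) * g⁻¹ := by group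
        _ = g * (a * (g⁻¹ * h * g)) * g⁻¹ := by rw [h2]
        _ = g * a * g⁻¹ * h := by group
    have hb1 : a⁻¹ * a' = 1 := by
      apply cdp_sep K hKbot
      intro χ hex
      have hχz := cdp_ne_of_exists χ z hex
      have hdeg := cdp_deg_eq hcd z hzc χ hχz
      have hirr := cdp_restrict_irr hp z hzo A hAK hAna χ hdeg hχz
      have hacen : (⟨a, haA⟩ : A) ∈ Subgroup.center A := by
        rw [Subgroup.mem_center_iff]
        intro x
        apply Subtype.ext
        exact hacent x x.2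
      have ha'cen : (⟨a', ha'A⟩ : A) ∈ Subgroup.center A := by
        rw [Subgroup.mem_center_iff]
        intro x
        apply Subtype.ext
        exact ha'cent x x.2
      obtain ⟨c, hc⟩ := h7_central_char hirr _ hacen
      obtain ⟨c', hc'⟩ := h7_central_char hirr _ ha'cen
      have e1 := hc 1
      have e2 := hc' 1
      have e3 := hc (⟨a, haA⟩⁻¹ * ⟨a', ha'A⟩)
      have e4 := hc (⟨a, haA⟩⁻¹)
      simp only [mul_one, mul_inv_cancel_left, mul_inv_cancel, Subgroup.coe_mul, Subgroup.coe_inv,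
        Subgroup.coe_one] at e1 e2 e3 e4
      have hcl : (χ : P → ℂ) a' = (χ : P → ℂ) a := h7_irr_isClassFunction χ.2 a g
      rw [hdeg] at e1 e2 e4
      have hcc : c = c' := by
        have : c * (p : ℂ) = c' * (p : ℂ) := by rw [← e1, ← e2, hcl]
        exact mul_right_cancel₀ hp0 this
      have hc0 : c ≠ 0 := by
        intro h0
        rw [h0, zero_mul] at e4
        exact hp0 e4
      rw [hdeg]
      have : c * (χ : P → ℂ) (a⁻¹ * a') = c * (p : ℂ) := by
        rw [← e3, e2, hcc]
      exact mul_left_cancel₀ hc0 this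
    have : a' = a := by
      have := congrArg (fun t => a * t) hb1
      simpa using this
    rw [ha'] at this
    calc g * a = (g * a * g⁻¹) * g := by group
      _ = a * g := by rw [this]
  · -- counting
    obtain ⟨χ, hχz⟩ := cdp_exists_ne z hz1
    have hdeg := cdp_deg_eq hcd z hzc χ hχz
    have hirr := cdp_restrict_irr hp z hzo A hAK hAna χ hdeg hχz
    have hvan : ∀ a ∈ A, a ∉ C → (χ : P → ℂ) a = 0 := by
      intro a haA haC
      have hnc : a ∉ Subgroup.centralizer (A : Set P) := fun h => haC ⟨haA, h⟩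
      rw [Subgroup.mem_centralizer_iff] at hnc
      have hex : ∃ b ∈ A, b * a ≠ a * b := by
        by_contra hcon
        apply hnc
        intro b hb
        by_contra hne
        exact hcon ⟨b, hb, hne⟩
      obtain ⟨b, hb, hba⟩ := hex
      have hw1 : ⁅b, a⁆ ≠ 1 := fun h1 => hba (commutatorElement_eq_one_iff_mul_comm.mp h1)
      exact cdp_vanish hp χ z hz hzo hχz a b (hAK b hb a haA) hw1
    set f : P → ℂ := fun g => if g ∈ C then (χ : P → ℂ) g * conj ((χ : P → ℂ) g) else 0 with hf
    have h1 := cdp_irr_sum_sq (⟨_, hirr⟩ : Cfsg.IrrCharacter A)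
    simp only at h1
    have h2 : ∑ a : A, (χ : P → ℂ) a * conj ((χ : P → ℂ) a) = ∑ a : A, f a := by
      apply Finset.sum_congr rfl
      intro a _
      simp only [hf]
      by_cases haC : (a : P) ∈ C
      · rw [if_pos haC]
      · rw [if_neg haC, hvan a a.2 haC, zero_mul]
    have h3 : ∑ a : A, f a = ∑ g : P, f g := by
      apply cdp_sum_restrict A f
      intro g hg
      simp only [hf]
      rw [if_neg (fun h => hg (hCA h))]
    have h4 : ∑ c : C, f c = ∑ g : P, f g := by
      apply cdp_sum_restrict C f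
      intro g hg
      simp only [hf]
      rw [if_neg hg]
    have h5 : ∑ c : C, f c = ∑ c : C, (((Complex.normSq ((χ : P → ℂ) c)) : ℝ) : ℂ) := by
      apply Finset.sum_congr rfl
      intro c _
      simp only [hf]
      rw [if_pos c.2, Complex.mul_conj]
    have h6 : (Nat.card A : ℝ) = ∑ c : C, Complex.normSq ((χ : P → ℂ) c) := by
      have : ((Nat.card A : ℝ) : ℂ) = ((∑ c : C, Complex.normSq ((χ : P → ℂ) c) : ℝ) : ℂ) := by
        push_cast
        rw [← h5, h4, ← h3, ← h2, h1]
      exact_mod_cast this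
    have h7 : ∀ c : C, Complex.normSq ((χ : P → ℂ) c) ≤ (p : ℝ) ^ 2 := by
      intro c
      rw [Complex.normSq_eq_norm_sq]
      have hle := irr_norm_le χ (c : P)
      rw [hdeg] at hle
      have hpn : ‖(p : ℂ)‖ = (p : ℝ) := by simp
      rw [hpn] at hle
      exact pow_le_pow_left₀ (norm_nonneg _) hle 2
    have h8 : (Nat.card A : ℝ) ≤ (Nat.card C : ℝ) * (p : ℝ) ^ 2 := by
      rw [h6]
      calc ∑ c : C, Complex.normSq ((χ : P → ℂ) c) ≤ ∑ c : C, (p : ℝ) ^ 2 :=
            Finset.sum_le_sum (fun c _ => h7 c)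
        _ = (Nat.card C : ℝ) * (p : ℝ) ^ 2 := by
            rw [Finset.sum_const, Finset.card_univ, nsmul_eq_mul, Nat.card_eq_fintype_card]
    have h9 : Nat.card A ≤ Nat.card C * p ^ 2 := by exact_mod_cast h8
    have h10 := Subgroup.index_mul_card A
    rw [hAi] at h10
    rw [← h10]
    calc p * Nat.card A ≤ p * (Nat.card C * p ^ 2) := Nat.mul_le_mul_left p h9
      _ = p ^ 3 * Nat.card C := by ring

end Cfsg.Agent.Lib.Helper26
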