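import Mathlib
import Cfsg.Prelude.Def_Characters
import Cfsg.Prelude.Def_Blocks
import Cfsg.Agent.Lib.Helper26.CdOneP4
import Cfsg.Agent.Lib.Helper1.Nilp

set_option autoImplicit false
set_option linter.style.haveILetI false
set_option linter.unusedSectionVars false
set_option linter.unusedVariables false

namespace Cfsg.Agent.Lib.Helper26

open scoped ComplexConjugate commutatorElement
open Cfsg.Agent.Lib.Helper24 Cfsg.Agent.Lib.Helper25 Cfsg.Agent.Lib.Helper11 Cfsg.Agent.Lib.helper2
  Cfsg.Agent.Lib.helper7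

universe u

/-- If the center has index `p²` there is an abelian subgroup of index `p`. -/
theorem cdp_index_sq {P : Type*} [Group P] [Finite P] {p : ℕ} (hp : p.Prime)
    (hidx : (Subgroup.center P).index = p ^ 2) :
    ∃ A : Subgroup P, (∀ a ∈ A, ∀ b ∈ A, a * b = b * a) ∧ A.index = p := by
  classical
  have hne : Subgroup.center P ≠ ⊤ := by
    intro h
    rw [h, Subgroup.index_top] at hidx
    have : 1 < p ^ 2 := Nat.one_lt_pow (by norm_num) hp.one_lt
    omega
  obtain ⟨x, hx⟩ : ∃ x : P, x ∉ Subgroup.center P := by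
    by_contra hcon
    apply hne
    rw [eq_top_iff]
    intro y _
    by_contra hy
    exact hcon ⟨y, hy⟩
  set k : Set P := (Subgroup.center P : Set P) ∪ {x} with hk
  have hkcomm : ∀ a ∈ k, ∀ b ∈ k, a * b = b * a := by
    intro a ha b hb
    rcases ha with ha | ha
    · exact (Subgroup.mem_center_iff.mp ha b).symm
    · rcases hb with hb | hb
      · exact Subgroup.mem_center_iff.mp hb a
      · rw [Set.mem_singleton_iff] at ha hb
        rw [ha, hb]
  set B : Subgroup P := Subgroup.closure k with hB
  have hBcomm : ∀ a ∈ B, ∀ b ∈ B, a * b = b * a := by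
    intro a ha b hb
    letI := Subgroup.closureCommGroupOfComm hkcomm
    have := mul_comm (⟨a, ha⟩ : Subgroup.closure k) ⟨b, hb⟩
    exact congrArg Subtype.val this
  have hZB : Subgroup.center P ≤ B := by
    intro c hc
    exact Subgroup.subset_closure (Or.inl hc)
  have hxB : x ∈ B := Subgroup.subset_closure (Or.inr rfl)
  refine ⟨B, hBcomm, ?_⟩
  have hdvd : B.index ∣ p ^ 2 := by
    rw [← hidx]
    exact Subgroup.index_dvd_of_le hZB
  obtain ⟨i, hi, hBi⟩ := (Nat.dvd_prime_pow hp).mp hdvd
  interval_cases i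
  · exfalso
    rw [pow_zero, Subgroup.index_eq_one] at hBi
    apply hx
    rw [Subgroup.mem_center_iff]
    intro g
    exact hBcomm g (by rw [hBi]; exact Subgroup.mem_top g) x hxB
  · rw [hBi, pow_one]
  · exfalso
    apply hx
    have hcard : Nat.card B ≤ Nat.card (Subgroup.center P) := by
      have h1 := Subgroup.index_mul_card B
      have h2 := Subgroup.index_mul_card (Subgroup.center P)
      rw [hBi] at h1
      rw [hidx, ← h1] at h2
      have hpos : 0 < p ^ 2 := pow_pos hp.pos 2
      exact le_of_eq (Nat.eq_of_mul_eq_mul_left hpos h2).symm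
    have := Subgroup.eq_of_le_of_card_ge hZB hcard
    rw [this]
    exact hxB

theorem cdp_pgroup {p : ℕ} (hp : p.Prime) : ∀ (n : ℕ) (P : Type u) [Group P] [Finite P],
    Nat.card P = n → IsPGroup p P →
    (∀ χ : Cfsg.IrrCharacter P, Cfsg.charDegree (χ : P → ℂ) = 1 ∨
      Cfsg.charDegree (χ : P → ℂ) = p) →
    (∀ a b : P, a * b = b * a) ∨
    (∃ A : Subgroup P, (∀ a ∈ A, ∀ b ∈ A, a * b = b * a) ∧ A.index = p) ∨
    (Subgroup.center P).index = p ^ 3 := by
  intro n
  induction n using Nat.strong_induction_on with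
  | _ n ih =>
  intro P _ _ hn hP hcd
  classical
  haveI : Fact p.Prime := ⟨hp⟩
  by_cases hab : ∀ a b : P, a * b = b * a
  · exact Or.inl hab
  right
  have hcomm : commutator P ≠ ⊥ := by
    intro h
    apply hab
    intro a b
    have hm : ⁅a, b⁆ ∈ commutator P := by
      rw [commutator_def]
      exact Subgroup.commutator_mem_commutator (Subgroup.mem_top _) (Subgroup.mem_top _)
    rw [h, Subgroup.mem_bot] at hm
    exact commutatorElement_eq_one_iff_mul_comm.mp hm
  haveI : Group.IsNilpotent P := hP.isNilpotent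
  have hL := Cfsg.Agent.Lib.Helper1.normal_inf_center_ne_bot (commutator P) hcomm
  set L := commutator P ⊓ Subgroup.center P with hLdef
  have hLp : IsPGroup p L := hP.to_subgroup L
  have hLcard : p ∣ Nat.card L := by
    rcases hLp.card_eq_or_dvd with h | h
    · exfalso
      exact hL (Subgroup.card_eq_one.mp h)
    · exact h
  obtain ⟨z', hz'⟩ := exists_prime_orderOf_dvd_card' p hLcard
  set z : P := (z' : P) with hzdef
  have hzo : orderOf z = p := by
    rw [hzdef, Subgroup.orderOf_coe]
    exact hz'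
  have hzc : z ∈ commutator P := z'.2.1
  have hz : z ∈ Subgroup.center P := z'.2.2
  set K := Subgroup.zpowers z with hKdef
  have hK : K ≤ Subgroup.center P := Subgroup.zpowers_le.mpr hz
  haveI hKn : K.Normal := cdp_normal_of_le_center K hK
  have hKcard : Nat.card K = p := by rw [hKdef, Nat.card_zpowers, hzo]
  by_cases hex : ∃ y : P, y ∉ Subgroup.center P ∧ ∀ g : P, ⁅y, g⁆ ∈ K
  · obtain ⟨y, hy, hyK⟩ := hex
    obtain ⟨h1, h2⟩ := cdp_key hp hcd z hz hzo hzc y hy hyK
    exact Or.inl ⟨_, h1, h2⟩
  have hno : ∀ y : P, (∀ g : P, ⁅y, g⁆ ∈ K) → y ∈ Subgroup.center P := by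
    intro y hy
    by_contra hyc
    exact hex ⟨y, hyc, hy⟩
  have hmk : ∀ y : P, ((y : P ⧸ K) ∈ Subgroup.center (P ⧸ K)) → ∀ g : P, ⁅y, g⁆ ∈ K := by
    intro y hy g
    rw [Subgroup.mem_center_iff] at hy
    have h1 := hy (g : P ⧸ K)
    rw [← QuotientGroup.eq_one_iff]
    have : ((⁅y, g⁆ : P) : P ⧸ K) = ⁅(y : P ⧸ K), (g : P ⧸ K)⁆ := by
      simp [commutatorElement_def]
    rw [this]
    exact commutatorElement_eq_one_iff_mul_comm.mpr h1.symm
  have hcomap : (Subgroup.center (P ⧸ K)).comap (QuotientGroup.mk' K) = Subgroup.center P := by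
    ext y
    rw [Subgroup.mem_comap, QuotientGroup.mk'_apply]
    constructor
    · intro hy
      exact hno y (hmk y hy)
    · intro hy
      rw [Subgroup.mem_center_iff]
      intro q
      obtain ⟨g, rfl⟩ := QuotientGroup.mk_surjective q
      rw [← QuotientGroup.mk_mul, ← QuotientGroup.mk_mul, Subgroup.mem_center_iff.mp hy g]
  have hidxeq : (Subgroup.center (P ⧸ K)).index = (Subgroup.center P).index := by
    rw [← hcomap, Subgroup.index_comap_of_surjective _ (QuotientGroup.mk'_surjective K)]
  have hcardQ : Nat.card (P ⧸ K) * p = n := by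
    rw [← hn, ← hKcard]
    exact (Subgroup.card_eq_card_quotient_mul_card_subgroup K).symm
  have hlt : Nat.card (P ⧸ K) < n := by
    have hpos : 0 < Nat.card (P ⧸ K) := Nat.card_pos
    have := hp.two_le
    nlinarith
  have hQP : IsPGroup p (P ⧸ K) := hP.to_quotient K
  have hQcd : ∀ ψ : Cfsg.IrrCharacter (P ⧸ K), Cfsg.charDegree (ψ : P ⧸ K → ℂ) = 1 ∨
      Cfsg.charDegree (ψ : P ⧸ K → ℂ) = p := by
    intro ψ
    have h1 := hcd (qh_infl K ψ)
    have h2 : Cfsg.charDegree ((qh_infl K ψ : Cfsg.IrrCharacter P) : P → ℂ) =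
        Cfsg.charDegree (ψ : P ⧸ K → ℂ) := by
      unfold Cfsg.charDegree
      rw [qh_infl_apply, QuotientGroup.mk_one]
    rw [h2] at h1
    exact h1
  rcases ih (Nat.card (P ⧸ K)) hlt (P ⧸ K) rfl hQP hQcd with h1 | ⟨Abar, hAbar, hAidx⟩ | h3
  · exfalso
    apply hab
    intro a b
    have ha : a ∈ Subgroup.center P := by
      rw [← hcomap, Subgroup.mem_comap, Subgroup.mem_center_iff]
      intro q
      exact h1 q _
    exact (Subgroup.mem_center_iff.mp ha b).symm
  · set A : Subgroup P := Abar.comap (QuotientGroup.mk' K) with hA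
    have hAi : A.index = p := by
      rw [hA, Subgroup.index_comap_of_surjective _ (QuotientGroup.mk'_surjective K), hAidx]
    by_cases hAab : ∀ a ∈ A, ∀ b ∈ A, a * b = b * a
    · exact Or.inl ⟨A, hAab, hAi⟩
    have hAK : ∀ a ∈ A, ∀ b ∈ A, ⁅a, b⁆ ∈ Subgroup.zpowers z := by
      intro a ha b hb
      rw [← QuotientGroup.eq_one_iff]
      have : ((⁅a, b⁆ : P) : P ⧸ K) = ⁅(a : P ⧸ K), (b : P ⧸ K)⁆ := by
        simp [commutatorElement_def]
      rw [this]
      exact commutatorElement_eq_one_iff_mul_comm.mpr (hAbar _ ha _ hb)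
    have hAna : ∃ a ∈ A, ∃ b ∈ A, a * b ≠ b * a := by
      by_contra hcon
      apply hAab
      intro a ha b hb
      by_contra hne
      exact hcon ⟨a, ha, b, hb, hne⟩
    obtain ⟨m, hm⟩ := (IsPGroup.iff_card.mp hQP)
    have hm0 : m ≠ 0 := by
      intro h0
      rw [h0, pow_zero] at hm
      have h1 := Subgroup.index_mul_card Abar
      rw [hm, hAidx] at h1
      have : p = 1 := Nat.eq_one_of_mul_eq_one_right h1
      exact hp.one_lt.ne' this
    haveI hAbarN : Abar.Normal := by
      apply Subgroup.normal_of_index_eq_minFac_card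
      rw [hAidx, hm, hp.pow_minFac hm0]
    haveI hAn : A.Normal := hAbarN.comap _
    obtain ⟨C, hCZ, hCcard⟩ := cdp_caseii hp hcd z hz hzo hzc A hAi hAK hAna
    obtain ⟨k, hk⟩ := hP.index (Subgroup.center P)
    have hle : (Subgroup.center P).index ≤ p ^ 3 := by
      have h1 := Subgroup.index_mul_card (Subgroup.center P)
      have h2 : Nat.card C ≤ Nat.card (Subgroup.center P) := Subgroup.card_le_of_le hCZ
      have hpos : 0 < Nat.card (Subgroup.center P) := Nat.card_pos
      have h3 : (Subgroup.center P).index * Nat.card (Subgroup.center P) ≤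
          p ^ 3 * Nat.card (Subgroup.center P) := by
        rw [h1]
        exact hCcard.trans (Nat.mul_le_mul_left _ h2)
      exact Nat.le_of_mul_le_mul_right h3 hpos
    have hk3 : k ≤ 3 := by
      rw [hk] at hle
      exact (Nat.pow_le_pow_iff_right hp.one_lt).mp hle
    interval_cases k
    · exfalso
      rw [pow_zero, Subgroup.index_eq_one] at hk
      apply hab
      intro a b
      have ha : a ∈ Subgroup.center P := by rw [hk]; exact Subgroup.mem_top a
      exact (Subgroup.mem_center_iff.mp ha b).symm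
    · exfalso
      apply hab
      rw [pow_one] at hk
      have hcq : Nat.card (P ⧸ Subgroup.center P) = p := by
        rw [← Subgroup.index_eq_card]
        exact hk
      haveI : IsCyclic (P ⧸ Subgroup.center P) := isCyclic_of_prime_card hcq
      intro a b
      exact commutative_of_cyclic_center_quotient (QuotientGroup.mk' (Subgroup.center P))
        (by rw [QuotientGroup.ker_mk']) a b
    · exact Or.inl (cdp_index_sq hp hk)
    · exact Or.inr hk
  · right
    rw [← hidxeq]
    exact h3

end Cfsg.Agent.Lib.Helper26
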