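import Mathlib
import Cfsg.Prelude.Def_Characters
import Cfsg.Prelude.Def_Blocks
import Cfsg.Agent.Lib.Helper26.CdOneP5
import Cfsg.Agent.Lib.helper2.CenterIndex
import Cfsg.Agent.Lib.helper14.McKayGen

set_option autoImplicit false
set_option linter.style.haveILetI false
set_option linter.unusedSectionVars false
set_option linter.unusedVariables false

namespace Cfsg.Agent.Lib.Helper26

open scoped ComplexConjugate commutatorElement
open Cfsg.Agent.Lib.Helper24 Cfsg.Agent.Lib.Helper25 Cfsg.Agent.Lib.Helper11 Cfsg.Agent.Lib.helper2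
  Cfsg.Agent.Lib.helper7

universe u

/-- A group all of whose irreducible characters are linear is abelian. -/
theorem cdp_abelian_of_linear {G : Type*} [Group G] [Finite G]
    (h : ∀ χ : Cfsg.IrrCharacter G, Cfsg.charDegree (χ : G → ℂ) = 1) (a b : G) :
    a * b = b * a := by
  apply commutatorElement_eq_one_iff_mul_comm.mp
  apply cd2_eq_one_of_all_deg
  intro χ
  have h1 : (χ : G → ℂ) 1 = 1 := by
    rw [← (charDegree_irr χ).1, h χ]
    simp
  have hm : ⁅a, b⁆ ∈ commutator G := by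
    rw [commutator_def]
    exact Subgroup.commutator_mem_commutator (Subgroup.mem_top _) (Subgroup.mem_top _)
  rw [irr_linear_commutator χ h1 hm, h1]

theorem cdp_forward {G : Type u} [Group G] [Finite G] (hG : ∃ a b : G, a * b ≠ b * a) {p : ℕ}
    (hp : p.Prime)
    (hcd : ∀ χ : Cfsg.IrrCharacter G, Cfsg.charDegree (χ : G → ℂ) = 1 ∨
      Cfsg.charDegree (χ : G → ℂ) = p)
    (P A : Subgroup G) [hPn : P.Normal] [hAn : A.Normal] (hP : IsPGroup p P)
    (hA : ∀ a ∈ A, ∀ b ∈ A, a * b = b * a) (hPA : P ⊓ A = ⊥) (hsup : P ⊔ A = ⊤) :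
    (∃ B : Subgroup G, B.Normal ∧ (∀ a ∈ B, ∀ b ∈ B, a * b = b * a) ∧ B.index = p) ∨
      (Subgroup.center G).index = p ^ 3 := by
  classical
  haveI : Fact p.Prime := ⟨hp⟩
  have hdecomp : ∀ g : G, ∃ x ∈ P, ∃ a ∈ A, g = x * a := by
    intro g
    have hg : g ∈ ((P ⊔ A : Subgroup G) : Set G) := by
      rw [hsup]
      exact Subgroup.mem_top g
    rw [Subgroup.mul_normal P A] at hg
    obtain ⟨x, hx, a, ha, hxa⟩ := Set.mem_mul.mp hg
    exact ⟨x, hx, a, ha, hxa.symm⟩
  have hQP : IsPGroup p (G ⧸ A) := by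
    intro q
    obtain ⟨g, rfl⟩ := QuotientGroup.mk_surjective q
    obtain ⟨x, hx, a, ha, rfl⟩ := hdecomp g
    obtain ⟨k, hk⟩ := hP ⟨x, hx⟩
    refine ⟨k, ?_⟩
    have hxa : ((x * a : G) : G ⧸ A) = (x : G ⧸ A) := by
      rw [QuotientGroup.mk_mul, (QuotientGroup.eq_one_iff a).mpr ha, mul_one]
    rw [hxa, ← QuotientGroup.mk_pow]
    have : x ^ p ^ k = 1 := by
      have := congrArg Subtype.val hk
      simpa using this
    rw [this, QuotientGroup.mk_one]
  have hQcd : ∀ ψ : Cfsg.IrrCharacter (G ⧸ A), Cfsg.charDegree (ψ : G ⧸ A → ℂ) = 1 ∨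
      Cfsg.charDegree (ψ : G ⧸ A → ℂ) = p := by
    intro ψ
    have h1 := hcd (qh_infl A ψ)
    have h2 : Cfsg.charDegree ((qh_infl A ψ : Cfsg.IrrCharacter G) : G → ℂ) =
        Cfsg.charDegree (ψ : G ⧸ A → ℂ) := by
      unfold Cfsg.charDegree
      rw [qh_infl_apply, QuotientGroup.mk_one]
    rw [h2] at h1
    exact h1
  have hF2 : ∀ g h : G, ⁅g, h⁆ ∈ P := by
    intro g h
    obtain ⟨x, hx, a, ha, rfl⟩ := hdecomp g
    obtain ⟨y, hy, b, hb, rfl⟩ := hdecomp h
    rw [← QuotientGroup.eq_one_iff]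
    have e1 : ((x * a : G) : G ⧸ P) = (a : G ⧸ P) := by
      rw [QuotientGroup.mk_mul, (QuotientGroup.eq_one_iff x).mpr hx, one_mul]
    have e2 : ((y * b : G) : G ⧸ P) = (b : G ⧸ P) := by
      rw [QuotientGroup.mk_mul, (QuotientGroup.eq_one_iff y).mpr hy, one_mul]
    have e3 : ((⁅x * a, y * b⁆ : G) : G ⧸ P) = ⁅((x * a : G) : G ⧸ P), ((y * b : G) : G ⧸ P)⁆ := by
      simp [commutatorElement_def]
    rw [e3, e1, e2]
    apply commutatorElement_eq_one_iff_mul_comm.mpr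
    rw [← QuotientGroup.mk_mul, ← QuotientGroup.mk_mul, hA a ha b hb]
  have hcommA : ∀ g h : G, (g : G ⧸ A) * (h : G ⧸ A) = (h : G ⧸ A) * (g : G ⧸ A) → g * h = h * g := by
    intro g h hgh
    apply commutatorElement_eq_one_iff_mul_comm.mp
    have h1 : ⁅g, h⁆ ∈ A := by
      rw [← QuotientGroup.eq_one_iff]
      have e3 : ((⁅g, h⁆ : G) : G ⧸ A) = ⁅(g : G ⧸ A), (h : G ⧸ A)⁆ := by
        simp [commutatorElement_def]
      rw [e3]
      exact commutatorElement_eq_one_iff_mul_comm.mpr hgh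
    have h2 : ⁅g, h⁆ ∈ P ⊓ A := ⟨hF2 g h, h1⟩
    rw [hPA, Subgroup.mem_bot] at h2
    exact h2
  rcases cdp_pgroup hp (Nat.card (G ⧸ A)) (G ⧸ A) rfl hQP hQcd with h1 | ⟨Bbar, hBbar, hBidx⟩ | h3
  · exfalso
    obtain ⟨a, b, hab⟩ := hG
    exact hab (hcommA a b (h1 _ _))
  · left
    obtain ⟨m, hm⟩ := (IsPGroup.iff_card.mp hQP)
    have hm0 : m ≠ 0 := by
      intro h0
      rw [h0, pow_zero] at hm
      have h1 := Subgroup.index_mul_card Bbar
      rw [hm, hBidx] at h1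
      have : p = 1 := Nat.eq_one_of_mul_eq_one_right h1
      exact hp.one_lt.ne' this
    haveI hBbarN : Bbar.Normal := by
      apply Subgroup.normal_of_index_eq_minFac_card
      rw [hBidx, hm, hp.pow_minFac hm0]
    refine ⟨Bbar.comap (QuotientGroup.mk' A), hBbarN.comap _, ?_, ?_⟩
    · intro a ha b hb
      exact hcommA a b (hBbar _ ha _ hb)
    · rw [Subgroup.index_comap_of_surjective _ (QuotientGroup.mk'_surjective A), hBidx]
  · right
    have hcomap : (Subgroup.center (G ⧸ A)).comap (QuotientGroup.mk' A) = Subgroup.center G := by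
      ext y
      rw [Subgroup.mem_comap, QuotientGroup.mk'_apply]
      constructor
      · intro hy
        rw [Subgroup.mem_center_iff] at hy ⊢
        intro g
        exact hcommA g y (hy g)
      · intro hy
        rw [Subgroup.mem_center_iff]
        intro q
        obtain ⟨g, rfl⟩ := QuotientGroup.mk_surjective q
        rw [← QuotientGroup.mk_mul, ← QuotientGroup.mk_mul, Subgroup.mem_center_iff.mp hy g]
    rw [← hcomap, Subgroup.index_comap_of_surjective _ (QuotientGroup.mk'_surjective A)]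
    exact h3

/-- Squared degree times the order of the center is at most the group order. -/
theorem cdp_sq_le {G : Type*} [Group G] [Finite G] (χ : Cfsg.IrrCharacter G) :
    Cfsg.charDegree (χ : G → ℂ) ^ 2 * Nat.card (Subgroup.center G) ≤ Nat.card G := by
  classical
  haveI := Fintype.ofFinite G
  haveI : Fintype (Subgroup.center G) := Fintype.ofFinite _
  set d := Cfsg.charDegree (χ : G → ℂ) with hd
  have hd1 : (χ : G → ℂ) 1 = (d : ℂ) := (charDegree_irr χ).1.symm
  have hnorm : ∀ z ∈ Subgroup.center G, Complex.normSq ((χ : G → ℂ) z) = (d : ℝ) ^ 2 := by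
    intro z hz
    obtain ⟨c, hc⟩ := h7_central_char χ.2 z hz
    obtain ⟨c', hc'⟩ := h7_central_char χ.2 z⁻¹ (Subgroup.inv_mem _ hz)
    have e1 := hc 1
    have e2 := hc' z
    rw [mul_one] at e1
    rw [inv_mul_cancel] at e2
    have hle1 := irr_norm_le χ z
    have hle2 := irr_norm_le χ z⁻¹
    have e3 := hc z⁻¹
    rw [mul_inv_cancel] at e3
    -- χ 1 = c * χ z⁻¹ and χ z = c * χ 1
    have hdn : ‖(χ : G → ℂ) 1‖ = (d : ℝ) := by rw [hd1]; simp
    rw [Complex.normSq_eq_norm_sq]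
    congr 1
    apply le_antisymm
    · rw [← hdn]; exact hle1
    · -- d = ‖c‖ * ‖χ z⁻¹‖ ≤ ‖c‖ * d, and ‖χ z‖ = ‖c‖ d
      have h3 : ‖(χ : G → ℂ) 1‖ = ‖c‖ * ‖(χ : G → ℂ) z⁻¹‖ := by rw [e3, norm_mul]
      have h4 : ‖(χ : G → ℂ) z‖ = ‖c‖ * ‖(χ : G → ℂ) 1‖ := by rw [e1, norm_mul]
      rw [h4, hdn]
      rw [hdn] at h3 hle2
      have hc0 : 0 ≤ ‖c‖ := norm_nonneg c
      calc (d : ℝ) = ‖c‖ * ‖(χ : G → ℂ) z⁻¹‖ := h3
        _ ≤ ‖c‖ * (d : ℝ) := mul_le_mul_of_nonneg_left hle2 hc0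
  have hsum := cdp_irr_sum_sq χ
  have h5 : ∑ g : G, Complex.normSq ((χ : G → ℂ) g) = (Nat.card G : ℝ) := by
    have : ((∑ g : G, Complex.normSq ((χ : G → ℂ) g) : ℝ) : ℂ) = ((Nat.card G : ℝ) : ℂ) := by
      push_cast
      rw [← hsum]
      apply Finset.sum_congr rfl
      intro g _
      rw [Complex.mul_conj]
    exact_mod_cast this
  have h6 : ∑ g ∈ Finset.univ.filter (fun g : G => g ∈ Subgroup.center G),
      Complex.normSq ((χ : G → ℂ) g) ≤ ∑ g : G, Complex.normSq ((χ : G → ℂ) g) := by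
    apply Finset.sum_le_sum_of_subset_of_nonneg (Finset.filter_subset _ _)
    intro g _ _
    exact Complex.normSq_nonneg _
  have h7 : ∑ g ∈ Finset.univ.filter (fun g : G => g ∈ Subgroup.center G),
      Complex.normSq ((χ : G → ℂ) g) =
      (Nat.card (Subgroup.center G) : ℝ) * (d : ℝ) ^ 2 := by
    rw [Finset.sum_congr rfl (fun g hg => hnorm g (Finset.mem_filter.mp hg).2), Finset.sum_const,
      nsmul_eq_mul]
    congr 1
    rw [Nat.card_eq_fintype_card, Fintype.card_subtype]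
  rw [h7, h5] at h6
  have : ((d ^ 2 * Nat.card (Subgroup.center G) : ℕ) : ℝ) ≤ (Nat.card G : ℝ) := by
    push_cast
    linarith
  exact_mod_cast this

theorem cdp_degree_dvd_center {G : Type*} [Group G] [Finite G] (χ : Cfsg.IrrCharacter G) :
    Cfsg.charDegree (χ : G → ℂ) ∣ (Subgroup.center G).index := by
  obtain ⟨n, ρ, hρ, hχ⟩ := χ.2
  haveI := hρ
  have h := degree_dvd_index_center ρ
  have h1 : (χ : G → ℂ) 1 = ((Module.finrank ℂ (Fin n → ℂ) : ℕ) : ℂ) := by
    rw [← hχ, Representation.char_one]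
  rw [Cfsg.Agent.Lib.helper14.charDegree_of_natCast _ _ h1]
  exact h

theorem cdp_backward {G : Type*} [Group G] [Finite G] (hG : ∃ a b : G, a * b ≠ b * a) {p : ℕ}
    (hp : p.Prime)
    (h : (∃ A : Subgroup G, A.Normal ∧ (∀ a ∈ A, ∀ b ∈ A, a * b = b * a) ∧ A.index = p) ∨
      (Subgroup.center G).index = p ^ 3) :
    (∀ χ : Cfsg.IrrCharacter G, Cfsg.charDegree (χ : G → ℂ) = 1 ∨
      Cfsg.charDegree (χ : G → ℂ) = p) ∧
      ∃ χ : Cfsg.IrrCharacter G, Cfsg.charDegree (χ : G → ℂ) = p := by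
  have hall : ∀ χ : Cfsg.IrrCharacter G, Cfsg.charDegree (χ : G → ℂ) = 1 ∨
      Cfsg.charDegree (χ : G → ℂ) = p := by
    intro χ
    rcases h with ⟨A, hAn, hA, hAi⟩ | hZ
    · haveI := hAn
      have := Cfsg.Agent.Lib.helper14.McKay.charDegree_dvd_index A hA χ
      rw [hAi] at this
      exact (Nat.dvd_prime hp).mp this
    · have h1 := cdp_degree_dvd_center χ
      rw [hZ] at h1
      obtain ⟨k, hk3, hk⟩ := (Nat.dvd_prime_pow hp).mp h1
      have h2 := cdp_sq_le χ
      have h3 := Subgroup.index_mul_card (Subgroup.center G)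
      rw [hZ] at h3
      rw [← h3, hk] at h2
      have hpos : 0 < Nat.card (Subgroup.center G) := Nat.card_pos
      have h4 : (p ^ k) ^ 2 ≤ p ^ 3 := Nat.le_of_mul_le_mul_right h2 hpos
      rw [← pow_mul] at h4
      have h5 : k * 2 ≤ 3 := (Nat.pow_le_pow_iff_right hp.one_lt).mp h4
      have hk1 : k ≤ 1 := by omega
      interval_cases k
      · left; rw [hk, pow_zero]
      · right; rw [hk, pow_one]
  refine ⟨hall, ?_⟩
  by_contra hno
  obtain ⟨a, b, hab⟩ := hG
  apply hab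
  apply cdp_abelian_of_linear
  intro χ
  rcases hall χ with h1 | h1
  · exact h1
  · exact absurd ⟨χ, h1⟩ hno

end Cfsg.Agent.Lib.Helper26
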