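import Mathlib
import Cfsg.Prelude.Def_Characters
import Cfsg.Prelude.Def_Blocks
import Cfsg.Agent.Lib.Helper26.CdOneP6
import Cfsg.Agent.S4457

set_option autoImplicit false
set_option linter.style.haveILetI false
set_option linter.unusedSectionVars false
set_option linter.unusedVariables false

namespace Cfsg.Agent.Lib.Helper26

universe u

theorem cdp_main {G : Type u} [Group G] [Finite G] (hG : ∃ a b : G, a * b ≠ b * a) (p : ℕ)
    (hp : p.Prime) :
    ((∀ χ : Cfsg.IrrCharacter G, Cfsg.charDegree (χ : G → ℂ) = 1 ∨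
      Cfsg.charDegree (χ : G → ℂ) = p) ∧
      ∃ χ : Cfsg.IrrCharacter G, Cfsg.charDegree (χ : G → ℂ) = p) ↔
    ((∃ A : Subgroup G, A.Normal ∧ (∀ a ∈ A, ∀ b ∈ A, a * b = b * a) ∧ A.index = p) ∨
      (Subgroup.center G).index = p ^ 3) := by
  constructor
  · rintro ⟨hcd, hm⟩
    rcases Cfsg.Agent.S4457.result p hcd hm hp.ne_one with h | ⟨q, e, hq, hpe, P, A, hPn, hAn, hP, hA, hPA, hsup⟩
    · exact Or.inl h
    · have hqp : q = p := by
        have h1 : q ∣ p := by
          rw [hpe]
          apply dvd_pow_self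
          intro h0
          rw [h0, pow_zero] at hpe
          exact hp.ne_one hpe
        exact ((Nat.prime_dvd_prime_iff_eq hq hp).mp h1)
      subst hqp
      haveI := hPn
      haveI := hAn
      exact cdp_forward hG hp hcd P A hP hA hPA hsup
  · intro h
    exact cdp_backward hG hp h

end Cfsg.Agent.Lib.Helper26
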