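import Mathlib

set_option autoImplicit false

namespace Cfsg.Agent.Lib.Helper26

open scoped commutatorElement

variable {G : Type*} [Group G]

/-- The image in `G` of the `n`-th term of the upper central series of the subgroup `R`. -/
def ucsIn (R : Subgroup G) (n : ℕ) : Subgroup G :=
  (Subgroup.upperCentralSeries ↥R n).map R.subtype

theorem mem_ucsIn_iff {R : Subgroup G} {n : ℕ} {x : G} :
    x ∈ ucsIn R n ↔ ∃ hx : x ∈ R, (⟨x, hx⟩ : ↥R) ∈ Subgroup.upperCentralSeries ↥R n := by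
  constructor
  · rintro ⟨y, hy, rfl⟩
    exact ⟨y.2, hy⟩
  · rintro ⟨hx, h⟩
    exact ⟨⟨x, hx⟩, h, rfl⟩

theorem ucsIn_le (R : Subgroup G) (n : ℕ) : ucsIn R n ≤ R := by
  intro x hx
  obtain ⟨h, -⟩ := mem_ucsIn_iff.mp hx
  exact h

theorem ucsIn_mono (R : Subgroup G) {m n : ℕ} (h : m ≤ n) : ucsIn R m ≤ ucsIn R n :=
  Subgroup.map_mono (Subgroup.upperCentralSeries_mono _ h)

theorem conj_mem_ucsIn {R : Subgroup G} {n : ℕ} {x : G} (hx : x ∈ ucsIn R n) {y : G}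
    (hy : y ∈ R) : y * x * y⁻¹ ∈ ucsIn R n := by
  obtain ⟨hxR, h⟩ := mem_ucsIn_iff.mp hx
  rw [mem_ucsIn_iff]
  refine ⟨R.mul_mem (R.mul_mem hy hxR) (R.inv_mem hy), ?_⟩
  have hn : (Subgroup.upperCentralSeries ↥R n).Normal := inferInstance
  exact hn.conj_mem _ h ⟨y, hy⟩

theorem conj_mem_ucsIn' {R : Subgroup G} {n : ℕ} {x : G} (hx : x ∈ ucsIn R n) {y : G}
    (hy : y ∈ R) : y⁻¹ * x * y ∈ ucsIn R n := by
  have := conj_mem_ucsIn hx (R.inv_mem hy)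
  rw [inv_inv] at this
  exact this

theorem mem_ucsIn_succ {R : Subgroup G} {n : ℕ} {x : G} (hx : x ∈ R)
    (h : ∀ y ∈ R, x * y * x⁻¹ * y⁻¹ ∈ ucsIn R n) : x ∈ ucsIn R (n + 1) := by
  rw [mem_ucsIn_iff]
  refine ⟨hx, ?_⟩
  rw [Subgroup.mem_upperCentralSeries_succ_iff]
  intro y
  obtain ⟨_, h1⟩ := mem_ucsIn_iff.mp (h y.1 y.2)
  exact h1

theorem mem_ucsIn_succ_of_gens {R : Subgroup G} {T : Set G} (hT : R = Subgroup.closure T)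
    {n : ℕ} {x : G} (hx : x ∈ R) (h : ∀ g ∈ T, x * g * x⁻¹ * g⁻¹ ∈ ucsIn R n) :
    x ∈ ucsIn R (n + 1) := by
  apply mem_ucsIn_succ hx
  intro y hy
  rw [hT] at hy
  have hmem : ∀ z, z ∈ Subgroup.closure T → z ∈ R := fun z hz => by rw [hT]; exact hz
  refine Subgroup.closure_induction (p := fun y _ => x * y * x⁻¹ * y⁻¹ ∈ ucsIn R n)
    h ?_ ?_ ?_ hy
  · have : x * 1 * x⁻¹ * 1⁻¹ = 1 := by group
    rw [this]
    exact Subgroup.one_mem _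
  · intro y z hy _ h1 h2
    have e : x * (y * z) * x⁻¹ * (y * z)⁻¹ =
        (x * y * x⁻¹ * y⁻¹) * (y * (x * z * x⁻¹ * z⁻¹) * y⁻¹) := by group
    rw [e]
    exact Subgroup.mul_mem _ h1 (conj_mem_ucsIn h2 (hmem y hy))
  · intro y hy h1
    have e : x * y⁻¹ * x⁻¹ * y⁻¹⁻¹ = y⁻¹ * (x * y * x⁻¹ * y⁻¹)⁻¹ * y := by group
    rw [e]
    exact conj_mem_ucsIn' (Subgroup.inv_mem _ h1) (hmem y hy)

theorem mem_ucsIn_succ_of_three {A B C : Subgroup G} {n : ℕ} {x : G} (hx : x ∈ A ⊔ B ⊔ C)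
    (hA : ∀ g ∈ A, x * g * x⁻¹ * g⁻¹ ∈ ucsIn (A ⊔ B ⊔ C) n)
    (hB : ∀ g ∈ B, x * g * x⁻¹ * g⁻¹ ∈ ucsIn (A ⊔ B ⊔ C) n)
    (hC : ∀ g ∈ C, x * g * x⁻¹ * g⁻¹ ∈ ucsIn (A ⊔ B ⊔ C) n) :
    x ∈ ucsIn (A ⊔ B ⊔ C) (n + 1) := by
  have hT : A ⊔ B ⊔ C = Subgroup.closure ((A : Set G) ∪ B ∪ C) := by
    rw [Subgroup.closure_union, Subgroup.closure_union, Subgroup.closure_eq, Subgroup.closure_eq,
      Subgroup.closure_eq]
  apply mem_ucsIn_succ_of_gens hT hx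
  rintro g ((hg | hg) | hg)
  · exact hA g hg
  · exact hB g hg
  · exact hC g hg

theorem isNilpotent_of_le_ucsIn {R : Subgroup G} {n : ℕ} (h : R ≤ ucsIn R n) :
    Group.IsNilpotent ↥R := by
  refine ⟨⟨n, ?_⟩⟩
  rw [eq_top_iff]
  intro x _
  obtain ⟨_, h1⟩ := mem_ucsIn_iff.mp (h x.2)
  exact h1

end Cfsg.Agent.Lib.Helper26
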