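import Cfsg.Agent.Lib.Helper26.ChainAux
import Cfsg.Agent.Lib.Helper26.ChainUcs

set_option autoImplicit false

namespace Cfsg.Agent.Lib.Helper26

open Cfsg Cfsg.Agent.S5013 Cfsg.Agent.S5014 Cfsg.Agent.S5029
open scoped commutatorElement

variable {G : Type*} [Group G] {S : Set (Subgroup G)}

/-- The configuration `A, B, C ∈ S` with `⁅A, B⁆, ⁅B, C⁆ ∈ S` and `A, C` commuting. -/
structure Chain (S : Set (Subgroup G)) (A B C : Subgroup G) : Prop where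
  hS : Cfsg.IsRootSubgroupSet S
  hA : A ∈ S
  hB : B ∈ S
  hC : C ∈ S
  hE : ⁅A, B⁆ ∈ S
  hF : ⁅B, C⁆ ∈ S
  hAC : ⁅A, C⁆ = ⊥

theorem commutator_le_sup (H K : Subgroup G) : ⁅H, K⁆ ≤ H ⊔ K := by
  rw [Subgroup.commutator_le]
  intro x hx y hy
  rw [commutatorElement_def]
  exact Subgroup.mul_mem _ (Subgroup.mul_mem _ (Subgroup.mul_mem _ (Subgroup.mem_sup_left hx)
    (Subgroup.mem_sup_right hy)) (Subgroup.mem_sup_left (H.inv_mem hx)))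
    (Subgroup.mem_sup_right (K.inv_mem hy))

namespace Chain

variable {A B C : Subgroup G}

theorem symm (k : Chain S A B C) : Chain S C B A :=
  ⟨k.hS, k.hC, k.hB, k.hA, by rw [Subgroup.commutator_comm]; exact k.hF,
    by rw [Subgroup.commutator_comm]; exact k.hE, by rw [Subgroup.commutator_comm]; exact k.hAC⟩

theorem ccAB (k : Chain S A B C) : Cfsg.RootCommutatorCase S A B :=
  commutatorCase_of_mem k.hS k.hA k.hB k.hE

theorem ccBC (k : Chain S A B C) : Cfsg.RootCommutatorCase S B C :=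
  commutatorCase_of_mem k.hS k.hB k.hC k.hF

theorem ccCB (k : Chain S A B C) : Cfsg.RootCommutatorCase S C B :=
  k.symm.ccAB

theorem ccBA (k : Chain S A B C) : Cfsg.RootCommutatorCase S B A :=
  k.symm.ccBC

theorem cAA (k : Chain S A B C) : CommOn A := commOn_of_mem k.hS k.hA
theorem cBB (k : Chain S A B C) : CommOn B := commOn_of_mem k.hS k.hB
theorem cCC (k : Chain S A B C) : CommOn C := commOn_of_mem k.hS k.hC
theorem cEE (k : Chain S A B C) : CommOn ⁅A, B⁆ := commOn_of_mem k.hS k.hE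
theorem cFF (k : Chain S A B C) : CommOn ⁅B, C⁆ := commOn_of_mem k.hS k.hF

theorem cAC (k : Chain S A B C) : CommWith A C := commWith_of_commutator_eq_bot k.hAC

theorem cEA (k : Chain S A B C) : CommWith ⁅A, B⁆ A :=
  fun e he a ha => k.ccAB.2.1 e he a (Subgroup.mem_sup_left ha)

theorem cEB (k : Chain S A B C) : CommWith ⁅A, B⁆ B :=
  fun e he b hb => k.ccAB.2.1 e he b (Subgroup.mem_sup_right hb)

theorem cFB (k : Chain S A B C) : CommWith ⁅B, C⁆ B :=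
  fun f hf b hb => k.ccBC.2.1 f hf b (Subgroup.mem_sup_left hb)

theorem cFC (k : Chain S A B C) : CommWith ⁅B, C⁆ C :=
  fun f hf c hc => k.ccBC.2.1 f hf c (Subgroup.mem_sup_right hc)

theorem conjA_le (_k : Chain S A B C) {β : G} (hβ : β ∈ B) : Cfsg.conjBy A β ≤ A ⊔ ⁅A, B⁆ :=
  conjBy_le_sup hβ

theorem conjC_le (_k : Chain S A B C) {β : G} (hβ : β ∈ B) : Cfsg.conjBy C β ≤ C ⊔ ⁅B, C⁆ := by
  rw [Subgroup.commutator_comm]
  exact conjBy_le_sup hβ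

theorem cA_conjA (k : Chain S A B C) {β : G} (hβ : β ∈ B) : CommWith A (Cfsg.conjBy A β) :=
  (CommWith.sup_right k.cAA k.cEA.symm).mono le_rfl (k.conjA_le hβ)

theorem cC_conjC (k : Chain S A B C) {β : G} (hβ : β ∈ B) : CommWith C (Cfsg.conjBy C β) :=
  (CommWith.sup_right k.cCC k.cFC.symm).mono le_rfl (k.conjC_le hβ)

/-- `X = ⟨A, C^β⟩` and `Y = ⟨A^β, C⟩` commute elementwise. -/
theorem comm_XY (k : Chain S A B C) {β : G} (hβ : β ∈ B) :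
    CommWith (A ⊔ Cfsg.conjBy C β) (Cfsg.conjBy A β ⊔ C) :=
  CommWith.sup_left (CommWith.sup_right (k.cA_conjA hβ) k.cAC)
    (CommWith.sup_right (commWith_conjBy k.cAC.symm β) (k.cC_conjC hβ).symm)

theorem not_rankOne (k : Chain S A B C) {β : G} (hβ : β ∈ B) (hβ1 : β ≠ 1) :
    ¬ Cfsg.IsRankOnePair A (Cfsg.conjBy C β) := by
  intro h
  have hCβ : Cfsg.conjBy C β ∈ S := k.hS.conj_mem C k.hC β
  obtain ⟨c, hc, hcβ⟩ := exists_not_comm_of_cc k.hS k.ccCB hβ hβ1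
  have hc1 : c ≠ 1 := by
    rintro rfl
    apply hcβ
    rw [one_mul, mul_one]
  have hz : c ∈ Subgroup.centralizer ((Cfsg.conjBy C β ⊔ A : Subgroup G) : Set G) := by
    have h1 : CommWith C (Cfsg.conjBy C β ⊔ A) := CommWith.sup_right (k.cC_conjC hβ) k.cAC.symm
    exact commWith_iff_le_centralizer.mp h1 hc
  have hmem : β * c⁻¹ * β⁻¹ ∈ Cfsg.conjBy C β := mem_conjBy_of_mem (C.inv_mem hc) β
  have hne : β * c⁻¹ * β⁻¹ ≠ 1 := by
    intro h1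
    apply hc1
    have : c⁻¹ = β⁻¹ * (β * c⁻¹ * β⁻¹) * β := by group
    rw [h1, mul_one, inv_mul_cancel] at this
    exact inv_eq_one.mp this
  have hpart : A ∈ Cfsg.rankOnePartners S (Cfsg.conjBy C β) :=
    ⟨k.hA, Cfsg.RankOnePair_symm h⟩
  apply Cfsg.Agent.S5025.result k.hS hCβ hpart hz hc1 _ hmem hne
  refine ⟨?_, ⁅B, C⁆, k.hF, ?_⟩
  · intro h1
    apply hcβ
    have : c * β = (c * (β * c⁻¹ * β⁻¹)) * (β * c) := by group
    rw [this, h1, one_mul]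
  · have := Subgroup.commutator_mem_commutator hc hβ
    rw [commutatorElement_def, Subgroup.commutator_comm] at this
    have e : c * (β * c⁻¹ * β⁻¹) = c * β * c⁻¹ * β⁻¹ := by group
    rw [e]
    exact this

/-- `⁅A, C^β⁆` is central in `⟨A, C^β⟩`. -/
theorem central (k : Chain S A B C) {β : G} (hβ : β ∈ B) :
    CommWith ⁅A, Cfsg.conjBy C β⁆ (A ⊔ Cfsg.conjBy C β) := by
  have hCβ : Cfsg.conjBy C β ∈ S := k.hS.conj_mem C k.hC β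
  have triv : ⁅A, Cfsg.conjBy C β⁆ = ⊥ → CommWith ⁅A, Cfsg.conjBy C β⁆ (A ⊔ Cfsg.conjBy C β) := by
    intro h z hz x _
    rw [h, Subgroup.mem_bot] at hz
    rw [hz, one_mul, mul_one]
  by_cases hβ1 : β = 1
  · apply triv
    rw [hβ1, conjBy_one]
    exact k.hAC
  rcases k.hS.pair A k.hA _ hCβ with h | h | h
  · exact triv h
  · exact absurd h (k.not_rankOne hβ hβ1)
  · exact fun z hz x hx => h.2.1 z hz x hx

theorem X_class_two (k : Chain S A B C) {β : G} (hβ : β ∈ B) :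
    ⁅⁅A ⊔ Cfsg.conjBy C β, A ⊔ Cfsg.conjBy C β⁆, A ⊔ Cfsg.conjBy C β⁆ = ⊥ :=
  class_two_of_central k.cAA (commOn_conjBy k.cCC β)
    (fun _ hx _ hy => Subgroup.commutator_mem_commutator hx hy) (k.central hβ)

/-- `⁅A, C^β⁆` centralizes `M = X ⊔ Y`. -/
theorem central_M (k : Chain S A B C) {β : G} (hβ : β ∈ B) :
    CommWith ⁅A, Cfsg.conjBy C β⁆ ((A ⊔ Cfsg.conjBy C β) ⊔ (Cfsg.conjBy A β ⊔ C)) :=
  CommWith.sup_right (k.central hβ) ((k.comm_XY hβ).mono (commutator_le_sup _ _) le_rfl)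

theorem M_symm (A C : Subgroup G) (β : G) :
    (C ⊔ Cfsg.conjBy A β) ⊔ (Cfsg.conjBy C β ⊔ A) =
      (A ⊔ Cfsg.conjBy C β) ⊔ (Cfsg.conjBy A β ⊔ C) := by
  rw [sup_comm (Cfsg.conjBy C β) A, sup_comm C (Cfsg.conjBy A β), sup_comm]

/-- `⁅A^β, C⁆` centralizes `M = X ⊔ Y`. -/
theorem central_M' (k : Chain S A B C) {β : G} (hβ : β ∈ B) :
    CommWith ⁅Cfsg.conjBy A β, C⁆ ((A ⊔ Cfsg.conjBy C β) ⊔ (Cfsg.conjBy A β ⊔ C)) := by
  have := k.symm.central_M hβ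
  rw [M_symm, Subgroup.commutator_comm] at this
  exact this

/-- For `β ≠ 1` in `B`, every element of `⁅A, B⁆` is `a⁻¹ (β a β⁻¹)` for some `a ∈ A`. -/
theorem exists_E (k : Chain S A B C) {β : G} (hβ : β ∈ B) (hβ1 : β ≠ 1) {e : G}
    (he : e ∈ ⁅A, B⁆) : ∃ a ∈ A, e = a⁻¹ * (β * a * β⁻¹) := by
  have hβ1' : β⁻¹ ≠ 1 := fun h => hβ1 (inv_eq_one.mp h)
  obtain ⟨a, ha, hae⟩ := exists_left_of_cc k.hS k.hA k.hB k.hE (B.inv_mem hβ) hβ1' he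
  refine ⟨a, ha, ?_⟩
  rw [← hae, inv_inv]
  group

theorem exists_F (k : Chain S A B C) {β : G} (hβ : β ∈ B) (hβ1 : β ≠ 1) {f : G}
    (hf : f ∈ ⁅B, C⁆) : ∃ c ∈ C, f = c⁻¹ * (β * c * β⁻¹) := by
  rw [Subgroup.commutator_comm] at hf
  exact k.symm.exists_E hβ hβ1 hf

theorem E_le (k : Chain S A B C) {β : G} (hβ : β ∈ B) (hβ1 : β ≠ 1) :
    ⁅A, B⁆ ≤ A ⊔ Cfsg.conjBy A β := by
  intro e he
  obtain ⟨a, ha, rfl⟩ := k.exists_E hβ hβ1 he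
  exact Subgroup.mul_mem _ (Subgroup.mem_sup_left (A.inv_mem ha))
    (Subgroup.mem_sup_right (mem_conjBy_of_mem ha β))

theorem F_le (k : Chain S A B C) {β : G} (hβ : β ∈ B) (hβ1 : β ≠ 1) :
    ⁅B, C⁆ ≤ C ⊔ Cfsg.conjBy C β := by
  intro f hf
  obtain ⟨c, hc, rfl⟩ := k.exists_F hβ hβ1 hf
  exact Subgroup.mul_mem _ (Subgroup.mem_sup_left (C.inv_mem hc))
    (Subgroup.mem_sup_right (mem_conjBy_of_mem hc β))

theorem A_le_M (A C : Subgroup G) (β : G) :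
    A ≤ (A ⊔ Cfsg.conjBy C β) ⊔ (Cfsg.conjBy A β ⊔ C) :=
  le_trans le_sup_left le_sup_left

theorem C_le_M (A C : Subgroup G) (β : G) :
    C ≤ (A ⊔ Cfsg.conjBy C β) ⊔ (Cfsg.conjBy A β ⊔ C) :=
  le_trans le_sup_right le_sup_right

theorem conjA_le_M (A C : Subgroup G) (β : G) :
    Cfsg.conjBy A β ≤ (A ⊔ Cfsg.conjBy C β) ⊔ (Cfsg.conjBy A β ⊔ C) :=
  le_trans le_sup_left le_sup_right

theorem conjC_le_M (A C : Subgroup G) (β : G) :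
    Cfsg.conjBy C β ≤ (A ⊔ Cfsg.conjBy C β) ⊔ (Cfsg.conjBy A β ⊔ C) :=
  le_trans le_sup_right le_sup_left

theorem E_le_M (k : Chain S A B C) {β : G} (hβ : β ∈ B) (hβ1 : β ≠ 1) :
    ⁅A, B⁆ ≤ (A ⊔ Cfsg.conjBy C β) ⊔ (Cfsg.conjBy A β ⊔ C) :=
  le_trans (k.E_le hβ hβ1) (sup_le (A_le_M A C β) (conjA_le_M A C β))

theorem F_le_M (k : Chain S A B C) {β : G} (hβ : β ∈ B) (hβ1 : β ≠ 1) :
    ⁅B, C⁆ ≤ (A ⊔ Cfsg.conjBy C β) ⊔ (Cfsg.conjBy A β ⊔ C) :=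
  le_trans (k.F_le hβ hβ1) (sup_le (C_le_M A C β) (conjC_le_M A C β))

/-- `B` normalizes `M`. -/
theorem conjBy_M_le (k : Chain S A B C) {β : G} (hβ : β ∈ B) (hβ1 : β ≠ 1) {γ : G}
    (hγ : γ ∈ B) :
    Cfsg.conjBy ((A ⊔ Cfsg.conjBy C β) ⊔ (Cfsg.conjBy A β ⊔ C)) γ ≤
      (A ⊔ Cfsg.conjBy C β) ⊔ (Cfsg.conjBy A β ⊔ C) := by
  have hAE : A ⊔ ⁅A, B⁆ ≤ (A ⊔ Cfsg.conjBy C β) ⊔ (Cfsg.conjBy A β ⊔ C) :=
    sup_le (A_le_M A C β) (k.E_le_M hβ hβ1)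
  have hCF : C ⊔ ⁅B, C⁆ ≤ (A ⊔ Cfsg.conjBy C β) ⊔ (Cfsg.conjBy A β ⊔ C) :=
    sup_le (C_le_M A C β) (k.F_le_M hβ hβ1)
  rw [conjBy_sup, conjBy_sup, conjBy_sup, conjBy_conjBy, conjBy_conjBy]
  refine sup_le (sup_le ?_ ?_) (sup_le ?_ ?_)
  · exact le_trans (k.conjA_le hγ) hAE
  · exact le_trans (k.conjC_le (B.mul_mem hγ hβ)) hCF
  · exact le_trans (k.conjA_le (B.mul_mem hγ hβ)) hAE
  · exact le_trans (k.conjC_le hγ) hCF

theorem conjBy_M_eq (k : Chain S A B C) {β : G} (hβ : β ∈ B) (hβ1 : β ≠ 1) {r : G}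
    (hr : r ∈ A ⊔ B ⊔ C) :
    Cfsg.conjBy ((A ⊔ Cfsg.conjBy C β) ⊔ (Cfsg.conjBy A β ⊔ C)) r =
      (A ⊔ Cfsg.conjBy C β) ⊔ (Cfsg.conjBy A β ⊔ C) := by
  apply conjBy_eq_of_mem_normalizer
  have hle : A ⊔ B ⊔ C ≤ Subgroup.normalizer
      ((((A ⊔ Cfsg.conjBy C β) ⊔ (Cfsg.conjBy A β ⊔ C) : Subgroup G)) : Set G) := by
    refine sup_le (sup_le ?_ ?_) ?_
    · exact le_trans (A_le_M A C β) Subgroup.le_normalizer
    · intro γ hγ
      exact mem_normalizer_of_conjBy_eq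
        (Opp.conjBy_eq_of_forall_le (K := B) (fun _ hk => k.conjBy_M_le hβ hβ1 hk) hγ)
    · exact le_trans (C_le_M A C β) Subgroup.le_normalizer
  exact hle hr

theorem M_sup_B (_k : Chain S A B C) {β : G} (hβ : β ∈ B) :
    ((A ⊔ Cfsg.conjBy C β) ⊔ (Cfsg.conjBy A β ⊔ C)) ⊔ B = A ⊔ B ⊔ C := by
  have hA : A ≤ A ⊔ B ⊔ C := le_trans le_sup_left le_sup_left
  have hB : B ≤ A ⊔ B ⊔ C := le_trans le_sup_right le_sup_left
  have hC : C ≤ A ⊔ B ⊔ C := le_sup_right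
  have hconj : ∀ H : Subgroup G, H ≤ A ⊔ B ⊔ C → Cfsg.conjBy H β ≤ A ⊔ B ⊔ C := by
    intro H hH x hx
    rw [mem_conjBy_iff] at hx
    have e : x = β * (β⁻¹ * x * β) * β⁻¹ := by group
    rw [e]
    exact Subgroup.mul_mem _ (Subgroup.mul_mem _ (hB hβ) (hH hx)) (Subgroup.inv_mem _ (hB hβ))
  apply le_antisymm
  · exact sup_le (sup_le (sup_le hA (hconj C hC)) (sup_le (hconj A hA) hC)) hB
  · refine sup_le (sup_le ?_ le_sup_right) ?_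
    · exact le_trans (A_le_M A C β) le_sup_left
    · exact le_trans (C_le_M A C β) le_sup_left

/-- `X` is abelian iff `A` commutes with `⁅B, C⁆`. -/
theorem X_comm_iff (k : Chain S A B C) {β : G} (hβ : β ∈ B) (hβ1 : β ≠ 1) :
    CommOn (A ⊔ Cfsg.conjBy C β) ↔ CommWith A ⁅B, C⁆ := by
  constructor
  · intro h a ha f hf
    obtain ⟨c, hc, rfl⟩ := k.exists_F hβ hβ1 hf
    have h1 : a * c⁻¹ = c⁻¹ * a := k.cAC a ha _ (C.inv_mem hc)
    have h2 : a * (β * c * β⁻¹) = (β * c * β⁻¹) * a :=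
      h a (Subgroup.mem_sup_left ha) _ (Subgroup.mem_sup_right (mem_conjBy_of_mem hc β))
    calc a * (c⁻¹ * (β * c * β⁻¹)) = (a * c⁻¹) * (β * c * β⁻¹) := (mul_assoc _ _ _).symm
      _ = c⁻¹ * (a * (β * c * β⁻¹)) := by rw [h1, mul_assoc]
      _ = c⁻¹ * (β * c * β⁻¹) * a := by rw [h2, ← mul_assoc]
  · intro h
    refine commOn_sup k.cAA (commOn_conjBy k.cCC β) ?_
    exact (CommWith.sup_right k.cAC h).mono le_rfl (k.conjC_le hβ)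

theorem Y_eq (A C : Subgroup G) (β : G) :
    Cfsg.conjBy A β ⊔ C = Cfsg.conjBy (A ⊔ Cfsg.conjBy C β⁻¹) β := by
  rw [conjBy_sup, conjBy_conjBy_inv]

theorem Y_class_two (k : Chain S A B C) {β : G} (hβ : β ∈ B) :
    ⁅⁅Cfsg.conjBy A β ⊔ C, Cfsg.conjBy A β ⊔ C⁆, Cfsg.conjBy A β ⊔ C⁆ = ⊥ := by
  rw [Y_eq]
  exact class_two_conjBy (k.X_class_two (B.inv_mem hβ)) β

theorem Y_comm_iff (k : Chain S A B C) {β : G} (hβ : β ∈ B) (hβ1 : β ≠ 1) :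
    CommOn (Cfsg.conjBy A β ⊔ C) ↔ CommWith A ⁅B, C⁆ := by
  have hβ1' : β⁻¹ ≠ 1 := fun h => hβ1 (inv_eq_one.mp h)
  rw [← k.X_comm_iff (B.inv_mem hβ) hβ1', Y_eq]
  constructor
  · intro h
    have := commOn_conjBy h β⁻¹
    rw [conjBy_inv_conjBy] at this
    exact this
  · intro h
    exact commOn_conjBy h β

end Chain

end Cfsg.Agent.Lib.Helper26
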