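import Cfsg.Agent.Lib.Helper26.Chain

set_option autoImplicit false

namespace Cfsg.Agent.Lib.Helper26

open Cfsg Cfsg.Agent.S5013 Cfsg.Agent.S5014 Cfsg.Agent.S5029
open scoped commutatorElement

variable {G : Type*} [Group G] {S : Set (Subgroup G)}

theorem commutator_mul_mul {x₁ x₂ y₁ y₂ : G} (h11 : Commute x₁ y₁) (h12 : Commute x₁ y₂)
    (h21 : Commute x₂ y₁) (h22 : Commute x₂ y₂) :
    ⁅x₁ * y₁, y₂ * x₂⁆ = ⁅x₁, x₂⁆ * ⁅y₁, y₂⁆ := by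
  simp only [commutatorElement_def, mul_inv_rev]
  have c1 : Commute (y₁ * y₂) x₂ := h21.symm.mul_left h22.symm
  have c2 : Commute (y₁ * y₂ * y₁⁻¹) x₁⁻¹ :=
    ((h11.symm.mul_left h12.symm).mul_left h11.symm.inv_left).inv_right
  have c3 : Commute (y₁ * y₂ * y₁⁻¹) x₂⁻¹ :=
    ((h21.symm.mul_left h22.symm).mul_left h21.symm.inv_left).inv_right
  have a1 : y₁ * y₂ * x₂ = x₂ * (y₁ * y₂) := c1.eq
  have a2 : y₁ * y₂ * y₁⁻¹ * x₁⁻¹ = x₁⁻¹ * (y₁ * y₂ * y₁⁻¹) := c2.eq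
  have a3 : y₁ * y₂ * y₁⁻¹ * x₂⁻¹ = x₂⁻¹ * (y₁ * y₂ * y₁⁻¹) := c3.eq
  calc x₁ * y₁ * (y₂ * x₂) * (y₁⁻¹ * x₁⁻¹) * (x₂⁻¹ * y₂⁻¹)
      = x₁ * (y₁ * y₂ * x₂) * y₁⁻¹ * x₁⁻¹ * x₂⁻¹ * y₂⁻¹ := by group
    _ = x₁ * (x₂ * (y₁ * y₂)) * y₁⁻¹ * x₁⁻¹ * x₂⁻¹ * y₂⁻¹ := by rw [a1]
    _ = x₁ * x₂ * (y₁ * y₂ * y₁⁻¹ * x₁⁻¹) * x₂⁻¹ * y₂⁻¹ := by group
    _ = x₁ * x₂ * (x₁⁻¹ * (y₁ * y₂ * y₁⁻¹)) * x₂⁻¹ * y₂⁻¹ := by rw [a2]
    _ = x₁ * x₂ * x₁⁻¹ * (y₁ * y₂ * y₁⁻¹ * x₂⁻¹) * y₂⁻¹ := by group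
    _ = x₁ * x₂ * x₁⁻¹ * (x₂⁻¹ * (y₁ * y₂ * y₁⁻¹)) * y₂⁻¹ := by rw [a3]
    _ = x₁ * x₂ * x₁⁻¹ * x₂⁻¹ * (y₁ * y₂ * y₁⁻¹ * y₂⁻¹) := by group

theorem comm_one_of_comm {x g : G} (h : x * g = g * x) : x * g * x⁻¹ * g⁻¹ = 1 := by
  rw [h, mul_inv_cancel_right, mul_inv_cancel]

theorem comm_mem_ucsIn {R : Subgroup G} {n : ℕ} {x g : G} (h : x * g = g * x) :
    x * g * x⁻¹ * g⁻¹ ∈ ucsIn R n := by
  rw [comm_one_of_comm h]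
  exact Subgroup.one_mem _

theorem R_symm (A B C : Subgroup G) : C ⊔ B ⊔ A = A ⊔ B ⊔ C := by
  rw [sup_comm C B, sup_comm, sup_assoc]

namespace Chain

variable {A B C : Subgroup G}

theorem A_le_R (A B C : Subgroup G) : A ≤ A ⊔ B ⊔ C := le_trans le_sup_left le_sup_left
theorem B_le_R (A B C : Subgroup G) : B ≤ A ⊔ B ⊔ C := le_trans le_sup_right le_sup_left
theorem C_le_R (A B C : Subgroup G) : C ≤ A ⊔ B ⊔ C := le_sup_right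

theorem E_le_R (A B C : Subgroup G) : ⁅A, B⁆ ≤ A ⊔ B ⊔ C :=
  le_trans (commutator_le_sup A B) le_sup_left

theorem F_le_R (A B C : Subgroup G) : ⁅B, C⁆ ≤ A ⊔ B ⊔ C :=
  le_trans (commutator_le_sup B C) (sup_le (B_le_R A B C) (C_le_R A B C))

/-- `⁅e, f⁆` centralizes `M`. -/
theorem comm_EF_central (k : Chain S A B C) {β : G} (hβ : β ∈ B) (hβ1 : β ≠ 1) {e f : G}
    (he : e ∈ ⁅A, B⁆) (hf : f ∈ ⁅B, C⁆) :
    ⁅e, f⁆ ∈ Subgroup.centralizer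
      ((((A ⊔ Cfsg.conjBy C β) ⊔ (Cfsg.conjBy A β ⊔ C) : Subgroup G)) : Set G) := by
  obtain ⟨a, ha, rfl⟩ := k.exists_E hβ hβ1 he
  obtain ⟨c, hc, rfl⟩ := k.exists_F hβ hβ1 hf
  have hXY := k.comm_XY hβ
  have ha' : a⁻¹ ∈ A ⊔ Cfsg.conjBy C β := Subgroup.mem_sup_left (A.inv_mem ha)
  have hd : β * c * β⁻¹ ∈ A ⊔ Cfsg.conjBy C β := Subgroup.mem_sup_right (mem_conjBy_of_mem hc β)
  have hp : β * a * β⁻¹ ∈ Cfsg.conjBy A β ⊔ C := Subgroup.mem_sup_left (mem_conjBy_of_mem ha β)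
  have hc' : c⁻¹ ∈ Cfsg.conjBy A β ⊔ C := Subgroup.mem_sup_right (C.inv_mem hc)
  rw [commutator_mul_mul (hXY _ ha' _ hp) (hXY _ ha' _ hc') (hXY _ hd _ hp) (hXY _ hd _ hc')]
  apply Subgroup.mul_mem
  · apply commWith_iff_le_centralizer.mp (k.central_M hβ)
    exact Subgroup.commutator_mem_commutator (A.inv_mem ha) (mem_conjBy_of_mem hc β)
  · apply commWith_iff_le_centralizer.mp (k.central_M' hβ)
    exact Subgroup.commutator_mem_commutator (mem_conjBy_of_mem ha β) (C.inv_mem hc)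

theorem comm_EF_comm_M (k : Chain S A B C) {β : G} (hβ : β ∈ B) (hβ1 : β ≠ 1) {e f : G}
    (he : e ∈ ⁅A, B⁆) (hf : f ∈ ⁅B, C⁆) {x : G}
    (hx : x ∈ (A ⊔ Cfsg.conjBy C β) ⊔ (Cfsg.conjBy A β ⊔ C)) : ⁅e, f⁆ * x = x * ⁅e, f⁆ :=
  ((Subgroup.mem_centralizer_iff.mp (k.comm_EF_central hβ hβ1 he hf)) x hx).symm

theorem comm_EF_comm_B (k : Chain S A B C) {e f : G}
    (he : e ∈ ⁅A, B⁆) (hf : f ∈ ⁅B, C⁆) {γ : G} (hγ : γ ∈ B) : ⁅e, f⁆ * γ = γ * ⁅e, f⁆ := by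
  have h1 : e ∈ Subgroup.centralizer (B : Set G) := commWith_iff_le_centralizer.mp k.cEB he
  have h2 : f ∈ Subgroup.centralizer (B : Set G) := commWith_iff_le_centralizer.mp k.cFB hf
  have h3 : ⁅e, f⁆ ∈ Subgroup.centralizer (B : Set G) := by
    rw [commutatorElement_def]
    exact Subgroup.mul_mem _ (Subgroup.mul_mem _ (Subgroup.mul_mem _ h1 h2)
      (Subgroup.inv_mem _ h1)) (Subgroup.inv_mem _ h2)
  exact ((Subgroup.mem_centralizer_iff.mp h3) γ hγ).symm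

theorem comm_EF_mem_R (A B C : Subgroup G) {e f : G}
    (he : e ∈ ⁅A, B⁆) (hf : f ∈ ⁅B, C⁆) : ⁅e, f⁆ ∈ A ⊔ B ⊔ C := by
  have h1 := E_le_R A B C he
  have h2 := F_le_R A B C hf
  rw [commutatorElement_def]
  exact Subgroup.mul_mem _ (Subgroup.mul_mem _ (Subgroup.mul_mem _ h1 h2)
    (Subgroup.inv_mem _ h1)) (Subgroup.inv_mem _ h2)

/-- `⁅e, f⁆` is central in `R`. -/
theorem comm_EF_mem (k : Chain S A B C) {β : G} (hβ : β ∈ B) (hβ1 : β ≠ 1) {e f : G}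
    (he : e ∈ ⁅A, B⁆) (hf : f ∈ ⁅B, C⁆) : ⁅e, f⁆ ∈ ucsIn (A ⊔ B ⊔ C) 1 := by
  apply mem_ucsIn_succ_of_three (comm_EF_mem_R A B C he hf)
  · intro g hg
    exact comm_mem_ucsIn (k.comm_EF_comm_M hβ hβ1 he hf (A_le_M A C β hg))
  · intro g hg
    exact comm_mem_ucsIn (k.comm_EF_comm_B he hf hg)
  · intro g hg
    exact comm_mem_ucsIn (k.comm_EF_comm_M hβ hβ1 he hf (C_le_M A C β hg))

/-- `⁅a, f⁆ ∈ ⁅A, C^β⁆`. -/
theorem comm_AF_mem_X' (k : Chain S A B C) {β : G} (hβ : β ∈ B) (hβ1 : β ≠ 1) {a f : G}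
    (ha : a ∈ A) (hf : f ∈ ⁅B, C⁆) : ⁅a, f⁆ ∈ ⁅A, Cfsg.conjBy C β⁆ := by
  obtain ⟨c, hc, rfl⟩ := k.exists_F hβ hβ1 hf
  have hw : ⁅a, β * c * β⁻¹⁆ ∈ ⁅A, Cfsg.conjBy C β⁆ :=
    Subgroup.commutator_mem_commutator ha (mem_conjBy_of_mem hc β)
  have h1 : a * c⁻¹ = c⁻¹ * a := k.cAC a ha _ (C.inv_mem hc)
  have e1 : ⁅a, c⁻¹ * (β * c * β⁻¹)⁆ = c⁻¹ * ⁅a, β * c * β⁻¹⁆ * c := by
    simp only [commutatorElement_def]
    calc a * (c⁻¹ * (β * c * β⁻¹)) * a⁻¹ * (c⁻¹ * (β * c * β⁻¹))⁻¹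
        = (a * c⁻¹) * (β * c * β⁻¹) * a⁻¹ * (β * c * β⁻¹)⁻¹ * c := by group
      _ = (c⁻¹ * a) * (β * c * β⁻¹) * a⁻¹ * (β * c * β⁻¹)⁻¹ * c := by rw [h1]
      _ = c⁻¹ * (a * (β * c * β⁻¹) * a⁻¹ * (β * c * β⁻¹)⁻¹) * c := by group
  have e2 : ⁅a, β * c * β⁻¹⁆ * c = c * ⁅a, β * c * β⁻¹⁆ := k.central_M hβ _ hw c (C_le_M A C β hc)
  rw [e1, mul_assoc, e2, inv_mul_cancel_left]
  exact hw

/-- `⁅a, f⁆ ∈ Z₂(R)`. -/
theorem comm_AF_mem (k : Chain S A B C) {β : G} (hβ : β ∈ B) (hβ1 : β ≠ 1) {a f : G}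
    (ha : a ∈ A) (hf : f ∈ ⁅B, C⁆) : ⁅a, f⁆ ∈ ucsIn (A ⊔ B ⊔ C) 2 := by
  have hw := k.comm_AF_mem_X' hβ hβ1 ha hf
  have hwM := k.central_M hβ _ hw
  have hR : ⁅a, f⁆ ∈ A ⊔ B ⊔ C := by
    have h1 := A_le_R A B C ha
    have h2 := F_le_R A B C hf
    rw [commutatorElement_def]
    exact Subgroup.mul_mem _ (Subgroup.mul_mem _ (Subgroup.mul_mem _ h1 h2)
      (Subgroup.inv_mem _ h1)) (Subgroup.inv_mem _ h2)
  apply mem_ucsIn_succ_of_three hR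
  · intro g hg
    exact comm_mem_ucsIn (hwM g (A_le_M A C β hg))
  · intro γ hγ
    have he₁ : a⁻¹ * γ * a * γ⁻¹ ∈ ⁅A, B⁆ := by
      have := Subgroup.commutator_mem_commutator (A.inv_mem ha) hγ
      rw [commutatorElement_def, inv_inv] at this
      exact this
    have hu := k.comm_EF_mem hβ hβ1 he₁ hf
    have hfγ : γ * f * γ⁻¹ = f := by
      rw [← k.cFB f hf γ hγ, mul_inv_cancel_right]
    have e1 : γ * ⁅a, f⁆ * γ⁻¹ = ⁅γ * a * γ⁻¹, γ * f * γ⁻¹⁆ := by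
      simp only [commutatorElement_def]; group
    have e3 : γ * a * γ⁻¹ = a * (a⁻¹ * γ * a * γ⁻¹) := by group
    have e4 : ⁅a * (a⁻¹ * γ * a * γ⁻¹), f⁆ =
        a * ⁅a⁻¹ * γ * a * γ⁻¹, f⁆ * a⁻¹ * ⁅a, f⁆ := by
      simp only [commutatorElement_def]; group
    have e5 : a * ⁅a⁻¹ * γ * a * γ⁻¹, f⁆ * a⁻¹ = ⁅a⁻¹ * γ * a * γ⁻¹, f⁆ := by
      rw [← k.comm_EF_comm_M hβ hβ1 he₁ hf (A_le_M A C β ha), mul_inv_cancel_right]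
    have e6 : γ * ⁅a, f⁆ * γ⁻¹ = ⁅a⁻¹ * γ * a * γ⁻¹, f⁆ * ⁅a, f⁆ := by
      rw [e1, hfγ, e3, e4, e5]
    have e7 : ⁅a, f⁆ * γ * ⁅a, f⁆⁻¹ * γ⁻¹ = ⁅a, f⁆ * (γ * ⁅a, f⁆ * γ⁻¹)⁻¹ := by group
    have e8 : ⁅a, f⁆ * (⁅a⁻¹ * γ * a * γ⁻¹, f⁆ * ⁅a, f⁆)⁻¹ = ⁅a⁻¹ * γ * a * γ⁻¹, f⁆⁻¹ := by group
    rw [e7, e6, e8]
    exact ucsIn_mono _ (by norm_num) (Subgroup.inv_mem _ hu)
  · intro g hg
    exact comm_mem_ucsIn (hwM g (C_le_M A C β hg))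

theorem F_le_ucs3 (k : Chain S A B C) {β : G} (hβ : β ∈ B) (hβ1 : β ≠ 1) :
    ⁅B, C⁆ ≤ ucsIn (A ⊔ B ⊔ C) 3 := by
  intro f hf
  apply mem_ucsIn_succ_of_three (F_le_R A B C hf)
  · intro g hg
    have h1 := Subgroup.inv_mem _ (k.comm_AF_mem hβ hβ1 hg hf)
    rw [commutatorElement_inv, commutatorElement_def] at h1
    exact h1
  · intro g hg
    exact comm_mem_ucsIn (k.cFB f hf g hg)
  · intro g hg
    exact comm_mem_ucsIn (k.cFC f hf g hg)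

theorem E_le_ucs3 (k : Chain S A B C) {β : G} (hβ : β ∈ B) (hβ1 : β ≠ 1) :
    ⁅A, B⁆ ≤ ucsIn (A ⊔ B ⊔ C) 3 := by
  have := k.symm.F_le_ucs3 hβ hβ1
  rw [R_symm, Subgroup.commutator_comm] at this
  exact this

theorem le_ucs4 (k : Chain S A B C) {β : G} (hβ : β ∈ B) (hβ1 : β ≠ 1) :
    A ⊔ B ⊔ C ≤ ucsIn (A ⊔ B ⊔ C) 4 := by
  have hE := k.E_le_ucs3 hβ hβ1
  have hF := k.F_le_ucs3 hβ hβ1
  refine sup_le (sup_le ?_ ?_) ?_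
  · intro a ha
    apply mem_ucsIn_succ_of_three (A_le_R A B C ha)
    · intro g hg
      exact comm_mem_ucsIn (k.cAA a ha g hg)
    · intro g hg
      apply hE
      have := Subgroup.commutator_mem_commutator ha hg
      rw [commutatorElement_def] at this
      exact this
    · intro g hg
      exact comm_mem_ucsIn (k.cAC a ha g hg)
  · intro γ hγ
    apply mem_ucsIn_succ_of_three (B_le_R A B C hγ)
    · intro g hg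
      apply hE
      have := Subgroup.commutator_mem_commutator hγ hg
      rw [commutatorElement_def, Subgroup.commutator_comm] at this
      exact this
    · intro g hg
      exact comm_mem_ucsIn (k.cBB γ hγ g hg)
    · intro g hg
      apply hF
      have := Subgroup.commutator_mem_commutator hγ hg
      rw [commutatorElement_def] at this
      exact this
  · intro c hc
    apply mem_ucsIn_succ_of_three (C_le_R A B C hc)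
    · intro g hg
      exact comm_mem_ucsIn (k.cAC.symm c hc g hg)
    · intro g hg
      apply hF
      have := Subgroup.commutator_mem_commutator hc hg
      rw [commutatorElement_def, Subgroup.commutator_comm] at this
      exact this
    · intro g hg
      exact comm_mem_ucsIn (k.cCC c hc g hg)

theorem nilpotent (k : Chain S A B C) {β : G} (hβ : β ∈ B) (hβ1 : β ≠ 1) :
    Group.IsNilpotent ↥(A ⊔ B ⊔ C) :=
  isNilpotent_of_le_ucsIn (k.le_ucs4 hβ hβ1)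

end Chain

end Cfsg.Agent.Lib.Helper26
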