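import Cfsg.Agent.Lib.Helper26.OppPartners
import Cfsg.Agent.S5025

set_option autoImplicit false

namespace Cfsg.Agent.Lib.Helper26

open Cfsg Cfsg.Agent.S5013 Cfsg.Agent.S5014 Cfsg.Agent.S5029
open scoped commutatorElement

variable {G : Type*} [Group G] {S : Set (Subgroup G)}

/-- In the commutator case a nontrivial element of `B` does not centralize `A`. -/
theorem exists_not_comm_of_cc (hS : Cfsg.IsRootSubgroupSet S) {A B : Subgroup G}
    (h : Cfsg.RootCommutatorCase S A B) {b : G} (hb : b ∈ B) (hb1 : b ≠ 1) :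
    ∃ a ∈ A, a * b ≠ b * a := by
  by_contra hcon
  push Not at hcon
  apply hS.ne_bot _ h.1
  rw [← h.2.2.2 b hb hb1, Subgroup.closure_eq_bot_iff]
  rintro _ ⟨a, ha, rfl⟩
  rw [Set.mem_singleton_iff]
  show a * b * a⁻¹ * b⁻¹ = 1
  rw [hcon a ha]
  group

/-- For `b ≠ 1` in `B`, every element of `⁅A, B⁆ ∈ S` is `a⁻¹ b⁻¹ a b` for some `a ∈ A`. -/
theorem exists_left_of_cc (hS : Cfsg.IsRootSubgroupSet S) {A B : Subgroup G} (hAS : A ∈ S)
    (hBS : B ∈ S) (hE : ⁅A, B⁆ ∈ S) {b : G} (hb : b ∈ B) (hb1 : b ≠ 1) {e : G}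
    (he : e ∈ ⁅A, B⁆) : ∃ a ∈ A, a⁻¹ * b⁻¹ * a * b = e := by
  have ccBA : Cfsg.RootCommutatorCase S B A :=
    commutatorCase_of_mem hS hBS hAS (by rw [Subgroup.commutator_comm]; exact hE)
  have hr := commHom_range hS ccBA hb hb1
  have hc' : e⁻¹ ∈ (commHom hS ccBA hb).range := by
    rw [hr, Subgroup.commutator_comm]
    exact Subgroup.inv_mem _ he
  obtain ⟨a, ha⟩ := hc'
  rw [commHom_apply] at ha
  refine ⟨(a : G), a.2, ?_⟩
  have h1 : (a : G)⁻¹ * b⁻¹ * a * b = (b⁻¹ * (a : G)⁻¹ * b * a)⁻¹ := by group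
  rw [h1, ha, inv_inv]

/-- Elementwise commutativity of a subgroup. -/
def CommOn (H : Subgroup G) : Prop := ∀ x ∈ H, ∀ y ∈ H, x * y = y * x

theorem commOn_of_isMulCommutative {H : Subgroup G} (h : IsMulCommutative ↥H) : CommOn H :=
  fun x hx y hy => congrArg Subtype.val (h.is_comm.comm ⟨x, hx⟩ ⟨y, hy⟩)

theorem isMulCommutative_of_commOn {H : Subgroup G} (h : CommOn H) : IsMulCommutative ↥H :=
  ⟨⟨fun x y => Subtype.ext (h x.1 x.2 y.1 y.2)⟩⟩

theorem commOn_of_mem (hS : Cfsg.IsRootSubgroupSet S) {A : Subgroup G} (hA : A ∈ S) : CommOn A :=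
  commOn_of_isMulCommutative (hS.commutative A hA)

/-- Two subgroups commuting elementwise. -/
def CommWith (H K : Subgroup G) : Prop := ∀ x ∈ H, ∀ y ∈ K, x * y = y * x

theorem CommWith.symm {H K : Subgroup G} (h : CommWith H K) : CommWith K H :=
  fun x hx y hy => (h y hy x hx).symm

theorem commWith_iff_le_centralizer {H K : Subgroup G} :
    CommWith H K ↔ H ≤ Subgroup.centralizer (K : Set G) := by
  constructor
  · intro h x hx
    exact Subgroup.mem_centralizer_iff.mpr (fun y hy => (h x hx y hy).symm)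
  · intro h x hx y hy
    exact ((Subgroup.mem_centralizer_iff.mp (h hx)) y hy).symm

theorem commWith_of_commutator_eq_bot {H K : Subgroup G} (h : ⁅H, K⁆ = ⊥) : CommWith H K :=
  fun _ hx _ hy => Cfsg.Agent.S5028.commute_of_commutator_eq_bot h hx hy

theorem commutator_eq_bot_of_commWith {H K : Subgroup G} (h : CommWith H K) : ⁅H, K⁆ = ⊥ := by
  rw [Subgroup.commutator_eq_bot_iff_le_centralizer]
  exact commWith_iff_le_centralizer.mp h

theorem CommWith.sup_left {H₁ H₂ K : Subgroup G} (h₁ : CommWith H₁ K) (h₂ : CommWith H₂ K) :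
    CommWith (H₁ ⊔ H₂) K := by
  rw [commWith_iff_le_centralizer] at *
  exact sup_le h₁ h₂

theorem CommWith.sup_right {H K₁ K₂ : Subgroup G} (h₁ : CommWith H K₁) (h₂ : CommWith H K₂) :
    CommWith H (K₁ ⊔ K₂) :=
  (CommWith.sup_left h₁.symm h₂.symm).symm

theorem CommWith.mono {H K H' K' : Subgroup G} (h : CommWith H K) (hH : H' ≤ H) (hK : K' ≤ K) :
    CommWith H' K' :=
  fun x hx y hy => h x (hH hx) y (hK hy)

theorem commOn_sup {H K : Subgroup G} (hH : CommOn H) (hK : CommOn K) (hHK : CommWith H K) :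
    CommOn (H ⊔ K) := by
  have h1 : CommWith (H ⊔ K) (H ⊔ K) :=
    CommWith.sup_left (CommWith.sup_right hH hHK) (CommWith.sup_right hHK.symm hK)
  exact h1

theorem commWith_conjBy {H K : Subgroup G} (h : CommWith H K) (g : G) :
    CommWith (Cfsg.conjBy H g) (Cfsg.conjBy K g) := by
  intro x hx y hy
  rw [mem_conjBy_iff] at hx hy
  have h1 := h _ hx _ hy
  have e1 : x * y = g * ((g⁻¹ * x * g) * (g⁻¹ * y * g)) * g⁻¹ := by group
  have e2 : y * x = g * ((g⁻¹ * y * g) * (g⁻¹ * x * g)) * g⁻¹ := by group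
  rw [e1, e2, h1]

theorem commOn_conjBy {H : Subgroup G} (h : CommOn H) (g : G) : CommOn (Cfsg.conjBy H g) :=
  commWith_conjBy (H := H) (K := H) h g

theorem conjBy_sup (H K : Subgroup G) (g : G) :
    Cfsg.conjBy (H ⊔ K) g = Cfsg.conjBy H g ⊔ Cfsg.conjBy K g :=
  Subgroup.map_sup _ _ _

theorem conjBy_commutator (H K : Subgroup G) (g : G) :
    Cfsg.conjBy ⁅H, K⁆ g = ⁅Cfsg.conjBy H g, Cfsg.conjBy K g⁆ :=
  Subgroup.map_commutator _ _ _

theorem conjBy_bot (g : G) : Cfsg.conjBy (⊥ : Subgroup G) g = ⊥ :=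
  Subgroup.map_bot _

theorem conjBy_inv_conjBy (H : Subgroup G) (g : G) :
    Cfsg.conjBy (Cfsg.conjBy H g) g⁻¹ = H := by
  rw [conjBy_conjBy, inv_mul_cancel, conjBy_one]

theorem conjBy_conjBy_inv (H : Subgroup G) (g : G) :
    Cfsg.conjBy (Cfsg.conjBy H g⁻¹) g = H := by
  rw [conjBy_conjBy, mul_inv_cancel, conjBy_one]

theorem class_two_conjBy {H : Subgroup G} (h : ⁅⁅H, H⁆, H⁆ = ⊥) (g : G) :
    ⁅⁅Cfsg.conjBy H g, Cfsg.conjBy H g⁆, Cfsg.conjBy H g⁆ = ⊥ := by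
  rw [← conjBy_commutator, ← conjBy_commutator, h, conjBy_bot]

theorem mem_conjBy_of_mem {H : Subgroup G} {x : G} (hx : x ∈ H) (g : G) :
    g * x * g⁻¹ ∈ Cfsg.conjBy H g := by
  rw [mem_conjBy_iff]
  have : g⁻¹ * (g * x * g⁻¹) * g = x := by group
  rw [this]
  exact hx

theorem mem_conjBy_inv_of_mem {H : Subgroup G} {x : G} (hx : x ∈ H) (g : G) :
    g⁻¹ * x * g ∈ Cfsg.conjBy H g⁻¹ := by
  have := mem_conjBy_of_mem hx g⁻¹
  rw [inv_inv] at this
  exact this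

/-- If `H, K` are abelian and all commutators `⁅h, k⁆` lie in a subgroup `Z` centralized by
`H ⊔ K`, then `H ⊔ K` has class at most two. -/
theorem commutator_sup_le_of_central {H K Z : Subgroup G} (hH : CommOn H) (hK : CommOn K)
    (hHK : ∀ x ∈ H, ∀ y ∈ K, ⁅x, y⁆ ∈ Z) (hZ : CommWith Z (H ⊔ K)) :
    ⁅H ⊔ K, H ⊔ K⁆ ≤ Z := by
  have key : ∀ x ∈ H ⊔ K, ∀ y ∈ H ⊔ K, ⁅x, y⁆ ∈ Z := by
    have hcl : H ⊔ K = Subgroup.closure ((H : Set G) ∪ K) := by
      rw [Subgroup.closure_union, Subgroup.closure_eq, Subgroup.closure_eq]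
    intro x hx y hy
    rw [hcl] at hx hy
    have hmem : ∀ z, z ∈ Subgroup.closure ((H : Set G) ∪ K) → z ∈ H ⊔ K := fun z hz => by
      rw [hcl]; exact hz
    refine Subgroup.closure_induction₂ (p := fun x y _ _ => ⁅x, y⁆ ∈ Z) ?_ ?_ ?_ ?_ ?_ ?_ ?_ hx hy
    · rintro x y (hx | hx) (hy | hy)
      · rw [commutatorElement_eq_one_iff_mul_comm.mpr (hH x hx y hy)]
        exact Z.one_mem
      · exact hHK x hx y hy
      · have := Z.inv_mem (hHK y hy x hx)
        rw [commutatorElement_inv] at this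
        exact this
      · rw [commutatorElement_eq_one_iff_mul_comm.mpr (hK x hx y hy)]
        exact Z.one_mem
    · intro x _
      rw [commutatorElement_one_left]
      exact Z.one_mem
    · intro x _
      rw [commutatorElement_one_right]
      exact Z.one_mem
    · intro x y z hx _ _ h1 h2
      have e : ⁅x * y, z⁆ = x * ⁅y, z⁆ * x⁻¹ * ⁅x, z⁆ := by
        simp only [commutatorElement_def]; group
      rw [e]
      have h3 : x * ⁅y, z⁆ * x⁻¹ = ⁅y, z⁆ := by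
        rw [← hZ _ h2 x (hmem x hx), mul_inv_cancel_right]
      rw [h3]
      exact Z.mul_mem h2 h1
    · intro x y z hx _ _ h1 h2
      have e : ⁅z, x * y⁆ = ⁅z, x⁆ * (x * ⁅z, y⁆ * x⁻¹) := by
        simp only [commutatorElement_def]; group
      rw [e]
      have h3 : x * ⁅z, y⁆ * x⁻¹ = ⁅z, y⁆ := by
        rw [← hZ _ h2 x (hmem x hx), mul_inv_cancel_right]
      rw [h3]
      exact Z.mul_mem h1 h2
    · intro x y hx _ h1
      have e : ⁅x⁻¹, y⁆ = x⁻¹ * ⁅x, y⁆⁻¹ * x := by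
        simp only [commutatorElement_def]; group
      rw [e]
      have h3 : x⁻¹ * ⁅x, y⁆⁻¹ * x = ⁅x, y⁆⁻¹ := by
        rw [mul_assoc, hZ _ (Z.inv_mem h1) x (hmem x hx), inv_mul_cancel_left]
      rw [h3]
      exact Z.inv_mem h1
    · intro x y _ hy h1
      have e : ⁅x, y⁻¹⁆ = y⁻¹ * ⁅x, y⁆⁻¹ * y := by
        simp only [commutatorElement_def]; group
      rw [e]
      have h3 : y⁻¹ * ⁅x, y⁆⁻¹ * y = ⁅x, y⁆⁻¹ := by
        rw [mul_assoc, hZ _ (Z.inv_mem h1) y (hmem y hy), inv_mul_cancel_left]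
      rw [h3]
      exact Z.inv_mem h1
  rw [Subgroup.commutator_le]
  exact key

theorem class_two_of_central {H K Z : Subgroup G} (hH : CommOn H) (hK : CommOn K)
    (hHK : ∀ x ∈ H, ∀ y ∈ K, ⁅x, y⁆ ∈ Z) (hZ : CommWith Z (H ⊔ K)) :
    ⁅⁅H ⊔ K, H ⊔ K⁆, H ⊔ K⁆ = ⊥ := by
  have h1 := commutator_sup_le_of_central hH hK hHK hZ
  apply commutator_eq_bot_of_commWith
  exact hZ.mono h1 le_rfl

theorem class_two_of_commOn {H : Subgroup G} (h : CommOn H) : ⁅⁅H, H⁆, H⁆ = ⊥ := by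
  have h1 : ⁅H, H⁆ = ⊥ := commutator_eq_bot_of_commWith h
  rw [h1]
  exact Subgroup.commutator_bot_left H

end Cfsg.Agent.Lib.Helper26
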