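import Cfsg.Agent.Lib.Helper26.PrimeNormP

set_option autoImplicit false

namespace Cfsg.Agent.Lib.Helper26

open Cfsg Cfsg.FusionSystem

variable {Ω : Type*} [Group Ω] {S T : Subgroup Ω}

/-- the hypotheses on the normal subgroup `K` of `Aut_F(T)` (the kernel of a character of order prime
to `p` containing `Aut_E(T)`) -/
structure ChiCtx (p : ℕ) (F : FusionSystem S) (E : FusionSystem T) (K : Subgroup (MulAut T)) : Prop where
  hS : IsPGroup p S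
  hF : F.IsSaturated p
  hEs : E.IsSaturated p
  hEF : E.IsSubsystemOf F
  hT : F.StronglyClosed T
  hInv : InvCond F E
  hdec : ∀ (P : Subgroup Ω), P ≤ T → ∀ (φ : P →* Ω), φ ∈ F.Hom P → Dec F E P φ
  hKF : K ≤ F.autGroup T
  hKn : ∀ β ∈ F.autGroup T, ∀ κ ∈ K, β * κ * β⁻¹ ∈ K
  hEK : E.autGroup T ≤ K
  hpK : ∀ a ∈ F.autGroup T, ∀ k : ℕ, a ^ (p ^ k) = 1 → a ∈ K

namespace ChiCtx

variable {p : ℕ} {F : FusionSystem S} {E : FusionSystem T} {K : Subgroup (MulAut T)}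

theorem invCond_fullSub (C : ChiCtx p F E K) :
    InvCond (Cfsg.Agent.Lib.Helper27.fullSub F T C.hT.1) E := by
  intro P hPT φ hφ α hα
  rw [Cfsg.Agent.Lib.Helper27.autGroup_fullSub F C.hT.1 le_rfl] at hα
  exact C.hInv P hPT φ hφ α hα

theorem le_autGroup_fullSub (C : ChiCtx p F E K) :
    K ≤ (Cfsg.Agent.Lib.Helper27.fullSub F T C.hT.1).autGroup T := by
  rw [Cfsg.Agent.Lib.Helper27.autGroup_fullSub F C.hT.1 le_rfl]
  exact C.hKF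

/-- the system `K · E` over `T` -/
def sysD (C : ChiCtx p F E K) : FusionSystem T :=
  prodSystem (Cfsg.Agent.Lib.Helper27.fullSub F T C.hT.1) E C.invCond_fullSub K C.le_autGroup_fullSub

theorem mem_sysD_iff (C : ChiCtx p F E K) {P : Subgroup Ω} {φ : P →* Ω} :
    φ ∈ C.sysD.Hom P ↔ (φ ∈ F.Hom P ∧ P ≤ T ∧ ∀ x : P, φ x ∈ T) ∧ DecA K E P φ := Iff.rfl

theorem sysD_le (C : ChiCtx p F E K) : C.sysD.IsSubsystemOf F := fun _ _ h => h.1.1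

theorem le_sysD (C : ChiCtx p F E K) : E ≤ C.sysD := fun P φ h =>
  ⟨⟨C.hEF P h, (E.le_of_mem h).1, (E.le_of_mem h).2⟩, decA_of_mem h⟩

/-- restrictions of elements of `K` are maps of `K · E` -/
theorem autRes_mem_sysD (C : ChiCtx p F E K) {κ : MulAut T} (hκ : κ ∈ K) {P : Subgroup Ω}
    (hPT : P ≤ T) : autRes κ hPT ∈ C.sysD.Hom P := by
  refine ⟨⟨restrict_mem F ((mem_autGroup_iff F C.hT.1).mp (C.hKF hκ)) hPT, hPT, fun x => ?_⟩,
    κ, hκ, P.subtype, subtype_mem E hPT, fun x hx => rfl⟩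
  exact (κ _).2

/-- a map of `K · E` defined on all of `T` is an element of `K` -/
theorem exists_mem_of_mem_sysD_top [Finite S] (C : ChiCtx p F E K) {φ : T →* Ω}
    (hφ : φ ∈ C.sysD.Hom T) : ∃ β ∈ K, ∀ t : T, ((β t : T) : Ω) = φ t := by
  haveI : Finite T := finite_of_le C.hT.1
  obtain ⟨-, κ, hκ, ε, hε, e⟩ := hφ
  have hεT : ∀ x, ε x ∈ T := (E.le_of_mem hε).2
  have hr : ε.range = T := range_eq_of_apply_mem E hε hεT
  obtain ⟨f, hf, hfx⟩ := exists_iso_of_hom E hε hr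
  have hfK : f ∈ K := C.hEK ((isIso_iff_mem_autGroup E le_rfl f).mp hf)
  refine ⟨κ * f, K.mul_mem hκ hfK, fun t => ?_⟩
  rw [e t (hεT t), MulAut.mul_apply]
  congr 2
  exact Subtype.ext (hfx t)

/-- `K · E` is invariant under `Aut_F(T)` -/
theorem invCond_sysD (C : ChiCtx p F E K) : InvCond F C.sysD := by
  intro P hPT φ hφ β hβ
  obtain ⟨⟨hφF, -, hφT⟩, κ, hκ, φ₀, hφ₀, e⟩ := hφ
  have hTS : T ≤ S := C.hT.1
  obtain ⟨χ, hχ, hχx⟩ := hom_conj_aut F hTS hPT hφF hφT hβ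
  obtain ⟨χ₀, hχ₀, hχ₀x⟩ := C.hInv P hPT φ₀ hφ₀ β hβ
  have hφ₀T : ∀ x, φ₀ x ∈ T := (E.le_of_mem hφ₀).2
  have hχT : ∀ y : ↥(imgA β P), χ y ∈ T := fun y => C.hT.2 _ (imgA_le β P) χ hχ y
  refine ⟨χ, ⟨⟨hχ, imgA_le β P, hχT⟩, β * κ * β⁻¹, C.hKn β hβ κ hκ, χ₀, hχ₀, ?_⟩, hχx⟩
  rintro ⟨y, hy⟩ hy0
  obtain ⟨x, hx, rfl⟩ := mem_imgA.mp hy
  have h1 := hχx ⟨x, hx⟩ (hφT _) hy
  have h2 := hχ₀x ⟨x, hx⟩ (hφ₀T _) hy
  have h3 : (⟨χ₀ ⟨((β x : T) : Ω), hy⟩, hy0⟩ : T) = β ⟨φ₀ ⟨x, hx⟩, hφ₀T _⟩ := Subtype.ext h2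
  rw [h3, h1, MulAut.mul_apply, MulAut.mul_apply, MulAut.inv_apply_self]
  have h4 : (⟨φ ⟨x, hx⟩, hφT _⟩ : T) = κ ⟨φ₀ ⟨x, hx⟩, hφ₀T _⟩ := Subtype.ext (e ⟨x, hx⟩ (hφ₀T _))
  rw [h4]

/-- `Aut_S(T) ≤ K` -/
theorem conjAut_mem [Finite S] [Fact p.Prime] (C : ChiCtx p F E K) {g : Ω} (hg : g ∈ S)
    (hgN : g ∈ Subgroup.normalizer (T : Set Ω)) : conjAut T g hgN ∈ K := by
  obtain ⟨k, hk⟩ := exists_orderOf_conjAut C.hS hg hgN
  refine C.hpK _ (autInducedBy_le_autGroup F C.hT.1 (conjAut_mem_autInducedBy hg hgN)) k ?_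
  rw [← hk, pow_orderOf_eq_one]

/-- `Aut_S(Q) ≤ Aut_{K · E}(Q)` for `Q ≤ T` -/
theorem autInducedBy_le_sysD [Finite S] [Fact p.Prime] (C : ChiCtx p F E K) {Q : Subgroup Ω}
    (hQT : Q ≤ T) : autInducedBy S Q ≤ C.sysD.autGroup Q := by
  intro α hα
  obtain ⟨g, hg, hgα⟩ := mem_autInducedBy_iff.mp hα
  have hgN : g ∈ Subgroup.normalizer (T : Set Ω) := le_normalizer_of_stronglyClosed F C.hT hg
  rw [mem_autGroup_iff _ hQT]
  refine mem_of_forall_eq _ (C.autRes_mem_sysD (C.conjAut_mem hg hgN) hQT) (fun x => ?_)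
  exact hgα x

/-- `E`-maps decompose in `K · E` -/
theorem dec_sysD (C : ChiCtx p F E K) {P : Subgroup Ω} (hPT : P ≤ T) {φ : P →* Ω}
    (hφ : φ ∈ F.Hom P) : Dec F C.sysD P φ := by
  obtain ⟨α, hα, φ₀, hφ₀, e⟩ := C.hdec P hPT φ hφ
  exact ⟨α, hα, φ₀, C.le_sysD P hφ₀, e⟩

/-- the `p`-elements of `Aut_F(U)`, `U ≤ T`, lie in `K · E` -/
theorem ppSet_subset_sysD [Finite S] [Fact p.Prime] (C : ChiCtx p F E K) {U : Subgroup Ω}
    (hUT : U ≤ T) : ppSet F p U ⊆ C.sysD.autGroup U := by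
  have hTS : T ≤ S := C.hT.1
  rintro a ⟨ha, k, hk⟩
  obtain ⟨Q, hUQ, hQn⟩ := exists_fullyNormalized_conj F (hUT.trans hTS)
  have hQS : Q ≤ S := hQn.1
  have hQT : Q ≤ T := by
    obtain ⟨φ, hφ, rfl⟩ := hUQ
    rintro _ ⟨x, rfl⟩
    exact C.hT.2 U hUT φ hφ x
  haveI hfinQ : Finite Q := finite_of_le hQS
  obtain ⟨e, he⟩ := exists_iso_of_isConj F hUQ
  obtain ⟨-, hfa, -⟩ := saturated_fullyNormalized C.hS F C.hF hQn
  have hsyl := isSylowIn18_of_fullyAutomized F hfa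
  have hb : MulAut.congr e a ∈ F.autGroup Q := congr_mem_autGroup he ha
  have hbk : (MulAut.congr e a) ^ (p ^ k) = 1 := by
    rw [← map_pow, ← hk, pow_orderOf_eq_one, map_one]
  have hRp := isPGroup_zpowers_of_pow_eq_one hbk
  have hR : Subgroup.zpowers (MulAut.congr e a) ≤ F.autGroup Q := by
    rw [Subgroup.zpowers_le]
    exact hb
  obtain ⟨γ, hγ, hle⟩ := hsyl.exists_conj_le hR hRp
  have hc : γ * MulAut.congr e a * γ⁻¹ ∈ autInducedBy S Q :=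
    hle (Cfsg.Agent.Lib.Helper18.conj_mem_conjSub (Subgroup.mem_zpowers _))
  have he' : IsIso F (e.trans γ) := he.trans ((isIso_iff_mem_autGroup F hQS γ).mpr hγ)
  have hc' : MulAut.congr (e.trans γ) a ∈ C.sysD.autGroup Q := by
    rw [congr_trans_aut]
    exact C.autInducedBy_le_sysD hQT hc
  have hdec' : Dec F C.sysD Q (U.subtype.comp (e.trans γ).symm.toMonoidHom) :=
    C.dec_sysD hQT he'.symm
  have := congr_mem_autGroup_of_decT C.invCond_sysD hUT (e.trans γ).symm hdec' hc'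
  rwa [congr_symm_congr] at this

/-- an element of `Aut_F(T)` whose restriction to an `E`-centric subgroup is a map of `E` lies in `K` -/
theorem mem_of_autRes_mem [Finite S] [Fact p.Prime] (C : ChiCtx p F E K) {δ : MulAut T}
    (hδ : δ ∈ F.autGroup T) {U : Subgroup Ω} (hU : E.IsCentric U)
    (hres : autRes δ hU.1 ∈ E.Hom U) : δ ∈ K := by
  have hTS : T ≤ S := C.hT.1
  haveI : Finite T := finite_of_le hTS
  have hTp : IsPGroup p T := C.hS.to_le hTS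
  have hp : p.Prime := Fact.out
  have hpos : orderOf δ ≠ 0 := (orderOf_pos δ).ne'
  obtain ⟨a, n, hn, hen⟩ := Nat.exists_eq_pow_mul_and_not_dvd hpos p hp.ne_one
  have hγF : δ ^ (p ^ a) ∈ F.autGroup T := Subgroup.pow_mem _ hδ _
  have hγn : (δ ^ (p ^ a)) ^ n = 1 := by rw [← pow_mul, ← hen, pow_orderOf_eq_one]
  have hδ' : δ ∈ (Cfsg.Agent.Lib.Helper27.fullSub F T hTS).autGroup T := by
    rw [Cfsg.Agent.Lib.Helper27.autGroup_fullSub F hTS le_rfl]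
    exact hδ
  have hresγ : autRes (δ ^ (p ^ a)) hU.1 ∈ E.Hom U :=
    autRes_pow_mem C.invCond_fullSub hδ' hU.1 hres (p ^ a)
  have hnorm : NormalizesSys (δ ^ (p ^ a)) E := fun P hPT φ hφ => C.hInv P hPT φ hφ _ hγF
  have hγE : δ ^ (p ^ a) ∈ E.autGroup T :=
    mem_autGroup_of_autRes_mem hTp E C.hEs _ hnorm hn (by rw [hγn]; exact Subgroup.one_mem _) hU hresγ
  have hγK : δ ^ (p ^ a) ∈ K := C.hEK hγE
  have hδn : δ ^ n ∈ K := by
    refine C.hpK _ (Subgroup.pow_mem _ hδ n) a ?_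
    rw [← pow_mul, mul_comm, ← hen, pow_orderOf_eq_one]
  have hcop : Nat.gcd n (p ^ a) = 1 :=
    Nat.Coprime.pow_right a ((Nat.Prime.coprime_iff_not_dvd hp).mpr hn).symm
  have hb := Nat.gcd_eq_gcd_ab n (p ^ a)
  rw [hcop] at hb
  have e : δ = (δ ^ n) ^ (Nat.gcdA n (p ^ a)) * (δ ^ (p ^ a)) ^ (Nat.gcdB n (p ^ a)) := by
    rw [← zpow_natCast δ n, ← zpow_natCast δ (p ^ a), ← zpow_mul, ← zpow_mul, ← zpow_add, ← hb]
    simp
  rw [e]
  exact K.mul_mem (K.zpow_mem hδn _) (K.zpow_mem hγK _)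

end ChiCtx

end Cfsg.Agent.Lib.Helper26
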