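import Cfsg.Agent.Lib.Helper26.ChiSub9

set_option autoImplicit false

namespace Cfsg.Agent.Lib.Helper26

open Cfsg Cfsg.FusionSystem

variable {Ω : Type*} [Group Ω] {S T : Subgroup Ω}

namespace ChiCtx

variable {p : ℕ} {F : FusionSystem S} {E : FusionSystem T} {K : Subgroup (MulAut T)}

theorem closure_ppSet_le_K (C : ChiCtx p F E K) : Subgroup.closure (ppSet F p T) ≤ K := by
  refine (Subgroup.closure_le _).mpr ?_
  rintro a ⟨haF, k, hk⟩
  exact C.hpK a haF k (by rw [← hk, pow_orderOf_eq_one])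

/-- `K ≤ Aut_{F₀}(T)` -/
theorem le_autGroup_sysM [Finite S] [Fact p.Prime] (C : ChiCtx p F E K) : K ≤ C.sysM.autGroup T := by
  intro κ hκ
  obtain ⟨m, hm, α, hα, e⟩ := exists_frattini_dec C.hS F C.hF C.hT (C.hKF hκ)
  have hmK : m ∈ K := C.closure_ppSet_le_K hm
  have hmM : m ∈ C.sysM.autGroup T :=
    (Subgroup.closure_le _).mpr (C.ppSet_subset_sysM_all C.hT.1) hm
  have hαM : α ∈ C.sysM.autGroup S :=
    C.mem_autGroup_sysM_iff.mpr ⟨hα, m * κ, K.mul_mem hmK hκ, e⟩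
  have h1 : m * κ ∈ C.sysM.autGroup T := by
    rw [mem_autGroup_iff _ C.hT.1]
    have := restrict_mem C.sysM ((mem_autGroup_iff _ le_rfl).mp hαM) C.hT.1
    exact mem_of_forall_eq _ this (fun t => e t)
  have : κ = m⁻¹ * (m * κ) := by group
  rw [this]
  exact Subgroup.mul_mem _ (Subgroup.inv_mem _ hmM) h1

/-- `E` is a subsystem of the candidate subsystem -/
theorem le_sysM [Finite S] [Fact p.Prime] (C : ChiCtx p F E K) : E.IsSubsystemOf C.sysM := by
  have hTS : T ≤ S := C.hT.1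
  haveI : Finite T := finite_of_le hTS
  have hTp : IsPGroup p T := C.hS.to_le hTS
  have hcp : HasCentricPP E p (Cfsg.Agent.Lib.Helper27.fullSub C.sysM T hTS) := by
    intro R hR a ha
    rw [SetLike.mem_coe, Cfsg.Agent.Lib.Helper27.autGroup_fullSub C.sysM hTS hR.1]
    apply C.ppSet_subset_sysM_all (hR.1.trans hTS)
    exact ⟨autGroup_mono_of_subsystem C.hEF R ha.1, ha.2⟩
  have hle := ppCore_le_of E p hcp
  intro P φ hφ
  obtain ⟨α, hα, φ₀, hφ₀, e⟩ := dec_ppCore hTp E C.hEs hφ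
  have hφ₀M : φ₀ ∈ C.sysM.Hom P := (hle P hφ₀).1
  have hαM : T.subtype.comp α.toMonoidHom ∈ C.sysM.Hom T :=
    (mem_autGroup_iff _ hTS).mp (C.le_autGroup_sysM (C.hEK hα))
  have hφ₀T : ∀ x, φ₀ x ∈ T := ((ppCore E p).le_of_mem hφ₀).2
  exact mem_of_forall_eq _ (C.sysM.comp_mem hφ₀M hαM hφ₀T) (fun x => e x (hφ₀T x))

/-- the candidate subsystem is proper when `K` is a proper subgroup of `Aut_F(T)` -/
theorem sysM_ne [Finite S] [Fact p.Prime] (C : ChiCtx p F E K) {b : MulAut T} (hb : b ∈ F.autGroup T)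
    (hbK : b ∉ K) : ¬ (∀ P : Subgroup Ω, C.sysM.Hom P = F.Hom P) := by
  intro heq
  obtain ⟨m, hm, α, hα, e⟩ := exists_frattini_dec C.hS F C.hF C.hT hb
  have hmK : m ∈ K := C.closure_ppSet_le_K hm
  have hαM : α ∈ C.sysM.autGroup S := by
    rw [mem_autGroup_iff _ le_rfl, heq S]
    exact (mem_autGroup_iff F le_rfl).mp hα
  obtain ⟨-, β, hβ, hβt⟩ := C.mem_autGroup_sysM_iff.mp hαM
  have hβe : β = m * b := by
    ext t
    rw [hβt t, e t]
  apply hbK
  have : b = m⁻¹ * β := by rw [hβe]; group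
  rw [this]
  exact K.mul_mem (K.inv_mem hmK) hβ

/-- the candidate subsystem is normal in `F` -/
theorem sysM_isNormalIn [Finite S] [Fact p.Prime] (C : ChiCtx p F E K) : C.sysM.IsNormalIn F p := by
  refine ⟨⟨C.saturated_sysM, C.hF, fun P φ h => C.sysM_le P h, top_stronglyClosed F,
    C.invCond_sysM, fun P _ φ hφ => C.dec_sysM P φ hφ⟩, fun α hα => ?_⟩
  exact extCond_top F (autGroup_mono_of_subsystem (fun P φ h => C.sysM_le P h) S hα)

/-- the candidate subsystem has index prime to `p` -/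
theorem sysM_primeIndex [Finite S] [Fact p.Prime] (C : ChiCtx p F E K) :
    C.sysM.HasPrimeToPIndexIn F p := by
  refine ⟨fun P φ h => C.sysM_le P h, fun P hPS => ?_⟩
  rw [ppGen_eq]
  exact (Subgroup.closure_le _).mpr (C.ppSet_subset_sysM_all hPS)

end ChiCtx

end Cfsg.Agent.Lib.Helper26
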