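import Cfsg.Agent.Lib.Helper26.ChiSub10

set_option autoImplicit false

namespace Cfsg.Agent.Lib.Helper26

open Cfsg Cfsg.FusionSystem

variable {Ω : Type*} [Group Ω] {S T : Subgroup Ω}

/-- the kernel of a character of `Aut_F(T)`, as a subgroup of `Aut(T)` -/
def kerSub (F : FusionSystem S) {Δ : Type*} [Group Δ] (χ : ↥(F.autGroup T) →* Δ) :
    Subgroup (MulAut T) := χ.ker.map (F.autGroup T).subtype

theorem mem_kerSub_iff {F : FusionSystem S} {Δ : Type*} [Group Δ] {χ : ↥(F.autGroup T) →* Δ}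
    {β : MulAut T} : β ∈ kerSub F χ ↔ ∃ b : ↥(F.autGroup T), χ b = 1 ∧ (b : MulAut T) = β := by
  constructor
  · rintro ⟨b, hb, rfl⟩
    exact ⟨b, MonoidHom.mem_ker.mp hb, rfl⟩
  · rintro ⟨b, hb, rfl⟩
    exact ⟨b, MonoidHom.mem_ker.mpr hb, rfl⟩

theorem chiCtx_kerSub [Finite S] {p : ℕ} [Fact p.Prime] (hS : IsPGroup p S) (F : FusionSystem S)
    (hF : F.IsSaturated p) (E : FusionSystem T) (hE : E.IsNormalIn F p)
    {Δ : Type*} [Group Δ] [Finite Δ] (hΔ : (Nat.card Δ).Coprime p) (χ : ↥(F.autGroup T) →* Δ)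
    (hker : (E.autGroup T).subgroupOf (F.autGroup T) ≤ χ.ker) : ChiCtx p F E (kerSub F χ) := by
  obtain ⟨⟨hEs, -, hEF, hTcl, hEInv, hEdec⟩, -⟩ := hE
  refine ⟨hS, hF, hEs, hEF, hTcl, hEInv, hEdec, ?_, ?_, ?_, ?_⟩
  · rintro _ ⟨b, -, rfl⟩
    exact b.2
  · intro β hβ κ hκ
    obtain ⟨b, hb, rfl⟩ := mem_kerSub_iff.mp hκ
    refine mem_kerSub_iff.mpr ⟨⟨β, hβ⟩ * b * ⟨β, hβ⟩⁻¹, ?_, rfl⟩
    rw [map_mul, map_mul, hb, mul_one, map_inv, mul_inv_cancel]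
  · intro a ha
    have haF : a ∈ F.autGroup T := autGroup_mono_of_subsystem hEF T ha
    have h1 : (⟨a, haF⟩ : ↥(F.autGroup T)) ∈ χ.ker := hker (Subgroup.mem_subgroupOf.mpr ha)
    exact mem_kerSub_iff.mpr ⟨⟨a, haF⟩, MonoidHom.mem_ker.mp h1, rfl⟩
  · intro a ha k hk
    refine mem_kerSub_iff.mpr ⟨⟨a, ha⟩, ?_, rfl⟩
    have h1 : (χ ⟨a, ha⟩) ^ (p ^ k) = 1 := by
      rw [← map_pow]
      have : (⟨a, ha⟩ : ↥(F.autGroup T)) ^ (p ^ k) = 1 := Subtype.ext hk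
      rw [this, map_one]
    have h2 : (χ ⟨a, ha⟩) ^ (Nat.card Δ) = 1 := pow_card_eq_one'
    have h3 : orderOf (χ ⟨a, ha⟩) ∣ Nat.gcd (p ^ k) (Nat.card Δ) :=
      Nat.dvd_gcd (orderOf_dvd_of_pow_eq_one h1) (orderOf_dvd_of_pow_eq_one h2)
    have h4 : Nat.gcd (p ^ k) (Nat.card Δ) = 1 := (Nat.Coprime.pow_right k hΔ).symm
    rw [h4, Nat.dvd_one] at h3
    exact orderOf_eq_one_iff.mp h3

/-- a surjective character of `Aut_F(T)` of order prime to `p` trivial on `Aut_E(T)` gives a proper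
normal subsystem over `S` containing `E` and all `p'`-residual subsystems -/
theorem exists_normal_of_character [Finite S] (p : ℕ) [Fact p.Prime] (hS : IsPGroup p S)
    (F : FusionSystem S) (hF : F.IsSaturated p) (hTS : T ≤ S) (E : FusionSystem T)
    (hE : E.IsNormalIn F p) {Δ : Type*} [Group Δ] [Finite Δ] [Nontrivial Δ]
    (hΔ : (Nat.card Δ).Coprime p) (χ : ↥(F.autGroup T) →* Δ) (hχ : Function.Surjective χ)
    (hker : (E.autGroup T).subgroupOf (F.autGroup T) ≤ χ.ker) :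
    ∃ F₀ : FusionSystem S, F₀.IsNormalIn F p ∧ ¬ (∀ P : Subgroup Ω, F₀.Hom P = F.Hom P) ∧
      E.IsSubsystemOf F₀ ∧
      (∀ α : MulAut ↥S, α ∈ F₀.autGroup S ↔ α ∈ F.autGroup S ∧ ∃ β : ↥(F.autGroup T), χ β = 1 ∧
        ∀ t : ↥T, (((β : MulAut ↥T) t : ↥T) : Ω) = ((α ⟨(t : Ω), hTS t.2⟩ : ↥S) : Ω)) ∧
      ∀ R : FusionSystem S, F.IsPPrimeResidual p R → R.IsSubsystemOf F₀ := by
  have C := chiCtx_kerSub hS F hF E hE hΔ χ hker
  refine ⟨C.sysM, C.sysM_isNormalIn, ?_, C.le_sysM, fun α => ?_, fun R hR => ?_⟩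
  · obtain ⟨d, hd⟩ := exists_ne (1 : Δ)
    obtain ⟨b, rfl⟩ := hχ d
    refine C.sysM_ne b.2 (fun hbK => hd ?_)
    obtain ⟨b', hb', e⟩ := mem_kerSub_iff.mp hbK
    have : b' = b := Subtype.ext e
    rw [← this]
    exact hb'
  · rw [C.mem_autGroup_sysM_iff]
    constructor
    · rintro ⟨hα, β, hβ, hβt⟩
      obtain ⟨b, hb, rfl⟩ := mem_kerSub_iff.mp hβ
      exact ⟨hα, b, hb, hβt⟩
    · rintro ⟨hα, b, hb, hbt⟩
      exact ⟨hα, b, mem_kerSub_iff.mpr ⟨b, hb, rfl⟩, hbt⟩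
  · exact hR.2.2 C.sysM C.saturated_sysM C.sysM_primeIndex

end Cfsg.Agent.Lib.Helper26
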