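import Cfsg.Agent.Lib.Helper26.ChiSub1

set_option autoImplicit false

namespace Cfsg.Agent.Lib.Helper26

open Cfsg Cfsg.FusionSystem

variable {Ω : Type*} [Group Ω] {S T : Subgroup Ω}

/-- the maps of `F` all of whose restrictions to subgroups of the strongly closed subgroup `T` are maps
of the system `X` over `T` -/
def liftPred (F : FusionSystem S) (hT : F.StronglyClosed T) (X : FusionSystem T)
    (hX : ∀ g : Ω, g ∈ S → ∀ P₀ : Subgroup Ω, P₀ ≤ T → conjHom P₀ g ∈ X.Hom P₀) : GoodPred F where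
  Good P φ := ∀ (P₀ : Subgroup Ω) (h₀ : P₀ ≤ P), P₀ ≤ T → φ.comp (Subgroup.inclusion h₀) ∈ X.Hom P₀
  conj := by
    intro P g _ hg P₀ h₀ hP₀T
    exact mem_of_forall_eq X (hX g hg P₀ hP₀T) (fun x => rfl)
  comp := by
    intro P Q φ ψ _ _ hgφ hgψ h P₀ h₀ hP₀T
    have h1 := hgφ P₀ h₀ hP₀T
    have hQ₀Q : (φ.comp (Subgroup.inclusion h₀)).range ≤ Q := by
      rintro _ ⟨x, rfl⟩
      exact h _
    have hQ₀T : (φ.comp (Subgroup.inclusion h₀)).range ≤ T := range_le X h1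
    have h2 := hgψ _ hQ₀Q hQ₀T
    have h3 := X.comp_mem h1 h2 (fun x => ⟨x, rfl⟩)
    exact mem_of_forall_eq X h3 (fun x => rfl)
  inv := by
    intro P φ _ hgφ ψ hψ hψx R₀ h₀ hR₀T
    have hψ₁F : ψ.comp (Subgroup.inclusion h₀) ∈ F.Hom R₀ := restrict_mem F hψ h₀
    have hψP : ∀ y : φ.range, ψ y ∈ P := by
      rintro ⟨_, x, rfl⟩
      rw [hψx]
      exact x.2
    have hP₀P : (ψ.comp (Subgroup.inclusion h₀)).range ≤ P := by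
      rintro _ ⟨y, rfl⟩
      exact hψP _
    have hP₀T : (ψ.comp (Subgroup.inclusion h₀)).range ≤ T := by
      rintro _ ⟨y, rfl⟩
      exact hT.2 R₀ hR₀T _ hψ₁F y
    have h1 := hgφ _ hP₀P hP₀T
    have hφψ : ∀ y : R₀, φ ⟨ψ (Subgroup.inclusion h₀ y), hψP _⟩ = (y : Ω) := by
      intro y
      obtain ⟨x₀, hx₀⟩ := h₀ y.2
      have e1 : Subgroup.inclusion h₀ y = ⟨φ x₀, ⟨x₀, rfl⟩⟩ := Subtype.ext hx₀.symm
      have e2 : ψ (Subgroup.inclusion h₀ y) = x₀ := by rw [e1, hψx]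
      have e3 : (⟨ψ (Subgroup.inclusion h₀ y), hψP _⟩ : P) = x₀ := Subtype.ext e2
      rw [e3, hx₀]
    have hr : (φ.comp (Subgroup.inclusion hP₀P)).range = R₀ := by
      ext z
      constructor
      · rintro ⟨⟨_, y, rfl⟩, rfl⟩
        have := hφψ y
        show φ ⟨ψ (Subgroup.inclusion h₀ y), _⟩ ∈ R₀
        rw [this]
        exact y.2
      · intro hz
        exact ⟨⟨_, ⟨⟨z, hz⟩, rfl⟩⟩, hφψ ⟨z, hz⟩⟩
    obtain ⟨ι, hι, -, hι1, -⟩ := exists_inv X h1 hr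
    refine mem_of_forall_eq X hι (fun y => ?_)
    have h2 := hι1 ⟨_, ⟨y, rfl⟩⟩ (by
      show φ ⟨ψ (Subgroup.inclusion h₀ y), _⟩ ∈ R₀
      rw [hφψ y]; exact y.2)
    have h3 : ι y = ι ⟨(φ.comp (Subgroup.inclusion hP₀P)) ⟨_, ⟨y, rfl⟩⟩, by
        show φ ⟨ψ (Subgroup.inclusion h₀ y), _⟩ ∈ R₀
        rw [hφψ y]; exact y.2⟩ := by
      congr 1
      exact Subtype.ext (hφψ y).symm
    rw [h3, h2]

namespace ChiCtx

variable {p : ℕ} {F : FusionSystem S} {E : FusionSystem T} {K : Subgroup (MulAut T)}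

theorem conjHom_mem_sysD [Finite S] [Fact p.Prime] (C : ChiCtx p F E K) (g : Ω) (hg : g ∈ S)
    (P₀ : Subgroup Ω) (hP₀T : P₀ ≤ T) : conjHom P₀ g ∈ C.sysD.Hom P₀ := by
  have hgN : g ∈ Subgroup.normalizer (T : Set Ω) := le_normalizer_of_stronglyClosed F C.hT hg
  exact mem_of_forall_eq _ (C.autRes_mem_sysD (C.conjAut_mem hg hgN) hP₀T) (fun x => rfl)

/-- the subsystem of `F` of maps whose restrictions to subgroups of `T` lie in `K · E` -/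
def sysL [Finite S] [Fact p.Prime] (C : ChiCtx p F E K) : FusionSystem S :=
  (liftPred F C.hT C.sysD C.conjHom_mem_sysD).system

theorem mem_sysL_iff [Finite S] [Fact p.Prime] (C : ChiCtx p F E K) {P : Subgroup Ω} {φ : P →* Ω} :
    φ ∈ C.sysL.Hom P ↔ φ ∈ F.Hom P ∧ ∀ (P₀ : Subgroup Ω) (h₀ : P₀ ≤ P), P₀ ≤ T →
      φ.comp (Subgroup.inclusion h₀) ∈ C.sysD.Hom P₀ := Iff.rfl

theorem sysL_le [Finite S] [Fact p.Prime] (C : ChiCtx p F E K) : C.sysL ≤ F := fun _ _ h => h.1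

/-- the lifted system is invariant under `Aut_F(S)` -/
theorem invCond_sysL [Finite S] [Fact p.Prime] (C : ChiCtx p F E K) : InvCond F C.sysL := by
  intro P hPS φ hφ α hα
  have hTS : T ≤ S := C.hT.1
  obtain ⟨χ, hχ, hχx⟩ := hom_conj_aut F le_rfl hPS hφ.1 (fun x => apply_mem F hφ.1 x) hα
  refine ⟨χ, ⟨hχ, ?_⟩, hχx⟩
  intro U h₀ hUT
  obtain ⟨β, hβ, hβt⟩ := exists_restrict_aut F C.hT le_rfl hTS hα
  have hU₀T : imgA β⁻¹ U ≤ T := imgA_le _ _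
  have hβinv : ∀ t : T, ((β⁻¹ t : T) : Ω) = ((α⁻¹ ⟨t, hTS t.2⟩ : S) : Ω) := by
    intro t
    have h1 := hβt (β⁻¹ t)
    rw [MulAut.apply_inv_self] at h1
    have h2 : (⟨t, hTS t.2⟩ : S) = α ⟨((β⁻¹ t : T) : Ω), hTS (β⁻¹ t).2⟩ := Subtype.ext h1
    rw [h2, MulAut.inv_apply_self]
  have hU₀P : imgA β⁻¹ U ≤ P := by
    intro y hy
    obtain ⟨u, hu, rfl⟩ := mem_imgA.mp hy
    obtain ⟨x, hx⟩ := (mem_autMap hPS).mp (h₀ hu)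
    rw [hβinv u]
    have : (⟨(u : Ω), hTS u.2⟩ : S) = α ⟨x, hPS x.2⟩ := Subtype.ext hx.symm
    rw [this, MulAut.inv_apply_self]
    exact x.2
  have h1 := hφ.2 _ hU₀P hU₀T
  obtain ⟨χ₀, hχ₀, hχ₀x⟩ := C.invCond_sysD _ hU₀T _ h1 β hβ
  have hEq : imgA β (imgA β⁻¹ U) = U := by
    ext z
    rw [mem_imgA]
    constructor
    · rintro ⟨y, hy, rfl⟩
      obtain ⟨u, hu, hyu⟩ := mem_imgA.mp hy
      have : y = β⁻¹ u := Subtype.ext hyu.symm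
      rw [this, MulAut.apply_inv_self]
      exact hu
    · intro hz
      exact ⟨β⁻¹ ⟨z, hUT hz⟩, apply_mem_imgA β⁻¹ hz (hUT hz), by rw [MulAut.apply_inv_self]⟩
  obtain ⟨χ₀', hχ₀', e'⟩ := hom_cast_eq C.sysD hEq hχ₀
  refine mem_of_forall_eq _ hχ₀' (fun u => ?_)
  have hx₀ : ((β⁻¹ ⟨u, hUT u.2⟩ : T) : Ω) ∈ imgA β⁻¹ U := apply_mem_imgA β⁻¹ u.2 (hUT u.2)
  have hφT : ∀ x : ↥(imgA β⁻¹ U), (φ.comp (Subgroup.inclusion hU₀P)) x ∈ T :=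
    (C.sysD.le_of_mem h1).2
  have hu1 : ((β ⟨((β⁻¹ ⟨u, hUT u.2⟩ : T) : Ω), hU₀T hx₀⟩ : T) : Ω) = u := by
    show ((β (β⁻¹ ⟨u, hUT u.2⟩) : T) : Ω) = u
    rw [MulAut.apply_inv_self]
  have hmem : ((β ⟨((β⁻¹ ⟨u, hUT u.2⟩ : T) : Ω), hU₀T hx₀⟩ : T) : Ω) ∈ imgA β (imgA β⁻¹ U) := by
    rw [hu1, hEq]
    exact u.2
  have h2 := hχ₀x ⟨_, hx₀⟩ (hφT _) hmem
  have h3 := e' (u : Ω) (hEq.ge u.2) u.2
  have h4 : χ₀ ⟨(u : Ω), hEq.ge u.2⟩ =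
      χ₀ ⟨((β ⟨((β⁻¹ ⟨u, hUT u.2⟩ : T) : Ω), hU₀T hx₀⟩ : T) : Ω), hmem⟩ :=
    hom_congr_val χ₀ _ _ hu1.symm
  have hxP : ((β⁻¹ ⟨u, hUT u.2⟩ : T) : Ω) ∈ P := hU₀P hx₀
  have h5 : ((α ⟨((β⁻¹ ⟨u, hUT u.2⟩ : T) : Ω), hPS hxP⟩ : S) : Ω) = u := by
    rw [← hβt]
    exact hu1
  have h6 := hχx ⟨_, hxP⟩ (apply_mem F hφ.1 _) (by rw [h5]; exact h₀ u.2)
  have h7 : (χ.comp (Subgroup.inclusion h₀)) u =
      χ ⟨((α ⟨((β⁻¹ ⟨u, hUT u.2⟩ : T) : Ω), hPS hxP⟩ : S) : Ω), by rw [h5]; exact h₀ u.2⟩ :=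
    hom_congr_val χ _ _ h5.symm
  exact h7.trans (h6.trans ((hβt ⟨_, hφT ⟨_, hx₀⟩⟩).symm.trans (h2.symm.trans (h4.symm.trans h3.symm))))

end ChiCtx

end Cfsg.Agent.Lib.Helper26
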