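import Cfsg.Agent.Lib.Helper26.ChiSub2

set_option autoImplicit false

namespace Cfsg.Agent.Lib.Helper26

open Cfsg Cfsg.FusionSystem

variable {Ω : Type*} [Group Ω] {S T : Subgroup Ω}

/-- the image of `P ∩ T` under a map of `F` with source `P` is the intersection of the image with `T`,
for `T` strongly closed -/
theorem range_restrict_inf (F : FusionSystem S) (hT : F.StronglyClosed T) {P : Subgroup Ω}
    {φ : P →* Ω} (hφ : φ ∈ F.Hom P) :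
    (φ.comp (Subgroup.inclusion (inf_le_left : P ⊓ T ≤ P))).range = φ.range ⊓ T := by
  ext z
  constructor
  · rintro ⟨x, rfl⟩
    exact ⟨⟨_, rfl⟩, hT.2 (P ⊓ T) inf_le_right _ (restrict_mem F hφ inf_le_left) x⟩
  · rintro ⟨⟨x, rfl⟩, hzT⟩
    obtain ⟨ψ, hψ, hψx⟩ := F.inv_mem hφ
    have h1 := hT.2 (φ.range ⊓ T) inf_le_right _ (restrict_mem F hψ inf_le_left) ⟨φ x, ⟨⟨x, rfl⟩, hzT⟩⟩
    have h2 : (ψ.comp (Subgroup.inclusion (inf_le_left : φ.range ⊓ T ≤ φ.range)))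
        ⟨φ x, ⟨⟨x, rfl⟩, hzT⟩⟩ = x := hψx x
    rw [h2] at h1
    exact ⟨⟨x, ⟨x.2, h1⟩⟩, rfl⟩

/-- conjugate subgroups have conjugate intersections with a strongly closed subgroup -/
theorem isConj_inf (F : FusionSystem S) (hT : F.StronglyClosed T) {P Q : Subgroup Ω}
    (h : F.IsConj P Q) : F.IsConj (P ⊓ T) (Q ⊓ T) := by
  obtain ⟨φ, hφ, rfl⟩ := h
  exact ⟨_, restrict_mem F hφ inf_le_left, range_restrict_inf F hT hφ⟩

/-- restriction of an automorphism in `F` to the intersection with a strongly closed subgroup -/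
theorem exists_restrict_inf [Finite S] (F : FusionSystem S) (hT : F.StronglyClosed T) {P : Subgroup Ω}
    (hPS : P ≤ S) {a : MulAut P} (ha : a ∈ F.autGroup P) :
    ∃ a₁ ∈ F.autGroup (P ⊓ T), ∀ x : ↥(P ⊓ T), ((a₁ x : ↥(P ⊓ T)) : Ω) = ((a ⟨x, x.2.1⟩ : P) : Ω) := by
  have hφ : (P.subtype.comp a.toMonoidHom).comp (Subgroup.inclusion (inf_le_left : P ⊓ T ≤ P)) ∈
      F.Hom (P ⊓ T) := restrict_mem F ((mem_autGroup_iff F hPS).mp ha) inf_le_left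
  have hmem : ∀ x : ↥(P ⊓ T),
      ((P.subtype.comp a.toMonoidHom).comp (Subgroup.inclusion (inf_le_left : P ⊓ T ≤ P))) x ∈ P ⊓ T :=
    fun x => ⟨(a _).2, hT.2 (P ⊓ T) inf_le_right _ hφ x⟩
  have hr := range_eq_of_apply_mem F hφ hmem
  obtain ⟨e, he, hex⟩ := exists_iso_of_hom F hφ hr
  exact ⟨e, (isIso_iff_mem_autGroup F (inf_le_left.trans hPS) e).mp he, fun x => hex x⟩

/-- all `F`-conjugates of `Q` contain their centralizers in `T` -/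
def TCen (F : FusionSystem S) (T Q : Subgroup Ω) : Prop :=
  ∀ Q₁ : Subgroup Ω, F.IsConj Q Q₁ → centralizerIn T Q₁ ≤ Q₁

theorem TCen.of_isConj {F : FusionSystem S} {Q Q' : Subgroup Ω} (h : TCen F T Q)
    (hQ : F.IsConj Q Q') : TCen F T Q' := fun Q₁ h₁ => h Q₁ (isConj_trans F hQ h₁)

theorem TCen.of_le {F : FusionSystem S} {Q Q' : Subgroup Ω} (h : TCen F T Q) (hQ : Q ≤ Q') :
    TCen F T Q' := centralizerIn_le_of_le F h hQ

theorem TCen.isCentric {F : FusionSystem S} {E : FusionSystem T} (hEF : E.IsSubsystemOf F)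
    {Q : Subgroup Ω} (hQT : Q ≤ T) (h : TCen F T Q) : E.IsCentric Q :=
  ⟨hQT, fun Q₁ ⟨φ, hφ, hr⟩ => h Q₁ ⟨φ, hEF Q hφ, hr⟩⟩

/-- the family of `F`-centric subgroups `P` with `P ∩ T` containing its centralizers in `T` up to
`F`-conjugacy -/
def famH (F : FusionSystem S) (T : Subgroup Ω) : Set (Subgroup Ω) :=
  {P | F.IsCentric P ∧ TCen F T (P ⊓ T)}

theorem famH_of_isConj (F : FusionSystem S) (hT : F.StronglyClosed T) {P Q : Subgroup Ω}
    (hP : P ∈ famH F T) (h : F.IsConj P Q) : Q ∈ famH F T :=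
  ⟨isCentric_of_isConj F hP.1 h, hP.2.of_isConj (isConj_inf F hT h)⟩

theorem famH_of_le (F : FusionSystem S) {P Q : Subgroup Ω} (hP : P ∈ famH F T) (hPQ : P ≤ Q)
    (hQS : Q ≤ S) : Q ∈ famH F T :=
  ⟨Cfsg.Agent.Lib.Helper27.isCentric_of_le F hP.1 hPQ hQS, hP.2.of_le (inf_le_inf_right T hPQ)⟩

theorem top_mem_famH [Finite S] (F : FusionSystem S) (hT : F.StronglyClosed T) : S ∈ famH F T := by
  refine ⟨isCentric_top F, ?_⟩
  rintro Q₁ ⟨φ, hφ, rfl⟩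
  have hr : φ.range = S ⊓ T := by
    have hmem : ∀ x : ↥(S ⊓ T), φ x ∈ S ⊓ T :=
      fun x => ⟨apply_mem F hφ x, hT.2 (S ⊓ T) inf_le_right φ hφ x⟩
    exact range_eq_of_apply_mem F hφ hmem
  rw [hr]
  rintro c ⟨hcT, -⟩
  exact ⟨hT.1 hcT, hcT⟩

namespace ChiCtx

variable {p : ℕ} {F : FusionSystem S} {E : FusionSystem T} {K : Subgroup (MulAut T)}

/-- the lifted system contains the `p`-elements of all automizers of `F` -/
theorem ppSet_subset_sysL [Finite S] [Fact p.Prime] (C : ChiCtx p F E K) {P : Subgroup Ω}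
    (hPS : P ≤ S) : ppSet F p P ⊆ C.sysL.autGroup P := by
  have hp : p.Prime := Fact.out
  rintro a ⟨ha, k, hk⟩
  obtain ⟨a₁, ha₁, ha₁x⟩ := exists_restrict_inf F C.hT hPS ha
  have hpow : a₁ ^ (p ^ k) = 1 := by
    ext x
    have h1 := aut_pow_restrict (inf_le_left : P ⊓ T ≤ P) a a₁ (fun x => (ha₁x x).symm) (p ^ k) x
    have hak : a ^ (p ^ k) = 1 := by rw [← hk, pow_orderOf_eq_one]
    rw [hak] at h1
    exact h1.symm
  obtain ⟨j, -, hj⟩ := (Nat.dvd_prime_pow hp).mp (orderOf_dvd_of_pow_eq_one hpow)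
  have h2 : a₁ ∈ C.sysD.autGroup (P ⊓ T) := C.ppSet_subset_sysD inf_le_right ⟨ha₁, j, hj⟩
  rw [mem_autGroup_iff _ inf_le_right] at h2
  rw [SetLike.mem_coe, mem_autGroup_iff _ hPS]
  refine ⟨(mem_autGroup_iff F hPS).mp ha, fun U h₀ hUT => ?_⟩
  refine mem_of_forall_eq _ (restrict_mem _ h2 (le_inf h₀ hUT)) (fun x => ?_)
  exact (ha₁x ⟨x, ⟨h₀ x.2, hUT x.2⟩⟩).symm

/-- the automorphisms of `S` in the lifted system -/
theorem mem_autGroup_sysL_iff [Finite S] [Fact p.Prime] (C : ChiCtx p F E K) {α : MulAut S} :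
    α ∈ C.sysL.autGroup S ↔ α ∈ F.autGroup S ∧
      ∃ β ∈ K, ∀ t : T, ((β t : T) : Ω) = ((α ⟨t, C.hT.1 t.2⟩ : S) : Ω) := by
  rw [mem_autGroup_iff _ le_rfl, mem_autGroup_iff F le_rfl]
  constructor
  · rintro ⟨hαF, hα⟩
    obtain ⟨β, hβ, hβt⟩ := C.exists_mem_of_mem_sysD_top (hα T C.hT.1 le_rfl)
    exact ⟨hαF, β, hβ, fun t => hβt t⟩
  · rintro ⟨hαF, β, hβ, hβt⟩
    refine ⟨hαF, fun U h₀ hUT => ?_⟩
    refine mem_of_forall_eq _ (C.autRes_mem_sysD hβ hUT) (fun x => ?_)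
    exact (hβt ⟨x, hUT x.2⟩).symm

/-- a map of `F` whose restriction to a subgroup `R` of the family lies in the lifted system
lies in the lifted system -/
theorem mem_sysL_of_restrict [Finite S] [Fact p.Prime] (C : ChiCtx p F E K) {N R : Subgroup Ω}
    (hRN : R ≤ N) (hR : TCen F T (R ⊓ T)) {ψ : N →* Ω} (hψ : ψ ∈ F.Hom N)
    (hres : ψ.comp (Subgroup.inclusion hRN) ∈ C.sysL.Hom R) : ψ ∈ C.sysL.Hom N := by
  have hTS : T ≤ S := C.hT.1
  have hVT : N ⊓ T ≤ T := inf_le_right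
  have hUV : R ⊓ T ≤ N ⊓ T := inf_le_inf_right T hRN
  have hψV : ψ.comp (Subgroup.inclusion (inf_le_left : N ⊓ T ≤ N)) ∈ F.Hom (N ⊓ T) :=
    restrict_mem F hψ inf_le_left
  obtain ⟨β, hβ, ε, hε, e⟩ := C.hdec _ hVT _ hψV
  have hεT : ∀ x, ε x ∈ T := (E.le_of_mem hε).2
  obtain ⟨-, κ, hκ, ε', hε', e'⟩ := hres.2 (R ⊓ T) inf_le_left inf_le_right
  have hε'T : ∀ x, ε' x ∈ T := (E.le_of_mem hε').2
  -- the `E`-conjugate `U₁ = ε(R ∩ T)`
  have hεU : ε.comp (Subgroup.inclusion hUV) ∈ E.Hom (R ⊓ T) := restrict_mem E hε hUV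
  have hU₁c : E.IsCentric (ε.comp (Subgroup.inclusion hUV)).range := by
    have h1 : TCen F T (ε.comp (Subgroup.inclusion hUV)).range :=
      hR.of_isConj ⟨_, C.hEF _ hεU, rfl⟩
    exact h1.isCentric C.hEF (range_le E hεU)
  obtain ⟨ι, hι, -, hι1, -⟩ := exists_inv E hεU rfl
  have hιU : ∀ z : (ε.comp (Subgroup.inclusion hUV)).range, ι z ∈ R ⊓ T := by
    rintro ⟨_, x, rfl⟩
    rw [hι1 x ⟨x, rfl⟩]
    exact x.2
  have hcomp := E.comp_mem hι hε' hιU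
  have hδ : κ⁻¹ * β ∈ F.autGroup T :=
    Subgroup.mul_mem _ (Subgroup.inv_mem _ (C.hKF hκ)) hβ
  have hδres : autRes (κ⁻¹ * β) hU₁c.1 ∈ E.Hom (ε.comp (Subgroup.inclusion hUV)).range := by
    refine mem_of_forall_eq E hcomp ?_
    rintro ⟨_, x, rfl⟩
    have e1 : (ι.codRestrict (R ⊓ T) hιU) ⟨(ε.comp (Subgroup.inclusion hUV)) x, ⟨x, rfl⟩⟩ = x :=
      Subtype.ext (hι1 x ⟨x, rfl⟩)
    show (((κ⁻¹ * β) ⟨ε (Subgroup.inclusion hUV x), _⟩ : T) : Ω) =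
      ε' ((ι.codRestrict (R ⊓ T) hιU) ⟨(ε.comp (Subgroup.inclusion hUV)) x, ⟨x, rfl⟩⟩)
    rw [e1, MulAut.mul_apply]
    have e2 : β ⟨ε (Subgroup.inclusion hUV x), hεT _⟩ = κ ⟨ε' x, hε'T x⟩ := by
      apply Subtype.ext
      rw [← e (Subgroup.inclusion hUV x) (hεT _), ← e' x (hε'T x)]
      rfl
    rw [e2, MulAut.inv_apply_self]
  have hδK : κ⁻¹ * β ∈ K := C.mem_of_autRes_mem hδ hU₁c hδres
  have hβK : β ∈ K := by
    have : β = κ * (κ⁻¹ * β) := by group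
    rw [this]
    exact K.mul_mem hκ hδK
  refine ⟨hψ, fun U h₀ hUT => ?_⟩
  have hUV' : U ≤ N ⊓ T := le_inf h₀ hUT
  refine ⟨⟨restrict_mem F hψ h₀, hUT, fun x => C.hT.2 U hUT _ (restrict_mem F hψ h₀) x⟩,
    β, hβK, ε.comp (Subgroup.inclusion hUV'), restrict_mem E hε hUV', fun x hx => ?_⟩
  exact e (Subgroup.inclusion hUV' x) hx

end ChiCtx

end Cfsg.Agent.Lib.Helper26
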