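import Cfsg.Agent.Lib.Helper26.ChiSub3

set_option autoImplicit false

namespace Cfsg.Agent.Lib.Helper26

open Cfsg Cfsg.FusionSystem

variable {Ω : Type*} [Group Ω] {S T : Subgroup Ω}

/-- the subsystem of `D` generated by its maps with source in the family `ℋ` -/
def hullOn (D : FusionSystem S) (ℋ : Set (Subgroup Ω)) : FusionSystem S where
  Hom P := {φ | φ ∈ D.Hom P ∧ ∀ X : FusionSystem S, (∀ R ∈ ℋ, D.Hom R ⊆ X.Hom R) → φ ∈ X.Hom P}
  le_of_mem h := D.le_of_mem h.1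
  injective_of_mem h := D.injective_of_mem h.1
  conj_mem hP hg := ⟨D.conj_mem hP hg, fun X _ => X.conj_mem hP hg⟩
  comp_mem h1 h2 h := ⟨D.comp_mem h1.1 h2.1 h, fun X hX => X.comp_mem (h1.2 X hX) (h2.2 X hX) h⟩
  inv_mem := by
    intro P φ h
    obtain ⟨ψ, hψ, hψx⟩ := D.inv_mem h.1
    refine ⟨ψ, ⟨hψ, fun X hX => ?_⟩, hψx⟩
    obtain ⟨ψ', hψ', hψ'x⟩ := X.inv_mem (h.2 X hX)
    refine mem_of_forall_eq X hψ' ?_
    rintro ⟨_, x, rfl⟩
    rw [hψx, hψ'x]

theorem hullOn_le (D : FusionSystem S) (ℋ : Set (Subgroup Ω)) : hullOn D ℋ ≤ D := fun _ _ h => h.1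

theorem hullOn_le_of (D : FusionSystem S) (ℋ : Set (Subgroup Ω)) {X : FusionSystem S}
    (hX : ∀ R ∈ ℋ, D.Hom R ⊆ X.Hom R) : hullOn D ℋ ≤ X := fun _ _ h => h.2 X hX

theorem mem_hullOn_of_mem (D : FusionSystem S) {ℋ : Set (Subgroup Ω)} {R : Subgroup Ω} (hR : R ∈ ℋ)
    {φ : R →* Ω} (hφ : φ ∈ D.Hom R) : φ ∈ (hullOn D ℋ).Hom R := ⟨hφ, fun _ hX => hX R hR hφ⟩

namespace ChiCtx

variable {p : ℕ} {F : FusionSystem S} {E : FusionSystem T} {K : Subgroup (MulAut T)}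

/-- the candidate for the normal subsystem: the `Aut_F(S)`-invariant part of the subsystem of the
lifted system generated by its maps between subgroups of the family -/
def sysM [Finite S] [Fact p.Prime] (C : ChiCtx p F E K) : FusionSystem S :=
  invSystem F (hullOn C.sysL (famH F T))

theorem sysM_le [Finite S] [Fact p.Prime] (C : ChiCtx p F E K) : C.sysM ≤ F := invSystem_le F _

theorem sysM_le_sysL [Finite S] [Fact p.Prime] (C : ChiCtx p F E K) : C.sysM ≤ C.sysL :=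
  fun P φ h => hullOn_le _ _ P (invSystem_le' F _ P h)

theorem invCond_sysM [Finite S] [Fact p.Prime] (C : ChiCtx p F E K) : InvCond F C.sysM :=
  invSystem_invCond F _

theorem mem_sysM_of_mem [Finite S] [Fact p.Prime] (C : ChiCtx p F E K) {R : Subgroup Ω}
    (hR : R ∈ famH F T) {φ : R →* Ω} (hφ : φ ∈ C.sysL.Hom R) : φ ∈ C.sysM.Hom R := by
  have hRS : R ≤ S := hR.1.1
  refine ⟨hφ.1, fun α hα => ?_⟩
  obtain ⟨χ, hχ, hχx⟩ := C.invCond_sysL R hRS φ hφ α hα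
  obtain ⟨e, he, -⟩ := exists_iso_autMap F hα hRS
  have hR' : autMap α R ∈ famH F T := famH_of_isConj F C.hT hR he.isConj
  exact ⟨hRS, fun x => apply_mem F hφ.1 x, χ, mem_hullOn_of_mem _ hR' hχ,
    fun x hαx => hχx x _ hαx⟩

theorem sysM_le_of [Finite S] [Fact p.Prime] (C : ChiCtx p F E K) {X : FusionSystem S}
    (hX : ∀ R ∈ famH F T, C.sysM.Hom R ⊆ X.Hom R) : C.sysM ≤ X := by
  intro P φ hφ
  refine hullOn_le_of _ _ (fun R hR ψ hψ => hX R hR (C.mem_sysM_of_mem hR hψ)) P ?_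
  exact invSystem_le' F _ P hφ

/-- the automorphisms of `S` in the candidate subsystem -/
theorem mem_autGroup_sysM_iff [Finite S] [Fact p.Prime] (C : ChiCtx p F E K) {α : MulAut S} :
    α ∈ C.sysM.autGroup S ↔ α ∈ F.autGroup S ∧
      ∃ β ∈ K, ∀ t : T, ((β t : T) : Ω) = ((α ⟨t, C.hT.1 t.2⟩ : S) : Ω) := by
  rw [← C.mem_autGroup_sysL_iff, mem_autGroup_iff _ le_rfl, mem_autGroup_iff _ le_rfl]
  exact ⟨fun h => C.sysM_le_sysL S h, fun h => C.mem_sysM_of_mem (top_mem_famH F C.hT) h⟩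

/-- the candidate subsystem contains the `p`-elements of the automizers of the subgroups in the family -/
theorem ppSet_subset_sysM [Finite S] [Fact p.Prime] (C : ChiCtx p F E K) {P : Subgroup Ω}
    (hP : P ∈ famH F T) : ppSet F p P ⊆ C.sysM.autGroup P := by
  intro a ha
  have h1 := C.ppSet_subset_sysL hP.1.1 ha
  rw [SetLike.mem_coe, mem_autGroup_iff _ hP.1.1] at h1 ⊢
  exact C.mem_sysM_of_mem hP h1

end ChiCtx

end Cfsg.Agent.Lib.Helper26
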