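import Cfsg.Agent.Lib.Helper26.ChiSub4

set_option autoImplicit false

namespace Cfsg.Agent.Lib.Helper26

open Cfsg Cfsg.FusionSystem

variable {Ω : Type*} [Group Ω] {S T : Subgroup Ω}

/-- the automorphisms of `P` in `X` centralizing `P ∩ T` and `P / (P ∩ T)` -/
def chainW (X : FusionSystem S) (T P : Subgroup Ω) : Subgroup (MulAut P) where
  carrier := {β | β ∈ X.autGroup P ∧ (∀ q : P, (q : Ω) ∈ T → β q = q) ∧
    ∀ q : P, (q : Ω)⁻¹ * ((β q : P) : Ω) ∈ T}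
  one_mem' := ⟨Subgroup.one_mem _, fun _ _ => rfl, fun q => by simp [T.one_mem]⟩
  mul_mem' := by
    rintro β β' ⟨h1, h2, h3⟩ ⟨h1', h2', h3'⟩
    refine ⟨Subgroup.mul_mem _ h1 h1', fun q hq => ?_, fun q => ?_⟩
    · rw [MulAut.mul_apply, h2' q hq, h2 q hq]
    · have e : (q : Ω)⁻¹ * (((β * β') q : P) : Ω) =
          ((q : Ω)⁻¹ * ((β' q : P) : Ω)) * (((β' q : P) : Ω)⁻¹ * ((β (β' q) : P) : Ω)) := by
        rw [MulAut.mul_apply]
        group
      rw [e]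
      exact T.mul_mem (h3' q) (h3 (β' q))
  inv_mem' := by
    rintro β ⟨h1, h2, h3⟩
    refine ⟨Subgroup.inv_mem _ h1, fun q hq => ?_, fun q => ?_⟩
    · have h := h2 q hq
      calc β⁻¹ q = β⁻¹ (β q) := by rw [h]
        _ = q := MulAut.inv_apply_self _ _ _
    · have h := h3 (β⁻¹ q)
      rw [MulAut.apply_inv_self] at h
      have e : (q : Ω)⁻¹ * ((β⁻¹ q : P) : Ω) = (((β⁻¹ q : P) : Ω)⁻¹ * (q : Ω))⁻¹ := by group
      rw [e]
      exact T.inv_mem h

theorem mem_chainW_iff {X : FusionSystem S} {P : Subgroup Ω} {β : MulAut P} :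
    β ∈ chainW X T P ↔ β ∈ X.autGroup P ∧ (∀ q : P, (q : Ω) ∈ T → β q = q) ∧
      ∀ q : P, (q : Ω)⁻¹ * ((β q : P) : Ω) ∈ T := Iff.rfl

theorem chainW_le (X : FusionSystem S) (T P : Subgroup Ω) : chainW X T P ≤ X.autGroup P :=
  fun _ h => h.1

theorem aut_apply_mem_of_stronglyClosed (X : FusionSystem S) (hT : X.StronglyClosed T)
    {P : Subgroup Ω} (hPS : P ≤ S) {a : MulAut P} (ha : a ∈ X.autGroup P) (q : P)
    (hq : (q : Ω) ∈ T) : ((a q : P) : Ω) ∈ T :=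
  apply_mem_of_stronglyClosed X hT ((mem_autGroup_iff X hPS).mp ha) q hq

/-- `chainW` is normalized by `Aut_X(P)` -/
theorem conj_mem_chainW (X : FusionSystem S) (hT : X.StronglyClosed T) {P : Subgroup Ω}
    (hPS : P ≤ S) {α β : MulAut P} (hα : α ∈ X.autGroup P) (hβ : β ∈ chainW X T P) :
    α * β * α⁻¹ ∈ chainW X T P := by
  obtain ⟨h1, h2, h3⟩ := hβ
  have hαi : α⁻¹ ∈ X.autGroup P := Subgroup.inv_mem _ hα
  refine ⟨Subgroup.mul_mem _ (Subgroup.mul_mem _ hα h1) hαi, fun q hq => ?_, fun q => ?_⟩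
  · rw [MulAut.mul_apply, MulAut.mul_apply,
      h2 (α⁻¹ q) (aut_apply_mem_of_stronglyClosed X hT hPS hαi q hq), MulAut.apply_inv_self]
  · have h4 : ((((α⁻¹ q)⁻¹ * β (α⁻¹ q) : P)) : Ω) ∈ T := h3 (α⁻¹ q)
    have h5 := aut_apply_mem_of_stronglyClosed X hT hPS hα _ h4
    have e : α ((α⁻¹ q)⁻¹ * β (α⁻¹ q)) = q⁻¹ * (α * β * α⁻¹) q := by
      rw [map_mul, map_inv, MulAut.apply_inv_self, MulAut.mul_apply, MulAut.mul_apply]
    rw [e] at h5
    exact h5

/-- `chainW` is a `p`-group -/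
theorem chainW_isPGroup [Finite S] {p : ℕ} [Fact p.Prime] (hS : IsPGroup p S) (X : FusionSystem S)
    (hTS : T ≤ S) (P : Subgroup Ω) : IsPGroup p (chainW X T P) := by
  obtain ⟨a, ha⟩ := hS.exists_card_eq
  rintro ⟨β, hβ1, hβ2, hβ3⟩
  refine ⟨a, Subtype.ext ?_⟩
  show β ^ (p ^ a) = 1
  rw [← ha]
  refine pow_eq_one_of_stabilizes T β hβ2 hβ3 (fun z hz => ?_)
  have : (⟨z, hTS hz⟩ : S) ^ Nat.card S = 1 := pow_card_eq_one'
  exact congrArg Subtype.val this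

/-- `chainW` lies in `Aut_S(P)` for `P` fully normalized in the saturated system `F` -/
theorem chainW_le_autInducedBy [Finite S] {p : ℕ} [Fact p.Prime] (hS : IsPGroup p S)
    (F : FusionSystem S) (hF : F.IsSaturated p) (hT : F.StronglyClosed T) {P : Subgroup Ω}
    (hPn : F.IsFullyNormalized P) : chainW F T P ≤ autInducedBy S P := by
  have hPS : P ≤ S := hPn.1
  haveI : Finite P := finite_of_le hPS
  obtain ⟨-, hfa, -⟩ := saturated_fullyNormalized hS F hF hPn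
  have hsyl := isSylowIn18_of_fullyAutomized F hfa
  refine le_of_isSylowIn_of_normal hsyl (chainW_le F T P) (chainW_isPGroup hS F hT.1 P) ?_
  intro a ha l hl
  have := conj_mem_chainW F hT hPS (Subgroup.inv_mem _ ha) hl
  rwa [inv_inv] at this

/-- conjugation by an element of `T` normalizing `P` and centralizing `P ∩ T` lies in `chainW` -/
theorem conjAut_mem_chainW (X : FusionSystem S) (hT : X.StronglyClosed T) {P : Subgroup Ω}
    (hPS : P ≤ S) {c : Ω} (hcT : c ∈ T) (hcN : c ∈ Subgroup.normalizer (P : Set Ω))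
    (hcC : ∀ x ∈ P ⊓ T, c * x = x * c) : conjAut P c hcN ∈ chainW X T P := by
  refine ⟨autInducedBy_le_autGroup X hPS (conjAut_mem_autInducedBy (hT.1 hcT) hcN),
    fun q hq => ?_, fun q => ?_⟩
  · apply Subtype.ext
    rw [conjAut_apply, hcC q ⟨q.2, hq⟩]
    group
  · rw [conjAut_apply]
    have h1 : (q : Ω)⁻¹ * c * (q : Ω) ∈ T := by
      have := conj_mem_of_stronglyClosed X hT (S.inv_mem (hPS q.2)) hcT
      rwa [inv_inv] at this
    have e : (q : Ω)⁻¹ * (c * (q : Ω) * c⁻¹) = ((q : Ω)⁻¹ * c * (q : Ω)) * c⁻¹ := by group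
    rw [e]
    exact T.mul_mem h1 (T.inv_mem hcT)

end Cfsg.Agent.Lib.Helper26
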