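import Cfsg.Agent.Lib.Helper26.ChiSub5

set_option autoImplicit false

namespace Cfsg.Agent.Lib.Helper26

open Cfsg Cfsg.FusionSystem

variable {Ω : Type*} [Group Ω] {S T : Subgroup Ω}

theorem mem_normalizer_inf {P Q : Subgroup Ω} {x : Ω} (hP : x ∈ Subgroup.normalizer (P : Set Ω))
    (hQ : x ∈ Subgroup.normalizer (Q : Set Ω)) : x ∈ Subgroup.normalizer ((P ⊓ Q : Subgroup Ω) : Set Ω) := by
  refine mem_normalizer_of_forall (fun y hy => ?_) (fun y hy => ?_)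
  · exact ⟨conj_mem_of_mem_normalizer hP ⟨y, hy.1⟩, conj_mem_of_mem_normalizer hQ ⟨y, hy.2⟩⟩
  · exact ⟨conj_inv_mem_of_mem_normalizer hP ⟨y, hy.1⟩, conj_inv_mem_of_mem_normalizer hQ ⟨y, hy.2⟩⟩

theorem conj_mem_centralizer_of_mem_normalizer {Q : Subgroup Ω} {x c : Ω}
    (hx : x ∈ Subgroup.normalizer (Q : Set Ω)) (hc : c ∈ Subgroup.centralizer (Q : Set Ω)) :
    x * c * x⁻¹ ∈ Subgroup.centralizer (Q : Set Ω) := by
  rw [Subgroup.mem_centralizer_iff]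
  intro h hh
  have h1 : x⁻¹ * h * x ∈ Q := conj_inv_mem_of_mem_normalizer hx ⟨h, hh⟩
  have h2 : (x⁻¹ * h * x) * c = c * (x⁻¹ * h * x) := (Subgroup.mem_centralizer_iff.mp hc) _ h1
  calc h * (x * c * x⁻¹) = x * ((x⁻¹ * h * x) * c) * x⁻¹ := by group
    _ = x * (c * (x⁻¹ * h * x)) * x⁻¹ := by rw [h2]
    _ = x * c * x⁻¹ * h := by group

/-- an element of `S` normalizing `Q` normalizes `C_T(Q)`, for `T` normalized by `S` -/
theorem mem_normalizer_centralizerIn {Q : Subgroup Ω} {x : Ω}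
    (hxT : x ∈ Subgroup.normalizer (T : Set Ω)) (hxQ : x ∈ Subgroup.normalizer (Q : Set Ω)) :
    x ∈ Subgroup.normalizer ((centralizerIn T Q : Subgroup Ω) : Set Ω) := by
  have hxi : x⁻¹ ∈ Subgroup.normalizer (Q : Set Ω) := Subgroup.inv_mem _ hxQ
  refine mem_normalizer_of_forall (fun y hy => ?_) (fun y hy => ?_)
  · exact ⟨conj_mem_of_mem_normalizer hxT ⟨y, hy.1⟩, conj_mem_centralizer_of_mem_normalizer hxQ hy.2⟩
  · refine ⟨conj_inv_mem_of_mem_normalizer hxT ⟨y, hy.1⟩, ?_⟩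
    have := conj_mem_centralizer_of_mem_normalizer hxi hy.2
    rwa [inv_inv] at this

/-- if `P ∩ T` has an `F`-conjugate not containing its centralizer in `T`, some `F`-conjugate `P₂` of `P`
is normalized by an element of `T` outside `P₂` centralizing `P₂ ∩ T` -/
theorem exists_conj_with_elt [Finite S] {p : ℕ} [Fact p.Prime] (hS : IsPGroup p S)
    (F : FusionSystem S) (hF : F.IsSaturated p) (hT : F.StronglyClosed T) {P : Subgroup Ω}
    (hPS : P ≤ S) (hnot : ¬ TCen F T (P ⊓ T)) :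
    ∃ P₂ : Subgroup Ω, F.IsConj P P₂ ∧ ∃ c ∈ T, c ∉ P₂ ∧ c ∈ Subgroup.normalizer (P₂ : Set Ω) ∧
      ∀ x ∈ P₂ ⊓ T, c * x = x * c := by
  have hTS : T ≤ S := hT.1
  have hSN : S ≤ Subgroup.normalizer (T : Set Ω) := le_normalizer_of_stronglyClosed F hT
  have hQS : P ⊓ T ≤ S := inf_le_left.trans hPS
  unfold TCen at hnot
  push Not at hnot
  obtain ⟨Q', hQ', hcQ'⟩ := hnot
  obtain ⟨Q'', hQQ'', hQ''n⟩ := exists_fullyNormalized_conj F hQS
  obtain ⟨-, hfa, hrec⟩ := saturated_fullyNormalized hS F hF hQ''n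
  have hQ''T : Q'' ≤ T := by
    obtain ⟨φ, hφ, rfl⟩ := hQQ''
    rintro _ ⟨x, rfl⟩
    exact hT.2 _ inf_le_right φ hφ x
  -- (a) the fully normalized conjugate does not contain its centralizer in `T`
  have hcQ'' : ¬ centralizerIn T Q'' ≤ Q'' := by
    have hQ'S : Q' ≤ S := isConj_le_right F hQ'
    obtain ⟨N₁⟩ := nonempty_normalizerHom hS F hfa hrec (isConj_trans F (isConj_symm F hQ') hQQ'')
    obtain ⟨c₀, hc₀C, hc₀Q⟩ := SetLike.not_le_iff_exists.mp hcQ'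
    have hc₀S : c₀ ∈ centralizerIn S Q' := ⟨hTS hc₀C.1, hc₀C.2⟩
    have hc₀N : c₀ ∈ normalizerIn S Q' := centralizerIn_le_normalizerIn S Q' hc₀S
    have hyC := N₁.maps_centralizer hQ'S ⟨c₀, hc₀N⟩ hc₀S
    have hyT : N₁.φ ⟨c₀, hc₀N⟩ ∈ T := apply_mem_of_stronglyClosed F hT N₁.mem ⟨c₀, hc₀N⟩ hc₀C.1
    intro hle
    have hyQ : N₁.φ ⟨c₀, hc₀N⟩ ∈ Q'' := hle ⟨hyT, hyC.2⟩
    obtain ⟨x, hx⟩ := N₁.exists_preimage hQ'S hyQ
    have := N₁.injective hx
    apply hc₀Q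
    have h2 : (x : Ω) = c₀ := congrArg (fun z : ↥(normalizerIn S Q') => (z : Ω)) this
    rw [← h2]
    exact x.2
  -- (b) move `P` along a map defined on `N_S(P ∩ T)`
  obtain ⟨N⟩ := nonempty_normalizerHom hS F hfa hrec hQQ''
  have hPN : P ≤ normalizerIn S (P ⊓ T) := fun x hx =>
    ⟨hPS hx, mem_normalizer_inf (Subgroup.le_normalizer hx) (hSN (hPS hx))⟩
  have hφP : N.φ.comp (Subgroup.inclusion hPN) ∈ F.Hom P := restrict_mem F N.mem hPN
  have hinf : (N.φ.comp (Subgroup.inclusion hPN)).range ⊓ T = Q'' := by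
    rw [← range_restrict_inf F hT hφP]
    ext z
    constructor
    · rintro ⟨x, rfl⟩
      exact N.apply_mem_of_mem hQS ⟨x, x.2⟩
    · intro hz
      obtain ⟨x, hx⟩ := N.exists_preimage hQS hz
      exact ⟨⟨x, x.2⟩, hx⟩
  refine ⟨(N.φ.comp (Subgroup.inclusion hPN)).range, ⟨_, hφP, rfl⟩, ?_⟩
  have hP₂S : (N.φ.comp (Subgroup.inclusion hPN)).range ≤ S := range_le F hφP
  -- (c) an element of `C_T(Q'')` normalizing `P₂` outside `P₂`
  have hCS : centralizerIn T Q'' ≤ S := inf_le_left.trans hTS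
  have hsupS : (N.φ.comp (Subgroup.inclusion hPN)).range ⊔ centralizerIn T Q'' ≤ S := sup_le hP₂S hCS
  haveI : Finite ↥((N.φ.comp (Subgroup.inclusion hPN)).range ⊔ centralizerIn T Q'') := finite_of_le hsupS
  have hP₂N : (N.φ.comp (Subgroup.inclusion hPN)).range ≤
      Subgroup.normalizer ((centralizerIn T Q'' : Subgroup Ω) : Set Ω) := by
    intro x hx
    refine mem_normalizer_centralizerIn (hSN (hP₂S hx)) ?_
    rw [← hinf]
    exact mem_normalizer_inf (Subgroup.le_normalizer hx) (hSN (hP₂S hx))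
  have hnle : ¬ centralizerIn T Q'' ≤ (N.φ.comp (Subgroup.inclusion hPN)).range := by
    intro hle
    apply hcQ''
    intro c hc
    rw [← hinf]
    exact ⟨hle hc, hc.1⟩
  obtain ⟨t, ht, htP, htN⟩ := exists_normalizing_in (hS.to_le hsupS) le_sup_right
    (sup_le hP₂N Subgroup.le_normalizer) le_sup_left hnle
  refine ⟨t, ht.1, htP, htN, fun x hx => ?_⟩
  rw [hinf] at hx
  exact (Subgroup.mem_centralizer_iff.mp ht.2 x hx).symm

/-- a fully normalized `P` with `P ∩ T` not containing its centralizers in `T` up to conjugacy is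
normalized by an element of `T` outside `P` centralizing `P ∩ T` -/
theorem exists_elt_of_fullyNormalized [Finite S] {p : ℕ} [Fact p.Prime] (hS : IsPGroup p S)
    (F : FusionSystem S) (hF : F.IsSaturated p) (hT : F.StronglyClosed T) {P : Subgroup Ω}
    (hPn : F.IsFullyNormalized P) (hnot : ¬ TCen F T (P ⊓ T)) :
    ∃ c ∈ T, c ∉ P ∧ c ∈ Subgroup.normalizer (P : Set Ω) ∧ ∀ x ∈ P ⊓ T, c * x = x * c := by
  have hTS : T ≤ S := hT.1
  have hPS : P ≤ S := hPn.1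
  obtain ⟨P₂, hPP₂, c, hcT, hcP₂, hcN, hcC⟩ := exists_conj_with_elt hS F hF hT hPS hnot
  obtain ⟨-, hfa, hrec⟩ := saturated_fullyNormalized hS F hF hPn
  obtain ⟨N₂⟩ := nonempty_normalizerHom hS F hfa hrec (isConj_symm F hPP₂)
  have hP₂S : P₂ ≤ S := isConj_le_right F hPP₂
  have hcN₂ : c ∈ normalizerIn S P₂ := ⟨hTS hcT, hcN⟩
  refine ⟨N₂.φ ⟨c, hcN₂⟩, apply_mem_of_stronglyClosed F hT N₂.mem ⟨c, hcN₂⟩ hcT, ?_,
    (N₂.maps _).2, ?_⟩
  · intro h
    obtain ⟨x, hx⟩ := N₂.exists_preimage hP₂S h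
    have h1 := N₂.injective hx
    have h2 : (x : Ω) = c := congrArg (fun z : ↥(normalizerIn S P₂) => (z : Ω)) h1
    exact hcP₂ (h2 ▸ x.2)
  · intro y hy
    have hr := range_restrict_inf F hT (N₂.restrictQ_mem hP₂S)
    rw [N₂.restrictQ_range hP₂S] at hr
    obtain ⟨x', hx'⟩ := hr.ge hy
    have h1 : c * (x' : Ω) = (x' : Ω) * c := hcC x' x'.2
    have hx'N : (x' : Ω) ∈ normalizerIn S P₂ := le_normalizerIn_self hP₂S x'.2.1
    have h2 : N₂.φ (⟨c, hcN₂⟩ * ⟨x', hx'N⟩) = N₂.φ (⟨x', hx'N⟩ * ⟨c, hcN₂⟩) := by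
      congr 1
      exact Subtype.ext h1
    rw [map_mul, map_mul] at h2
    have h3 : N₂.φ ⟨x', hx'N⟩ = y := hx'
    rw [h3] at h2
    exact h2

end Cfsg.Agent.Lib.Helper26
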