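import Cfsg.Agent.Lib.Helper26.ChiSub6

set_option autoImplicit false

namespace Cfsg.Agent.Lib.Helper26

open Cfsg Cfsg.FusionSystem

variable {Ω : Type*} [Group Ω] {S T : Subgroup Ω}

namespace ChiCtx

variable {p : ℕ} {F : FusionSystem S} {E : FusionSystem T} {K : Subgroup (MulAut T)}

/-- every map of `F` is an automorphism of `S` after a map of the candidate subsystem -/
theorem decAll_sysM [Finite S] [Fact p.Prime] (C : ChiCtx p F E K) {P : Subgroup Ω} {φ : P →* Ω}
    (hφ : φ ∈ F.Hom P) : DecAll F C.sysM P φ := by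
  have hS := C.hS
  have hF := C.hF
  have hInv := C.invCond_sysM
  have hTop := top_stronglyClosed F
  refine (decPred F C.sysM hTop hInv).forall_good hS hF ?_ ?_ hφ
  · intro α hα P₀ h₀ hP₀T
    exact ⟨α, hα, P₀.subtype, subtype_mem _ hP₀T, fun x hx => rfl⟩
  · intro P hPn hne ih
    have hPS : P ≤ S := hPn.1
    have hfinP : Finite P := finite_of_le hPS
    by_cases hc : F.IsCentric P
    · by_cases hH : TCen F T (P ⊓ T)
      · refine autGroup_le_of_frattini hS F hF _ hPn ih (Subgroup.closure (ppSet F p P))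
          (closure_ppSet_le F p P) ?_ ?_ ?_
        · apply le_normalizer_closure_of_forall_conj_mem
          rintro b hb a ⟨ha, k, hk⟩
          refine ⟨Subgroup.mul_mem _ (Subgroup.mul_mem _ hb ha) (Subgroup.inv_mem _ hb), k, ?_⟩
          rw [← hk]
          exact (MulAut.conj b).orderOf_eq a
        · intro a ha
          have ha₁ : a ∈ C.sysM.autGroup P :=
            (Subgroup.closure_le _).mpr (C.ppSet_subset_sysM ⟨hc, hH⟩) ha
          rw [mem_autGroup_iff _ hPS] at ha₁
          show a ∈ (decPred F C.sysM hTop hInv).system.autGroup P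
          rw [mem_autGroup_iff _ hPS]
          refine ⟨C.sysM_le P ha₁, fun P₀ h₀ hP₀T => ?_⟩
          exact dec_congr (fun x => rfl) (dec_of_mem (restrict_mem C.sysM ha₁ h₀))
        · obtain ⟨g, hgN, hgP⟩ := SetLike.exists_of_lt (lt_normalizerIn hS hPS hne)
          refine ⟨g, hgN.1, hgP, hgN.2, Subgroup.subset_closure ⟨?_, ?_⟩⟩
          · exact autInducedBy_le_autGroup F hPS (conjAut_mem_autInducedBy hgN.1 hgN.2)
          · exact exists_orderOf_conjAut hS hgN.1 hgN.2
      · obtain ⟨c, hcT, hcP, hcN, hcC⟩ := exists_elt_of_fullyNormalized hS F hF C.hT hPn hH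
        refine autGroup_le_of_frattini hS F hF _ hPn ih (chainW F T P) (chainW_le F T P) ?_ ?_ ?_
        · exact le_normalizer_of_forall_conj_mem
            (fun b hb a ha => conj_mem_chainW F C.hT hPS hb ha)
        · exact (chainW_le_autInducedBy hS F hF C.hT hPn).trans (autInducedBy_le_autGroup _ hPS)
        · exact ⟨c, C.hT.1 hcT, hcP, hcN, conjAut_mem_chainW F C.hT hPS hcT hcN hcC⟩
    · intro α hα
      obtain ⟨hfc, -, hrec⟩ := saturated_fullyNormalized hS F hF hPn
      obtain ⟨Q, hPQ, ψ, hψ, hψe⟩ := autGroup_subset_extGen_of_not_centric F hfc hrec hc hα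
      have hQS : Q ≤ S := source_le F hψ
      have hfinQ : Finite Q := finite_of_le hQS
      have hmem := ih Q hQS (card_lt_card_of_lt hPQ) hψ
      rw [mem_autGroup_iff _ hPS]
      exact mem_of_forall_eq _ (restrict_mem _ hmem hPQ.le) (fun x => (hψe x).symm)

/-- the Frattini property of the candidate subsystem -/
theorem dec_sysM [Finite S] [Fact p.Prime] (C : ChiCtx p F E K) (P : Subgroup Ω) (φ : P →* Ω)
    (hφ : φ ∈ F.Hom P) : Dec F C.sysM P φ :=
  dec_congr (fun x => rfl) (C.decAll_sysM hφ P le_rfl (source_le F hφ))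

end ChiCtx

end Cfsg.Agent.Lib.Helper26
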