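import Cfsg.Agent.Lib.Helper26.ChiSub7

set_option autoImplicit false

namespace Cfsg.Agent.Lib.Helper26

open Cfsg Cfsg.FusionSystem

variable {Ω : Type*} [Group Ω] {S T : Subgroup Ω}

/-- `chainW` lies in the largest normal `p`-subgroup of `Aut_X(P)` -/
theorem chainW_le_pCore [Finite S] {p : ℕ} [Fact p.Prime] (hS : IsPGroup p S) (X : FusionSystem S)
    (hT : X.StronglyClosed T) {P : Subgroup Ω} (hPS : P ≤ S) :
    chainW X T P ≤ (pCore p ↥(X.autGroup P)).map (X.autGroup P).subtype := by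
  have hN : ((chainW X T P).subgroupOf (X.autGroup P)).Normal := by
    refine ⟨fun n hn g => ?_⟩
    rw [Subgroup.mem_subgroupOf] at hn ⊢
    exact conj_mem_chainW X hT hPS g.2 hn
  have hp : IsPGroup p ((chainW X T P).subgroupOf (X.autGroup P)) :=
    (chainW_isPGroup hS X hT.1 P).of_injective
      (Subgroup.subgroupOfEquivOfLe (chainW_le X T P)).toMonoidHom
      (Subgroup.subgroupOfEquivOfLe (chainW_le X T P)).injective
  have hle : (chainW X T P).subgroupOf (X.autGroup P) ≤ pCore p ↥(X.autGroup P) := by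
    unfold pCore
    exact le_sSup ⟨hN, hp⟩
  intro β hβ
  exact ⟨⟨β, hβ.1⟩, hle (Subgroup.mem_subgroupOf.mpr hβ), rfl⟩

namespace ChiCtx

variable {p : ℕ} {F : FusionSystem S} {E : FusionSystem T} {K : Subgroup (MulAut T)}

/-- the candidate subsystem contains the `p`-elements of all automizers of `F` -/
theorem ppSet_subset_sysM_all [Finite S] [Fact p.Prime] (C : ChiCtx p F E K) {P : Subgroup Ω}
    (hPS : P ≤ S) : ppSet F p P ⊆ C.sysM.autGroup P := by
  rintro a ⟨ha, k, hk⟩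
  obtain ⟨Q, hPQ, hQn⟩ := exists_fullyNormalized_conj F hPS
  have hQS : Q ≤ S := hQn.1
  have hfinQ : Finite Q := finite_of_le hQS
  obtain ⟨e, he⟩ := exists_iso_of_isConj F hPQ
  obtain ⟨-, hfa, -⟩ := saturated_fullyNormalized C.hS F C.hF hQn
  have hsyl := isSylowIn18_of_fullyAutomized F hfa
  have hb : MulAut.congr e a ∈ F.autGroup Q := congr_mem_autGroup he ha
  have hbk : (MulAut.congr e a) ^ (p ^ k) = 1 := by
    rw [← map_pow, ← hk, pow_orderOf_eq_one, map_one]
  have hRp := isPGroup_zpowers_of_pow_eq_one hbk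
  have hR : Subgroup.zpowers (MulAut.congr e a) ≤ F.autGroup Q := by
    rw [Subgroup.zpowers_le]
    exact hb
  obtain ⟨γ, hγ, hle⟩ := hsyl.exists_conj_le hR hRp
  have hc : γ * MulAut.congr e a * γ⁻¹ ∈ autInducedBy S Q :=
    hle (Cfsg.Agent.Lib.Helper18.conj_mem_conjSub (Subgroup.mem_zpowers _))
  have he' : IsIso F (e.trans γ) := he.trans ((isIso_iff_mem_autGroup F hQS γ).mpr hγ)
  have hc' : MulAut.congr (e.trans γ) a ∈ C.sysM.autGroup Q := by
    rw [congr_trans_aut]
    exact autInducedBy_le_autGroup _ hQS hc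
  have hdec : Dec F C.sysM Q (P.subtype.comp (e.trans γ).symm.toMonoidHom) :=
    C.dec_sysM _ _ he'.symm
  have := congr_mem_autGroup_of_dec C.invCond_sysM hPS (e.trans γ).symm hdec hc'
  rwa [congr_symm_congr] at this

/-- receptivity in the candidate subsystem, for subgroups in the family -/
theorem receptive_sysM [Finite S] [Fact p.Prime] (C : ChiCtx p F E K) {Q : Subgroup Ω}
    (hQ : Q ∈ famH F T) (hrec : F.IsReceptive Q) : C.sysM.IsReceptive Q := by
  refine ⟨hQ.1.1, fun R φ hφ hr => ?_⟩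
  have hφF := C.sysM_le R hφ
  obtain ⟨ψ, hψ, hψe⟩ := hrec.2 R φ hφF hr
  refine ⟨ψ, ?_, hψe⟩
  have hRN : R ≤ extender S R φ := le_extender F hφF
  have hRH : R ∈ famH F T := famH_of_isConj F C.hT hQ (isConj_symm F ⟨φ, hφF, hr⟩)
  have hNS : extender S R φ ≤ S := source_le F hψ
  have hNH : extender S R φ ∈ famH F T := famH_of_le F hRH hRN hNS
  apply C.mem_sysM_of_mem hNH
  refine C.mem_sysL_of_restrict hRN hRH.2 hψ ?_
  exact mem_of_forall_eq _ (C.sysM_le_sysL R hφ) (fun x => hψe x x.2 (hRN x.2))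

/-- the candidate subsystem is saturated -/
theorem saturated_sysM [Finite S] [Fact p.Prime] (C : ChiCtx p F E K) : C.sysM.IsSaturated p := by
  have hS := C.hS
  have hF := C.hF
  have hTS : T ≤ S := C.hT.1
  have hEF : C.sysM ≤ F := C.sysM_le
  have hrefl : C.sysM ≤ C.sysM := fun _ _ h => h
  have hcen : ∀ P, C.sysM.IsCentric P ↔ F.IsCentric P := isCentric_iff_of_dec hEF hrefl C.dec_sysM
  refine saturated_of_family hS C.sysM (famH F T) ?_ ?_ ?_ ?_
  · intro P hP Q hPQ
    exact famH_of_isConj F C.hT hP (isConj_of_le hEF hPQ)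
  · intro P hP
    obtain ⟨Q, hPQ, hQn⟩ := exists_fullyNormalized_conj C.sysM hP.1.1
    have hQnF : F.IsFullyNormalized Q := fullyNormalized_of_dec hrefl C.dec_sysM hQn
    obtain ⟨-, hfa, hrec⟩ := saturated_fullyNormalized hS F hF hQnF
    have hQH : Q ∈ famH F T := famH_of_isConj F C.hT hP (isConj_of_le hEF hPQ)
    exact ⟨Q, hPQ, fullyAutomized_of_le hEF hfa, C.receptive_sysM hQH hrec⟩
  · intro X hX
    exact C.sysM_le_of hX
  · intro P hPc hPH
    have hPcF : F.IsCentric P := (hcen P).mp hPc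
    have hnot : ¬ TCen F T (P ⊓ T) := fun h => hPH ⟨hPcF, h⟩
    obtain ⟨Q, hPQ, hQn⟩ := exists_fullyNormalized_conj C.sysM hPcF.1
    have hQnF : F.IsFullyNormalized Q := fullyNormalized_of_dec hrefl C.dec_sysM hQn
    have hQS : Q ≤ S := hQnF.1
    have hPQF : F.IsConj P Q := isConj_of_le hEF hPQ
    have hnotQ : ¬ TCen F T (Q ⊓ T) :=
      fun h => hnot (h.of_isConj (isConj_inf F C.hT (isConj_symm F hPQF)))
    obtain ⟨c, hcT, hcQ, hcN, hcC⟩ := exists_elt_of_fullyNormalized hS F hF C.hT hQnF hnotQ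
    refine ⟨Q, hPQ, fun hle => ?_⟩
    have hQc : F.IsCentric Q := isCentric_of_isConj F hPcF hPQF
    have h1 : conjAut Q c hcN ∈ autInducedBy S Q := conjAut_mem_autInducedBy (hTS hcT) hcN
    have hTM : C.sysM.StronglyClosed T :=
      ⟨hTS, fun R hR φ hφ x => C.hT.2 R hR φ (hEF R hφ) x⟩
    have h2 : conjAut Q c hcN ∈ chainW C.sysM T Q :=
      conjAut_mem_chainW C.sysM hTM hQS hcT hcN hcC
    have h3 := chainW_le_pCore hS C.sysM hTM hQS h2
    exact notMem_inn_of_centric hQS (hQc.2 Q (isConj_refl F hQS)) (hTS hcT) hcQ hcN (hle ⟨h1, h3⟩)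

end ChiCtx

end Cfsg.Agent.Lib.Helper26
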