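import Cfsg.Agent.Lib.Helper26.ChiSub8

set_option autoImplicit false

namespace Cfsg.Agent.Lib.Helper26

open Cfsg Cfsg.FusionSystem

variable {Ω : Type*} [Group Ω] {S T : Subgroup Ω}

/-- Frattini decomposition of `Aut_F(T)`: every element is a product of `p`-elements times the
restriction of an element of `Aut_F(S)` -/
theorem exists_frattini_dec [Finite S] {p : ℕ} [Fact p.Prime] (hS : IsPGroup p S)
    (F : FusionSystem S) (hF : F.IsSaturated p) (hT : F.StronglyClosed T) {β : MulAut T}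
    (hβ : β ∈ F.autGroup T) :
    ∃ m ∈ Subgroup.closure (ppSet F p T), ∃ α ∈ F.autGroup S,
      ∀ t : T, (((m * β) t : T) : Ω) = ((α ⟨t, hT.1 t.2⟩ : S) : Ω) := by
  have hTS : T ≤ S := hT.1
  haveI : Finite T := finite_of_le hTS
  have hSN : S ≤ Subgroup.normalizer (T : Set Ω) := le_normalizer_of_stronglyClosed F hT
  obtain ⟨-, hfa, hrec⟩ := saturated_fullyNormalized hS F hF (fullyNormalized_of_stronglyClosed F hT)
  have hR := isSylowIn18_of_fullyAutomized F hfa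
  have hMF := closure_ppSet_le F p T
  have hMn : F.autGroup T ≤ Subgroup.normalizer (Subgroup.closure (ppSet F p T) : Set (MulAut T)) := by
    apply le_normalizer_closure_of_forall_conj_mem
    rintro b hb a ⟨ha, k, hk⟩
    refine ⟨Subgroup.mul_mem _ (Subgroup.mul_mem _ hb ha) (Subgroup.inv_mem _ hb), k, ?_⟩
    rw [← hk]
    exact (MulAut.conj b).orderOf_eq a
  have hR₀ := hR.inf_of_normal hMF hMn
  obtain ⟨n, hn, hγ⟩ := hR₀.frattini (hMn hβ)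
  have hε₀ : n * β ∈ F.autGroup T := Subgroup.mul_mem _ (hMF hn) hβ
  have hGP : ∀ (g : Ω) (hg : g ∈ S), conjAut T g (hSN hg) ∈
      autInducedBy S T ⊓ Subgroup.closure (ppSet F p T) := by
    intro g hg
    refine ⟨conjAut_mem_autInducedBy hg (hSN hg), Subgroup.subset_closure ⟨?_, ?_⟩⟩
    · exact autInducedBy_le_autGroup F hTS (conjAut_mem_autInducedBy hg (hSN hg))
    · exact exists_orderOf_conjAut hS hg (hSN hg)
  obtain ⟨Ψ, hΨ, hΨe⟩ := exists_extend_of_conj_mem F hrec hε₀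
    (P₀ := autInducedBy S T ⊓ Subgroup.closure (ppSet F p T)) inf_le_left
    (fun π hπ => (Subgroup.mem_normalizer_iff.mp hγ π).mp hπ) (G₀ := S) le_rfl hSN hGP
  have hsup : S ⊔ T = S := sup_eq_left.mpr hTS
  obtain ⟨Ψ', hΨ', e'⟩ := hom_cast_eq F hsup hΨ
  have hr : Ψ'.range = S := range_eq_of_apply_mem F hΨ' (fun x => apply_mem F hΨ' x)
  obtain ⟨α, hα, hαx⟩ := exists_iso_of_hom F hΨ' hr
  refine ⟨n, hn, α, (isIso_iff_mem_autGroup F le_rfl α).mp hα, fun t => ?_⟩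
  rw [hαx ⟨t, hTS t.2⟩, e' (t : Ω) (le_sup_right (a := S) t.2) (hTS t.2)]
  exact (hΨe t).symm

/-- the extension condition is automatic for subsystems over `S` itself -/
theorem extCond_top (F : FusionSystem S) {α : MulAut S} (hα : α ∈ F.autGroup S) :
    ExtCond F S α := by
  have h : S ⊔ centralizerIn S S = S := sup_eq_left.mpr inf_le_left
  obtain ⟨ψ', hψ', e'⟩ := hom_cast_eq F h.symm ((mem_autGroup_iff F le_rfl).mp hα)
  have hr : ψ'.range = S ⊔ centralizerIn S S := by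
    ext z
    constructor
    · rintro ⟨y, rfl⟩
      rw [e' (y : Ω) (h.le y.2) y.2]
      exact h.ge (α _).2
    · intro hz
      refine ⟨⟨((α⁻¹ ⟨z, h.le hz⟩ : S) : Ω), h.ge (α⁻¹ _).2⟩, ?_⟩
      rw [e' _ (α⁻¹ _).2 _]
      show ((α (α⁻¹ ⟨z, h.le hz⟩) : S) : Ω) = z
      rw [MulAut.apply_inv_self]
  obtain ⟨β, hβ, hβx⟩ := exists_iso_of_hom F hψ' hr
  refine ⟨β, (isIso_iff_mem_autGroup F h.le β).mp hβ, fun x => ?_, fun c hc => ?_⟩
  · exact (hβx _).trans (e' (x : Ω) x.2 (le_sup_left (b := centralizerIn S S) x.2))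
  · rw [hβx, e' _ (h.le c.2) _]
    refine ⟨S.mul_mem (S.inv_mem (h.le c.2)) (α _).2, ?_⟩
    show _ ∈ Subgroup.centralizer (S : Set Ω)
    rw [Subgroup.mem_centralizer_iff]
    intro s hs
    have hcc : ∀ s' : S, (⟨(c : Ω), h.le c.2⟩ : S) * s' = s' * ⟨(c : Ω), h.le c.2⟩ := by
      intro s'
      apply Subtype.ext
      exact (hc.2 s' s'.2).symm
    have h1 : α ⟨(c : Ω), h.le c.2⟩ * ⟨s, hs⟩ = ⟨s, hs⟩ * α ⟨(c : Ω), h.le c.2⟩ := by
      have h2 := congrArg α (hcc (α⁻¹ ⟨s, hs⟩))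
      rwa [map_mul, map_mul, MulAut.apply_inv_self] at h2
    have h3 : ((α ⟨(c : Ω), h.le c.2⟩ : S) : Ω) * s = s * ((α ⟨(c : Ω), h.le c.2⟩ : S) : Ω) :=
      congrArg Subtype.val h1
    have h4 : (c : Ω) * s = s * (c : Ω) := (hc.2 s hs).symm
    calc s * ((c : Ω)⁻¹ * ((α ⟨(c : Ω), h.le c.2⟩ : S) : Ω))
        = (c : Ω)⁻¹ * ((c : Ω) * s) * (c : Ω)⁻¹ * ((α ⟨(c : Ω), h.le c.2⟩ : S) : Ω) := by group
      _ = (c : Ω)⁻¹ * (s * (c : Ω)) * (c : Ω)⁻¹ * ((α ⟨(c : Ω), h.le c.2⟩ : S) : Ω) := by rw [h4]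
      _ = (c : Ω)⁻¹ * (s * ((α ⟨(c : Ω), h.le c.2⟩ : S) : Ω)) := by group
      _ = (c : Ω)⁻¹ * (((α ⟨(c : Ω), h.le c.2⟩ : S) : Ω) * s) := by rw [h3]
      _ = (c : Ω)⁻¹ * ((α ⟨(c : Ω), h.le c.2⟩ : S) : Ω) * s := by group

end Cfsg.Agent.Lib.Helper26
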