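import Cfsg.Agent.Lib.Helper26.Co3ODefs

set_option autoImplicit false
set_option maxRecDepth 1000000

/-!
# The outer automorphism group of `Co₃`: the small checks
-/

namespace Cfsg.Agent.Lib.Helper26.Co3O

open Cfsg.Agent.Lib.helper23 Cfsg.Agent.Lib.helper14.MQ

theorem co3c_ok : co3cP.ok 276 = true := by decide +kernel

theorem co3u_ok : co3uP.ok 276 = true := by decide +kernel

theorem co3t_ok : co3tP.ok 276 = true := by decide +kernel

theorem co3x_ok : co3xP.ok 276 = true := by decide +kernel

theorem co3c_sift : pgSiftW 276 (List.range 276) mqC co3cP.f = true := by decide +kernel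

theorem co3u_sift : pgSiftW 276 (List.range 276) mqC co3uP.f = true := by decide +kernel

theorem co3t_sift : pgSiftW 276 (List.range 276) mqC co3tP.f = true := by decide +kernel

theorem co3x_sift : pgSiftW 276 (List.range 276) mqC co3xP.f = true := by decide +kernel

/-- `c ^ 23 = 1` -/
theorem co3c_pow : pgAll 276 (fun p => Nat.beq (pgIter co3cP.f 23 p) p) = true := by
  decide +kernel

/-- `c` moves the point `0` -/
theorem co3c_zero : co3cP.f 0 = 1 := by decide +kernel

/-- `u * c = c * c * u` -/
theorem co3uc : pgEq 276 (fun p => co3uP.f (co3cP.f p))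
    (fun p => co3cP.f (co3cP.f (co3uP.f p))) = true := by decide +kernel

/-- `t * t = 1` -/
theorem co3tt : pgEq 276 (fun p => co3tP.f (co3tP.f p)) (fun p => p) = true := by decide +kernel

/-- `t ≠ 1` -/
theorem co3t_ne : pgEq 276 co3tP.f (fun p => p) = false := by decide +kernel

/-- `t * u = u * t` -/
theorem co3tu : pgEq 276 (fun p => co3tP.f (co3uP.f p)) (fun p => co3uP.f (co3tP.f p)) = true := by
  decide +kernel

/-- `(c * u * t) ^ 20 = 1` -/
theorem co3rel : pgEq 276 (pgIter (fun q => co3cP.f (co3uP.f (co3tP.f q))) 20) (fun p => p) =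
    true := by decide +kernel

/-- `(c⁻¹ * u * t) ^ 20 ≠ 1` -/
theorem co3nrel : pgEq 276 (pgIter (fun q => co3cP.g (co3uP.f (co3tP.f q))) 20) (fun p => p) =
    false := by decide +kernel

/-- the generators of the chain are words in `c, u, t` -/
theorem co3words : pgAll (pgOwnW mqC).length (fun j => pgAll 276 (fun p =>
    Nat.beq (((pgOwnW mqC).getD j PFun.one).f p)
      (pgEvalW co3gs ([co3wA, co3wG].getD j []) p))) = true := by decide +kernel

end Cfsg.Agent.Lib.Helper26.Co3O
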