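import Cfsg.Agent.Lib.Helper26.Co3ODefs
import Cfsg.Agent.Lib.helper23.PgS

set_option autoImplicit false
set_option maxRecDepth 1000000

/-!
# The outer automorphism group of `Co₃`: the two centralisers
-/

namespace Cfsg.Agent.Lib.Helper26.Co3O

open Cfsg.Agent.Lib.helper23 Cfsg.Agent.Lib.helper14.MQ

theorem co3centc_0 : pgEnumPiece 276 9 (pgCentPrune co3cP.f)
    (pgCentTest 276 9 co3cP.f [23]) mqcL1 mqC2 2 0 276 = true := by decide +kernel

theorem co3centc : pgEnumM 276 9 (pgCentPrune co3cP.f)
    (pgCentTest 276 9 co3cP.f [23]) mqC 2 (fun p => p) [] = true := by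
  apply pgEnumM_of_pieces
  intro z hz
  exact pgEnumPiece_spec co3centc_0 z (by omega) (by omega)

theorem co3centu_0 : pgEnumPiece 276 9 (pgCentPrune co3vf) co3testU mqcL1 mqC2 2 0 276 = true := by
  decide +kernel

theorem co3centu : pgEnumM 276 9 (pgCentPrune co3vf) co3testU mqC 2 (fun p => p) [] = true := by
  apply pgEnumM_of_pieces
  intro z hz
  exact pgEnumPiece_spec co3centu_0 z (by omega) (by omega)

end Cfsg.Agent.Lib.Helper26.Co3O
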