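import Cfsg.Agent.Lib.Helper26.Co3OData
import Cfsg.Agent.Lib.helper23.PgW

set_option autoImplicit false

/-!
# The outer automorphism group of `Co₃`: the coded elements and the tests
-/

namespace Cfsg.Agent.Lib.Helper26.Co3O

open Cfsg.Agent.Lib.helper23 Cfsg.Agent.Lib.helper14.MQ

/-- the element of order 23 -/
def co3cP : PFun := mqgen co3cT co3cI

/-- the element of order 11 -/
def co3uP : PFun := mqgen co3uT co3uI

/-- the involution -/
def co3tP : PFun := mqgen co3tT co3tT

/-- the conjugating element -/
def co3xP : PFun := mqgen co3xT co3xI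

/-- the three generators -/
def co3gs : List PFun := [co3cP, co3uP, co3tP]

/-- the conjugate of `u` by `x` -/
def co3vf (p : ℕ) : ℕ := co3xP.f (co3uP.f (co3xP.g p))

/-- the conjugate of `t` by `x` -/
def co3sf (p : ℕ) : ℕ := co3xP.f (co3tP.f (co3xP.g p))

/-- the test for the centraliser of the conjugate of `u`: an involution is the conjugate of `t` -/
def co3test (f : ℕ → ℕ) : Bool :=
  cond (pgEq 276 (fun p => f (f p)) (fun p => p))
    (pgEq 276 f (fun p => p) || pgEq 276 f co3sf) true

/-- the test at the leaves for the centraliser of the conjugate of `u` -/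
def co3testU (f : ℕ → ℕ) : Bool :=
  cond (pgAll 276 (fun p => Nat.beq (f (co3vf p)) (co3vf (f p)))) (co3test f) true

/-- the tail of the chain -/
def mqC2 : List PgLvlW := [mqcL2, mqcL3, mqcL4, mqcL5, mqcL6]

end Cfsg.Agent.Lib.Helper26.Co3O
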