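import Mathlib
import Cfsg.Prelude.Def_KGroupFacts

set_option autoImplicit false

/-!
# A criterion for all automorphisms to be inner

`c` of prime order `p` generates a Sylow subgroup and is self-centralising, `u` acts on `⟨c⟩` as
the `k`-th power map, every unit modulo `p` is `± k ^ i`, the centraliser of `u` has exactly one
involution `t`, the three elements generate, and one relation excludes the map inverting `c`.
-/

namespace Cfsg.Agent.Lib.Helper26.OutRigid

open Subgroup
open scoped Pointwise

variable {G : Type*} [Group G]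

theorem conj_pow_of_conj {u c : G} {k : ℕ} (hu : u * c * u⁻¹ = c ^ k) (m : ℕ) :
    u * c ^ m * u⁻¹ = c ^ (k * m) := by
  rw [← conj_pow, hu, ← pow_mul]

theorem pow_conj_pow {u c : G} {k : ℕ} (hu : u * c * u⁻¹ = c ^ k) (i m : ℕ) :
    u ^ i * c ^ m * (u ^ i)⁻¹ = c ^ (k ^ i * m) := by
  induction i generalizing m with
  | zero => simp
  | succ i ih =>
    have e : u ^ (i + 1) * c ^ m * (u ^ (i + 1))⁻¹ = u ^ i * (u * c ^ m * u⁻¹) * (u ^ i)⁻¹ := by
      rw [pow_succ]
      group
    rw [e, conj_pow_of_conj hu, ih, pow_succ, mul_assoc]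

/-- a subgroup all of whose elements have `p`-th power one, containing a subgroup of order `p`, in
a group whose order is divisible by `p` only once, is that subgroup -/
theorem mem_zpowers_of_centralizer [Finite G] (p : ℕ) [hp : Fact p.Prime] (c : G)
    (hfac : (Nat.card G).factorization p = 1) (hc : orderOf c = p)
    (hCc : ∀ h : G, h * c = c * h → h ^ p = 1) (w : G) (hw : w * c = c * w) :
    w ∈ zpowers c := by
  classical
  set K : Subgroup G := centralizer {c} with hK
  have hmemK : ∀ h : G, h ∈ K ↔ h * c = c * h := by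
    intro h
    rw [hK, mem_centralizer_iff]
    constructor
    · intro hh
      exact (hh c rfl).symm
    · intro hh x hx
      rw [Set.mem_singleton_iff] at hx
      rw [hx, hh]
  have hpK : IsPGroup p K := by
    intro g
    refine ⟨1, ?_⟩
    rw [pow_one]
    apply Subtype.ext
    rw [Subgroup.coe_pow]
    exact hCc g.1 ((hmemK g.1).1 g.2)
  obtain ⟨n, hn⟩ := IsPGroup.iff_card.1 hpK
  have hle : zpowers c ≤ K := by
    rw [zpowers_le]
    exact (hmemK c).2 rfl
  have hzc : Nat.card (zpowers c) = p := by rw [Nat.card_zpowers, hc]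
  have hdvd : p ^ n ∣ Nat.card G := by
    rw [← hn]
    exact Subgroup.card_subgroup_dvd_card K
  have hGpos : Nat.card G ≠ 0 := Nat.card_pos.ne'
  have hn1 : n ≤ 1 := by
    rw [← hfac]
    exact (hp.out.pow_dvd_iff_le_factorization hGpos).1 hdvd
  have hcard : Nat.card K ≤ Nat.card (zpowers c) := by
    rw [hn, hzc]
    calc p ^ n ≤ p ^ 1 := Nat.pow_le_pow_right hp.out.pos hn1
      _ = p := pow_one p
  have heq : zpowers c = K := by
    apply Subgroup.eq_of_le_of_card_ge hle hcard
  rw [heq]
  exact (hmemK w).2 hw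

/-- after an inner automorphism, an automorphism sends `c` to `c` or to its inverse -/
theorem exists_conj_eq_or_inv [Finite G] (p : ℕ) [hp : Fact p.Prime] (k : ℕ) (c u : G)
    (hfac : (Nat.card G).factorization p = 1) (hc : orderOf c = p)
    (hu : u * c * u⁻¹ = c ^ k)
    (hk : ∀ j : ℕ, 0 < j → j < p → ∃ i : ℕ, k ^ i * j % p = 1 ∨ k ^ i * j % p = p - 1)
    (α : MulAut G) : ∃ g : G, g * α c * g⁻¹ = c ∨ g * α c * g⁻¹ = c⁻¹ := by
  classical
  have hcp : c ^ p = 1 := by rw [← hc, pow_orderOf_eq_one]
  have hcmod : ∀ n : ℕ, c ^ n = c ^ (n % p) := by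
    intro n
    rw [← hc, pow_mod_orderOf]
  have hαc : orderOf (α c) = p := by rw [MulEquiv.orderOf_eq, hc]
  have hex : ∃ g : G, g⁻¹ * α c * g ∈ zpowers c := by
    have hC : p ^ 1 ∣ Nat.card (zpowers c) := by rw [Nat.card_zpowers, hc, pow_one]
    obtain ⟨K, hK⟩ := Sylow.exists_subgroup_card_pow_prime p hC
    let K' : Subgroup G := K.map (zpowers c).subtype
    have hK' : Nat.card K' = p ^ 1 := by
      rw [← hK]
      exact Subgroup.card_map_of_injective (zpowers c).subtype_injective
    have hK'le : K' ≤ zpowers c := by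
      intro x hx
      obtain ⟨y, -, rfl⟩ := hx
      exact y.2
    let S : Sylow p G := Sylow.ofCard K' (by rw [hfac]; exact hK')
    have hSK : (S : Subgroup G) = K' := rfl
    have hzp : IsPGroup p (zpowers (α c)) := by
      apply IsPGroup.of_card (n := 1)
      rw [Nat.card_zpowers, hαc, pow_one]
    obtain ⟨Q, hQ⟩ := hzp.exists_le_sylow
    obtain ⟨g, hg⟩ := MulAction.exists_smul_eq G S Q
    refine ⟨g, hK'le ?_⟩
    have hxQ : α c ∈ (Q : Subgroup G) := hQ (mem_zpowers (α c))
    rw [← hg] at hxQ
    have hxQ' : α c ∈ MulAut.conj g • (S : Subgroup G) := by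
      rw [← Sylow.coe_subgroup_smul]
      exact hxQ
    rw [Subgroup.mem_pointwise_smul_iff_inv_smul_mem, hSK] at hxQ'
    have e : (MulAut.conj g)⁻¹ • α c = g⁻¹ * α c * g := by
      rw [← map_inv, MulAut.smul_def, MulAut.conj_apply, inv_inv]
    rw [e] at hxQ'
    exact hxQ'
  obtain ⟨g, hg⟩ := hex
  rw [mem_zpowers_iff_mem_range_orderOf, Finset.mem_image] at hg
  obtain ⟨j, hj, hcj⟩ := hg
  rw [Finset.mem_range, hc] at hj
  have hj0 : 0 < j := by
    rcases Nat.eq_zero_or_pos j with h | h
    · exfalso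
      rw [h, pow_zero] at hcj
      have h1 : α c = 1 := by
        calc α c = g * (g⁻¹ * α c * g) * g⁻¹ := by group
          _ = 1 := by rw [← hcj]; group
      rw [h1, orderOf_one] at hαc
      exact hp.out.ne_one hαc.symm
    · exact h
  obtain ⟨i, hi⟩ := hk j hj0 hj
  refine ⟨u ^ i * g⁻¹, ?_⟩
  have e : u ^ i * g⁻¹ * α c * (u ^ i * g⁻¹)⁻¹ = u ^ i * (g⁻¹ * α c * g) * (u ^ i)⁻¹ := by
    group
  rw [e, ← hcj, pow_conj_pow hu, hcmod]
  rcases hi with h | h
  · left
    rw [h, pow_one]
  · right
    rw [h]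
    apply eq_inv_of_mul_eq_one_left
    rw [← pow_succ, Nat.sub_add_cancel hp.out.one_le, hcp]

theorem aut_eq_one_of_closure (S : Set G) (hS : closure S = ⊤) (γ : MulAut G)
    (h : ∀ s ∈ S, γ s = s) : γ = 1 := by
  ext x
  have hx : x ∈ closure S := by rw [hS]; exact mem_top x
  rw [MulAut.one_apply]
  induction hx using closure_induction with
  | mem y hy => exact h y hy
  | one => exact map_one γ
  | mul y z _ _ hy hz => rw [map_mul, hy, hz]
  | inv y _ hy => rw [map_inv, hy]

/-- the criterion -/
theorem card_out_eq_one [Finite G] (p : ℕ) [hp : Fact p.Prime] (k j n : ℕ) (c u t : G)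
    (hfac : (Nat.card G).factorization p = 1) (hc : orderOf c = p)
    (hCc : ∀ h : G, h * c = c * h → h ^ p = 1)
    (hu : u * c * u⁻¹ = c ^ k) (hk1 : 1 ≤ k)
    (hk : ∀ j : ℕ, 0 < j → j < p → ∃ i : ℕ, k ^ i * j % p = 1 ∨ k ^ i * j % p = p - 1)
    (hj : j * (k - 1) % p = 1)
    (ht1 : t ≠ 1) (ht2 : t * t = 1) (htu : t * u = u * t)
    (hCu : ∀ h : G, h * u = u * h → h * h = 1 → h = 1 ∨ h = t)
    (hgen : closure {c, u, t} = ⊤)
    (hrel : (c * u * t) ^ n = 1) (hnrel : (c⁻¹ * u * t) ^ n ≠ 1) :
    Nat.card (Cfsg.Out G) = 1 := by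
  classical
  have hcp : c ^ p = 1 := by rw [← hc, pow_orderOf_eq_one]
  have key : ∀ α : MulAut G, α ∈ Cfsg.Inn G := by
    intro α
    obtain ⟨g, hg⟩ := exists_conj_eq_or_inv p k c u hfac hc hu hk α
    set β : MulAut G := MulAut.conj g * α with hβ
    have hβc : β c = g * α c * g⁻¹ := by
      rw [hβ, MulAut.mul_apply, MulAut.conj_apply]
    -- the image of `u` acts on `c` as `u` does
    have hv : β u * c * (β u)⁻¹ = c ^ k := by
      have h1 : β u * β c * (β u)⁻¹ = (β c) ^ k := by
        rw [← map_inv, ← map_mul, ← map_mul, hu, map_pow]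
      rcases hg with hg | hg
      · rw [hβc, hg] at h1
        exact h1
      · rw [hβc, hg] at h1
        have h2 : (β u * c * (β u)⁻¹)⁻¹ = (c ^ k)⁻¹ := by
          rw [← inv_pow, ← h1]
          group
        exact inv_injective h2
    set v := β u with hvdef
    -- `v⁻¹ * u` centralises `c`
    have hwc : (v⁻¹ * u) * c = c * (v⁻¹ * u) := by
      have h1 : v⁻¹ * c ^ k * v = c := by
        rw [← hv]
        group
      calc (v⁻¹ * u) * c = v⁻¹ * (u * c * u⁻¹) * u := by group
        _ = v⁻¹ * c ^ k * v * (v⁻¹ * u) := by rw [hu]; group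
        _ = c * (v⁻¹ * u) := by rw [h1]
    have hwmem := mem_zpowers_of_centralizer p c hfac hc hCc _ hwc
    rw [mem_zpowers_iff_mem_range_orderOf, Finset.mem_image] at hwmem
    obtain ⟨m, -, hm⟩ := hwmem
    -- `u = v * c ^ m = c ^ (k * m) * v`
    have huv : u = c ^ (k * m) * v := by
      have h1 : u = v * c ^ m := by rw [hm]; group
      have h2 : v * c ^ m * v⁻¹ = c ^ (k * m) := conj_pow_of_conj hv m
      rw [h1, ← h2]
      group
    -- conjugate by a power of `c` to move `v` to `u`
    set a := k * m with ha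
    set i := j * a with hi
    -- we need `c ^ i * u * (c ^ i)⁻¹ = v`, i.e. `c ^ i * c ^ a * v * (c ^ i)⁻¹ = v`
    have hmod : (i + a) % p = (k * i) % p := by
      have h1 : k * i = i + (k - 1) * i := by
        have : k = 1 + (k - 1) := by omega
        calc k * i = (1 + (k - 1)) * i := by rw [← this]
          _ = i + (k - 1) * i := by ring
      have h2 : (k - 1) * i = (j * (k - 1)) * a := by rw [hi]; ring
      have hj' : j * (k - 1) ≡ 1 [MOD p] := by
        unfold Nat.ModEq
        rw [hj, Nat.mod_eq_of_lt hp.out.one_lt]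
      have h3 : (j * (k - 1)) * a ≡ a [MOD p] := by
        have := hj'.mul_right a
        rwa [one_mul] at this
      have h4 : i + a ≡ k * i [MOD p] := by
        rw [h1, h2]
        exact (Nat.ModEq.add_left i h3).symm
      exact h4
    have hpw : c ^ (i + a) = c ^ (k * i) := by
      rw [← hc] at hmod
      rw [← pow_mod_orderOf, hmod, pow_mod_orderOf]
    have hconj : (c ^ i)⁻¹ * v * c ^ i = u := by
      have h1 : v * c ^ i * v⁻¹ = c ^ (k * i) := conj_pow_of_conj hv i
      have h2 : v * c ^ i = c ^ (k * i) * v := by rw [← h1]; group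
      calc (c ^ i)⁻¹ * v * c ^ i = (c ^ i)⁻¹ * (v * c ^ i) := by group
        _ = (c ^ i)⁻¹ * (c ^ (i + a) * v) := by rw [h2, hpw]
        _ = c ^ a * v := by rw [pow_add]; group
        _ = u := huv.symm
    set γ : MulAut G := MulAut.conj (c ^ i)⁻¹ * β with hγ
    have hγu : γ u = u := by
      rw [hγ, MulAut.mul_apply, MulAut.conj_apply, inv_inv]
      exact hconj
    have hγc : γ c = β c := by
      rw [hγ, MulAut.mul_apply, MulAut.conj_apply, inv_inv, hβc]
      rcases hg with hg | hg
      · rw [hg]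
        have : c * c ^ i = c ^ i * c := by rw [← pow_succ', ← pow_succ]
        calc (c ^ i)⁻¹ * c * c ^ i = (c ^ i)⁻¹ * (c * c ^ i) := by group
          _ = c := by rw [this]; group
      · rw [hg]
        have : c ^ i * c = c * c ^ i := by rw [← pow_succ', ← pow_succ]
        calc (c ^ i)⁻¹ * c⁻¹ * c ^ i = (c * c ^ i)⁻¹ * c ^ i := by group
          _ = (c ^ i * c)⁻¹ * c ^ i := by rw [this]
          _ = c⁻¹ := by group
    -- the involution is fixed
    have hγt : γ t = t := by
      have h1 : γ t * u = u * γ t := by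
        calc γ t * u = γ t * γ u := by rw [hγu]
          _ = γ (t * u) := (map_mul γ t u).symm
          _ = γ (u * t) := by rw [htu]
          _ = u * γ t := by rw [map_mul, hγu]
      have h2 : γ t * γ t = 1 := by rw [← map_mul, ht2, map_one]
      rcases hCu (γ t) h1 h2 with h | h
      · exfalso
        apply ht1
        have : γ t = γ 1 := by rw [h, map_one]
        exact γ.injective this
      · exact h
    have hα : α = (MulAut.conj ((c ^ i)⁻¹ * g))⁻¹ * γ := by
      rw [hγ, hβ, map_mul]
      group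
    rcases hg with hg | hg
    · -- `γ` is the identity
      have hγ1 : γ = 1 := by
        apply aut_eq_one_of_closure {c, u, t} hgen
        intro s hs
        rcases hs with rfl | rfl | rfl
        · rw [hγc, hβc, hg]
        · exact hγu
        · exact hγt
      rw [hα, hγ1, mul_one]
      exact Subgroup.inv_mem _ ⟨_, rfl⟩
    · exfalso
      apply hnrel
      have h1 : γ ((c * u * t) ^ n) = (c⁻¹ * u * t) ^ n := by
        rw [map_pow, map_mul, map_mul, hγc, hβc, hg, hγu, hγt]
      rw [← h1, hrel, map_one]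
  have htop : Cfsg.Inn G = ⊤ := by
    rw [eq_top_iff]
    intro α _
    exact key α
  have hidx : (Cfsg.Inn G).index = 1 := by rw [htop, Subgroup.index_top]
  exact hidx

end Cfsg.Agent.Lib.Helper26.OutRigid
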