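import Cfsg.Agent.Lib.Helper26.Co3OChkA
import Cfsg.Agent.Lib.Helper26.Co3OChkB
import Cfsg.Agent.Lib.Helper26.OutRigid
import Cfsg.Agent.Lib.helper23.PgJ

set_option autoImplicit false
set_option maxRecDepth 1000000

/-!
# The outer automorphism group of `Co₃` is trivial (on the concrete group on 276 points)
-/

namespace Cfsg.Agent.Lib.Helper26.Co3O

open Cfsg.Agent.Lib.helper23 Cfsg.Agent.Lib.helper14.MQ Subgroup

theorem co3_mem {P : PFun} (hok : P.ok 276 = true)
    (hs : pgSiftW 276 (List.range 276) mqC P.f = true) : P.perm 276 ∈ M276 := by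
  rw [M276_eq]
  exact pgSift_mem (mqRigidTop 276) mqchkC le_top hok (mem_top _) hs

/-- the element of order 23 -/
def co3c : ↥M276 := ⟨co3cP.perm 276, co3_mem co3c_ok co3c_sift⟩

/-- the element of order 11 -/
def co3u : ↥M276 := ⟨co3uP.perm 276, co3_mem co3u_ok co3u_sift⟩

/-- the involution -/
def co3t : ↥M276 := ⟨co3tP.perm 276, co3_mem co3t_ok co3t_sift⟩

/-- the conjugating element -/
def co3x : ↥M276 := ⟨co3xP.perm 276, co3_mem co3x_ok co3x_sift⟩

theorem co3c_rep : PgRep co3cP.f co3c.1 := PgRep.perm co3c_ok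

theorem co3ci_rep : PgRep co3cP.g co3c.1⁻¹ := PgRep.perm_inv co3c_ok

theorem co3u_rep : PgRep co3uP.f co3u.1 := PgRep.perm co3u_ok

theorem co3t_rep : PgRep co3tP.f co3t.1 := PgRep.perm co3t_ok

theorem co3x_rep : PgRep co3xP.f co3x.1 := PgRep.perm co3x_ok

theorem co3xi_rep : PgRep co3xP.g co3x.1⁻¹ := PgRep.perm_inv co3x_ok

theorem co3v_rep : PgRep co3vf (co3x.1 * co3u.1 * co3x.1⁻¹) :=
  (co3x_rep.mul co3u_rep).mul co3xi_rep

theorem co3s_rep : PgRep co3sf (co3x.1 * co3t.1 * co3x.1⁻¹) :=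
  (co3x_rep.mul co3t_rep).mul co3xi_rep

theorem pgRep_pow {n : ℕ} {f : ℕ → ℕ} {a : Equiv.Perm (Fin n)} (hf : PgRep f a) (k : ℕ) :
    PgRep (pgIter f k) (a ^ k) := fun p => pgIter_perm a f hf k p

theorem co3c_pow_eq : co3c ^ 23 = 1 := by
  apply Subtype.ext
  rw [Subgroup.coe_pow, Subgroup.coe_one]
  exact (pgEq_iff (pgRep_pow co3c_rep 23) PgRep.one).1 co3c_pow

theorem co3c_ne : co3c ≠ 1 := by
  intro h
  have h1 : co3c.1 = 1 := by rw [h]; rfl
  have h2 := co3c_rep ⟨0, by norm_num⟩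
  rw [h1, co3c_zero] at h2
  simp at h2

theorem co3c_order : orderOf co3c = 23 := by
  have : Fact (Nat.Prime 23) := ⟨by norm_num⟩
  exact orderOf_eq_prime co3c_pow_eq co3c_ne

theorem co3uc_eq : co3u * co3c * co3u⁻¹ = co3c ^ 2 := by
  have h : co3u.1 * co3c.1 = co3c.1 * co3c.1 * co3u.1 :=
    (pgEq_iff (co3u_rep.mul co3c_rep) ((co3c_rep.mul co3c_rep).mul co3u_rep)).1 co3uc
  have h' : co3u * co3c = co3c * co3c * co3u := Subtype.ext h
  rw [h', pow_two]
  group

theorem co3tt_eq : co3t * co3t = 1 := by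
  apply Subtype.ext
  exact (pgEq_iff (co3t_rep.mul co3t_rep) PgRep.one).1 co3tt

theorem co3t_ne_one : co3t ≠ 1 := by
  intro h
  have h1 : co3t.1 = 1 := by rw [h]; rfl
  exact (pgEq_false_iff co3t_rep PgRep.one).1 co3t_ne h1

theorem co3tu_eq : co3t * co3u = co3u * co3t := by
  apply Subtype.ext
  exact (pgEq_iff (co3t_rep.mul co3u_rep) (co3u_rep.mul co3t_rep)).1 co3tu

theorem co3rel_eq : (co3c * co3u * co3t) ^ 20 = 1 := by
  apply Subtype.ext
  rw [Subgroup.coe_pow, Subgroup.coe_one]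
  exact (pgEq_iff (pgRep_pow ((co3c_rep.mul co3u_rep).mul co3t_rep) 20) PgRep.one).1 co3rel

theorem co3nrel_ne : (co3c⁻¹ * co3u * co3t) ^ 20 ≠ 1 := by
  intro h
  have h1 : (co3c.1⁻¹ * co3u.1 * co3t.1) ^ 20 = 1 := by
    have := congrArg Subtype.val h
    rwa [Subgroup.coe_pow] at this
  exact (pgEq_false_iff (pgRep_pow ((co3ci_rep.mul co3u_rep).mul co3t_rep) 20) PgRep.one).1
    co3nrel h1

/-- the centraliser of `c` has exponent 23 -/
theorem co3_cent_c (h : ↥M276) (hc : h * co3c = co3c * h) : h ^ 23 = 1 := by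
  have hmem : h.1 ∈ pgGrpW 276 mqC := by rw [← M276_eq]; exact h.2
  have hcomm : h.1 * co3c.1 = co3c.1 * h.1 := congrArg Subtype.val hc
  obtain ⟨K, hK, hK1⟩ := pgCent_main (by norm_num) (mqRigidTop 276) mqchkC le_top co3cP.f [23] 2
    co3c.1 co3c_rep co3centc h.1 hmem hcomm
  rw [List.mem_singleton] at hK
  apply Subtype.ext
  rw [Subgroup.coe_pow, Subgroup.coe_one, ← hK]
  exact hK1

/-- the centraliser of `u` has exactly one involution -/
theorem co3_cent_u (h : ↥M276) (hc : h * co3u = co3u * h) (h2 : h * h = 1) :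
    h = 1 ∨ h = co3t := by
  set h' : ↥M276 := co3x * h * co3x⁻¹ with hh'
  have hmem : h'.1 ∈ pgGrpW 276 mqC := by rw [← M276_eq]; exact h'.2
  have hcomm' : h' * (co3x * co3u * co3x⁻¹) = (co3x * co3u * co3x⁻¹) * h' := by
    calc h' * (co3x * co3u * co3x⁻¹) = co3x * (h * co3u) * co3x⁻¹ := by rw [hh']; group
      _ = co3x * (co3u * h) * co3x⁻¹ := by rw [hc]
      _ = (co3x * co3u * co3x⁻¹) * h' := by rw [hh']; group
  have hcomm : h'.1 * (co3x.1 * co3u.1 * co3x.1⁻¹) = (co3x.1 * co3u.1 * co3x.1⁻¹) * h'.1 :=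
    congrArg Subtype.val hcomm'
  have h2' : h'.1 * h'.1 = 1 := by
    have : h' * h' = 1 := by
      calc h' * h' = co3x * (h * h) * co3x⁻¹ := by rw [hh']; group
        _ = 1 := by rw [h2]; group
    exact congrArg Subtype.val this
  obtain ⟨f, hf, ht⟩ := pgCent_gen (by norm_num) (mqRigidTop 276) mqchkC le_top co3vf co3test 2
    (co3x.1 * co3u.1 * co3x.1⁻¹) co3v_rep co3centu h'.1 hmem hcomm
  unfold co3test at ht
  have hsq : pgEq 276 (fun p => f (f p)) (fun p => p) = true :=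
    (pgEq_iff (hf.mul hf) PgRep.one).2 h2'
  rw [hsq] at ht
  simp only [cond_true, Bool.or_eq_true] at ht
  rcases ht with ht | ht
  · left
    have h1 : h'.1 = 1 := (pgEq_iff hf PgRep.one).1 ht
    have h1' : h' = 1 := Subtype.ext h1
    calc h = co3x⁻¹ * h' * co3x := by rw [hh']; group
      _ = 1 := by rw [h1']; group
  · right
    have h1 : h'.1 = co3x.1 * co3t.1 * co3x.1⁻¹ := (pgEq_iff hf co3s_rep).1 ht
    have h1' : h' = co3x * co3t * co3x⁻¹ := Subtype.ext h1
    calc h = co3x⁻¹ * h' * co3x := by rw [hh']; group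
      _ = co3t := by rw [h1']; group

theorem co3gs_ok : ∀ P ∈ co3gs, P.ok 276 = true := by
  intro P hP
  unfold co3gs at hP
  simp only [List.mem_cons, List.not_mem_nil, or_false] at hP
  rcases hP with rfl | rfl | rfl
  · exact co3c_ok
  · exact co3u_ok
  · exact co3t_ok

/-- the three elements generate -/
theorem co3_gen : closure {co3c, co3u, co3t} = (⊤ : Subgroup ↥M276) := by
  have hle : pgGrpW 276 mqC ≤ closure (pgSet 276 co3gs) :=
    pgGrpW_le_of_words mqok co3gs_ok co3words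
  rw [eq_top_iff]
  intro y _
  have hy : y.1 ∈ closure (pgSet 276 co3gs) := hle (by rw [← M276_eq]; exact y.2)
  have key : ∀ z : Equiv.Perm (Fin 276), z ∈ closure (pgSet 276 co3gs) →
      ∃ hz : z ∈ M276, (⟨z, hz⟩ : ↥M276) ∈ closure {co3c, co3u, co3t} := by
    intro z hz
    induction hz using closure_induction with
    | mem w hw =>
      obtain ⟨P, hP, rfl⟩ := hw
      unfold co3gs at hP
      simp only [List.mem_cons, List.not_mem_nil, or_false] at hP
      rcases hP with rfl | rfl | rfl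
      · exact ⟨co3c.2, subset_closure (by simp [co3c])⟩
      · exact ⟨co3u.2, subset_closure (by simp [co3u])⟩
      · exact ⟨co3t.2, subset_closure (by simp [co3t])⟩
    | one => exact ⟨one_mem _, one_mem _⟩
    | mul a b _ _ ha hb =>
      obtain ⟨ha1, ha2⟩ := ha
      obtain ⟨hb1, hb2⟩ := hb
      exact ⟨mul_mem ha1 hb1, mul_mem ha2 hb2⟩
    | inv a _ ha =>
      obtain ⟨ha1, ha2⟩ := ha
      exact ⟨inv_mem ha1, inv_mem ha2⟩
  obtain ⟨_, h2⟩ := key y.1 hy
  exact h2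

theorem co3_fact23 : (Nat.card ↥M276).factorization 23 = 1 := by
  rw [M276_card]
  have e : (495766656000 : ℕ) = 23 ^ 1 * 21555072000 := by norm_num
  rw [e, Nat.factorization_mul (by norm_num) (by norm_num),
    Nat.Prime.factorization_pow (by norm_num)]
  have : (21555072000 : ℕ).factorization 23 = 0 :=
    Nat.factorization_eq_zero_of_not_dvd (by norm_num)
  simp [this]

theorem co3_units : ∀ j : ℕ, 0 < j → j < 23 →
    ∃ i : ℕ, 2 ^ i * j % 23 = 1 ∨ 2 ^ i * j % 23 = 23 - 1 := by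
  have h : ∀ j : Fin 23, 0 < j.1 →
      ∃ i : Fin 11, 2 ^ i.1 * j.1 % 23 = 1 ∨ 2 ^ i.1 * j.1 % 23 = 23 - 1 := by decide
  intro j h0 h1
  obtain ⟨i, hi⟩ := h ⟨j, h1⟩ h0
  exact ⟨i.1, hi⟩

instance : Finite ↥M276 := Nat.finite_of_card_ne_zero (by rw [M276_card]; norm_num)

/-- every automorphism of the concrete group is inner -/
theorem co3_out : Nat.card (Cfsg.Out ↥M276) = 1 := by
  have : Fact (Nat.Prime 23) := ⟨by norm_num⟩
  exact OutRigid.card_out_eq_one 23 2 1 20 co3c co3u co3t co3_fact23 co3c_order co3_cent_c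
    co3uc_eq (by norm_num) co3_units (by norm_num) co3t_ne_one co3tt_eq co3tu_eq co3_cent_u
    co3_gen co3rel_eq co3nrel_ne

end Cfsg.Agent.Lib.Helper26.Co3O
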