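import Cfsg.Agent.S5019
import Cfsg.Agent.Lib.Helper26.ChainAux

set_option autoImplicit false

namespace Cfsg.Agent.Lib.Helper26

open Cfsg Cfsg.Agent.S5013 Cfsg.Agent.S5014

variable {G : Type*} [Group G]

/-- The additive commutative group structure on an abelian subgroup. -/
@[reducible] def conjACG (N : Subgroup G) (hN : CommOn N) : AddCommGroup (Additive ↥N) :=
  { (inferInstance : AddGroup (Additive ↥N)) with
    add_comm := fun x y => congrArg Additive.ofMul
      (Subtype.ext (hN _ (Additive.toMul x).2 _ (Additive.toMul y).2)) }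

theorem conjAct_mem_of_le_normalizer {X N : Subgroup G} (hX : X ≤ Subgroup.normalizer (N : Set G))
    {x n : G} (hx : x ∈ X) (hn : n ∈ N) : x * n * x⁻¹ ∈ N :=
  (Subgroup.mem_normalizer_iff.mp (hX hx) n).mp hn

/-- Conjugation action of `X ≤ N_G(N)` on the abelian subgroup `N`, written additively. -/
@[reducible] def conjDMA (X N : Subgroup G) (hN : CommOn N)
    (hX : X ≤ Subgroup.normalizer (N : Set G)) :
    letI := conjACG N hN
    DistribMulAction ↥X (Additive ↥N) :=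
  letI := conjACG N hN
  { smul := fun x n => Additive.ofMul
      ⟨(x : G) * (Additive.toMul n).1 * (x : G)⁻¹,
        conjAct_mem_of_le_normalizer hX x.2 (Additive.toMul n).2⟩
    one_smul := fun n => by
      apply congrArg Additive.ofMul
      apply Subtype.ext
      show ((1 : ↥X) : G) * (Additive.toMul n).1 * ((1 : ↥X) : G)⁻¹ = (Additive.toMul n).1
      simp
    mul_smul := fun x y n => by
      apply congrArg Additive.ofMul
      apply Subtype.ext
      show ((x * y : ↥X) : G) * (Additive.toMul n).1 * ((x * y : ↥X) : G)⁻¹ =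
        (x : G) * ((y : G) * (Additive.toMul n).1 * (y : G)⁻¹) * (x : G)⁻¹
      rw [Subgroup.coe_mul]
      group
    smul_zero := fun x => by
      apply congrArg Additive.ofMul
      apply Subtype.ext
      show (x : G) * ((1 : ↥N) : G) * (x : G)⁻¹ = ((1 : ↥N) : G)
      simp
    smul_add := fun x m n => by
      apply congrArg Additive.ofMul
      apply Subtype.ext
      show (x : G) * ((Additive.toMul m * Additive.toMul n : ↥N) : G) * (x : G)⁻¹ =
        ((x : G) * (Additive.toMul m).1 * (x : G)⁻¹) * ((x : G) * (Additive.toMul n).1 * (x : G)⁻¹)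
      rw [Subgroup.coe_mul]
      group }

theorem mem_conjBy_subgroupOf {H X : Subgroup G} {g z : ↥X} :
    z ∈ Cfsg.conjBy (H.subgroupOf X) g ↔ (z : G) ∈ Cfsg.conjBy H (g : G) := by
  rw [mem_conjBy_iff, mem_conjBy_iff, Subgroup.mem_subgroupOf]
  rfl

theorem rankOneCondition_subgroupOf {A B X : Subgroup G} (hBX : B ≤ X)
    (h : Cfsg.RankOneCondition A B) :
    Cfsg.RankOneCondition (A.subgroupOf X) (B.subgroupOf X) := by
  intro a ha ha1
  have ha' : (a : G) ∈ A := Subgroup.mem_subgroupOf.mp ha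
  have ha1' : (a : G) ≠ 1 := fun h1 => ha1 (Subtype.ext h1)
  obtain ⟨b, hb, hb1, hrel⟩ := h a ha' ha1'
  refine ⟨⟨b, hBX hb⟩, Subgroup.mem_subgroupOf.mpr hb, fun h1 => hb1 (congrArg Subtype.val h1), ?_⟩
  ext z
  rw [mem_conjBy_subgroupOf, mem_conjBy_subgroupOf]
  show (z : G) ∈ Cfsg.conjBy A b⁻¹ ↔ (z : G) ∈ Cfsg.conjBy B (a : G)⁻¹
  rw [hrel]

theorem rankOneGroup_subgroupOf {A B : Subgroup G} (hAB : Cfsg.IsRankOnePair A B) :
    Cfsg.IsRankOneGroup ↥(A ⊔ B) (A.subgroupOf (A ⊔ B)) (B.subgroupOf (A ⊔ B)) := by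
  refine ⟨?_, ?_, ?_, ?_, ?_, ?_⟩
  · rw [← Subgroup.subgroupOf_sup le_sup_left le_sup_right, Subgroup.subgroupOf_self]
  · intro h
    rw [Subgroup.subgroupOf_inj, inf_eq_left.mpr le_sup_left, inf_eq_left.mpr le_sup_right] at h
    exact hAB.ne h
  · haveI := hAB.nilpotent_left
    exact Group.nilpotent_of_mulEquiv (Subgroup.subgroupOfEquivOfLe (le_sup_left : A ≤ A ⊔ B)).symm
  · haveI := hAB.nilpotent_right
    exact Group.nilpotent_of_mulEquiv (Subgroup.subgroupOfEquivOfLe (le_sup_right : B ≤ A ⊔ B)).symm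
  · exact rankOneCondition_subgroupOf le_sup_right hAB.cond_left
  · exact rankOneCondition_subgroupOf le_sup_left hAB.cond_right

theorem commOn_subgroupOf {H X : Subgroup G} (h : CommOn H) : CommOn (H.subgroupOf X) := by
  intro x hx y hy
  apply Subtype.ext
  exact h x hx y hy

/-- A rank one pair `A, B` with abelian unipotent subgroups such that `⟨A, B⟩` normalizes an
abelian subgroup `N` on which `A` acts quadratically but `⟨A, B⟩` does not, is special. -/
theorem special_of_module {A B N : Subgroup G} (hAB : Cfsg.IsRankOnePair A B) (hcA : CommOn A)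
    (hcB : CommOn B) (hN : CommOn N) (hX : A ⊔ B ≤ Subgroup.normalizer (N : Set G))
    (hq : ∀ a ∈ A, ∀ a' ∈ A, ∀ m ∈ N, a' * (a * m * a⁻¹ * m⁻¹) * a'⁻¹ = a * m * a⁻¹ * m⁻¹)
    (hnq : ∃ x ∈ A ⊔ B, ∃ y ∈ A ⊔ B, ∃ m ∈ N,
      y * (x * m * x⁻¹ * m⁻¹) * y⁻¹ ≠ x * m * x⁻¹ * m⁻¹) :
    Cfsg.IsSpecialRankOnePair A B := by
  letI := conjACG N hN
  letI := conjDMA (A ⊔ B) N hN hX
  have hR := rankOneGroup_subgroupOf hAB
  have hab : Cfsg.HasAbelianUnipotents (A.subgroupOf (A ⊔ B)) (B.subgroupOf (A ⊔ B)) :=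
    ⟨isMulCommutative_of_commOn (commOn_subgroupOf hcA),
      isMulCommutative_of_commOn (commOn_subgroupOf hcB)⟩
  have hval : ∀ (x : ↥(A ⊔ B)) (n : Additive ↥N),
      ((Additive.toMul (x • n - n) : ↥N) : G) =
        (x : G) * (Additive.toMul n).1 * (x : G)⁻¹ * (Additive.toMul n).1⁻¹ := by
    intro x n
    rw [sub_eq_add_neg]
    rfl
  have hval2 : ∀ (y : ↥(A ⊔ B)) (n : Additive ↥N),
      ((Additive.toMul (y • n) : ↥N) : G) = (y : G) * (Additive.toMul n).1 * (y : G)⁻¹ :=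
    fun _ _ => rfl
  have hq' : ∀ a ∈ A.subgroupOf (A ⊔ B), ∀ a' ∈ A.subgroupOf (A ⊔ B), ∀ n : Additive ↥N,
      a' • (a • n - n) = a • n - n := by
    intro a ha a' ha' n
    apply congrArg Additive.ofMul
    apply Subtype.ext
    have := hq a (Subgroup.mem_subgroupOf.mp ha) a' (Subgroup.mem_subgroupOf.mp ha')
      (Additive.toMul n).1 (Additive.toMul n).2
    have h1 := hval2 a' (a • n - n)
    rw [hval] at h1
    show ((Additive.toMul (a' • (a • n - n)) : ↥N) : G) = ((Additive.toMul (a • n - n) : ↥N) : G)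
    rw [h1, hval, this]
  have hX' : ∃ x y : ↥(A ⊔ B), ∃ n : Additive ↥N, y • (x • n - n) ≠ x • n - n := by
    obtain ⟨x, hx, y, hy, m, hm, hne⟩ := hnq
    refine ⟨⟨x, hx⟩, ⟨y, hy⟩, Additive.ofMul ⟨m, hm⟩, ?_⟩
    intro heq
    apply hne
    have h1 := congrArg (fun t : Additive ↥N => ((Additive.toMul t : ↥N) : G)) heq
    rw [hval2, hval] at h1
    exact h1
  have hsp := Cfsg.Agent.S5019.result hR hab hq' hX'
  refine ⟨hAB, ?_⟩
  intro a ha ha1 b hb hb1 hrel
  have h1 := hsp.2 ⟨a, Subgroup.mem_sup_left ha⟩ (Subgroup.mem_subgroupOf.mpr ha)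
    (fun h => ha1 (congrArg Subtype.val h)) ⟨b, Subgroup.mem_sup_right hb⟩
    (Subgroup.mem_subgroupOf.mpr hb) (fun h => hb1 (congrArg Subtype.val h)) (by
      ext z
      rw [mem_conjBy_subgroupOf, mem_conjBy_subgroupOf]
      show (z : G) ∈ Cfsg.conjBy A b⁻¹ ↔ (z : G) ∈ Cfsg.conjBy B a⁻¹
      rw [hrel])
  exact congrArg Subtype.val h1

end Cfsg.Agent.Lib.Helper26
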