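import Cfsg.Agent.Lib.Helper26.PrimeNormP
import Cfsg.Agent.Lib.Helper18.SylowIn
import Cfsg.Agent.Lib.Helper1.Residual

set_option autoImplicit false

namespace Cfsg.Agent.Lib.Helper26

open Cfsg

variable {G : Type*} [Group G]

/-- powers of `y * n` modulo a subgroup `N` normalized by `y` -/
theorem inv_pow_mul_pow_mem {N : Subgroup G} {y n₁ : G} (hn₁ : n₁ ∈ N)
    (hy : ∀ n ∈ N, y⁻¹ * n * y ∈ N) (k : ℕ) : (y ^ k)⁻¹ * (y * n₁) ^ k ∈ N := by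
  induction k with
  | zero => simp
  | succ k ih =>
    have e : (y ^ (k + 1))⁻¹ * (y * n₁) ^ (k + 1) = y⁻¹ * ((y ^ k)⁻¹ * (y * n₁) ^ k) * y * n₁ := by
      rw [pow_succ, pow_succ, mul_inv_rev]
      group
    rw [e]
    exact N.mul_mem (hy _ ih) hn₁

/-- an element of order prime to `p` acting trivially on the factors of a chain `N ≤ N₂ ≤ Q` of a `p`-group `Q`
modulo `N` acts trivially on `Q` modulo `N` -/
theorem comm_mem_of_coprime_chain {p : ℕ} [Fact p.Prime] {g : G} (hgfin : IsOfFinOrder g)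
    (hg : (orderOf g).Coprime p) {Q N₂ N : Subgroup G} (hQ : IsPGroup p Q) (hN₂Q : N₂ ≤ Q)
    (hNnorm : ∀ x ∈ Q, ∀ n ∈ N, x⁻¹ * n * x ∈ N)
    (hgN : ∀ n ∈ N, g * n * g⁻¹ ∈ N)
    (h1 : ∀ x ∈ Q, x⁻¹ * (g * x * g⁻¹) ∈ N₂)
    (h2 : ∀ y ∈ N₂, y⁻¹ * (g * y * g⁻¹) ∈ N) :
    ∀ x ∈ Q, x⁻¹ * (g * x * g⁻¹) ∈ N := by
  intro x hx
  obtain ⟨y, hydef⟩ : ∃ y : G, y = x⁻¹ * (g * x * g⁻¹) := ⟨_, rfl⟩
  have hyN₂ : y ∈ N₂ := by rw [hydef]; exact h1 x hx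
  have hyQ : y ∈ Q := hN₂Q hyN₂
  obtain ⟨n₁, hn₁def⟩ : ∃ n₁ : G, n₁ = y⁻¹ * (g * y * g⁻¹) := ⟨_, rfl⟩
  have hn₁ : n₁ ∈ N := by rw [hn₁def]; exact h2 y hyN₂
  have hcx : g * x * g⁻¹ = x * y := by rw [hydef]; group
  have hcy : g * y * g⁻¹ = y * n₁ := by rw [hn₁def]; group
  have key : ∀ k : ℕ, (y ^ k)⁻¹ * (x⁻¹ * (g ^ k * x * (g ^ k)⁻¹)) ∈ N := by
    intro k
    induction k with
    | zero => simp
    | succ k ih =>
      obtain ⟨m, hmdef⟩ : ∃ m : G, m = (y ^ k)⁻¹ * (x⁻¹ * (g ^ k * x * (g ^ k)⁻¹)) := ⟨_, rfl⟩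
      have hm : m ∈ N := by rw [hmdef]; exact ih
      have hw : g ^ k * x * (g ^ k)⁻¹ = x * y ^ k * m := by rw [hmdef]; group
      have hpow : g * y ^ k * g⁻¹ = (y * n₁) ^ k := by
        rw [← hcy]
        exact (conj_pow (a := g) (b := y) (i := k)).symm
      have e1 : g ^ (k + 1) * x * (g ^ (k + 1))⁻¹ =
          (g * x * g⁻¹) * (g * y ^ k * g⁻¹) * (g * m * g⁻¹) := by
        rw [pow_succ', mul_inv_rev]
        calc g * g ^ k * x * ((g ^ k)⁻¹ * g⁻¹) = g * (g ^ k * x * (g ^ k)⁻¹) * g⁻¹ := by group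
          _ = g * (x * y ^ k * m) * g⁻¹ := by rw [hw]
          _ = _ := by group
      have e2 : (y ^ (k + 1))⁻¹ * (x⁻¹ * (g ^ (k + 1) * x * (g ^ (k + 1))⁻¹)) =
          ((y ^ k)⁻¹ * (y * n₁) ^ k) * (g * m * g⁻¹) := by
        rw [e1, hcx, hpow, pow_succ']
        group
      rw [e2]
      exact N.mul_mem (inv_pow_mul_pow_mem hn₁ (hNnorm y hyQ) k) (hgN m hm)
  have h3 := key (orderOf g)
  rw [pow_orderOf_eq_one, one_mul, inv_one, mul_one, inv_mul_cancel, mul_one] at h3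
  have h4 : y ^ orderOf g ∈ N := by
    have := N.inv_mem h3
    rwa [inv_inv] at this
  obtain ⟨k, hk⟩ := hQ ⟨y, hyQ⟩
  have hk' : y ^ p ^ k = 1 := congrArg Subtype.val hk
  have hcop : (orderOf g).Coprime (orderOf y) := by
    have hdvd : orderOf y ∣ p ^ k := orderOf_dvd_of_pow_eq_one hk'
    exact Nat.Coprime.coprime_dvd_right hdvd (Nat.Coprime.pow_right k hg)
  obtain ⟨j, hj⟩ := exists_pow_eq_self_of_coprime hcop
  rw [← hydef, ← hj]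
  exact N.pow_mem h4 j

/-- exponent data for the `p'`-part of an element of order `N` -/
theorem exists_pprime_exponent (p : ℕ) [Fact p.Prime] {N : ℕ} (hN : N ≠ 0) :
    ∃ m n' : ℕ, n'.Coprime p ∧ n' ∣ N ∧ 0 < n' ∧ (∀ d : ℕ, d ∣ N → d.Coprime p → d ∣ n') ∧
      N ∣ m * n' ∧ m % n' = 1 % n' := by
  have hp : p.Prime := Fact.out
  obtain ⟨e, n', hn', hen⟩ := Nat.exists_eq_pow_mul_and_not_dvd hN p hp.ne_one
  have hn'pos : 0 < n' := Nat.pos_of_ne_zero (by rintro rfl; exact hn' (dvd_zero p))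
  have hpn : Nat.Coprime p n' := (Nat.Prime.coprime_iff_not_dvd hp).mpr hn'
  have hcop : Nat.Coprime (p ^ e) n' := Nat.Coprime.pow_left e hpn
  obtain ⟨m, hm, hmn⟩ := exists_dvd_and_mod_eq_one hcop hn'pos
  refine ⟨m, n', hpn.symm, ⟨p ^ e, by rw [hen, mul_comm]⟩, hn'pos, ?_, ?_, hmn⟩
  · intro d hd hdp
    rw [hen] at hd
    exact (Nat.Coprime.pow_right e hdp).dvd_of_dvd_mul_left hd
  · rw [hen]
    exact Nat.mul_dvd_mul hm dvd_rfl

/-- a power `g ^ m` of order prime to `p` such that `a ^ m = a` for every `p'`-element `a` with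
`a ^ orderOf g = 1` -/
theorem exists_pprime_pow (p : ℕ) [Fact p.Prime] {g : G} (hg : IsOfFinOrder g) :
    ∃ m n' : ℕ, (orderOf (g ^ m)).Coprime p ∧ n'.Coprime p ∧
      (∀ d : ℕ, d ∣ orderOf g → d.Coprime p → d ∣ n') ∧ m % n' = 1 % n' := by
  obtain ⟨m, n', h1, h2, h3, h4, h5, h6⟩ := exists_pprime_exponent p (orderOf_pos_iff.mpr hg).ne'
  refine ⟨m, n', ?_, h1, h4, h6⟩
  have h7 : (g ^ m) ^ n' = 1 := by
    rw [← pow_mul]
    exact orderOf_dvd_iff_pow_eq_one.mp h5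
  exact Nat.Coprime.coprime_dvd_left (orderOf_dvd_of_pow_eq_one h7) h1

theorem pow_eq_self_of_pprime {A : Type*} [Group A] {p : ℕ} {a : A} {N m n' : ℕ}
    (haN : a ^ N = 1) (hap : (orderOf a).Coprime p)
    (h4 : ∀ d : ℕ, d ∣ N → d.Coprime p → d ∣ n') (h6 : m % n' = 1 % n') : a ^ m = a := by
  have h1 : orderOf a ∣ n' := h4 _ (orderOf_dvd_of_pow_eq_one haN) hap
  exact pow_eq_self_of_mod (orderOf_dvd_iff_pow_eq_one.mp h1) h6

end Cfsg.Agent.Lib.Helper26
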