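import Cfsg.Agent.Lib.Helper26.ConsNorm1
import Cfsg.Agent.Lib.Helper18.PCore
import Cfsg.Agent.Lib.helper23.PCore
import Cfsg.Agent.S5093

set_option autoImplicit false

namespace Cfsg.Agent.Lib.Helper26

open Cfsg Cfsg.FusionSystem

variable {G : Type*} [Group G]

/-- the elements normalizing `R` and acting trivially on `Q` modulo `R` -/
def ccent (Q R : Subgroup G) : Subgroup G where
  carrier := {g | g ∈ Subgroup.normalizer (R : Set G) ∧ ∀ x ∈ Q, x⁻¹ * (g * x * g⁻¹) ∈ R}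
  one_mem' := ⟨Subgroup.one_mem _, fun x _ => by simp [R.one_mem]⟩
  mul_mem' := by
    rintro g h ⟨hg, hgx⟩ ⟨hh, hhx⟩
    refine ⟨Subgroup.mul_mem _ hg hh, fun x hx => ?_⟩
    have e : x⁻¹ * (g * h * x * (g * h)⁻¹) =
        (x⁻¹ * (g * x * g⁻¹)) * (g * (x⁻¹ * (h * x * h⁻¹)) * g⁻¹) := by group
    rw [e]
    exact R.mul_mem (hgx x hx) (conj_mem_of_mem_normalizer hg ⟨_, hhx x hx⟩)
  inv_mem' := by
    rintro g ⟨hg, hgx⟩
    refine ⟨Subgroup.inv_mem _ hg, fun x hx => ?_⟩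
    have e : x⁻¹ * (g⁻¹ * x * g⁻¹⁻¹) = g⁻¹ * (x⁻¹ * (g * x * g⁻¹))⁻¹ * g := by group
    rw [e]
    exact conj_inv_mem_of_mem_normalizer hg ⟨_, R.inv_mem (hgx x hx)⟩

theorem mem_ccent_iff {Q R : Subgroup G} {g : G} :
    g ∈ ccent Q R ↔ g ∈ Subgroup.normalizer (R : Set G) ∧ ∀ x ∈ Q, x⁻¹ * (g * x * g⁻¹) ∈ R :=
  Iff.rfl

theorem ccent_normal {Q R : Subgroup G} (hQ : Q.Normal) (hR : R.Normal) : (ccent Q R).Normal := by
  constructor
  rintro g ⟨-, hgx⟩ k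
  refine ⟨by rw [Subgroup.normalizer_eq_top_iff.mpr hR]; trivial, fun x hx => ?_⟩
  have hx' : k⁻¹ * x * k ∈ Q := by
    have := hQ.conj_mem x hx k⁻¹
    rwa [inv_inv] at this
  have e : x⁻¹ * (k * g * k⁻¹ * x * (k * g * k⁻¹)⁻¹) =
      k * ((k⁻¹ * x * k)⁻¹ * (g * (k⁻¹ * x * k) * g⁻¹)) * k⁻¹ := by group
  rw [e]
  exact hR.conj_mem _ (hgx _ hx') k

/-- `O^p(J)` as a subgroup of the ambient group -/
def opSub (p : ℕ) (J : Subgroup G) : Subgroup G := (Cfsg.pResidual p ↥J).map J.subtype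

theorem opSub_le (p : ℕ) (J : Subgroup G) : opSub p J ≤ J := by
  rintro _ ⟨y, -, rfl⟩
  exact y.2

theorem mem_opSub_of_coprime {p : ℕ} {J : Subgroup G} {g : G} (hg : g ∈ J)
    (h : (orderOf g).Coprime p) : g ∈ opSub p J := by
  refine ⟨⟨g, hg⟩, Helper1.mem_pResidual_of_coprime ?_, rfl⟩
  rw [← Subgroup.orderOf_coe]
  exact h

theorem conj_mem_opSub {p : ℕ} {J : Subgroup G} {k : G}
    (hk : k ∈ Subgroup.normalizer (J : Set G)) {o : G} (ho : o ∈ opSub p J) :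
    k * o * k⁻¹ ∈ opSub p J := by
  obtain ⟨y, hy, rfl⟩ := ho
  unfold Cfsg.pResidual at hy
  induction hy using Subgroup.closure_induction with
  | mem x hx =>
    apply mem_opSub_of_coprime (conj_mem_of_mem_normalizer hk x)
    have e : k * (x : G) * k⁻¹ = MulAut.conj k (x : G) := by simp [MulAut.conj_apply]
    show (orderOf (k * (x : G) * k⁻¹)).Coprime p
    rw [e, MulEquiv.orderOf_eq, Subgroup.orderOf_coe]
    exact hx
  | one => simp [Subgroup.one_mem]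
  | mul x y _ _ hx hy =>
    have e : k * J.subtype (x * y) * k⁻¹ = (k * J.subtype x * k⁻¹) * (k * J.subtype y * k⁻¹) := by
      rw [map_mul]; group
    rw [e]
    exact Subgroup.mul_mem _ hx hy
  | inv x _ hx =>
    have e : k * J.subtype x⁻¹ * k⁻¹ = (k * J.subtype x * k⁻¹)⁻¹ := by
      rw [map_inv]; group
    rw [e]
    exact Subgroup.inv_mem _ hx

theorem opSub_normal (p : ℕ) {J : Subgroup G} (hJ : J.Normal) : (opSub p J).Normal :=
  ⟨fun _ ho k => conj_mem_opSub (by rw [Subgroup.normalizer_eq_top_iff.mpr hJ]; trivial) ho⟩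

theorem exists_mul_of_mem [Finite G] {p : ℕ} [Fact p.Prime] {S₀ J : Subgroup G}
    (hS₀ : Helper18.IsSylowIn p S₀ J) {j : G} (hj : j ∈ J) :
    ∃ o ∈ opSub p J, ∃ s ∈ S₀, j = o * s := by
  obtain ⟨P, hP⟩ := hS₀.exists_sylow
  haveI := Helper1.pResidual_normal (G := ↥J) p
  have h1 : (⟨j, hj⟩ : ↥J) ∈ Cfsg.pResidual p ↥J ⊔ (P : Subgroup ↥J) := by
    rw [sup_comm, Helper1.sylow_sup_pResidual P]
    trivial
  obtain ⟨y, hy, z, hz, e⟩ := Subgroup.mem_sup_of_normal_left.mp h1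
  refine ⟨(y : G), ⟨y, hy, rfl⟩, (z : G), ?_, ?_⟩
  · rw [hP] at hz
    exact Subgroup.mem_subgroupOf.mp hz
  · have := congrArg Subtype.val e
    exact this.symm

/-- hyperfocal subgroup theorem, elementwise: if all commutators `x⁻¹ (j x j⁻¹)` with `x, j x j⁻¹ ∈ S₀` lie in
`T₀`, then `S₀ ∩ O^p(J) ≤ T₀` -/
theorem inf_opSub_le [Finite G] {p : ℕ} [Fact p.Prime] {S₀ J T₀ : Subgroup G}
    (hS₀ : Helper18.IsSylowIn p S₀ J)
    (h : ∀ x ∈ S₀, ∀ j ∈ J, j * x * j⁻¹ ∈ S₀ → x⁻¹ * (j * x * j⁻¹) ∈ T₀) :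
    S₀ ⊓ opSub p J ≤ T₀ := by
  obtain ⟨P, hP⟩ := hS₀.exists_sylow
  have h1 := Cfsg.Agent.S5093.result p P
  have h2 : (groupFusionSystem (P : Subgroup ↥J)).hyperfocalSubgroup p ≤ T₀.subgroupOf J := by
    unfold hyperfocalSubgroup
    rw [Subgroup.closure_le]
    rintro y ⟨U, α, x, hUP, -, rfl⟩
    have hα : U.subtype.comp (α : MulAut U).toMonoidHom ∈
        (groupFusionSystem (P : Subgroup ↥J)).Hom U := (mem_autGroup_iff _ hUP).mp α.2
    obtain ⟨-, -, j, hj⟩ := hα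
    have hmemS : ∀ u : U, ((u : ↥J) : G) ∈ S₀ := by
      intro u
      have h3 := hUP u.2
      rw [hP] at h3
      exact Subgroup.mem_subgroupOf.mp h3
    have e : ((((α : MulAut U) x : U) : ↥J) : G) = (j : G) * ((x : ↥J) : G) * (j : G)⁻¹ := by
      have := congrArg Subtype.val (hj x)
      exact this
    rw [SetLike.mem_coe, Subgroup.mem_subgroupOf]
    show (((x : ↥J) : G))⁻¹ * ((((α : MulAut U) x : U) : ↥J) : G) ∈ T₀
    rw [e]
    refine h _ (hmemS x) j j.2 ?_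
    rw [← e]
    exact hmemS _
  rintro z ⟨hzS, ⟨z', hz', rfl⟩⟩
  have h3 : z' ∈ (P : Subgroup ↥J) ⊓ Cfsg.pResidual p ↥J :=
    ⟨by rw [hP]; exact Subgroup.mem_subgroupOf.mpr hzS, hz'⟩
  rw [← h1] at h3
  exact Subgroup.mem_subgroupOf.mp (h2 h3)

/-- a common Sylow subgroup of `H₁` and of a normal subgroup `H₂` is Sylow in the join -/
theorem isSylowIn_sup [Finite G] {p : ℕ} [Fact p.Prime] {T H₁ H₂ : Subgroup G} [H₂.Normal]
    (h₁ : Helper18.IsSylowIn p T H₁) (h₂ : Helper18.IsSylowIn p T H₂) :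
    Helper18.IsSylowIn p T (H₁ ⊔ H₂) := by
  have hp : p.Prime := Fact.out
  refine ⟨h₁.le.trans le_sup_left, h₁.isPGroup, fun hd => ?_⟩
  rw [← Subgroup.relIndex_mul_relIndex T H₁ (H₁ ⊔ H₂) h₁.le le_sup_left,
    Helper18.relIndex_sup_of_normal] at hd
  rcases (Nat.Prime.dvd_mul hp).mp hd with hd | hd
  · exact h₁.not_dvd hd
  · apply h₂.not_dvd
    rw [← Subgroup.relIndex_mul_relIndex T (H₁ ⊓ H₂) H₂ (le_inf h₁.le h₂.le) inf_le_right,
      Subgroup.inf_relIndex_right]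
    exact Dvd.dvd.mul_left hd _

/-- the elements acting trivially on `Q / R` and on `R` form a `p`-group, for a `p`-group `Q` containing its
centralizer -/
theorem isPGroup_ccent_inf_centralizer [Finite G] {p : ℕ} [Fact p.Prime] {Q R : Subgroup G}
    (hQ : IsPGroup p Q) (hCQ : Subgroup.centralizer (Q : Set G) ≤ Q) (hRQ : R ≤ Q) :
    IsPGroup p ↥(ccent Q R ⊓ Subgroup.centralizer (R : Set G)) := by
  apply Helper18.isPGroup_of_forall_coprime_eq_one
  rintro ⟨g, hgA, hgC⟩ hcop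
  rw [← Subgroup.orderOf_coe] at hcop
  have hcop' : (orderOf g).Coprime p := hcop
  have key := comm_mem_of_coprime_chain (N := ⊥) (isOfFinOrder_of_finite g) hcop' hQ hRQ
    (fun x _ n hn => by
      rw [Subgroup.mem_bot] at hn ⊢
      rw [hn]; group)
    (fun n hn => by
      rw [Subgroup.mem_bot] at hn ⊢
      rw [hn]; group)
    hgA.2
    (fun y hy => by
      rw [Subgroup.mem_bot]
      have := Subgroup.mem_centralizer_iff.mp hgC y hy
      rw [← this]; group)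
  have hgQ : g ∈ Q := by
    apply hCQ
    rw [Subgroup.mem_centralizer_iff]
    intro x hx
    have h1 := key x hx
    rw [Subgroup.mem_bot] at h1
    have h2 : g * x * g⁻¹ = x := by
      have : x * (x⁻¹ * (g * x * g⁻¹)) = x * 1 := by rw [h1]
      rwa [mul_inv_cancel_left, mul_one] at this
    calc x * g = g * x * g⁻¹ * g := by rw [h2]
      _ = g * x := by group
  obtain ⟨k, hk⟩ := hQ ⟨g, hgQ⟩
  have hk' : g ^ p ^ k = 1 := congrArg Subtype.val hk
  have h1 : orderOf g ∣ p ^ k := orderOf_dvd_of_pow_eq_one hk'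
  have h2 : orderOf g = 1 :=
    Nat.eq_one_of_dvd_coprimes (Nat.Coprime.pow_right k hcop') dvd_rfl h1
  exact Subtype.ext (orderOf_eq_one_iff.mp h2)

end Cfsg.Agent.Lib.Helper26
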