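import Cfsg.Agent.Lib.Helper26.ConsNorm2
import Cfsg.Agent.S5118

set_option autoImplicit false

namespace Cfsg.Agent.Lib.Helper26

open Cfsg Cfsg.FusionSystem

variable {Ω : Type*} [Group Ω] {S : Subgroup Ω}

theorem conjAut_mul' (P : Subgroup Ω) {g h : Ω} (hg : g ∈ Subgroup.normalizer (P : Set Ω))
    (hh : h ∈ Subgroup.normalizer (P : Set Ω)) (hgh : g * h ∈ Subgroup.normalizer (P : Set Ω)) :
    conjAut P (g * h) hgh = conjAut P g hg * conjAut P h hh := by
  refine MulEquiv.ext fun x => Subtype.ext ?_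
  show g * h * (x : Ω) * (g * h)⁻¹ = g * (h * (x : Ω) * h⁻¹) * g⁻¹
  group

theorem conjAut_inv' (P : Subgroup Ω) {g : Ω} (hg : g ∈ Subgroup.normalizer (P : Set Ω))
    (hg' : g⁻¹ ∈ Subgroup.normalizer (P : Set Ω)) :
    conjAut P g⁻¹ hg' = (conjAut P g hg)⁻¹ := by
  apply eq_inv_of_mul_eq_one_left
  rw [← conjAut_mul' P hg' hg (Subgroup.mul_mem _ hg' hg)]
  refine MulEquiv.ext fun x => Subtype.ext ?_
  rw [conjAut_apply]
  simp

theorem conjAut_pow' (P : Subgroup Ω) {g : Ω} (hg : g ∈ Subgroup.normalizer (P : Set Ω)) (n : ℕ)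
    (hgn : g ^ n ∈ Subgroup.normalizer (P : Set Ω)) :
    conjAut P (g ^ n) hgn = (conjAut P g hg) ^ n := by
  induction n with
  | zero =>
    refine MulEquiv.ext fun x => Subtype.ext ?_
    rw [conjAut_apply]
    simp
  | succ n ih =>
    have h1 : g ^ n ∈ Subgroup.normalizer (P : Set Ω) := Subgroup.pow_mem _ hg n
    have e : conjAut P (g ^ (n + 1)) hgn = conjAut P (g ^ n * g) (Subgroup.mul_mem _ h1 hg) := by
      congr 1
      exact pow_succ g n
    rw [e, conjAut_mul' P h1 hg, ih h1, pow_succ]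

theorem conjAut_eq_iff (P : Subgroup Ω) {g h : Ω} (hg : g ∈ Subgroup.normalizer (P : Set Ω))
    (hh : h ∈ Subgroup.normalizer (P : Set Ω)) :
    conjAut P g hg = conjAut P h hh ↔ ∀ x : P, g * (x : Ω) * g⁻¹ = h * (x : Ω) * h⁻¹ := by
  constructor
  · intro e x
    have := congrArg (fun a : MulAut P => ((a x : P) : Ω)) e
    exact this
  · intro e
    exact MulEquiv.ext fun x => Subtype.ext (e x)

theorem conjAut_one' (P : Subgroup Ω) {g : Ω} (hg : g ∈ Subgroup.normalizer (P : Set Ω))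
    (h : ∀ x : P, g * (x : Ω) * g⁻¹ = x) : conjAut P g hg = 1 :=
  MulEquiv.ext fun x => Subtype.ext (h x)

/-- the elements of the normalizer of `R` inducing on `R` an automorphism in `Aut_E(R)` -/
def autPre {T : Subgroup Ω} (E : FusionSystem T) (R : Subgroup Ω) : Subgroup Ω :=
  ((E.autGroup R).comap (Subgroup.normalizerMonoidHom R)).map (Subgroup.normalizer (R : Set Ω)).subtype

theorem mem_autPre_iff {T : Subgroup Ω} {E : FusionSystem T} {R : Subgroup Ω} {g : Ω} :
    g ∈ autPre E R ↔ ∃ hg : g ∈ Subgroup.normalizer (R : Set Ω), conjAut R g hg ∈ E.autGroup R := by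
  constructor
  · rintro ⟨y, hy, rfl⟩
    exact ⟨y.2, hy⟩
  · rintro ⟨hg, h⟩
    exact ⟨⟨g, hg⟩, h, rfl⟩

theorem conjAut_mem_autGroup_iff (F : FusionSystem S) {P : Subgroup Ω} (hPS : P ≤ S) {g : Ω}
    (hg : g ∈ Subgroup.normalizer (P : Set Ω)) :
    conjAut P g hg ∈ F.autGroup P ↔ conjHom P g ∈ F.Hom P := by
  rw [mem_autGroup_iff F hPS]
  constructor
  · intro h
    exact mem_of_forall_eq F h (fun _ => rfl)
  · intro h
    exact mem_of_forall_eq F h (fun _ => rfl)

/-- restriction of a conjugation automorphism in `Aut_F(P)` to a subgroup normalized by the element -/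
theorem conjAut_restrict_mem (F : FusionSystem S) {P R : Subgroup Ω} (hPS : P ≤ S) (hRP : R ≤ P) {g : Ω}
    (hg : g ∈ Subgroup.normalizer (P : Set Ω)) (hgR : g ∈ Subgroup.normalizer (R : Set Ω))
    (h : conjAut P g hg ∈ F.autGroup P) : conjAut R g hgR ∈ F.autGroup R := by
  rw [conjAut_mem_autGroup_iff F hPS] at h
  rw [conjAut_mem_autGroup_iff F (hRP.trans hPS)]
  exact mem_of_forall_eq F (restrict_mem F h hRP) (fun _ => rfl)

theorem fullyNormalized_of_le_normalizer (F : FusionSystem S) [Finite S] {R : Subgroup Ω}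
    (hRS : R ≤ S) (h : S ≤ Subgroup.normalizer (R : Set Ω)) : F.IsFullyNormalized R := by
  refine ⟨hRS, fun Q _ => ?_⟩
  have h1 : normalizerIn S Q ≤ normalizerIn S R := fun x hx => ⟨hx.1, h hx.1⟩
  have hfin : Finite ↥(normalizerIn S R) := finite_of_le inf_le_left
  exact Nat.card_le_card_of_injective (Subgroup.inclusion h1) (Subgroup.inclusion_injective _)

/-- two saturated `F`-invariant subsystems over `T` with the Frattini property are comparable as soon as
their automorphism groups of `T` are -/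
theorem le_of_autGroup_le [Finite S] {p : ℕ} [Fact p.Prime] (hS : IsPGroup p S)
    {F : FusionSystem S} {T : Subgroup Ω} (hTS : T ≤ S) (E : FusionSystem T) (hE : E.IsSaturated p)
    (hEF : E.IsSubsystemOf F)
    (hEdec : ∀ (P : Subgroup Ω), P ≤ T → ∀ (φ : P →* Ω), φ ∈ F.Hom P → Dec F E P φ)
    (D : FusionSystem T) (hDs : D.IsSaturated p) (hDF : D.IsSubsystemOf F) (hInv : InvCond F D)
    (hdec : ∀ (P : Subgroup Ω), P ≤ T → ∀ (φ : P →* Ω), φ ∈ F.Hom P → Dec F D P φ)
    (hAut : E.autGroup T ≤ D.autGroup T) : E ≤ D := by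
  haveI hfinT : Finite T := finite_of_le hTS
  have hT : IsPGroup p T := hS.to_le hTS
  have C := resCtx_ppCore hT E hE
  have h4 := resSystem_le_of_invariant hS hTS E hE hEF hEdec D hDs hDF hInv hdec C
  have hpp : ppCore E p ≤ D := fun P φ hφ => h4 P (le_resSystem C P hφ)
  intro P φ hφ
  obtain ⟨α, hα, φ₀, hφ₀, e⟩ := dec_ppCore hT E hE hφ
  have hαD : T.subtype.comp α.toMonoidHom ∈ D.Hom T := (mem_autGroup_iff D le_rfl).mp (hAut hα)
  have hφ₀T : ∀ x, φ₀ x ∈ T := ((ppCore E p).le_of_mem hφ₀).2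
  exact mem_of_forall_eq D (D.comp_mem (hpp P hφ₀) hαD hφ₀T) (fun x => e x (hφ₀T x))

section grp

variable {G : Type*} [Group G]

theorem groupFS_conj_mem_of_sc {S T : Subgroup G}
    (hsc : (groupFusionSystem S).StronglyClosed T) {t : G} (ht : t ∈ T) (g : G)
    (h : g * t * g⁻¹ ∈ S) : g * t * g⁻¹ ∈ T := by
  have hP : Subgroup.zpowers t ≤ T := (Subgroup.zpowers_le).mpr ht
  have hφ : conjHom (Subgroup.zpowers t) g ∈ (groupFusionSystem S).Hom (Subgroup.zpowers t) := by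
    refine groupFS_mem_iff.mpr ⟨hP.trans hsc.1, ?_, g, fun _ => rfl⟩
    rintro ⟨x, hx⟩
    obtain ⟨k, rfl⟩ := Subgroup.mem_zpowers_iff.mp hx
    show g * t ^ k * g⁻¹ ∈ S
    rw [← conj_zpow]
    exact S.zpow_mem h k
  exact hsc.2 _ hP _ hφ ⟨t, Subgroup.mem_zpowers t⟩

theorem exists_conjAut_of_mem_groupFS {S P : Subgroup G} (hPS : P ≤ S) {α : MulAut P}
    (hα : α ∈ (groupFusionSystem S).autGroup P) :
    ∃ g : G, ∃ hg : g ∈ Subgroup.normalizer (P : Set G), α = conjAut P g hg := by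
  obtain ⟨-, -, g, hg⟩ := groupFS_mem_iff.mp ((mem_autGroup_iff _ hPS).mp hα)
  have hg' : ∀ x : P, ((α x : P) : G) = g * x * g⁻¹ := hg
  exact ⟨g, mem_normalizer_of_conj_aut hg', MulEquiv.ext fun x => Subtype.ext (hg' x)⟩

theorem conjAut_mem_groupFS {S P : Subgroup G} (hPS : P ≤ S) {g : G}
    (hg : g ∈ Subgroup.normalizer (P : Set G)) :
    conjAut P g hg ∈ (groupFusionSystem S).autGroup P := by
  rw [conjAut_mem_autGroup_iff _ hPS]
  exact groupFS_mem_iff.mpr ⟨hPS, fun x => hPS (conj_mem_of_mem_normalizer hg x), g, fun _ => rfl⟩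

/-- `F_T(H)` is normal in `F_S(G)` for `H` normal in `G` and `T = S ∩ H` -/
theorem subFS_isNormalIn_of_eq [Finite G] {p : ℕ} [Fact p.Prime] (S : Sylow p G) (H : Subgroup G)
    [H.Normal] {T : Subgroup G} (hT : T = (S : Subgroup G) ⊓ H) (hTH : T ≤ H) :
    (fusionSystemOfSubgroup H T hTH).IsNormalIn (groupFusionSystem (S : Subgroup G)) p := by
  subst hT
  exact Cfsg.Agent.S5118.result p S H

theorem autGroup_subFS {H T : Subgroup G} (hTH : T ≤ H) :
    (fusionSystemOfSubgroup H T hTH).autGroup T = autInducedBy H T := by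
  ext α
  rw [mem_autGroup_iff _ le_rfl, mem_autInducedBy_iff, Cfsg.Agent.S5118.subFS_mem_iff]
  constructor
  · rintro ⟨-, -, g, hg, h⟩
    exact ⟨g, hg, h⟩
  · rintro ⟨g, hg, h⟩
    exact ⟨le_rfl, fun x => (α x).2, g, hg, h⟩

end grp

end Cfsg.Agent.Lib.Helper26
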