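import Cfsg.Agent.Lib.Helper26.ConsNorm3

set_option autoImplicit false

namespace Cfsg.Agent.Lib.Helper26

open Cfsg Cfsg.FusionSystem

variable {G : Type*} [Group G]

/-- a normal subsystem `E` over `T` of `F_S(G)`, for a group `G` with a normal `p`-subgroup `Q` containing its
centralizer and every normal `p`-subgroup -/
structure CNData (p : ℕ) (S Q T : Subgroup G) (E : FusionSystem T) : Prop where
  hSyl : Helper18.IsSylowIn p S ⊤
  hQn : Q.Normal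
  hQS : Q ≤ S
  hCQ : Subgroup.centralizer (Q : Set G) ≤ Q
  hQmax : ∀ N : Subgroup G, N.Normal → IsPGroup p N → N ≤ Q
  hTS : T ≤ S
  hsat : E.IsSaturated p
  hEF : E.IsSubsystemOf (groupFusionSystem S)
  hsc : ∀ t ∈ T, ∀ g : G, g * t * g⁻¹ ∈ S → g * t * g⁻¹ ∈ T
  hInv : InvCond (groupFusionSystem S) E
  hdec : ∀ (P : Subgroup G), P ≤ T → ∀ (φ : P →* G), φ ∈ (groupFusionSystem S).Hom P →
    Dec (groupFusionSystem S) E P φ
  hext : ∀ α ∈ E.autGroup T, ∃ g : G, (∀ x : T, ((α x : T) : G) = g * x * g⁻¹) ∧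
    ∀ c ∈ centralizerIn S T, c⁻¹ * (g * c * g⁻¹) ∈ T

/-- the subgroup `J = C_G(Q / R) ∩ N_G^E(R)` for `R = T ∩ Q` -/
def cnJ (Q T : Subgroup G) (E : FusionSystem T) : Subgroup G :=
  ccent Q (T ⊓ Q) ⊓ autPre E (T ⊓ Q)

/-- the normal subgroup `H = O^p(J) T` realizing `E` -/
def cnH (p : ℕ) (Q T : Subgroup G) (E : FusionSystem T) : Subgroup G :=
  opSub p (cnJ Q T E) ⊔ T

namespace CNData

variable [Finite G] {p : ℕ} [Fact p.Prime] {S Q T : Subgroup G} {E : FusionSystem T}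

theorem hSp (D : CNData p S Q T E) : IsPGroup p S := D.hSyl.isPGroup

theorem hQp (D : CNData p S Q T E) : IsPGroup p Q := D.hSp.to_le D.hQS

theorem hTp (D : CNData p S Q T E) : IsPGroup p T := D.hSp.to_le D.hTS

theorem R_normal (D : CNData p S Q T E) : (T ⊓ Q).Normal :=
  ⟨fun n hn g => ⟨D.hsc n hn.1 g (D.hQS (D.hQn.conj_mem n hn.2 g)), D.hQn.conj_mem n hn.2 g⟩⟩

theorem mem_normalizer_R (D : CNData p S Q T E) (y : G) :
    y ∈ Subgroup.normalizer ((T ⊓ Q : Subgroup G) : Set G) := by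
  rw [Subgroup.normalizer_eq_top_iff.mpr D.R_normal]
  trivial

theorem conj_mem_T (D : CNData p S Q T E) {s t : G} (hs : s ∈ S) (ht : t ∈ T) : s * t * s⁻¹ ∈ T :=
  D.hsc t ht s (S.mul_mem (S.mul_mem hs (D.hTS ht)) (S.inv_mem hs))

theorem conj_inv_mem_T (D : CNData p S Q T E) {s t : G} (hs : s ∈ S) (ht : t ∈ T) : s⁻¹ * t * s ∈ T := by
  have := D.conj_mem_T (S.inv_mem hs) ht
  rwa [inv_inv] at this

theorem S_le_normalizer (D : CNData p S Q T E) : S ≤ Subgroup.normalizer (T : Set G) := fun _ hs =>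
  mem_normalizer_of_forall (fun _ hy => D.conj_mem_T hs hy) (fun _ hy => D.conj_inv_mem_T hs hy)

theorem A_normal (D : CNData p S Q T E) : (ccent Q (T ⊓ Q)).Normal := ccent_normal D.hQn D.R_normal

theorem M_normal (D : CNData p S Q T E) : (autPre E (T ⊓ Q)).Normal := by
  constructor
  intro g hg k
  obtain ⟨hgN, hgE⟩ := mem_autPre_iff.mp hg
  have hN := D.mem_normalizer_R
  have hRS : T ⊓ Q ≤ S := inf_le_left.trans D.hTS
  refine mem_autPre_iff.mpr ⟨hN _, ?_⟩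
  have hdec : Dec (groupFusionSystem S) E (T ⊓ Q)
      ((T ⊓ Q).subtype.comp (conjAut (T ⊓ Q) k (hN k)).toMonoidHom) :=
    D.hdec _ inf_le_left _ ((mem_autGroup_iff _ hRS).mp (conjAut_mem_groupFS hRS (hN k)))
  have h1 := congr_mem_autGroup_of_decT D.hInv inf_le_left (conjAut (T ⊓ Q) k (hN k)) hdec hgE
  have e : MulAut.congr (conjAut (T ⊓ Q) k (hN k)) (conjAut (T ⊓ Q) g hgN) =
      conjAut (T ⊓ Q) (k * g * k⁻¹) (hN _) := by
    rw [conjAut_mul' _ (Subgroup.mul_mem _ (hN k) hgN) (hN k⁻¹), conjAut_mul' _ (hN k) hgN,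
      conjAut_inv' _ (hN k)]
    rfl
  rw [e] at h1
  exact h1

theorem J_normal (D : CNData p S Q T E) : (cnJ Q T E).Normal := by
  haveI := D.A_normal
  haveI := D.M_normal
  exact Subgroup.normal_inf_normal _ _

theorem mem_normalizer_J (D : CNData p S Q T E) (y : G) :
    y ∈ Subgroup.normalizer ((cnJ Q T E : Subgroup G) : Set G) := by
  rw [Subgroup.normalizer_eq_top_iff.mpr D.J_normal]
  trivial

theorem T_le_A (D : CNData p S Q T E) : T ≤ ccent Q (T ⊓ Q) := by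
  intro t ht
  refine ⟨D.mem_normalizer_R t, fun x hx => ⟨?_, ?_⟩⟩
  · have e : x⁻¹ * (t * x * t⁻¹) = (x⁻¹ * t * x) * t⁻¹ := by group
    rw [e]
    exact T.mul_mem (D.conj_inv_mem_T (D.hQS hx) ht) (T.inv_mem ht)
  · exact Q.mul_mem (Q.inv_mem hx) (D.hQn.conj_mem x hx t)

theorem T_le_M (D : CNData p S Q T E) : T ≤ autPre E (T ⊓ Q) := fun t ht =>
  mem_autPre_iff.mpr ⟨D.mem_normalizer_R t,
    autInducedBy_le_autGroup E inf_le_left (conjAut_mem_autInducedBy ht (D.mem_normalizer_R t))⟩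

theorem T_le_J (D : CNData p S Q T E) : T ≤ cnJ Q T E := le_inf D.T_le_A D.T_le_M

theorem B_le_Q (D : CNData p S Q T E) :
    ccent Q (T ⊓ Q) ⊓ Subgroup.centralizer ((T ⊓ Q : Subgroup G) : Set G) ≤ Q := by
  haveI := D.A_normal
  haveI := D.R_normal
  exact D.hQmax _ (Subgroup.normal_inf_normal _ _)
    (isPGroup_ccent_inf_centralizer D.hQp D.hCQ inf_le_right)

theorem hS₀ (D : CNData p S Q T E) : Helper18.IsSylowIn p (S ⊓ cnJ Q T E) (cnJ Q T E) :=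
  D.hSyl.inf_of_normal le_top (fun y _ => D.mem_normalizer_J y)

theorem R_fullyNormalized (D : CNData p S Q T E) : E.IsFullyNormalized (T ⊓ Q) := by
  haveI : Finite T := Subtype.finite
  exact fullyNormalized_of_le_normalizer E inf_le_left (fun t _ => D.mem_normalizer_R t)

/-- `S ∩ J ⊆ T Q` -/
theorem exists_mul_of_mem_inf (D : CNData p S Q T E) {s : G} (hsS : s ∈ S) (hsJ : s ∈ cnJ Q T E) :
    ∃ t ∈ T, ∃ b ∈ Q, s = t * b := by
  haveI : Finite T := Subtype.finite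
  haveI : Finite ↥(T ⊓ Q) := Subtype.finite
  obtain ⟨-, hfa, -⟩ := saturated_fullyNormalized D.hTp E D.hsat D.R_fullyNormalized
  have hsyl := isSylowIn18_of_fullyAutomized E hfa
  have hL := hsyl.eq_of_le (R := autInducedBy S (T ⊓ Q) ⊓ E.autGroup (T ⊓ Q)) inf_le_right
    ((isPGroup_autInducedBy D.hSp (T ⊓ Q)).to_le inf_le_left)
    (le_inf (autInducedBy_mono D.hTS (T ⊓ Q)) (autInducedBy_le_autGroup E inf_le_left))
  obtain ⟨hsN, hsE⟩ := mem_autPre_iff.mp hsJ.2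
  have h1 : conjAut (T ⊓ Q) s hsN ∈ autInducedBy T (T ⊓ Q) := by
    rw [← hL]
    exact ⟨conjAut_mem_autInducedBy hsS hsN, hsE⟩
  obtain ⟨t, ht, hte⟩ := mem_autInducedBy_iff.mp h1
  refine ⟨t, ht, t⁻¹ * s, ?_, by group⟩
  apply D.B_le_Q
  refine ⟨(ccent Q (T ⊓ Q)).mul_mem ((ccent Q (T ⊓ Q)).inv_mem (D.T_le_A ht)) hsJ.1, ?_⟩
  show t⁻¹ * s ∈ Subgroup.centralizer ((T ⊓ Q : Subgroup G) : Set G)
  rw [Subgroup.mem_centralizer_iff]
  intro x hx
  have h2 : s * x * s⁻¹ = t * x * t⁻¹ := hte ⟨x, hx⟩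
  calc x * (t⁻¹ * s) = t⁻¹ * (t * x * t⁻¹) * s := by group
    _ = t⁻¹ * (s * x * s⁻¹) * s := by rw [h2]
    _ = t⁻¹ * s * x := by group

/-- the focal-type commutators of `S ∩ J` in `J` lie in `T` -/
theorem comm_mem (D : CNData p S Q T E) {x j : G} (hxS : x ∈ S) (hxJ : x ∈ cnJ Q T E)
    (hj : j ∈ cnJ Q T E) (hjx : j * x * j⁻¹ ∈ S) : x⁻¹ * (j * x * j⁻¹) ∈ T := by
  obtain ⟨t, ht, b, hb, rfl⟩ := D.exists_mul_of_mem_inf hxS hxJ
  have hjb : j * b * j⁻¹ ∈ Q := D.hQn.conj_mem b hb j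
  have hjt : j * t * j⁻¹ ∈ T := by
    apply D.hsc t ht j
    have e : j * t * j⁻¹ = (j * (t * b) * j⁻¹) * (j * b * j⁻¹)⁻¹ := by group
    rw [e]
    exact S.mul_mem hjx (S.inv_mem (D.hQS hjb))
  have hr : b⁻¹ * (j * b * j⁻¹) ∈ T ⊓ Q := hj.1.2 b hb
  have e : (t * b)⁻¹ * (j * (t * b) * j⁻¹) =
      (b⁻¹ * (t⁻¹ * (j * t * j⁻¹)) * b) * (b⁻¹ * (j * b * j⁻¹)) := by group
  rw [e]
  exact T.mul_mem (D.conj_inv_mem_T (D.hQS hb) (T.mul_mem (T.inv_mem ht) hjt)) hr.1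

theorem inf_opSub_le_T (D : CNData p S Q T E) :
    (S ⊓ cnJ Q T E) ⊓ opSub p (cnJ Q T E) ≤ T :=
  inf_opSub_le D.hS₀ (fun _ hx _ hj hjx => D.comm_mem hx.1 hx.2 hj hjx.1)

end CNData

end Cfsg.Agent.Lib.Helper26
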