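import Cfsg.Agent.Lib.Helper26.ConsNorm4

set_option autoImplicit false

namespace Cfsg.Agent.Lib.Helper26

open Cfsg Cfsg.FusionSystem

variable {G : Type*} [Group G]

namespace CNData

variable [Finite G] {p : ℕ} [Fact p.Prime] {S Q T : Subgroup G} {E : FusionSystem T}

theorem OJ_normal (D : CNData p S Q T E) : (opSub p (cnJ Q T E)).Normal := opSub_normal p D.J_normal

theorem H_le_J (D : CNData p S Q T E) : cnH p Q T E ≤ cnJ Q T E := sup_le (opSub_le p _) D.T_le_J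

theorem inf_H_eq (D : CNData p S Q T E) : (S ⊓ cnJ Q T E) ⊓ cnH p Q T E = T := by
  apply le_antisymm
  · rintro x ⟨hxS₀, hxH⟩
    haveI := D.OJ_normal
    obtain ⟨o, ho, t, ht, rfl⟩ := Subgroup.mem_sup_of_normal_left.mp hxH
    have hoS₀ : o ∈ S ⊓ cnJ Q T E := by
      have e : o = (o * t) * t⁻¹ := by group
      rw [e]
      exact Subgroup.mul_mem _ hxS₀ (Subgroup.inv_mem _ ⟨D.hTS ht, D.T_le_J ht⟩)
    exact T.mul_mem (D.inf_opSub_le_T ⟨hoS₀, ho⟩) ht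
  · exact le_inf (le_inf D.hTS D.T_le_J) le_sup_right

theorem S_inf_H (D : CNData p S Q T E) : S ⊓ cnH p Q T E = T := by
  refine Eq.trans ?_ D.inf_H_eq
  ext x
  constructor
  · rintro ⟨h1, h2⟩
    exact ⟨⟨h1, D.H_le_J h2⟩, h2⟩
  · rintro ⟨⟨h1, _⟩, h2⟩
    exact ⟨h1, h2⟩

theorem isSylowIn_H (D : CNData p S Q T E) : Helper18.IsSylowIn p T (cnH p Q T E) := by
  have h := D.hS₀.inf_of_le_sup (N := opSub p (cnJ Q T E)) (L := cnH p Q T E) le_sup_left D.H_le_J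
    (fun k _ => by rw [Subgroup.normalizer_eq_top_iff.mpr D.OJ_normal]; trivial)
    (sup_le le_sup_right (le_sup_of_le_left (le_inf (le_inf D.hTS D.T_le_J) le_sup_right)))
  have key : ∀ X Y K : Subgroup G, X = Y → Helper18.IsSylowIn p X K →
      Helper18.IsSylowIn p Y K := by
    intro X Y K hX hh
    subst hX
    exact hh
  exact key _ _ _ D.inf_H_eq h

theorem conj_mem_H (D : CNData p S Q T E) {t : G} (ht : t ∈ T) (g : G) : g * t * g⁻¹ ∈ cnH p Q T E := by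
  have hT'J : Helper18.conjSub g T ≤ cnJ Q T E := by
    rintro _ ⟨y, hy, rfl⟩
    exact D.J_normal.conj_mem y (D.T_le_J hy) g
  obtain ⟨x, hxJ, hle⟩ := D.hS₀.exists_conj_le hT'J (Helper18.conjSub_isPGroup D.hTp)
  have h1 : x * (g * t * g⁻¹) * x⁻¹ ∈ S ⊓ cnJ Q T E :=
    hle (Helper18.conj_mem_conjSub (Helper18.conj_mem_conjSub ht))
  have h2 : (x * g) * t * (x * g)⁻¹ ∈ T := by
    apply D.hsc t ht
    have e : (x * g) * t * (x * g)⁻¹ = x * (g * t * g⁻¹) * x⁻¹ := by group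
    rw [e]
    exact h1.1
  obtain ⟨o, ho, s, hs, e⟩ := exists_mul_of_mem D.hS₀ ((cnJ Q T E).inv_mem hxJ)
  have hx : x = (o * s)⁻¹ := by rw [← e, inv_inv]
  subst hx
  have e2 : g * t * g⁻¹ = o * (s * ((o * s)⁻¹ * g * t * ((o * s)⁻¹ * g)⁻¹) * s⁻¹) * o⁻¹ := by group
  rw [e2]
  have hoH : o ∈ cnH p Q T E := (le_sup_left : opSub p (cnJ Q T E) ≤ cnH p Q T E) ho
  exact Subgroup.mul_mem _ (Subgroup.mul_mem _ hoH
    ((le_sup_right : T ≤ cnH p Q T E) (D.conj_mem_T hs.1 h2))) (Subgroup.inv_mem _ hoH)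

theorem H_normal (D : CNData p S Q T E) : (cnH p Q T E).Normal := by
  haveI := D.OJ_normal
  constructor
  intro n hn g
  obtain ⟨o, ho, t, ht, rfl⟩ := Subgroup.mem_sup_of_normal_left.mp hn
  have e : g * (o * t) * g⁻¹ = (g * o * g⁻¹) * (g * t * g⁻¹) := by group
  rw [e]
  exact Subgroup.mul_mem _ ((le_sup_left : opSub p (cnJ Q T E) ≤ cnH p Q T E)
    (D.OJ_normal.conj_mem o ho g)) (D.conj_mem_H ht g)

end CNData

end Cfsg.Agent.Lib.Helper26
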