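import Cfsg.Agent.Lib.Helper26.ConsNorm5

set_option autoImplicit false

namespace Cfsg.Agent.Lib.Helper26

open Cfsg Cfsg.FusionSystem

variable {G : Type*} [Group G]

namespace CNData

variable [Finite G] {p : ℕ} [Fact p.Prime] {S Q T : Subgroup G} {E : FusionSystem T}

theorem isSylowIn_inn (D : CNData p S Q T E) :
    Helper18.IsSylowIn p (autInducedBy T T) (E.autGroup T) := by
  haveI : Finite T := Subtype.finite
  obtain ⟨-, hfa, -⟩ := saturated_fullyNormalized D.hTp E D.hsat (top_fullyNormalized E)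
  exact isSylowIn18_of_fullyAutomized E hfa

/-- `Aut_Q(T) ∩ Aut_E(T)` consists of inner automorphisms of `T` -/
theorem autQ_inf_le (D : CNData p S Q T E) :
    autInducedBy Q T ⊓ E.autGroup T ≤ autInducedBy T T := by
  haveI : Finite T := Subtype.finite
  refine le_of_isSylowIn_of_normal D.isSylowIn_inn inf_le_right
    ((isPGroup_autInducedBy D.hQp T).to_le inf_le_left) ?_
  rintro a ha l ⟨hlQ, hlE⟩
  refine ⟨?_, Subgroup.mul_mem _ (Subgroup.mul_mem _ (Subgroup.inv_mem _ ha) hlE) ha⟩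
  obtain ⟨k, hk, rfl⟩ := exists_conjAut_of_mem_groupFS D.hTS (autGroup_mono_of_subsystem D.hEF T ha)
  obtain ⟨q, hq, hql⟩ := mem_autInducedBy_iff.mp hlQ
  have hk' : k⁻¹ ∈ Subgroup.normalizer (T : Set G) := Subgroup.inv_mem _ hk
  rw [← conjAut_inv' T hk hk']
  refine mem_autInducedBy_iff.mpr ⟨k⁻¹ * q * k, ?_, fun x => ?_⟩
  · have := D.hQn.conj_mem q hq k⁻¹
    rwa [inv_inv] at this
  · show k⁻¹ * ((l (conjAut T k hk x) : T) : G) * k⁻¹⁻¹ = _
    rw [hql, conjAut_apply]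
    group

/-- for `g'` inducing an automorphism of `T` in `Aut_E(T)` and `x ∈ Q`, the commutator of `x` and `g'` lies in
`Q ∩ T C_S(T)` -/
theorem comm_mem_sup (D : CNData p S Q T E) {g' : G} (hg'N : g' ∈ Subgroup.normalizer (T : Set G))
    (hg'E : conjAut T g' hg'N ∈ E.autGroup T) {x : G} (hx : x ∈ Q) :
    x⁻¹ * (g' * x * g'⁻¹) ∈ Q ⊓ (T ⊔ centralizerIn S T) := by
  have hyQ : x⁻¹ * (g' * x * g'⁻¹) ∈ Q := Q.mul_mem (Q.inv_mem hx) (D.hQn.conj_mem x hx g')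
  refine ⟨hyQ, ?_⟩
  have hxN : x ∈ Subgroup.normalizer (T : Set G) := D.S_le_normalizer (D.hQS hx)
  have hxN' : x⁻¹ ∈ Subgroup.normalizer (T : Set G) := Subgroup.inv_mem _ hxN
  have hg'N' : g'⁻¹ ∈ Subgroup.normalizer (T : Set G) := Subgroup.inv_mem _ hg'N
  have hgx : g' * x ∈ Subgroup.normalizer (T : Set G) := Subgroup.mul_mem _ hg'N hxN
  have hgxg : g' * x * g'⁻¹ ∈ Subgroup.normalizer (T : Set G) := Subgroup.mul_mem _ hgx hg'N'
  have hyN : x⁻¹ * (g' * x * g'⁻¹) ∈ Subgroup.normalizer (T : Set G) := Subgroup.mul_mem _ hxN' hgxg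
  have hξF : conjAut T x hxN ∈ (groupFusionSystem S).autGroup T := conjAut_mem_groupFS D.hTS hxN
  have e : conjAut T (x⁻¹ * (g' * x * g'⁻¹)) hyN =
      ((conjAut T x hxN)⁻¹ * conjAut T g' hg'N * (conjAut T x hxN)⁻¹⁻¹) * (conjAut T g' hg'N)⁻¹ := by
    rw [conjAut_mul' T hxN' hgxg, conjAut_mul' T hgx hg'N', conjAut_mul' T hg'N hxN,
      conjAut_inv' T hxN hxN', conjAut_inv' T hg'N hg'N']
    group
  have hmemE : conjAut T (x⁻¹ * (g' * x * g'⁻¹)) hyN ∈ E.autGroup T := by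
    rw [e]
    exact Subgroup.mul_mem _ (conj_mem_autGroup_of_invCond D.hInv hg'E (Subgroup.inv_mem _ hξF))
      (Subgroup.inv_mem _ hg'E)
  have h1 := D.autQ_inf_le ⟨conjAut_mem_autInducedBy hyQ hyN, hmemE⟩
  obtain ⟨t, ht, hte⟩ := mem_autInducedBy_iff.mp h1
  have e2 : x⁻¹ * (g' * x * g'⁻¹) = t * (t⁻¹ * (x⁻¹ * (g' * x * g'⁻¹))) := by group
  rw [e2]
  refine Subgroup.mul_mem_sup ht ⟨S.mul_mem (S.inv_mem (D.hTS ht)) (D.hQS hyQ), ?_⟩
  show t⁻¹ * (x⁻¹ * (g' * x * g'⁻¹)) ∈ Subgroup.centralizer (T : Set G)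
  rw [Subgroup.mem_centralizer_iff]
  intro z hz
  have h2 : (x⁻¹ * (g' * x * g'⁻¹)) * z * (x⁻¹ * (g' * x * g'⁻¹))⁻¹ = t * z * t⁻¹ := hte ⟨z, hz⟩
  calc z * (t⁻¹ * (x⁻¹ * (g' * x * g'⁻¹)))
      = t⁻¹ * (t * z * t⁻¹) * (x⁻¹ * (g' * x * g'⁻¹)) := by group
    _ = t⁻¹ * ((x⁻¹ * (g' * x * g'⁻¹)) * z * (x⁻¹ * (g' * x * g'⁻¹))⁻¹) * (x⁻¹ * (g' * x * g'⁻¹)) := by
        rw [h2]
    _ = t⁻¹ * (x⁻¹ * (g' * x * g'⁻¹)) * z := by group

/-- every element of `Aut_E(T)` of order prime to `p` is induced by an element of `O^p(J)` -/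
theorem pprime_mem (D : CNData p S Q T E) {α : MulAut T} (hα : α ∈ E.autGroup T)
    (hcop : (orderOf α).Coprime p) : α ∈ autInducedBy (opSub p (cnJ Q T E)) T := by
  obtain ⟨g, hgα, hgc⟩ := D.hext α hα
  have hgN : g ∈ Subgroup.normalizer (T : Set G) := mem_normalizer_of_conj_aut hgα
  have hαg : α = conjAut T g hgN := MulEquiv.ext fun x => Subtype.ext (hgα x)
  obtain ⟨m, n', hm1, hn', h4, h6⟩ := exists_pprime_pow p (isOfFinOrder_of_finite g)
  have hg'N : g ^ m ∈ Subgroup.normalizer (T : Set G) := Subgroup.pow_mem _ hgN m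
  have hαN : α ^ orderOf g = 1 := by
    rw [hαg, ← conjAut_pow' T hgN _ (Subgroup.pow_mem _ hgN _)]
    refine conjAut_one' T _ (fun x => ?_)
    rw [pow_orderOf_eq_one]
    simp
  have hαg' : α = conjAut T (g ^ m) hg'N := by
    rw [conjAut_pow' T hgN m hg'N, ← hαg]
    exact (pow_eq_self_of_pprime hαN hcop h4 h6).symm
  have hg'E : conjAut T (g ^ m) hg'N ∈ E.autGroup T := hαg' ▸ hα
  have hgX : g ∈ ccent (centralizerIn S T) T := ⟨hgN, hgc⟩
  have hg'X : g ^ m ∈ ccent (centralizerIn S T) T := Subgroup.pow_mem _ hgX m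
  have hK : T ⊔ centralizerIn S T ≤ commSub T (g ^ m) := by
    refine sup_le (fun t ht => ⟨Subgroup.le_normalizer ht, ?_⟩)
      (fun c hc => ⟨D.S_le_normalizer hc.1, hg'X.2 c hc⟩)
    exact T.mul_mem (T.inv_mem ht) (conj_mem_of_mem_normalizer hg'N ⟨t, ht⟩)
  have hchain := comm_mem_of_coprime_chain (N₂ := Q ⊓ (T ⊔ centralizerIn S T)) (N := T ⊓ Q)
    (isOfFinOrder_of_finite (g ^ m)) hm1 D.hQp inf_le_left
    (fun x _ n hn => D.R_normal.conj_mem' n hn x)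
    (fun n hn => D.R_normal.conj_mem n hn (g ^ m))
    (fun x hx => D.comm_mem_sup hg'N hg'E hx)
    (fun y hy => ⟨(hK hy.2).2, Q.mul_mem (Q.inv_mem hy.1) (D.hQn.conj_mem y hy.1 (g ^ m))⟩)
  have hg'A : g ^ m ∈ ccent Q (T ⊓ Q) := ⟨D.mem_normalizer_R _, hchain⟩
  have hg'M : g ^ m ∈ autPre E (T ⊓ Q) :=
    mem_autPre_iff.mpr ⟨D.mem_normalizer_R _,
      conjAut_restrict_mem E le_rfl inf_le_left hg'N (D.mem_normalizer_R _) hg'E⟩
  rw [hαg']
  have hg'J : g ^ m ∈ cnJ Q T E := ⟨hg'A, hg'M⟩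
  exact conjAut_mem_autInducedBy (mem_opSub_of_coprime hg'J hm1) hg'N

/-- `Aut_E(T) ≤ Aut_H(T)` -/
theorem autGroup_le (D : CNData p S Q T E) : E.autGroup T ≤ autInducedBy (cnH p Q T E) T := by
  haveI : Finite T := Subtype.finite
  obtain ⟨-, hfa, -⟩ := saturated_fullyNormalized D.hTp E D.hsat (top_fullyNormalized E)
  obtain ⟨P, hP⟩ := hfa.2
  have h1 := Helper1.sylow_sup_pResidual P
  have h2 : (P : Subgroup ↥(E.autGroup T)) ≤
      (autInducedBy (cnH p Q T E) T).subgroupOf (E.autGroup T) := by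
    rw [hP]
    exact Subgroup.comap_mono (autInducedBy_mono le_sup_right T)
  have h3 : Cfsg.pResidual p ↥(E.autGroup T) ≤
      (autInducedBy (cnH p Q T E) T).subgroupOf (E.autGroup T) := by
    unfold Cfsg.pResidual
    rw [Subgroup.closure_le]
    intro a ha
    rw [SetLike.mem_coe, Subgroup.mem_subgroupOf]
    refine autInducedBy_mono le_sup_left T (D.pprime_mem a.2 ?_)
    rw [Subgroup.orderOf_coe]
    exact ha
  intro α hα
  have h4 : (⟨α, hα⟩ : E.autGroup T) ∈ (⊤ : Subgroup ↥(E.autGroup T)) := trivial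
  rw [← h1] at h4
  exact Subgroup.mem_subgroupOf.mp (sup_le h2 h3 h4)

end CNData

end Cfsg.Agent.Lib.Helper26
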