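import Cfsg.Agent.Lib.Helper26.ConsNorm6

set_option autoImplicit false

namespace Cfsg.Agent.Lib.Helper26

open Cfsg Cfsg.FusionSystem

variable {G : Type*} [Group G]

namespace CNData

variable [Finite G] {p : ℕ} [Fact p.Prime] {S Q T : Subgroup G} {E : FusionSystem T}

/-- `Aut_H(T) ≤ Aut_E(T)` -/
theorem le_autGroup (D : CNData p S Q T E) : autInducedBy (cnH p Q T E) T ≤ E.autGroup T := by
  haveI : Finite T := Subtype.finite
  intro α hα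
  obtain ⟨h, hhH, hhα⟩ := mem_autInducedBy_iff.mp hα
  have hhN : h ∈ Subgroup.normalizer (T : Set G) := mem_normalizer_of_conj_aut hhα
  have hαh : α = conjAut T h hhN := MulEquiv.ext fun x => Subtype.ext (hhα x)
  have hhJ : h ∈ cnJ Q T E := D.H_le_J hhH
  obtain ⟨hhR, hβ⟩ := mem_autPre_iff.mp hhJ.2
  obtain ⟨-, -, hrec⟩ := saturated_fullyNormalized D.hTp E D.hsat D.R_fullyNormalized
  have hTR : T ≤ Subgroup.normalizer ((T ⊓ Q : Subgroup G) : Set G) := fun t _ => D.mem_normalizer_R t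
  obtain ⟨Ψ, hΨ, hΨe⟩ := exists_extend_of_conj_mem E hrec hβ (P₀ := autInducedBy T (T ⊓ Q)) le_rfl
    (by
      intro π hπ
      obtain ⟨t, ht, hte⟩ := mem_autInducedBy_iff.mp hπ
      refine mem_autInducedBy_iff.mpr ⟨h * t * h⁻¹, conj_mem_of_mem_normalizer hhN ⟨t, ht⟩, fun x => ?_⟩
      have hh' : h⁻¹ ∈ Subgroup.normalizer ((T ⊓ Q : Subgroup G) : Set G) := Subgroup.inv_mem _ hhR
      rw [← conjAut_inv' (T ⊓ Q) hhR hh']
      show h * ((π (conjAut (T ⊓ Q) h⁻¹ hh' x) : ↥(T ⊓ Q)) : G) * h⁻¹ = _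
      rw [hte, conjAut_apply]
      group)
    (G₀ := T) le_rfl hTR (fun g hg => conjAut_mem_autInducedBy hg (hTR hg))
  have hΨ' : Ψ.comp (Subgroup.inclusion (le_sup_left : T ≤ T ⊔ (T ⊓ Q))) ∈ E.Hom T :=
    restrict_mem E hΨ le_sup_left
  obtain ⟨-, -, g₁, hg₁⟩ := groupFS_mem_iff.mp (D.hEF T hΨ')
  have hΨ'T : ∀ x : T, (Ψ.comp (Subgroup.inclusion (le_sup_left : T ≤ T ⊔ (T ⊓ Q)))) x ∈ T :=
    (E.le_of_mem hΨ').2
  have hg₁N : g₁ ∈ Subgroup.normalizer (T : Set G) := by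
    apply Helper18.mem_normalizer_of_conjSub_le
    rintro _ ⟨y, hy, rfl⟩
    have := hΨ'T ⟨y, hy⟩
    rw [hg₁] at this
    exact this
  have hγE : conjAut T g₁ hg₁N ∈ E.autGroup T := by
    rw [mem_autGroup_iff E le_rfl]
    exact mem_of_forall_eq E hΨ' (fun x => (hg₁ x).symm)
  obtain ⟨h', hh'H, hh'e⟩ := mem_autInducedBy_iff.mp (D.autGroup_le hγE)
  have hh'e' : ∀ x : T, g₁ * (x : G) * g₁⁻¹ = h' * (x : G) * h'⁻¹ := hh'e
  have hh'N : h' ∈ Subgroup.normalizer (T : Set G) := mem_normalizer_of_conj_aut hh'e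
  have hRe : ∀ y : ↥(T ⊓ Q), h' * (y : G) * h'⁻¹ = h * (y : G) * h⁻¹ := by
    intro y
    rw [← hh'e' ⟨y, y.2.1⟩, ← hg₁ ⟨y, y.2.1⟩]
    exact hΨe y
  have hdH : h'⁻¹ * h ∈ cnH p Q T E := Subgroup.mul_mem _ (Subgroup.inv_mem _ hh'H) hhH
  have hdB : h'⁻¹ * h ∈ ccent Q (T ⊓ Q) ⊓ Subgroup.centralizer ((T ⊓ Q : Subgroup G) : Set G) := by
    refine ⟨(D.H_le_J hdH).1, ?_⟩
    show h'⁻¹ * h ∈ Subgroup.centralizer ((T ⊓ Q : Subgroup G) : Set G)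
    rw [Subgroup.mem_centralizer_iff]
    intro y hy
    have h2 := hRe ⟨y, hy⟩
    calc y * (h'⁻¹ * h) = h'⁻¹ * (h' * y * h'⁻¹) * h := by group
      _ = h'⁻¹ * (h * y * h⁻¹) * h := by rw [h2]
      _ = h'⁻¹ * h * y := by group
  have hdT : h'⁻¹ * h ∈ T := by
    have h5 : h'⁻¹ * h ∈ S ⊓ cnH p Q T E := ⟨D.hQS (D.B_le_Q hdB), hdH⟩
    exact D.S_inf_H ▸ h5
  have hdN : h'⁻¹ * h ∈ Subgroup.normalizer (T : Set G) := Subgroup.le_normalizer hdT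
  have hfin : α = conjAut T g₁ hg₁N * conjAut T (h'⁻¹ * h) hdN := by
    rw [hαh]
    refine MulEquiv.ext fun x => Subtype.ext ?_
    show h * (x : G) * h⁻¹ = g₁ * ((h'⁻¹ * h) * (x : G) * (h'⁻¹ * h)⁻¹) * g₁⁻¹
    have h6 := hh'e' ⟨(h'⁻¹ * h) * (x : G) * (h'⁻¹ * h)⁻¹, conj_mem_of_mem_normalizer hdN x⟩
    rw [h6]
    group
  rw [hfin]
  exact Subgroup.mul_mem _ hγE
    (autInducedBy_le_autGroup E le_rfl (conjAut_mem_autInducedBy hdT hdN))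

end CNData

end Cfsg.Agent.Lib.Helper26
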