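import Cfsg.Agent.Lib.Helper26.ConsNorm7

set_option autoImplicit false

namespace Cfsg.Agent.Lib.Helper26

open Cfsg Cfsg.FusionSystem

variable {G : Type*} [Group G]

namespace CNData

variable [Finite G] {p : ℕ} [Fact p.Prime] {S Q T : Subgroup G} {E : FusionSystem T}

theorem S_inf_eq_of_sylow (D : CNData p S Q T E) {K : Subgroup G} (hs : Helper18.IsSylowIn p T K) :
    S ⊓ K = T :=
  hs.eq_of_le inf_le_right (D.hSp.to_le inf_le_left) (le_inf D.hTS hs.le)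

theorem le_A_of_sylow (D : CNData p S Q T E) {K : Subgroup G} (hn : K.Normal)
    (hs : Helper18.IsSylowIn p T K) : K ≤ ccent Q (T ⊓ Q) := by
  intro h hh
  refine ⟨D.mem_normalizer_R h, fun x hx => ?_⟩
  have hQm : x⁻¹ * (h * x * h⁻¹) ∈ Q := Q.mul_mem (Q.inv_mem hx) (D.hQn.conj_mem x hx h)
  have hKm : x⁻¹ * (h * x * h⁻¹) ∈ K := by
    have e : x⁻¹ * (h * x * h⁻¹) = (x⁻¹ * h * x⁻¹⁻¹) * h⁻¹ := by group
    rw [e]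
    exact K.mul_mem (hn.conj_mem h hh x⁻¹) (K.inv_mem hh)
  have hT : x⁻¹ * (h * x * h⁻¹) ∈ S ⊓ K := ⟨D.hQS hQm, hKm⟩
  rw [D.S_inf_eq_of_sylow hs] at hT
  exact ⟨hT, hQm⟩

/-- a normal subgroup with Sylow subgroup `T` is determined by the automorphisms it induces on `T` -/
theorem le_of_aut_le (D : CNData p S Q T E) {H₁ H₂ : Subgroup G} (hn₁ : H₁.Normal) (hn₂ : H₂.Normal)
    (hs₁ : Helper18.IsSylowIn p T H₁) (hs₂ : Helper18.IsSylowIn p T H₂)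
    (haut : autInducedBy H₁ T ≤ autInducedBy H₂ T) : H₁ ≤ H₂ := by
  haveI := hn₁
  haveI := hn₂
  have hsX : Helper18.IsSylowIn p T (H₁ ⊔ H₂) := isSylowIn_sup hs₁ hs₂
  have hsL : Helper18.IsSylowIn p T (H₁ ⊓ H₂) := hs₁.of_le (le_inf hs₁.le hs₂.le) inf_le_left
  have hLn : (H₁ ⊓ H₂).Normal := Subgroup.normal_inf_normal _ _
  intro g hg
  obtain ⟨n, hn, hng⟩ := hsL.frattini (g := g)
    (by rw [Subgroup.normalizer_eq_top_iff.mpr hLn]; trivial)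
  have hhH₁ : n * g ∈ H₁ := H₁.mul_mem hn.1 hg
  obtain ⟨h₂, hh₂, hh₂e⟩ := mem_autInducedBy_iff.mp (haut (conjAut_mem_autInducedBy hhH₁ hng))
  have hh₂e' : ∀ x : T, (n * g) * (x : G) * (n * g)⁻¹ = h₂ * (x : G) * h₂⁻¹ := hh₂e
  have hkX : h₂⁻¹ * (n * g) ∈ H₁ ⊔ H₂ :=
    Subgroup.mul_mem _ (Subgroup.inv_mem _ ((le_sup_right : H₂ ≤ H₁ ⊔ H₂) hh₂))
      ((le_sup_left : H₁ ≤ H₁ ⊔ H₂) hhH₁)
  have hkA : h₂⁻¹ * (n * g) ∈ ccent Q (T ⊓ Q) :=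
    Subgroup.mul_mem _ (Subgroup.inv_mem _ (D.le_A_of_sylow hn₂ hs₂ hh₂)) (D.le_A_of_sylow hn₁ hs₁ hhH₁)
  have hkC : h₂⁻¹ * (n * g) ∈ Subgroup.centralizer ((T ⊓ Q : Subgroup G) : Set G) := by
    rw [Subgroup.mem_centralizer_iff]
    intro y hy
    have h2 := hh₂e' ⟨y, hy.1⟩
    calc y * (h₂⁻¹ * (n * g)) = h₂⁻¹ * (h₂ * y * h₂⁻¹) * (n * g) := by group
      _ = h₂⁻¹ * ((n * g) * y * (n * g)⁻¹) * (n * g) := by rw [h2]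
      _ = h₂⁻¹ * (n * g) * y := by group
  have hkT : h₂⁻¹ * (n * g) ∈ S ⊓ (H₁ ⊔ H₂) := ⟨D.hQS (D.B_le_Q ⟨hkA, hkC⟩), hkX⟩
  rw [D.S_inf_eq_of_sylow hsX] at hkT
  have e : g = n⁻¹ * (h₂ * (h₂⁻¹ * (n * g))) := by group
  rw [e]
  exact H₂.mul_mem (H₂.inv_mem hn.2) (H₂.mul_mem hh₂ (hs₂.le hkT))

end CNData

end Cfsg.Agent.Lib.Helper26
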