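import Cfsg.Agent.Lib.Helper26.ConsNorm8

set_option autoImplicit false

namespace Cfsg.Agent.Lib.Helper26

open Cfsg Cfsg.FusionSystem

variable {G : Type*} [Group G]

theorem cnData_of_normal [Finite G] (p : ℕ) [Fact p.Prime] (S : Sylow p G)
    (hG : Subgroup.centralizer ((Cfsg.pCore p G : Subgroup G) : Set G) ≤ Cfsg.pCore p G)
    (T : Subgroup G) (hTS : T ≤ S) (E : FusionSystem T)
    (hE : E.IsNormalIn (groupFusionSystem (S : Subgroup G)) p) :
    CNData p (S : Subgroup G) (Cfsg.pCore p G) T E where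
  hSyl := Helper18.isSylowIn_top_of_sylow S
  hQn := Helper18.pCore_normal_h18 p G
  hQS := helper23.pCore_le_sylow S
  hCQ := hG
  hQmax := fun _ hN hp => Helper18.le_pCore hN hp
  hTS := hTS
  hsat := hE.1.1
  hEF := hE.1.2.2.1
  hsc := fun _ ht g h => groupFS_conj_mem_of_sc hE.1.2.2.2.1 ht g h
  hInv := hE.1.2.2.2.2.1
  hdec := hE.1.2.2.2.2.2
  hext := by
    intro α hα
    obtain ⟨β, hβ, hβα, hβc⟩ := hE.2 α hα
    have hKS : T ⊔ centralizerIn (S : Subgroup G) T ≤ (S : Subgroup G) := sup_le hTS inf_le_left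
    obtain ⟨-, -, g, hg⟩ := groupFS_mem_iff.mp ((mem_autGroup_iff _ hKS).mp hβ)
    have hg' : ∀ x : ↥(T ⊔ centralizerIn (S : Subgroup G) T),
        ((β x : ↥(T ⊔ centralizerIn (S : Subgroup G) T)) : G) = g * (x : G) * g⁻¹ := hg
    refine ⟨g, fun x => ?_, fun c hc => ?_⟩
    · rw [← hβα x]
      exact hg' (Subgroup.inclusion le_sup_left x)
    · have h1 := hβc ⟨c, (le_sup_right : centralizerIn (S : Subgroup G) T ≤ _) hc⟩ hc
      rw [hg'] at h1
      exact h1.1

/-- a normal subgroup `K` with Sylow subgroup `T` inducing `Aut_E(T)` on `T` realizes `E` -/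
theorem hom_eq_of_aut_eq [Finite G] {p : ℕ} [Fact p.Prime] (S : Sylow p G) {T : Subgroup G} (hTS : T ≤ S)
    {E : FusionSystem T} (hE : E.IsNormalIn (groupFusionSystem (S : Subgroup G)) p)
    {K : Subgroup G} (hKn : K.Normal) (hs : Helper18.IsSylowIn p T K)
    (haut : autInducedBy K T = E.autGroup T) (P : Subgroup G) :
    E.Hom P = (fusionSystemOfSubgroup K T hs.le).Hom P := by
  haveI := hKn
  have hT : T = (S : Subgroup G) ⊓ K :=
    (hs.eq_of_le inf_le_right (S.isPGroup'.to_le inf_le_left) (le_inf hTS hs.le)).symm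
  have hE' := subFS_isNormalIn_of_eq S K hT hs.le
  have h1 : E ≤ fusionSystemOfSubgroup K T hs.le :=
    le_of_autGroup_le S.isPGroup' hTS E hE.1.1 hE.1.2.2.1 hE.1.2.2.2.2.2 _ hE'.1.1 hE'.1.2.2.1
      hE'.1.2.2.2.2.1 hE'.1.2.2.2.2.2 (by rw [autGroup_subFS]; exact haut.ge)
  have h2 : fusionSystemOfSubgroup K T hs.le ≤ E :=
    le_of_autGroup_le S.isPGroup' hTS _ hE'.1.1 hE'.1.2.2.1 hE'.1.2.2.2.2.2 E hE.1.1 hE.1.2.2.1
      hE.1.2.2.2.2.1 hE.1.2.2.2.2.2 (by rw [autGroup_subFS]; exact haut.le)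
  exact Set.Subset.antisymm (h1 P) (h2 P)

theorem isSylowIn_of_exists_sylow [Finite G] {p : ℕ} [Fact p.Prime] {T K : Subgroup G} (hTK : T ≤ K)
    (h : ∃ R : Sylow p K, (R : Subgroup K) = T.subgroupOf K) : Helper18.IsSylowIn p T K := by
  obtain ⟨R, hR⟩ := h
  have h1 := Helper18.isSylowIn_of_sylow R
  rw [hR, Subgroup.map_subgroupOf_eq_of_le hTK] at h1
  exact h1

theorem aut_eq_of_hom_eq {T K : Subgroup G} (hTK : T ≤ K) {E : FusionSystem T}
    (h : ∀ P : Subgroup G, E.Hom P = (fusionSystemOfSubgroup K T hTK).Hom P) :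
    autInducedBy K T = E.autGroup T := by
  rw [← autGroup_subFS hTK]
  unfold FusionSystem.autGroup
  rw [h T]

/-- AKO II.7.? / Aschbacher: the normal subsystems of the fusion system of a strictly `p`-constrained group are
realized by unique normal subgroups -/
theorem exists_unique_realizing_normal [Finite G] (p : ℕ) [Fact p.Prime] (S : Sylow p G)
    (hG : Subgroup.centralizer ((Cfsg.pCore p G : Subgroup G) : Set G) ≤ Cfsg.pCore p G)
    (T : Subgroup G) (hTS : T ≤ S) (E : FusionSystem T)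
    (hE : E.IsNormalIn (groupFusionSystem (S : Subgroup G)) p) :
    ∃ H : Subgroup G, (∃ hTH : T ≤ H, H.Normal ∧ (∃ R : Sylow p H, (R : Subgroup H) = T.subgroupOf H) ∧
        ∀ P : Subgroup G, E.Hom P = (fusionSystemOfSubgroup H T hTH).Hom P) ∧
      ∀ H' : Subgroup G, (∃ hTH' : T ≤ H', H'.Normal ∧
        (∃ R : Sylow p H', (R : Subgroup H') = T.subgroupOf H') ∧
        ∀ P : Subgroup G, E.Hom P = (fusionSystemOfSubgroup H' T hTH').Hom P) → H' = H := by
  have D := cnData_of_normal p S hG T hTS E hE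
  refine ⟨cnH p (Cfsg.pCore p G) T E, ⟨le_sup_right, D.H_normal, D.isSylowIn_H.exists_sylow,
    hom_eq_of_aut_eq S hTS hE D.H_normal D.isSylowIn_H (le_antisymm D.le_autGroup D.autGroup_le)⟩, ?_⟩
  rintro H' ⟨hTH', hn', hR, hHom⟩
  have hs' : Helper18.IsSylowIn p T H' := isSylowIn_of_exists_sylow hTH' hR
  have haut' : autInducedBy H' T = E.autGroup T := aut_eq_of_hom_eq hTH' hHom
  exact le_antisymm
    (D.le_of_aut_le hn' D.H_normal hs' D.isSylowIn_H (haut'.le.trans D.autGroup_le))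
    (D.le_of_aut_le D.H_normal hn' D.isSylowIn_H hs' (D.le_autGroup.trans haut'.ge))

end Cfsg.Agent.Lib.Helper26
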