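import Cfsg.Agent.Lib.Helper26.KNorm7
import Cfsg.Agent.Lib.Helper26.FusionSat3

set_option autoImplicit false

namespace Cfsg.Agent.Lib.Helper26

open Cfsg Cfsg.FusionSystem

variable {Ω : Type*} [Group Ω] {S : Subgroup Ω}

/-- `A ≤ S` and every element of `S` is a product of an element of `A` and an element
commuting with all of `A`. -/
def IsCentralFactor (S A : Subgroup Ω) : Prop :=
  A ≤ S ∧ ∀ g ∈ S, ∃ a ∈ A, ∃ b : Ω, (∀ x ∈ A, b * x = x * b) ∧ g = a * b

theorem autInducedBy_eq_of_centralFactor {A : Subgroup Ω} (h : IsCentralFactor S A)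
    {Q : Subgroup Ω} (hQ : Q ≤ A) : autInducedBy A Q = autInducedBy S Q := by
  ext α
  rw [mem_autInducedBy_iff, mem_autInducedBy_iff]
  constructor
  · rintro ⟨g, hg, hgα⟩
    exact ⟨g, h.1 hg, hgα⟩
  · rintro ⟨g, hg, hgα⟩
    obtain ⟨a, ha, b, hb, rfl⟩ := h.2 g hg
    refine ⟨a, ha, fun x => ?_⟩
    rw [hgα x]
    have hbx := hb x (hQ x.2)
    have : b * (x : Ω) * b⁻¹ = x := by rw [hbx, mul_inv_cancel_right]
    calc a * b * (x : Ω) * (a * b)⁻¹ = a * (b * (x : Ω) * b⁻¹) * a⁻¹ := by group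
      _ = a * (x : Ω) * a⁻¹ := by rw [this]

theorem autGroup_eq_of_hom_eq {A : Subgroup Ω} (R : FusionSystem A) (F : FusionSystem S)
    {Q : Subgroup Ω} (h : R.Hom Q = F.Hom Q) : R.autGroup Q = F.autGroup Q := by
  unfold FusionSystem.autGroup
  rw [h]

/-- The full subsystem of a saturated system on a strongly closed central factor is saturated. -/
theorem full_subsystem_saturated {p : ℕ} (F : FusionSystem S)
    (hF : F.IsSaturated p) {A : Subgroup Ω} (hfac : IsCentralFactor S A) (hA : F.StronglyClosed A)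
    (R : FusionSystem A) (hR : ∀ P : Subgroup Ω, P ≤ A → R.Hom P = F.Hom P) :
    R.IsSaturated p := by
  intro P hP
  obtain ⟨Q, ⟨φ, hφ, hφr⟩, hQa, hQr⟩ := hF P (hP.trans hfac.1)
  have hQA : Q ≤ A := by
    rw [← hφr]
    rintro _ ⟨x, rfl⟩
    exact hA.2 P hP φ hφ x
  refine ⟨Q, ⟨φ, by rw [hR P hP]; exact hφ, hφr⟩, ⟨hQA, ?_⟩, hQA, ?_⟩
  · obtain ⟨T, hT⟩ := hQa.2
    rw [autGroup_eq_of_hom_eq R F (hR Q hQA), autInducedBy_eq_of_centralFactor hfac hQA]
    exact ⟨T, hT⟩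
  · intro P' φ' hφ' hr'
    have hP'A : P' ≤ A := (R.le_of_mem hφ').1
    have hφ'F : φ' ∈ F.Hom P' := by rw [← hR P' hP'A]; exact hφ'
    obtain ⟨ψ, hψ, hψe⟩ := hQr.2 P' φ' hφ'F hr'
    have hle : extender A P' φ' ≤ extender S P' φ' := by
      intro g hg
      obtain ⟨hgA, hN, h, hh, hx⟩ := mem_extender_iff.mp hg
      exact mem_extender_iff.mpr ⟨hfac.1 hgA, hN, h, hfac.1 hh, hx⟩
    have hleA : extender A P' φ' ≤ A := by
      intro g hg
      obtain ⟨hgA, -⟩ := mem_extender_iff.mp hg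
      exact hgA
    refine ⟨ψ.comp (Subgroup.inclusion hle), ?_, ?_⟩
    · rw [hR _ hleA]
      exact restrict_mem F hψ hle
    · intro x hxP hxN
      exact hψe x hxP (hle hxN)

theorem eq_of_isConj_of_stronglyClosed [Finite S] (F : FusionSystem S) {A : Subgroup Ω}
    (hA : F.StronglyClosed A) {Q : Subgroup Ω} (h : F.IsConj A Q) : Q = A := by
  obtain ⟨φ, hφ, rfl⟩ := h
  have hfin : Finite A := finite_of_le hA.1
  have hle : φ.range ≤ A := by
    rintro _ ⟨x, rfl⟩
    exact hA.2 A le_rfl φ hφ x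
  apply Subgroup.eq_of_le_of_card_ge hle
  have := Nat.card_congr (MonoidHom.ofInjective (F.injective_of_mem hφ)).toEquiv
  exact this.le

theorem fullyCentralized_of_stronglyClosed [Finite S] (F : FusionSystem S) {A : Subgroup Ω}
    (hA : F.StronglyClosed A) : F.IsFullyCentralized A := by
  refine ⟨hA.1, fun Q hQ => ?_⟩
  rw [eq_of_isConj_of_stronglyClosed F hA hQ]

theorem fullyNormalized_of_stronglyClosed [Finite S] (F : FusionSystem S) {A : Subgroup Ω}
    (hA : F.StronglyClosed A) : F.IsFullyNormalized A := by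
  refine ⟨hA.1, fun Q hQ => ?_⟩
  rw [eq_of_isConj_of_stronglyClosed F hA hQ]

theorem range_eq_of_hom_stronglyClosed [Finite S] (F : FusionSystem S) {A : Subgroup Ω}
    (hA : F.StronglyClosed A) {γ : A →* Ω} (hγ : γ ∈ F.Hom A) : γ.range = A :=
  eq_of_isConj_of_stronglyClosed F hA ⟨γ, hγ, rfl⟩

theorem top_stronglyClosed (F : FusionSystem S) : F.StronglyClosed S :=
  ⟨le_rfl, fun _ _ _ hφ x => apply_mem F hφ x⟩

theorem conj_mem_of_stronglyClosed (F : FusionSystem S) {A : Subgroup Ω}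
    (hA : F.StronglyClosed A) {g : Ω} (hg : g ∈ S) {x : Ω} (hx : x ∈ A) : g * x * g⁻¹ ∈ A :=
  hA.2 A le_rfl _ (F.conj_mem hA.1 hg) ⟨x, hx⟩

theorem le_normalizer_of_sc (F : FusionSystem S) {A : Subgroup Ω}
    (hA : F.StronglyClosed A) : S ≤ Subgroup.normalizer (A : Set Ω) := by
  intro g hg
  refine mem_normalizer_of_forall (fun y hy => conj_mem_of_stronglyClosed F hA hg hy) (fun y hy => ?_)
  have := conj_mem_of_stronglyClosed F hA (S.inv_mem hg) hy
  rwa [inv_inv] at this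

/-- Every map of a saturated system defined on a strongly closed central factor extends to all of `S`. -/
theorem exists_extension_of_factor [Finite S] {p : ℕ} [Fact p.Prime] (hS : IsPGroup p S)
    (F : FusionSystem S) (hF : F.IsSaturated p) {A : Subgroup Ω} (hfac : IsCentralFactor S A)
    (hA : F.StronglyClosed A) {γ : A →* Ω} (hγ : γ ∈ F.Hom A) :
    ∃ β ∈ F.Hom S, ∀ (x : Ω) (hx : x ∈ A), β ⟨x, hfac.1 hx⟩ = γ ⟨x, hx⟩ := by
  have hrec := saturated_fullyCentralized hS F hF (fullyCentralized_of_stronglyClosed F hA)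
  obtain ⟨ψ, hψ, hψe⟩ := hrec.2 A γ hγ (range_eq_of_hom_stronglyClosed F hA hγ)
  have hle : S ≤ extender S A γ := by
    intro g hg
    have hN : g ∈ Subgroup.normalizer (A : Set Ω) := le_normalizer_of_sc F hA hg
    obtain ⟨a, ha, b, hb, rfl⟩ := hfac.2 g hg
    refine mem_extender_iff.mpr ⟨hg, hN, γ ⟨a, ha⟩, apply_mem F hγ _, fun x => ?_⟩
    have hbx := hb x x.2
    have h1 : b * (x : Ω) * b⁻¹ = x := by rw [hbx, mul_inv_cancel_right]
    have h2 : (⟨a * b * (x : Ω) * (a * b)⁻¹, conj_mem_of_mem_normalizer hN x⟩ : A) =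
        ⟨a, ha⟩ * x * ⟨a, ha⟩⁻¹ := by
      apply Subtype.ext
      calc a * b * (x : Ω) * (a * b)⁻¹ = a * (b * (x : Ω) * b⁻¹) * a⁻¹ := by group
        _ = a * (x : Ω) * a⁻¹ := by rw [h1]
    rw [h2, map_mul, map_mul, map_inv]
  refine ⟨ψ.comp (Subgroup.inclusion hle), restrict_mem F hψ hle, fun x hx => ?_⟩
  exact hψe x hx (hle (hfac.1 hx))

theorem range_eq_of_hom_top [Finite S] (F : FusionSystem S) {β : S →* Ω} (hβ : β ∈ F.Hom S) :
    β.range = S :=
  range_eq_of_hom_stronglyClosed F (top_stronglyClosed F) hβ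

end Cfsg.Agent.Lib.Helper26
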