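import Cfsg.Agent.Lib.Helper26.DirFactor

set_option autoImplicit false

namespace Cfsg.Agent.Lib.Helper26

open Cfsg Cfsg.FusionSystem

variable {Ω : Type*} [Group Ω] {S : Subgroup Ω}

/-- `S` is the commuting product of the strongly closed subgroups `A` and `B`. -/
structure DirProd (F : FusionSystem S) (A B : Subgroup Ω) : Prop where
  hA : F.StronglyClosed A
  hB : F.StronglyClosed B
  comm : ∀ a ∈ A, ∀ b ∈ B, a * b = b * a
  fac : ∀ g ∈ S, ∃ a ∈ A, ∃ b ∈ B, g = a * b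

theorem apply_mem_of_sc_le (F : FusionSystem S) {B T : Subgroup Ω}
    (hB : F.StronglyClosed B) (hBT : B ≤ T) {ψ : T →* Ω} (hψ : ψ ∈ F.Hom T) {x : Ω}
    (hx : x ∈ B) : ψ ⟨x, hBT hx⟩ ∈ B :=
  hB.2 B le_rfl (ψ.comp (Subgroup.inclusion hBT)) (restrict_mem F hψ hBT) ⟨x, hx⟩

theorem exists_preimage_of_sc_le [Finite S] (F : FusionSystem S) {B T : Subgroup Ω}
    (hB : F.StronglyClosed B) (hBT : B ≤ T) {ψ : T →* Ω} (hψ : ψ ∈ F.Hom T) {y : Ω}
    (hy : y ∈ B) : ∃ (x : Ω) (hx : x ∈ B), ψ ⟨x, hBT hx⟩ = y := by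
  have hr := range_eq_of_hom_stronglyClosed F hB (restrict_mem F hψ hBT)
  have : y ∈ (ψ.comp (Subgroup.inclusion hBT)).range := hr.ge hy
  obtain ⟨x, hx⟩ := this
  exact ⟨x, x.2, hx⟩

namespace DirProd

variable {F : FusionSystem S} {A B : Subgroup Ω}

theorem symm (h : DirProd F A B) : DirProd F B A :=
  ⟨h.hB, h.hA, fun b hb a ha => (h.comm a ha b hb).symm, fun g hg => by
    obtain ⟨a, ha, b, hb, rfl⟩ := h.fac g hg
    exact ⟨b, hb, a, ha, h.comm a ha b hb⟩⟩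

theorem centralFactor (h : DirProd F A B) : IsCentralFactor S A :=
  ⟨h.hA.1, fun g hg => by
    obtain ⟨a, ha, b, hb, rfl⟩ := h.fac g hg
    exact ⟨a, ha, b, fun x hx => (h.comm x hx b hb).symm, rfl⟩⟩

theorem le_centralizerIn (h : DirProd F A B) {P : Subgroup Ω} (hP : P ≤ A) :
    B ≤ centralizerIn S P := by
  intro b hb
  exact ⟨h.hB.1 hb, Subgroup.mem_centralizer_iff.mpr (fun x hx => h.comm x (hP hx) b hb)⟩

theorem le_centralizerIn' (h : DirProd F A B) : A ≤ centralizerIn S B := by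
  intro a ha
  exact ⟨h.hA.1 ha, Subgroup.mem_centralizer_iff.mpr (fun x hx => (h.comm a ha x hx).symm)⟩

/-- Every map of the system on a subgroup of `A` extends to the join with `B`. -/
theorem exists_extension_sup [Finite S] {p : ℕ} [Fact p.Prime] (hS : IsPGroup p S)
    (hF : F.IsSaturated p) (h : DirProd F A B) {P : Subgroup Ω} (hP : P ≤ A) {φ : P →* Ω}
    (hφ : φ ∈ F.Hom P) :
    ∃ ψ ∈ F.Hom (P ⊔ B), ∀ x : P, ψ (Subgroup.inclusion le_sup_left x) = φ x := by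
  have hQA : φ.range ≤ A := by
    rintro _ ⟨x, rfl⟩
    exact h.hA.2 P hP φ hφ x
  have hQS : φ.range ≤ S := hQA.trans h.hA.1
  obtain ⟨Q', ⟨χ, hχ, hχr⟩, hQ'⟩ := exists_fullyCentralized_conj F hQS
  have hrec := saturated_fullyCentralized hS F hF hQ'
  obtain ⟨ψ₂, hψ₂, hψ₂e⟩ := hrec.2 φ.range χ hχ hχr
  have hle₂ : φ.range ⊔ B ≤ extender S φ.range χ :=
    sup_le (le_extender F hχ) ((h.le_centralizerIn hQA).trans (centralizerIn_le_extender S _ χ))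
  have hχφ := F.comp_mem hφ hχ (fun x => ⟨x, rfl⟩)
  have hχφr : (χ.comp (φ.codRestrict φ.range (fun x => ⟨x, rfl⟩))).range = Q' := by
    rw [← hχr]
    ext y
    constructor
    · rintro ⟨x, rfl⟩
      exact ⟨_, rfl⟩
    · rintro ⟨⟨_, x, rfl⟩, rfl⟩
      exact ⟨x, rfl⟩
  obtain ⟨ψ₁, hψ₁, hψ₁e⟩ := hrec.2 P _ hχφ hχφr
  have hle₁ : P ⊔ B ≤ extender S P (χ.comp (φ.codRestrict φ.range (fun x => ⟨x, rfl⟩))) :=
    sup_le (le_extender F hχφ) ((h.le_centralizerIn hP).trans (centralizerIn_le_extender S _ _))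
  have hψ₂' : ψ₂.comp (Subgroup.inclusion hle₂) ∈ F.Hom (φ.range ⊔ B) := restrict_mem F hψ₂ hle₂
  obtain ⟨θ, hθ, -, hθ1, -⟩ := exists_inv F hψ₂' rfl
  have hψ₁' : ψ₁.comp (Subgroup.inclusion hle₁) ∈ F.Hom (P ⊔ B) := restrict_mem F hψ₁ hle₁
  have key : ∀ x : P, (ψ₁.comp (Subgroup.inclusion hle₁)) (Subgroup.inclusion le_sup_left x) =
      (ψ₂.comp (Subgroup.inclusion hle₂)) ⟨φ x, (le_sup_left : φ.range ≤ φ.range ⊔ B) ⟨x, rfl⟩⟩ := by
    intro x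
    have e1 := hψ₁e x x.2 (hle₁ ((le_sup_left : P ≤ P ⊔ B) x.2))
    have e2 := hψ₂e (φ x) ⟨x, rfl⟩ (hle₂ ((le_sup_left : φ.range ≤ φ.range ⊔ B) ⟨x, rfl⟩))
    change ψ₁ ⟨x, _⟩ = ψ₂ ⟨φ x, _⟩
    rw [e1, e2]
    rfl
  have hval : ∀ z : ↥(P ⊔ B), (ψ₁.comp (Subgroup.inclusion hle₁)) z ∈
      (ψ₂.comp (Subgroup.inclusion hle₂)).range := by
    refine map_sup_mem _ _ (fun x => ?_) (fun x => ?_)
    · rw [key x]
      exact ⟨_, rfl⟩
    · have hb : (ψ₁.comp (Subgroup.inclusion hle₁)) (Subgroup.inclusion le_sup_right x) ∈ B :=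
        apply_mem_of_sc_le F h.hB le_sup_right hψ₁' x.2
      obtain ⟨y, hy, hyx⟩ := exists_preimage_of_sc_le F h.hB le_sup_right hψ₂' hb
      exact ⟨_, hyx⟩
  refine ⟨θ.comp ((ψ₁.comp (Subgroup.inclusion hle₁)).codRestrict _ hval),
    F.comp_mem hψ₁' hθ hval, fun x => ?_⟩
  have h3 : ((ψ₁.comp (Subgroup.inclusion hle₁)).codRestrict _ hval)
      (Subgroup.inclusion le_sup_left x) =
      ⟨(ψ₂.comp (Subgroup.inclusion hle₂)) ⟨φ x, (le_sup_left : φ.range ≤ φ.range ⊔ B) ⟨x, rfl⟩⟩,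
        ⟨_, rfl⟩⟩ := Subtype.ext (key x)
  rw [MonoidHom.comp_apply, h3]
  exact hθ1 _ _

end DirProd

end Cfsg.Agent.Lib.Helper26
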