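import Cfsg.Agent.Lib.Helper26.DirFactor2

set_option autoImplicit false

namespace Cfsg.Agent.Lib.Helper26

open Cfsg Cfsg.FusionSystem

variable {Ω : Type*} [Group Ω] {S : Subgroup Ω}

theorem hom_congr_val {T : Subgroup Ω} (f : T →* Ω) {x y : Ω} (hx : x ∈ T) (hy : y ∈ T)
    (e : x = y) : f ⟨x, hx⟩ = f ⟨y, hy⟩ := by
  subst e
  rfl

namespace DirProd

variable {F : FusionSystem S} {A B : Subgroup Ω}

/-- Frattini-type decomposition: every map on a subgroup of `A` is an automorphism of `S` after a map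
that extends to the join with `B` fixing `B` elementwise. -/
theorem exists_frattini [Finite S] {p : ℕ} [Fact p.Prime] (hS : IsPGroup p S)
    (hF : F.IsSaturated p) (h : DirProd F A B) {P : Subgroup Ω} (hP : P ≤ A) {φ : P →* Ω}
    (hφ : φ ∈ F.Hom P) :
    ∃ β ∈ F.Hom S, ∃ ψ₀ ∈ F.Hom (P ⊔ B),
      (∀ x : B, ψ₀ (Subgroup.inclusion le_sup_right x) = x) ∧
      ∀ x : P, ∃ hx : ψ₀ (Subgroup.inclusion le_sup_left x) ∈ S,
        φ x = β ⟨ψ₀ (Subgroup.inclusion le_sup_left x), hx⟩ := by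
  obtain ⟨ψ, hψ, hψe⟩ := h.exists_extension_sup hS hF hP hφ
  have hγ : ψ.comp (Subgroup.inclusion (le_sup_right : B ≤ P ⊔ B)) ∈ F.Hom B :=
    restrict_mem F hψ le_sup_right
  obtain ⟨β, hβ, hβe⟩ := exists_extension_of_factor hS F hF h.symm.centralFactor h.hB hγ
  obtain ⟨θ, hθ, -, hθ1, hθ2⟩ := exists_inv F hβ (range_eq_of_hom_top F hβ)
  have hval : ∀ z : ↥(P ⊔ B), ψ z ∈ S := fun z => apply_mem F hψ z
  have hψ₀ : θ.comp (ψ.codRestrict S hval) ∈ F.Hom (P ⊔ B) := F.comp_mem hψ hθ hval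
  refine ⟨β, hβ, θ.comp (ψ.codRestrict S hval), hψ₀, fun x => ?_, fun x => ?_⟩
  · have e1 : ψ (Subgroup.inclusion le_sup_right x) = β ⟨x, h.hB.1 x.2⟩ := (hβe x x.2).symm
    have e2 : (ψ.codRestrict S hval) (Subgroup.inclusion le_sup_right x) =
        ⟨β ⟨x, h.hB.1 x.2⟩, apply_mem F hβ _⟩ := Subtype.ext e1
    rw [MonoidHom.comp_apply, e2]
    exact hθ1 ⟨x, h.hB.1 x.2⟩ _
  · refine ⟨apply_mem F hψ₀ _, ?_⟩
    rw [← hψe x]
    exact (hθ2 ⟨ψ (Subgroup.inclusion le_sup_left x), hval _⟩ _).symm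

/-- Conjugating a map of `C_F(B)` on a subgroup of `A` by an automorphism of `A` in the system
gives a map of `C_F(B)`. -/
theorem centralizerHom_conj [Finite S] {p : ℕ} [Fact p.Prime] (hS : IsPGroup p S)
    (hF : F.IsSaturated p) (h : DirProd F A B) {P : Subgroup Ω} (hP : P ≤ A) {φ : P →* Ω}
    (hφ : φ ∈ F.centralizerHom B P) {α : MulAut A} (hα : α ∈ F.autGroup A) :
    ∃ χ ∈ F.centralizerHom B ((P.subgroupOf A).map (A.subtype.comp α.toMonoidHom)),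
      ∀ (x : P) (hφx : φ x ∈ A)
        (hαx : ((α ⟨x, hP x.2⟩ : A) : Ω) ∈ (P.subgroupOf A).map (A.subtype.comp α.toMonoidHom)),
        χ ⟨(α ⟨x, hP x.2⟩ : A), hαx⟩ = ((α ⟨φ x, hφx⟩ : A) : Ω) := by
  have hP'A : (P.subgroupOf A).map (A.subtype.comp α.toMonoidHom) ≤ A := by
    rintro _ ⟨y, _, rfl⟩
    exact (α y).2
  have hγ : A.subtype.comp α.toMonoidHom ∈ F.Hom A := (mem_autGroup_iff F h.hA.1).mp hα
  obtain ⟨β, hβ, hβe⟩ := exists_extension_of_factor hS F hF h.centralFactor h.hA hγ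
  obtain ⟨θ, hθ, -, hθ1, hθ2⟩ := exists_inv F hβ (range_eq_of_hom_top F hβ)
  obtain ⟨hφF, hPc, hφc, ψ, hψ, hψP, hψB⟩ := hφ
  have hle : (P.subgroupOf A).map (A.subtype.comp α.toMonoidHom) ⊔ B ≤ S :=
    sup_le (hP'A.trans h.hA.1) h.hB.1
  have hθ₁ : θ.comp (Subgroup.inclusion hle) ∈
      F.Hom ((P.subgroupOf A).map (A.subtype.comp α.toMonoidHom) ⊔ B) := restrict_mem F hθ hle
  have hβα : ∀ (x : Ω) (hx : x ∈ A), β ⟨x, h.hA.1 hx⟩ = ((α ⟨x, hx⟩ : A) : Ω) :=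
    fun x hx => hβe x hx
  have hθα : ∀ (x : Ω) (hx : x ∈ A), θ ⟨((α ⟨x, hx⟩ : A) : Ω), h.hA.1 (α ⟨x, hx⟩).2⟩ = x := by
    intro x hx
    have e := hθ1 ⟨x, h.hA.1 hx⟩ (apply_mem F hβ _)
    exact (hom_congr_val θ _ _ (hβα x hx).symm).trans e
  have hθ₁val : ∀ z, (θ.comp (Subgroup.inclusion hle)) z ∈ P ⊔ B := by
    refine map_sup_mem _ _ (fun y => ?_) (fun b => ?_)
    · obtain ⟨x, hx, hxy⟩ := y.2
      have hxP : (x : Ω) ∈ P := Subgroup.mem_subgroupOf.mp hx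
      have e : (θ.comp (Subgroup.inclusion hle)) (Subgroup.inclusion le_sup_left y) = (x : Ω) :=
        (hom_congr_val θ _ _ hxy.symm).trans (hθα x x.2)
      rw [e]
      exact (le_sup_left : P ≤ P ⊔ B) hxP
    · exact (le_sup_right : B ≤ P ⊔ B) (apply_mem_of_sc_le F h.hB h.hB.1 hθ b.2)
  have hψθ := F.comp_mem hθ₁ hψ hθ₁val
  have hψθval : ∀ z, (ψ.comp ((θ.comp (Subgroup.inclusion hle)).codRestrict (P ⊔ B) hθ₁val)) z ∈ S :=
    fun z => apply_mem F hψθ z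
  have hψ' := F.comp_mem hψθ hβ hψθval
  have hχ := restrict_mem F hψ' (le_sup_left :
    (P.subgroupOf A).map (A.subtype.comp α.toMonoidHom) ≤ _ ⊔ B)
  refine ⟨_, ⟨hχ, hP'A.trans h.le_centralizerIn', fun y => h.le_centralizerIn' (h.hA.2 _ hP'A _ hχ y),
    _, hψ', fun y => rfl, fun b => ?_⟩, fun x hφx hαx => ?_⟩
  · have hb' : θ ⟨b, h.hB.1 b.2⟩ ∈ B := apply_mem_of_sc_le F h.hB h.hB.1 hθ b.2
    have e1 : ψ ⟨θ ⟨b, h.hB.1 b.2⟩, (le_sup_right : B ≤ P ⊔ B) hb'⟩ = θ ⟨b, h.hB.1 b.2⟩ :=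
      hψB ⟨_, hb'⟩
    have e2 := hθ2 ⟨b, h.hB.1 b.2⟩ (h.hB.1 hb')
    exact (hom_congr_val β _ _ e1).trans e2
  · have e1 := hθα x (hP x.2)
    have e2 : ψ ⟨θ ⟨((α ⟨x, hP x.2⟩ : A) : Ω), h.hA.1 (α ⟨x, hP x.2⟩).2⟩,
        hθ₁val ⟨_, (le_sup_left : _ ≤ _ ⊔ B) hαx⟩⟩ = φ x :=
      (hom_congr_val ψ _ _ e1).trans (hψP x)
    exact (hom_congr_val β _ _ e2).trans (hβα (φ x) hφx)

end DirProd

end Cfsg.Agent.Lib.Helper26
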