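import Cfsg.Agent.Lib.Helper26.DirFactor3

set_option autoImplicit false

namespace Cfsg.Agent.Lib.Helper26

open Cfsg Cfsg.FusionSystem

variable {Ω : Type*} [Group Ω] {S : Subgroup Ω}

theorem exists_mul_of_mem_sup_comm {A B : Subgroup Ω} (hc : ∀ a ∈ A, ∀ b ∈ B, a * b = b * a)
    {g : Ω} (hg : g ∈ A ⊔ B) : ∃ a ∈ A, ∃ b ∈ B, g = a * b := by
  rw [Subgroup.sup_eq_closure] at hg
  refine Subgroup.closure_induction (p := fun g _ => ∃ a ∈ A, ∃ b ∈ B, g = a * b) ?_ ?_ ?_ ?_ hg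
  · rintro x (hx | hx)
    · exact ⟨x, hx, 1, B.one_mem, (mul_one x).symm⟩
    · exact ⟨1, A.one_mem, x, hx, (one_mul x).symm⟩
  · exact ⟨1, A.one_mem, 1, B.one_mem, (one_mul 1).symm⟩
  · rintro x y _ _ ⟨a, ha, b, hb, rfl⟩ ⟨a', ha', b', hb', rfl⟩
    refine ⟨a * a', A.mul_mem ha ha', b * b', B.mul_mem hb hb', ?_⟩
    have := hc a' ha' b hb
    calc a * b * (a' * b') = a * (b * a') * b' := by group
      _ = a * (a' * b) * b' := by rw [this]
      _ = a * a' * (b * b') := by group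
  · rintro x _ ⟨a, ha, b, hb, rfl⟩
    refine ⟨a⁻¹, A.inv_mem ha, b⁻¹, B.inv_mem hb, ?_⟩
    rw [hc a ha b hb]
    group

/-- An automorphism of `A` maps the centre of `A` to itself. -/
theorem aut_center_mem {A : Subgroup Ω} (α : MulAut A) {a : Ω} (ha : a ∈ A)
    (hc : a ∈ Subgroup.centralizer (A : Set Ω)) :
    a⁻¹ * ((α ⟨a, ha⟩ : A) : Ω) ∈ A ⊓ Subgroup.centralizer (A : Set Ω) := by
  have h1 : ((α ⟨a, ha⟩ : A) : Ω) ∈ Subgroup.centralizer (A : Set Ω) := by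
    rw [Subgroup.mem_centralizer_iff]
    intro y hy
    obtain ⟨y', hy'⟩ := α.surjective ⟨y, hy⟩
    have e : y' * ⟨a, ha⟩ = ⟨a, ha⟩ * y' := Subtype.ext (hc y' y'.2)
    have e2 := congrArg (fun z : A => ((α z : A) : Ω)) e
    simp only [map_mul, Subgroup.coe_mul, hy'] at e2
    exact e2
  exact ⟨A.mul_mem (A.inv_mem ha) (α ⟨a, ha⟩).2, Subgroup.mul_mem _ (Subgroup.inv_mem _ hc) h1⟩

/-- Conjugating a map of the system between subgroups of `A` by an automorphism of `A` in the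
system gives a map of the system. -/
theorem hom_conj_aut (F : FusionSystem S) {A : Subgroup Ω} (hA : A ≤ S) {P : Subgroup Ω}
    (hP : P ≤ A) {φ : P →* Ω} (hφ : φ ∈ F.Hom P) (hφA : ∀ x : P, φ x ∈ A) {α : MulAut A}
    (hα : α ∈ F.autGroup A) :
    ∃ χ ∈ F.Hom ((P.subgroupOf A).map (A.subtype.comp α.toMonoidHom)),
      ∀ (x : P) (hφx : φ x ∈ A)
        (hαx : ((α ⟨x, hP x.2⟩ : A) : Ω) ∈ (P.subgroupOf A).map (A.subtype.comp α.toMonoidHom)),
        χ ⟨(α ⟨x, hP x.2⟩ : A), hαx⟩ = ((α ⟨φ x, hφx⟩ : A) : Ω) := by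
  have hP'A : (P.subgroupOf A).map (A.subtype.comp α.toMonoidHom) ≤ A := by
    rintro _ ⟨y, _, rfl⟩
    exact (α y).2
  have hγ : A.subtype.comp α.toMonoidHom ∈ F.Hom A := (mem_autGroup_iff F hA).mp hα
  have hγi : A.subtype.comp (α⁻¹).toMonoidHom ∈ F.Hom A :=
    (mem_autGroup_iff F hA).mp (Subgroup.inv_mem _ hα)
  have hθ := restrict_mem F hγi hP'A
  have hθval : ∀ y, ((A.subtype.comp (α⁻¹).toMonoidHom).comp (Subgroup.inclusion hP'A)) y ∈ P := by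
    rintro ⟨_, x, hx, rfl⟩
    have hxP : (x : Ω) ∈ P := Subgroup.mem_subgroupOf.mp hx
    have : ((A.subtype.comp (α⁻¹).toMonoidHom).comp (Subgroup.inclusion hP'A))
        ⟨(A.subtype.comp α.toMonoidHom) x, ⟨x, hx, rfl⟩⟩ = (x : Ω) := by
      change ((α⁻¹ (α x) : A) : Ω) = x
      rw [MulAut.inv_apply_self]
    rw [this]
    exact hxP
  have hφθ := F.comp_mem hθ hφ hθval
  have hφθval : ∀ y, (φ.comp (((A.subtype.comp (α⁻¹).toMonoidHom).comp
      (Subgroup.inclusion hP'A)).codRestrict P hθval)) y ∈ A := fun y => hφA _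
  refine ⟨_, F.comp_mem hφθ hγ hφθval, fun x hφx hαx => ?_⟩
  have e1 : (((A.subtype.comp (α⁻¹).toMonoidHom).comp (Subgroup.inclusion hP'A)).codRestrict P hθval)
      ⟨(α ⟨x, hP x.2⟩ : A), hαx⟩ = x := by
    apply Subtype.ext
    change ((α⁻¹ (α ⟨x, hP x.2⟩) : A) : Ω) = x
    rw [MulAut.inv_apply_self]
  change ((α ⟨φ (((A.subtype.comp (α⁻¹).toMonoidHom).comp (Subgroup.inclusion hP'A)).codRestrict P hθval
    ⟨(α ⟨x, hP x.2⟩ : A), hαx⟩), _⟩ : A) : Ω) = _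
  congr 3
  rw [e1]

end Cfsg.Agent.Lib.Helper26
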