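import Mathlib
import Cfsg.Prelude.Def_Blocks
import Cfsg.Prelude.Def_Local
import Cfsg.Agent.Lib.Helper26.FongPSolv3
import Cfsg.Agent.Lib.Helper24.FongReynolds4
import Cfsg.Agent.S0934

/-!
Towards Knörr's theorem on defect groups of covered blocks (S4438): defect inequalities for
covering blocks.
-/

set_option autoImplicit false
set_option linter.style.haveILetI false
set_option linter.unusedSectionVars false
set_option linter.unusedVariables false

namespace Cfsg.Agent.Lib.Helper26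

open scoped ComplexConjugate Pointwise
open Cfsg.Agent.Lib.Helper24 Cfsg.Agent.Lib.Helper25 Cfsg.Agent.Lib.Helper11
open Cfsg.Agent.Lib.helper2 Cfsg.Agent.Lib.helper7

section

variable {G : Type*} [Group G]

/-- a block covering `b` has defect at least the defect of `b` -/
theorem kn_defect_le [Fintype G] (p : ℕ) [hp : Fact p.Prime] {M : Ideal Cfsg.AlgInt}
    (hM : Cfsg.IsPModular p M) (N : Subgroup G) [hN : N.Normal] [Fintype N]
    (b : Set (Cfsg.IrrCharacter N)) (hb : Cfsg.IsPBlock M b)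
    (B : Set (Cfsg.IrrCharacter G)) (hB : Cfsg.IsPBlock M B)
    (hcov : ∃ χ ∈ B, ∃ θ ∈ b, Cfsg.classInner (fun n : N => (χ : G → ℂ) n) (θ : N → ℂ) ≠ 0) :
    Cfsg.blockDefect p b ≤ Cfsg.blockDefect p B := by
  classical
  have hMp := hM.2.1.isPrime
  haveI : Fintype (Cfsg.IrrCharacter G) := Fintype.ofFinite _
  haveI : Fintype (Cfsg.IrrCharacter N) := Fintype.ofFinite _
  have hbne : ((fun θ : Cfsg.IrrCharacter N =>
      (Cfsg.charDegree (θ : N → ℂ)).factorization p) '' b).Nonempty := by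
    obtain ⟨θ₁, rfl⟩ := hb
    exact ⟨_, θ₁, h7_sameBlock_refl hMp _, rfl⟩
  obtain ⟨θ₀, hθ₀, hmin⟩ := Nat.sInf_mem hbne
  obtain ⟨χ, hχ, hcon⟩ := cva_main N p M hM B hB b hb hcov θ₀ hθ₀
  obtain ⟨-, hcpos, hc1⟩ := h7_charDegree_props χ
  obtain ⟨-, hdpos, hd1⟩ := h7_charDegree_props θ₀
  obtain ⟨hdvd, hquot⟩ := Cfsg.Agent.S0887.result N (χ : G → ℂ) χ.2 (θ₀ : N → ℂ) θ₀.2 hcon
    (Cfsg.charDegree (χ : G → ℂ)) (Cfsg.charDegree (θ₀ : N → ℂ)) hc1.symm hd1.symm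
  obtain ⟨q, hq⟩ := hdvd
  rw [hq, Nat.mul_div_cancel_left _ hdpos] at hquot
  have hqpos : 0 < q := by
    rcases Nat.eq_zero_or_pos q with h | h
    · rw [h, mul_zero] at hq
      omega
    · exact h
  have hidxpos : N.index ≠ 0 := Subgroup.index_ne_zero_of_finite
  have h1 : (Cfsg.charDegree (χ : G → ℂ)).factorization p =
      (Cfsg.charDegree (θ₀ : N → ℂ)).factorization p + q.factorization p := by
    rw [hq, Nat.factorization_mul hdpos.ne' hqpos.ne']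
    rfl
  have h2 : q.factorization p ≤ N.index.factorization p :=
    (Nat.factorization_le_iff_dvd hqpos.ne' hidxpos).mpr hquot p
  have h3 : (Nat.card G).factorization p =
      (Nat.card N).factorization p + N.index.factorization p := by
    rw [← Subgroup.card_mul_index N, Nat.factorization_mul Nat.card_pos.ne' hidxpos]
    rfl
  have h4 : sInf ((fun χ : Cfsg.IrrCharacter G =>
      (Cfsg.charDegree (χ : G → ℂ)).factorization p) '' B) ≤
      (Cfsg.charDegree (χ : G → ℂ)).factorization p := Nat.sInf_le ⟨χ, hχ, rfl⟩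
  unfold Cfsg.blockDefect
  rw [← hmin]
  simp only at hmin ⊢
  omega

/-- if `B ⊆ Irr(G | b)` for the stable block `b` of `N` and `N ≤ S` are normal with `S/N` a
`p`-group, then the defect of `B` is at least `d(b) + ν_p(|S : N|)` -/
theorem kn_ppow_defect [Fintype G] (p : ℕ) [hp : Fact p.Prime] {M : Ideal Cfsg.AlgInt}
    (hM : Cfsg.IsPModular p M) (N S : Subgroup G) [hN : N.Normal] [hS : S.Normal] [Fintype N]
    [Fintype S] (hNS : N ≤ S) (hidx : ∃ k : ℕ, (N.subgroupOf S).index = p ^ k)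
    (b : Set (Cfsg.IrrCharacter N)) (hb : Cfsg.IsPBlock M b) (hinv : fc_inv N b)
    (B : Set (Cfsg.IrrCharacter G)) (hB : Cfsg.IsPBlock M B) (hsub : B ⊆ h7_over N b) :
    Cfsg.blockDefect p b + (N.subgroupOf S).index.factorization p ≤ Cfsg.blockDefect p B := by
  classical
  have hMp := hM.2.1.isPrime
  haveI : Fintype (Cfsg.IrrCharacter G) := Fintype.ofFinite _
  haveI : Fintype ↥(N.subgroupOf S) := Fintype.ofFinite _
  have hb' := bt_trb_isPBlock (M := M) (Subgroup.subgroupOfEquivOfLe hNS) b hb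
  have hinv' := fps_inv_tr N S hNS b hinv
  have hblk := (fp_over_is_block hM (N.subgroupOf S) hidx _ hb' hinv').1
  obtain ⟨B₁, hB₁, hcov₁, hdef₁⟩ := fc_exists_big_block hM (N.subgroupOf S) _ hb' hinv'
  have hsub₁ := fc_block_sub_over hM (N.subgroupOf S) _ hb' hinv' B₁ hB₁ hcov₁
  obtain ⟨χ₁, hχ₁, -⟩ := hcov₁
  have heq : B₁ = h7_over (N.subgroupOf S) (bt_trb (Subgroup.subgroupOfEquivOfLe hNS) b) :=
    fr_block_eq_of_mem hMp _ _ hB₁ hblk χ₁ hχ₁ (hsub₁ hχ₁)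
  rw [heq, fps_over_tr N S hNS b, bt_blockDefect] at hdef₁
  rw [fps_over_tr N S hNS b] at hblk
  have hstage := fps_over_stage N S hNS b
  have hBne : ∃ χ, χ ∈ B := by
    obtain ⟨χ₀, rfl⟩ := hB
    exact ⟨χ₀, h7_sameBlock_refl hMp _⟩
  obtain ⟨χ, hχ⟩ := hBne
  have hχ' : χ ∈ h7_over S (fps_ovs N S hNS b) := by
    rw [hstage]
    exact hsub hχ
  obtain ⟨ψ, hψ, hcon⟩ := hχ'
  have hle := kn_defect_le p hM S (fps_ovs N S hNS b) hblk B hB ⟨χ, hχ, ψ, hψ, hcon⟩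
  omega

/-- a block of `H ≥ N` inducing the block `B`, which covers the stable block `b` of `N`,
consists of characters lying over `b` -/
theorem kn_cover [Fintype G] (p : ℕ) [hp : Fact p.Prime] {M : Ideal Cfsg.AlgInt}
    (hM : Cfsg.IsPModular p M) (N : Subgroup G) [hN : N.Normal] [Fintype N]
    (b : Set (Cfsg.IrrCharacter N)) (hb : Cfsg.IsPBlock M b) (hinv : fc_inv N b)
    (B : Set (Cfsg.IrrCharacter G)) (hB : Cfsg.IsPBlock M B)
    (hcov : ∃ χ ∈ B, ∃ θ ∈ b, Cfsg.classInner (fun n : N => (χ : G → ℂ) n) (θ : N → ℂ) ≠ 0)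
    (H : Subgroup G) [Fintype H] (hNH : N ≤ H) (BH : Set (Cfsg.IrrCharacter H))
    (hind : Cfsg.IsInducedBlock M H BH B) : BH ⊆ fps_ovs N H hNH b := by
  classical
  have hMp := hM.2.1.isPrime
  intro ξ hξ
  have hres : Cfsg.IsCharacter N (fun n : N => (ξ : H → ℂ) ⟨(n : G), hNH n.2⟩) :=
    isCharacter_comp_hom (isCharacter_of_irr ξ) (Subgroup.inclusion hNH)
  have hne : (fun n : N => (ξ : H → ℂ) ⟨(n : G), hNH n.2⟩) 1 ≠ 0 := by
    have := irr_one_ne_zero ξ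
    exact this
  obtain ⟨θ₁, m, hm, hθ₁⟩ := isCharacter_exists_constituent hres hne
  have hθ₁ne : Cfsg.classInner (fun n : N => (ξ : H → ℂ) ⟨(n : G), hNH n.2⟩) (θ₁ : N → ℂ) ≠ 0 := by
    rw [hθ₁]
    exact_mod_cast hm.ne'
  obtain ⟨χ, hχ, hχξ⟩ := Cfsg.Agent.S0934.result p M hM H BH B hind ξ hξ
  have h1 : χ ∈ h7_over H (fps_ovs N H hNH {θ₁}) := ⟨ξ, ⟨θ₁, rfl, hθ₁ne⟩, hχξ⟩
  rw [fps_over_stage N H hNH {θ₁}] at h1
  obtain ⟨θ₁', hθ₁', hχθ₁⟩ := h1
  rw [Set.mem_singleton_iff] at hθ₁'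
  subst hθ₁'
  obtain ⟨θ, hθ, hχθ⟩ := fc_block_sub_over hM N b hb hinv B hB hcov hχ
  obtain ⟨g, hg⟩ := h7_clifford_conj N (χ : G → ℂ) χ.2 (θ : N → ℂ) (θ₁' : N → ℂ) θ.2 θ₁'.2 hχθ hχθ₁
  have hmem : θ₁' ∈ b := by
    have h2 := hinv g θ hθ
    have h3 : fr_cj N g θ = θ₁' := Subtype.ext hg.symm
    rw [← h3]
    exact h2
  exact ⟨θ₁', hmem, hθ₁ne⟩

end

end Cfsg.Agent.Lib.Helper26
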