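import Mathlib
import Cfsg.Prelude.Def_Blocks
import Cfsg.Prelude.Def_Local
import Cfsg.Agent.Lib.Helper26.Knorr1
import Cfsg.Agent.Lib.helper7.BlockBrauer2

/-!
Towards Knörr's theorem (S4438): block induction in stages `H₀ ≤ H ≤ G`.
-/

set_option autoImplicit false
set_option linter.style.haveILetI false
set_option linter.unusedSectionVars false
set_option linter.unusedVariables false

namespace Cfsg.Agent.Lib.Helper26

open scoped ComplexConjugate Pointwise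
open Cfsg.Agent.Lib.Helper24 Cfsg.Agent.Lib.Helper25 Cfsg.Agent.Lib.Helper11
open Cfsg.Agent.Lib.helper2 Cfsg.Agent.Lib.helper7

section

variable {G : Type*} [Group G]

/-- the induced central character in stages -/
theorem kn_icc_stage [Fintype G] (H₀ H : Subgroup G) (h₀ : H₀ ≤ H) [Fintype H] [Fintype H₀]
    [Fintype ↥(H₀.subgroupOf H)] [Fintype (ConjClasses H)]
    (ξ₀ : Cfsg.IrrCharacter H₀) (g : G) [DecidablePred (fun h : H => IsConj g (h : G))] :
    ∑ L : ConjClasses H, (if IsConj g ((Quotient.out L : H) : G) then (1 : ℂ) else 0) *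
      Cfsg.inducedCentralChar (H₀.subgroupOf H)
        ((ef_tr (Subgroup.subgroupOfEquivOfLe h₀) ξ₀ : Cfsg.IrrCharacter ↥(H₀.subgroupOf H)) :
          ↥(H₀.subgroupOf H) → ℂ) (Quotient.out L) =
      Cfsg.inducedCentralChar H₀ (ξ₀ : H₀ → ℂ) g := by
  classical
  set e : ↥(H₀.subgroupOf H) ≃* ↥H₀ := Subgroup.subgroupOfEquivOfLe h₀ with he
  have he_val : ∀ k : ↥(H₀.subgroupOf H), ((e k : ↥H₀) : G) = ((k : ↥H) : G) := fun k => rfl
  -- the inner induced central character as a sum over `H₀`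
  have hinner : ∀ x : H, Cfsg.inducedCentralChar (H₀.subgroupOf H)
      ((ef_tr e ξ₀ : Cfsg.IrrCharacter ↥(H₀.subgroupOf H)) : ↥(H₀.subgroupOf H) → ℂ) x =
      ∑ k₀ : H₀, if IsConj x (⟨(k₀ : G), h₀ k₀.2⟩ : H) then
        (ξ₀ : H₀ → ℂ) k₀ / (ξ₀ : H₀ → ℂ) 1 else 0 := by
    intro x
    unfold Cfsg.inducedCentralChar
    rw [h7_finsum_mem_fintype]
    rw [← Equiv.sum_comp e.toEquiv]
    apply Finset.sum_congr rfl
    intro k _
    have h1 : (⟨((e k : ↥H₀) : G), h₀ (e k).2⟩ : H) = (k : H) := Subtype.ext (he_val k)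
    simp only [MulEquiv.toEquiv_eq_coe, MulEquiv.coe_toEquiv, Set.mem_ofPred_eq]
    rw [h1, ef_tr_apply, ef_tr_apply, map_one]
  have houter : Cfsg.inducedCentralChar H₀ (ξ₀ : H₀ → ℂ) g =
      ∑ k₀ : H₀, if IsConj g (k₀ : G) then (ξ₀ : H₀ → ℂ) k₀ / (ξ₀ : H₀ → ℂ) 1 else 0 := by
    unfold Cfsg.inducedCentralChar
    rw [h7_finsum_mem_fintype]
    rfl
  rw [houter]
  simp only [hinner, Finset.mul_sum]
  rw [Finset.sum_comm]
  apply Finset.sum_congr rfl
  intro k₀ _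
  rw [Finset.sum_eq_single (ConjClasses.mk (⟨(k₀ : G), h₀ k₀.2⟩ : H))]
  · have hout : IsConj (Quotient.out (ConjClasses.mk (⟨(k₀ : G), h₀ k₀.2⟩ : H)))
        (⟨(k₀ : G), h₀ k₀.2⟩ : H) := by
      rw [← ConjClasses.mk_eq_mk_iff_isConj]
      exact Quotient.out_eq _
    rw [if_pos hout]
    have hG : IsConj ((Quotient.out (ConjClasses.mk (⟨(k₀ : G), h₀ k₀.2⟩ : H)) : H) : G)
        (k₀ : G) := by
      obtain ⟨c, hc⟩ := isConj_iff.mp hout
      rw [isConj_iff]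
      refine ⟨(c : G), ?_⟩
      have := congrArg (Subtype.val : H → G) hc
      simpa using this
    by_cases hg : IsConj g (k₀ : G)
    · rw [if_pos hg, if_pos (hg.trans hG.symm), one_mul]
    · have hng : ¬ IsConj g ((Quotient.out (ConjClasses.mk (⟨(k₀ : G), h₀ k₀.2⟩ : H)) : H) : G) :=
        fun h => hg (h.trans hG)
      rw [if_neg hg, if_neg hng, zero_mul]
  · intro L _ hL
    have hnot : ¬ IsConj (Quotient.out L) (⟨(k₀ : G), h₀ k₀.2⟩ : H) := by
      intro h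
      apply hL
      rw [← Quotient.out_eq L]
      exact ConjClasses.mk_eq_mk_iff_isConj.mpr h
    rw [if_neg hnot, mul_zero]
  · intro h
    exact absurd (Finset.mem_univ _) h

/-- block induction in stages -/
theorem kn_trans [Fintype G] {M : Ideal Cfsg.AlgInt} (hPr : M.IsPrime) (H₀ H : Subgroup G)
    (h₀ : H₀ ≤ H) (b₀ : Set (Cfsg.IrrCharacter H₀)) (BH : Set (Cfsg.IrrCharacter H))
    (B : Set (Cfsg.IrrCharacter G))
    (h1 : Cfsg.IsInducedBlock M (H₀.subgroupOf H)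
      (bt_trb (Subgroup.subgroupOfEquivOfLe h₀) b₀) BH)
    (h2 : Cfsg.IsInducedBlock M H₀ b₀ B) : Cfsg.IsInducedBlock M H BH B := by
  classical
  haveI : Fintype H := Fintype.ofFinite _
  haveI : Fintype H₀ := Fintype.ofFinite _
  haveI : Fintype ↥(H₀.subgroupOf H) := Fintype.ofFinite _
  haveI : Fintype (ConjClasses H) := Fintype.ofFinite _
  haveI : Fintype (Cfsg.IrrCharacter H₀) := Fintype.ofFinite _
  obtain ⟨hb₀', hBH, hc1⟩ := h1
  obtain ⟨hb₀, hB, hc2⟩ := h2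
  refine ⟨hBH, hB, ?_⟩
  intro ξ hξ χ hχ g
  have hex : ∃ ξ₀, ξ₀ ∈ b₀ := by
    obtain ⟨ξ₁, rfl⟩ := hb₀
    exact ⟨ξ₁, h7_sameBlock_refl hPr _⟩
  obtain ⟨ξ₀, hξ₀⟩ := hex
  have hξ₀' : ef_tr (Subgroup.subgroupOfEquivOfLe h₀) ξ₀ ∈
      bt_trb (Subgroup.subgroupOfEquivOfLe h₀) b₀ :=
    (bt_mem_trb (Subgroup.subgroupOfEquivOfLe h₀) b₀ ξ₀).mpr hξ₀
  have hkey := kn_icc_stage H₀ H h₀ ξ₀ g
  rw [h7_icc_expand' H ξ g]
  have hsplit : ∑ L : ConjClasses H, (if IsConj g ((Quotient.out L : H) : G) then (1 : ℂ) else 0) *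
        Cfsg.centralChar (ξ : H → ℂ) (Quotient.out L) - Cfsg.centralChar (χ : G → ℂ) g =
      (Cfsg.inducedCentralChar H₀ (ξ₀ : H₀ → ℂ) g - Cfsg.centralChar (χ : G → ℂ) g) -
      ∑ L : ConjClasses H, (if IsConj g ((Quotient.out L : H) : G) then (1 : ℂ) else 0) *
        (Cfsg.inducedCentralChar (H₀.subgroupOf H)
          ((ef_tr (Subgroup.subgroupOfEquivOfLe h₀) ξ₀ : Cfsg.IrrCharacter ↥(H₀.subgroupOf H)) :
            ↥(H₀.subgroupOf H) → ℂ) (Quotient.out L) -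
          Cfsg.centralChar (ξ : H → ℂ) (Quotient.out L)) := by
    rw [← hkey]
    simp only [mul_sub, Finset.sum_sub_distrib]
    ring
  rw [hsplit]
  apply h7_memLocalIdeal_sub hPr (hc2 ξ₀ hξ₀ χ hχ g)
  apply h7_memLocalIdeal_sum hPr
  intro L _
  apply h7_memLocalIdeal_mul_left hPr _ (hc1 _ hξ₀' ξ hξ _)
  split_ifs
  · exact h7_memLocalRing_one hPr
  · exact h7_memLocalRing_zero hPr

end

end Cfsg.Agent.Lib.Helper26
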