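import Mathlib
import Cfsg.Prelude.Def_Blocks
import Cfsg.Prelude.Def_Local
import Cfsg.Agent.Lib.Helper26.Knorr2
import Cfsg.Agent.Lib.Helper24.ExtFirstMain3
import Cfsg.Agent.S0919
import Cfsg.Agent.S0917
import Cfsg.Agent.S0906
import Cfsg.Agent.S0908

/-!
Towards Knörr's theorem (S4438): the case of a stable covered block.
-/

set_option autoImplicit false
set_option linter.style.haveILetI false
set_option linter.unusedSectionVars false
set_option linter.unusedVariables false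

namespace Cfsg.Agent.Lib.Helper26

open scoped ComplexConjugate Pointwise
open Cfsg.Agent.Lib.Helper24 Cfsg.Agent.Lib.Helper25 Cfsg.Agent.Lib.Helper11
open Cfsg.Agent.Lib.helper2 Cfsg.Agent.Lib.helper7

section

variable {G : Type*} [Group G]

/-- a block induced from `H₀ = P C_G(P)` is induced from every intermediate subgroup -/
theorem kn_BH [Fintype G] (p : ℕ) [hp : Fact p.Prime] (M : Ideal Cfsg.AlgInt)
    (hM : Cfsg.IsPModular p M) (P : Subgroup G) (hPp : IsPGroup p P) (H₀ : Subgroup G)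
    (hH₀ : H₀ = P ⊔ Subgroup.centralizer (P : Set G)) (b₀ : Set (Cfsg.IrrCharacter H₀))
    (B : Set (Cfsg.IrrCharacter G)) (hind : Cfsg.IsInducedBlock M H₀ b₀ B)
    (H : Subgroup G) (hH₀H : H₀ ≤ H) :
    ∃ BH : Set (Cfsg.IrrCharacter H), Cfsg.IsInducedBlock M H BH B := by
  classical
  have hPr := hM.2.1.isPrime
  have hPH₀ : P ≤ H₀ := hH₀ ▸ le_sup_left
  have hCH₀ : Subgroup.centralizer (P : Set G) ≤ H₀ := hH₀ ▸ le_sup_right
  have hPH : P ≤ H := hPH₀.trans hH₀H
  have hP' : IsPGroup p ↥(P.subgroupOf H) := hPp.comap_subtype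
  have hPH' : P.subgroupOf H ≤ H₀.subgroupOf H := Subgroup.comap_mono hPH₀
  have hCH' : Subgroup.centralizer ((P.subgroupOf H : Subgroup ↥H) : Set ↥H) ≤
      H₀.subgroupOf H := by
    intro x hx
    rw [Subgroup.mem_subgroupOf]
    apply hCH₀
    rw [Subgroup.mem_centralizer_iff] at hx ⊢
    intro q hq
    have := hx ⟨q, hPH hq⟩ (by
      rw [SetLike.mem_coe, Subgroup.mem_subgroupOf]
      exact hq)
    exact congrArg Subtype.val this
  have hHN' : H₀.subgroupOf H ≤
      Subgroup.normalizer ((P.subgroupOf H : Subgroup ↥H) : Set ↥H) := by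
    intro x hx
    rw [Subgroup.mem_subgroupOf, hH₀] at hx
    have hxN : (x : G) ∈ Subgroup.normalizer (P : Set G) :=
      (sup_le Subgroup.le_normalizer (Subgroup.centralizer_le_normalizer _)) hx
    rw [Subgroup.mem_normalizer_iff] at hxN ⊢
    intro y
    rw [Subgroup.mem_subgroupOf, Subgroup.mem_subgroupOf]
    exact hxN (y : G)
  obtain ⟨BH, hBH⟩ := Cfsg.Agent.S0919.result p M hM (P.subgroupOf H) (H₀.subgroupOf H) hP' hPH'
    hCH' hHN' (bt_trb (Subgroup.subgroupOfEquivOfLe hH₀H) b₀)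
    (bt_trb_isPBlock (Subgroup.subgroupOfEquivOfLe hH₀H) b₀ hind.1)
  exact ⟨BH, kn_trans hPr H₀ H hH₀H b₀ BH B hBH hind⟩

/-- the defect of a block inducing `B` is at most the defect of `B` -/
theorem kn_ind_defect_le [Fintype G] (p : ℕ) [hp : Fact p.Prime] (M : Ideal Cfsg.AlgInt)
    (hM : Cfsg.IsPModular p M) (H : Subgroup G) (BH : Set (Cfsg.IrrCharacter H))
    (B : Set (Cfsg.IrrCharacter G)) (hind : Cfsg.IsInducedBlock M H BH B) :
    Cfsg.blockDefect p BH ≤ Cfsg.blockDefect p B := by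
  classical
  obtain ⟨g', hg'⟩ := Cfsg.Agent.S0906.result p M hM BH hind.1
  obtain ⟨P₁⟩ : Nonempty (Sylow p ↥(Subgroup.centralizer ({g'} : Set ↥H))) := inferInstance
  have hD : Cfsg.IsDefectGroup p M BH
      ((P₁ : Subgroup ↥(Subgroup.centralizer ({g'} : Set ↥H))).map
        (Subgroup.centralizer ({g'} : Set ↥H)).subtype) := ⟨g', hg', P₁, rfl⟩
  obtain ⟨E, hE, hDE⟩ := Cfsg.Agent.S0917.result p M hM H BH hind.1 B hind.2.1 hind _ hD
  have h1 := Cfsg.Agent.S0908.result p M hM BH hind.1 _ hD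
  have h2 := Cfsg.Agent.S0908.result p M hM B hind.2.1 E hE
  have h3 := Subgroup.card_map_of_injective (K := (P₁ : Subgroup ↥(Subgroup.centralizer
    ({g'} : Set ↥H))).map (Subgroup.centralizer ({g'} : Set ↥H)).subtype) H.subtype_injective
  have h4 := Subgroup.card_le_of_le hDE
  rw [h3, h1, h2] at h4
  exact (Nat.pow_le_pow_iff_right hp.out.one_lt).mp h4

end

end Cfsg.Agent.Lib.Helper26
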