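import Mathlib
import Cfsg.Prelude.Def_Blocks
import Cfsg.Prelude.Def_Local
import Cfsg.Agent.Lib.Helper26.Knorr3

/-!
Knörr's theorem for a stable covered block: if the block `B` of `G` covers the `G`-stable block
`b` of the normal subgroup `N` and `P` is a defect group of `B`, then `P ∩ N` is a defect group
of `b`.
-/

set_option autoImplicit false
set_option linter.style.haveILetI false
set_option linter.unusedSectionVars false
set_option linter.unusedVariables false

namespace Cfsg.Agent.Lib.Helper26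

open scoped ComplexConjugate Pointwise
open Cfsg.Agent.Lib.Helper24 Cfsg.Agent.Lib.Helper25 Cfsg.Agent.Lib.Helper11
open Cfsg.Agent.Lib.helper2 Cfsg.Agent.Lib.helper7

section

variable {G : Type*} [Group G]

theorem kn_inv_le [Fintype G] (p : ℕ) [hp : Fact p.Prime] (M : Ideal Cfsg.AlgInt)
    (hM : Cfsg.IsPModular p M) (N : Subgroup G) [hN : N.Normal] [Fintype N]
    (b : Set (Cfsg.IrrCharacter N)) (hb : Cfsg.IsPBlock M b) (hinv : fc_inv N b)
    (B : Set (Cfsg.IrrCharacter G)) (hB : Cfsg.IsPBlock M B)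
    (hcov : ∃ χ ∈ B, ∃ θ ∈ b, Cfsg.classInner (fun n : N => (χ : G → ℂ) n) (θ : N → ℂ) ≠ 0)
    (P : Subgroup G) (hP : Cfsg.IsDefectGroup p M B P) :
    Cfsg.blockDefect p b + (N.relIndex P).factorization p ≤ Cfsg.blockDefect p B := by
  classical
  have hPr := hM.2.1.isPrime
  have hPp : IsPGroup p P := ef_isPGroup_of_defect hP
  obtain ⟨⟨b₀, -, hind₀⟩, -⟩ := ef_main p M hM B hB P hP
  have hH : ∃ H : Subgroup G, H = (P ⊔ Subgroup.centralizer (P : Set G)) ⊔ N := ⟨_, rfl⟩
  obtain ⟨H, hHdef⟩ := hH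
  have hH₀H : P ⊔ Subgroup.centralizer (P : Set G) ≤ H := hHdef ▸ le_sup_left
  have hNH : N ≤ H := hHdef ▸ le_sup_right
  have hPH : P ≤ H := le_sup_left.trans hH₀H
  have hCH : Subgroup.centralizer (P : Set G) ≤ H := le_sup_right.trans hH₀H
  haveI : Fintype ↥H := Fintype.ofFinite _
  obtain ⟨BH, hindH⟩ := kn_BH p M hM P hPp _ rfl b₀ B hind₀ H hH₀H
  have hdefle := kn_ind_defect_le p M hM H BH B hindH
  have hcovH := kn_cover p hM N b hb hinv B hB hcov H hNH BH hindH
  -- inside `H`
  haveI : Fintype ↥(N.subgroupOf H) := Fintype.ofFinite _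
  have hsubH : BH ⊆ h7_over (N.subgroupOf H) (bt_trb (Subgroup.subgroupOfEquivOfLe hNH) b) := by
    rw [fps_over_tr N H hNH b]
    exact hcovH
  have hS : ∃ S : Subgroup G, S = P ⊔ N := ⟨_, rfl⟩
  obtain ⟨S, hSdef⟩ := hS
  have hPS : P ≤ S := hSdef ▸ le_sup_left
  have hNS : N ≤ S := hSdef ▸ le_sup_right
  have hSH : S ≤ H := hSdef ▸ sup_le hPH hNH
  have hHnorm : H ≤ Subgroup.normalizer (S : Set G) := by
    rw [hHdef]
    refine sup_le (sup_le (hPS.trans Subgroup.le_normalizer) ?_)
      (hNS.trans Subgroup.le_normalizer)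
    intro c hc
    rw [Subgroup.mem_normalizer_iff]
    have hcP : ∀ y : G, y ∈ P ↔ c * y * c⁻¹ ∈ P := by
      intro y
      have h1 : ∀ z ∈ P, c * z * c⁻¹ = z := by
        intro z hz
        have := Subgroup.mem_centralizer_iff.mp hc z hz
        rw [← this]
        group
      constructor
      · intro hy
        rw [h1 y hy]
        exact hy
      · intro hy
        have h2 := h1 _ hy
        have h3 : c * y * c⁻¹ = y := by
          have : c * (c * y * c⁻¹) * c⁻¹ = c * y * c⁻¹ := h2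
          have h4 : c⁻¹ * (c * (c * y * c⁻¹) * c⁻¹) * c = c⁻¹ * (c * y * c⁻¹) * c := by rw [this]
          have e1 : c⁻¹ * (c * (c * y * c⁻¹) * c⁻¹) * c = c * y * c⁻¹ := by group
          have e2 : c⁻¹ * (c * y * c⁻¹) * c = y := by group
          rw [e1, e2] at h4
          exact h4
        rw [← h3]
        exact hy
    have hconj : ∀ y : G, y ∈ S → c * y * c⁻¹ ∈ S := by
      intro y hy
      rw [hSdef] at hy ⊢
      have hmap : (P ⊔ N).map (MulAut.conj c).toMonoidHom ≤ P ⊔ N := by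
        rw [Subgroup.map_sup]
        apply sup_le
        · rintro _ ⟨z, hz, rfl⟩
          apply Subgroup.mem_sup_left
          exact (hcP z).mp hz
        · rintro _ ⟨z, hz, rfl⟩
          apply Subgroup.mem_sup_right
          exact hN.conj_mem z hz c
      exact hmap ⟨y, hy, rfl⟩
    have hcinv : c⁻¹ ∈ Subgroup.centralizer (P : Set G) := Subgroup.inv_mem _ hc
    intro y
    constructor
    · exact hconj y
    · intro hy
      -- conjugate back with c⁻¹
      have hcP' : ∀ z ∈ P, c⁻¹ * z * c⁻¹⁻¹ ∈ P := by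
        intro z hz
        have := Subgroup.mem_centralizer_iff.mp hcinv z hz
        have e : c⁻¹ * z * c⁻¹⁻¹ = z := by
          rw [← this]
          group
        rw [e]
        exact hz
      have hmap : (P ⊔ N).map (MulAut.conj c⁻¹).toMonoidHom ≤ P ⊔ N := by
        rw [Subgroup.map_sup]
        apply sup_le
        · rintro _ ⟨z, hz, rfl⟩
          apply Subgroup.mem_sup_left
          exact hcP' z hz
        · rintro _ ⟨z, hz, rfl⟩
          apply Subgroup.mem_sup_right
          exact hN.conj_mem z hz c⁻¹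
      rw [hSdef] at hy ⊢
      have := hmap ⟨_, hy, rfl⟩
      have e : (MulAut.conj c⁻¹).toMonoidHom (c * y * c⁻¹) = y := by
        simp only [MulEquiv.coe_toMonoidHom, MulAut.conj_apply]
        group
      rw [e] at this
      exact this
  haveI hSHn : (S.subgroupOf H).Normal := (Subgroup.normal_subgroupOf_iff_le_normalizer hSH).mpr hHnorm
  haveI : Fintype ↥(S.subgroupOf H) := Fintype.ofFinite _
  have hNS_H : N.subgroupOf H ≤ S.subgroupOf H := Subgroup.comap_mono hNS
  -- index
  have hrel : ((N.subgroupOf H).subgroupOf (S.subgroupOf H)).index = N.relIndex P := by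
    have h1 : ((N.subgroupOf H).subgroupOf (S.subgroupOf H)).index =
        (N.subgroupOf H).relIndex (S.subgroupOf H) := rfl
    rw [h1, Subgroup.relIndex_subgroupOf hSH, hSdef, Subgroup.relIndex_sup_right]
  have hdvd : N.relIndex P ∣ Nat.card P := by
    rw [← Subgroup.inf_relIndex_left P N]
    exact Subgroup.index_dvd_card ((P ⊓ N).subgroupOf P)
  have hidx : ∃ k : ℕ, ((N.subgroupOf H).subgroupOf (S.subgroupOf H)).index = p ^ k := by
    obtain ⟨m, hm⟩ := IsPGroup.iff_card.mp hPp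
    rw [hm] at hdvd
    obtain ⟨k, _, hk⟩ := (Nat.dvd_prime_pow hp.out).mp hdvd
    exact ⟨k, by rw [hrel, hk]⟩
  have hmain := kn_ppow_defect p hM (N.subgroupOf H) (S.subgroupOf H) hNS_H hidx
    (bt_trb (Subgroup.subgroupOfEquivOfLe hNH) b)
    (bt_trb_isPBlock (Subgroup.subgroupOfEquivOfLe hNH) b hb) (fps_inv_tr N H hNH b hinv)
    BH hindH.1 hsubH
  rw [bt_blockDefect, hrel] at hmain
  omega

/-- Knörr's theorem, stable case -/
theorem kn_inv [Fintype G] (p : ℕ) [hp : Fact p.Prime] (M : Ideal Cfsg.AlgInt)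
    (hM : Cfsg.IsPModular p M) (N : Subgroup G) [hN : N.Normal] [Fintype N]
    (b : Set (Cfsg.IrrCharacter N)) (hb : Cfsg.IsPBlock M b) (hinv : fc_inv N b)
    (B : Set (Cfsg.IrrCharacter G)) (hB : Cfsg.IsPBlock M B)
    (hcov : ∃ χ ∈ B, ∃ θ ∈ b, Cfsg.classInner (fun n : N => (χ : G → ℂ) n) (θ : N → ℂ) ≠ 0)
    (P : Subgroup G) (hP : Cfsg.IsDefectGroup p M B P) :
    Cfsg.IsDefectGroup p M b ((P ⊓ N).subgroupOf N) := by
  classical
  have hPp : IsPGroup p P := ef_isPGroup_of_defect hP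
  have hle := kn_inv_le p M hM N b hb hinv B hB hcov P hP
  obtain ⟨Q, hQ, hRQ⟩ := fc_inter_le hM N b hb hinv B hB hcov P hP
  have hcardQ := Cfsg.Agent.S0908.result p M hM b hb Q hQ
  have hcardP := Cfsg.Agent.S0908.result p M hM B hB P hP
  -- cardinalities
  have hcardR : Nat.card ↥((P ⊓ N).subgroupOf N) = Nat.card ↥(P ⊓ N) :=
    Nat.card_congr (Subgroup.subgroupOfEquivOfLe inf_le_right).toEquiv
  have hcardR' : Nat.card ↥((P ⊓ N).subgroupOf P) = Nat.card ↥(P ⊓ N) :=
    Nat.card_congr (Subgroup.subgroupOfEquivOfLe inf_le_left).toEquiv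
  have hmul : Nat.card ↥(P ⊓ N) * N.relIndex P = Nat.card P := by
    rw [← Subgroup.inf_relIndex_left P N, ← hcardR']
    exact Subgroup.card_mul_index ((P ⊓ N).subgroupOf P)
  have hRp : IsPGroup p ↥(P ⊓ N) := hPp.to_le inf_le_left
  obtain ⟨j, hj⟩ := IsPGroup.iff_card.mp hRp
  have hdvd : N.relIndex P ∣ p ^ Cfsg.blockDefect p B := by
    rw [← hcardP, ← hmul]
    exact dvd_mul_left _ _
  obtain ⟨i, _, hi⟩ := (Nat.dvd_prime_pow hp.out).mp hdvd
  rw [hi, hj, hcardP, ← pow_add] at hmul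
  have hij : j + i = Cfsg.blockDefect p B := Nat.pow_right_injective hp.out.two_le hmul
  have hfac : (N.relIndex P).factorization p = i := by
    rw [hi, Nat.Prime.factorization_pow hp.out]
    simp
  rw [hfac] at hle
  have hjge : Cfsg.blockDefect p b ≤ j := by omega
  have hcardle : Nat.card Q ≤ Nat.card ↥((P ⊓ N).subgroupOf N) := by
    rw [hcardQ, hcardR, hj]
    exact Nat.pow_le_pow_right hp.out.pos hjge
  have heq : (P ⊓ N).subgroupOf N = Q := Subgroup.eq_of_le_of_card_ge hRQ hcardle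
  rw [heq]
  exact hQ

end

end Cfsg.Agent.Lib.Helper26
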