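import Mathlib
import Cfsg.Prelude.Def_Blocks
import Cfsg.Prelude.Def_Local
import Cfsg.Prelude.Def_BlockLocal
import Cfsg.Agent.Lib.Helper26.Knorr4
import Cfsg.Agent.Lib.Helper24.FongReynolds5
import Cfsg.Agent.Lib.Helper24.QuotDefect2
import Cfsg.Agent.Lib.Helper25.BrauerPairCent
import Cfsg.Agent.Lib.Helper25.BrauerPairCover

/-!
Knörr's theorem (S4438): a block `B` of `G` covering the block `b` of the normal subgroup `N` has
a defect group `P` with `P ∩ N` a defect group of `b`.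
-/

set_option autoImplicit false
set_option linter.style.haveILetI false
set_option linter.unusedSectionVars false
set_option linter.unusedVariables false

namespace Cfsg.Agent.Lib.Helper26

open scoped ComplexConjugate Pointwise
open Cfsg.Agent.Lib.Helper24 Cfsg.Agent.Lib.Helper25 Cfsg.Agent.Lib.Helper11
open Cfsg.Agent.Lib.helper2 Cfsg.Agent.Lib.helper7

section

/-- transport of defect groups along a group isomorphism -/
theorem kn_defectGroup_tr {A B' : Type*} [Group A] [Group B'] [Finite A] [Finite B'] (p : ℕ)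
    [hp : Fact p.Prime] (M : Ideal Cfsg.AlgInt) (e : A ≃* B') (b : Set (Cfsg.IrrCharacter B'))
    (D : Subgroup A) (hD : Cfsg.IsDefectGroup p M (bt_trb e b) D) :
    Cfsg.IsDefectGroup p M b (D.map e.toMonoidHom) := by
  classical
  haveI : Fintype A := Fintype.ofFinite _
  haveI : Fintype B' := Fintype.ofFinite _
  obtain ⟨a, ha, P, rfl⟩ := hD
  have hcoef : Cfsg.blockCoeff (bt_trb e b) a = Cfsg.blockCoeff b (e a) :=
    bq_blockCoeff_trSet e b a
  have hclass : Cfsg.IsDefectClass M b (e a) := by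
    refine ⟨hcoef ▸ ha.1, hcoef ▸ ha.2.1, ?_⟩
    intro χ hχ
    have h1 := ha.2.2 (ef_tr e χ) ((bt_mem_trb e b χ).mpr hχ)
    have h2 : Cfsg.centralChar ((ef_tr e χ : Cfsg.IrrCharacter A) : A → ℂ) a =
        Cfsg.centralChar (χ : B' → ℂ) (e a) := bm_centralChar_comp_equiv e (χ : B' → ℂ) a
    rw [h2] at h1
    exact h1
  apply h7_isDefectGroup_of_card p M b (e a) hclass
  · rintro _ ⟨d, ⟨q, _, rfl⟩, rfl⟩
    have hq := Subgroup.mem_centralizer_singleton_iff.mp q.2
    rw [Subgroup.mem_centralizer_singleton_iff]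
    show e ((q : A)) * e a = e a * e (q : A)
    rw [← map_mul, ← map_mul, hq]
  · rw [Subgroup.card_map_of_injective e.injective,
      Subgroup.card_map_of_injective (Subgroup.subtype_injective _), Sylow.card_eq_multiplicity]
    congr 1
    have h1 := Subgroup.card_mul_index (Subgroup.centralizer ({e a} : Set B'))
    have h2 := Subgroup.card_mul_index (Subgroup.centralizer ({a} : Set A))
    have h3 := bm_index_centralizer_equiv e a
    have h4 : Nat.card A = Nat.card B' := Nat.card_congr e.toEquiv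
    rw [h3, ← h4, ← h2] at h1
    have hpos : 0 < (Subgroup.centralizer ({a} : Set A)).index :=
      Nat.pos_of_ne_zero Subgroup.index_ne_zero_of_finite
    rw [Nat.eq_of_mul_eq_mul_right hpos h1]

end

section

variable {G : Type*} [Group G]

/-- stability of the transported block under the subgroup `K`, from stability under `K` -/
theorem kn_inv_tr (L K : Subgroup G) (hLK : L ≤ K) [hL : L.Normal]
    (c : Set (Cfsg.IrrCharacter L)) (hinv : ∀ g ∈ K, ∀ θ ∈ c, fr_cj L g θ ∈ c) :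
    fc_inv (L.subgroupOf K) (bt_trb (Subgroup.subgroupOfEquivOfLe hLK) c) := by
  set e : ↥(L.subgroupOf K) ≃* ↥L := Subgroup.subgroupOfEquivOfLe hLK with he
  intro x θ' hθ'
  rw [bt_mem_trb'] at hθ' ⊢
  have h1 := hinv (x : G) x.2 _ hθ'
  have h2 : ef_tr e.symm (fr_cj (L.subgroupOf K) x θ') = fr_cj L (x : G) (ef_tr e.symm θ') := by
    apply Subtype.ext
    funext l
    rw [ef_tr_apply, fr_cj_val, fr_cj_val, cj_apply, cj_apply, ef_tr_apply]
    refine congrArg (θ' : ↥(L.subgroupOf K) → ℂ) ?_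
    apply Subtype.ext
    apply Subtype.ext
    rfl
  rw [h2]
  exact h1

/-- Knörr's theorem: a defect group `P` of `B` with `P ∩ N` a defect group of the covered block
`b`, stabilizing `b` -/
theorem kn_general [Fintype G] (p : ℕ) [hp : Fact p.Prime] (M : Ideal Cfsg.AlgInt)
    (hM : Cfsg.IsPModular p M) (N : Subgroup G) [hN : N.Normal] [Fintype N]
    (b : Set (Cfsg.IrrCharacter N)) (hb : Cfsg.IsPBlock M b)
    (B : Set (Cfsg.IrrCharacter G)) (hB : Cfsg.IsPBlock M B)
    (hcov : ∃ χ ∈ B, ∃ θ ∈ b, Cfsg.classInner (fun n : N => (χ : G → ℂ) n) (θ : N → ℂ) ≠ 0) :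
    ∃ P : Subgroup G, Cfsg.IsDefectGroup p M B P ∧
      Cfsg.IsDefectGroup p M b ((P ⊓ N).subgroupOf N) ∧
      ∀ x ∈ P, Cfsg.StabilizesBlock N b x := by
  classical
  have hPr := hM.2.1.isPrime
  have hT : ∃ T : Subgroup G, T = bq_stabSubgroup N b := ⟨_, rfl⟩
  obtain ⟨T, hTdef⟩ := hT
  have hTmem : ∀ x : G, x ∈ T ↔ Cfsg.StabilizesBlock N b x := by
    intro x
    rw [hTdef]
    exact bq_mem_stabSubgroup hPr N b hb x
  have hTcj : ∀ g ∈ T, ∀ θ ∈ b, fr_cj N g θ ∈ b := fun g hg θ hθ =>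
    fp_cj_of_stab N b g ((hTmem g⁻¹).mp (T.inv_mem hg)) θ hθ
  have hTform : ∀ g : G, g ∈ T ↔ ∀ θ ∈ b, ∀ θ' : Cfsg.IrrCharacter N,
      (∀ n : N, (θ' : N → ℂ) n = (θ : N → ℂ) ⟨g * n * g⁻¹, hN.conj_mem n n.2 g⟩) → θ' ∈ b := by
    intro g
    constructor
    · intro hg θ hθ θ' hθ'
      have h1 : θ' = fr_cj N g θ := by
        apply Subtype.ext
        funext n
        rw [fr_cj_val, cj_apply]
        exact hθ' n
      rw [h1]
      exact hTcj g hg θ hθ
    · intro h
      have h1 : ∀ θ ∈ b, fr_cj N g⁻¹⁻¹ θ ∈ b := by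
        intro θ hθ
        rw [inv_inv]
        exact h θ hθ (fr_cj N g θ) (fun n => rfl)
      have h2 := (hTmem g⁻¹).mpr (fp_stab_of_cj N b g⁻¹ h1)
      have h3 := T.inv_mem h2
      rw [inv_inv] at h3
      exact h3
  have hNT : N ≤ T := by
    intro n hn
    rw [hTform]
    intro θ hθ θ' hθ'
    have h1 : θ' = θ := by
      apply Subtype.ext
      funext m
      rw [hθ' m]
      have := irr_conj_invariant θ m (⟨n, hn⟩ : N)
      rw [← this]
      rfl
    rw [h1]
    exact hθ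
  haveI : Fintype ↥T := Fintype.ofFinite _
  haveI : Fintype ↥(N.subgroupOf T) := Fintype.ofFinite _
  obtain ⟨B', hB', hcov', hind'⟩ := (fr_main p M hM N b hb T hTform hNT).2.2 B hB hcov
  have hdefT := (fr_heights p M hM N b hb T hTform hNT B' hB' hcov' B hind').1
  -- inside `T`
  have hinvT : fc_inv (N.subgroupOf T) (bt_trb (Subgroup.subgroupOfEquivOfLe hNT) b) :=
    kn_inv_tr N T hNT b hTcj
  have hcovT : ∃ ψ ∈ B', ∃ θ' ∈ bt_trb (Subgroup.subgroupOfEquivOfLe hNT) b,
      Cfsg.classInner (fun n : ↥(N.subgroupOf T) => (ψ : ↥T → ℂ) n)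
        (θ' : ↥(N.subgroupOf T) → ℂ) ≠ 0 := by
    obtain ⟨ψ, hψ, θ, hθ, hcon⟩ := hcov'
    have h1 : ψ ∈ fps_ovs N T hNT b := ⟨θ, hθ, hcon⟩
    rw [← fps_over_tr N T hNT b] at h1
    obtain ⟨θ', hθ', hcon'⟩ := h1
    exact ⟨ψ, hψ, θ', hθ', hcon'⟩
  obtain ⟨g', hg'⟩ := Cfsg.Agent.S0906.result p M hM B' hB'
  obtain ⟨P₁⟩ : Nonempty (Sylow p ↥(Subgroup.centralizer ({g'} : Set ↥T))) := inferInstance
  have hP' : ∃ P' : Subgroup ↥T, Cfsg.IsDefectGroup p M B' P' :=
    ⟨_, g', hg', P₁, rfl⟩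
  obtain ⟨P', hP'⟩ := hP'
  have hknT := kn_inv p M hM (N.subgroupOf T) _
    (bt_trb_isPBlock (Subgroup.subgroupOfEquivOfLe hNT) b hb) hinvT B' hB' hcovT P' hP'
  have hkn := kn_defectGroup_tr p M (Subgroup.subgroupOfEquivOfLe hNT) b _ hknT
  refine ⟨P'.map T.subtype, hdefT P' hP', ?_, ?_⟩
  · have heq : ((P' ⊓ N.subgroupOf T).subgroupOf (N.subgroupOf T)).map
        (Subgroup.subgroupOfEquivOfLe hNT).toMonoidHom =
        (P'.map T.subtype ⊓ N).subgroupOf N := by
      ext n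
      rw [Subgroup.mem_map, Subgroup.mem_subgroupOf, Subgroup.mem_inf, Subgroup.mem_map]
      constructor
      · rintro ⟨d, hd, rfl⟩
        rw [Subgroup.mem_subgroupOf, Subgroup.mem_inf] at hd
        refine ⟨⟨(d : ↥T), hd.1, rfl⟩, ?_⟩
        exact (Subgroup.subgroupOfEquivOfLe hNT d).2
      · rintro ⟨⟨t, ht, htn⟩, hnN⟩
        have htN : t ∈ N.subgroupOf T := by
          rw [Subgroup.mem_subgroupOf]
          have : ((t : ↥T) : G) = (n : G) := htn
          rw [this]
          exact hnN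
        refine ⟨⟨t, htN⟩, ?_, ?_⟩
        · rw [Subgroup.mem_subgroupOf, Subgroup.mem_inf]
          exact ⟨ht, htN⟩
        · apply Subtype.ext
          exact htn
    rw [← heq]
    exact hkn
  · rintro x ⟨t, _, rfl⟩
    exact (hTmem _).mp t.2

end

end Cfsg.Agent.Lib.Helper26
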