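import Mathlib
import Cfsg.Prelude.Def_Blocks
import Cfsg.Prelude.Def_Local
import Cfsg.Prelude.Def_BlockLocal
import Cfsg.Agent.Lib.Helper26.Knorr5
import Cfsg.Agent.Lib.Helper26.DeficiencyClass
import Cfsg.Agent.Lib.Helper25.InducedBlockPart
import Cfsg.Agent.Lib.Helper25.ThirdMain
import Cfsg.Agent.Lib.Helper25.BrauerMapBasic

/-!
S4583: a `p'`-degree character of the principal block of a normal subgroup `N` which extends to
`N P` (with `P` a Sylow `p`-subgroup of `G`) lies under a `p'`-degree character of the principal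
block of `G`.
-/

set_option autoImplicit false
set_option linter.style.haveILetI false
set_option linter.unusedSectionVars false
set_option linter.unusedVariables false

namespace Cfsg.Agent.Lib.Helper26

open scoped ComplexConjugate Pointwise
open Cfsg.Agent.Lib.Helper24 Cfsg.Agent.Lib.Helper25 Cfsg.Agent.Lib.Helper11
open Cfsg.Agent.Lib.helper2 Cfsg.Agent.Lib.helper7

section

/-- a `p'`-degree character of `b` induces, over a subgroup of `p'`-index, a character with a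
`p'`-degree constituent in the induced block -/
theorem xp_induce {G : Type*} [Group G] [Fintype G] (p : ℕ) [hp : Fact p.Prime]
    (M : Ideal Cfsg.AlgInt) (hM : Cfsg.IsPModular p M) (H : Subgroup G) [Fintype H]
    (b : Set (Cfsg.IrrCharacter H)) (B₀ : Set (Cfsg.IrrCharacter G))
    (hind : Cfsg.IsInducedBlock M H b B₀) (ξ : Cfsg.IrrCharacter H) (hξ : ξ ∈ b)
    (hidx : ¬ p ∣ H.index) (hdeg : ¬ p ∣ Cfsg.charDegree (ξ : H → ℂ)) :
    ∃ χ ∈ B₀, ¬ p ∣ Cfsg.charDegree (χ : G → ℂ) ∧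
      Cfsg.classInner (fun h : H => (χ : G → ℂ) h) (ξ : H → ℂ) ≠ 0 := by
  classical
  haveI : Fintype (Cfsg.IrrCharacter G) := Fintype.ofFinite _
  obtain ⟨⟨n, hn1, hn0, hnf⟩, -⟩ := ib_main p M hM H b B₀ hind ξ hξ
  set Ψ := Cfsg.indFun H (ξ : H → ℂ) with hΨ
  have hΨchar : Cfsg.IsCharacter G Ψ := isCharacter_indFun H _ (isCharacter_of_irr ξ)
  obtain ⟨a, ha, _⟩ := isCharacter_expansion hΨchar
  obtain ⟨hζd1, hζd2, hζd3⟩ := h7_charDegree_props ξ
  set D := H.index * Cfsg.charDegree (ξ : H → ℂ) with hD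
  have hΨ1 : Ψ 1 = (D : ℂ) := by
    rw [hΨ, h7_indFun_one, hD, ← hζd3]
    push_cast
    ring
  have hdegΨ : Cfsg.charDegree Ψ = D := by
    unfold Cfsg.charDegree
    rw [hΨ1, Complex.natCast_re, Nat.floor_natCast]
  by_contra hcon
  have hall : ∀ χ ∈ B₀, p ∣ a χ * Cfsg.charDegree (χ : G → ℂ) := by
    intro χ hχ
    by_cases hd : p ∣ Cfsg.charDegree (χ : G → ℂ)
    · exact dvd_mul_of_dvd_right hd _
    · have h0 : Cfsg.classInner (fun h : H => (χ : G → ℂ) h) (ξ : H → ℂ) = 0 := by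
        by_contra h
        exact hcon ⟨χ, hχ, hd, h⟩
      have h1 : Cfsg.classInner Ψ (χ : G → ℂ) = 0 := by
        rw [hΨ, h7_frobenius_reciprocity H _ _ (fun g h => irr_conj_invariant χ g h),
          Cfsg.Agent.Lib.helper2.classInner_conj_symm, h0, map_zero]
      rw [ha χ] at h1
      have h2 : a χ = 0 := by exact_mod_cast h1
      rw [h2, zero_mul]
      exact dvd_zero _
  have hsum : (n : ℂ) = ((∑ χ : Cfsg.IrrCharacter G,
      if χ ∈ B₀ then a χ * Cfsg.charDegree (χ : G → ℂ) else 0 : ℕ) : ℂ) := by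
    rw [← hn1, ib_blockPart_apply, finsum_mem_def, finsum_eq_sum_of_fintype]
    push_cast
    refine Finset.sum_congr rfl fun χ _ => ?_
    rw [Set.indicator_apply]
    split_ifs
    · rw [ha χ, (h7_charDegree_props χ).2.2]
    · rfl
  have hn_eq : n = ∑ χ : Cfsg.IrrCharacter G,
      if χ ∈ B₀ then a χ * Cfsg.charDegree (χ : G → ℂ) else 0 := by exact_mod_cast hsum
  have hpn : p ∣ n := by
    rw [hn_eq]
    apply Finset.dvd_sum
    intro χ _
    split_ifs with h
    · exact hall χ h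
    · exact dvd_zero _
  have hD0 : (Cfsg.charDegree Ψ).factorization p = 0 := by
    rw [hdegΨ]
    exact Nat.factorization_eq_zero_of_not_dvd
      (fun h => ((Nat.Prime.dvd_mul hp.out).mp h).elim hidx hdeg)
  rw [hD0] at hnf
  rcases (Nat.factorization_eq_zero_iff n p).mp hnf with h | h | h
  · exact h hp.out
  · exact h hpn
  · exact hn0 h

/-- over a normal subgroup of index prime to `p`, every `p'`-degree character of the principal
block lies under a `p'`-degree character of the principal block -/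
theorem xp_cover {X : Type*} [Group X] [Fintype X] (p : ℕ) [hp : Fact p.Prime]
    (M : Ideal Cfsg.AlgInt) (hM : Cfsg.IsPModular p M) (S : Subgroup X) [hS : S.Normal]
    [Fintype S] (hidx : S.index.Coprime p) (η : Cfsg.IrrCharacter S)
    (hη : η ∈ Cfsg.principalBlock M S) (hdeg : ¬ p ∣ Cfsg.charDegree (η : S → ℂ)) :
    ∃ ξ ∈ Cfsg.principalBlock M X, ¬ p ∣ Cfsg.charDegree (ξ : X → ℂ) ∧
      Cfsg.classInner (fun n : S => (ξ : X → ℂ) n) (η : S → ℂ) ≠ 0 := by
  classical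
  haveI : Fintype (Cfsg.IrrCharacter X) := Fintype.ofFinite _
  haveI : Fintype (Cfsg.IrrCharacter S) := Fintype.ofFinite _
  have hPr := hM.2.1.isPrime
  have hcov : ∃ χ ∈ Cfsg.principalBlock M X, ∃ θ ∈ Cfsg.principalBlock M S,
      Cfsg.classInner (fun n : S => (χ : X → ℂ) n) (θ : S → ℂ) ≠ 0 := by
    refine ⟨trivIrr X, h7_sameBlock_refl hPr _, trivIrr S, h7_sameBlock_refl hPr _, ?_⟩
    have h1 : (fun n : S => (trivIrr X : X → ℂ) n) = (trivIrr S : S → ℂ) := rfl
    rw [h1, h7_irr_norm (trivIrr S).2]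
    exact one_ne_zero
  obtain ⟨ξ, hξ, hcon⟩ := cva_main S p M hM (Cfsg.principalBlock M X) ⟨trivIrr X, rfl⟩
    (Cfsg.principalBlock M S) ⟨trivIrr S, rfl⟩ hcov η hη
  exact ⟨ξ, hξ, fps_deg_coprime p S hidx ξ η hcon hdeg, hcon⟩

/-- over a normal subgroup of `p`-power index, a character lying over the principal block lies
in the principal block -/
theorem xp_mem_principal {Y : Type*} [Group Y] [Fintype Y] (p : ℕ) [hp : Fact p.Prime]
    (M : Ideal Cfsg.AlgInt) (hM : Cfsg.IsPModular p M) (K : Subgroup Y) [hK : K.Normal]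
    [Fintype K] (hidx : ∃ k : ℕ, K.index = p ^ k) (η : Cfsg.IrrCharacter Y)
    (hη : η ∈ h7_over K (Cfsg.principalBlock M K)) : η ∈ Cfsg.principalBlock M Y := by
  classical
  haveI : Fintype (Cfsg.IrrCharacter Y) := Fintype.ofFinite _
  haveI : Fintype (Cfsg.IrrCharacter K) := Fintype.ofFinite _
  have hPr := hM.2.1.isPrime
  have hinv : fc_inv K (Cfsg.principalBlock M K) := by
    apply fp_inv_of_stab
    intro x
    apply bm_principal_stable p M hM K x
    rw [Subgroup.normalizer_eq_top_iff.mpr hK]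
    exact Subgroup.mem_top x
  obtain ⟨-, huniq⟩ := fp_over_is_block hM K hidx (Cfsg.principalBlock M K) ⟨trivIrr K, rfl⟩ hinv
  have h := huniq (Cfsg.principalBlock M Y) ⟨trivIrr Y, rfl⟩ (by
    refine ⟨trivIrr Y, h7_sameBlock_refl hPr _, trivIrr K, h7_sameBlock_refl hPr _, ?_⟩
    have h1 : (fun n : K => (trivIrr Y : Y → ℂ) n) = (trivIrr K : K → ℂ) := rfl
    rw [h1, h7_irr_norm (trivIrr K).2]
    exact one_ne_zero)
  rw [h]
  exact hη


/-- `P C_G(P) N` normalizes `N P` -/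
theorem xp_normalizer {G : Type*} [Group G] (N : Subgroup G) [hN : N.Normal] (P : Subgroup G) :
    (P ⊔ Subgroup.centralizer (P : Set G)) ⊔ N ≤
      Subgroup.normalizer ((N ⊔ P : Subgroup G) : Set G) := by
  refine sup_le (sup_le (le_sup_right.trans Subgroup.le_normalizer) ?_)
    (le_sup_left.trans Subgroup.le_normalizer)
  intro c hc
  have hkey : ∀ d : G, d ∈ Subgroup.centralizer (P : Set G) → ∀ y : G, y ∈ N ⊔ P →
      d * y * d⁻¹ ∈ N ⊔ P := by
    intro d hd y hy
    have hmap : (N ⊔ P).map (MulAut.conj d).toMonoidHom ≤ N ⊔ P := by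
      rw [Subgroup.map_sup]
      apply sup_le
      · rintro _ ⟨z, hz, rfl⟩
        apply Subgroup.mem_sup_left
        exact hN.conj_mem z hz d
      · rintro _ ⟨z, hz, rfl⟩
        apply Subgroup.mem_sup_right
        have h1 : (MulAut.conj d).toMonoidHom z = z := by
          have := Subgroup.mem_centralizer_iff.mp hd z hz
          simp only [MulEquiv.coe_toMonoidHom, MulAut.conj_apply]
          rw [← this]
          group
        rw [h1]
        exact hz
    exact hmap ⟨y, hy, rfl⟩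
  rw [Subgroup.mem_normalizer_iff]
  intro y
  constructor
  · exact hkey c hc y
  · intro hy
    have h1 := hkey c⁻¹ (Subgroup.inv_mem _ hc) _ hy
    have e : c⁻¹ * (c * y * c⁻¹) * c⁻¹⁻¹ = y := by group
    rw [e] at h1
    exact h1

theorem xp_core {G : Type*} [Group G] [Fintype G] (N : Subgroup G) [hN : N.Normal] [Fintype N]
    (p : ℕ) [hp : Fact p.Prime] (M : Ideal Cfsg.AlgInt) (hM : Cfsg.IsPModular p M)
    (P : Sylow p G) (S : Subgroup G) (hS : S = N ⊔ (P : Subgroup G)) (hNS : N ≤ S)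
    (θ : Cfsg.IrrCharacter N) (hθ : θ ∈ Cfsg.principalBlock M N)
    (hdeg : ¬ p ∣ Cfsg.charDegree (θ : N → ℂ)) (η : Cfsg.IrrCharacter S)
    (hη : ∀ n : N, (η : S → ℂ) ⟨(n : G), hNS n.2⟩ = (θ : N → ℂ) n) :
    ∃ χ : Cfsg.IrrCharacter G, χ ∈ Cfsg.principalBlock M G ∧
      ¬ p ∣ Cfsg.charDegree (χ : G → ℂ) ∧
      Cfsg.classInner (fun n : N => (χ : G → ℂ) n) (θ : N → ℂ) ≠ 0 := by
  classical
  have hPr := hM.2.1.isPrime
  have hPp : IsPGroup p (P : Subgroup G) := P.isPGroup'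
  obtain ⟨H, hHdef⟩ : ∃ H : Subgroup G, H = ((P : Subgroup G) ⊔
      Subgroup.centralizer ((P : Subgroup G) : Set G)) ⊔ N := ⟨_, rfl⟩
  have hH₀H : (P : Subgroup G) ⊔ Subgroup.centralizer ((P : Subgroup G) : Set G) ≤ H :=
    hHdef ▸ le_sup_left
  have hNH : N ≤ H := hHdef ▸ le_sup_right
  have hPH : (P : Subgroup G) ≤ H := le_sup_left.trans hH₀H
  have hPS : (P : Subgroup G) ≤ S := hS ▸ le_sup_right
  have hSH : S ≤ H := hS ▸ sup_le hNH hPH
  have hHnorm : H ≤ Subgroup.normalizer (S : Set G) := by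
    rw [hHdef, hS]
    exact xp_normalizer N (P : Subgroup G)
  haveI : Fintype ↥H := Fintype.ofFinite _
  haveI : Fintype ↥S := Fintype.ofFinite _
  -- the principal block of `H` induces the principal block of `G`
  have hdef₀ : Cfsg.InducedBlockDefined M
      ((P : Subgroup G) ⊔ Subgroup.centralizer ((P : Subgroup G) : Set G))
      (Cfsg.principalBlock M _) :=
    Cfsg.Agent.S0919.result p M hM (P : Subgroup G) _ hPp le_sup_left le_sup_right
      (sup_le Subgroup.le_normalizer (Subgroup.centralizer_le_normalizer _)) _ ⟨trivIrr _, rfl⟩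
  have hind₀ := (tm_main p M hM _ _ hdef₀).mpr rfl
  obtain ⟨BH, hindH⟩ := kn_BH p M hM (P : Subgroup G) hPp _ rfl _ _ hind₀ H hH₀H
  have hBH : BH = Cfsg.principalBlock M H := (tm_main p M hM H BH ⟨_, hindH⟩).mp hindH
  rw [hBH] at hindH
  -- `η` lies in the principal block of `S`
  haveI : Fintype ↥(N.subgroupOf S) := Fintype.ofFinite _
  have hηmem : η ∈ fps_ovs N S hNS (Cfsg.principalBlock M N) := by
    refine ⟨θ, hθ, ?_⟩
    have h1 : (fun l : N => (η : S → ℂ) ⟨(l : G), hNS l.2⟩) = (θ : N → ℂ) := funext hη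
    rw [h1, h7_irr_norm θ.2]
    exact one_ne_zero
  have hidxNS : ∃ k : ℕ, (N.subgroupOf S).index = p ^ k := by
    have h1 : (N.subgroupOf S).index = N.relIndex (P : Subgroup G) := by
      have h2 : (N.subgroupOf S).index = N.relIndex S := rfl
      rw [h2, hS, Subgroup.relIndex_sup_left]
    have hdvd : N.relIndex (P : Subgroup G) ∣ Nat.card (P : Subgroup G) := by
      rw [← Subgroup.inf_relIndex_left (P : Subgroup G) N]
      exact Subgroup.index_dvd_card (((P : Subgroup G) ⊓ N).subgroupOf (P : Subgroup G))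
    obtain ⟨m, hm⟩ := IsPGroup.iff_card.mp hPp
    rw [hm] at hdvd
    obtain ⟨k, _, hk⟩ := (Nat.dvd_prime_pow hp.out).mp hdvd
    exact ⟨k, by rw [h1, hk]⟩
  have hηB : η ∈ Cfsg.principalBlock M S := by
    apply xp_mem_principal p M hM (N.subgroupOf S) hidxNS η
    rw [← dcl_trb_principal M (Subgroup.subgroupOfEquivOfLe hNS), fps_over_tr N S hNS]
    exact hηmem
  have hdegη : ¬ p ∣ Cfsg.charDegree (η : S → ℂ) := by
    have h1 : Cfsg.charDegree (η : S → ℂ) = Cfsg.charDegree (θ : N → ℂ) := by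
      unfold Cfsg.charDegree
      have h2 : (η : S → ℂ) 1 = (θ : N → ℂ) 1 := hη 1
      rw [h2]
    rw [h1]
    exact hdeg
  -- inside `H`
  haveI : Fintype ↥(S.subgroupOf H) := Fintype.ofFinite _
  haveI hSHn : (S.subgroupOf H).Normal :=
    (Subgroup.normal_subgroupOf_iff_le_normalizer hSH).mpr hHnorm
  have hPidx : ¬ p ∣ (P : Subgroup G).index := P.not_dvd_index
  have hidxSH : (S.subgroupOf H).index.Coprime p := by
    have h2 : (S.subgroupOf H).index = S.relIndex H := rfl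
    rw [h2]
    apply Nat.Coprime.symm
    apply (Nat.Prime.coprime_iff_not_dvd hp.out).mpr
    intro h
    exact hPidx (dvd_trans h (dvd_trans (Subgroup.relIndex_dvd_index_of_le hSH)
      (Subgroup.index_dvd_of_le hPS)))
  set e : ↥(S.subgroupOf H) ≃* ↥S := Subgroup.subgroupOfEquivOfLe hSH with he
  have hη' : ef_tr e η ∈ Cfsg.principalBlock M ↥(S.subgroupOf H) := by
    rw [← dcl_trb_principal M e]
    exact (bt_mem_trb e _ η).mpr hηB
  have hdeg' : ¬ p ∣ Cfsg.charDegree (ef_tr e η : ↥(S.subgroupOf H) → ℂ) := by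
    rw [bt_charDegree_tr]
    exact hdegη
  obtain ⟨ξ, hξB, hξdeg, hξcon⟩ := xp_cover p M hM (S.subgroupOf H) hidxSH (ef_tr e η) hη' hdeg'
  have hξmem : ξ ∈ fps_ovs S H hSH {η} := by
    rw [← fps_over_tr S H hSH {η}]
    exact ⟨ef_tr e η, (bt_mem_trb e _ η).mpr rfl, hξcon⟩
  -- induce to `G`
  have hidxH : ¬ p ∣ H.index := fun h => hPidx (dvd_trans h (Subgroup.index_dvd_of_le hPH))
  obtain ⟨χ, hχB, hχdeg, hχcon⟩ := xp_induce p M hM H _ _ hindH ξ hξB hidxH hξdeg
  refine ⟨χ, hχB, hχdeg, ?_⟩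
  have h1 : χ ∈ h7_over H (fps_ovs S H hSH {η}) := ⟨ξ, hξmem, hχcon⟩
  rw [fps_over_stage S H hSH] at h1
  have h2 : χ ∈ h7_over S (fps_ovs N S hNS {θ}) := by
    obtain ⟨η₁, hη₁, hc⟩ := h1
    rw [Set.mem_singleton_iff] at hη₁
    subst hη₁
    refine ⟨η₁, ⟨θ, rfl, ?_⟩, hc⟩
    have h3 : (fun l : N => (η₁ : S → ℂ) ⟨(l : G), hNS l.2⟩) = (θ : N → ℂ) := funext hη
    rw [h3, h7_irr_norm θ.2]
    exact one_ne_zero
  rw [fps_over_stage N S hNS] at h2
  obtain ⟨θ₁, hθ₁, hc⟩ := h2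
  rw [Set.mem_singleton_iff] at hθ₁
  subst hθ₁
  exact hc

/-- S4583 -/
theorem xp_main {G : Type*} [Group G] [Finite G] (N : Subgroup G) [N.Normal] (p : ℕ)
    [Fact p.Prime] (M : Ideal Cfsg.AlgInt) (hM : Cfsg.IsPModular p M) (P : Sylow p G)
    (θ : Cfsg.IrrCharacter N) (hθ : θ ∈ Cfsg.principalBlock M N)
    (hdeg : ¬ p ∣ Cfsg.charDegree (θ : N → ℂ))
    (hext : ∃ η : Cfsg.IrrCharacter ↥(N ⊔ (P : Subgroup G)), ∀ n : N,
      (η : ↥(N ⊔ (P : Subgroup G)) → ℂ) (Subgroup.inclusion le_sup_left n) = (θ : N → ℂ) n) :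
    ∃ χ : Cfsg.IrrCharacter G, χ ∈ Cfsg.principalBlock M G ∧
      ¬ p ∣ Cfsg.charDegree (χ : G → ℂ) ∧
      haveI := Fintype.ofFinite N
      Cfsg.classInner (fun n : N => (χ : G → ℂ) n) (θ : N → ℂ) ≠ 0 := by
  classical
  haveI : Fintype G := Fintype.ofFinite G
  obtain ⟨η, hη⟩ := hext
  exact @xp_core G _ _ N _ (Fintype.ofFinite N) p _ M hM P _ rfl le_sup_left θ hθ hdeg η hη

end

end Cfsg.Agent.Lib.Helper26
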