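import Cfsg.Agent.Lib.Helper26.PuigExt

set_option autoImplicit false

namespace Cfsg.Agent.Lib.Helper26

open Cfsg Cfsg.FusionSystem

variable {Ω : Type*} [Group Ω] {S : Subgroup Ω}

/-- `φ = α ∘ φ₀` with `α ∈ Aut_F(T)` and `φ₀` a map of `E` -/
def Dec (F : FusionSystem S) {T : Subgroup Ω} (E : FusionSystem T) (P : Subgroup Ω) (φ : P →* Ω) : Prop :=
  ∃ α ∈ F.autGroup T, ∃ φ₀ ∈ E.Hom P, ∀ (x : P) (hx : φ₀ x ∈ T), φ x = ((α ⟨φ₀ x, hx⟩ : T) : Ω)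

/-- invariance of `E` under `Aut_F(T)` -/
def InvCond (F : FusionSystem S) {T : Subgroup Ω} (E : FusionSystem T) : Prop :=
  ∀ (P : Subgroup Ω) (hPT : P ≤ T) (φ : P →* Ω), φ ∈ E.Hom P → ∀ α ∈ F.autGroup T,
    ∃ χ ∈ E.Hom ((P.subgroupOf T).map (T.subtype.comp α.toMonoidHom)),
      ∀ (x : P) (hφx : φ x ∈ T)
        (hαx : ((α ⟨x, hPT x.2⟩ : T) : Ω) ∈ (P.subgroupOf T).map (T.subtype.comp α.toMonoidHom)),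
        χ ⟨(α ⟨x, hPT x.2⟩ : T), hαx⟩ = ((α ⟨φ x, hφx⟩ : T) : Ω)

theorem mem_map_aut {T P : Subgroup Ω} (hPT : P ≤ T) (α : MulAut T) (x : P) :
    ((α ⟨x, hPT x.2⟩ : T) : Ω) ∈ (P.subgroupOf T).map (T.subtype.comp α.toMonoidHom) :=
  ⟨⟨x, hPT x.2⟩, Subgroup.mem_subgroupOf.mpr x.2, rfl⟩

theorem dec_congr {F : FusionSystem S} {T : Subgroup Ω} {E : FusionSystem T} {P : Subgroup Ω}
    {φ φ' : P →* Ω} (h : ∀ x, φ' x = φ x) (hφ : Dec F E P φ) : Dec F E P φ' := by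
  obtain ⟨α, hα, φ₀, hφ₀, e⟩ := hφ
  exact ⟨α, hα, φ₀, hφ₀, fun x hx => (h x).trans (e x hx)⟩

theorem dec_of_mem {F : FusionSystem S} {T : Subgroup Ω} {E : FusionSystem T} {P : Subgroup Ω}
    {φ : P →* Ω} (hφ : φ ∈ E.Hom P) : Dec F E P φ :=
  ⟨1, Subgroup.one_mem _, φ, hφ, fun _ _ => rfl⟩

theorem dec_comp {F : FusionSystem S} {T : Subgroup Ω} {E : FusionSystem T} (hInv : InvCond F E)
    {P Q : Subgroup Ω} {φ : P →* Ω} {ψ : Q →* Ω} (hQT : Q ≤ T)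
    (hφ : Dec F E P φ) (hψ : Dec F E Q ψ) (h : ∀ x, φ x ∈ Q) :
    Dec F E P (ψ.comp (φ.codRestrict Q h)) := by
  obtain ⟨α₁, hα₁, φ₁, hφ₁, e₁⟩ := hφ
  obtain ⟨α₂, hα₂, φ₂, hφ₂, e₂⟩ := hψ
  have hφ₁T : ∀ x, φ₁ x ∈ T := (E.le_of_mem hφ₁).2
  have hφ₂T : ∀ x, φ₂ x ∈ T := (E.le_of_mem hφ₂).2
  obtain ⟨χ, hχ, hχe⟩ := hInv Q hQT φ₂ hφ₂ α₁⁻¹ (Subgroup.inv_mem _ hα₁)
  have hφ₁eq : ∀ x : P, φ₁ x = ((α₁⁻¹ ⟨φ x, hQT (h x)⟩ : T) : Ω) := by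
    intro x
    have h1 : (⟨φ x, hQT (h x)⟩ : T) = α₁ ⟨φ₁ x, hφ₁T x⟩ := Subtype.ext (e₁ x (hφ₁T x))
    rw [h1, MulAut.inv_apply_self]
  have hR : ∀ x : P, φ₁ x ∈ (Q.subgroupOf T).map (T.subtype.comp α₁⁻¹.toMonoidHom) := by
    intro x
    rw [hφ₁eq]
    exact mem_map_aut hQT α₁⁻¹ ⟨φ x, h x⟩
  refine ⟨α₂ * α₁, Subgroup.mul_mem _ hα₂ hα₁, χ.comp (φ₁.codRestrict _ hR),
    E.comp_mem hφ₁ hχ hR, fun x hx => ?_⟩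
  have h2 : (φ₁.codRestrict _ hR) x =
      ⟨((α₁⁻¹ ⟨φ x, hQT (h x)⟩ : T) : Ω), mem_map_aut hQT α₁⁻¹ ⟨φ x, h x⟩⟩ :=
    Subtype.ext (hφ₁eq x)
  have h3 : (χ.comp (φ₁.codRestrict _ hR)) x = ((α₁⁻¹ ⟨φ₂ ⟨φ x, h x⟩, hφ₂T _⟩ : T) : Ω) := by
    show χ ((φ₁.codRestrict _ hR) x) = _
    rw [h2]
    exact hχe ⟨φ x, h x⟩ (hφ₂T _) _
  have h4 : (⟨(χ.comp (φ₁.codRestrict _ hR)) x, hx⟩ : T) = α₁⁻¹ ⟨φ₂ ⟨φ x, h x⟩, hφ₂T _⟩ :=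
    Subtype.ext h3
  rw [h4, MulAut.mul_apply, MulAut.apply_inv_self]
  exact e₂ ⟨φ x, h x⟩ (hφ₂T _)

theorem dec_inv {F : FusionSystem S} {T : Subgroup Ω} {E : FusionSystem T} (hInv : InvCond F E)
    {P : Subgroup Ω} {φ : P →* Ω} (hPT : P ≤ T) (hφ : Dec F E P φ) {R : Subgroup Ω} {ψ : R →* Ω}
    (h : ∀ y : R, ∃ x : P, φ x = (y : Ω) ∧ ψ y = (x : Ω)) : Dec F E R ψ := by
  obtain ⟨α, hα, φ₀, hφ₀, e⟩ := hφ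
  have hφ₀T : ∀ x, φ₀ x ∈ T := (E.le_of_mem hφ₀).2
  obtain ⟨ι₀, hι₀, hι₀x⟩ := E.inv_mem hφ₀
  have hrT : φ₀.range ≤ T := by
    rintro _ ⟨x, rfl⟩
    exact hφ₀T x
  obtain ⟨χ, hχ, hχe⟩ := hInv φ₀.range hrT ι₀ hι₀ α hα
  have hRA : R ≤ (φ₀.range.subgroupOf T).map (T.subtype.comp α.toMonoidHom) := by
    intro y hy
    obtain ⟨x, hx, -⟩ := h ⟨y, hy⟩
    have : y = ((α ⟨φ₀ x, hφ₀T x⟩ : T) : Ω) := by
      rw [← e x (hφ₀T x)]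
      exact hx.symm
    rw [this]
    exact mem_map_aut hrT α ⟨φ₀ x, ⟨x, rfl⟩⟩
  refine ⟨α⁻¹, Subgroup.inv_mem _ hα, χ.comp (Subgroup.inclusion hRA), restrict_mem E hχ hRA,
    fun y hy => ?_⟩
  obtain ⟨x, hx, hψy⟩ := h y
  have h1 : (y : Ω) = ((α ⟨φ₀ x, hφ₀T x⟩ : T) : Ω) := by
    rw [← e x (hφ₀T x)]
    exact hx.symm
  have h2 : Subgroup.inclusion hRA y =
      ⟨((α ⟨φ₀ x, hφ₀T x⟩ : T) : Ω), mem_map_aut hrT α ⟨φ₀ x, ⟨x, rfl⟩⟩⟩ := Subtype.ext h1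
  have hxT : (x : Ω) ∈ T := hPT x.2
  have h3 : (χ.comp (Subgroup.inclusion hRA)) y = ((α ⟨x, hxT⟩ : T) : Ω) := by
    show χ (Subgroup.inclusion hRA y) = _
    rw [h2]
    have := hχe ⟨φ₀ x, ⟨x, rfl⟩⟩ (by rw [hι₀x]; exact hxT) (mem_map_aut hrT α ⟨φ₀ x, ⟨x, rfl⟩⟩)
    rw [this]
    congr 2
    exact Subtype.ext (hι₀x x)
  have h4 : (⟨(χ.comp (Subgroup.inclusion hRA)) y, hy⟩ : T) = α ⟨x, hxT⟩ := Subtype.ext h3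
  rw [h4, MulAut.inv_apply_self, hψy]



/-- every restriction of `φ` to a subgroup of `T` decomposes -/
def DecAll (F : FusionSystem S) {T : Subgroup Ω} (E : FusionSystem T) (P : Subgroup Ω) (φ : P →* Ω) : Prop :=
  ∀ (P₀ : Subgroup Ω) (h₀ : P₀ ≤ P), P₀ ≤ T → Dec F E P₀ (φ.comp (Subgroup.inclusion h₀))

def decPred (F : FusionSystem S) {T : Subgroup Ω} (E : FusionSystem T) (hT : F.StronglyClosed T)
    (hInv : InvCond F E) : GoodPred F where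
  Good P φ := DecAll F E P φ
  conj := by
    intro P g hP hg P₀ h₀ hP₀T
    have hgN : g ∈ Subgroup.normalizer (T : Set Ω) := le_normalizer_of_stronglyClosed F hT hg
    refine ⟨conjAut T g hgN, autInducedBy_le_autGroup F hT.1 (conjAut_mem_autInducedBy hg hgN),
      P₀.subtype, subtype_mem E hP₀T, fun x hx => rfl⟩
  comp := by
    intro P Q φ ψ hφ hψ hgφ hgψ h P₀ h₀ hP₀T
    have hφ₁F : φ.comp (Subgroup.inclusion h₀) ∈ F.Hom P₀ := restrict_mem F hφ h₀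
    have hQ₀Q : (φ.comp (Subgroup.inclusion h₀)).range ≤ Q := by
      rintro _ ⟨x, rfl⟩
      exact h _
    have hQ₀T : (φ.comp (Subgroup.inclusion h₀)).range ≤ T := by
      rintro _ ⟨x, rfl⟩
      exact hT.2 P₀ hP₀T _ hφ₁F x
    have h1 := hgφ P₀ h₀ hP₀T
    have h2 := hgψ _ hQ₀Q hQ₀T
    have h3 := dec_comp hInv hQ₀T h1 h2 (fun x => ⟨x, rfl⟩)
    exact dec_congr (fun x => rfl) h3
  inv := by
    intro P φ hφ hgφ ψ hψ hψx R₀ h₀ hR₀T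
    have hψ₁F : ψ.comp (Subgroup.inclusion h₀) ∈ F.Hom R₀ := restrict_mem F hψ h₀
    have hψP : ∀ y : φ.range, ψ y ∈ P := by
      rintro ⟨_, x, rfl⟩
      rw [hψx]
      exact x.2
    have hP₀P : (ψ.comp (Subgroup.inclusion h₀)).range ≤ P := by
      rintro _ ⟨y, rfl⟩
      exact hψP _
    have hP₀T : (ψ.comp (Subgroup.inclusion h₀)).range ≤ T := by
      rintro _ ⟨y, rfl⟩
      exact hT.2 R₀ hR₀T _ hψ₁F y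
    have h1 := hgφ _ hP₀P hP₀T
    refine dec_inv hInv hP₀T h1 (fun y => ?_)
    refine ⟨⟨(ψ.comp (Subgroup.inclusion h₀)) y, ⟨y, rfl⟩⟩, ?_, rfl⟩
    obtain ⟨x₀, hx₀⟩ := h₀ y.2
    show φ ⟨ψ (Subgroup.inclusion h₀ y), _⟩ = (y : Ω)
    have e1 : Subgroup.inclusion h₀ y = ⟨φ x₀, ⟨x₀, rfl⟩⟩ := Subtype.ext hx₀.symm
    have e2 : ψ (Subgroup.inclusion h₀ y) = x₀ := by rw [e1, hψx]
    have e3 : (⟨ψ (Subgroup.inclusion h₀ y), hψP _⟩ : P) = x₀ := Subtype.ext e2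
    rw [e3, hx₀]

end Cfsg.Agent.Lib.Helper26
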