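import Cfsg.Agent.Lib.Helper26.FrattiniDec


set_option autoImplicit false

namespace Cfsg.Agent.Lib.Helper26

open Cfsg Cfsg.FusionSystem

variable {Ω : Type*} [Group Ω] {S : Subgroup Ω}

/-- the strong invariance condition -/
def StrongInv (F : FusionSystem S) {T : Subgroup Ω} (E : FusionSystem T) : Prop :=
  ∀ (P Q : Subgroup Ω) (hPQ : P ≤ Q) (_ : Q ≤ T) (φ : P →* Ω) (_ : φ ∈ E.Hom P)
    (hφQ : ∀ x : P, φ x ∈ Q) (ψ : Q →* Ω) (_ : ψ ∈ F.Hom Q),
    ∃ χ ∈ E.Hom ((P.subgroupOf Q).map ψ),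
      ∀ (x : P) (hx : ψ (Subgroup.inclusion hPQ x) ∈ (P.subgroupOf Q).map ψ),
        χ ⟨ψ (Subgroup.inclusion hPQ x), hx⟩ = ψ ⟨φ x, hφQ x⟩

theorem invCond_of_strongInv {F : FusionSystem S} {T : Subgroup Ω} {E : FusionSystem T}
    (hTS : T ≤ S) (hSI : StrongInv F E) : InvCond F E := by
  intro P hPT φ hφ α hα
  have hψ : T.subtype.comp α.toMonoidHom ∈ F.Hom T := (mem_autGroup_iff F hTS).mp hα
  obtain ⟨χ, hχ, hχe⟩ := hSI P T hPT le_rfl φ hφ (E.le_of_mem hφ).2 _ hψ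
  exact ⟨χ, hχ, fun x hφx hαx => hχe x hαx⟩

theorem hom_cast_eq (F : FusionSystem S) {A B : Subgroup Ω}
    (h : A = B) {ψ : A →* Ω} (hψ : ψ ∈ F.Hom A) :
    ∃ ψ' ∈ F.Hom B, ∀ (x : Ω) (hA : x ∈ A) (hB : x ∈ B), ψ' ⟨x, hB⟩ = ψ ⟨x, hA⟩ := by
  subst h
  exact ⟨ψ, hψ, fun _ _ _ => rfl⟩

theorem range_eq_of_apply_mem [Finite S] (F : FusionSystem S) {T : Subgroup Ω} {φ : T →* Ω}
    (hφ : φ ∈ F.Hom T) (h : ∀ t, φ t ∈ T) : φ.range = T := by
  have hTS : T ≤ S := source_le F hφ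
  have hfin : Finite T := finite_of_le hTS
  apply Subgroup.eq_of_le_of_card_ge
  · rintro _ ⟨t, rfl⟩
    exact h t
  · rw [Nat.card_congr (MonoidHom.ofInjective (F.injective_of_mem hφ)).toEquiv]

theorem exists_restrict_aut [Finite S] (F : FusionSystem S) {T P : Subgroup Ω}
    (hT : F.StronglyClosed T) (hPS : P ≤ S) (hTP : T ≤ P) {α : MulAut P} (hα : α ∈ F.autGroup P) :
    ∃ β ∈ F.autGroup T, ∀ t : T, ((β t : T) : Ω) = ((α ⟨t, hTP t.2⟩ : P) : Ω) := by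
  have hφ : (P.subtype.comp α.toMonoidHom).comp (Subgroup.inclusion hTP) ∈ F.Hom T :=
    restrict_mem F ((mem_autGroup_iff F hPS).mp hα) hTP
  have hr := range_eq_of_apply_mem F hφ (fun t => hT.2 T le_rfl _ hφ t)
  obtain ⟨e, he, hex⟩ := exists_iso_of_hom F hφ hr
  exact ⟨e, (isIso_iff_mem_autGroup F hT.1 e).mp he, fun t => hex t⟩

theorem le_normalizer_closure_of_forall_conj_mem {A : Type*} [Group A] {H : Subgroup A} {X : Set A}
    (h : ∀ b ∈ H, ∀ a ∈ X, b * a * b⁻¹ ∈ X) : H ≤ Subgroup.normalizer (Subgroup.closure X : Set A) := by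
  apply le_normalizer_of_forall_conj_mem
  intro b hb a ha
  refine Subgroup.closure_induction (p := fun a _ => b * a * b⁻¹ ∈ Subgroup.closure X)
    (fun x hx => Subgroup.subset_closure (h b hb x hx)) ?_ ?_ ?_ ha
  · simp
  · intro x y _ _ hx hy
    have e : b * (x * y) * b⁻¹ = (b * x * b⁻¹) * (b * y * b⁻¹) := by group
    rw [e]
    exact Subgroup.mul_mem _ hx hy
  · intro x _ hx
    have e : b * x⁻¹ * b⁻¹ = (b * x * b⁻¹)⁻¹ := by group
    rw [e]
    exact Subgroup.inv_mem _ hx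


/-- Strong invariance implies the Frattini condition (every restriction decomposes). -/
theorem decAll_of_strongInv [Finite S] {p : ℕ} [Fact p.Prime] (hS : IsPGroup p S)
    (F : FusionSystem S) (hF : F.IsSaturated p) {T : Subgroup Ω} (E : FusionSystem T)
    (hT : F.StronglyClosed T) (hSI : StrongInv F E)
    {P : Subgroup Ω} {φ : P →* Ω} (hφ : φ ∈ F.Hom P) : DecAll F E P φ := by
  have hInv : InvCond F E := invCond_of_strongInv hT.1 hSI
  have hTn : S ≤ Subgroup.normalizer (T : Set Ω) := le_normalizer_of_stronglyClosed F hT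
  have hcase : ∀ P : Subgroup Ω, P ≤ S → T ≤ P → ∀ α ∈ F.autGroup P,
      DecAll F E P (P.subtype.comp α.toMonoidHom) := by
    intro P hPS hTP α hα P₀ h₀ hP₀T
    obtain ⟨β, hβ, hβt⟩ := exists_restrict_aut F hT hPS hTP hα
    refine ⟨β, hβ, P₀.subtype, subtype_mem E hP₀T, fun x hx => ?_⟩
    exact (hβt ⟨x, hx⟩).symm
  refine (decPred F E hT hInv).forall_good hS hF (fun α hα => hcase S le_rfl hT.1 α hα) ?_ hφ
  intro P hPn hne ih
  have hPS : P ≤ S := hPn.1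
  have hfinP : Finite P := finite_of_le hPS
  by_cases hTP : T ≤ P
  · intro α hα
    rw [mem_autGroup_iff _ hPS]
    exact ⟨(mem_autGroup_iff F hPS).mp hα, hcase P hPS hTP α hα⟩
  · set X : Set (MulAut P) := {α | α ∈ F.autGroup P ∧
      (P.subtype.comp α.toMonoidHom).comp (Subgroup.inclusion (inf_le_left : P ⊓ T ≤ P)) ∈
        E.Hom (P ⊓ T)} with hX
    have hres : ∀ β ∈ F.autGroup P,
        (P.subtype.comp β.toMonoidHom).comp (Subgroup.inclusion (inf_le_left : P ⊓ T ≤ P)) ∈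
          F.Hom (P ⊓ T) := fun β hβ => restrict_mem F ((mem_autGroup_iff F hPS).mp hβ) inf_le_left
    have hresmem : ∀ β ∈ F.autGroup P, ∀ x : ↥(P ⊓ T),
        ((P.subtype.comp β.toMonoidHom).comp (Subgroup.inclusion (inf_le_left : P ⊓ T ≤ P))) x ∈
          P ⊓ T := fun β hβ x => ⟨(β _).2, hT.2 (P ⊓ T) inf_le_right _ (hres β hβ) x⟩
    refine autGroup_le_of_frattini hS F hF _ hPn ih (Subgroup.closure X)
      ((Subgroup.closure_le _).mpr (fun α h => h.1)) ?_ ?_ ?_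
    · apply le_normalizer_closure_of_forall_conj_mem
      rintro β hβ α ⟨hαF, hαE⟩
      have hβαF : β * α * β⁻¹ ∈ F.autGroup P :=
        Subgroup.mul_mem _ (Subgroup.mul_mem _ hβ hαF) (Subgroup.inv_mem _ hβ)
      refine ⟨hβαF, ?_⟩
      obtain ⟨χ, hχ, hχe⟩ := hSI (P ⊓ T) (P ⊓ T) le_rfl inf_le_right _ hαE (hresmem α hαF) _
        (hres β hβ)
      have hrange := range_eq_of_apply_mem F (hres β hβ) (hresmem β hβ)
      have hmap : ((P ⊓ T).subgroupOf (P ⊓ T)).map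
          ((P.subtype.comp β.toMonoidHom).comp (Subgroup.inclusion (inf_le_left : P ⊓ T ≤ P))) =
          P ⊓ T := by
        rw [Subgroup.subgroupOf_self, ← MonoidHom.range_eq_map]
        exact hrange
      obtain ⟨χ', hχ', hχ'x⟩ := hom_cast_eq E hmap hχ
      refine mem_of_forall_eq E hχ' (fun z => ?_)
      have hz : ((β⁻¹ ⟨z, z.2.1⟩ : P) : Ω) ∈ P ⊓ T := by
        have := hresmem β⁻¹ (Subgroup.inv_mem _ hβ) z
        exact this
      have h1 := hχe ⟨_, hz⟩ (by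
        show ((β ⟨((β⁻¹ ⟨z, z.2.1⟩ : P) : Ω), _⟩ : P) : Ω) ∈ _
        rw [hmap]
        have : (⟨((β⁻¹ ⟨z, z.2.1⟩ : P) : Ω), hz.1⟩ : P) = β⁻¹ ⟨z, z.2.1⟩ := rfl
        rw [this, MulAut.apply_inv_self]
        exact z.2)
      have e0 : ((β ⟨((β⁻¹ ⟨z, z.2.1⟩ : P) : Ω), hz.1⟩ : P) : Ω) = z := by
        have : (⟨((β⁻¹ ⟨z, z.2.1⟩ : P) : Ω), hz.1⟩ : P) = β⁻¹ ⟨z, z.2.1⟩ := rfl
        rw [this, MulAut.apply_inv_self]
      have h2 := hχ'x z (by rw [hmap]; exact z.2) z.2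
      show ((β * α * β⁻¹) ⟨z, z.2.1⟩ : P) = χ' z
      rw [h2]
      have e1 : (⟨(z : Ω), by rw [hmap]; exact z.2⟩ : ↥(((P ⊓ T).subgroupOf (P ⊓ T)).map
          ((P.subtype.comp β.toMonoidHom).comp (Subgroup.inclusion (inf_le_left : P ⊓ T ≤ P))))) =
          ⟨((P.subtype.comp β.toMonoidHom).comp (Subgroup.inclusion (inf_le_left : P ⊓ T ≤ P)))
            (Subgroup.inclusion le_rfl ⟨_, hz⟩), by
              show ((β ⟨((β⁻¹ ⟨z, z.2.1⟩ : P) : Ω), _⟩ : P) : Ω) ∈ _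
              rw [e0, hmap]; exact z.2⟩ := Subtype.ext e0.symm
      rw [e1, h1]
      rfl
    · refine (Subgroup.closure_le _).mpr ?_
      rintro α ⟨hαF, hαE⟩
      show α ∈ (decPred F E hT hInv).system.autGroup P
      rw [mem_autGroup_iff _ hPS]
      refine ⟨(mem_autGroup_iff F hPS).mp hαF, fun P₀ h₀ hP₀T => ?_⟩
      have h1 := restrict_mem E hαE (le_inf h₀ hP₀T : P₀ ≤ P ⊓ T)
      exact dec_congr (fun x => rfl) (dec_of_mem h1)
    · obtain ⟨t, ht, htP, htN⟩ := exists_normalizing_in hS hT.1 hTn hPS hTP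
      refine ⟨t, hT.1 ht, htP, htN, Subgroup.subset_closure ⟨?_, ?_⟩⟩
      · exact autInducedBy_le_autGroup F hPS (conjAut_mem_autInducedBy (hT.1 ht) htN)
      · exact mem_of_forall_eq E (E.conj_mem (inf_le_right : P ⊓ T ≤ T) ht) (fun x => rfl)

end Cfsg.Agent.Lib.Helper26
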