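import Cfsg.Agent.Lib.Helper26.StrongEmb

set_option autoImplicit false

namespace Cfsg.Agent.Lib.Helper26

open Cfsg Cfsg.FusionSystem

variable {Ω : Type*} [Group Ω] {S : Subgroup Ω}

/-- automorphisms of `P` which extend to a map of `F` defined on a strictly larger subgroup -/
def extGen (F : FusionSystem S) (P : Subgroup Ω) : Set (MulAut P) :=
  {α : MulAut P | ∃ (Q : Subgroup Ω) (hPQ : P < Q) (φ : Q →* Ω), φ ∈ F.Hom Q ∧
    ∀ x : P, φ (Subgroup.inclusion hPQ.le x) = α x}

theorem extGen_subset_autGroup (F : FusionSystem S) (P : Subgroup Ω) :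
    extGen F P ⊆ F.autGroup P := by
  rintro α ⟨Q, hPQ, φ, hφ, h⟩
  have hPS : P ≤ S := hPQ.le.trans (source_le F hφ)
  rw [SetLike.mem_coe, mem_autGroup_iff F hPS]
  exact mem_of_forall_eq F (restrict_mem F hφ hPQ.le) (fun x => (h x).symm)

theorem closure_extGen_le_autGroup (F : FusionSystem S) (P : Subgroup Ω) :
    Subgroup.closure (extGen F P) ≤ F.autGroup P :=
  (Subgroup.closure_le _).mpr (extGen_subset_autGroup F P)

theorem lt_normalizerIn [Finite S] {p : ℕ} [Fact p.Prime] (hS : IsPGroup p S) {P : Subgroup Ω}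
    (hPS : P ≤ S) (hne : P ≠ S) : P < normalizerIn S P := by
  obtain ⟨x, hxS, hxP, hxN⟩ := exists_normalizing_of_lt hS hPS hne
  refine lt_of_le_of_ne (le_normalizerIn_self hPS) ?_
  intro h
  apply hxP
  rw [h]
  exact ⟨hxS, hxN⟩

theorem conjAut_mem_extGen [Finite S] {p : ℕ} [Fact p.Prime] (hS : IsPGroup p S)
    (F : FusionSystem S) {P : Subgroup Ω} (hPS : P ≤ S) (hne : P ≠ S) {g : Ω} (hgS : g ∈ S)
    (hg : g ∈ Subgroup.normalizer (P : Set Ω)) : conjAut P g hg ∈ extGen F P := by
  refine ⟨normalizerIn S P, lt_normalizerIn hS hPS hne, conjHom (normalizerIn S P) g,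
    F.conj_mem inf_le_left hgS, fun x => rfl⟩

theorem autInducedBy_le_closure_extGen [Finite S] {p : ℕ} [Fact p.Prime] (hS : IsPGroup p S)
    (F : FusionSystem S) {P : Subgroup Ω} (hPS : P ≤ S) (hne : P ≠ S) :
    autInducedBy S P ≤ Subgroup.closure (extGen F P) := by
  intro α hα
  obtain ⟨g, hgS, hg, rfl⟩ := mem_autInducedBy_iff'.mp hα
  exact Subgroup.subset_closure (conjAut_mem_extGen hS F hPS hne hgS hg)

/-- Lemma C: receptive extension -/
theorem mem_extGen_of_receptive (F : FusionSystem S) {P : Subgroup Ω} (hP : F.IsReceptive P)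
    {α : MulAut P} (hα : α ∈ F.autGroup P) {g : Ω} (hgS : g ∈ S) (hgP : g ∉ P)
    (hg : g ∈ Subgroup.normalizer (P : Set Ω))
    (hc : α * conjAut P g hg * α⁻¹ ∈ autInducedBy S P) : α ∈ extGen F P := by
  have hPS : P ≤ S := hP.1
  have hφ : P.subtype.comp α.toMonoidHom ∈ F.Hom P := (mem_autGroup_iff F hPS).mp hα
  obtain ⟨ψ, hψ, hψe⟩ := hP.2 P _ hφ (range_subtype_comp_equiv α)
  obtain ⟨h, hhS, hh⟩ := mem_autInducedBy_iff.mp hc
  have hgE : g ∈ extender S P (P.subtype.comp α.toMonoidHom) := by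
    refine mem_extender_iff.mpr ⟨hgS, hg, h, hhS, fun x => ?_⟩
    have h1 := hh (α x)
    rw [MulAut.mul_apply, MulAut.mul_apply, MulAut.inv_apply_self] at h1
    exact h1
  have hPE : P ≤ extender S P (P.subtype.comp α.toMonoidHom) := le_extender F hφ
  have hlt : P < extender S P (P.subtype.comp α.toMonoidHom) :=
    lt_of_le_of_ne hPE (fun heq => hgP (heq ▸ hgE))
  exact ⟨_, hlt, ψ, hψ, fun x => hψe x x.2 (hPE x.2)⟩


theorem map_center_le_centralizerIn {Q : Subgroup Ω} (hQS : Q ≤ S) :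
    (Subgroup.center Q).map Q.subtype ≤ centralizerIn S Q := by
  rintro _ ⟨z, hz, rfl⟩
  refine ⟨hQS z.2, ?_⟩
  intro y hy
  have := Subgroup.mem_center_iff.mp hz ⟨y, hy⟩
  exact congrArg Subtype.val this

theorem centralizerIn_eq_map_center {P : Subgroup Ω} (hPS : P ≤ S) (h : centralizerIn S P ≤ P) :
    centralizerIn S P = (Subgroup.center P).map P.subtype := by
  apply le_antisymm _ (map_center_le_centralizerIn hPS)
  intro x hx
  refine ⟨⟨x, h hx⟩, ?_, rfl⟩
  rw [SetLike.mem_coe, Subgroup.mem_center_iff]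
  intro y
  exact Subtype.ext (hx.2 y y.2)

theorem exists_mem_centralizerIn_notMem [Finite S] (F : FusionSystem S) {P : Subgroup Ω}
    (hPc : F.IsFullyCentralized P) (hnc : ¬ F.IsCentric P) :
    ∃ g ∈ centralizerIn S P, g ∉ P := by
  have hPS : P ≤ S := hPc.1
  by_contra hcon
  push Not at hcon
  have hCP : centralizerIn S P ≤ P := hcon
  apply hnc
  refine ⟨hPS, fun Q hPQ => ?_⟩
  by_contra hQ
  have hQS : Q ≤ S := isConj_le_right F hPQ
  obtain ⟨e, -⟩ := exists_iso_of_isConj F hPQ
  have h1 : Nat.card (centralizerIn S P) = Nat.card (Subgroup.center P) := by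
    rw [centralizerIn_eq_map_center hPS hCP]
    exact Subgroup.card_map_of_injective P.subtype_injective
  have h2 : Nat.card (Subgroup.center P) = Nat.card (Subgroup.center Q) :=
    Nat.card_congr (Subgroup.centerCongr e).toEquiv
  have h3 : Nat.card ((Subgroup.center Q).map Q.subtype) = Nat.card (Subgroup.center Q) :=
    Subgroup.card_map_of_injective Q.subtype_injective
  have hfin : Finite ↥(centralizerIn S Q) := finite_of_le inf_le_left
  have h4 : (Subgroup.center Q).map Q.subtype < centralizerIn S Q := by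
    refine lt_of_le_of_ne (map_center_le_centralizerIn hQS) (fun heq => hQ ?_)
    rw [← heq]
    rintro _ ⟨z, -, rfl⟩
    exact z.2
  have h5 := card_lt_card_of_lt h4
  have h6 := hPc.2 Q hPQ
  omega

/-- Lemma D: non-centric, fully centralized, receptive: every automorphism extends. -/
theorem autGroup_subset_extGen_of_not_centric [Finite S] (F : FusionSystem S) {P : Subgroup Ω}
    (hPc : F.IsFullyCentralized P) (hPr : F.IsReceptive P) (hnc : ¬ F.IsCentric P) :
    (F.autGroup P : Set (MulAut P)) ⊆ extGen F P := by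
  obtain ⟨g, hgC, hgP⟩ := exists_mem_centralizerIn_notMem F hPc hnc
  intro α hα
  have hgN : g ∈ Subgroup.normalizer (P : Set Ω) := centralizer_le_normalizer_aux P hgC.2
  have h1 : conjAut P g hgN = 1 := by
    ext x
    rw [conjAut_apply]
    exact conj_eq_of_mem_centralizer hgC.2 x.2
  refine mem_extGen_of_receptive F hPr hα hgC.1 hgP hgN ?_
  rw [h1, mul_one, mul_inv_cancel]
  exact Subgroup.one_mem _

end Cfsg.Agent.Lib.Helper26
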