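import Cfsg.Agent.Lib.Helper26.FusionSeries4
import Cfsg.Agent.Lib.Helper26.SylowAux

set_option autoImplicit false

namespace Cfsg.Agent.Lib.Helper26

open Cfsg Cfsg.FusionSystem

variable {Ω : Type*} [Group Ω] {S : Subgroup Ω}

/-- the image `e(Q)` of `Q ≤ P` under an isomorphism `e : P ≃* P'` of the system is conjugate to `Q` -/
theorem isConj_image_of_isIso (F : FusionSystem S) {P P' Q : Subgroup Ω} {e : P ≃* P'}
    (he : IsIso F e) (hQP : Q ≤ P) :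
    F.IsConj Q ((P'.subtype.comp e.toMonoidHom).comp (Subgroup.inclusion hQP)).range :=
  ⟨_, restrict_mem F he hQP, rfl⟩

/-- Lemma A: a `p`-element of `Aut_F(P)` fixing the centric subgroup `Q ≤ P` pointwise is
conjugation by an element of `Z(Q)`. -/
theorem eq_conj_of_fix_centric [Finite S] {p : ℕ} [Fact p.Prime] (hS : IsPGroup p S)
    (F : FusionSystem S) (hF : F.IsSaturated p) {P Q : Subgroup Ω} (hPS : P ≤ S) (hQP : Q ≤ P)
    (hQ : F.IsCentric Q) {α : MulAut P} (hα : α ∈ F.autGroup P)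
    (hfix : ∀ x : P, (x : Ω) ∈ Q → α x = x) {k : ℕ} (hk : α ^ (p ^ k) = 1) :
    ∃ z : P, (z : Ω) ∈ Q ∧ (z : Ω) ∈ Subgroup.centralizer (Q : Set Ω) ∧
      ∀ y : P, α y = z * y * z⁻¹ := by
  have hfinP : Finite P := finite_of_le hPS
  obtain ⟨T, hPT, hTn⟩ := exists_fullyNormalized_conj F hPS
  obtain ⟨e₀, he₀⟩ := exists_iso_of_isConj F hPT
  have hTS : T ≤ S := hTn.1
  have hfinT : Finite T := finite_of_le hTS
  obtain ⟨-, hTa, -⟩ := saturated_fullyNormalized hS F hF hTn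
  have hα₀ : MulAut.congr e₀ α ∈ F.autGroup T := congr_mem_autGroup he₀ hα
  have hk₀ : (MulAut.congr e₀ α) ^ (p ^ k) = 1 := by rw [← map_pow, hk, map_one]
  have hsyl : IsSylowIn p (F.autGroup T) (autInducedBy S T) := hTa.2
  obtain ⟨γ, hγ, hγc⟩ := hsyl.exists_conj_le
    ((Subgroup.zpowers_le).mpr hα₀) (isPGroup_zpowers_of_pow_eq_one hk₀)
  have hγ' : IsIso F γ := (isIso_iff_mem_autGroup F hTS γ).mpr hγ
  have he : IsIso F (e₀.trans γ) := he₀.trans hγ'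
  have hmem := hγc _ (Subgroup.mem_zpowers _)
  obtain ⟨s, hsS, hs⟩ := mem_autInducedBy_iff.mp hmem
  have hform : ∀ y : P, (((e₀.trans γ) (α y) : T) : Ω) = s * ((e₀.trans γ) y : T) * s⁻¹ := by
    intro y
    rw [← hs]
    show _ = ((γ ((MulAut.congr e₀ α) (γ⁻¹ ((e₀.trans γ) y))) : T) : Ω)
    have h1 : γ⁻¹ ((e₀.trans γ) y) = e₀ y := by
      show γ⁻¹ (γ (e₀ y)) = e₀ y
      exact MulAut.inv_apply_self _ _ _
    rw [h1]
    show _ = ((γ (e₀ (α (e₀.symm (e₀ y)))) : T) : Ω)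
    rw [MulEquiv.symm_apply_apply]
    rfl
  set e := e₀.trans γ with hedef
  have hconj := isConj_image_of_isIso F he hQP
  have hcen := hQ.2 _ hconj
  have hsC : s ∈ centralizerIn S
      ((T.subtype.comp e.toMonoidHom).comp (Subgroup.inclusion hQP)).range := by
    refine ⟨hsS, ?_⟩
    rintro _ ⟨u, rfl⟩
    have h1 := hform (Subgroup.inclusion hQP u)
    rw [hfix _ u.2] at h1
    show (e (Subgroup.inclusion hQP u) : Ω) * s = s * (e (Subgroup.inclusion hQP u) : Ω)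
    calc (e (Subgroup.inclusion hQP u) : Ω) * s
        = (s * (e (Subgroup.inclusion hQP u) : Ω) * s⁻¹) * s := by rw [← h1]
      _ = s * (e (Subgroup.inclusion hQP u) : Ω) := by group
  obtain ⟨u₀, hu₀⟩ := hcen hsC
  have hu₀' : ((e (Subgroup.inclusion hQP u₀) : T) : Ω) = s := hu₀
  refine ⟨Subgroup.inclusion hQP u₀, u₀.2, ?_, fun y => ?_⟩
  · rw [Subgroup.mem_centralizer_iff]
    intro u hu
    have h1 := hform ⟨u, hQP hu⟩
    rw [hfix _ hu, ← hu₀'] at h1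
    have h2 : e ⟨u, hQP hu⟩ = e (Subgroup.inclusion hQP u₀) * e ⟨u, hQP hu⟩ *
        (e (Subgroup.inclusion hQP u₀))⁻¹ := Subtype.ext h1
    rw [← map_inv, ← map_mul, ← map_mul] at h2
    have h3 := e.injective h2
    have h4 : u = (u₀ : Ω) * u * (u₀ : Ω)⁻¹ := congrArg Subtype.val h3
    calc u * (u₀ : Ω) = ((u₀ : Ω) * u * (u₀ : Ω)⁻¹) * (u₀ : Ω) := by rw [← h4]
      _ = (u₀ : Ω) * u := by group
  · have h1 := hform y
    rw [← hu₀'] at h1
    have h2 : e (α y) = e (Subgroup.inclusion hQP u₀) * e y *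
        (e (Subgroup.inclusion hQP u₀))⁻¹ := Subtype.ext h1
    rw [← map_inv, ← map_mul, ← map_mul] at h2
    exact e.injective h2


/-- overgroups (inside `S`) of centric subgroups are centric -/
theorem isCentric_of_le (F : FusionSystem S) {Q P : Subgroup Ω} (hQ : F.IsCentric Q) (hQP : Q ≤ P)
    (hPS : P ≤ S) : F.IsCentric P := by
  refine ⟨hPS, fun P' hPP' => ?_⟩
  obtain ⟨ψ, hψ, rfl⟩ := hPP'
  have hconj : F.IsConj Q (ψ.comp (Subgroup.inclusion hQP)).range := ⟨_, restrict_mem F hψ hQP, rfl⟩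
  have h1 := hQ.2 _ hconj
  have h2 : (ψ.comp (Subgroup.inclusion hQP)).range ≤ ψ.range := by
    rintro _ ⟨x, rfl⟩
    exact ⟨_, rfl⟩
  intro c hc
  apply h2
  apply h1
  refine ⟨hc.1, ?_⟩
  intro y hy
  exact hc.2 y (h2 hy)

/-- Lemma B: the normal case -/
theorem exists_conj_of_agree_normal [Finite S] {p : ℕ} [Fact p.Prime] (hS : IsPGroup p S)
    (F : FusionSystem S) (hF : F.IsSaturated p) {P Q : Subgroup Ω} (hQP : Q ≤ P)
    (hPN : P ≤ Subgroup.normalizer (Q : Set Ω)) (hQ : F.IsCentric Q) {φ φ' : P →* Ω}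
    (hφ : φ ∈ F.Hom P) (hφ' : φ' ∈ F.Hom P) (h : ∀ x : P, (x : Ω) ∈ Q → φ x = φ' x) :
    ∃ z : P, (z : Ω) ∈ Q ∧ (z : Ω) ∈ Subgroup.centralizer (Q : Set Ω) ∧
      ∀ y : P, φ' y = φ (z * y * z⁻¹) := by
  have hPS : P ≤ S := source_le F hφ
  have hfinP : Finite P := finite_of_le hPS
  have hconjQ : F.IsConj Q (φ.comp (Subgroup.inclusion hQP)).range :=
    ⟨_, restrict_mem F hφ hQP, rfl⟩
  have hcenφQ := hQ.2 _ hconjQ
  have hnormx : ∀ (x : P) (u : Q), ((x : Ω) * u * (x : Ω)⁻¹) ∈ Q := fun x u =>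
    (Subgroup.mem_normalizer_iff.mp (hPN x.2) u).mp u.2
  have h1 : ∀ x : P, φ' x ∈ φ.range := by
    intro x
    have hc : (φ' x)⁻¹ * φ x ∈ centralizerIn S (φ.comp (Subgroup.inclusion hQP)).range := by
      refine ⟨S.mul_mem (S.inv_mem (apply_mem F hφ' x)) (apply_mem F hφ x), ?_⟩
      rintro _ ⟨u, rfl⟩
      have e1 : φ (x * Subgroup.inclusion hQP u * x⁻¹) = φ' (x * Subgroup.inclusion hQP u * x⁻¹) :=
        h _ (hnormx x u)
      rw [map_mul, map_mul, map_inv, map_mul, map_mul, map_inv, ← h (Subgroup.inclusion hQP u) u.2] at e1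
      show φ (Subgroup.inclusion hQP u) * ((φ' x)⁻¹ * φ x) =
        (φ' x)⁻¹ * φ x * φ (Subgroup.inclusion hQP u)
      calc φ (Subgroup.inclusion hQP u) * ((φ' x)⁻¹ * φ x)
          = (φ' x)⁻¹ * (φ' x * φ (Subgroup.inclusion hQP u) * (φ' x)⁻¹) * φ x := by group
        _ = (φ' x)⁻¹ * (φ x * φ (Subgroup.inclusion hQP u) * (φ x)⁻¹) * φ x := by rw [e1]
        _ = (φ' x)⁻¹ * φ x * φ (Subgroup.inclusion hQP u) := by group
    obtain ⟨u₀, hu₀⟩ := hcenφQ hc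
    refine ⟨x * (Subgroup.inclusion hQP u₀)⁻¹, ?_⟩
    have hu₀' : φ (Subgroup.inclusion hQP u₀) = (φ' x)⁻¹ * φ x := hu₀
    rw [map_mul, map_inv, hu₀']
    group
  have hr : φ'.range = φ.range := by
    have hfinR : Finite φ.range := finite_of_le (range_le F hφ)
    apply Subgroup.eq_of_le_of_card_ge
    · rintro _ ⟨x, rfl⟩
      exact h1 x
    · rw [← Nat.card_congr (MonoidHom.ofInjective (F.injective_of_mem hφ)).toEquiv,
        ← Nat.card_congr (MonoidHom.ofInjective (F.injective_of_mem hφ')).toEquiv]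
  obtain ⟨e, he, hex⟩ := exists_iso_of_hom F hφ rfl
  obtain ⟨e', he', hex'⟩ := exists_iso_of_hom F hφ' hr
  have hαiso : IsIso F (e'.trans e.symm) := he'.trans he.symm
  have hα : (e'.trans e.symm : MulAut P) ∈ F.autGroup P :=
    (isIso_iff_mem_autGroup F hPS _).mp hαiso
  have hφα : ∀ y : P, φ ((e'.trans e.symm) y) = φ' y := by
    intro y
    rw [← hex, ← hex']
    show ((e (e.symm (e' y)) : φ.range) : Ω) = _
    rw [MulEquiv.apply_symm_apply]
  have hfix : ∀ x : P, (x : Ω) ∈ Q → (e'.trans e.symm) x = x := by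
    intro x hx
    apply F.injective_of_mem hφ
    rw [hφα, h x hx]
  have hcenQ := hQ.2 Q (isConj_refl F hQ.1)
  have hstep : ∀ x : P, (x : Ω) ∈ P → (((e'.trans e.symm) x : P) : Ω) ∈ P ∧
      (x : Ω)⁻¹ * (((e'.trans e.symm) x : P) : Ω) ∈ Q := by
    intro x _
    refine ⟨((e'.trans e.symm) x).2, ?_⟩
    apply hcenQ
    refine ⟨S.mul_mem (S.inv_mem (hPS x.2)) (hPS ((e'.trans e.symm) x).2), ?_⟩
    intro u hu
    have hxu : (x : Ω) * u * (x : Ω)⁻¹ ∈ Q := hnormx x ⟨u, hu⟩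
    have e1 := hfix (x * ⟨u, hQP hu⟩ * x⁻¹) hxu
    rw [map_mul, map_mul, map_inv, hfix ⟨u, hQP hu⟩ hu] at e1
    have e2 : (((e'.trans e.symm) x : P) : Ω) * u * (((e'.trans e.symm) x : P) : Ω)⁻¹ =
        (x : Ω) * u * (x : Ω)⁻¹ := congrArg Subtype.val e1
    calc u * ((x : Ω)⁻¹ * (((e'.trans e.symm) x : P) : Ω))
        = (x : Ω)⁻¹ * ((x : Ω) * u * (x : Ω)⁻¹) * (((e'.trans e.symm) x : P) : Ω) := by group
      _ = (x : Ω)⁻¹ * ((((e'.trans e.symm) x : P) : Ω) * u *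
            (((e'.trans e.symm) x : P) : Ω)⁻¹) * (((e'.trans e.symm) x : P) : Ω) := by rw [e2]
      _ = (x : Ω)⁻¹ * (((e'.trans e.symm) x : P) : Ω) * u := by group
  have hpel : IsPElementOn p (e'.trans e.symm : MulAut P) P := by
    refine isPElementOn_step hS hQ.1 _ ⟨0, fun x hx => ?_⟩ hstep
    rw [pow_zero, pow_one]
    exact hfix x hx
  obtain ⟨k, hk⟩ := hpel
  have hk' : (e'.trans e.symm : MulAut P) ^ (p ^ k) = 1 := by
    ext x
    rw [hk x x.2]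
    rfl
  obtain ⟨z, hzQ, hzC, hz⟩ := eq_conj_of_fix_centric hS F hF hPS hQP hQ hα hfix hk'
  refine ⟨z, hzQ, hzC, fun y => ?_⟩
  rw [← hφα, hz]

end Cfsg.Agent.Lib.Helper26
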