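import Cfsg.Agent.Lib.Helper26.FusionNormal

set_option autoImplicit false

namespace Cfsg.Agent.Lib.Helper26

open Cfsg Cfsg.FusionSystem

variable {Ω : Type*} [Group Ω] {S : Subgroup Ω}

/-- `β ^ (p ^ k)` fixes `P ∩ N` pointwise for some `k` -/
def IsPElementOn (p : ℕ) {P : Subgroup Ω} (β : MulAut P) (N : Subgroup Ω) : Prop :=
  ∃ k : ℕ, ∀ x : P, (x : Ω) ∈ N → (β ^ (p ^ k)) x = x

theorem isPElementOn_bot (p : ℕ) {P : Subgroup Ω} (β : MulAut P) : IsPElementOn p β ⊥ := by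
  refine ⟨0, fun x hx => ?_⟩
  have : x = 1 := Subtype.ext (Subgroup.mem_bot.mp hx)
  rw [this, map_one]

theorem pow_apply_of_fix {P : Subgroup Ω} (γ : MulAut P) (x z : P) (hx : γ x = x * z)
    (hz : γ z = z) (n : ℕ) : (γ ^ n) x = x * z ^ n := by
  induction n with
  | zero => simp
  | succ n ih =>
    rw [pow_succ', MulAut.mul_apply, ih, map_mul, map_pow, hx, hz, pow_succ']
    group

theorem isPElementOn_step [Finite S] {p : ℕ} [Fact p.Prime] (hS : IsPGroup p S)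
    {P N M : Subgroup Ω} (hNS : N ≤ S) (β : MulAut P) (hN : IsPElementOn p β N)
    (hM : ∀ x : P, (x : Ω) ∈ M → ((β x : P) : Ω) ∈ M ∧ (x : Ω)⁻¹ * ((β x : P) : Ω) ∈ N) :
    IsPElementOn p β M := by
  obtain ⟨k, hk⟩ := hN
  have hfinN : Finite N := finite_of_le hNS
  obtain ⟨b, hb⟩ := (hS.to_le hNS).exists_card_eq
  have hpow : ∀ (j : ℕ) (x : P), (x : Ω) ∈ M →
      (((β ^ j) x : P) : Ω) ∈ M ∧ (x : Ω)⁻¹ * (((β ^ j) x : P) : Ω) ∈ N := by
    intro j
    induction j with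
    | zero =>
      intro x hx
      refine ⟨by simpa using hx, ?_⟩
      simp
    | succ j ih =>
      intro x hx
      obtain ⟨h1, h2⟩ := ih x hx
      obtain ⟨h3, h4⟩ := hM _ h1
      rw [pow_succ', MulAut.mul_apply]
      refine ⟨h3, ?_⟩
      have e : (x : Ω)⁻¹ * ((β ((β ^ j) x) : P) : Ω) =
          ((x : Ω)⁻¹ * (((β ^ j) x : P) : Ω)) *
          ((((β ^ j) x : P) : Ω)⁻¹ * ((β ((β ^ j) x) : P) : Ω)) := by group
      rw [e]
      exact N.mul_mem h2 h4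
  refine ⟨k + b, fun x hx => ?_⟩
  obtain ⟨-, h2⟩ := hpow (p ^ k) x hx
  set z : P := x⁻¹ * (β ^ (p ^ k)) x with hz
  have hzN : (z : Ω) ∈ N := h2
  have hγx : (β ^ (p ^ k)) x = x * z := by rw [hz]; group
  have hγz : (β ^ (p ^ k)) z = z := hk z hzN
  have h3 := pow_apply_of_fix (β ^ (p ^ k)) x z hγx hγz (p ^ b)
  rw [← pow_mul, ← pow_add] at h3
  rw [h3]
  have h4 : (⟨(z : Ω), hzN⟩ : N) ^ (p ^ b) = 1 := by
    rw [← hb]
    exact pow_card_eq_one'
  have h5 : z ^ (p ^ b) = 1 := by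
    apply Subtype.ext
    have := congrArg Subtype.val h4
    simpa using this
  rw [h5, mul_one]

theorem isPGroup_of_forall_isPElementOn {p : ℕ} {P : Subgroup Ω} {X : Type*} [Group X]
    (f : X →* MulAut P) (hf : Function.Injective f)
    (h : ∀ β : X, IsPElementOn p (f β) P) : IsPGroup p X := by
  intro β
  obtain ⟨k, hk⟩ := h β
  refine ⟨k, hf ?_⟩
  rw [map_pow, map_one]
  ext x
  rw [hk x x.2]
  rfl

/-- `P, Q ≤ S`, `S` normalizes `Q`, and `N_Q(P) ≤ P`: then `Q ≤ P`. -/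
theorem le_of_inf_normalizer_le [Finite S] {p : ℕ} [Fact p.Prime] (hS : IsPGroup p S)
    {P Q : Subgroup Ω} (hPS : P ≤ S) (hQS : Q ≤ S) (hQn : S ≤ Subgroup.normalizer (Q : Set Ω))
    (h : Q ⊓ Subgroup.normalizer (P : Set Ω) ≤ P) : Q ≤ P := by
  have hPQS : P ⊔ Q ≤ S := sup_le hPS hQS
  have hfin : Finite ↥(P ⊔ Q) := finite_of_le hPQS
  have heq : P = P ⊔ Q := by
    by_contra hne
    obtain ⟨x, hxL, hxP, hxN⟩ := exists_normalizing_of_lt (hS.to_le hPQS) le_sup_left hne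
    have hxL' : x ∈ ((P ⊔ Q : Subgroup Ω) : Set Ω) := hxL
    rw [Subgroup.coe_mul_of_left_le_normalizer_right P Q (hPS.trans hQn)] at hxL'
    obtain ⟨a, ha, q, hq, rfl⟩ := Set.mem_mul.mp hxL'
    have hqN : q ∈ Subgroup.normalizer (P : Set Ω) := by
      have := Subgroup.mul_mem _ (Subgroup.inv_mem _ (Subgroup.le_normalizer (H := P) ha)) hxN
      rwa [inv_mul_cancel_left] at this
    exact hxP (P.mul_mem ha (h ⟨hq, hqN⟩))
  rw [heq]
  exact le_sup_right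

end Cfsg.Agent.Lib.Helper26
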