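import Cfsg.Agent.Lib.Helper26.FusionSeries3

set_option autoImplicit false

namespace Cfsg.Agent.Lib.Helper26

open Cfsg Cfsg.FusionSystem
open scoped commutatorElement

variable {Ω : Type*} [Group Ω] {S : Subgroup Ω}

/-- the upper central series of `Q`, as subgroups of the ambient group -/
def ucs (Q : Subgroup Ω) (i : ℕ) : Subgroup Ω := (Subgroup.upperCentralSeries ↥Q i).map Q.subtype

theorem ucs_le (Q : Subgroup Ω) (i : ℕ) : ucs Q i ≤ Q := by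
  rintro _ ⟨x, -, rfl⟩
  exact x.2

theorem ucs_zero (Q : Subgroup Ω) : ucs Q 0 = ⊥ := by
  unfold ucs
  rw [Subgroup.upperCentralSeries_zero, Subgroup.map_bot]

theorem ucs_mono (Q : Subgroup Ω) : Monotone (ucs Q) := fun _ _ h =>
  Subgroup.map_mono (Subgroup.upperCentralSeries_mono ↥Q h)

theorem mem_ucs_iff {Q : Subgroup Ω} {i : ℕ} {x : Ω} :
    x ∈ ucs Q i ↔ ∃ hx : x ∈ Q, (⟨x, hx⟩ : Q) ∈ Subgroup.upperCentralSeries ↥Q i := by
  constructor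
  · rintro ⟨y, hy, rfl⟩
    exact ⟨y.2, hy⟩
  · rintro ⟨hx, h⟩
    exact ⟨⟨x, hx⟩, h, rfl⟩

theorem commutator_ucs_le (Q : Subgroup Ω) (i : ℕ) : ⁅Q, ucs Q (i + 1)⁆ ≤ ucs Q i := by
  rw [Subgroup.commutator_comm, Subgroup.commutator_le]
  intro a ha b hb
  obtain ⟨haQ, ha'⟩ := mem_ucs_iff.mp ha
  have h1 := Subgroup.mem_upperCentralSeries_succ_iff.mp ha' ⟨b, hb⟩
  exact ⟨_, h1, rfl⟩

theorem exists_ucs_eq [Finite S] {p : ℕ} [Fact p.Prime] (hS : IsPGroup p S) {Q : Subgroup Ω}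
    (hQS : Q ≤ S) : ∃ n : ℕ, ucs Q n = Q := by
  have hfin : Finite Q := finite_of_le hQS
  have hnil : Group.IsNilpotent Q := (hS.to_le hQS).isNilpotent
  obtain ⟨n, hn⟩ := hnil.nilpotent'
  refine ⟨n, ?_⟩
  unfold ucs
  rw [hn, ← MonoidHom.range_eq_map, Subgroup.range_subtype]

theorem apply_mem_ucs {Q : Subgroup Ω} (e : Q ≃* Q) {i : ℕ} {x : Q} (hx : (x : Ω) ∈ ucs Q i) :
    ((e x : Q) : Ω) ∈ ucs Q i := by
  obtain ⟨hxQ, hx'⟩ := mem_ucs_iff.mp hx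
  refine mem_ucs_iff.mpr ⟨(e x).2, ?_⟩
  have hchar : (Subgroup.upperCentralSeries ↥Q i).Characteristic := inferInstance
  have h1 := Subgroup.characteristic_iff_map_eq.mp hchar e
  rw [← h1]
  exact ⟨x, hx', rfl⟩

theorem stronglyClosed_ucs_of_isNormal (F : FusionSystem S) {Q : Subgroup Ω} (hQ : F.IsNormal Q)
    (i : ℕ) : F.StronglyClosed (ucs Q i) := by
  refine ⟨(ucs_le Q i).trans hQ.1, fun R hR φ hφ x => ?_⟩
  have hRQ : R ≤ Q := hR.trans (ucs_le Q i)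
  obtain ⟨ψ, hψ, hψφ, hψQ⟩ := hQ.2 R φ hφ
  have hθ : ψ.comp (Subgroup.inclusion (le_sup_right : Q ≤ R ⊔ Q)) ∈ F.Hom Q :=
    restrict_mem F hψ le_sup_right
  have hr : (ψ.comp (Subgroup.inclusion (le_sup_right : Q ≤ R ⊔ Q))).range = Q := by
    ext z
    have h3 : z ∈ Q ↔ z ∈ (Q.subgroupOf (R ⊔ Q)).map ψ := by rw [hψQ]
    rw [h3, map_subgroupOf_sup_eq]
    rfl
  obtain ⟨e, -, hex⟩ := exists_iso_of_hom F hθ hr
  have h1 := apply_mem_ucs e (x := ⟨x, hRQ x.2⟩) (hR x.2)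
  rw [hex] at h1
  have h2 : Subgroup.inclusion (le_sup_right : Q ≤ R ⊔ Q) ⟨(x : Ω), hRQ x.2⟩ =
      Subgroup.inclusion (le_sup_left : R ≤ R ⊔ Q) x := Subtype.ext rfl
  rw [MonoidHom.comp_apply, h2, hψφ] at h1
  exact h1

end Cfsg.Agent.Lib.Helper26
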