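import Mathlib
import Cfsg.Prelude.Def_ChevStructure
import Cfsg.Prelude.Def_ChevG2
import Cfsg.Agent.Lib.helper14.G2T.Basic
import Cfsg.Agent.Lib.helper14.G2T.Long
import Cfsg.Agent.Lib.helper8.ChevFix1
import Cfsg.Agent.S1033

/-!
# Project G2T, row D8 (hh_pow), verbatim statement.  Proved directly from the landed S1033
(`h_p(c)` is diagonal), without B1 / B4.
-/

set_option autoImplicit false

namespace Cfsg.Agent.Lib.helper14.G2T

open Cfsg.Lie Cfsg.Lie.ChevalleyDatum Cfsg.Agent.Lib.helper8 Matrix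

universe u v

section B

variable {E : Type u} [Field E]

/-- `h_a(c)` (root 7) is diagonal. -/
theorem g2td8_h7 (c : E) (hc : c ≠ 0) :
    chevG2.hMat E 7 c = Matrix.diagonal
      (Sum.elim (fun _ => (1 : E)) (fun s : Fin chevG2.nroots => c ^ (chevG2.cartan 0 s))) := by
  have hD : chevG2 ∈ [chevG2, chevB2, chevD4, chevF4, chevE6, chevE7, chevE8] := by simp
  have h := Cfsg.Agent.S1033.result (F := E) chevG2 hD 0 (by decide) c hc
  have h7 : chevG2.simple 0 = 7 := by decide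
  rw [h7] at h
  exact h

/-- `h_b(c)` (root 6) is diagonal. -/
theorem g2td8_h6 (c : E) (hc : c ≠ 0) :
    chevG2.hMat E 6 c = Matrix.diagonal
      (Sum.elim (fun _ => (1 : E)) (fun s : Fin chevG2.nroots => c ^ (chevG2.cartan 1 s))) := by
  have hD : chevG2 ∈ [chevG2, chevB2, chevD4, chevF4, chevE6, chevE7, chevE8] := by simp
  have h := Cfsg.Agent.S1033.result (F := E) chevG2 hD 1 (by decide) c hc
  have h6 : chevG2.simple 1 = 6 := by decide
  rw [h6] at h
  exact h

/-- `hh c₀ c₁` as a diagonal matrix (entries as products of `zpow`s). -/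
theorem g2td8_hh (c0 c1 : E) (hc0 : c0 ≠ 0) (hc1 : c1 ≠ 0) :
    hh c0 c1 = Matrix.diagonal
      (Sum.elim (fun _ => (1 : E)) (fun s : Fin chevG2.nroots =>
        c0 ^ (chevG2.cartan 0 s) * c1 ^ (chevG2.cartan 1 s))) := by
  unfold hh
  rw [g2td8_h7 c0 hc0, g2td8_h6 c1 hc1, Matrix.diagonal_mul_diagonal]
  congr 1
  funext x
  rcases x with x | s
  · simp
  · simp

end B

section D

variable {F : Type u} [Field F] [Fintype F] {E : Type v} [Field E] [Fintype E] [Algebra F E]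

theorem hh_pow (c0 c1 : E) (hc0 : c0 ≠ 0) (hc1 : c1 ≠ 0) (i : ℕ) :
    hh (c0 ^ i) (c1 ^ i) = hh c0 c1 ^ i := by
  have hz : ∀ (c : E) (z : ℤ), (c ^ i) ^ z = (c ^ z) ^ i := fun c z => by
    rw [← zpow_natCast, ← _root_.zpow_mul, mul_comm, _root_.zpow_mul, zpow_natCast]
  rw [g2td8_hh _ _ (pow_ne_zero i hc0) (pow_ne_zero i hc1), g2td8_hh c0 c1 hc0 hc1,
    Matrix.diagonal_pow]
  congr 1
  funext x
  rcases x with x | s
  · simp
  · simp only [Sum.elim_inr, Pi.pow_apply]
    rw [hz, hz, mul_pow]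

end D

end Cfsg.Agent.Lib.helper14.G2T
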