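import Mathlib
import Cfsg.Agent.Lib.Helper20.GLE.Defs
import Cfsg.Agent.Lib.Helper20.GLE.DefsP
import Cfsg.Agent.Lib.Helper20.GLE.DefsM
import Cfsg.Agent.Lib.Helper27.STU.Frob
import Cfsg.Agent.Lib.helper23.SPMP01

/-!
Project GLE (designer helper20; block of PSU, S2291) row P3 (`glue_of_words`), VERBATIM vs `Helper20/GLE/SkelP.lean.txt`
(port of helper21's SPM P03).  EXPRESS: the cited row P2 (`evG_Wc`) was not on main when this was written; the file has an own-name copy
`glep3_evG_Wc` with the exact Skel statement.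
-/

set_option autoImplicit false
set_option linter.unusedSectionVars false

namespace Cfsg.Agent.Lib.Helper20.GLE

open Cfsg.Agent.Lib.helper3.STC (ng ab)
open Cfsg.Agent.Lib.helper3.SPM (Pts pe sgm sn sig2 ptsFin pe2 inN inL evG evN evL)
open Cfsg.Agent.Lib.Helper27.STU
open Cfsg.Agent.Lib.helper17.SLP (cm)

universe u v w x v' y

/-- commuting with the images of a generating set implies commuting with the images of the closure -/
theorem glep3_commute_closure {A : Type*} {G : Type*} [Group A] [Group G] (f : A →* G) (S : Set A) (y : G)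
    (h : ∀ x ∈ S, Commute (f x) y) : ∀ x ∈ Subgroup.closure S, Commute (f x) y := by
  intro x hx
  induction hx using Subgroup.closure_induction with
  | mem x hx => exact h x hx
  | one => rw [map_one]; exact Commute.one_left y
  | mul x z _ _ hx hz => rw [map_mul]; exact hx.mul_left hz
  | inv x _ hx => rw [map_inv]; exact hx.inv_left

theorem glep3_commute_of_cm {G : Type*} [Group G] {x y : G} (h : cm x y = 1) : Commute x y :=
  (Cfsg.Agent.Lib.helper17.SLP.cm_eq_one_iff x y).mp h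

theorem glep3_conj_of_commute {G : Type*} [Group G] {x y : G} (h : Commute x y) : x * y * x⁻¹ = y :=
  mul_inv_eq_iff_eq_mul.mpr h.eq

section P

variable {F : Type u} [Field F] [StarRing F] {L : Type x} [Group L] {ι : Type w} [Fintype ι] [DecidableEq ι] {k : ℕ}
  (S₂ : SysU F False (Fin 2) L) (swL : L) (ζ : F)

/-- own-name copy of P2 `evG_Wc` -/
theorem glep3_evG_Wc {G : Type v} [Group G] (wN : Equiv.Perm ι → FreeGroup (Fin k)) (wL : L → FreeGroup (Fin 6))
    (s : Fin k → G) (g : Fin 6 → G) (ν : Equiv.Perm ι →* G) (lam : L →* G)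
    (hν : ∀ σ, ν σ = evN s (wN σ)) (hlam : ∀ m, lam m = evL g (wL m)) (σ : Equiv.Perm ι) (m : L) :
    evG s g (Wc wN wL σ m) = lamC ν lam σ m := by
  unfold Wc
  rw [map_mul, map_mul, map_inv, Cfsg.Agent.Lib.helper3.SPM.evG_inN, Cfsg.Agent.Lib.helper3.SPM.evG_inL, ← hν, ← hlam]
  rfl

/-- P3 [M] -/
theorem glue_of_words (p : Pts ι) (wN : Equiv.Perm ι → FreeGroup (Fin k)) (wL : L → FreeGroup (Fin 6))
    (c d c' d' : Equiv.Perm ι) (b : Fin 3 → L)
    (hcd : ∀ σ : Equiv.Perm ι, σ p.o1 = p.o1 → σ ∈ Subgroup.closure ({c, d} : Set (Equiv.Perm ι)))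
    (hcd' : ∀ σ : Equiv.Perm ι, σ p.o0 = p.o0 → σ p.o1 = p.o1 → σ ∈ Subgroup.closure ({c', d'} : Set (Equiv.Perm ι)))
    (hB : (B1 S₂ : Set L) ⊆ Subgroup.closure (Set.range b))
    {G : Type v} [Group G] (s : Fin k → G) (g : Fin 6 → G) (ν : Equiv.Perm ι →* G) (lam : L →* G)
    (hν : ∀ σ, ν σ = evN s (wN σ)) (hlam : ∀ m, lam m = evL g (wL m))
    (hrel : ∀ r ∈ wordsGlue S₂ swL ζ p wN wL c d c' d' b, evG s g r = 1) : Glue S₂ swL ζ p ν lam := by
  have hW : ∀ σ m, evG s g (Wc wN wL σ m) = lamC ν lam σ m :=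
    fun σ m => glep3_evG_Wc wN wL s g ν lam hν hlam σ m
  have hN : ∀ σ, evG s g (inN (wN σ)) = ν σ := fun σ => by rw [Cfsg.Agent.Lib.helper3.SPM.evG_inN, ← hν]
  have hL : ∀ m, evG s g (inL (wL m)) = lam m := fun m => by rw [Cfsg.Agent.Lib.helper3.SPM.evG_inL, ← hlam]
  -- the words
  have r_sw := hrel (inN (wN (Equiv.swap p.o0 p.o1)) * (inL (wL swL))⁻¹) (by unfold wordsGlue; simp)
  have r_st : ∀ σ ∈ ({c, d} : Set (Equiv.Perm ι)), ∀ i : Fin 3,
      evG s g (cm (inN (wN σ)) (inL (wL (b i)))) = 1 := by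
    intro σ hσ i
    apply hrel
    unfold wordsGlue
    simp only [Set.mem_insert_iff, Set.mem_singleton_iff] at hσ
    rcases hσ with rfl | rfl <;> fin_cases i <;> simp
  have r_st' : ∀ σ ∈ ({c', d'} : Set (Equiv.Perm ι)), ∀ t : F, t = 1 ∨ t = ζ →
      evG s g (cm (inN (wN σ)) (inL (wL (uA S₂ t)))) = 1 := by
    intro σ hσ t ht
    apply hrel
    unfold wordsGlue
    simp only [Set.mem_insert_iff, Set.mem_singleton_iff] at hσ
    rcases hσ with rfl | rfl <;> rcases ht with rfl | rfl <;> simp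
  have r_d3 : ∀ t : F, t = 1 ∨ t = ζ → ∀ i : Fin 3,
      evG s g (cm (inL (wL (uA S₂ t))) (Wc wN wL (Equiv.swap p.o1 p.o2) (b i))) = 1 := by
    intro t ht i
    apply hrel
    unfold wordsGlue
    rcases ht with rfl | rfl <;> fin_cases i <;> simp
  have r_c1 : ∀ t : F, t = 1 ∨ t = ζ → ∀ u : F, u = 1 ∨ u = ζ →
      evG s g (cm (inL (wL (uA S₂ t))) (Wc wN wL (Equiv.swap p.o0 p.o1 * Equiv.swap p.o1 p.o2) (uA S₂ u)) *
        (Wc wN wL (Equiv.swap p.o1 p.o2) (uA S₂ (t * u)))⁻¹) = 1 := by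
    intro t ht u hu
    apply hrel
    unfold wordsGlue
    rcases ht with rfl | rfl <;> rcases hu with rfl | rfl <;> simp
  have r_c2 : ∀ t : F, t = 1 ∨ t = ζ → ∀ u : F, u = 1 ∨ u = ζ →
      evG s g (cm (inL (wL (uA S₂ t))) (Wc wN wL (Equiv.swap p.o1 p.o2) (uA S₂ u))) = 1 := by
    intro t ht u hu
    apply hrel
    unfold wordsGlue
    rcases ht with rfl | rfl <;> rcases hu with rfl | rfl <;> simp
  refine ⟨?_, ?_, ?_, ?_, ?_, ?_, ?_⟩
  · -- sw
    rw [map_mul, map_inv, hN, hL, mul_inv_eq_one] at r_sw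
    exact r_sw
  · -- stab1
    intro σ hσ m hm
    have h1 : ∀ τ ∈ ({c, d} : Set (Equiv.Perm ι)), Commute (ν τ) (lam m) := by
      intro τ hτ
      have h2 : ∀ b' ∈ Set.range b, Commute (lam b') (ν τ) := by
        rintro _ ⟨i, rfl⟩
        have := r_st τ hτ i
        rw [Cfsg.Agent.Lib.helper17.SLP.map_cm, hN, hL] at this
        exact (glep3_commute_of_cm this).symm
      exact (glep3_commute_closure lam _ (ν τ) h2 m (hB hm)).symm
    exact glep3_conj_of_commute (glep3_commute_closure ν _ (lam m) h1 σ (hcd σ hσ))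
  · -- stab01
    intro σ h0 h1 t ht
    have h2 : ∀ τ ∈ ({c', d'} : Set (Equiv.Perm ι)), Commute (ν τ) (lam (uA S₂ t)) := by
      intro τ hτ
      have := r_st' τ hτ t ht
      rw [Cfsg.Agent.Lib.helper17.SLP.map_cm, hN, hL] at this
      exact glep3_commute_of_cm this
    exact glep3_conj_of_commute (glep3_commute_closure ν _ (lam (uA S₂ t)) h2 σ (hcd' σ h0 h1))
  · -- d3
    intro t ht m hm
    have h2 : ∀ b' ∈ Set.range b,
        Commute (lamC ν lam (Equiv.swap p.o1 p.o2) b') (lam (uA S₂ t)) := by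
      rintro _ ⟨i, rfl⟩
      have := r_d3 t ht i
      rw [Cfsg.Agent.Lib.helper17.SLP.map_cm, hL, hW] at this
      exact (glep3_commute_of_cm this).symm
    exact (glep3_commute_closure (lamC ν lam (Equiv.swap p.o1 p.o2)) _ (lam (uA S₂ t)) h2 m (hB hm)).symm
  · -- d4
    intro x hx t ht u hu
    have := hrel (cm (inL (wL (uA S₂ t))) (Wc wN wL (Equiv.swap p.o0 p.o2 * Equiv.swap p.o1 x) (uA S₂ u))) (by
      unfold wordsGlue
      have h3 : p.o3 = some x := hx
      rw [h3]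
      rcases ht with rfl | rfl <;> rcases hu with rfl | rfl <;> simp)
    rw [Cfsg.Agent.Lib.helper17.SLP.map_cm, hL, hW] at this
    exact glep3_commute_of_cm this
  · -- c1
    intro t ht u hu
    have := r_c1 t ht u hu
    rw [map_mul, map_inv, Cfsg.Agent.Lib.helper17.SLP.map_cm, hL, hW, hW, mul_inv_eq_one] at this
    exact this
  · -- c2
    intro t ht u hu
    have := r_c2 t ht u hu
    rw [Cfsg.Agent.Lib.helper17.SLP.map_cm, hL, hW] at this
    exact glep3_commute_of_cm this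

end P

end Cfsg.Agent.Lib.Helper20.GLE
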