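import Mathlib
import Cfsg.Prelude.Def_Characters
import Cfsg.Agent.Lib.Helper26.GalFixOver2

/-!
Galois-fixed characters over a Galois-fixed character of a normal subgroup of odd index (S4519):
over an extendible character there is exactly one Galois-fixed character, and it is an extension.
-/

set_option autoImplicit false
set_option linter.style.haveILetI false
set_option linter.unusedSectionVars false
set_option linter.unusedVariables false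

namespace Cfsg.Agent.Lib.Helper26

open scoped ComplexConjugate
open Cfsg.Agent.Lib.Helper24 Cfsg.Agent.Lib.Helper25 Cfsg.Agent.Lib.Helper11
open Cfsg.Agent.Lib.helper2 Cfsg.Agent.Lib.helper7

section

variable {G : Type*} [Group G]

theorem gfo_unique [Fintype G] (N : Subgroup G) [hN : N.Normal] [Fintype N] (hidx : Odd N.index)
    (k : ℕ) (hyp : gfo_Hyp G k) (θ : Cfsg.IrrCharacter N)
    (hθ : ∀ n : N, (θ : N → ℂ) (n ^ k) = (θ : N → ℂ) n)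
    (χ₀ : Cfsg.IrrCharacter G) (hχ₀ : ∀ n : N, (χ₀ : G → ℂ) n = (θ : N → ℂ) n) :
    ∃ χ : Cfsg.IrrCharacter G, (∀ n : N, (χ : G → ℂ) n = (θ : N → ℂ) n) ∧
      (∀ g : G, (χ : G → ℂ) (g ^ k) = (χ : G → ℂ) g) ∧
      ∀ χ' : Cfsg.IrrCharacter G,
        Cfsg.classInner (fun n : N => (χ' : G → ℂ) n) (θ : N → ℂ) ≠ 0 →
        (∀ g : G, (χ' : G → ℂ) (g ^ k) = (χ' : G → ℂ) g) → χ' = χ := by
  classical
  obtain ⟨hG1, -⟩ := gfo_gallagher N θ χ₀ hχ₀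
  obtain ⟨χ₁, hχ₁⟩ : ∃ χ₁ : Cfsg.IrrCharacter G, χ₁ = gfo_gal k hyp.1 χ₀ := ⟨_, rfl⟩
  have hχ₁a : ∀ g : G, (χ₁ : G → ℂ) g = (χ₀ : G → ℂ) (g ^ k) := by
    intro g
    rw [hχ₁, gfo_gal_apply]
  have hχ₁N : ∀ n : N, (χ₁ : G → ℂ) n = (θ : N → ℂ) n := by
    intro n
    rw [hχ₁a]
    have := hχ₀ (n ^ k)
    rw [Subgroup.coe_pow] at this
    rw [this, hθ]
  have hcon₁ : Cfsg.classInner (fun n : N => (χ₁ : G → ℂ) n) (θ : N → ℂ) ≠ 0 := by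
    have : (fun n : N => (χ₁ : G → ℂ) n) = (θ : N → ℂ) := funext hχ₁N
    rw [this, h7_irr_norm θ.2]
    exact one_ne_zero
  obtain ⟨μ, hμN, hμ⟩ := hG1 χ₁ hcon₁
  have hμ1 : (μ : G → ℂ) 1 = 1 := by
    have h := congrFun hμ 1
    rw [Pi.mul_apply, hχ₁a, one_pow] at h
    have hne := irr_one_ne_zero χ₀
    have h' : (1 : ℂ) * (χ₀ : G → ℂ) 1 = (μ : G → ℂ) 1 * (χ₀ : G → ℂ) 1 := by
      rw [one_mul]
      exact h
    exact (mul_right_cancel₀ hne h').symm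
  obtain ⟨μh, hμh⟩ : ∃ μh : G →* ℂˣ, ∀ g : G, ((μh g : ℂˣ) : ℂ) = (μ : G → ℂ) g :=
    ⟨irrLinearHom μ hμ1, fun g => rfl⟩
  have hμhN : ∀ n ∈ N, μh n = 1 := by
    intro n hn
    apply Units.ext
    rw [hμh, hμN n hn, hμ1, Units.val_one]
  have hμm : ∀ g : G, μh g ^ N.index = 1 := by
    intro g
    rw [← map_pow]
    exact hμhN _ (Subgroup.pow_index_mem N g)
  obtain ⟨j, hj⟩ : ∃ j : ℕ, N.index + 1 = 2 * j := by
    obtain ⟨t, ht⟩ := hidx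
    exact ⟨t + 1, by omega⟩
  obtain ⟨ν, hν⟩ : ∃ ν : G →* ℂˣ, ∀ g : G, ν g = μh g ^ j := ⟨μh ^ j, fun g => rfl⟩
  have hνN : ∀ n ∈ N, ν n = 1 := by
    intro n hn
    rw [hν, hμhN n hn, one_pow]
  have hνm : ∀ g : G, ν g ^ N.index = 1 := by
    intro g
    rw [hν, ← pow_mul, mul_comm, pow_mul, hμm, one_pow]
  have hν2 : ∀ g : G, ν g * ν g = μh g := by
    intro g
    rw [hν, ← pow_add, ← two_mul, ← hj, pow_succ, hμm, one_mul]
  have hνk : ∀ g : G, ν (g ^ k) = (ν g)⁻¹ := by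
    intro g
    rw [map_pow]
    exact gfo_inv_of_odd ν N.index hidx hνm k hyp.2 g
  obtain ⟨χ, hχ⟩ : ∃ χ : Cfsg.IrrCharacter G,
      ∀ g : G, (χ : G → ℂ) g = ((ν g : ℂˣ) : ℂ) * (χ₀ : G → ℂ) g :=
    ⟨⟨fun g => ((ν g : ℂˣ) : ℂ) * (χ₀ : G → ℂ) g, isIrr_linChar_mul ν _ χ₀.2⟩, fun g => rfl⟩
  have hχN : ∀ n : N, (χ : G → ℂ) n = (θ : N → ℂ) n := by
    intro n
    rw [hχ, hνN n n.2, Units.val_one, one_mul, hχ₀]
  have hχk : ∀ g : G, (χ : G → ℂ) (g ^ k) = (χ : G → ℂ) g := by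
    intro g
    rw [hχ, hχ, hνk, ← hχ₁a, hμ, Pi.mul_apply, ← hμh, ← hν2, Units.val_inv_eq_inv_val,
      Units.val_mul]
    have hne : ((ν g : ℂˣ) : ℂ) ≠ 0 := Units.ne_zero _
    field_simp
  refine ⟨χ, hχN, hχk, ?_⟩
  intro χ' hcon' hχ'k
  obtain ⟨hG1', hG2'⟩ := gfo_gallagher N θ χ hχN
  obtain ⟨β, hβN, hβ⟩ := hG1' χ' hcon'
  obtain ⟨β₁, hβ₁⟩ : ∃ β₁ : Cfsg.IrrCharacter G, β₁ = gfo_gal k hyp.1 β := ⟨_, rfl⟩
  have hβ₁a : ∀ g : G, (β₁ : G → ℂ) g = (β : G → ℂ) (g ^ k) := by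
    intro g
    rw [hβ₁, gfo_gal_apply]
  have hβ₁N : ∀ n ∈ N, (β₁ : G → ℂ) n = (β₁ : G → ℂ) 1 := by
    intro n hn
    rw [hβ₁a, hβ₁a, one_pow]
    exact hβN _ (N.pow_mem hn k)
  have heq : (β₁ : G → ℂ) * (χ : G → ℂ) = (β : G → ℂ) * (χ : G → ℂ) := by
    funext g
    have h1 := congrFun hβ (g ^ k)
    have h2 := congrFun hβ g
    rw [Pi.mul_apply] at h1 h2
    rw [Pi.mul_apply, Pi.mul_apply, hβ₁a, ← hχk g, ← h1, hχ'k, h2, hχk]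
  have hββ : β₁ = β := hG2' β₁ β hβ₁N hβN heq
  obtain ⟨βq, hβq⟩ := h7_deflate N β hβN
  haveI : Fintype (G ⧸ N) := Fintype.ofFinite _
  have hoddq : Odd (Nat.card (G ⧸ N)) := by
    rw [← Subgroup.index_eq_card]
    exact hidx
  have hreal : ∀ x : G ⧸ N, (βq : G ⧸ N → ℂ) x⁻¹ = (βq : G ⧸ N → ℂ) x := by
    intro x
    rw [← gfo_quot_inv N hidx k hyp.2 x]
    obtain ⟨g, rfl⟩ := QuotientGroup.mk_surjective x
    rw [← QuotientGroup.mk_pow, hβq, hβq, ← hβ₁a, hββ]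
  have htriv := gfo_burnside hoddq βq hreal
  apply Subtype.ext
  funext g
  have h2 := congrFun hβ g
  rw [Pi.mul_apply, ← hβq, htriv, trivIrr_apply, one_mul] at h2
  exact h2

end

end Cfsg.Agent.Lib.Helper26
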