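import Mathlib
import Cfsg.Prelude.Def_Characters
import Cfsg.Agent.Lib.Helper26.GalFixOver3
import Cfsg.Agent.Lib.Helper24.ExtFirstMain2
import Cfsg.Agent.Lib.Helper24.NormalRank
import Cfsg.Agent.Lib.Helper24.FongReynolds1
import Cfsg.Agent.S0886

/-!
Galois-fixed characters over a Galois-fixed character of a normal subgroup of odd index (S4519):
transport to intermediate subgroups and extension in the case of a quotient of prime power order.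
-/

set_option autoImplicit false
set_option linter.style.haveILetI false
set_option linter.unusedSectionVars false
set_option linter.unusedVariables false

namespace Cfsg.Agent.Lib.Helper26

open scoped ComplexConjugate
open Cfsg.Agent.Lib.Helper24 Cfsg.Agent.Lib.Helper25 Cfsg.Agent.Lib.Helper11
open Cfsg.Agent.Lib.helper2 Cfsg.Agent.Lib.helper7

section

variable {G : Type*} [Group G]

/-- transport of an irreducible character of `N` to `N.subgroupOf P` -/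
noncomputable def gfo_tr (N P : Subgroup G) (hNP : N ≤ P) (θ : Cfsg.IrrCharacter N) :
    Cfsg.IrrCharacter ↥(N.subgroupOf P) :=
  ef_tr (Subgroup.subgroupOfEquivOfLe hNP) θ

theorem gfo_tr_apply (N P : Subgroup G) (hNP : N ≤ P) (θ : Cfsg.IrrCharacter N)
    (x : ↥(N.subgroupOf P)) :
    (gfo_tr N P hNP θ : ↥(N.subgroupOf P) → ℂ) x =
      (θ : N → ℂ) ⟨((x : P) : G), Subgroup.mem_subgroupOf.mp x.2⟩ := rfl

theorem gfo_tr_apply' (N P : Subgroup G) (hNP : N ≤ P) (θ : Cfsg.IrrCharacter N) (n : N) :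
    (gfo_tr N P hNP θ : ↥(N.subgroupOf P) → ℂ)
      ⟨⟨(n : G), hNP n.2⟩, Subgroup.mem_subgroupOf.mpr n.2⟩ = (θ : N → ℂ) n := rfl

theorem gfo_tr_gal (N P : Subgroup G) (hNP : N ≤ P) (θ : Cfsg.IrrCharacter N) (k : ℕ)
    (hθ : ∀ n : N, (θ : N → ℂ) (n ^ k) = (θ : N → ℂ) n) (x : ↥(N.subgroupOf P)) :
    (gfo_tr N P hNP θ : ↥(N.subgroupOf P) → ℂ) (x ^ k) =
      (gfo_tr N P hNP θ : ↥(N.subgroupOf P) → ℂ) x := by
  rw [gfo_tr_apply, gfo_tr_apply]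
  have h := hθ ⟨((x : P) : G), Subgroup.mem_subgroupOf.mp x.2⟩
  refine Eq.trans ?_ h
  congr 1

theorem gfo_tr_inv (N P : Subgroup G) [hN : N.Normal] (hNP : N ≤ P) (θ : Cfsg.IrrCharacter N)
    (hinv : ∀ g ∈ P, ∀ n : N,
      (θ : N → ℂ) ⟨g * n * g⁻¹, hN.conj_mem (n : G) n.2 g⟩ = (θ : N → ℂ) n)
    (g : ↥P) (x : ↥(N.subgroupOf P)) :
    (gfo_tr N P hNP θ : ↥(N.subgroupOf P) → ℂ)
      ⟨g * x * g⁻¹, (inferInstance : (N.subgroupOf P).Normal).conj_mem (x : ↥P) x.2 g⟩ =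
      (gfo_tr N P hNP θ : ↥(N.subgroupOf P) → ℂ) x := by
  rw [gfo_tr_apply, gfo_tr_apply]
  exact hinv (g : G) g.2 ⟨((x : P) : G), Subgroup.mem_subgroupOf.mp x.2⟩

theorem gfo_tr_inner (N P : Subgroup G) (hNP : N ≤ P) [Fintype N] [Fintype ↥(N.subgroupOf P)]
    (θ : Cfsg.IrrCharacter N) (η : ↥P → ℂ) :
    Cfsg.classInner (fun x : ↥(N.subgroupOf P) => η x)
      (gfo_tr N P hNP θ : ↥(N.subgroupOf P) → ℂ) =
      Cfsg.classInner (fun n : N => η ⟨(n : G), hNP n.2⟩) (θ : N → ℂ) :=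
  h7_classInner_comp_equiv (Subgroup.subgroupOfEquivOfLe hNP)
    (fun n : N => η ⟨(n : G), hNP n.2⟩) (θ : N → ℂ)

/-- relative form of `gfo_unique` -/
theorem gfo_unique_rel [Fintype G] (N P : Subgroup G) [hN : N.Normal] [Fintype N] (hNP : N ≤ P)
    (hidx : Odd (N.relIndex P)) (k : ℕ) (hyp : gfo_Hyp G k) (θ : Cfsg.IrrCharacter N)
    (hθ : ∀ n : N, (θ : N → ℂ) (n ^ k) = (θ : N → ℂ) n)
    (η₀ : Cfsg.IrrCharacter ↥P)
    (hη₀ : ∀ n : N, (η₀ : ↥P → ℂ) ⟨(n : G), hNP n.2⟩ = (θ : N → ℂ) n) :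
    ∃ η : Cfsg.IrrCharacter ↥P, (∀ n : N, (η : ↥P → ℂ) ⟨(n : G), hNP n.2⟩ = (θ : N → ℂ) n) ∧
      (∀ y : ↥P, (η : ↥P → ℂ) (y ^ k) = (η : ↥P → ℂ) y) ∧
      ∀ η' : Cfsg.IrrCharacter ↥P,
        Cfsg.classInner (fun n : N => (η' : ↥P → ℂ) ⟨(n : G), hNP n.2⟩) (θ : N → ℂ) ≠ 0 →
        (∀ y : ↥P, (η' : ↥P → ℂ) (y ^ k) = (η' : ↥P → ℂ) y) → η' = η := by
  classical
  haveI : Fintype ↥P := Fintype.ofFinite _
  haveI : Fintype ↥(N.subgroupOf P) := Fintype.ofFinite _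
  obtain ⟨η, h1, h2, h3⟩ := gfo_unique (G := ↥P) (N.subgroupOf P) hidx k
    (gfo_Hyp_subgroup hyp P) (gfo_tr N P hNP θ) (gfo_tr_gal N P hNP θ k hθ) η₀ (by
      intro x
      rw [gfo_tr_apply]
      exact hη₀ ⟨((x : P) : G), Subgroup.mem_subgroupOf.mp x.2⟩)
  refine ⟨η, ?_, h2, ?_⟩
  · intro n
    exact h1 ⟨⟨(n : G), hNP n.2⟩, Subgroup.mem_subgroupOf.mpr n.2⟩
  · intro η' hcon hk
    apply h3 η' _ hk
    rw [gfo_tr_inner]
    exact hcon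

end

end Cfsg.Agent.Lib.Helper26
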