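import Mathlib
import Cfsg.Prelude.Def_Characters
import Cfsg.Agent.Lib.Helper26.GalFixOver4

/-!
Galois-fixed characters over a Galois-fixed character of a normal subgroup of odd index (S4519):
an invariant Galois-fixed character extends when the quotient has odd prime power order.
-/

set_option autoImplicit false
set_option linter.style.haveILetI false
set_option linter.unusedSectionVars false
set_option linter.unusedVariables false

namespace Cfsg.Agent.Lib.Helper26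

open scoped ComplexConjugate
open Cfsg.Agent.Lib.Helper24 Cfsg.Agent.Lib.Helper25 Cfsg.Agent.Lib.Helper11
open Cfsg.Agent.Lib.helper2 Cfsg.Agent.Lib.helper7

section

theorem gfo_ext_ppow {H : Type*} [Group H] [Fintype H] (q : ℕ) [hq : Fact q.Prime] (k : ℕ)
    (hyp : gfo_Hyp H k) :
    ∀ (a : ℕ) (N : Subgroup H) [hN : N.Normal] [Fintype N], Odd N.index → N.index = q ^ a →
      ∀ θ : Cfsg.IrrCharacter N, (∀ n : N, (θ : N → ℂ) (n ^ k) = (θ : N → ℂ) n) →
      (∀ (g : H) (n : N),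
        (θ : N → ℂ) ⟨g * n * g⁻¹, hN.conj_mem (n : H) n.2 g⟩ = (θ : N → ℂ) n) →
      ∃ χ : Cfsg.IrrCharacter H, ∀ n : N, (χ : H → ℂ) n = (θ : N → ℂ) n := by
  classical
  intro a
  induction a with
  | zero =>
    intro N hN _ hodd hidx θ hθ hinv
    rw [pow_zero, Subgroup.index_eq_card] at hidx
    haveI : Subsingleton (H ⧸ N) := (Nat.card_eq_one_iff_unique.mp hidx).1
    have hcyc : IsCyclic (H ⧸ N) := isCyclic_of_subsingleton
    obtain ⟨χ, hχ, hext⟩ := Cfsg.Agent.S0886.result N hcyc (θ : N → ℂ) θ.2 hinv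
    exact ⟨⟨χ, hχ⟩, hext⟩
  | succ a ih =>
    intro N hN _ hodd hidx θ hθ hinv
    have hcardQ : Nat.card (H ⧸ N) = q ^ (a + 1) := by
      rw [← Subgroup.index_eq_card]
      exact hidx
    have hQ : IsPGroup q (H ⧸ N) := IsPGroup.of_card hcardQ
    obtain ⟨B, -, hBn, hBc⟩ := nr_exists_normal_card hQ 1 a (⊤ : Subgroup (H ⧸ N)) (by
      rw [Subgroup.card_top, hcardQ, add_comm])
    haveI := hBn
    obtain ⟨N₁, hN₁⟩ : ∃ N₁ : Subgroup H, N₁ = B.comap (QuotientGroup.mk' N) := ⟨_, rfl⟩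
    have hNN₁ : N ≤ N₁ := by
      intro n hn
      rw [hN₁, Subgroup.mem_comap, QuotientGroup.mk'_apply, (QuotientGroup.eq_one_iff n).mpr hn]
      exact B.one_mem
    haveI hN₁n : N₁.Normal := by
      rw [hN₁]
      infer_instance
    have hBidx : B.index = q ^ a := by
      have h1 := Subgroup.index_mul_card B
      rw [hBc, hcardQ, pow_one, pow_succ] at h1
      exact Nat.eq_of_mul_eq_mul_right hq.out.pos h1
    have hN₁idx : N₁.index = q ^ a := by
      rw [hN₁, Subgroup.index_comap_of_surjective _ (QuotientGroup.mk'_surjective N)]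
      exact hBidx
    have hrel : N.relIndex N₁ = q := by
      have h1 := Subgroup.relIndex_mul_index hNN₁
      rw [hN₁idx, hidx, pow_succ, mul_comm] at h1
      exact Nat.eq_of_mul_eq_mul_left (pow_pos hq.out.pos a) h1
    have hqodd : Odd q := by
      apply Odd.of_dvd_nat hodd
      rw [hidx]
      exact dvd_pow_self q (Nat.succ_ne_zero a)
    have hN₁odd : Odd N₁.index := by
      apply Odd.of_dvd_nat hodd
      rw [hidx, hN₁idx]
      exact pow_dvd_pow q (Nat.le_succ a)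
    haveI : Fintype ↥N₁ := Fintype.ofFinite _
    have hcyc : IsCyclic (↥N₁ ⧸ N.subgroupOf N₁) := by
      apply isCyclic_of_prime_card (p := q)
      rw [← Subgroup.index_eq_card]
      exact hrel
    obtain ⟨η₀f, hη₀irr, hη₀⟩ := Cfsg.Agent.S0886.result (G := ↥N₁) (N.subgroupOf N₁) hcyc
      (gfo_tr N N₁ hNN₁ θ : ↥(N.subgroupOf N₁) → ℂ) (gfo_tr N N₁ hNN₁ θ).2
      (gfo_tr_inv N N₁ hNN₁ θ (fun g _ n => hinv g n))
    obtain ⟨θ₁, hθ₁N, hθ₁k, hθ₁u⟩ := gfo_unique_rel N N₁ hNN₁ (by rw [hrel]; exact hqodd) k hyp θ hθ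
      ⟨η₀f, hη₀irr⟩ (fun n => hη₀ ⟨⟨(n : H), hNN₁ n.2⟩, Subgroup.mem_subgroupOf.mpr n.2⟩)
    have hθ₁inv : ∀ (g : H) (y : N₁),
        (θ₁ : N₁ → ℂ) ⟨g * y * g⁻¹, hN₁n.conj_mem (y : H) y.2 g⟩ = (θ₁ : N₁ → ℂ) y := by
      intro g y
      have hu := hθ₁u (fr_cj N₁ g θ₁) ?_ ?_
      · have h1 := congrFun (congrArg Subtype.val hu) y
        exact h1
      · have h1 : (fun n : N => (fr_cj N₁ g θ₁ : N₁ → ℂ) ⟨(n : H), hNN₁ n.2⟩) = (θ : N → ℂ) := by
          funext n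
          rw [fr_cj_val, cj_apply]
          have h2 := hθ₁N ⟨g * n * g⁻¹, hN.conj_mem (n : H) n.2 g⟩
          rw [← hinv g n, ← h2]
        rw [h1, h7_irr_norm θ.2]
        exact one_ne_zero
      · intro y'
        rw [fr_cj_val, cj_apply, cj_apply]
        have h := hθ₁k ⟨g * y' * g⁻¹, hN₁n.conj_mem (y' : H) y'.2 g⟩
        refine Eq.trans (congrArg (θ₁ : ↥N₁ → ℂ) ?_) h
        apply Subtype.ext
        show g * ((y' ^ k : N₁) : H) * g⁻¹ =
          (((⟨g * y' * g⁻¹, hN₁n.conj_mem (y' : H) y'.2 g⟩ : N₁) ^ k : N₁) : H)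
        rw [Subgroup.coe_pow, Subgroup.coe_pow, conj_pow]
    obtain ⟨χ, hχ⟩ := ih N₁ hN₁odd hN₁idx θ₁ hθ₁k hθ₁inv
    refine ⟨χ, ?_⟩
    intro n
    rw [← hθ₁N n]
    exact hχ ⟨(n : H), hNN₁ n.2⟩

end

end Cfsg.Agent.Lib.Helper26
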