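import Mathlib
import Cfsg.Prelude.Def_Characters
import Cfsg.Agent.Lib.Helper26.GalFixOver5
import Cfsg.Agent.S0888

/-!
Galois-fixed characters over a Galois-fixed character of a normal subgroup of odd index (S4519):
an invariant Galois-fixed character extends, and exactly one Galois-fixed character lies over it.
-/

set_option autoImplicit false
set_option linter.style.haveILetI false
set_option linter.unusedSectionVars false
set_option linter.unusedVariables false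

namespace Cfsg.Agent.Lib.Helper26

open scoped ComplexConjugate
open Cfsg.Agent.Lib.Helper24 Cfsg.Agent.Lib.Helper25 Cfsg.Agent.Lib.Helper11
open Cfsg.Agent.Lib.helper2 Cfsg.Agent.Lib.helper7

section

theorem gfo_ext_odd {H : Type*} [Group H] [Fintype H] (N : Subgroup H) [hN : N.Normal] [Fintype N]
    (hodd : Odd N.index) (k : ℕ) (hyp : gfo_Hyp H k) (θ : Cfsg.IrrCharacter N)
    (hθ : ∀ n : N, (θ : N → ℂ) (n ^ k) = (θ : N → ℂ) n)
    (hinv : ∀ (g : H) (n : N),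
      (θ : N → ℂ) ⟨g * n * g⁻¹, hN.conj_mem (n : H) n.2 g⟩ = (θ : N → ℂ) n) :
    ∃ χ : Cfsg.IrrCharacter H, ∀ n : N, (χ : H → ℂ) n = (θ : N → ℂ) n := by
  classical
  obtain ⟨χ, hχ, hext⟩ := Cfsg.Agent.S0888.result N (θ : N → ℂ) θ.2 hinv (by
    intro p hp
    haveI := Fact.mk hp
    obtain ⟨S⟩ : Nonempty (Sylow p (H ⧸ N)) := inferInstance
    obtain ⟨P, hP⟩ : ∃ P : Subgroup H, P = (S : Subgroup (H ⧸ N)).comap (QuotientGroup.mk' N) :=
      ⟨_, rfl⟩
    have hNP : N ≤ P := by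
      intro n hn
      rw [hP, Subgroup.mem_comap, QuotientGroup.mk'_apply, (QuotientGroup.eq_one_iff n).mpr hn]
      exact (S : Subgroup (H ⧸ N)).one_mem
    have hPidx : P.index = (S : Subgroup (H ⧸ N)).index := by
      rw [hP, Subgroup.index_comap_of_surjective _ (QuotientGroup.mk'_surjective N)]
    have hcop : Nat.Coprime P.index p := by
      rw [hPidx, Nat.coprime_comm, Nat.Prime.coprime_iff_not_dvd hp]
      exact S.not_dvd_index
    obtain ⟨j, hj⟩ := IsPGroup.exists_card_eq S.2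
    have hrel : N.relIndex P = p ^ j := by
      have h1 := Subgroup.relIndex_mul_index hNP
      have h2 := Subgroup.card_mul_index (S : Subgroup (H ⧸ N))
      rw [← Subgroup.index_eq_card, ← hPidx] at h2
      rw [← h2] at h1
      have hpos : 0 < P.index := Nat.pos_of_ne_zero Subgroup.index_ne_zero_of_finite
      have h3 := Nat.eq_of_mul_eq_mul_right hpos h1
      rw [h3]
      exact hj
    have hodd' : Odd (N.subgroupOf P).index := by
      apply Odd.of_dvd_nat hodd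
      exact Dvd.intro _ (Subgroup.relIndex_mul_index hNP)
    haveI : Fintype ↥P := Fintype.ofFinite _
    haveI : Fintype ↥(N.subgroupOf P) := Fintype.ofFinite _
    obtain ⟨η, hη⟩ := gfo_ext_ppow (H := ↥P) p k (gfo_Hyp_subgroup hyp P) j (N.subgroupOf P)
      hodd' hrel (gfo_tr N P hNP θ) (gfo_tr_gal N P hNP θ k hθ)
      (gfo_tr_inv N P hNP θ (fun g _ n => hinv g n))
    exact ⟨P, hNP, (η : ↥P → ℂ), hcop, ⟨j, hrel⟩, η.2, fun n =>
      hη ⟨⟨(n : H), hNP n.2⟩, Subgroup.mem_subgroupOf.mpr n.2⟩⟩)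
  exact ⟨⟨χ, hχ⟩, hext⟩

/-- over an invariant Galois-fixed character of a normal subgroup of odd index there is exactly
one Galois-fixed character, and it is an extension (relative form) -/
theorem gfo_invariant_rel {G : Type*} [Group G] [Fintype G] (N T : Subgroup G) [hN : N.Normal]
    [Fintype N] (hNT : N ≤ T) (hidx : Odd (N.relIndex T)) (k : ℕ) (hyp : gfo_Hyp G k)
    (θ : Cfsg.IrrCharacter N) (hθ : ∀ n : N, (θ : N → ℂ) (n ^ k) = (θ : N → ℂ) n)
    (hinv : ∀ g ∈ T, ∀ n : N,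
      (θ : N → ℂ) ⟨g * n * g⁻¹, hN.conj_mem (n : G) n.2 g⟩ = (θ : N → ℂ) n) :
    ∃ η : Cfsg.IrrCharacter ↥T, (∀ n : N, (η : ↥T → ℂ) ⟨(n : G), hNT n.2⟩ = (θ : N → ℂ) n) ∧
      (∀ y : ↥T, (η : ↥T → ℂ) (y ^ k) = (η : ↥T → ℂ) y) ∧
      ∀ η' : Cfsg.IrrCharacter ↥T,
        Cfsg.classInner (fun n : N => (η' : ↥T → ℂ) ⟨(n : G), hNT n.2⟩) (θ : N → ℂ) ≠ 0 →
        (∀ y : ↥T, (η' : ↥T → ℂ) (y ^ k) = (η' : ↥T → ℂ) y) → η' = η := by
  classical
  haveI : Fintype ↥T := Fintype.ofFinite _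
  haveI : Fintype ↥(N.subgroupOf T) := Fintype.ofFinite _
  obtain ⟨η₀, hη₀⟩ := gfo_ext_odd (H := ↥T) (N.subgroupOf T) hidx k (gfo_Hyp_subgroup hyp T)
    (gfo_tr N T hNT θ) (gfo_tr_gal N T hNT θ k hθ) (gfo_tr_inv N T hNT θ hinv)
  exact gfo_unique_rel N T hNT hidx k hyp θ hθ η₀ (fun n =>
    hη₀ ⟨⟨(n : G), hNT n.2⟩, Subgroup.mem_subgroupOf.mpr n.2⟩)

end

end Cfsg.Agent.Lib.Helper26
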