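import Mathlib
import Cfsg.Prelude.Def_Characters
import Cfsg.Prelude.Def_Blocks
import Cfsg.Agent.Lib.Helper26.GalFixOver6
import Cfsg.Agent.Lib.Helper24.FongReynolds2
import Cfsg.Agent.Lib.helper2.CliffordCorr
import Cfsg.Agent.Lib.helper2.PModular2
import Cfsg.Agent.Lib.helper7.BlockDefect2
import Cfsg.Agent.S0914

/-!
Galois-fixed characters over a Galois-fixed character of a normal subgroup of odd index (S4519):
the Clifford correspondence and the main statement.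
-/

set_option autoImplicit false
set_option linter.style.haveILetI false
set_option linter.unusedSectionVars false
set_option linter.unusedVariables false

namespace Cfsg.Agent.Lib.Helper26

open scoped ComplexConjugate
open Cfsg.Agent.Lib.Helper24 Cfsg.Agent.Lib.Helper25 Cfsg.Agent.Lib.Helper11
open Cfsg.Agent.Lib.helper2 Cfsg.Agent.Lib.helper7

section

variable {G : Type*} [Group G]

/-- induction commutes with Galois conjugation by `g ↦ g ^ k` -/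
theorem gfo_ind_gal [Fintype G] (T : Subgroup G) (k : ℕ) (hk : Nat.Coprime k (Nat.card G))
    (f : T → ℂ) (g : G) :
    Cfsg.indFun T (fun y : T => f (y ^ k)) g = Cfsg.indFun T f (g ^ k) := by
  unfold Cfsg.indFun
  congr 1
  refine Finset.sum_congr rfl fun x _ => ?_
  have e1 : x⁻¹ * g ^ k * x = (x⁻¹ * g * x) ^ k := by
    have := conj_pow (a := x⁻¹) (b := g) (i := k)
    rw [inv_inv] at this
    exact this.symm
  rw [e1]
  generalize x⁻¹ * g * x = z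
  by_cases hz : z ∈ T
  · rw [h7_extendByZero_mem T _ z hz, h7_extendByZero_mem T _ (z ^ k) (T.pow_mem hz k)]
    congr 1
  · have hzk : z ^ k ∉ T := by
      intro h
      apply hz
      have hcop : Nat.Coprime k (orderOf z) :=
        Nat.Coprime.coprime_dvd_right (orderOf_dvd_natCard z) hk
      obtain ⟨m, hm⟩ := exists_pow_eq_self_of_coprime hcop
      rw [← hm]
      exact T.pow_mem h m
    rw [h7_extendByZero_not_mem T _ z hz, h7_extendByZero_not_mem T _ (z ^ k) hzk]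

/-- the main statement of S4519 -/
theorem gfo_main [Fintype G] (N : Subgroup G) [hN : N.Normal] [Fintype N] (hidx : Odd N.index)
    (k : ℕ) (hk : Nat.Coprime k (Nat.card G))
    (hk₂ : ∀ g : G, Odd (orderOf g) → g ^ k = g⁻¹) (θ : Cfsg.IrrCharacter N)
    (hθ : ∀ n : N, (θ : N → ℂ) (n ^ k) = (θ : N → ℂ) n) :
    ∃ χ : Cfsg.IrrCharacter G,
      (Cfsg.classInner (fun n : N => (χ : G → ℂ) n) (θ : N → ℂ) ≠ 0 ∧
        (∀ g : G, (χ : G → ℂ) (g ^ k) = (χ : G → ℂ) g) ∧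
        ((∀ g : G, ∀ n : N,
          (θ : N → ℂ) ⟨g * n * g⁻¹, hN.conj_mem n n.2 g⟩ = (θ : N → ℂ) n) →
          ∀ n : N, (χ : G → ℂ) n = (θ : N → ℂ) n)) ∧
      ∀ χ' : Cfsg.IrrCharacter G,
        Cfsg.classInner (fun n : N => (χ' : G → ℂ) n) (θ : N → ℂ) ≠ 0 →
        (∀ g : G, (χ' : G → ℂ) (g ^ k) = (χ' : G → ℂ) g) → χ' = χ := by
  classical
  have hyp : gfo_Hyp G k := ⟨hk, hk₂⟩
  have hθcl : Cfsg.IsClassFunction N (θ : N → ℂ) := h7_irr_isClassFunction θ.2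
  obtain ⟨T, hTdef⟩ : ∃ T : Subgroup G, T = Cfsg.Agent.Lib.helper2.cjStab N (θ : N → ℂ) := ⟨_, rfl⟩
  have hNT : N ≤ T := by
    rw [hTdef]
    exact Cfsg.Agent.Lib.helper2.le_cjStab N _ hθcl
  have hmemT : ∀ g : G, g ∈ T ↔ cj N (θ : N → ℂ) g = (θ : N → ℂ) := by
    intro g
    rw [hTdef]
    exact Cfsg.Agent.Lib.helper2.mem_cjStab N _ g
  have hinvT : ∀ g ∈ T, ∀ n : N,
      (θ : N → ℂ) ⟨g * n * g⁻¹, hN.conj_mem (n : G) n.2 g⟩ = (θ : N → ℂ) n := by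
    intro g hg n
    have := congrFun ((hmemT g).mp hg) n
    rwa [cj_apply] at this
  have hrelodd : Odd (N.relIndex T) := by
    apply Odd.of_dvd_nat hidx
    exact Dvd.intro _ (Subgroup.relIndex_mul_index hNT)
  haveI : Fintype ↥T := Fintype.ofFinite _
  obtain ⟨ψ, hψN, hψk, hψu⟩ := gfo_invariant_rel N T hNT hrelodd k hyp θ hθ hinvT
  -- a prime not dividing the order of `N`, to use the Fong-Reynolds form of the Clifford
  -- correspondence
  obtain ⟨p, hpge, hp⟩ := Nat.exists_infinite_primes (Nat.card N + 1)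
  haveI := Fact.mk hp
  obtain ⟨M, hM⟩ := exists_isPModular p hp
  have hPr : M.IsPrime := hM.2.1.isPrime
  have hblk : Cfsg.blockOf M (θ : N → ℂ) = {θ} := by
    apply (Cfsg.Agent.S0914.result p M hM θ).mp
    intro hdvd
    obtain ⟨hd1, hd2, -⟩ := h7_charDegree_props θ
    have h1 : Nat.card N / Cfsg.charDegree (θ : N → ℂ) ∣ Nat.card N := Nat.div_dvd_of_dvd hd1
    have h2 := Nat.le_of_dvd Nat.card_pos (dvd_trans hdvd h1)
    omega
  have hb : Cfsg.IsPBlock M ({θ} : Set (Cfsg.IrrCharacter N)) := ⟨θ, hblk.symm⟩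
  have hθb : θ ∈ ({θ} : Set (Cfsg.IrrCharacter N)) := Set.mem_singleton θ
  have hT : ∀ g : G, g ∈ T ↔ ∀ θ₁ ∈ ({θ} : Set (Cfsg.IrrCharacter N)),
      ∀ θ' : Cfsg.IrrCharacter N,
      (∀ n : N, (θ' : N → ℂ) n = (θ₁ : N → ℂ) ⟨g * n * g⁻¹, hN.conj_mem n n.2 g⟩) →
      θ' ∈ ({θ} : Set (Cfsg.IrrCharacter N)) := by
    intro g
    rw [hmemT]
    constructor
    · intro hg θ₁ hθ₁ θ' hθ'
      rw [Set.mem_singleton_iff] at hθ₁ ⊢
      subst hθ₁
      apply Subtype.ext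
      rw [← hg]
      funext n
      rw [cj_apply]
      exact hθ' n
    · intro h
      have h1 := h θ hθb (fr_cj N g θ) (fun n => rfl)
      rw [Set.mem_singleton_iff] at h1
      have h2 := congrArg Subtype.val h1
      exact h2
  have hψcon : Cfsg.classInner (fr_res N T hNT (ψ : ↥T → ℂ)) (θ : N → ℂ) ≠ 0 := by
    have h1 : fr_res N T hNT (ψ : ↥T → ℂ) = (θ : N → ℂ) := funext hψN
    rw [h1, h7_irr_norm θ.2]
    exact one_ne_zero
  have hψone : Cfsg.classInner (fr_res N T hNT (ψ : ↥T → ℂ)) (θ : N → ℂ) = 1 := by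
    have h1 : fr_res N T hNT (ψ : ↥T → ℂ) = (θ : N → ℂ) := funext hψN
    rw [h1, h7_irr_norm θ.2]
  have hχirr := fr_ind_irr hPr N _ hb T hT hNT ψ θ hθb hψcon
  have hL1 := fr_L1 hPr N _ hb T hT hNT ψ θ hθb hψcon
  obtain ⟨χ, hχ⟩ : ∃ χ : Cfsg.IrrCharacter G, (χ : G → ℂ) = Cfsg.indFun T (ψ : ↥T → ℂ) :=
    ⟨⟨_, hχirr⟩, rfl⟩
  have hχover : Cfsg.classInner (fun n : N => (χ : G → ℂ) n) (θ : N → ℂ) ≠ 0 := by
    rw [hχ, hL1]
    exact hψcon
  refine ⟨χ, ⟨hχover, ?_, ?_⟩, ?_⟩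
  · intro g
    rw [hχ, ← gfo_ind_gal T k hk]
    have h1 : (fun y : ↥T => (ψ : ↥T → ℂ) (y ^ k)) = (ψ : ↥T → ℂ) := funext hψk
    rw [h1]
  · intro hinvG n
    obtain ⟨e, he, h1, h2⟩ := h7_clifford_invariant N (χ : G → ℂ) χ.2 (θ : N → ℂ) θ.2 hχover
      (fun g => funext fun n => by rw [cj_apply]; exact hinvG g n)
    have h3 : (e : ℂ) = 1 := by
      rw [← h1, hχ, hL1, hψone]
    have h4 := congrFun h2 n
    rw [h3, one_smul] at h4
    exact h4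
  · intro χ' hcon' hχ'k
    obtain ⟨ψ', hψ'con, hχ'⟩ := fr_ind_surjective hPr N _ hb T hT hNT χ' θ hθb hcon'
    obtain ⟨c, hc, hc1, hc2⟩ := h7_clifford_invariant_le N T hNT (ψ' : ↥T → ℂ) ψ'.2
      (θ : N → ℂ) θ.2 hψ'con hinvT
    have hypT := gfo_Hyp_subgroup hyp T
    obtain ⟨ψ₁, hψ₁⟩ : ∃ ψ₁ : Cfsg.IrrCharacter ↥T, ψ₁ = gfo_gal k hypT.1 ψ' := ⟨_, rfl⟩
    have hψ₁a : ∀ y : ↥T, (ψ₁ : ↥T → ℂ) y = (ψ' : ↥T → ℂ) (y ^ k) := by
      intro y
      rw [hψ₁, gfo_gal_apply]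
    have hψ₁res : fr_res N T hNT (ψ₁ : ↥T → ℂ) = (c : ℂ) • (θ : N → ℂ) := by
      funext n
      rw [fr_res_apply, hψ₁a, Pi.smul_apply, smul_eq_mul, ← hθ n]
      have h1 := congrFun hc2 (n ^ k)
      rw [Pi.smul_apply, smul_eq_mul] at h1
      rw [← h1]
      congr 1
    have hψ₁con : Cfsg.classInner (fr_res N T hNT (ψ₁ : ↥T → ℂ)) (θ : N → ℂ) ≠ 0 := by
      rw [hψ₁res, classInner_smul_left, h7_irr_norm θ.2, mul_one]
      exact_mod_cast hc.ne'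
    have hind : Cfsg.indFun T (ψ₁ : ↥T → ℂ) = Cfsg.indFun T (ψ' : ↥T → ℂ) := by
      funext g
      have h1 : (ψ₁ : ↥T → ℂ) = fun y : ↥T => (ψ' : ↥T → ℂ) (y ^ k) := funext hψ₁a
      rw [h1, gfo_ind_gal T k hk, ← hχ', hχ'k]
    have hψ₁eq : ψ₁ = ψ' :=
      fr_ind_injective hPr N _ hb T hT hNT ψ₁ ψ' θ θ hθb hθb hψ₁con hψ'con hind
    have hψ'k : ∀ y : ↥T, (ψ' : ↥T → ℂ) (y ^ k) = (ψ' : ↥T → ℂ) y := by
      intro y
      rw [← hψ₁a, hψ₁eq]
    have hψ'ψ : ψ' = ψ := hψu ψ' hψ'con hψ'k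
    apply Subtype.ext
    rw [hχ', hχ, hψ'ψ]

end

end Cfsg.Agent.Lib.Helper26
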