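import Cfsg.Agent.Lib.Helper26.AlperinInd

set_option autoImplicit false

namespace Cfsg.Agent.Lib.Helper26

open Cfsg Cfsg.FusionSystem

variable {Ω : Type*} [Group Ω] {S : Subgroup Ω}

/-- a predicate on the maps of `F` cutting out a subsystem -/
structure GoodPred (F : FusionSystem S) where
  Good : (P : Subgroup Ω) → (P →* Ω) → Prop
  conj : ∀ {P : Subgroup Ω} {g : Ω}, P ≤ S → g ∈ S → Good P (conjHom P g)
  comp : ∀ {P Q : Subgroup Ω} {φ : P →* Ω} {ψ : Q →* Ω}, φ ∈ F.Hom P → ψ ∈ F.Hom Q →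
    Good P φ → Good Q ψ → ∀ h : ∀ x : P, φ x ∈ Q, Good P (ψ.comp (φ.codRestrict Q h))
  inv : ∀ {P : Subgroup Ω} {φ : P →* Ω}, φ ∈ F.Hom P → Good P φ → ∀ ψ ∈ F.Hom φ.range,
    (∀ x : P, ψ ⟨φ x, ⟨x, rfl⟩⟩ = (x : Ω)) → Good φ.range ψ

/-- the subsystem of good maps -/
def GoodPred.system {F : FusionSystem S} (G : GoodPred F) : FusionSystem S where
  Hom P := {φ | φ ∈ F.Hom P ∧ G.Good P φ}
  le_of_mem h := F.le_of_mem h.1
  injective_of_mem h := F.injective_of_mem h.1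
  conj_mem hP hg := ⟨F.conj_mem hP hg, G.conj hP hg⟩
  comp_mem h1 h2 h := ⟨F.comp_mem h1.1 h2.1 h, G.comp h1.1 h2.1 h1.2 h2.2 h⟩
  inv_mem := by
    intro P φ h
    obtain ⟨ψ, hψ, hψx⟩ := F.inv_mem h.1
    exact ⟨ψ, ⟨hψ, G.inv h.1 h.2 ψ hψ hψx⟩, hψx⟩

theorem GoodPred.mem_system_iff {F : FusionSystem S} (G : GoodPred F) {P : Subgroup Ω} {φ : P →* Ω} :
    φ ∈ G.system.Hom P ↔ φ ∈ F.Hom P ∧ G.Good P φ := Iff.rfl

theorem GoodPred.system_le {F : FusionSystem S} (G : GoodPred F) : G.system ≤ F :=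
  fun _ _ h => h.1

/-- all maps are good, provided the automorphisms are (under the Alperin induction) -/
theorem GoodPred.forall_good [Finite S] {p : ℕ} [Fact p.Prime] (hS : IsPGroup p S)
    {F : FusionSystem S} (hF : F.IsSaturated p) (G : GoodPred F)
    (htop : ∀ α ∈ F.autGroup S, G.Good S (S.subtype.comp α.toMonoidHom))
    (hstep : ∀ P : Subgroup Ω, F.IsFullyNormalized P → P ≠ S →
      (∀ Q : Subgroup Ω, Q ≤ S → Nat.card P < Nat.card Q → F.Hom Q ⊆ G.system.Hom Q) →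
      F.autGroup P ≤ G.system.autGroup P)
    {P : Subgroup Ω} {φ : P →* Ω} (hφ : φ ∈ F.Hom P) : G.Good P φ := by
  have hle : F ≤ G.system := by
    refine alperin_induction p hS F hF G.system ?_ hstep
    intro α hα
    rw [mem_autGroup_iff _ le_rfl]
    exact ⟨(mem_autGroup_iff F le_rfl).mp hα, htop α hα⟩
  exact (hle P hφ).2

end Cfsg.Agent.Lib.Helper26
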