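import Mathlib
import Cfsg.Prelude.Def_Blocks
import Cfsg.Prelude.Def_Local
import Cfsg.Prelude.Def_BlockLocal
import Cfsg.Agent.Lib.Helper26.Knorr5

/-!
Knörr's theorem in the form of S4438: `P ∩ N = Q` for a prescribed defect group `Q` of the covered
block.
-/

set_option autoImplicit false
set_option linter.style.haveILetI false
set_option linter.unusedSectionVars false
set_option linter.unusedVariables false

namespace Cfsg.Agent.Lib.Helper26

open scoped ComplexConjugate Pointwise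
open Cfsg.Agent.Lib.Helper24 Cfsg.Agent.Lib.Helper25 Cfsg.Agent.Lib.Helper11
open Cfsg.Agent.Lib.helper2 Cfsg.Agent.Lib.helper7

section

variable {G : Type*} [Group G]

theorem kn_main [Fintype G] (p : ℕ) [hp : Fact p.Prime] (M : Ideal Cfsg.AlgInt)
    (hM : Cfsg.IsPModular p M) (N : Subgroup G) [hN : N.Normal] [Fintype N]
    (b : Set (Cfsg.IrrCharacter N)) (hb : Cfsg.IsPBlock M b) (Q : Subgroup G) (hQN : Q ≤ N)
    (hQ : Cfsg.IsDefectGroup p M b (Q.subgroupOf N))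
    (B : Set (Cfsg.IrrCharacter G)) (hB : Cfsg.IsPBlock M B)
    (hcov : ∃ χ ∈ B, ∃ θ ∈ b, Cfsg.classInner (fun n : N => (χ : G → ℂ) n) (θ : N → ℂ) ≠ 0) :
    ∃ P : Subgroup G, Cfsg.IsDefectGroup p M B P ∧ P ⊓ N = Q := by
  classical
  obtain ⟨P₀, hP₀, hR, -⟩ := kn_general p M hM N b hb B hB hcov
  obtain ⟨n, hn⟩ := qh_defect_conj p M hM b hb _ _ hR hQ
  refine ⟨P₀.map (MulAut.conj (n : G)).toMonoidHom, h7_isDefectGroup_conj p M B P₀ hP₀ (n : G), ?_⟩
  ext y
  rw [Subgroup.mem_inf]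
  constructor
  · rintro ⟨⟨z, hz, rfl⟩, hyN⟩
    have hzN : z ∈ N := by
      have h1 : (MulAut.conj (n : G)).toMonoidHom z = (n : G) * z * (n : G)⁻¹ := rfl
      rw [h1] at hyN
      have h2 := hN.conj_mem _ hyN (n : G)⁻¹
      have e : (n : G)⁻¹ * ((n : G) * z * (n : G)⁻¹) * (n : G)⁻¹⁻¹ = z := by group
      rw [e] at h2
      exact h2
    have hmem : (⟨(MulAut.conj (n : G)).toMonoidHom z, hyN⟩ : N) ∈ Q.subgroupOf N := by
      rw [hn]
      refine ⟨⟨z, hzN⟩, ?_, ?_⟩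
      · rw [SetLike.mem_coe, Subgroup.mem_subgroupOf, Subgroup.mem_inf]
        exact ⟨hz, hzN⟩
      · apply Subtype.ext
        rfl
    exact Subgroup.mem_subgroupOf.mp hmem
  · intro hy
    have hyN : y ∈ N := hQN hy
    have hmem : (⟨y, hyN⟩ : N) ∈ Q.subgroupOf N := Subgroup.mem_subgroupOf.mpr hy
    rw [hn] at hmem
    obtain ⟨d, hd, hdy⟩ := hmem
    rw [SetLike.mem_coe, Subgroup.mem_subgroupOf, Subgroup.mem_inf] at hd
    refine ⟨⟨(d : G), hd.1, ?_⟩, hyN⟩
    have := congrArg (Subtype.val : N → G) hdy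
    exact this

end

end Cfsg.Agent.Lib.Helper26
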