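import Mathlib
import Cfsg.Prelude.Def_Blocks
import Cfsg.Prelude.Def_Local
import Cfsg.Prelude.Def_BlockLocal
import Cfsg.Agent.Lib.Helper26.Knorr6
import Cfsg.Agent.Lib.Helper26.DeficiencyClass

/-!
Towards the Harris–Knörr correspondence (S4674): transport of block induction along group
isomorphisms, and the comparison of induction "inside a subgroup" with induction in that subgroup
viewed as a group.
-/

set_option autoImplicit false
set_option linter.style.haveILetI false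
set_option linter.unusedSectionVars false
set_option linter.unusedVariables false

namespace Cfsg.Agent.Lib.Helper26

open scoped ComplexConjugate Pointwise
open Cfsg.Agent.Lib.Helper24 Cfsg.Agent.Lib.Helper25 Cfsg.Agent.Lib.Helper11
open Cfsg.Agent.Lib.helper2 Cfsg.Agent.Lib.helper7

section

/-- the induced central character is compatible with group isomorphisms -/
theorem hkn_icc_tr {X Y : Type*} [Group X] [Group Y] (κ : X ≃* Y) (K : Subgroup X)
    (K' : Subgroup Y) (κK : ↥K ≃* ↥K') (hκ : ∀ k : K, ((κK k : K') : Y) = κ (k : X))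
    (ξ : K' → ℂ) (x : X) :
    Cfsg.inducedCentralChar K (fun k => ξ (κK k)) x = Cfsg.inducedCentralChar K' ξ (κ x) := by
  unfold Cfsg.inducedCentralChar
  have h1 : ∀ k : K, ξ (κK k) / ξ (κK 1) = (fun k' : K' => ξ k' / ξ 1) (κK k) := by
    intro k
    rw [map_one]
  simp only [h1]
  symm
  apply finsum_mem_eq_of_bijOn (fun k' : K' => κK.symm k')
  · refine ⟨?_, ?_, ?_⟩
    · intro k' hk'
      rw [Set.mem_ofPred_eq] at hk' ⊢
      have h2 := hκ (κK.symm k')
      rw [MulEquiv.apply_symm_apply] at h2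
      have h3 : IsConj (κ.symm (κ x)) (κ.symm (k' : Y)) :=
        (κ.symm.toMonoidHom).map_isConj hk'
      rw [MulEquiv.symm_apply_apply, h2, MulEquiv.symm_apply_apply] at h3
      exact h3
    · intro a _ b _ hab
      exact κK.symm.injective hab
    · intro k hk
      rw [Set.mem_ofPred_eq] at hk
      refine ⟨κK k, ?_, κK.symm_apply_apply k⟩
      rw [Set.mem_ofPred_eq, hκ]
      exact (κ.toMonoidHom).map_isConj hk
  · intro k' _
    show ξ k' / ξ 1 = ξ (κK (κK.symm k')) / ξ 1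
    rw [MulEquiv.apply_symm_apply]

/-- block induction is compatible with group isomorphisms -/
theorem hkn_induced_tr {X Y : Type*} [Group X] [Group Y] [Finite X] [Finite Y]
    {M : Ideal Cfsg.AlgInt} (κ : X ≃* Y) (K : Subgroup X)
    (K' : Subgroup Y) (κK : ↥K ≃* ↥K') (hκ : ∀ k : K, ((κK k : K') : Y) = κ (k : X))
    (b : Set (Cfsg.IrrCharacter K')) (B : Set (Cfsg.IrrCharacter Y))
    (h : Cfsg.IsInducedBlock M K' b B) :
    Cfsg.IsInducedBlock M K (bt_trb κK b) (bt_trb κ B) := by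
  obtain ⟨hb, hB, hc⟩ := h
  refine ⟨bt_trb_isPBlock κK b hb, bt_trb_isPBlock κ B hB, ?_⟩
  intro ξ' hξ' χ' hχ' x
  have h1 := hc (ef_tr κK.symm ξ') hξ' (ef_tr κ.symm χ') hχ' (κ x)
  have h2 : (ξ' : K → ℂ) = fun k => (ef_tr κK.symm ξ' : K' → ℂ) (κK k) := by
    funext k
    rw [ef_tr_apply, MulEquiv.symm_apply_apply]
  have h3 : (χ' : X → ℂ) = fun a => (ef_tr κ.symm χ' : Y → ℂ) (κ a) := by
    funext a
    rw [ef_tr_apply, MulEquiv.symm_apply_apply]
  rw [h2, h3, hkn_icc_tr κ K K' κK hκ, bm_centralChar_comp_equiv κ]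
  exact h1

/-- induction inside a subgroup `N`, expressed in the group `↥N` -/
theorem hkn_iccIn_eq {G : Type*} [Group G] (N L : Subgroup G) (L₂ : Subgroup ↥N)
    (φ : ↥L₂ ≃* ↥L) (hφ : ∀ k : L₂, ((φ k : L) : G) = ((k : N) : G)) (ξ : L → ℂ) (n : N) :
    Cfsg.inducedCentralCharIn N L ξ (n : G) =
      Cfsg.inducedCentralChar L₂ (fun k => ξ (φ k)) n := by
  unfold Cfsg.inducedCentralCharIn Cfsg.inducedCentralChar
  have h1 : ∀ k : L₂, ξ (φ k) / ξ (φ 1) = (fun k' : L => ξ k' / ξ 1) (φ k) := by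
    intro k
    rw [map_one]
  simp only [h1]
  apply finsum_mem_eq_of_bijOn (fun k' : L => φ.symm k')
  · refine ⟨?_, ?_, ?_⟩
    · rintro k' ⟨x, hx⟩
      rw [Set.mem_ofPred_eq, isConj_iff]
      have h2 := hφ (φ.symm k')
      rw [MulEquiv.apply_symm_apply] at h2
      refine ⟨x⁻¹, ?_⟩
      apply Subtype.ext
      push_cast
      rw [← h2, ← hx]
      group
    · intro a _ b _ hab
      exact φ.symm.injective hab
    · intro k hk
      rw [Set.mem_ofPred_eq, isConj_iff] at hk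
      obtain ⟨c, hc⟩ := hk
      refine ⟨φ k, ⟨c⁻¹, ?_⟩, φ.symm_apply_apply k⟩
      rw [hφ k, ← hc]
      push_cast
      group
  · intro k' _
    show ξ k' / ξ 1 = ξ (φ (φ.symm k')) / ξ 1
    rw [MulEquiv.apply_symm_apply]

theorem hkn_in_iff {G : Type*} [Group G] {M : Ideal Cfsg.AlgInt} (N L : Subgroup G)
    (L₂ : Subgroup ↥N) (φ : ↥L₂ ≃* ↥L) (hφ : ∀ k : L₂, ((φ k : L) : G) = ((k : N) : G))
    [Finite L] [Finite L₂]
    (e : Set (Cfsg.IrrCharacter L)) (d : Set (Cfsg.IrrCharacter N)) :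
    Cfsg.IsInducedBlockIn M N L e d ↔ Cfsg.IsInducedBlock M L₂ (bt_trb φ e) d := by
  constructor
  · rintro ⟨he, hd, hc⟩
    refine ⟨bt_trb_isPBlock φ e he, hd, ?_⟩
    intro ξ' hξ' θ hθ n
    have h1 := hc (ef_tr φ.symm ξ') hξ' θ hθ n
    rw [hkn_iccIn_eq N L L₂ φ hφ] at h1
    have h2 : (ξ' : L₂ → ℂ) = fun k => (ef_tr φ.symm ξ' : L → ℂ) (φ k) := by
      funext k
      rw [ef_tr_apply, MulEquiv.symm_apply_apply]
    rw [h2]
    exact h1
  · rintro ⟨he, hd, hc⟩
    have he' : Cfsg.IsPBlock M e := by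
      have := bt_trb_isPBlock φ.symm _ he
      have h2 : bt_trb φ.symm (bt_trb φ e) = e := by
        ext ξ
        rw [bt_mem_trb', bt_mem_trb', MulEquiv.symm_symm, bt_tr_symm_tr]
      rw [h2] at this
      exact this
    refine ⟨he', hd, ?_⟩
    intro ξ hξ θ hθ n
    have h1 := hc (ef_tr φ ξ) ((bt_mem_trb φ e ξ).mpr hξ) θ hθ n
    rw [hkn_iccIn_eq N L L₂ φ hφ]
    exact h1

end

end Cfsg.Agent.Lib.Helper26
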