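import Mathlib
import Cfsg.Prelude.Def_Blocks
import Cfsg.Prelude.Def_Local
import Cfsg.Prelude.Def_BlockLocal
import Cfsg.Agent.Lib.Helper26.HarrisKnorr1
import Cfsg.Agent.Lib.Helper25.HeightZeroInd
import Cfsg.Agent.S0963
import Cfsg.Agent.S0965

/-!
Towards the Harris–Knörr correspondence (S4674): if the block `c` of `H` covers the block `e₁`
of `H ∩ N`, `c` induces `B` and `e₁` induces `d₁` inside `N`, then `B` covers `d₁`.
-/

set_option autoImplicit false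
set_option linter.style.haveILetI false
set_option linter.unusedSectionVars false
set_option linter.unusedVariables false

namespace Cfsg.Agent.Lib.Helper26

open scoped ComplexConjugate Pointwise
open Cfsg.Agent.Lib.Helper24 Cfsg.Agent.Lib.Helper25 Cfsg.Agent.Lib.Helper11
open Cfsg.Agent.Lib.helper2 Cfsg.Agent.Lib.helper7

section

variable {G : Type*} [Group G]

/-- the indicator function of the conjugacy class of `x` -/
noncomputable def hkn_ind (x : G) : G → ℂ := by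
  classical
  exact fun g => if IsConj x g then 1 else 0

theorem hkn_ind_apply (x g : G) [Decidable (IsConj x g)] :
    hkn_ind x g = if IsConj x g then 1 else 0 := by
  unfold hkn_ind
  congr

theorem hkn_ind_conj (x g h : G) : hkn_ind x (h * g * h⁻¹) = hkn_ind x g := by
  classical
  rw [hkn_ind_apply, hkn_ind_apply]
  have : IsConj x (h * g * h⁻¹) ↔ IsConj x g := by
    constructor
    · intro h1
      exact h1.trans (isConj_iff.mpr ⟨h⁻¹, by group⟩)
    · intro h1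
      exact h1.trans (isConj_iff.mpr ⟨h, rfl⟩)
  simp only [this]

theorem hkn_ind_memLocalRing {M : Ideal Cfsg.AlgInt} (hPr : M.IsPrime) (x g : G) :
    Cfsg.MemLocalRing M (hkn_ind x g) := by
  classical
  rw [hkn_ind_apply]
  split_ifs
  · have := h7_memLocalRing_of_algInt hPr (1 : Cfsg.AlgInt)
    simpa using this
  · have := h7_memLocalRing_of_algInt hPr (0 : Cfsg.AlgInt)
    simpa using this

/-- the induced central character as a value of `bm_omega` -/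
theorem hkn_icc_eq_omega (K : Subgroup G) [Fintype K] (ξ : K → ℂ) (x : G) :
    Cfsg.inducedCentralChar K ξ x = bm_omega (fun k : K => hkn_ind x (k : G)) ξ := by
  classical
  unfold Cfsg.inducedCentralChar bm_omega
  rw [finsum_mem_def, finsum_eq_sum_of_fintype]
  refine Finset.sum_congr rfl fun k _ => ?_
  rw [Set.indicator_apply]
  show _ = hkn_ind x (k : G) * ξ k / ξ 1
  rw [hkn_ind_apply]
  by_cases h : IsConj x (k : G)
  · rw [if_pos h, if_pos (by exact h), one_mul]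
  · rw [if_neg h, if_neg (by exact h), zero_mul, zero_div]

/-- `bm_omega` is compatible with isomorphisms -/
theorem hkn_omega_tr {A B' : Type*} [Group A] [Group B'] [Fintype A] [Fintype B'] (φ : A ≃* B')
    (β : B' → ℂ) (ξ : B' → ℂ) :
    bm_omega (fun a => β (φ a)) (fun a => ξ (φ a)) = bm_omega β ξ := by
  unfold bm_omega
  refine Fintype.sum_equiv φ.toEquiv _ _ (fun a => ?_)
  show β (φ a) * ξ (φ a) / ξ (φ 1) = β (φ a) * ξ (φ a) / ξ 1
  rw [map_one]


/-- Clifford: the central character of `ψ` on class functions supported on the normal subgroup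
`K` is that of any constituent of `ψ` restricted to `K` -/
theorem hkn_omega_clifford {X : Type*} [Group X] [Fintype X] (K : Subgroup X) [hK : K.Normal]
    [Fintype K] (ψ : Cfsg.IrrCharacter X) (ξ : Cfsg.IrrCharacter K)
    (hcon : Cfsg.classInner (fun k : K => (ψ : X → ℂ) k) (ξ : K → ℂ) ≠ 0)
    (β : X → ℂ) (hβ : ∀ g h : X, β (h * g * h⁻¹) = β g) (hsupp : ∀ x : X, x ∉ K → β x = 0) :
    bm_omega β (ψ : X → ℂ) = bm_omega (fun k : K => β (k : X)) (ξ : K → ℂ) := by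
  classical
  rw [← hi_omega_indFun K β hβ (ξ : K → ℂ)]
  unfold bm_omega
  refine Finset.sum_congr rfl fun x _ => ?_
  by_cases hx : x ∈ K
  · have h1 := Cfsg.Agent.S0963.forward K ψ.1 ψ.2 ξ.1 ξ.2 hcon ⟨x, hx⟩
    unfold Cfsg.centralChar at h1
    have hidx : ((Subgroup.centralizer ({x} : Set X)).index : ℂ) ≠ 0 := by
      have : (Subgroup.centralizer ({x} : Set X)).index ≠ 0 := Subgroup.index_ne_zero_of_finite
      exact_mod_cast this
    have h2 : (ψ : X → ℂ) x / (ψ : X → ℂ) 1 =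
        Cfsg.indFun K (ξ : K → ℂ) x / Cfsg.indFun K (ξ : K → ℂ) 1 := by
      have h3 : ((Subgroup.centralizer ({x} : Set X)).index : ℂ) *
          ((ψ : X → ℂ) x / (ψ : X → ℂ) 1) =
          ((Subgroup.centralizer ({x} : Set X)).index : ℂ) *
          (Cfsg.indFun K (ξ : K → ℂ) x / Cfsg.indFun K (ξ : K → ℂ) 1) := by
        rw [← mul_div_assoc, ← mul_div_assoc]
        exact h1
      exact mul_left_cancel₀ hidx h3
    rw [mul_div_assoc, mul_div_assoc, h2]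
  · rw [hsupp x hx, zero_mul, zero_mul, zero_div, zero_div]


/-- if `c` covers `e₁`, `c` induces `B` and `e₁` induces `d₁` inside `N`, then `B` covers `d₁` -/
theorem hkn_claimA [Fintype G] (p : ℕ) [hp : Fact p.Prime] (M : Ideal Cfsg.AlgInt)
    (hM : Cfsg.IsPModular p M) (N : Subgroup G) [hN : N.Normal] [Fintype N] (H : Subgroup G)
    [Fintype H] [Fintype ↥(H ⊓ N)]
    (c : Set (Cfsg.IrrCharacter H)) (e₁ : Set (Cfsg.IrrCharacter ↥(H ⊓ N)))
    (d₁ : Set (Cfsg.IrrCharacter N)) (B : Set (Cfsg.IrrCharacter G))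
    (hcov : ∃ ψ ∈ c, ∃ ξ ∈ e₁, Cfsg.classInner
      (fun l : ↥(H ⊓ N) => (ψ : H → ℂ) ⟨(l : G), (inf_le_left : H ⊓ N ≤ H) l.2⟩) (ξ : ↥(H ⊓ N) → ℂ) ≠ 0)
    (hind : Cfsg.IsInducedBlock M H c B) (hed : Cfsg.IsInducedBlockIn M N (H ⊓ N) e₁ d₁) :
    ∃ χ ∈ B, ∃ θ ∈ d₁, Cfsg.classInner (fun n : N => (χ : G → ℂ) n) (θ : N → ℂ) ≠ 0 := by
  classical
  have hPr := hM.2.1.isPrime
  obtain ⟨ψ, hψ, ξ, hξ, hcon⟩ := hcov
  apply (Cfsg.Agent.S0965.result p M hM N B hind.2.1 d₁ hed.2.1).mpr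
  intro χ hχ θ hθ n
  set β : G → ℂ := hkn_ind (n : G) with hβdef
  have hβ : ∀ g h : G, β (h * g * h⁻¹) = β g := fun g h => hkn_ind_conj _ g h
  have hβN : ∀ g : G, g ∉ N → β g = 0 := by
    intro g hg
    rw [hβdef, hkn_ind_apply, if_neg]
    intro hc
    obtain ⟨c', hc'⟩ := isConj_iff.mp hc
    apply hg
    rw [← hc']
    exact hN.conj_mem _ n.2 c'
  have h1 := hind.2.2 ψ hψ χ hχ (n : G)
  rw [hkn_icc_eq_omega H] at h1
  -- inside `H`
  haveI : Fintype ↥((H ⊓ N).subgroupOf H) := Fintype.ofFinite _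
  haveI hKn : ((H ⊓ N).subgroupOf H).Normal := by
    rw [Subgroup.inf_subgroupOf_left]
    infer_instance
  set φ' : ↥((H ⊓ N).subgroupOf H) ≃* ↥(H ⊓ N) :=
    Subgroup.subgroupOfEquivOfLe (inf_le_left : H ⊓ N ≤ H) with hφ'
  have hcon' : Cfsg.classInner (fun k : ↥((H ⊓ N).subgroupOf H) => (ψ : H → ℂ) k)
      (ef_tr φ' ξ : ↥((H ⊓ N).subgroupOf H) → ℂ) ≠ 0 := by
    have h2 := h7_classInner_comp_equiv φ'
      (fun l : ↥(H ⊓ N) => (ψ : H → ℂ) ⟨(l : G), (inf_le_left : H ⊓ N ≤ H) l.2⟩) (ξ : ↥(H ⊓ N) → ℂ)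
    have h3 : (fun a : ↥((H ⊓ N).subgroupOf H) =>
        (fun l : ↥(H ⊓ N) => (ψ : H → ℂ) ⟨(l : G), (inf_le_left : H ⊓ N ≤ H) l.2⟩) (φ' a)) =
        fun k : ↥((H ⊓ N).subgroupOf H) => (ψ : H → ℂ) k := by
      funext a
      rfl
    rw [h3] at h2
    have h4 : (fun a : ↥((H ⊓ N).subgroupOf H) => (ξ : ↥(H ⊓ N) → ℂ) (φ' a)) =
        (ef_tr φ' ξ : ↥((H ⊓ N).subgroupOf H) → ℂ) := rfl
    rw [h4] at h2
    rw [h2]
    exact hcon
  have hβH : ∀ g h : H, (fun x : H => β (x : G)) (h * g * h⁻¹) = (fun x : H => β (x : G)) g := by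
    intro g h
    show β ((h * g * h⁻¹ : H) : G) = β (g : G)
    push_cast
    exact hβ _ _
  have hsupp : ∀ x : H, x ∉ (H ⊓ N).subgroupOf H → (fun x : H => β (x : G)) x = 0 := by
    intro x hx
    apply hβN
    intro hxN
    apply hx
    rw [Subgroup.mem_subgroupOf, Subgroup.mem_inf]
    exact ⟨x.2, hxN⟩
  have h5 := hkn_omega_clifford ((H ⊓ N).subgroupOf H) ψ (ef_tr φ' ξ) hcon'
    (fun x : H => β (x : G)) hβH hsupp
  have h6 : bm_omega (fun k : ↥((H ⊓ N).subgroupOf H) => (fun x : H => β (x : G)) (k : H))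
      (ef_tr φ' ξ : ↥((H ⊓ N).subgroupOf H) → ℂ) =
      bm_omega (fun l : ↥(H ⊓ N) => β (l : G)) (ξ : ↥(H ⊓ N) → ℂ) :=
    hkn_omega_tr φ' (fun l : ↥(H ⊓ N) => β (l : G)) (ξ : ↥(H ⊓ N) → ℂ)
  rw [h5, h6] at h1
  -- inside `N`
  haveI : Fintype ↥((H ⊓ N).subgroupOf N) := Fintype.ofFinite _
  set φ : ↥((H ⊓ N).subgroupOf N) ≃* ↥(H ⊓ N) :=
    Subgroup.subgroupOfEquivOfLe (inf_le_right : H ⊓ N ≤ N) with hφ
  have hed' := (hkn_in_iff N (H ⊓ N) ((H ⊓ N).subgroupOf N) φ (fun _ => rfl) e₁ d₁).mp hed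
  have hβN' : ∀ g h : N, (fun x : N => β (x : G)) (h * g * h⁻¹) = (fun x : N => β (x : G)) g := by
    intro g h
    show β ((h * g * h⁻¹ : N) : G) = β (g : G)
    push_cast
    exact hβ _ _
  have h7 := hi_congr hPr ((H ⊓ N).subgroupOf N) (bt_trb φ e₁) d₁ hed'
    (fun x : N => β (x : G)) hβN' (fun g => hkn_ind_memLocalRing hPr _ _) (ef_tr φ ξ)
    ((bt_mem_trb φ e₁ ξ).mpr hξ) θ hθ
  rw [hi_omega_indFun ((H ⊓ N).subgroupOf N) (fun x : N => β (x : G)) hβN'] at h7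
  have h8 : bm_omega (fun k : ↥((H ⊓ N).subgroupOf N) => (fun x : N => β (x : G)) (k : N))
      (ef_tr φ ξ : ↥((H ⊓ N).subgroupOf N) → ℂ) =
      bm_omega (fun l : ↥(H ⊓ N) => β (l : G)) (ξ : ↥(H ⊓ N) → ℂ) :=
    hkn_omega_tr φ (fun l : ↥(H ⊓ N) => β (l : G)) (ξ : ↥(H ⊓ N) → ℂ)
  rw [h8, ← hkn_icc_eq_omega N (θ : N → ℂ) (n : G)] at h7
  have h9 := h7_memLocalIdeal_add hPr (h7_memLocalIdeal_neg h1) h7
  have e : -(bm_omega (fun l : ↥(H ⊓ N) => β (l : G)) (ξ : ↥(H ⊓ N) → ℂ) -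
      Cfsg.centralChar (χ : G → ℂ) (n : G)) +
      (bm_omega (fun l : ↥(H ⊓ N) => β (l : G)) (ξ : ↥(H ⊓ N) → ℂ) -
        Cfsg.inducedCentralChar N (θ : N → ℂ) (n : G)) =
      Cfsg.centralChar (χ : G → ℂ) (n : G) - Cfsg.inducedCentralChar N (θ : N → ℂ) (n : G) := by
    ring
  rw [e] at h9
  exact h9

end

end Cfsg.Agent.Lib.Helper26
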