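import Mathlib
import Cfsg.Prelude.Def_Blocks
import Cfsg.Prelude.Def_Local
import Cfsg.Prelude.Def_BlockLocal
import Cfsg.Agent.Lib.Helper26.HarrisKnorr2
import Cfsg.Agent.S0920

/-!
Towards the Harris–Knörr correspondence (S4674): defect groups of blocks of `N_X(Q)` inducing a
block of defect `|Q|`, the identification of `N_N(Q)` inside `↥N` with `N_G(Q) ⊓ N`, and the
first half of the correspondence.
-/

set_option autoImplicit false
set_option linter.style.haveILetI false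
set_option linter.unusedSectionVars false
set_option linter.unusedVariables false

namespace Cfsg.Agent.Lib.Helper26

open scoped ComplexConjugate Pointwise
open Cfsg.Agent.Lib.Helper24 Cfsg.Agent.Lib.Helper25 Cfsg.Agent.Lib.Helper11
open Cfsg.Agent.Lib.helper2 Cfsg.Agent.Lib.helper7

section

/-- a block of `N_X(Q)` inducing a block whose defect groups have the order of `Q` has defect
group `Q`, and so has the induced block -/
theorem hkn_defect_normalizer {X : Type*} [Group X] [Finite X] (p : ℕ) [hp : Fact p.Prime]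
    (M : Ideal Cfsg.AlgInt) (hM : Cfsg.IsPModular p M) (Q' : Subgroup X) (hQ' : IsPGroup p Q')
    (e₁ : Set (Cfsg.IrrCharacter ↥(Subgroup.normalizer (Q' : Set X))))
    (d₁ : Set (Cfsg.IrrCharacter X))
    (hind : Cfsg.IsInducedBlock M (Subgroup.normalizer (Q' : Set X)) e₁ d₁)
    (hcard : Nat.card Q' = p ^ Cfsg.blockDefect p d₁) :
    Cfsg.IsDefectGroup p M e₁ (Q'.subgroupOf (Subgroup.normalizer (Q' : Set X))) ∧
      Cfsg.IsDefectGroup p M d₁ Q' := by
  classical
  obtain ⟨g, hg⟩ := Cfsg.Agent.S0906.result p M hM e₁ hind.1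
  obtain ⟨S⟩ := (inferInstance : Nonempty (Sylow p (Subgroup.centralizer ({g} : Set ↥(Subgroup.normalizer (Q' : Set X))))))
  have hD₁ : Cfsg.IsDefectGroup p M e₁ ((S : Subgroup (Subgroup.centralizer ({g} : Set ↥(Subgroup.normalizer (Q' : Set X))))).map
      (Subgroup.centralizer ({g} : Set ↥(Subgroup.normalizer (Q' : Set X)))).subtype) := ⟨g, hg, S, rfl⟩
  set D₁ := (S : Subgroup (Subgroup.centralizer ({g} : Set ↥(Subgroup.normalizer (Q' : Set X))))).map
      (Subgroup.centralizer ({g} : Set ↥(Subgroup.normalizer (Q' : Set X)))).subtype with hD₁def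
  have hcore := Cfsg.Agent.S0912.result p M hM e₁ hind.1 D₁ hD₁
  have hQ''n : (Q'.subgroupOf (Subgroup.normalizer (Q' : Set X))).Normal := Subgroup.normal_in_normalizer
  have hQ''p : IsPGroup p ↥(Q'.subgroupOf (Subgroup.normalizer (Q' : Set X))) := hQ'.comap_subtype
  have hQ''le : Q'.subgroupOf (Subgroup.normalizer (Q' : Set X)) ≤ D₁ := by
    refine le_trans ?_ hcore
    unfold Cfsg.pCore
    exact le_sSup ⟨hQ''n, hQ''p⟩
  obtain ⟨E, hE, hDE⟩ := Cfsg.Agent.S0917.result p M hM (Subgroup.normalizer (Q' : Set X)) e₁ hind.1 d₁ hind.2.1 hind D₁ hD₁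
  have hEcard := Cfsg.Agent.S0908.result p M hM d₁ hind.2.1 E hE
  have hQL : Q' ≤ (Subgroup.normalizer (Q' : Set X)) := Subgroup.le_normalizer
  have h1 : Q' ≤ D₁.map (Subgroup.normalizer (Q' : Set X)).subtype := by
    have h0 := Subgroup.map_mono (f := (Subgroup.normalizer (Q' : Set X)).subtype) hQ''le
    rw [Subgroup.map_subgroupOf_eq_of_le hQL] at h0
    exact h0
  have h2 : Q' ≤ E := h1.trans hDE
  have h3 : Q' = E := Subgroup.eq_of_le_of_card_ge h2 (by rw [hEcard, hcard])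
  refine ⟨?_, h3 ▸ hE⟩
  have h4 : D₁.map (Subgroup.normalizer (Q' : Set X)).subtype = Q' := le_antisymm (h3 ▸ hDE) h1
  have h5 : D₁ = Q'.subgroupOf (Subgroup.normalizer (Q' : Set X)) := by
    rw [← Subgroup.comap_map_eq_self_of_injective (Subgroup.normalizer (Q' : Set X)).subtype_injective D₁, h4]
    rfl
  rw [← h5]
  exact hD₁

variable {G : Type*} [Group G]

theorem hkn_mem_normalizer_iff (N Q : Subgroup G) (hQN : Q ≤ N) (x : N) :
    x ∈ Subgroup.normalizer ((Q.subgroupOf N : Subgroup N) : Set N) ↔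
      (x : G) ∈ Subgroup.normalizer (Q : Set G) := by
  rw [Subgroup.mem_normalizer_iff, Subgroup.mem_normalizer_iff]
  constructor
  · intro h g
    constructor
    · intro hg
      have := (h ⟨g, hQN hg⟩).mp (Subgroup.mem_subgroupOf.mpr hg)
      exact Subgroup.mem_subgroupOf.mp this
    · intro hg
      have hgN : g ∈ N := by
        have h1 : (x : G) * g * (x : G)⁻¹ ∈ N := hQN hg
        have h2 := N.mul_mem (N.mul_mem (N.inv_mem x.2) h1) x.2
        have e : (x : G)⁻¹ * ((x : G) * g * (x : G)⁻¹) * (x : G) = g := by group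
        rw [e] at h2
        exact h2
      have := (h ⟨g, hgN⟩).mpr (Subgroup.mem_subgroupOf.mpr hg)
      exact Subgroup.mem_subgroupOf.mp this
  · intro h y
    rw [Subgroup.mem_subgroupOf, Subgroup.mem_subgroupOf]
    exact h (y : G)

/-- `N_N(Q)`, formed in the group `↥N`, is `N_G(Q) ⊓ N` -/
noncomputable def hkn_phi (N Q : Subgroup G) (hQN : Q ≤ N) :
    ↥(Subgroup.normalizer ((Q.subgroupOf N : Subgroup N) : Set N)) ≃*
      ↥(Subgroup.normalizer (Q : Set G) ⊓ N) where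
  toFun k := ⟨((k : N) : G), ⟨(hkn_mem_normalizer_iff N Q hQN (k : N)).mp k.2, (k : N).2⟩⟩
  invFun l := ⟨⟨(l : G), l.2.2⟩, (hkn_mem_normalizer_iff N Q hQN ⟨(l : G), l.2.2⟩).mpr l.2.1⟩
  left_inv k := rfl
  right_inv l := rfl
  map_mul' a b := rfl

theorem hkn_phi_coe (N Q : Subgroup G) (hQN : Q ≤ N)
    (k : ↥(Subgroup.normalizer ((Q.subgroupOf N : Subgroup N) : Set N))) :
    ((hkn_phi N Q hQN k : ↥(Subgroup.normalizer (Q : Set G) ⊓ N)) : G) = ((k : N) : G) := rfl

/-- first half of the Harris–Knörr correspondence -/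
theorem hkn_part1 [Fintype G] (p : ℕ) [hp : Fact p.Prime] (M : Ideal Cfsg.AlgInt)
    (hM : Cfsg.IsPModular p M) (N : Subgroup G) [hN : N.Normal] [Fintype N] (Q : Subgroup G)
    (hQ : IsPGroup p Q) [Fintype ↥(Subgroup.normalizer (Q : Set G) ⊓ N)]
    (d : Set (Cfsg.IrrCharacter N))
    (e : Set (Cfsg.IrrCharacter ↥(Subgroup.normalizer (Q : Set G) ⊓ N)))
    (hed : Cfsg.IsInducedBlockIn M N (Subgroup.normalizer (Q : Set G) ⊓ N) e d)
    (c : Set (Cfsg.IrrCharacter ↥(Subgroup.normalizer (Q : Set G)))) (hc : Cfsg.IsPBlock M c)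
    (hcov : ∃ ψ ∈ c, ∃ ξ ∈ e, Cfsg.classInner
      (fun l : ↥(Subgroup.normalizer (Q : Set G) ⊓ N) =>
        (ψ : ↥(Subgroup.normalizer (Q : Set G)) → ℂ) (Subgroup.inclusion inf_le_left l))
      (ξ : ↥(Subgroup.normalizer (Q : Set G) ⊓ N) → ℂ) ≠ 0) :
    ∃! B : Set (Cfsg.IrrCharacter G), Cfsg.IsInducedBlock M (Subgroup.normalizer (Q : Set G)) c B ∧
      (∃ χ ∈ B, ∃ θ ∈ d, Cfsg.classInner (fun n : N => (χ : G → ℂ) n) (θ : N → ℂ) ≠ 0) := by
  classical
  have hPr := hM.2.1.isPrime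
  haveI : Fintype ↥(Subgroup.normalizer (Q : Set G)) := Fintype.ofFinite _
  obtain ⟨B, hB⟩ := Cfsg.Agent.S0919.result p M hM Q (Subgroup.normalizer (Q : Set G)) hQ
    Subgroup.le_normalizer (Subgroup.centralizer_le_normalizer _) le_rfl c hc
  refine ⟨B, ⟨hB, ?_⟩, ?_⟩
  · exact hkn_claimA p M hM N (Subgroup.normalizer (Q : Set G)) c e d B hcov hB hed
  · rintro B' ⟨hB', -⟩
    exact fr_induced_unique hPr _ c B' B hB' hB

end

end Cfsg.Agent.Lib.Helper26
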