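import Mathlib
import Cfsg.Prelude.Def_Blocks
import Cfsg.Prelude.Def_Local
import Cfsg.Prelude.Def_BlockLocal
import Cfsg.Agent.Lib.Helper26.HarrisKnorr3

/-!
Towards the Harris–Knörr correspondence (S4674): conjugation by elements of `N_G(Q)` on the blocks
of `N_G(Q) ⊓ N`, and uniqueness of the Brauer correspondent.
-/

set_option autoImplicit false
set_option linter.style.haveILetI false
set_option linter.unusedSectionVars false
set_option linter.unusedVariables false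

namespace Cfsg.Agent.Lib.Helper26

open scoped ComplexConjugate Pointwise
open Cfsg.Agent.Lib.Helper24 Cfsg.Agent.Lib.Helper25 Cfsg.Agent.Lib.Helper11
open Cfsg.Agent.Lib.helper2 Cfsg.Agent.Lib.helper7

section

variable {G : Type*} [Group G]

/-- conjugation by `h ∈ N_G(Q)` on `N_G(Q) ⊓ N` -/
noncomputable def hkn_sigma (N Q : Subgroup G) [hN : N.Normal] (h : G)
    (hh : h ∈ Subgroup.normalizer (Q : Set G)) :
    ↥(Subgroup.normalizer (Q : Set G) ⊓ N) ≃* ↥(Subgroup.normalizer (Q : Set G) ⊓ N) where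
  toFun l := ⟨h * (l : G) * h⁻¹, ⟨Subgroup.mul_mem _ (Subgroup.mul_mem _ hh l.2.1)
    (Subgroup.inv_mem _ hh), hN.conj_mem _ l.2.2 h⟩⟩
  invFun l := ⟨h⁻¹ * (l : G) * h, ⟨Subgroup.mul_mem _ (Subgroup.mul_mem _ (Subgroup.inv_mem _ hh)
    l.2.1) hh, by
      have := hN.conj_mem _ l.2.2 h⁻¹
      rw [inv_inv] at this
      exact this⟩⟩
  left_inv l := by
    apply Subtype.ext
    show h⁻¹ * (h * (l : G) * h⁻¹) * h = (l : G)
    group
  right_inv l := by
    apply Subtype.ext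
    show h * (h⁻¹ * (l : G) * h) * h⁻¹ = (l : G)
    group
  map_mul' a b := by
    apply Subtype.ext
    show h * ((a : G) * (b : G)) * h⁻¹ = h * (a : G) * h⁻¹ * (h * (b : G) * h⁻¹)
    group

theorem hkn_sigma_coe (N Q : Subgroup G) [hN : N.Normal] (h : G)
    (hh : h ∈ Subgroup.normalizer (Q : Set G)) (l : ↥(Subgroup.normalizer (Q : Set G) ⊓ N)) :
    ((hkn_sigma N Q h hh l : ↥(Subgroup.normalizer (Q : Set G) ⊓ N)) : G) = h * (l : G) * h⁻¹ :=
  rfl

theorem hkn_sigma_symm_coe (N Q : Subgroup G) [hN : N.Normal] (h : G)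
    (hh : h ∈ Subgroup.normalizer (Q : Set G)) (l : ↥(Subgroup.normalizer (Q : Set G) ⊓ N)) :
    (((hkn_sigma N Q h hh).symm l : ↥(Subgroup.normalizer (Q : Set G) ⊓ N)) : G) =
      h⁻¹ * (l : G) * h :=
  rfl

/-- the induced central character inside `N` and conjugation -/
theorem hkn_iccIn_conj (N Q : Subgroup G) [hN : N.Normal] (h : G)
    (hh : h ∈ Subgroup.normalizer (Q : Set G))
    (ξ : ↥(Subgroup.normalizer (Q : Set G) ⊓ N) → ℂ) (n : N) :
    Cfsg.inducedCentralCharIn N (Subgroup.normalizer (Q : Set G) ⊓ N)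
        (fun k => ξ (hkn_sigma N Q h hh k)) (n : G) =
      Cfsg.inducedCentralCharIn N (Subgroup.normalizer (Q : Set G) ⊓ N) ξ
        ((MulAut.conjNormal h n : N) : G) := by
  unfold Cfsg.inducedCentralCharIn
  have h1 : ∀ k : ↥(Subgroup.normalizer (Q : Set G) ⊓ N),
      ξ (hkn_sigma N Q h hh k) / ξ (hkn_sigma N Q h hh 1) =
        (fun k' => ξ k' / ξ 1) (hkn_sigma N Q h hh k) := by
    intro k
    rw [map_one]
  simp only [h1]
  symm
  apply finsum_mem_eq_of_bijOn (fun k' => (hkn_sigma N Q h hh).symm k')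
  · refine ⟨?_, ?_, ?_⟩
    · rintro k' ⟨x, hx⟩
      rw [MulAut.conjNormal_apply] at hx
      refine ⟨⟨h⁻¹ * (x : G) * h, by
        have := hN.conj_mem _ x.2 h⁻¹
        rw [inv_inv] at this
        exact this⟩, ?_⟩
      rw [hkn_sigma_symm_coe]
      show h⁻¹ * (x : G) * h * (h⁻¹ * (k' : G) * h) * (h⁻¹ * (x : G) * h)⁻¹ = (n : G)
      have e : h⁻¹ * (x : G) * h * (h⁻¹ * (k' : G) * h) * (h⁻¹ * (x : G) * h)⁻¹ =
          h⁻¹ * ((x : G) * (k' : G) * (x : G)⁻¹) * h := by group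
      rw [e, hx]
      group
    · intro a _ b _ hab
      exact (hkn_sigma N Q h hh).symm.injective hab
    · rintro k ⟨x, hx⟩
      refine ⟨hkn_sigma N Q h hh k, ⟨⟨h * (x : G) * h⁻¹, hN.conj_mem _ x.2 h⟩, ?_⟩,
        (hkn_sigma N Q h hh).symm_apply_apply k⟩
      rw [MulAut.conjNormal_apply, hkn_sigma_coe, ← hx]
      show h * (x : G) * h⁻¹ * (h * (k : G) * h⁻¹) * (h * (x : G) * h⁻¹)⁻¹ =
        h * ((x : G) * (k : G) * (x : G)⁻¹) * h⁻¹
      group
  · intro k' _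
    show ξ k' / ξ 1 = ξ (hkn_sigma N Q h hh ((hkn_sigma N Q h hh).symm k')) / ξ 1
    rw [MulEquiv.apply_symm_apply]

/-- induction inside `N` is compatible with conjugation by `N_G(Q)` -/
theorem hkn_in_conj [Finite G] {M : Ideal Cfsg.AlgInt} (N Q : Subgroup G) [hN : N.Normal] (h : G)
    (hh : h ∈ Subgroup.normalizer (Q : Set G))
    (e₁ : Set (Cfsg.IrrCharacter ↥(Subgroup.normalizer (Q : Set G) ⊓ N)))
    (d₁ : Set (Cfsg.IrrCharacter N))
    (hed : Cfsg.IsInducedBlockIn M N (Subgroup.normalizer (Q : Set G) ⊓ N) e₁ d₁) :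
    Cfsg.IsInducedBlockIn M N (Subgroup.normalizer (Q : Set G) ⊓ N)
      (bt_trb (hkn_sigma N Q h hh) e₁) (bt_trb (MulAut.conjNormal h : N ≃* N) d₁) := by
  obtain ⟨he, hd, hc⟩ := hed
  refine ⟨bt_trb_isPBlock _ e₁ he, bt_trb_isPBlock _ d₁ hd, ?_⟩
  intro ξ' hξ' θ' hθ' n
  have h1 := hc (ef_tr (hkn_sigma N Q h hh).symm ξ') hξ'
    (ef_tr (MulAut.conjNormal h : N ≃* N).symm θ') hθ' (MulAut.conjNormal h n)
  have h2 : (ξ' : ↥(Subgroup.normalizer (Q : Set G) ⊓ N) → ℂ) =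
      fun k => (ef_tr (hkn_sigma N Q h hh).symm ξ' :
        ↥(Subgroup.normalizer (Q : Set G) ⊓ N) → ℂ) (hkn_sigma N Q h hh k) := by
    funext k
    rw [ef_tr_apply, MulEquiv.symm_apply_apply]
  have h3 : (θ' : N → ℂ) = fun a => (ef_tr (MulAut.conjNormal h : N ≃* N).symm θ' : N → ℂ)
      ((MulAut.conjNormal h : N ≃* N) a) := by
    funext a
    rw [ef_tr_apply, MulEquiv.symm_apply_apply]
  rw [h2, h3, hkn_iccIn_conj N Q h hh, bm_centralChar_comp_equiv (MulAut.conjNormal h : N ≃* N)]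
  exact h1

theorem hkn_trb_symm_trb {A B' : Type*} [Group A] [Group B'] (φ : A ≃* B')
    (b : Set (Cfsg.IrrCharacter B')) : bt_trb φ.symm (bt_trb φ b) = b := by
  ext ξ
  rw [bt_mem_trb', bt_mem_trb', MulEquiv.symm_symm, bt_tr_symm_tr]

theorem hkn_trb_trb_symm {A B' : Type*} [Group A] [Group B'] (φ : A ≃* B')
    (b : Set (Cfsg.IrrCharacter A)) : bt_trb φ (bt_trb φ.symm b) = b := by
  have := hkn_trb_symm_trb φ.symm b
  rw [MulEquiv.symm_symm] at this
  exact this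

/-- transport of defect groups, in the direction opposite to `kn_defectGroup_tr` -/
theorem hkn_defectGroup_tr' {A B' : Type*} [Group A] [Group B'] [Finite A] [Finite B'] (p : ℕ)
    [hp : Fact p.Prime] (M : Ideal Cfsg.AlgInt) (φ : A ≃* B') (b : Set (Cfsg.IrrCharacter B'))
    (D : Subgroup B') (hD : Cfsg.IsDefectGroup p M b D) :
    Cfsg.IsDefectGroup p M (bt_trb φ b) (D.map φ.symm.toMonoidHom) := by
  apply kn_defectGroup_tr p M φ.symm (bt_trb φ b) D
  rw [hkn_trb_symm_trb]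
  exact hD

/-- conjugation by `N_G(Q)` preserves the defect group `Q` -/
theorem hkn_defect_conj [Finite G] (p : ℕ) [hp : Fact p.Prime] (M : Ideal Cfsg.AlgInt)
    (N Q : Subgroup G) [hN : N.Normal] (h : G) (hh : h ∈ Subgroup.normalizer (Q : Set G))
    (e₁ : Set (Cfsg.IrrCharacter ↥(Subgroup.normalizer (Q : Set G) ⊓ N)))
    (hD : Cfsg.IsDefectGroup p M e₁ (Q.subgroupOf (Subgroup.normalizer (Q : Set G) ⊓ N))) :
    Cfsg.IsDefectGroup p M (bt_trb (hkn_sigma N Q h hh) e₁)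
      (Q.subgroupOf (Subgroup.normalizer (Q : Set G) ⊓ N)) := by
  have h1 := hkn_defectGroup_tr' p M (hkn_sigma N Q h hh) e₁ _ hD
  have h2 : (Q.subgroupOf (Subgroup.normalizer (Q : Set G) ⊓ N)).map
      (hkn_sigma N Q h hh).symm.toMonoidHom =
      Q.subgroupOf (Subgroup.normalizer (Q : Set G) ⊓ N) := by
    ext l
    rw [Subgroup.mem_map, Subgroup.mem_subgroupOf]
    constructor
    · rintro ⟨q, hq, rfl⟩
      rw [Subgroup.mem_subgroupOf] at hq
      show h⁻¹ * (q : G) * h ∈ Q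
      have := (Subgroup.mem_normalizer_iff.mp (Subgroup.inv_mem _ hh) (q : G)).mp hq
      rw [inv_inv] at this
      exact this
    · intro hl
      refine ⟨hkn_sigma N Q h hh l, ?_, (hkn_sigma N Q h hh).symm_apply_apply l⟩
      rw [Subgroup.mem_subgroupOf, hkn_sigma_coe]
      exact (Subgroup.mem_normalizer_iff.mp hh (l : G)).mp hl
  rw [h2] at h1
  exact h1

end

end Cfsg.Agent.Lib.Helper26
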