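import Mathlib
import Cfsg.Prelude.Def_Blocks
import Cfsg.Prelude.Def_Local
import Cfsg.Prelude.Def_BlockLocal
import Cfsg.Agent.Lib.Helper26.HarrisKnorr4

/-!
Towards the Harris–Knörr correspondence (S4674): uniqueness of the Brauer correspondent in
`N_G(Q) ⊓ N`, and existence of the induced block inside `N`.
-/

set_option autoImplicit false
set_option linter.style.haveILetI false
set_option linter.unusedSectionVars false
set_option linter.unusedVariables false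

namespace Cfsg.Agent.Lib.Helper26

open scoped ComplexConjugate Pointwise
open Cfsg.Agent.Lib.Helper24 Cfsg.Agent.Lib.Helper25 Cfsg.Agent.Lib.Helper11
open Cfsg.Agent.Lib.helper2 Cfsg.Agent.Lib.helper7

section

variable {G : Type*} [Group G]

theorem hkn_map_phi_symm (N Q : Subgroup G) (hQN : Q ≤ N) :
    (Q.subgroupOf (Subgroup.normalizer (Q : Set G) ⊓ N)).map
        (hkn_phi N Q hQN).symm.toMonoidHom =
      (Q.subgroupOf N).subgroupOf
        (Subgroup.normalizer ((Q.subgroupOf N : Subgroup N) : Set N)) := by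
  ext k
  rw [Subgroup.mem_map, Subgroup.mem_subgroupOf, Subgroup.mem_subgroupOf]
  constructor
  · rintro ⟨q, hq, rfl⟩
    rw [Subgroup.mem_subgroupOf] at hq
    exact hq
  · intro hk
    refine ⟨hkn_phi N Q hQN k, ?_, (hkn_phi N Q hQN).symm_apply_apply k⟩
    rw [Subgroup.mem_subgroupOf]
    exact hk

theorem hkn_map_phi (N Q : Subgroup G) (hQN : Q ≤ N) :
    ((Q.subgroupOf N).subgroupOf
        (Subgroup.normalizer ((Q.subgroupOf N : Subgroup N) : Set N))).map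
        (hkn_phi N Q hQN).toMonoidHom =
      Q.subgroupOf (Subgroup.normalizer (Q : Set G) ⊓ N) := by
  ext l
  rw [Subgroup.mem_map, Subgroup.mem_subgroupOf]
  constructor
  · rintro ⟨k, hk, rfl⟩
    rw [Subgroup.mem_subgroupOf, Subgroup.mem_subgroupOf] at hk
    exact hk
  · intro hl
    refine ⟨(hkn_phi N Q hQN).symm l, ?_, (hkn_phi N Q hQN).apply_symm_apply l⟩
    rw [Subgroup.mem_subgroupOf, Subgroup.mem_subgroupOf]
    exact hl

/-- the Brauer correspondent in `N_G(Q) ⊓ N` is unique -/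
theorem hkn_unique [Finite G] (p : ℕ) [hp : Fact p.Prime] (M : Ideal Cfsg.AlgInt)
    (hM : Cfsg.IsPModular p M) (N Q : Subgroup G) (hQ : IsPGroup p Q) (hQN : Q ≤ N)
    (d : Set (Cfsg.IrrCharacter N)) (hd : Cfsg.IsPBlock M d)
    (hdQ : Cfsg.IsDefectGroup p M d (Q.subgroupOf N))
    (e e' : Set (Cfsg.IrrCharacter ↥(Subgroup.normalizer (Q : Set G) ⊓ N)))
    (heQ : Cfsg.IsDefectGroup p M e (Q.subgroupOf (Subgroup.normalizer (Q : Set G) ⊓ N)))
    (heQ' : Cfsg.IsDefectGroup p M e' (Q.subgroupOf (Subgroup.normalizer (Q : Set G) ⊓ N)))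
    (hed : Cfsg.IsInducedBlockIn M N (Subgroup.normalizer (Q : Set G) ⊓ N) e d)
    (hed' : Cfsg.IsInducedBlockIn M N (Subgroup.normalizer (Q : Set G) ⊓ N) e' d) :
    e = e' := by
  have h1 := (hkn_in_iff N (Subgroup.normalizer (Q : Set G) ⊓ N) _ (hkn_phi N Q hQN)
    (hkn_phi_coe N Q hQN) e d).mp hed
  have h1' := (hkn_in_iff N (Subgroup.normalizer (Q : Set G) ⊓ N) _ (hkn_phi N Q hQN)
    (hkn_phi_coe N Q hQN) e' d).mp hed'
  have h2 := hkn_defectGroup_tr' p M (hkn_phi N Q hQN) e _ heQ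
  have h2' := hkn_defectGroup_tr' p M (hkn_phi N Q hQN) e' _ heQ'
  rw [hkn_map_phi_symm] at h2 h2'
  obtain ⟨b, -, hb⟩ := (Cfsg.Agent.S0920.result p M hM (Q.subgroupOf N) hQ.comap_subtype).2 d hd hdQ
  have e1 := hb _ ⟨h1.1, h2, h1⟩
  have e2 := hb _ ⟨h1'.1, h2', h1'⟩
  exact dcl_trb_inj (hkn_phi N Q hQN) e e' (e1.trans e2.symm)

/-- every block of `N_G(Q) ⊓ N` induces a block inside `N` -/
theorem hkn_exists_induced [Finite G] (p : ℕ) [hp : Fact p.Prime] (M : Ideal Cfsg.AlgInt)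
    (hM : Cfsg.IsPModular p M) (N Q : Subgroup G) (hQ : IsPGroup p Q) (hQN : Q ≤ N)
    (e₁ : Set (Cfsg.IrrCharacter ↥(Subgroup.normalizer (Q : Set G) ⊓ N)))
    (he₁ : Cfsg.IsPBlock M e₁) :
    ∃ d₁ : Set (Cfsg.IrrCharacter N),
      Cfsg.IsInducedBlockIn M N (Subgroup.normalizer (Q : Set G) ⊓ N) e₁ d₁ := by
  obtain ⟨d₁, hd₁⟩ := Cfsg.Agent.S0919.result p M hM (Q.subgroupOf N)
    (Subgroup.normalizer ((Q.subgroupOf N : Subgroup N) : Set N)) hQ.comap_subtype
    Subgroup.le_normalizer (Subgroup.centralizer_le_normalizer _) le_rfl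
    (bt_trb (hkn_phi N Q hQN) e₁) (bt_trb_isPBlock _ e₁ he₁)
  exact ⟨d₁, (hkn_in_iff N (Subgroup.normalizer (Q : Set G) ⊓ N) _ (hkn_phi N Q hQN)
    (hkn_phi_coe N Q hQN) e₁ d₁).mpr hd₁⟩

end

end Cfsg.Agent.Lib.Helper26
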