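import Mathlib
import Cfsg.Prelude.Def_Blocks
import Cfsg.Prelude.Def_Local
import Cfsg.Prelude.Def_BlockLocal
import Cfsg.Agent.Lib.Helper26.HarrisKnorr5
import Cfsg.Agent.S0964

/-!
Towards the Harris–Knörr correspondence (S4674): every block of `G` covering `d` is induced from a
block of `N_G(Q)` covering the Brauer correspondent `e` of `d`.
-/

set_option autoImplicit false
set_option linter.style.haveILetI false
set_option linter.unusedSectionVars false
set_option linter.unusedVariables false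

namespace Cfsg.Agent.Lib.Helper26

open scoped ComplexConjugate Pointwise
open Cfsg.Agent.Lib.Helper24 Cfsg.Agent.Lib.Helper25 Cfsg.Agent.Lib.Helper11
open Cfsg.Agent.Lib.helper2 Cfsg.Agent.Lib.helper7

section

variable {G : Type*} [Group G]

/-- a block of `H = N_G(Q)` covering a block `e₁` of `H ⊓ N` covers its `H`-conjugates -/
theorem hkn_cover_conj [Fintype G] (N Q : Subgroup G) [hN : N.Normal] (h : G)
    (hh : h ∈ Subgroup.normalizer (Q : Set G))
    [Fintype ↥(Subgroup.normalizer (Q : Set G) ⊓ N)]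
    (ψ : Cfsg.IrrCharacter ↥(Subgroup.normalizer (Q : Set G)))
    (ξ₁ : Cfsg.IrrCharacter ↥(Subgroup.normalizer (Q : Set G) ⊓ N)) :
    Cfsg.classInner (fun l : ↥(Subgroup.normalizer (Q : Set G) ⊓ N) =>
        (ψ : ↥(Subgroup.normalizer (Q : Set G)) → ℂ)
          ⟨(l : G), (inf_le_left : Subgroup.normalizer (Q : Set G) ⊓ N ≤ _) l.2⟩)
        (ef_tr (hkn_sigma N Q h hh) ξ₁ : ↥(Subgroup.normalizer (Q : Set G) ⊓ N) → ℂ) =
      Cfsg.classInner (fun l : ↥(Subgroup.normalizer (Q : Set G) ⊓ N) =>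
        (ψ : ↥(Subgroup.normalizer (Q : Set G)) → ℂ)
          ⟨(l : G), (inf_le_left : Subgroup.normalizer (Q : Set G) ⊓ N ≤ _) l.2⟩)
        (ξ₁ : ↥(Subgroup.normalizer (Q : Set G) ⊓ N) → ℂ) := by
  have h1 := h7_classInner_comp_equiv (hkn_sigma N Q h hh)
    (fun l : ↥(Subgroup.normalizer (Q : Set G) ⊓ N) =>
        (ψ : ↥(Subgroup.normalizer (Q : Set G)) → ℂ)
          ⟨(l : G), (inf_le_left : Subgroup.normalizer (Q : Set G) ⊓ N ≤ _) l.2⟩)
    (ξ₁ : ↥(Subgroup.normalizer (Q : Set G) ⊓ N) → ℂ)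
  rw [← h1]
  congr 1
  funext l
  have h2 := irr_conj_invariant ψ
    ⟨(l : G), (inf_le_left : Subgroup.normalizer (Q : Set G) ⊓ N ≤ _) l.2⟩ ⟨h, hh⟩
  rw [← h2]
  rfl


/-- if the blocks `d`, `d₁` of `N` both have defect group `Q` and are `G`-conjugate, they are
conjugate under `N_G(Q)` -/
theorem hkn_conj_elt [Fintype G] (p : ℕ) [hp : Fact p.Prime] (M : Ideal Cfsg.AlgInt)
    (hM : Cfsg.IsPModular p M) (N Q : Subgroup G) [hN : N.Normal] [Fintype N] (hQN : Q ≤ N)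
    (d d₁ : Set (Cfsg.IrrCharacter N)) (hd : Cfsg.IsPBlock M d) (hd₁ : Cfsg.IsPBlock M d₁)
    (hdQ : Cfsg.IsDefectGroup p M d (Q.subgroupOf N))
    (hd₁Q : Cfsg.IsDefectGroup p M d₁ (Q.subgroupOf N))
    (θ' θ₁ : Cfsg.IrrCharacter N) (hθ' : θ' ∈ d) (hθ₁ : θ₁ ∈ d₁) (g : G)
    (hg : ∀ n : N, (θ₁ : N → ℂ) n = (θ' : N → ℂ) ⟨g * n * g⁻¹, hN.conj_mem n n.2 g⟩) :
    ∃ h : G, h ∈ Subgroup.normalizer (Q : Set G) ∧
      d₁ = bt_trb (MulAut.conjNormal h : N ≃* N) d := by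
  classical
  have hPr := hM.2.1.isPrime
  have hconj : ∀ a : G, (∀ n : N, (θ₁ : N → ℂ) n =
      (θ' : N → ℂ) ⟨a * n * a⁻¹, hN.conj_mem n n.2 a⟩) →
      d₁ = bt_trb (MulAut.conjNormal a : N ≃* N) d := by
    intro a ha
    have h1 : θ₁ = ef_tr (MulAut.conjNormal a : N ≃* N) θ' := by
      apply Subtype.ext
      funext n
      rw [ef_tr_apply, ha n]
      congr 1
    apply fr_block_eq_of_mem hPr d₁ _ hd₁ (bt_trb_isPBlock _ d hd) θ₁ hθ₁
    rw [h1]
    exact (bt_mem_trb _ d θ').mpr hθ'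
  have hd₁g := hconj g hg
  have hD := hkn_defectGroup_tr' p M (MulAut.conjNormal g : N ≃* N) d _ hdQ
  rw [← hd₁g] at hD
  obtain ⟨x, hx⟩ := qh_defect_conj p M hM d₁ hd₁ _ _ hd₁Q hD
  have hkey : ∀ y : N, g * (y : G) * g⁻¹ ∈ Q ↔ (x : G)⁻¹ * (y : G) * (x : G) ∈ Q := by
    intro y
    have h1 : y ∈ (Q.subgroupOf N).map (MulAut.conjNormal g : N ≃* N).symm.toMonoidHom ↔
        g * (y : G) * g⁻¹ ∈ Q := by
      rw [Subgroup.mem_map_equiv, MulEquiv.symm_symm, Subgroup.mem_subgroupOf,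
        MulAut.conjNormal_apply]
    have h2 : y ∈ (Q.subgroupOf N).map (MulAut.conj x).toMonoidHom ↔
        (x : G)⁻¹ * (y : G) * (x : G) ∈ Q := by
      rw [Subgroup.mem_map_equiv, Subgroup.mem_subgroupOf, MulAut.conj_symm_apply]
      push_cast
      rfl
    rw [← h1, ← h2, hx]
  have hh : g * (x : G) ∈ Subgroup.normalizer (Q : Set G) := by
    rw [Subgroup.mem_normalizer_iff]
    intro q
    by_cases hq : q ∈ N
    · have hy : (x : G) * q * (x : G)⁻¹ ∈ N := hN.conj_mem q hq x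
      have h1 := hkey ⟨(x : G) * q * (x : G)⁻¹, hy⟩
      have e1 : g * ((x : G) * q * (x : G)⁻¹) * g⁻¹ = g * (x : G) * q * (g * (x : G))⁻¹ := by
        group
      have e2 : (x : G)⁻¹ * ((x : G) * q * (x : G)⁻¹) * (x : G) = q := by group
      simp only [e1, e2] at h1
      exact h1.symm
    · constructor
      · intro hqQ
        exact absurd (hQN hqQ) hq
      · intro hqQ
        exfalso
        apply hq
        have h1 := hN.conj_mem _ (hQN hqQ) (g * (x : G))⁻¹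
        have e : (g * (x : G))⁻¹ * (g * (x : G) * q * (g * (x : G))⁻¹) * (g * (x : G))⁻¹⁻¹ = q := by
          group
        rw [e] at h1
        exact h1
  refine ⟨g * (x : G), hh, hconj _ ?_⟩
  intro n
  have h1 := hg (x * n * x⁻¹)
  have h2 : (θ₁ : N → ℂ) (x * n * x⁻¹) = (θ₁ : N → ℂ) n := irr_conj_invariant θ₁ n x
  rw [← h2, h1]
  refine congrArg (θ' : N → ℂ) (Subtype.ext ?_)
  push_cast
  group

end

end Cfsg.Agent.Lib.Helper26
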