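import Mathlib
import Cfsg.Prelude.Def_Blocks
import Cfsg.Prelude.Def_Local
import Cfsg.Prelude.Def_BlockLocal
import Cfsg.Agent.Lib.Helper26.HarrisKnorr6

/-!
Towards the Harris–Knörr correspondence (S4674): surjectivity.
-/

set_option autoImplicit false
set_option linter.style.haveILetI false
set_option linter.unusedSectionVars false
set_option linter.unusedVariables false

namespace Cfsg.Agent.Lib.Helper26

open scoped ComplexConjugate Pointwise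
open Cfsg.Agent.Lib.Helper24 Cfsg.Agent.Lib.Helper25 Cfsg.Agent.Lib.Helper11
open Cfsg.Agent.Lib.helper2 Cfsg.Agent.Lib.helper7

section

variable {G : Type*} [Group G]

/-- every block of `G` covering `d` is induced from a block of `N_G(Q)` covering `e` -/
theorem hkn_part2_exists [Fintype G] (p : ℕ) [hp : Fact p.Prime] (M : Ideal Cfsg.AlgInt)
    (hM : Cfsg.IsPModular p M) (N : Subgroup G) [hN : N.Normal] [Fintype N] (Q : Subgroup G)
    (hQ : IsPGroup p Q) (hQN : Q ≤ N) [Fintype ↥(Subgroup.normalizer (Q : Set G) ⊓ N)]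
    (d : Set (Cfsg.IrrCharacter N)) (hd : Cfsg.IsPBlock M d)
    (hdQ : Cfsg.IsDefectGroup p M d (Q.subgroupOf N))
    (e : Set (Cfsg.IrrCharacter ↥(Subgroup.normalizer (Q : Set G) ⊓ N)))
    (heQ : Cfsg.IsDefectGroup p M e (Q.subgroupOf (Subgroup.normalizer (Q : Set G) ⊓ N)))
    (hed : Cfsg.IsInducedBlockIn M N (Subgroup.normalizer (Q : Set G) ⊓ N) e d)
    (B : Set (Cfsg.IrrCharacter G)) (hB : Cfsg.IsPBlock M B)
    (hcovB : ∃ χ ∈ B, ∃ θ ∈ d, Cfsg.classInner (fun n : N => (χ : G → ℂ) n) (θ : N → ℂ) ≠ 0) :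
    ∃ c : Set (Cfsg.IrrCharacter ↥(Subgroup.normalizer (Q : Set G))),
      Cfsg.IsInducedBlock M (Subgroup.normalizer (Q : Set G)) c B ∧
      ∃ ψ ∈ c, ∃ ξ ∈ e, Cfsg.classInner (fun l : ↥(Subgroup.normalizer (Q : Set G) ⊓ N) =>
        (ψ : ↥(Subgroup.normalizer (Q : Set G)) → ℂ)
          ⟨(l : G), (inf_le_left : Subgroup.normalizer (Q : Set G) ⊓ N ≤ _) l.2⟩)
        (ξ : ↥(Subgroup.normalizer (Q : Set G) ⊓ N) → ℂ) ≠ 0 := by
  classical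
  have hPr := hM.2.1.isPrime
  haveI : Fintype ↥(Subgroup.normalizer (Q : Set G)) := Fintype.ofFinite _
  haveI : Fintype (Cfsg.IrrCharacter ↥(Subgroup.normalizer (Q : Set G))) := Fintype.ofFinite _
  haveI : Fintype (Cfsg.IrrCharacter ↥(Subgroup.normalizer (Q : Set G) ⊓ N)) :=
    Fintype.ofFinite _
  haveI : Fintype (Cfsg.IrrCharacter N) := Fintype.ofFinite _
  -- a defect group `P` of `B` with `P ⊓ N = Q`
  obtain ⟨P, hP, hPN⟩ := kn_main p M hM N d hd Q hQN hdQ B hB hcovB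
  have hPp : IsPGroup p P := ef_isPGroup_of_defect hP
  obtain ⟨⟨b₀, -, hind₀⟩, -⟩ := ef_main p M hM B hB P hP
  have hQP : Q ≤ P := hPN ▸ inf_le_left
  have hPH : P ≤ Subgroup.normalizer (Q : Set G) := by
    intro x hx
    rw [Subgroup.mem_normalizer_iff]
    intro q
    rw [← hPN, Subgroup.mem_inf, Subgroup.mem_inf]
    constructor
    · rintro ⟨h1, h2⟩
      exact ⟨P.mul_mem (P.mul_mem hx h1) (P.inv_mem hx), hN.conj_mem q h2 x⟩
    · rintro ⟨h1, h2⟩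
      constructor
      · have := P.mul_mem (P.mul_mem (P.inv_mem hx) h1) hx
        have e1 : x⁻¹ * (x * q * x⁻¹) * x = q := by group
        rw [e1] at this
        exact this
      · have := hN.conj_mem _ h2 x⁻¹
        have e1 : x⁻¹ * (x * q * x⁻¹) * x⁻¹⁻¹ = q := by group
        rw [e1] at this
        exact this
  have hCH : Subgroup.centralizer (P : Set G) ≤ Subgroup.normalizer (Q : Set G) :=
    (Subgroup.centralizer_le (SetLike.coe_subset_coe.mpr hQP)).trans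
      (Subgroup.centralizer_le_normalizer _)
  obtain ⟨c, hindc⟩ := kn_BH p M hM P hPp _ rfl b₀ B hind₀ (Subgroup.normalizer (Q : Set G))
    (sup_le hPH hCH)
  refine ⟨c, hindc, ?_⟩
  -- a block `e₁` of `N_G(Q) ⊓ N` covered by `c`
  obtain ⟨ψ₀, hψ₀⟩ : ∃ ψ₀, ψ₀ ∈ c := by
    obtain ⟨ψ₁, rfl⟩ := hindc.1
    exact ⟨ψ₁, h7_sameBlock_refl hPr _⟩
  have hres : Cfsg.IsCharacter ↥(Subgroup.normalizer (Q : Set G) ⊓ N)
      (fun l : ↥(Subgroup.normalizer (Q : Set G) ⊓ N) =>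
        (ψ₀ : ↥(Subgroup.normalizer (Q : Set G)) → ℂ)
          ⟨(l : G), (inf_le_left : Subgroup.normalizer (Q : Set G) ⊓ N ≤ _) l.2⟩) :=
    isCharacter_comp_hom (isCharacter_of_irr ψ₀) (Subgroup.inclusion inf_le_left)
  have hne : (fun l : ↥(Subgroup.normalizer (Q : Set G) ⊓ N) =>
        (ψ₀ : ↥(Subgroup.normalizer (Q : Set G)) → ℂ)
          ⟨(l : G), (inf_le_left : Subgroup.normalizer (Q : Set G) ⊓ N ≤ _) l.2⟩) 1 ≠ 0 :=
    irr_one_ne_zero ψ₀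
  obtain ⟨ξ₁, m, hm, hξ₁⟩ := isCharacter_exists_constituent hres hne
  have hξ₁ne : Cfsg.classInner (fun l : ↥(Subgroup.normalizer (Q : Set G) ⊓ N) =>
        (ψ₀ : ↥(Subgroup.normalizer (Q : Set G)) → ℂ)
          ⟨(l : G), (inf_le_left : Subgroup.normalizer (Q : Set G) ⊓ N ≤ _) l.2⟩)
        (ξ₁ : ↥(Subgroup.normalizer (Q : Set G) ⊓ N) → ℂ) ≠ 0 := by
    rw [hξ₁]
    exact_mod_cast hm.ne'
  have he₁ : Cfsg.IsPBlock M (Cfsg.blockOf M (ξ₁ : ↥(Subgroup.normalizer (Q : Set G) ⊓ N) → ℂ)) :=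
    ⟨ξ₁, rfl⟩
  have hξ₁mem : ξ₁ ∈ Cfsg.blockOf M (ξ₁ : ↥(Subgroup.normalizer (Q : Set G) ⊓ N) → ℂ) :=
    h7_sameBlock_refl hPr _
  obtain ⟨d₁, hed₁⟩ := hkn_exists_induced p M hM N Q hQ hQN _ he₁
  -- `B` covers `d₁`, so `d₁` is conjugate to `d`
  obtain ⟨χ', hχ', θ₁, hθ₁, hcon₁⟩ := hkn_claimA p M hM N (Subgroup.normalizer (Q : Set G)) c _
    d₁ B ⟨ψ₀, hψ₀, ξ₁, hξ₁mem, hξ₁ne⟩ hindc hed₁
  obtain ⟨χ, hχ, θ, hθ, hcon⟩ := hcovB
  obtain ⟨g, θ', hθ', hg⟩ := Cfsg.Agent.S0964.result p M hM N B hB d hd χ hχ θ hθ hcon χ' hχ'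
    θ₁ hcon₁
  -- defect groups
  have hd₁g : d₁ = bt_trb (MulAut.conjNormal g : N ≃* N) d := by
    have h1 : θ₁ = ef_tr (MulAut.conjNormal g : N ≃* N) θ' := by
      apply Subtype.ext
      funext n
      rw [ef_tr_apply, hg n]
      congr 1
    apply fr_block_eq_of_mem hPr d₁ _ hed₁.2.1 (bt_trb_isPBlock _ d hd) θ₁ hθ₁
    rw [h1]
    exact (bt_mem_trb _ d θ').mpr hθ'
  have hcard : Nat.card ↥(Q.subgroupOf N) = p ^ Cfsg.blockDefect p d₁ := by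
    rw [hd₁g, bt_blockDefect]
    exact Cfsg.Agent.S0908.result p M hM d hd _ hdQ
  have hind₁ := (hkn_in_iff N (Subgroup.normalizer (Q : Set G) ⊓ N) _ (hkn_phi N Q hQN)
    (hkn_phi_coe N Q hQN) _ d₁).mp hed₁
  obtain ⟨hdef₁, hd₁Q⟩ := hkn_defect_normalizer p M hM (Q.subgroupOf N) hQ.comap_subtype _ d₁
    hind₁ hcard
  have hdef₁' := kn_defectGroup_tr p M (hkn_phi N Q hQN) _ _ hdef₁
  rw [hkn_map_phi] at hdef₁'
  -- conjugating element in `N_G(Q)`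
  obtain ⟨h, hh, hd₁h⟩ := hkn_conj_elt p M hM N Q hQN d d₁ hd hed₁.2.1 hdQ hd₁Q θ' θ₁ hθ' hθ₁ g hg
  have hh' : h⁻¹ ∈ Subgroup.normalizer (Q : Set G) := Subgroup.inv_mem _ hh
  have hed' := hkn_in_conj N Q h⁻¹ hh' _ d₁ hed₁
  have hdd : bt_trb (MulAut.conjNormal h⁻¹ : N ≃* N) d₁ = d := by
    rw [hd₁h, map_inv]
    exact hkn_trb_symm_trb (MulAut.conjNormal h : N ≃* N) d
  rw [hdd] at hed'
  have hdef' := hkn_defect_conj p M N Q h⁻¹ hh' _ hdef₁'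
  have heq := hkn_unique p M hM N Q hQ hQN d hd hdQ e _ heQ hdef' hed hed'
  refine ⟨ψ₀, hψ₀, ef_tr (hkn_sigma N Q h⁻¹ hh') ξ₁, ?_, ?_⟩
  · rw [heq]
    exact (bt_mem_trb _ _ ξ₁).mpr hξ₁mem
  · rw [hkn_cover_conj N Q h⁻¹ hh' ψ₀ ξ₁]
    exact hξ₁ne

end

end Cfsg.Agent.Lib.Helper26
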