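import Mathlib
import Cfsg.Prelude.Def_Blocks
import Cfsg.Prelude.Def_Local
import Cfsg.Prelude.Def_BlockLocal
import Cfsg.Agent.Lib.Helper26.HarrisKnorr7

/-!
Towards the Harris–Knörr correspondence (S4674): the first main theorem for a subgroup `H`
containing `N_G(P)`.
-/

set_option autoImplicit false
set_option linter.style.haveILetI false
set_option linter.unusedSectionVars false
set_option linter.unusedVariables false

namespace Cfsg.Agent.Lib.Helper26

open scoped ComplexConjugate Pointwise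
open Cfsg.Agent.Lib.Helper24 Cfsg.Agent.Lib.Helper25 Cfsg.Agent.Lib.Helper11
open Cfsg.Agent.Lib.helper2 Cfsg.Agent.Lib.helper7

section

variable {G : Type*} [Group G]

/-- transitivity of block induction: `K' ≤ ↥H`, identified with `K ≤ G` -/
theorem hkn_trans2 [Fintype G] {M : Ideal Cfsg.AlgInt} (hPr : M.IsPrime) (H : Subgroup G)
    [Fintype H] (K' : Subgroup ↥H) [Fintype K'] (K : Subgroup G) [Fintype K] (ρ : ↥K' ≃* ↥K)
    (hρ : ∀ k : K', ((ρ k : K) : G) = ((k : H) : G))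
    (b : Set (Cfsg.IrrCharacter K')) (BH : Set (Cfsg.IrrCharacter H))
    (B : Set (Cfsg.IrrCharacter G))
    (h1 : Cfsg.IsInducedBlock M K' b BH) (h2 : Cfsg.IsInducedBlock M H BH B) :
    Cfsg.IsInducedBlock M K (bt_trb ρ.symm b) B := by
  classical
  haveI : Fintype (Cfsg.IrrCharacter H) := Fintype.ofFinite _
  refine ⟨bt_trb_isPBlock ρ.symm b h1.1, h2.2.1, ?_⟩
  intro ξ' hξ' χ hχ g
  obtain ⟨ψ, hψ⟩ : ∃ ψ, ψ ∈ BH := by
    obtain ⟨ψ₁, rfl⟩ := h1.2.1
    exact ⟨ψ₁, h7_sameBlock_refl hPr _⟩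
  have hξ : ef_tr ρ.symm.symm ξ' ∈ b := hξ'
  rw [MulEquiv.symm_symm] at hξ
  have hβH : ∀ x y : H, (fun z : H => hkn_ind g (z : G)) (y * x * y⁻¹) =
      (fun z : H => hkn_ind g (z : G)) x := by
    intro x y
    show hkn_ind g ((y * x * y⁻¹ : H) : G) = hkn_ind g (x : G)
    push_cast
    exact hkn_ind_conj g _ _
  have h3 := hi_congr hPr K' b BH h1 (fun z : H => hkn_ind g (z : G)) hβH
    (fun z => hkn_ind_memLocalRing hPr _ _) (ef_tr ρ ξ') hξ ψ hψ
  rw [hi_omega_indFun K' (fun z : H => hkn_ind g (z : G)) hβH, ← hkn_icc_eq_omega H] at h3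
  have h4 : bm_omega (fun k : K' => (fun z : H => hkn_ind g (z : G)) (k : H))
      (ef_tr ρ ξ' : K' → ℂ) = bm_omega (fun k : K => hkn_ind g (k : G)) (ξ' : K → ℂ) := by
    have := hkn_omega_tr ρ (fun k : K => hkn_ind g (k : G)) (ξ' : K → ℂ)
    rw [← this]
    congr 1
    funext k
    show hkn_ind g ((k : H) : G) = hkn_ind g ((ρ k : K) : G)
    rw [hρ]
  rw [h4, ← hkn_icc_eq_omega K] at h3
  have h5 := h2.2.2 ψ hψ χ hχ g
  have h6 := h7_memLocalIdeal_add hPr h3 h5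
  rw [sub_add_sub_cancel] at h6
  exact h6

/-- `N_H(P)`, formed in the group `↥H`, is `N_G(P)` when `N_G(P) ≤ H` -/
noncomputable def hkn_rho (H P : Subgroup G) (hPH : P ≤ H)
    (hNH : Subgroup.normalizer (P : Set G) ≤ H) :
    ↥(Subgroup.normalizer ((P.subgroupOf H : Subgroup H) : Set H)) ≃*
      ↥(Subgroup.normalizer (P : Set G)) where
  toFun k := ⟨((k : H) : G), (hkn_mem_normalizer_iff H P hPH (k : H)).mp k.2⟩
  invFun l := ⟨⟨(l : G), hNH l.2⟩, (hkn_mem_normalizer_iff H P hPH ⟨(l : G), hNH l.2⟩).mpr l.2⟩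
  left_inv k := rfl
  right_inv l := rfl
  map_mul' a b := rfl

theorem hkn_rho_coe (H P : Subgroup G) (hPH : P ≤ H)
    (hNH : Subgroup.normalizer (P : Set G) ≤ H)
    (k : ↥(Subgroup.normalizer ((P.subgroupOf H : Subgroup H) : Set H))) :
    ((hkn_rho H P hPH hNH k : ↥(Subgroup.normalizer (P : Set G))) : G) = ((k : H) : G) := rfl

theorem hkn_map_rho (H P : Subgroup G) (hPH : P ≤ H)
    (hNH : Subgroup.normalizer (P : Set G) ≤ H) :
    ((P.subgroupOf H).subgroupOf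
        (Subgroup.normalizer ((P.subgroupOf H : Subgroup H) : Set H))).map
        (hkn_rho H P hPH hNH).toMonoidHom =
      P.subgroupOf (Subgroup.normalizer (P : Set G)) := by
  ext l
  rw [Subgroup.mem_map, Subgroup.mem_subgroupOf]
  constructor
  · rintro ⟨k, hk, rfl⟩
    rw [Subgroup.mem_subgroupOf, Subgroup.mem_subgroupOf] at hk
    exact hk
  · intro hl
    refine ⟨(hkn_rho H P hPH hNH).symm l, ?_, (hkn_rho H P hPH hNH).apply_symm_apply l⟩
    rw [Subgroup.mem_subgroupOf, Subgroup.mem_subgroupOf]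
    exact hl


/-- if `N_G(P) ≤ H` and the block `c` of `H` has defect group `P`, then the induced block has
defect group `P` -/
theorem hkn_alpha [Fintype G] (p : ℕ) [hp : Fact p.Prime] (M : Ideal Cfsg.AlgInt)
    (hM : Cfsg.IsPModular p M) (H P : Subgroup G) (hPp : IsPGroup p P) (hPH : P ≤ H)
    (hNH : Subgroup.normalizer (P : Set G) ≤ H)
    (c : Set (Cfsg.IrrCharacter H)) (hc : Cfsg.IsPBlock M c)
    (hcP : Cfsg.IsDefectGroup p M c (P.subgroupOf H)) (B : Set (Cfsg.IrrCharacter G))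
    (hind : Cfsg.IsInducedBlock M H c B) :
    Cfsg.IsDefectGroup p M B P ∧
      ∃ β : Set (Cfsg.IrrCharacter
          ↥(Subgroup.normalizer ((P.subgroupOf H : Subgroup H) : Set H))),
        Cfsg.IsInducedBlock M (Subgroup.normalizer ((P.subgroupOf H : Subgroup H) : Set H)) β c ∧
        Cfsg.IsPBlock M (bt_trb (hkn_rho H P hPH hNH).symm β) ∧
        Cfsg.IsDefectGroup p M (bt_trb (hkn_rho H P hPH hNH).symm β)
          (P.subgroupOf (Subgroup.normalizer (P : Set G))) ∧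
        Cfsg.IsInducedBlock M (Subgroup.normalizer (P : Set G))
          (bt_trb (hkn_rho H P hPH hNH).symm β) B := by
  classical
  have hPr := hM.2.1.isPrime
  haveI : Fintype H := Fintype.ofFinite _
  haveI : Fintype ↥(Subgroup.normalizer ((P.subgroupOf H : Subgroup H) : Set H)) :=
    Fintype.ofFinite _
  haveI : Fintype ↥(Subgroup.normalizer (P : Set G)) := Fintype.ofFinite _
  obtain ⟨β, ⟨hβblk, hβD, hβind⟩, -⟩ :=
    (Cfsg.Agent.S0920.result (G := ↥H) p M hM (P.subgroupOf H) hPp.comap_subtype).2 c hc hcP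
  have hD := hkn_defectGroup_tr' p M (hkn_rho H P hPH hNH).symm β _ hβD
  rw [MulEquiv.symm_symm, hkn_map_rho] at hD
  have hind' := hkn_trans2 hPr H _ (Subgroup.normalizer (P : Set G)) (hkn_rho H P hPH hNH)
    (hkn_rho_coe H P hPH hNH) β c B hβind hind
  obtain ⟨B', hB', hB'P, hB'ind⟩ := (Cfsg.Agent.S0920.result p M hM P hPp).1
    (bt_trb (hkn_rho H P hPH hNH).symm β) hind'.1 hD
  have hBB : B' = B := fr_induced_unique hPr _ _ B' B hB'ind hind'
  rw [hBB] at hB'P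
  exact ⟨hB'P, β, hβind, hind'.1, hD, hind'⟩

/-- first main theorem, injectivity, for a subgroup `H` containing `N_G(P)` -/
theorem hkn_inj [Fintype G] (p : ℕ) [hp : Fact p.Prime] (M : Ideal Cfsg.AlgInt)
    (hM : Cfsg.IsPModular p M) (H P : Subgroup G) (hPp : IsPGroup p P) (hPH : P ≤ H)
    (hNH : Subgroup.normalizer (P : Set G) ≤ H)
    (c₁ c₂ : Set (Cfsg.IrrCharacter H)) (hc₁ : Cfsg.IsPBlock M c₁) (hc₂ : Cfsg.IsPBlock M c₂)
    (hc₁P : Cfsg.IsDefectGroup p M c₁ (P.subgroupOf H))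
    (hc₂P : Cfsg.IsDefectGroup p M c₂ (P.subgroupOf H)) (B : Set (Cfsg.IrrCharacter G))
    (hind₁ : Cfsg.IsInducedBlock M H c₁ B) (hind₂ : Cfsg.IsInducedBlock M H c₂ B) :
    c₁ = c₂ := by
  classical
  have hPr := hM.2.1.isPrime
  haveI : Fintype H := Fintype.ofFinite _
  haveI : Fintype ↥(Subgroup.normalizer ((P.subgroupOf H : Subgroup H) : Set H)) :=
    Fintype.ofFinite _
  obtain ⟨hBP, β₁, h11, h12, h13, h14⟩ := hkn_alpha p M hM H P hPp hPH hNH c₁ hc₁ hc₁P B hind₁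
  obtain ⟨-, β₂, h21, h22, h23, h24⟩ := hkn_alpha p M hM H P hPp hPH hNH c₂ hc₂ hc₂P B hind₂
  obtain ⟨b, -, hb⟩ := (Cfsg.Agent.S0920.result p M hM P hPp).2 B hind₁.2.1 hBP
  have e1 := hb _ ⟨h12, h13, h14⟩
  have e2 := hb _ ⟨h22, h23, h24⟩
  have hββ : β₁ = β₂ := dcl_trb_inj (hkn_rho H P hPH hNH).symm β₁ β₂ (e1.trans e2.symm)
  rw [hββ] at h11
  exact fr_induced_unique hPr _ β₂ c₁ c₂ h11 h21

end

end Cfsg.Agent.Lib.Helper26
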