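import Mathlib
import Cfsg.Prelude.Def_Blocks
import Cfsg.Prelude.Def_Local
import Cfsg.Prelude.Def_BlockLocal
import Cfsg.Agent.Lib.Helper26.HarrisKnorr8

/-!
The Harris–Knörr correspondence (S4674): injectivity and the final statement.
-/

set_option autoImplicit false
set_option linter.style.haveILetI false
set_option linter.unusedSectionVars false
set_option linter.unusedVariables false

namespace Cfsg.Agent.Lib.Helper26

open scoped ComplexConjugate Pointwise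
open Cfsg.Agent.Lib.Helper24 Cfsg.Agent.Lib.Helper25 Cfsg.Agent.Lib.Helper11
open Cfsg.Agent.Lib.helper2 Cfsg.Agent.Lib.helper7

section

variable {G : Type*} [Group G]

theorem hkn_normalizer_le (P N Q : Subgroup G) [hN : N.Normal] (hPN : P ⊓ N = Q) :
    Subgroup.normalizer (P : Set G) ≤ Subgroup.normalizer (Q : Set G) := by
  intro x hx
  rw [Subgroup.mem_normalizer_iff] at hx ⊢
  intro q
  rw [← hPN, Subgroup.mem_inf, Subgroup.mem_inf]
  constructor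
  · rintro ⟨h1, h2⟩
    exact ⟨(hx q).mp h1, hN.conj_mem q h2 x⟩
  · rintro ⟨h1, h2⟩
    refine ⟨(hx q).mpr h1, ?_⟩
    have := hN.conj_mem _ h2 x⁻¹
    have e1 : x⁻¹ * (x * q * x⁻¹) * x⁻¹⁻¹ = q := by group
    rw [e1] at this
    exact this

/-- Knörr's theorem inside `H = N_G(Q)`: a block of `H` covering `e` has a defect group `P` with
`P ⊓ N = Q` -/
theorem hkn_knorr_H [Fintype G] (p : ℕ) [hp : Fact p.Prime] (M : Ideal Cfsg.AlgInt)
    (hM : Cfsg.IsPModular p M) (N : Subgroup G) [hN : N.Normal] (Q : Subgroup G) (hQN : Q ≤ N)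
    [Fintype ↥(Subgroup.normalizer (Q : Set G) ⊓ N)]
    (e : Set (Cfsg.IrrCharacter ↥(Subgroup.normalizer (Q : Set G) ⊓ N)))
    (he : Cfsg.IsPBlock M e)
    (heQ : Cfsg.IsDefectGroup p M e (Q.subgroupOf (Subgroup.normalizer (Q : Set G) ⊓ N)))
    (c : Set (Cfsg.IrrCharacter ↥(Subgroup.normalizer (Q : Set G)))) (hc : Cfsg.IsPBlock M c)
    (hcov : ∃ ψ ∈ c, ∃ ξ ∈ e, Cfsg.classInner (fun l : ↥(Subgroup.normalizer (Q : Set G) ⊓ N) =>
        (ψ : ↥(Subgroup.normalizer (Q : Set G)) → ℂ)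
          ⟨(l : G), (inf_le_left : Subgroup.normalizer (Q : Set G) ⊓ N ≤ _) l.2⟩)
        (ξ : ↥(Subgroup.normalizer (Q : Set G) ⊓ N) → ℂ) ≠ 0) :
    ∃ P : Subgroup G, P ≤ Subgroup.normalizer (Q : Set G) ∧
      Cfsg.IsDefectGroup p M c (P.subgroupOf (Subgroup.normalizer (Q : Set G))) ∧
      P ⊓ N = Q := by
  classical
  haveI : Fintype ↥(Subgroup.normalizer (Q : Set G)) := Fintype.ofFinite _
  haveI : Fintype ↥((Subgroup.normalizer (Q : Set G) ⊓ N).subgroupOf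
    (Subgroup.normalizer (Q : Set G))) := Fintype.ofFinite _
  haveI hKn : ((Subgroup.normalizer (Q : Set G) ⊓ N).subgroupOf
      (Subgroup.normalizer (Q : Set G))).Normal := by
    rw [Subgroup.inf_subgroupOf_left]
    infer_instance
  set φ' : ↥((Subgroup.normalizer (Q : Set G) ⊓ N).subgroupOf (Subgroup.normalizer (Q : Set G)))
      ≃* ↥(Subgroup.normalizer (Q : Set G) ⊓ N) :=
    Subgroup.subgroupOfEquivOfLe (inf_le_left : Subgroup.normalizer (Q : Set G) ⊓ N ≤ _) with hφ'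
  have hQH : Q ≤ Subgroup.normalizer (Q : Set G) := Subgroup.le_normalizer
  have hQ₂L : Q.subgroupOf (Subgroup.normalizer (Q : Set G)) ≤
      (Subgroup.normalizer (Q : Set G) ⊓ N).subgroupOf (Subgroup.normalizer (Q : Set G)) :=
    Subgroup.comap_mono (le_inf hQH hQN)
  have hD := hkn_defectGroup_tr' p M φ' e _ heQ
  have hmap : (Q.subgroupOf (Subgroup.normalizer (Q : Set G) ⊓ N)).map φ'.symm.toMonoidHom =
      (Q.subgroupOf (Subgroup.normalizer (Q : Set G))).subgroupOf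
        ((Subgroup.normalizer (Q : Set G) ⊓ N).subgroupOf (Subgroup.normalizer (Q : Set G))) := by
    ext k
    rw [Subgroup.mem_map, Subgroup.mem_subgroupOf, Subgroup.mem_subgroupOf]
    constructor
    · rintro ⟨q, hq, rfl⟩
      rw [Subgroup.mem_subgroupOf] at hq
      exact hq
    · intro hk
      refine ⟨φ' k, ?_, φ'.symm_apply_apply k⟩
      rw [Subgroup.mem_subgroupOf]
      exact hk
  rw [hmap] at hD
  have hcov' : ∃ ψ ∈ c, ∃ ξ' ∈ bt_trb φ' e, Cfsg.classInner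
      (fun k : ↥((Subgroup.normalizer (Q : Set G) ⊓ N).subgroupOf
        (Subgroup.normalizer (Q : Set G))) =>
        (ψ : ↥(Subgroup.normalizer (Q : Set G)) → ℂ) k)
      (ξ' : ↥((Subgroup.normalizer (Q : Set G) ⊓ N).subgroupOf
        (Subgroup.normalizer (Q : Set G))) → ℂ) ≠ 0 := by
    obtain ⟨ψ, hψ, ξ, hξ, hcon⟩ := hcov
    refine ⟨ψ, hψ, ef_tr φ' ξ, (bt_mem_trb φ' e ξ).mpr hξ, ?_⟩
    have h2 := h7_classInner_comp_equiv φ'
      (fun l : ↥(Subgroup.normalizer (Q : Set G) ⊓ N) =>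
        (ψ : ↥(Subgroup.normalizer (Q : Set G)) → ℂ)
          ⟨(l : G), (inf_le_left : Subgroup.normalizer (Q : Set G) ⊓ N ≤ _) l.2⟩)
      (ξ : ↥(Subgroup.normalizer (Q : Set G) ⊓ N) → ℂ)
    have h3 : (fun a : ↥((Subgroup.normalizer (Q : Set G) ⊓ N).subgroupOf
          (Subgroup.normalizer (Q : Set G))) =>
        (fun l : ↥(Subgroup.normalizer (Q : Set G) ⊓ N) =>
          (ψ : ↥(Subgroup.normalizer (Q : Set G)) → ℂ)
            ⟨(l : G), (inf_le_left : Subgroup.normalizer (Q : Set G) ⊓ N ≤ _) l.2⟩) (φ' a)) =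
        fun k : ↥((Subgroup.normalizer (Q : Set G) ⊓ N).subgroupOf
          (Subgroup.normalizer (Q : Set G))) =>
          (ψ : ↥(Subgroup.normalizer (Q : Set G)) → ℂ) k := by
      funext a
      rfl
    rw [h3] at h2
    have h4 : (fun a : ↥((Subgroup.normalizer (Q : Set G) ⊓ N).subgroupOf
          (Subgroup.normalizer (Q : Set G))) =>
        (ξ : ↥(Subgroup.normalizer (Q : Set G) ⊓ N) → ℂ) (φ' a)) =
        (ef_tr φ' ξ : ↥((Subgroup.normalizer (Q : Set G) ⊓ N).subgroupOf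
          (Subgroup.normalizer (Q : Set G))) → ℂ) := rfl
    rw [h4] at h2
    rw [h2]
    exact hcon
  obtain ⟨P', hP', hP'L⟩ := kn_main (G := ↥(Subgroup.normalizer (Q : Set G))) p M hM
    ((Subgroup.normalizer (Q : Set G) ⊓ N).subgroupOf (Subgroup.normalizer (Q : Set G)))
    (bt_trb φ' e) (bt_trb_isPBlock φ' e he) (Q.subgroupOf (Subgroup.normalizer (Q : Set G)))
    hQ₂L hD c hc hcov'
  refine ⟨P'.map (Subgroup.normalizer (Q : Set G)).subtype, Subgroup.map_subtype_le P', ?_, ?_⟩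
  · have h1 : (P'.map (Subgroup.normalizer (Q : Set G)).subtype).subgroupOf
        (Subgroup.normalizer (Q : Set G)) = P' :=
      Subgroup.comap_map_eq_self_of_injective (Subgroup.normalizer (Q : Set G)).subtype_injective P'
    rw [h1]
    exact hP'
  · ext y
    rw [Subgroup.mem_inf]
    constructor
    · rintro ⟨⟨k, hk, rfl⟩, hyN⟩
      have h1 : k ∈ P' ⊓ (Subgroup.normalizer (Q : Set G) ⊓ N).subgroupOf
          (Subgroup.normalizer (Q : Set G)) := by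
        rw [Subgroup.mem_inf, Subgroup.mem_subgroupOf, Subgroup.mem_inf]
        exact ⟨hk, k.2, hyN⟩
      rw [hP'L, Subgroup.mem_subgroupOf] at h1
      exact h1
    · intro hy
      have h1 : (⟨y, hQH hy⟩ : ↥(Subgroup.normalizer (Q : Set G))) ∈
          Q.subgroupOf (Subgroup.normalizer (Q : Set G)) := Subgroup.mem_subgroupOf.mpr hy
      rw [← hP'L, Subgroup.mem_inf] at h1
      exact ⟨⟨_, h1.1, rfl⟩, hQN hy⟩


/-- injectivity of the Harris–Knörr correspondence -/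
theorem hkn_part2_unique [Fintype G] (p : ℕ) [hp : Fact p.Prime] (M : Ideal Cfsg.AlgInt)
    (hM : Cfsg.IsPModular p M) (N : Subgroup G) [hN : N.Normal] (Q : Subgroup G) (hQN : Q ≤ N)
    [Fintype ↥(Subgroup.normalizer (Q : Set G) ⊓ N)]
    (e : Set (Cfsg.IrrCharacter ↥(Subgroup.normalizer (Q : Set G) ⊓ N)))
    (he : Cfsg.IsPBlock M e)
    (heQ : Cfsg.IsDefectGroup p M e (Q.subgroupOf (Subgroup.normalizer (Q : Set G) ⊓ N)))
    (B : Set (Cfsg.IrrCharacter G)) (hB : Cfsg.IsPBlock M B)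
    (c₁ c₂ : Set (Cfsg.IrrCharacter ↥(Subgroup.normalizer (Q : Set G))))
    (hc₁ : Cfsg.IsPBlock M c₁) (hc₂ : Cfsg.IsPBlock M c₂)
    (hcov₁ : ∃ ψ ∈ c₁, ∃ ξ ∈ e, Cfsg.classInner
      (fun l : ↥(Subgroup.normalizer (Q : Set G) ⊓ N) =>
        (ψ : ↥(Subgroup.normalizer (Q : Set G)) → ℂ)
          ⟨(l : G), (inf_le_left : Subgroup.normalizer (Q : Set G) ⊓ N ≤ _) l.2⟩)
        (ξ : ↥(Subgroup.normalizer (Q : Set G) ⊓ N) → ℂ) ≠ 0)
    (hcov₂ : ∃ ψ ∈ c₂, ∃ ξ ∈ e, Cfsg.classInner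
      (fun l : ↥(Subgroup.normalizer (Q : Set G) ⊓ N) =>
        (ψ : ↥(Subgroup.normalizer (Q : Set G)) → ℂ)
          ⟨(l : G), (inf_le_left : Subgroup.normalizer (Q : Set G) ⊓ N ≤ _) l.2⟩)
        (ξ : ↥(Subgroup.normalizer (Q : Set G) ⊓ N) → ℂ) ≠ 0)
    (hind₁ : Cfsg.IsInducedBlock M (Subgroup.normalizer (Q : Set G)) c₁ B)
    (hind₂ : Cfsg.IsInducedBlock M (Subgroup.normalizer (Q : Set G)) c₂ B) : c₁ = c₂ := by
  classical
  haveI : Fintype ↥(Subgroup.normalizer (Q : Set G)) := Fintype.ofFinite _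
  obtain ⟨P₁, hP₁H, hP₁, hP₁N⟩ := hkn_knorr_H p M hM N Q hQN e he heQ c₁ hc₁ hcov₁
  obtain ⟨P₂, hP₂H, hP₂, hP₂N⟩ := hkn_knorr_H p M hM N Q hQN e he heQ c₂ hc₂ hcov₂
  have hN₁ := hkn_normalizer_le P₁ N Q hP₁N
  have hN₂ := hkn_normalizer_le P₂ N Q hP₂N
  have hP₁p : IsPGroup p P₁ := by
    have h1 : IsPGroup p ↥(P₁.subgroupOf (Subgroup.normalizer (Q : Set G))) :=
      ef_isPGroup_of_defect hP₁
    exact h1.of_equiv (Subgroup.subgroupOfEquivOfLe hP₁H)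
  have hP₂p : IsPGroup p P₂ := by
    have h1 : IsPGroup p ↥(P₂.subgroupOf (Subgroup.normalizer (Q : Set G))) :=
      ef_isPGroup_of_defect hP₂
    exact h1.of_equiv (Subgroup.subgroupOfEquivOfLe hP₂H)
  obtain ⟨hBP₁, -⟩ := hkn_alpha p M hM _ P₁ hP₁p hP₁H hN₁ c₁ hc₁ hP₁ B hind₁
  obtain ⟨hBP₂, -⟩ := hkn_alpha p M hM _ P₂ hP₂p hP₂H hN₂ c₂ hc₂ hP₂ B hind₂
  obtain ⟨x, hx⟩ := qh_defect_conj p M hM B hB P₁ P₂ hBP₁ hBP₂
  have hxQ : x ∈ Subgroup.normalizer (Q : Set G) := by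
    rw [Subgroup.mem_normalizer_iff]
    intro q
    have h1 : q ∈ P₁ ↔ x * q * x⁻¹ ∈ P₂ := by
      rw [hx, Subgroup.mem_map_equiv, MulAut.conj_symm_apply]
      have e1 : x⁻¹ * (x * q * x⁻¹) * x = q := by group
      rw [e1]
    have h2 : q ∈ N ↔ x * q * x⁻¹ ∈ N := by
      constructor
      · intro h
        exact hN.conj_mem q h x
      · intro h
        have := hN.conj_mem _ h x⁻¹
        have e1 : x⁻¹ * (x * q * x⁻¹) * x⁻¹⁻¹ = q := by group
        rw [e1] at this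
        exact this
    have e1 : q ∈ Q ↔ q ∈ P₁ ∧ q ∈ N := by
      constructor
      · intro h
        have h' : q ∈ P₁ ⊓ N := by
          rw [hP₁N]
          exact h
        exact Subgroup.mem_inf.mp h'
      · intro h
        have h' : q ∈ P₁ ⊓ N := Subgroup.mem_inf.mpr h
        rw [hP₁N] at h'
        exact h'
    have e2 : x * q * x⁻¹ ∈ Q ↔ x * q * x⁻¹ ∈ P₂ ∧ x * q * x⁻¹ ∈ N := by
      constructor
      · intro h
        have h' : x * q * x⁻¹ ∈ P₂ ⊓ N := by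
          rw [hP₂N]
          exact h
        exact Subgroup.mem_inf.mp h'
      · intro h
        have h' : x * q * x⁻¹ ∈ P₂ ⊓ N := Subgroup.mem_inf.mpr h
        rw [hP₂N] at h'
        exact h'
    rw [e1, e2, h1, h2]
  have hconj := h7_isDefectGroup_conj (G := ↥(Subgroup.normalizer (Q : Set G))) p M c₁ _ hP₁
    ⟨x, hxQ⟩
  have hmap : (P₁.subgroupOf (Subgroup.normalizer (Q : Set G))).map
      (MulAut.conj (⟨x, hxQ⟩ : ↥(Subgroup.normalizer (Q : Set G)))).toMonoidHom =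
      P₂.subgroupOf (Subgroup.normalizer (Q : Set G)) := by
    ext k
    rw [Subgroup.mem_map_equiv, MulAut.conj_symm_apply, Subgroup.mem_subgroupOf,
      Subgroup.mem_subgroupOf, hx, Subgroup.mem_map_equiv, MulAut.conj_symm_apply]
    push_cast
    rfl
  rw [hmap] at hconj
  exact hkn_inj p M hM _ P₂ hP₂p hP₂H hN₂ c₁ c₂ hc₁ hc₂ hconj hP₂ B hind₁ hind₂

/-- S4674, the Harris–Knörr correspondence -/
theorem hkn_main [Fintype G] (p : ℕ) [hp : Fact p.Prime] (M : Ideal Cfsg.AlgInt)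
    (hM : Cfsg.IsPModular p M) (N : Subgroup G) [hN : N.Normal] [Fintype N] (Q : Subgroup G)
    (hQ : IsPGroup p Q) (hQN : Q ≤ N) [Fintype ↥(Subgroup.normalizer (Q : Set G) ⊓ N)]
    (d : Set (Cfsg.IrrCharacter N)) (hd : Cfsg.IsPBlock M d)
    (hdQ : Cfsg.IsDefectGroup p M d (Q.subgroupOf N))
    (e : Set (Cfsg.IrrCharacter ↥(Subgroup.normalizer (Q : Set G) ⊓ N)))
    (he : Cfsg.IsPBlock M e)
    (heQ : Cfsg.IsDefectGroup p M e (Q.subgroupOf (Subgroup.normalizer (Q : Set G) ⊓ N)))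
    (hed : Cfsg.IsInducedBlockIn M N (Subgroup.normalizer (Q : Set G) ⊓ N) e d) :
    (∀ c : Set (Cfsg.IrrCharacter ↥(Subgroup.normalizer (Q : Set G))), Cfsg.IsPBlock M c →
      (∃ ψ ∈ c, ∃ ξ ∈ e, Cfsg.classInner
        (fun l : ↥(Subgroup.normalizer (Q : Set G) ⊓ N) =>
          (ψ : ↥(Subgroup.normalizer (Q : Set G)) → ℂ) (Subgroup.inclusion inf_le_left l))
        (ξ : ↥(Subgroup.normalizer (Q : Set G) ⊓ N) → ℂ) ≠ 0) →
      ∃! B : Set (Cfsg.IrrCharacter G),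
        Cfsg.IsInducedBlock M (Subgroup.normalizer (Q : Set G)) c B ∧
        (∃ χ ∈ B, ∃ θ ∈ d, Cfsg.classInner (fun n : N => (χ : G → ℂ) n) (θ : N → ℂ) ≠ 0)) ∧
    (∀ B : Set (Cfsg.IrrCharacter G), Cfsg.IsPBlock M B →
      (∃ χ ∈ B, ∃ θ ∈ d, Cfsg.classInner (fun n : N => (χ : G → ℂ) n) (θ : N → ℂ) ≠ 0) →
      ∃! c : Set (Cfsg.IrrCharacter ↥(Subgroup.normalizer (Q : Set G))),
        (Cfsg.IsPBlock M c ∧ ∃ ψ ∈ c, ∃ ξ ∈ e, Cfsg.classInner
          (fun l : ↥(Subgroup.normalizer (Q : Set G) ⊓ N) =>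
            (ψ : ↥(Subgroup.normalizer (Q : Set G)) → ℂ) (Subgroup.inclusion inf_le_left l))
          (ξ : ↥(Subgroup.normalizer (Q : Set G) ⊓ N) → ℂ) ≠ 0) ∧
        Cfsg.IsInducedBlock M (Subgroup.normalizer (Q : Set G)) c B) := by
  constructor
  · intro c hc hcov
    exact hkn_part1 p M hM N Q hQ d e hed c hc hcov
  · intro B hB hcovB
    obtain ⟨c, hindc, hcovc⟩ := hkn_part2_exists p M hM N Q hQ hQN d hd hdQ e heQ hed B hB hcovB
    refine ⟨c, ⟨⟨hindc.1, hcovc⟩, hindc⟩, ?_⟩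
    rintro c' ⟨⟨hc', hcov'⟩, hind'⟩
    exact hkn_part2_unique p M hM N Q hQN e he heQ B hB c' c hc' hindc.1 hcov' hcovc hind' hindc

end

end Cfsg.Agent.Lib.Helper26
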