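import Mathlib
import Cfsg.Prelude.Def_ChevStructure
import Cfsg.Agent.Lib.helper14.INV.F4Defs

set_option autoImplicit false

namespace Cfsg.Agent.Lib.helper14.INV

open Cfsg.Lie Cfsg.Lie.ChevalleyDatum Cfsg.Agent.Lib.helper8 Cfsg.Agent.Lib.helper14

universe u

variable {F : Type u} [Field F]

theorem invwmove_single [CharP F 2] (D : ChevalleyDatum) (hB : H8Base.{u} D) (hA : H8ReflAll D)
    (i : ℕ) (hi : i < D.rank) (s : ℕ) (hs : s < D.nroots) :
    h8nU D hB (D.simple i) (1 : F) * h8xU D hB s (1 : F) * (h8nU D hB (D.simple i) (1 : F))⁻¹ =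
      h8xU D hB (D.reflectRoot i s) (1 : F) := by
  obtain ⟨η, hη, h⟩ := h8n_simple_conj_all (F := F) D hA i s hi hs
  rw [mul_inv_eq_iff_eq_mul]
  apply Units.ext
  rw [Units.val_mul, Units.val_mul, h8nU_val, h8xU_val, h8xU_val, h 1]
  congr 2
  rcases hη with rfl | rfl
  · simp
  · simp only [Int.reduceNeg, Int.cast_neg, Int.cast_one, mul_one]
    exact CharTwo.neg_eq (1 : F)

theorem invwmove_w1_cons (D : ChevalleyDatum) (hB : H8Base.{u} D) (r : ℕ) (w : List ℕ) :
    (w1 D hB (r :: w) : GL D.Idx F) = h8xU D hB r (1 : F) * w1 D hB w := by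
  unfold w1 h8wordU
  simp only [List.map_cons, List.prod_cons]

theorem invwmove_w1_nil (D : ChevalleyDatum) (hB : H8Base.{u} D) :
    (w1 D hB [] : GL D.Idx F) = 1 := by
  unfold w1 h8wordU
  simp

/-- WMOVE : conjugating `∏ x_r(1)` by `n_i` (characteristic two) -/
theorem conj_nU_w1 [CharP F 2] (D : ChevalleyDatum) (hB : H8Base.{u} D) (hA : H8ReflAll D)
    (i : ℕ) (hi : i < D.rank) (w : List ℕ) (hw : ∀ r ∈ w, r < D.nroots) :
    h8nU D hB (D.simple i) (1 : F) * w1 D hB w * (h8nU D hB (D.simple i) (1 : F))⁻¹ =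
      w1 D hB (w.map (D.reflectRoot i)) := by
  induction w with
  | nil =>
    rw [List.map_nil, invwmove_w1_nil]
    group
  | cons r w ih =>
    rw [List.map_cons, invwmove_w1_cons, invwmove_w1_cons,
      ← invwmove_single D hB hA i hi r (hw r List.mem_cons_self),
      ← ih (fun s hs => hw s (List.mem_cons_of_mem _ hs))]
    group

end Cfsg.Agent.Lib.helper14.INV
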