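import Mathlib
import Cfsg.Agent.Lib.Helper28.IPB.Defs
import Cfsg.Agent.Lib.Helper24.FSCount
import Cfsg.Agent.S0133

/-!
# IPB piece C1 : a nontrivial class of size at most `f^2` (pure counting)
-/

set_option autoImplicit false
open scoped commutatorElement

namespace Cfsg.Agent.Lib.Helper28.IPB

universe u

/-- the number of commuting pairs is the sum of the centralizer orders -/
theorem ipbc1_card_comm (X : Type u) [Group X] [Fintype X] :
    Nat.card {p : X × X // Commute p.1 p.2} =
      ∑ x : X, Nat.card (Subgroup.centralizer ({x} : Set X)) := by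
  classical
  rw [Nat.card_congr (Equiv.subtypeProdEquivSigmaSubtype (fun x y : X => Commute x y)),
    Nat.card_sigma]
  apply Finset.sum_congr rfl
  intro x _
  apply Nat.card_congr
  refine Equiv.subtypeEquivRight (fun y => ?_)
  rw [Subgroup.mem_centralizer_iff]
  constructor
  · intro h z hz
    rw [Set.mem_singleton_iff] at hz
    rw [hz]
    exact h.eq
  · intro h
    exact h x (Set.mem_singleton x)

/-- the character side: `|X| - 1 ≤ (k - 1) f^2` -/
theorem ipbc1_char_side (X : Type u) [Group X] [Finite X] {f : ℕ} (hX : DegLe X f) :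
    Nat.card X + f ^ 2 ≤ 1 + Nat.card (ConjClasses X) * f ^ 2 := by
  classical
  have := Fintype.ofFinite X
  have : Fintype (Cfsg.IrrCharacter X) := Fintype.ofFinite _
  have h := Cfsg.Agent.Lib.Helper24.fs_sum_sq_erase (G := X)
  have hk : (Finset.univ.erase (Cfsg.Agent.Lib.Helper25.trivIrr X)).card + 1 =
      Nat.card (ConjClasses X) := by
    rw [Finset.card_erase_of_mem (Finset.mem_univ _), Finset.card_univ,
      ← Nat.card_eq_fintype_card, Cfsg.Agent.S0133.result]
    have : 0 < Nat.card (ConjClasses X) := Nat.card_pos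
    omega
  have hle : ∑ χ ∈ Finset.univ.erase (Cfsg.Agent.Lib.Helper25.trivIrr X),
      ((Cfsg.charDegree (χ : X → ℂ) : ℤ)) ^ 2 ≤
      ((Finset.univ.erase (Cfsg.Agent.Lib.Helper25.trivIrr X)).card : ℤ) * (f : ℤ) ^ 2 := by
    rw [← nsmul_eq_mul, ← Finset.sum_const]
    apply Finset.sum_le_sum
    intro χ _
    have := hX χ
    have h0 : (0 : ℤ) ≤ (Cfsg.charDegree (χ : X → ℂ) : ℤ) := Int.natCast_nonneg _
    have h1 : (Cfsg.charDegree (χ : X → ℂ) : ℤ) ≤ (f : ℤ) := by exact_mod_cast this
    nlinarith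
  rw [h] at hle
  have hk' : ((Finset.univ.erase (Cfsg.Agent.Lib.Helper25.trivIrr X)).card : ℤ) =
      (Nat.card (ConjClasses X) : ℤ) - 1 := by
    have : (((Finset.univ.erase (Cfsg.Agent.Lib.Helper25.trivIrr X)).card + 1 : ℕ) : ℤ) =
        (Nat.card (ConjClasses X) : ℤ) := by rw [hk]
    push_cast at this
    linarith
  rw [hk'] at hle
  have h2 : (Nat.card X : ℤ) + (f : ℤ) ^ 2 ≤ 1 + (Nat.card (ConjClasses X) : ℤ) * (f : ℤ) ^ 2 := by
    linarith
  exact_mod_cast h2

-- piece C1 (counting)
theorem exists_small_class (X : Type u) [Group X] [Finite X] [Nontrivial X] {f : ℕ}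
    (hX : DegLe X f) :
    ∃ x : X, x ≠ 1 ∧ (Subgroup.centralizer ({x} : Set X)).index ≤ f ^ 2 := by
  classical
  have := Fintype.ofFinite X
  by_contra hcon
  push Not at hcon
  have hn : 1 < Nat.card X := Finite.one_lt_card
  have h1 : Nat.card (ConjClasses X) * Nat.card X =
      ∑ x : X, Nat.card (Subgroup.centralizer ({x} : Set X)) := by
    rw [← card_comm_eq_card_conjClasses_mul_card, ipbc1_card_comm]
  have h2 : ∀ x : X, x ≠ 1 →
      Nat.card (Subgroup.centralizer ({x} : Set X)) * (f ^ 2 + 1) ≤ Nat.card X := by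
    intro x hx
    have h := hcon x hx
    calc Nat.card (Subgroup.centralizer ({x} : Set X)) * (f ^ 2 + 1)
        ≤ Nat.card (Subgroup.centralizer ({x} : Set X)) *
          (Subgroup.centralizer ({x} : Set X)).index := Nat.mul_le_mul_left _ h
      _ = Nat.card X := Subgroup.card_mul_index _
  have h3 : Nat.card (Subgroup.centralizer ({(1 : X)} : Set X)) = Nat.card X := by
    have : Subgroup.centralizer ({(1 : X)} : Set X) = ⊤ := by
      rw [Subgroup.centralizer_eq_top_iff_subset]
      intro x hx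
      rw [Set.mem_singleton_iff] at hx
      rw [hx]
      exact Subgroup.one_mem _
    rw [this, Subgroup.card_top]
  have h4 : (∑ x : X, Nat.card (Subgroup.centralizer ({x} : Set X))) * (f ^ 2 + 1) ≤
      Nat.card X * (f ^ 2 + 1) + (Nat.card X - 1) * Nat.card X := by
    rw [← Finset.add_sum_erase Finset.univ _ (Finset.mem_univ (1 : X)), h3, add_mul,
      Finset.sum_mul]
    apply Nat.add_le_add_left
    calc ∑ x ∈ Finset.univ.erase (1 : X),
          Nat.card (Subgroup.centralizer ({x} : Set X)) * (f ^ 2 + 1)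
        ≤ ∑ _x ∈ Finset.univ.erase (1 : X), Nat.card X := by
          apply Finset.sum_le_sum
          intro x hx
          exact h2 x (Finset.ne_of_mem_erase hx)
      _ = (Nat.card X - 1) * Nat.card X := by
          rw [Finset.sum_const, Finset.card_erase_of_mem (Finset.mem_univ _), Finset.card_univ,
            ← Nat.card_eq_fintype_card, smul_eq_mul]
  rw [← h1] at h4
  -- divide by `n`
  have h5 : Nat.card (ConjClasses X) * (f ^ 2 + 1) ≤ (f ^ 2 + 1) + (Nat.card X - 1) := by
    have hpos : 0 < Nat.card X := by omega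
    apply Nat.le_of_mul_le_mul_left _ hpos
    calc Nat.card X * (Nat.card (ConjClasses X) * (f ^ 2 + 1))
        = Nat.card (ConjClasses X) * Nat.card X * (f ^ 2 + 1) := by ring
      _ ≤ Nat.card X * (f ^ 2 + 1) + (Nat.card X - 1) * Nat.card X := h4
      _ = Nat.card X * ((f ^ 2 + 1) + (Nat.card X - 1)) := by ring
  have h6 := ipbc1_char_side X hX
  -- `k (f^2+1) ≤ f^2 + n` and `n + f^2 ≤ 1 + k f^2` give `k ≤ 1`
  have hk1 : Nat.card (ConjClasses X) ≤ 1 := by
    have e : Nat.card (ConjClasses X) * (f ^ 2 + 1) =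
        Nat.card (ConjClasses X) * f ^ 2 + Nat.card (ConjClasses X) := by ring
    rw [e] at h5
    omega
  have hk0 : 0 < Nat.card (ConjClasses X) := Nat.card_pos
  have hk : Nat.card (ConjClasses X) = 1 := by omega
  rw [hk] at h6
  omega

end Cfsg.Agent.Lib.Helper28.IPB
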