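import Mathlib

/-!
# IPB piece C2A : the centralizer of a nontrivial element is core-free when every nontrivial normal
subgroup contains the (nonabelian) derived subgroup.  Mathlib only.
-/

set_option autoImplicit false
open scoped commutatorElement

namespace Cfsg.Agent.Lib.Helper28.IPB

universe u

/-- a group whose derived subgroup is abelian is solvable -/
theorem ipbc2a_solvable_of_comm_le (X : Type u) [Group X]
    (h : commutator X ≤ Subgroup.centralizer (commutator X : Set X)) : Group.IsSolvable X := by
  rw [Group.isSolvable_def]
  refine ⟨2, ?_⟩
  have h1 : derivedSeries X 1 = commutator X := by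
    rw [derivedSeries_succ, derivedSeries_zero, commutator_def]
  rw [derivedSeries_succ, h1, Subgroup.commutator_eq_bot_iff_le_centralizer]
  exact h

-- piece C2A (pure group theory)
theorem centralizer_core_bot (X : Type u) [Group X] (hns : ¬ Group.IsSolvable X)
    (hq : ∀ N : Subgroup X, N.Normal → N ≠ ⊥ → commutator X ≤ N) (x : X) (hx : x ≠ 1) :
    (Subgroup.centralizer ({x} : Set X)).normalCore = ⊥ := by
  by_contra hC
  have h1 : commutator X ≤ (Subgroup.centralizer ({x} : Set X)).normalCore :=
    hq _ (Subgroup.normalCore_normal _) hC
  have h2 : commutator X ≤ Subgroup.centralizer ({x} : Set X) :=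
    h1.trans (Subgroup.normalCore_le _)
  have : (commutator X).Normal := by
    rw [commutator_def]
    infer_instance
  have hxD : x ∈ Subgroup.centralizer (commutator X : Set X) := by
    rw [Subgroup.mem_centralizer_iff]
    intro h hh
    have := h2 hh
    rw [Subgroup.mem_centralizer_iff] at this
    exact (this x (Set.mem_singleton x)).symm
  have hD : Subgroup.centralizer (commutator X : Set X) ≠ ⊥ := by
    intro h
    rw [h, Subgroup.mem_bot] at hxD
    exact hx hxD
  have h3 : commutator X ≤ Subgroup.centralizer (commutator X : Set X) :=
    hq _ inferInstance hD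
  exact hns (ipbc2a_solvable_of_comm_le X h3)

end Cfsg.Agent.Lib.Helper28.IPB
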