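import Mathlib
import Cfsg.Agent.Lib.Helper28.IPB.Basic
import Cfsg.Agent.Lib.Helper26.IPBC1
import Cfsg.Agent.Lib.Helper26.IPBC2A

/-!
# IPB piece C2 : transport of C1 + C2A to `G` (a core-free-over-`K` subgroup of index at most `b^2`)
-/

set_option autoImplicit false
open scoped commutatorElement

namespace Cfsg.Agent.Lib.Helper28.IPB

universe u

variable {G : Type u} [Group G]

/-- the preimage of a subgroup of `G ⧸ K` with trivial core has core `K` -/
theorem ipbc2_core_comap (K : Subgroup G) [K.Normal] (C : Subgroup (G ⧸ K))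
    (hC : C.normalCore = ⊥) : (C.comap (QuotientGroup.mk' K)).normalCore = K := by
  apply le_antisymm
  · intro g hg
    have hmap : ((C.comap (QuotientGroup.mk' K)).normalCore).map (QuotientGroup.mk' K) ≤
        C.normalCore := by
      have hn : (((C.comap (QuotientGroup.mk' K)).normalCore).map (QuotientGroup.mk' K)).Normal :=
        Subgroup.Normal.map (Subgroup.normalCore_normal _) _ (QuotientGroup.mk'_surjective K)
      apply Subgroup.normal_le_normalCore.mpr
      rw [Subgroup.map_le_iff_le_comap]
      exact Subgroup.normalCore_le _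
    have h1 : (QuotientGroup.mk' K) g ∈ C.normalCore :=
      hmap (Subgroup.mem_map_of_mem _ hg)
    rw [hC, Subgroup.mem_bot] at h1
    have h2 : g ∈ (QuotientGroup.mk' K).ker := by
      rw [MonoidHom.mem_ker]
      exact h1
    rwa [QuotientGroup.ker_mk'] at h2
  · apply Subgroup.normal_le_normalCore.mpr
    intro g hg
    rw [Subgroup.mem_comap]
    have : (QuotientGroup.mk' K) g = 1 := by
      rw [← MonoidHom.mem_ker, QuotientGroup.ker_mk']
      exact hg
    rw [this]
    exact C.one_mem

-- piece C2 (transport of C1 + C2A to `G`)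
theorem exists_corefree [Finite G] {b : ℕ} (hG : DegLe G b) (K : Subgroup G) [K.Normal]
    (hK : ¬ commutator G ≤ K) (hns : ¬ Group.IsSolvable (G ⧸ K))
    (hmax : ∀ N : Subgroup G, N.Normal → K < N → commutator G ≤ N) :
    ∃ H : Subgroup G, K ≤ H ∧ H.index ≤ b ^ 2 ∧ H.normalCore = K := by
  have hq := quot_hyps K hK hmax
  have hdeg : DegLe (G ⧸ K) b := degLe_quot hG K
  have hnt : Nontrivial (G ⧸ K) := by
    by_contra hcon
    rw [not_nontrivial_iff_subsingleton] at hcon
    exact hns inferInstance
  obtain ⟨x, hx1, hxi⟩ := exists_small_class (G ⧸ K) hdeg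
  have hcore := centralizer_core_bot (G ⧸ K) hns hq.2 x hx1
  refine ⟨(Subgroup.centralizer ({x} : Set (G ⧸ K))).comap (QuotientGroup.mk' K), ?_, ?_, ?_⟩
  · intro g hg
    rw [Subgroup.mem_comap]
    have : (QuotientGroup.mk' K) g = 1 := by
      rw [← MonoidHom.mem_ker, QuotientGroup.ker_mk']
      exact hg
    rw [this]
    exact Subgroup.one_mem _
  · rw [Subgroup.index_comap_of_surjective _ (QuotientGroup.mk'_surjective K)]
    exact hxi
  · exact ipbc2_core_comap K _ hcore

end Cfsg.Agent.Lib.Helper28.IPB
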