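import Cfsg.Agent.Lib.Helper26.AlperinInd

set_option autoImplicit false

namespace Cfsg.Agent.Lib.Helper26

open Cfsg Cfsg.FusionSystem

section KNorm

variable {Ω : Type*} [Group Ω] {S : Subgroup Ω}

/-- `N^K_S(Q)`: the elements of `S` whose conjugation action on `Q` is an element of `K`. -/
def NK (S Q : Subgroup Ω) (K : Subgroup (MulAut Q)) : Subgroup Ω where
  carrier := {g | g ∈ S ∧ ∃ κ ∈ K, ∀ x : Q, ((κ x : Q) : Ω) = g * (x : Ω) * g⁻¹}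
  one_mem' := ⟨S.one_mem, 1, K.one_mem, fun x => by simp⟩
  mul_mem' := by
    rintro g h ⟨hg, κ, hκ, hκe⟩ ⟨hh, κ', hκ', hκ'e⟩
    refine ⟨S.mul_mem hg hh, κ * κ', K.mul_mem hκ hκ', fun x => ?_⟩
    rw [MulAut.mul_apply, hκe, hκ'e]
    group
  inv_mem' := by
    rintro g ⟨hg, κ, hκ, hκe⟩
    refine ⟨S.inv_mem hg, κ⁻¹, K.inv_mem hκ, fun x => ?_⟩
    have h1 := hκe (κ⁻¹ x)
    rw [MulAut.apply_inv_self] at h1
    rw [h1]
    group

theorem mem_NK_iff {Q : Subgroup Ω} {K : Subgroup (MulAut Q)} {g : Ω} :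
    g ∈ NK S Q K ↔ g ∈ S ∧ ∃ κ ∈ K, ∀ x : Q, ((κ x : Q) : Ω) = g * (x : Ω) * g⁻¹ := Iff.rfl

theorem NK_le (Q : Subgroup Ω) (K : Subgroup (MulAut Q)) : NK S Q K ≤ S := fun _ h => h.1

theorem NK_le_normalizerIn (Q : Subgroup Ω) (K : Subgroup (MulAut Q)) :
    NK S Q K ≤ normalizerIn S Q := by
  rintro g ⟨hg, κ, -, hκe⟩
  exact ⟨hg, mem_normalizer_of_conj_aut hκe⟩

theorem NK_mono {Q : Subgroup Ω} {K K' : Subgroup (MulAut Q)} (h : K ≤ K') :
    NK S Q K ≤ NK S Q K' := by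
  rintro g ⟨hg, κ, hκ, hκe⟩
  exact ⟨hg, κ, h hκ, hκe⟩

theorem NK_top (S Q : Subgroup Ω) : NK S Q ⊤ = normalizerIn S Q := by
  apply le_antisymm (NK_le_normalizerIn Q ⊤)
  rintro g ⟨hg, hgN⟩
  exact ⟨hg, conjAut Q g hgN, Subgroup.mem_top _, fun x => rfl⟩

theorem NK_bot (S Q : Subgroup Ω) : NK S Q ⊥ = centralizerIn S Q := by
  ext g
  constructor
  · rintro ⟨hg, κ, hκ, hκe⟩
    rw [Subgroup.mem_bot] at hκ
    subst hκ
    refine ⟨hg, ?_⟩
    show g ∈ Subgroup.centralizer (Q : Set Ω)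
    rw [Subgroup.mem_centralizer_iff]
    intro x hx
    have h1 := hκe ⟨x, hx⟩
    simp only [MulAut.one_apply] at h1
    calc x * g = (g * x * g⁻¹) * g := by rw [← h1]
      _ = g * x := by group
  · rintro ⟨hg, hgC⟩
    have hgC' : g ∈ Subgroup.centralizer (Q : Set Ω) := hgC
    rw [Subgroup.mem_centralizer_iff] at hgC'
    have hgC := hgC'
    refine ⟨hg, 1, Subgroup.one_mem _, fun x => ?_⟩
    rw [MulAut.one_apply, ← hgC x x.2]
    group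

theorem centralizerIn_le_NK (Q : Subgroup Ω) (K : Subgroup (MulAut Q)) :
    centralizerIn S Q ≤ NK S Q K := by
  rw [← NK_bot]
  exact NK_mono bot_le

/-- Transport of a group of automorphisms along an isomorphism. -/
def Kmap {Q Q' : Subgroup Ω} (e : Q ≃* Q') (K : Subgroup (MulAut Q)) : Subgroup (MulAut Q') :=
  K.map (MulAut.congr e).toMonoidHom

theorem mem_Kmap_iff {Q Q' : Subgroup Ω} {e : Q ≃* Q'} {K : Subgroup (MulAut Q)}
    {β : MulAut Q'} : β ∈ Kmap e K ↔ ∃ κ ∈ K, MulAut.congr e κ = β := Iff.rfl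

theorem congr_mem_Kmap {Q Q' : Subgroup Ω} (e : Q ≃* Q') {K : Subgroup (MulAut Q)}
    {κ : MulAut Q} (h : κ ∈ K) : MulAut.congr e κ ∈ Kmap e K := ⟨κ, h, rfl⟩

theorem congr_apply {Q Q' : Subgroup Ω} (e : Q ≃* Q') (κ : MulAut Q) (y : Q') :
    MulAut.congr e κ y = e (κ (e.symm y)) := rfl

theorem Kmap_trans {Q Q' Q'' : Subgroup Ω} (e : Q ≃* Q') (e' : Q' ≃* Q'')
    (K : Subgroup (MulAut Q)) : Kmap (e.trans e') K = Kmap e' (Kmap e K) := by
  unfold Kmap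
  rw [Subgroup.map_map]
  rfl

theorem Kmap_refl {Q : Subgroup Ω} (K : Subgroup (MulAut Q)) : Kmap (MulEquiv.refl Q) K = K := by
  ext β
  rw [mem_Kmap_iff]
  constructor
  · rintro ⟨κ, hκ, rfl⟩
    exact hκ
  · intro h
    exact ⟨β, h, rfl⟩

theorem Kmap_symm {Q Q' : Subgroup Ω} (e : Q ≃* Q') (K : Subgroup (MulAut Q)) :
    Kmap e.symm (Kmap e K) = K := by
  rw [← Kmap_trans]
  ext β
  rw [mem_Kmap_iff]
  constructor
  · rintro ⟨κ, hκ, rfl⟩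
    have : MulAut.congr (e.trans e.symm) κ = κ := by
      ext x
      simp
    rw [this]
    exact hκ
  · intro h
    refine ⟨β, h, ?_⟩
    ext x
    simp

theorem Kmap_symm' {Q Q' : Subgroup Ω} (e : Q ≃* Q') (K : Subgroup (MulAut Q')) :
    Kmap e (Kmap e.symm K) = K := by
  have := Kmap_symm e.symm K
  rwa [MulEquiv.symm_symm] at this

theorem Kmap_top {Q Q' : Subgroup Ω} (e : Q ≃* Q') : Kmap e (⊤ : Subgroup (MulAut Q)) = ⊤ := by
  rw [eq_top_iff]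
  intro β _
  refine ⟨MulAut.congr e.symm β, Subgroup.mem_top _, ?_⟩
  ext x
  simp

theorem Kmap_bot {Q Q' : Subgroup Ω} (e : Q ≃* Q') : Kmap e (⊥ : Subgroup (MulAut Q)) = ⊥ :=
  Subgroup.map_bot _

/-- `Kmap` by an automorphism in `K` fixes `K`. -/
theorem Kmap_of_mem {Q : Subgroup Ω} {K : Subgroup (MulAut Q)} {χ : MulAut Q} (hχ : χ ∈ K) :
    Kmap χ K = K := by
  ext β
  rw [mem_Kmap_iff]
  constructor
  · rintro ⟨κ, hκ, rfl⟩
    have : MulAut.congr χ κ = χ * κ * χ⁻¹ := by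
      ext x
      rfl
    rw [this]
    exact K.mul_mem (K.mul_mem hχ hκ) (K.inv_mem hχ)
  · intro h
    refine ⟨χ⁻¹ * β * χ, K.mul_mem (K.mul_mem (K.inv_mem hχ) h) hχ, ?_⟩
    ext x
    show ((χ * (χ⁻¹ * β * χ) * χ⁻¹) x : Ω) = β x
    have : χ * (χ⁻¹ * β * χ) * χ⁻¹ = β := by group
    rw [this]

/-- `Q` is fully `K`-normalized in `F`. -/
def FullyKNormalized (F : FusionSystem S) (Q : Subgroup Ω) (K : Subgroup (MulAut Q)) : Prop :=
  Q ≤ S ∧ ∀ (Q' : Subgroup Ω) (e : Q ≃* Q'), IsIso F e →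
    Nat.card (NK S Q' (Kmap e K)) ≤ Nat.card (NK S Q K)

theorem exists_fullyKNormalized [Finite S] (F : FusionSystem S) {Q : Subgroup Ω} (hQ : Q ≤ S)
    (K : Subgroup (MulAut Q)) :
    ∃ (Q' : Subgroup Ω) (e : Q ≃* Q'), IsIso F e ∧ FullyKNormalized F Q' (Kmap e K) := by
  let s : Set (Σ Q' : Subgroup Ω, Q ≃* Q') := {x | IsIso F x.2}
  have hs : s.Nonempty := ⟨⟨Q, MulEquiv.refl Q⟩, isIso_refl F hQ⟩
  obtain ⟨x, hx, hmax⟩ := exists_max_nat s hs (fun x => Nat.card (NK S x.1 (Kmap x.2 K)))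
    (Nat.card S) (fun x _ => card_le_card_of_le_of_finite (NK_le _ _))
  refine ⟨x.1, x.2, hx, hx.target_le, fun Q'' e' he' => ?_⟩
  have h1 := hmax ⟨Q'', x.2.trans e'⟩ (hx.trans he')
  simp only at h1
  rw [Kmap_trans] at h1
  exact h1

end KNorm

end Cfsg.Agent.Lib.Helper26
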