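import Cfsg.Agent.Lib.Helper26.KNorm

set_option autoImplicit false

namespace Cfsg.Agent.Lib.Helper26

open Cfsg Cfsg.FusionSystem

section GroupLemmas

variable {G : Type*} [Group G]

/-- Sylow conjugation: for `R` Sylow in `A`, `H ≤ A` and a `p`-subgroup `B ≤ H`, some `χ ∈ A`
conjugates `B` into `R` and makes `R ⊓ χHχ⁻¹` a Sylow subgroup of `χHχ⁻¹`. -/
theorem exists_conj_inf_isSylowIn [Finite G] {p : ℕ} [Fact p.Prime] {R A H B : Subgroup G}
    (hR : Helper18.IsSylowIn p R A) (hH : H ≤ A) (hB : B ≤ H) (hBp : IsPGroup p B) :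
    ∃ χ ∈ A, Helper18.conjSub χ B ≤ R ∧
      Helper18.IsSylowIn p (R ⊓ Helper18.conjSub χ H) (Helper18.conjSub χ H) := by
  have hBp' : IsPGroup p (B.subgroupOf H) := hBp.comap_subtype
  obtain ⟨T', hT'⟩ := hBp'.exists_le_sylow
  have hT := Helper18.isSylowIn_of_sylow T'
  have hBT : B ≤ (T' : Subgroup H).map H.subtype := by
    intro x hx
    exact ⟨⟨x, hB hx⟩, hT' (Subgroup.mem_subgroupOf.mpr hx), rfl⟩
  obtain ⟨χ, hχ, hle⟩ := hR.exists_conj_le (hT.le.trans hH) hT.isPGroup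
  refine ⟨χ, hχ, (Helper18.conjSub_mono hBT).trans hle, ?_⟩
  have hT2 := hT.conjSub χ
  have h1 : R ⊓ Helper18.conjSub χ H = Helper18.conjSub χ ((T' : Subgroup H).map H.subtype) :=
    hT2.eq_of_le inf_le_right (hR.isPGroup.to_le inf_le_left) (le_inf hle hT2.le)
  rw [h1]
  exact hT2

theorem IsSylowIn18.map {G' : Type*} [Group G'] {p : ℕ} {R A : Subgroup G}
    (h : Helper18.IsSylowIn p R A) (f : G →* G') :
    Helper18.IsSylowIn p (R.map f) (A.map f) := by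
  refine ⟨Subgroup.map_mono h.le, h.isPGroup.map f, fun hd => h.not_dvd ?_⟩
  have h1 : (R.map f).relIndex (A.map f) = (R ⊔ f.ker).relIndex A := by
    rw [← Subgroup.relIndex_comap, Subgroup.comap_map_eq]
  rw [h1] at hd
  exact dvd_trans hd (Subgroup.relIndex_dvd_of_le_left A le_sup_left)

theorem IsSylowIn18.of_map_injective {G' : Type*} [Group G'] {p : ℕ} {R A : Subgroup G}
    (f : G →* G') (hf : Function.Injective f) (hRA : R ≤ A)
    (h : Helper18.IsSylowIn p (R.map f) (A.map f)) : Helper18.IsSylowIn p R A := by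
  refine ⟨hRA, ?_, ?_⟩
  · have := h.isPGroup
    exact this.of_equiv (R.equivMapOfInjective f hf).symm
  · rw [← Subgroup.relIndex_map_map_of_injective R A hf]
    exact h.not_dvd

end GroupLemmas

section Prop52

variable {Ω : Type*} [Group Ω] {S : Subgroup Ω}

theorem finite_mulAut_of_le [Finite S] {Q : Subgroup Ω} (hQ : Q ≤ S) : Finite (MulAut Q) := by
  haveI : Finite Q := finite_of_le hQ
  have : Finite (Q → Q) := inferInstance
  exact Finite.of_injective (fun α : MulAut Q => (α : Q → Q))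
    (fun α β h => MulEquiv.ext (congrFun h))

theorem congr_eq_conj {Q : Subgroup Ω} (χ κ : MulAut Q) :
    MulAut.congr χ κ = MulAut.conj χ κ := by
  ext x
  rfl

theorem Kmap_aut_eq_conjSub {Q : Subgroup Ω} (χ : MulAut Q) (K : Subgroup (MulAut Q)) :
    Kmap χ K = Helper18.conjSub χ K := by
  ext β
  constructor
  · rintro ⟨κ, hκ, rfl⟩
    exact ⟨κ, hκ, (congr_eq_conj χ κ).symm⟩
  · rintro ⟨κ, hκ, rfl⟩
    exact ⟨κ, hκ, congr_eq_conj χ κ⟩

theorem map_congr_autGroup {F : FusionSystem S} {Q Q' : Subgroup Ω} {e : Q ≃* Q'}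
    (he : IsIso F e) : Kmap e (F.autGroup Q) = F.autGroup Q' := by
  apply le_antisymm
  · rintro _ ⟨α, hα, rfl⟩
    exact congr_mem_autGroup he hα
  · intro β hβ
    refine ⟨MulAut.congr e.symm β, congr_mem_autGroup he.symm hβ, ?_⟩
    ext x
    simp

theorem Kmap_inf {Q Q' : Subgroup Ω} (e : Q ≃* Q') (A K : Subgroup (MulAut Q)) :
    Kmap e (A ⊓ K) = Kmap e A ⊓ Kmap e K :=
  Subgroup.map_inf _ _ _ (MulAut.congr e).injective

/-- (P1): every `Q ≤ S` has a fully normalized `F`-conjugate `Q₀` in which `Aut^K_S` is Sylow in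
`Aut^K_F`, for the transported `K`. -/
theorem exists_iso_sylow [Finite S] {p : ℕ} [Fact p.Prime] (hS : IsPGroup p S)
    (F : FusionSystem S) (hF : F.IsSaturated p) {Q : Subgroup Ω} (hQ : Q ≤ S)
    (K : Subgroup (MulAut Q)) :
    ∃ (Q₀ : Subgroup Ω) (e₀ : Q ≃* Q₀), IsIso F e₀ ∧ F.IsFullyNormalized Q₀ ∧
      Helper18.IsSylowIn p (autInducedBy S Q₀ ⊓ Kmap e₀ K) (F.autGroup Q₀ ⊓ Kmap e₀ K) := by
  obtain ⟨Q₁, hQQ₁, hfn⟩ := exists_fullyNormalized_conj F hQ
  obtain ⟨e₁, he₁⟩ := exists_iso_of_isConj F hQQ₁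
  have hQ₁S : Q₁ ≤ S := hfn.1
  haveI : Finite (MulAut Q₁) := finite_mulAut_of_le hQ₁S
  have hfa := (saturated_fullyNormalized hS F hF hfn).2.1
  have hR := isSylowIn18_of_fullyAutomized F hfa
  obtain ⟨χ, hχ, -, hsyl⟩ := exists_conj_inf_isSylowIn (B := ⊥) hR
    (inf_le_left : F.autGroup Q₁ ⊓ Kmap e₁ K ≤ F.autGroup Q₁) bot_le IsPGroup.of_bot
  have hχiso : IsIso F χ := (isIso_iff_mem_autGroup F hQ₁S χ).mpr hχ
  refine ⟨Q₁, e₁.trans χ, he₁.trans hχiso, hfn, ?_⟩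
  have h1 : Helper18.conjSub χ (F.autGroup Q₁ ⊓ Kmap e₁ K) =
      F.autGroup Q₁ ⊓ Kmap (e₁.trans χ) K := by
    rw [Kmap_trans, ← Kmap_aut_eq_conjSub, Kmap_inf, map_congr_autGroup hχiso]
  rw [h1] at hsyl
  have h2 : autInducedBy S Q₁ ⊓ (F.autGroup Q₁ ⊓ Kmap (e₁.trans χ) K) =
      autInducedBy S Q₁ ⊓ Kmap (e₁.trans χ) K := by
    rw [← inf_assoc, inf_of_le_left (autInducedBy_le_autGroup F hQ₁S)]
  rw [h2] at hsyl
  exact hsyl

/-- (P2): extension of an isomorphism onto a receptive subgroup with the Sylow property to the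
`K`-normalizer. -/
theorem exists_extension [Finite S] {p : ℕ} [Fact p.Prime] (hS : IsPGroup p S)
    (F : FusionSystem S) {Q Q₀ : Subgroup Ω} {K : Subgroup (MulAut Q)} (e : Q ≃* Q₀)
    (he : IsIso F e) (hrec : F.IsReceptive Q₀)
    (hsyl : Helper18.IsSylowIn p (autInducedBy S Q₀ ⊓ Kmap e K) (F.autGroup Q₀ ⊓ Kmap e K)) :
    ∃ χ ∈ F.autGroup Q₀ ⊓ Kmap e K, ∃ ψ ∈ F.Hom (NK S Q K ⊔ Q),
      (∀ x : Q, ψ (Subgroup.inclusion le_sup_right x) = ((χ (e x) : Q₀) : Ω)) ∧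
      (∀ g : NK S Q K, ψ (Subgroup.inclusion le_sup_left g) ∈ NK S Q₀ (Kmap e K)) ∧
      (∀ (g : NK S Q K) (κ : MulAut Q), (∀ x : Q, ((κ x : Q) : Ω) = (g : Ω) * x * (g : Ω)⁻¹) →
        ∀ y : Q₀, ((MulAut.congr (e.trans χ) κ y : Q₀) : Ω) =
          ψ (Subgroup.inclusion le_sup_left g) * y * (ψ (Subgroup.inclusion le_sup_left g))⁻¹) := by
  have hQS : Q ≤ S := he.source_le
  have hQ₀S : Q₀ ≤ S := he.target_le
  haveI : Finite (MulAut Q₀) := finite_mulAut_of_le hQ₀S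
  have hB : (autInducedBy S Q ⊓ K).map (MulAut.congr e).toMonoidHom ≤
      F.autGroup Q₀ ⊓ Kmap e K := by
    rintro _ ⟨α, ⟨hα1, hα2⟩, rfl⟩
    exact ⟨congr_mem_autGroup he (autInducedBy_le_autGroup F hQS hα1), congr_mem_Kmap e hα2⟩
  have hBp : IsPGroup p ↥((autInducedBy S Q ⊓ K).map (MulAut.congr e).toMonoidHom) :=
    ((isPGroup_autInducedBy hS Q).to_le inf_le_left).map _
  obtain ⟨χ, hχ, hle⟩ := hsyl.exists_conj_le hB hBp
  have hχiso : IsIso F χ := (isIso_iff_mem_autGroup F hQ₀S χ).mpr hχ.1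
  have he' : IsIso F (e.trans χ) := he.trans hχiso
  obtain ⟨φ, hφdef⟩ : ∃ φ : Q →* Ω, φ = Q₀.subtype.comp (e.trans χ).toMonoidHom := ⟨_, rfl⟩
  have hφ : φ ∈ F.Hom Q := by rw [hφdef]; exact he'
  have hφr : φ.range = Q₀ := by rw [hφdef]; exact range_subtype_comp_equiv _
  have hφx : ∀ x : Q, φ x = ((χ (e x) : Q₀) : Ω) := by
    intro x; rw [hφdef]; rfl
  -- the key property of elements of `NK`
  have hkey : ∀ (g : Ω) (κ : MulAut Q), g ∈ S → κ ∈ K →
      (∀ x : Q, ((κ x : Q) : Ω) = g * x * g⁻¹) →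
      MulAut.congr (e.trans χ) κ ∈ autInducedBy S Q₀ ⊓ Kmap e K := by
    intro g κ hg hκ hκe
    apply hle
    have h1 : κ ∈ autInducedBy S Q ⊓ K := ⟨mem_autInducedBy_iff.mpr ⟨g, hg, hκe⟩, hκ⟩
    refine ⟨MulAut.congr e κ, ⟨κ, h1, rfl⟩, ?_⟩
    ext y
    rfl
  have hNle : NK S Q K ≤ extender S Q φ := by
    rintro g ⟨hg, κ, hκ, hκe⟩
    obtain ⟨h, hh, hhe⟩ := mem_autInducedBy_iff.mp (hkey g κ hg hκ hκe).1
    refine mem_extender_iff.mpr ⟨hg, mem_normalizer_of_conj_aut hκe, h, hh, fun x => ?_⟩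
    have h2 : ((MulAut.congr (e.trans χ) κ ((e.trans χ) x) : Q₀) : Ω) =
        h * ((χ (e x) : Q₀) : Ω) * h⁻¹ := hhe ((e.trans χ) x)
    rw [hφx x, ← h2]
    have h3 : (⟨g * x * g⁻¹, conj_mem_of_mem_normalizer (mem_normalizer_of_conj_aut hκe) x⟩ : Q)
        = κ x := Subtype.ext (hκe x).symm
    rw [h3, hφx]
    simp
  have hle2 : NK S Q K ⊔ Q ≤ extender S Q φ := sup_le hNle (le_extender F hφ)
  obtain ⟨ψ₀, hψ₀, hψ₀e⟩ := hrec.2 Q φ hφ hφr
  have hψQ : ∀ x : Q, (ψ₀.comp (Subgroup.inclusion hle2)) (Subgroup.inclusion le_sup_right x) =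
      ((χ (e x) : Q₀) : Ω) := by
    intro x
    rw [← hφx]
    exact hψ₀e x x.2 _
  have hconj : ∀ (g : NK S Q K) (κ : MulAut Q),
      (∀ x : Q, ((κ x : Q) : Ω) = (g : Ω) * x * (g : Ω)⁻¹) →
      ∀ y : Q₀, ((MulAut.congr (e.trans χ) κ y : Q₀) : Ω) =
        (ψ₀.comp (Subgroup.inclusion hle2)) (Subgroup.inclusion le_sup_left g) * y *
          ((ψ₀.comp (Subgroup.inclusion hle2)) (Subgroup.inclusion le_sup_left g))⁻¹ := by
    intro g κ hκe y
    obtain ⟨x, rfl⟩ := (e.trans χ).surjective y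
    have h1 : ((MulAut.congr (e.trans χ) κ ((e.trans χ) x) : Q₀) : Ω) = φ (κ x) := by
      rw [hφx]; simp
    rw [h1]
    have h2 : (((e.trans χ) x : Q₀) : Ω) =
        (ψ₀.comp (Subgroup.inclusion hle2)) (Subgroup.inclusion le_sup_right x) := (hψQ x).symm
    rw [h2, ← map_inv, ← map_mul, ← map_mul]
    have h3 : Subgroup.inclusion (le_sup_left : NK S Q K ≤ NK S Q K ⊔ Q) g *
        Subgroup.inclusion le_sup_right x *
        (Subgroup.inclusion (le_sup_left : NK S Q K ≤ NK S Q K ⊔ Q) g)⁻¹ =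
        Subgroup.inclusion le_sup_right (κ x) := Subtype.ext (hκe x).symm
    rw [h3, hψQ, hφx]
  refine ⟨χ, hχ, ψ₀.comp (Subgroup.inclusion hle2), restrict_mem F hψ₀ hle2, hψQ, ?_, hconj⟩
  intro g
  obtain ⟨hg, κ, hκ, hκe⟩ := g.2
  refine ⟨apply_mem F (restrict_mem F hψ₀ hle2) _, MulAut.congr (e.trans χ) κ,
    (hkey g κ hg hκ hκe).2, fun y => hconj g κ hκe y⟩

/-- (P3): a fully `K`-normalized subgroup is fully centralized and `Aut^K_S(Q)` is a Sylow
subgroup of `Aut^K_F(Q)`. -/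
theorem fullyKNormalized_imp [Finite S] {p : ℕ} [Fact p.Prime] (hS : IsPGroup p S)
    (F : FusionSystem S) (hF : F.IsSaturated p) {Q : Subgroup Ω} {K : Subgroup (MulAut Q)}
    (h : FullyKNormalized F Q K) :
    F.IsFullyCentralized Q ∧
      Helper18.IsSylowIn p (autInducedBy S Q ⊓ K) (F.autGroup Q ⊓ K) := by
  have hQS := h.1
  obtain ⟨Q₀, e₀, he₀, hfn, hsyl⟩ := exists_iso_sylow hS F hF hQS K
  obtain ⟨hfc₀, -, hrec₀⟩ := saturated_fullyNormalized hS F hF hfn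
  obtain ⟨χ, hχ, ψ, hψ, hψQ, hψN, hψc⟩ := exists_extension hS F e₀ he₀ hrec₀ hsyl
  have hQ₀S : Q₀ ≤ S := he₀.target_le
  haveI : Finite (MulAut Q₀) := finite_mulAut_of_le hQ₀S
  let f : NK S Q K → NK S Q₀ (Kmap e₀ K) :=
    fun g => ⟨ψ (Subgroup.inclusion le_sup_left g), hψN g⟩
  have hf_inj : Function.Injective f := by
    intro a b hab
    have h1 : ψ (Subgroup.inclusion le_sup_left a) = ψ (Subgroup.inclusion le_sup_left b) :=
      congrArg Subtype.val hab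
    have h2 := F.injective_of_mem hψ h1
    exact Subgroup.inclusion_injective _ h2
  haveI hfin : Finite (NK S Q₀ (Kmap e₀ K)) := finite_of_le (NK_le _ _)
  have hf_surj : Function.Surjective f :=
    (Function.Injective.bijective_of_nat_card_le hf_inj (h.2 Q₀ e₀ he₀)).2
  have hcongr_inj : Function.Injective (MulAut.congr (e₀.trans χ)) :=
    (MulAut.congr (e₀.trans χ)).injective
  refine ⟨⟨hQS, fun Q' hQQ' => ?_⟩, ?_⟩
  · have h1 : Nat.card (centralizerIn S Q') ≤ Nat.card (centralizerIn S Q₀) :=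
      hfc₀.2 Q' (isConj_trans F (isConj_symm F he₀.isConj) hQQ')
    refine h1.trans ?_
    have hmem : ∀ c : centralizerIn S Q₀,
        ((Function.surjInv hf_surj ⟨c.1, centralizerIn_le_NK Q₀ _ c.2⟩ : NK S Q K) : Ω) ∈
          centralizerIn S Q := by
      intro c
      obtain ⟨g, hgdef⟩ : ∃ g, g = Function.surjInv hf_surj ⟨c.1, centralizerIn_le_NK Q₀ _ c.2⟩ :=
        ⟨_, rfl⟩
      rw [← hgdef]
      have hfg : f g = ⟨c.1, centralizerIn_le_NK Q₀ _ c.2⟩ := by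
        rw [hgdef]; exact Function.surjInv_eq hf_surj _
      have hψg : ψ (Subgroup.inclusion le_sup_left g) = c.1 := congrArg Subtype.val hfg
      obtain ⟨hg, κ, hκ, hκe⟩ := g.2
      have hc := hψc g κ hκe
      have hcC : (c : Ω) ∈ Subgroup.centralizer (Q₀ : Set Ω) := c.2.2
      rw [Subgroup.mem_centralizer_iff] at hcC
      have h2 : MulAut.congr (e₀.trans χ) κ = 1 := by
        ext y
        rw [hc y, hψg, MulAut.one_apply, ← hcC y y.2]
        group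
      have h3 : κ = 1 := by
        apply hcongr_inj
        rw [h2, map_one]
      refine ⟨hg, ?_⟩
      show (g : Ω) ∈ Subgroup.centralizer (Q : Set Ω)
      rw [Subgroup.mem_centralizer_iff]
      intro x hx
      have h4 := hκe ⟨x, hx⟩
      rw [h3, MulAut.one_apply] at h4
      calc x * (g : Ω) = ((g : Ω) * x * (g : Ω)⁻¹) * g := by rw [← h4]
        _ = g * x := by group
    haveI : Finite (centralizerIn S Q) := finite_of_le inf_le_left
    refine Nat.card_le_card_of_injective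
      (fun c : centralizerIn S Q₀ => (⟨_, hmem c⟩ : centralizerIn S Q)) ?_
    intro c c' hcc'
    have h5 : (Function.surjInv hf_surj ⟨c.1, centralizerIn_le_NK Q₀ _ c.2⟩ : NK S Q K) =
        Function.surjInv hf_surj ⟨c'.1, centralizerIn_le_NK Q₀ _ c'.2⟩ :=
      Subtype.ext (congrArg (fun z : centralizerIn S Q => (z : Ω)) hcc')
    have h6 := congrArg f h5
    rw [Function.surjInv_eq hf_surj, Function.surjInv_eq hf_surj] at h6
    exact Subtype.ext (congrArg (fun z : NK S Q₀ (Kmap e₀ K) => (z : Ω)) h6)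
  · have hAmap : (F.autGroup Q ⊓ K).map (MulAut.congr (e₀.trans χ)).toMonoidHom =
        F.autGroup Q₀ ⊓ Kmap e₀ K := by
      have hχiso : IsIso F χ := (isIso_iff_mem_autGroup F hQ₀S χ).mpr hχ.1
      show Kmap (e₀.trans χ) (F.autGroup Q ⊓ K) = _
      rw [Kmap_inf, map_congr_autGroup (he₀.trans hχiso), Kmap_trans, Kmap_of_mem hχ.2]
    have hUle : autInducedBy S Q ⊓ K ≤ F.autGroup Q ⊓ K :=
      inf_le_inf_right K (autInducedBy_le_autGroup F hQS)
    have hUmap : (autInducedBy S Q ⊓ K).map (MulAut.congr (e₀.trans χ)).toMonoidHom =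
        autInducedBy S Q₀ ⊓ Kmap e₀ K := by
      apply hsyl.eq_of_le
      · rw [← hAmap]
        exact Subgroup.map_mono hUle
      · exact ((isPGroup_autInducedBy hS Q).to_le inf_le_left).map _
      · rintro β ⟨hβ1, hβ2⟩
        obtain ⟨hh, hhS, hhe⟩ := mem_autInducedBy_iff.mp hβ1
        have hhN : hh ∈ NK S Q₀ (Kmap e₀ K) := ⟨hhS, β, hβ2, hhe⟩
        obtain ⟨g, hg⟩ := hf_surj ⟨hh, hhN⟩
        have hψg : ψ (Subgroup.inclusion le_sup_left g) = hh := congrArg Subtype.val hg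
        obtain ⟨hgS, κ, hκ, hκe⟩ := g.2
        refine ⟨κ, ⟨mem_autInducedBy_iff.mpr ⟨g, hgS, hκe⟩, hκ⟩, ?_⟩
        ext y
        show ((MulAut.congr (e₀.trans χ) κ y : Q₀) : Ω) = β y
        rw [hψc g κ hκe y, hψg, hhe y]
    apply IsSylowIn18.of_map_injective (MulAut.congr (e₀.trans χ)).toMonoidHom hcongr_inj hUle
    rw [hAmap, hUmap]
    exact hsyl

/-- (P4): extension of an isomorphism onto a fully `K`-normalized subgroup. -/
theorem exists_extension_of_fullyKNormalized [Finite S] {p : ℕ} [Fact p.Prime]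
    (hS : IsPGroup p S) (F : FusionSystem S) (hF : F.IsSaturated p) {Q Q₀ : Subgroup Ω}
    {K : Subgroup (MulAut Q)} (e : Q ≃* Q₀) (he : IsIso F e)
    (h : FullyKNormalized F Q₀ (Kmap e K)) :
    ∃ χ ∈ F.autGroup Q₀ ⊓ Kmap e K, ∃ ψ ∈ F.Hom (NK S Q K ⊔ Q),
      (∀ x : Q, ψ (Subgroup.inclusion le_sup_right x) = ((χ (e x) : Q₀) : Ω)) ∧
      (∀ g : NK S Q K, ψ (Subgroup.inclusion le_sup_left g) ∈ NK S Q₀ (Kmap e K)) ∧
      (∀ (g : NK S Q K) (κ : MulAut Q), (∀ x : Q, ((κ x : Q) : Ω) = (g : Ω) * x * (g : Ω)⁻¹) →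
        ∀ y : Q₀, ((MulAut.congr (e.trans χ) κ y : Q₀) : Ω) =
          ψ (Subgroup.inclusion le_sup_left g) * y * (ψ (Subgroup.inclusion le_sup_left g))⁻¹) := by
  obtain ⟨hfc, hsyl⟩ := fullyKNormalized_imp hS F hF h
  exact exists_extension hS F e he (saturated_fullyCentralized hS F hF hfc) hsyl

end Prop52

end Cfsg.Agent.Lib.Helper26
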