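import Cfsg.Agent.Lib.Helper26.KNorm2

set_option autoImplicit false

namespace Cfsg.Agent.Lib.Helper26

open Cfsg Cfsg.FusionSystem

section GroupLemmas2

variable {G : Type*} [Group G]

/-- Sylow conjugation by an element of a normal subgroup `K₀`, for a `p`-subgroup of `R₀ K₀`. -/
theorem exists_conj_le_of_le_sup [Finite G] {p : ℕ} [Fact p.Prime] {R₀ A₀ K₀ B : Subgroup G}
    (hR : Helper18.IsSylowIn p R₀ A₀) (hK : K₀ ≤ A₀)
    (hKn : A₀ ≤ Subgroup.normalizer (K₀ : Set G)) (hBp : IsPGroup p B) (hB : B ≤ R₀ ⊔ K₀) :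
    ∃ χ ∈ K₀, Helper18.conjSub χ B ≤ R₀ := by
  have hL : R₀ ⊔ K₀ ≤ A₀ := sup_le hR.le hK
  have hRL : Helper18.IsSylowIn p R₀ (R₀ ⊔ K₀) := hR.of_le le_sup_left hL
  obtain ⟨l, hl, hle⟩ := hRL.exists_conj_le hB hBp
  have hl' : l ∈ ((R₀ ⊔ K₀ : Subgroup G) : Set G) := hl
  rw [Subgroup.coe_mul_of_left_le_normalizer_right R₀ K₀ (hR.le.trans hKn)] at hl'
  obtain ⟨r, hr, k, hk, rfl⟩ := hl'
  refine ⟨k, hk, ?_⟩
  rw [← Helper18.conjSub_mul, Helper18.conjSub_le_iff] at hle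
  refine hle.trans ?_
  rw [Helper18.conjSub_eq_of_mem_normalizer]
  exact Subgroup.le_normalizer (R₀.inv_mem hr)

end GroupLemmas2

section KSys

variable {Ω : Type*} [Group Ω] {S : Subgroup Ω}

/-- The maps of the `K`-normalizer system `N^K_F(Q)` with source `P`. -/
def KHom (F : FusionSystem S) (Q : Subgroup Ω) (K : Subgroup (MulAut Q)) (P : Subgroup Ω)
    (φ : P →* Ω) : Prop :=
  φ ∈ F.Hom P ∧ P ≤ NK S Q K ∧ (∀ x : P, φ x ∈ NK S Q K) ∧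
    ∃ ψ ∈ F.Hom (P ⊔ Q), (∀ x : P, ψ (Subgroup.inclusion le_sup_left x) = φ x) ∧
      ∃ κ ∈ K, ∀ x : Q, ψ (Subgroup.inclusion le_sup_right x) = ((κ x : Q) : Ω)

/-- `K_P`: the automorphisms of `P ⊔ Q` preserving `P` and inducing an element of `K` on `Q`. -/
def KP (Q : Subgroup Ω) (K : Subgroup (MulAut Q)) (P : Subgroup Ω) :
    Subgroup (MulAut ↥(P ⊔ Q)) where
  carrier := {α | (∀ x : ↥(P ⊔ Q), (x : Ω) ∈ P ↔ ((α x : ↥(P ⊔ Q)) : Ω) ∈ P) ∧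
    ∃ κ ∈ K, ∀ x : Q,
      ((α (Subgroup.inclusion le_sup_right x) : ↥(P ⊔ Q)) : Ω) = ((κ x : Q) : Ω)}
  one_mem' := ⟨fun _ => Iff.rfl, 1, K.one_mem, fun _ => rfl⟩
  mul_mem' := by
    rintro α β ⟨hα1, κ, hκ, hκe⟩ ⟨hβ1, κ', hκ', hκ'e⟩
    refine ⟨fun x => (hβ1 x).trans (hα1 (β x)), κ * κ', K.mul_mem hκ hκ', fun x => ?_⟩
    have h1 : β (Subgroup.inclusion le_sup_right x) = Subgroup.inclusion le_sup_right (κ' x) :=
      Subtype.ext (hκ'e x)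
    rw [MulAut.mul_apply, h1, hκe]
    rfl
  inv_mem' := by
    rintro α ⟨hα1, κ, hκ, hκe⟩
    refine ⟨fun x => ?_, κ⁻¹, K.inv_mem hκ, fun x => ?_⟩
    · have h1 := hα1 (α⁻¹ x)
      rw [MulAut.apply_inv_self] at h1
      exact h1.symm
    · have h1 : α (Subgroup.inclusion le_sup_right (κ⁻¹ x)) = Subgroup.inclusion le_sup_right x := by
        apply Subtype.ext
        rw [hκe, MulAut.apply_inv_self]
        rfl
      rw [← h1, MulAut.inv_apply_self]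
      rfl

theorem mem_KP_iff {Q : Subgroup Ω} {K : Subgroup (MulAut Q)} {P : Subgroup Ω}
    {α : MulAut ↥(P ⊔ Q)} : α ∈ KP Q K P ↔
      (∀ x : ↥(P ⊔ Q), (x : Ω) ∈ P ↔ ((α x : ↥(P ⊔ Q)) : Ω) ∈ P) ∧
      ∃ κ ∈ K, ∀ x : Q,
        ((α (Subgroup.inclusion le_sup_right x) : ↥(P ⊔ Q)) : Ω) = ((κ x : Q) : Ω) := Iff.rfl

theorem mem_normalizer_sup {P Q : Subgroup Ω} {g : Ω} (hP : g ∈ Subgroup.normalizer (P : Set Ω))
    (hQ : g ∈ Subgroup.normalizer (Q : Set Ω)) :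
    g ∈ Subgroup.normalizer ((P ⊔ Q : Subgroup Ω) : Set Ω) := by
  rw [Subgroup.mem_normalizer_iff_map_conj_eq] at hP hQ ⊢
  rw [Subgroup.map_sup, hP, hQ]

/-- (L2) `N^{K_P}_S(P ⊔ Q) = N_T(P)` for `T = N^K_S(Q)`. -/
theorem NK_KP (S Q : Subgroup Ω) (K : Subgroup (MulAut Q)) (P : Subgroup Ω) :
    NK S (P ⊔ Q) (KP Q K P) = normalizerIn (NK S Q K) P := by
  have hfwd : ∀ g ∈ NK S (P ⊔ Q) (KP Q K P), g ∈ NK S Q K ∧ ∀ y ∈ P, g * y * g⁻¹ ∈ P := by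
    rintro g ⟨hg, α, ⟨hα1, κ, hκ, hκe⟩, hαe⟩
    refine ⟨⟨hg, κ, hκ, fun x => ?_⟩, fun y hy => ?_⟩
    · rw [← hκe, hαe]
      rfl
    · have h1 := (hα1 ⟨y, (le_sup_left : P ≤ P ⊔ Q) hy⟩).mp hy
      rw [hαe] at h1
      exact h1
  apply le_antisymm
  · intro g hg
    refine ⟨(hfwd g hg).1, ?_⟩
    refine mem_normalizer_of_forall (hfwd g hg).2 (fun y hy => ?_)
    have h1 := (hfwd g⁻¹ (Subgroup.inv_mem _ hg)).2 y hy
    rw [inv_inv] at h1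
    exact h1
  · rintro g ⟨hgT, hgP⟩
    have hgQ : g ∈ Subgroup.normalizer (Q : Set Ω) := (NK_le_normalizerIn Q K hgT).2
    have hgM := mem_normalizer_sup hgP hgQ
    obtain ⟨hgS, κ, hκ, hκe⟩ := hgT
    refine ⟨hgS, conjAut (P ⊔ Q) g hgM, ⟨fun x => ?_, κ, hκ, fun x => ?_⟩, fun x => rfl⟩
    · rw [conjAut_apply]
      exact (Subgroup.mem_normalizer_iff.mp hgP) x
    · rw [conjAut_apply, hκe]
      rfl

/-- (L1) a map of `F` on `P ⊔ Q` acting on `Q` as an element of `K` restricts on `P` to a map of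
the `K`-normalizer system. -/
theorem khom_of_ext (F : FusionSystem S) {Q : Subgroup Ω} {K : Subgroup (MulAut Q)}
    {P : Subgroup Ω} (hP : P ≤ NK S Q K) {θ : ↥(P ⊔ Q) →* Ω} (hθ : θ ∈ F.Hom (P ⊔ Q))
    {κ : MulAut Q} (hκ : κ ∈ K)
    (hθQ : ∀ x : Q, θ (Subgroup.inclusion le_sup_right x) = ((κ x : Q) : Ω)) :
    KHom F Q K P (θ.comp (Subgroup.inclusion le_sup_left)) := by
  refine ⟨restrict_mem F hθ le_sup_left, hP, fun x => ?_, θ, hθ, fun x => rfl, κ, hκ, hθQ⟩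
  obtain ⟨-, κx, hκx, hκxe⟩ := hP x.2
  refine ⟨apply_mem F hθ _, κ * κx * κ⁻¹, K.mul_mem (K.mul_mem hκ hκx) (K.inv_mem hκ), fun y => ?_⟩
  obtain ⟨y₀, rfl⟩ := κ.surjective y
  have h1 : ((κ * κx * κ⁻¹) (κ y₀) : Q) = κ (κx y₀) := by
    simp [MulAut.mul_apply]
  rw [h1, ← hθQ, ← hθQ]
  show _ = θ (Subgroup.inclusion le_sup_left x) * _ * (θ (Subgroup.inclusion le_sup_left x))⁻¹
  rw [← map_inv, ← map_mul, ← map_mul]
  congr 1
  apply Subtype.ext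
  exact hκxe y₀

end KSys

end Cfsg.Agent.Lib.Helper26
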