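import Cfsg.Agent.Lib.Helper26.KNorm3
import Cfsg.Agent.Lib.Helper26.FusionNC

set_option autoImplicit false

namespace Cfsg.Agent.Lib.Helper26

open Cfsg Cfsg.FusionSystem

section StepA

variable {Ω : Type*} [Group Ω] {S : Subgroup Ω}

/-- Step (a) of AKO I.5.5: if `P` is fully normalized in the `K`-normalizer system `E`, then
`P ⊔ Q` is fully `K_P`-normalized in `F`. -/
theorem fullyKNormalized_sup_of_fullyNormalized [Finite S] {p : ℕ} [Fact p.Prime]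
    (hS : IsPGroup p S) (F : FusionSystem S) (hF : F.IsSaturated p) {Q : Subgroup Ω}
    {K : Subgroup (MulAut Q)} (hQK : FullyKNormalized F Q K) (E : FusionSystem (NK S Q K))
    (hE : ∀ (P : Subgroup Ω) (φ : P →* Ω), φ ∈ E.Hom P ↔ KHom F Q K P φ) {P : Subgroup Ω}
    (hPn : E.IsFullyNormalized P) : FullyKNormalized F (P ⊔ Q) (KP Q K P) := by
  have hPT : P ≤ NK S Q K := hPn.1
  have hQS : Q ≤ S := hQK.1
  have hMS : P ⊔ Q ≤ S := sup_le (hPT.trans (NK_le _ _)) hQS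
  obtain ⟨R, e, he, hR⟩ := exists_fullyKNormalized F hMS (KP Q K P)
  suffices hkey : Nat.card (NK S R (Kmap e (KP Q K P))) ≤ Nat.card (NK S (P ⊔ Q) (KP Q K P)) by
    refine ⟨hMS, fun R' e' he' => ?_⟩
    have h1 := hR.2 R' (e.symm.trans e') (he.symm.trans he')
    rw [Kmap_trans, Kmap_symm] at h1
    exact h1.trans hkey
  obtain ⟨ε, hεdef⟩ : ∃ ε : ↥(P ⊔ Q) →* Ω, ε = R.subtype.comp e.toMonoidHom := ⟨_, rfl⟩
  have hε : ε ∈ F.Hom (P ⊔ Q) := by rw [hεdef]; exact he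
  have hεx : ∀ m, ε m = ((e m : R) : Ω) := by intro m; rw [hεdef]; rfl
  have hφQ : ε.comp (Subgroup.inclusion (le_sup_right : Q ≤ P ⊔ Q)) ∈ F.Hom Q :=
    restrict_mem F hε le_sup_right
  obtain ⟨Q', hQ'def⟩ : ∃ Q', Q' = (ε.comp (Subgroup.inclusion (le_sup_right : Q ≤ P ⊔ Q))).range :=
    ⟨_, rfl⟩
  obtain ⟨eQ, heQ, heQx'⟩ := exists_iso_of_hom F hφQ hQ'def.symm
  have heQx : ∀ x : Q, ((eQ x : Q') : Ω) = ε (Subgroup.inclusion le_sup_right x) := heQx'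
  have hQK' : FullyKNormalized F Q (Kmap eQ.symm (Kmap eQ K)) := by rw [Kmap_symm]; exact hQK
  obtain ⟨χ, hχ, ψ, hψ, hψQ, hψN, -⟩ :=
    exists_extension_of_fullyKNormalized hS F hF eQ.symm heQ.symm hQK'
  rw [Kmap_symm] at hχ hψN
  -- `ε` maps `P ⊔ Q` into the domain of `ψ`
  have hεP : ∀ x : P, ε (Subgroup.inclusion le_sup_left x) ∈ NK S Q' (Kmap eQ K) := by
    intro x
    obtain ⟨-, κx, hκx, hκxe⟩ := hPT x.2
    refine ⟨apply_mem F hε _, MulAut.congr eQ κx, congr_mem_Kmap eQ hκx, fun y => ?_⟩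
    obtain ⟨y₀, rfl⟩ := eQ.surjective y
    have h1 : MulAut.congr eQ κx (eQ y₀) = eQ (κx y₀) := by simp
    rw [h1, heQx, heQx, ← map_inv, ← map_mul, ← map_mul]
    congr 1
    apply Subtype.ext
    exact hκxe y₀
  have hRle : ∀ m : ↥(P ⊔ Q), ε m ∈ NK S Q' (Kmap eQ K) ⊔ Q' := by
    intro m
    refine map_sup_mem ε _ (fun x => Subgroup.mem_sup_left (hεP x)) (fun x => ?_) m
    apply Subgroup.mem_sup_right
    rw [← heQx]
    exact (eQ x).2
  obtain ⟨θ, hθdef⟩ : ∃ θ : ↥(P ⊔ Q) →* Ω, θ = ψ.comp (ε.codRestrict _ hRle) := ⟨_, rfl⟩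
  have hθ : θ ∈ F.Hom (P ⊔ Q) := by rw [hθdef]; exact F.comp_mem hε hψ hRle
  have hθx : ∀ m, θ m = ψ ⟨ε m, hRle m⟩ := by intro m; rw [hθdef]; rfl
  have hθQ : ∀ x : Q, θ (Subgroup.inclusion le_sup_right x) = ((χ x : Q) : Ω) := by
    intro x
    rw [hθx]
    have h1 : (⟨ε (Subgroup.inclusion le_sup_right x), hRle _⟩ : ↥(NK S Q' (Kmap eQ K) ⊔ Q')) =
        Subgroup.inclusion le_sup_right (eQ x) := Subtype.ext (heQx x).symm
    rw [h1, hψQ]
    simp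
  have hθP : ∀ x : P, θ (Subgroup.inclusion le_sup_left x) =
      ψ (Subgroup.inclusion le_sup_left ⟨ε (Subgroup.inclusion le_sup_left x), hεP x⟩) := by
    intro x
    rw [hθx]
    rfl
  have hkhom := khom_of_ext F hPT hθ hχ.2 hθQ
  have hφ'E : θ.comp (Subgroup.inclusion le_sup_left) ∈ E.Hom P := (hE P _).mpr hkhom
  have hconjE : E.IsConj P (θ.comp (Subgroup.inclusion (le_sup_left : P ≤ P ⊔ Q))).range :=
    ⟨_, hφ'E, rfl⟩
  have hcard1 := hPn.2 _ hconjE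
  rw [NK_KP]
  refine le_trans ?_ hcard1
  -- membership of elements of `N` in the domain of `ψ`, and the conjugation formula
  have hNmem : ∀ g ∈ NK S R (Kmap e (KP Q K P)), g ∈ NK S Q' (Kmap eQ K) ∧
      ∀ x : P, ∃ x' : P, g * ε (Subgroup.inclusion le_sup_left x) * g⁻¹ =
        ε (Subgroup.inclusion le_sup_left x') := by
    rintro g ⟨hgS, β, ⟨α, ⟨hα1, κα, hκα, hκαe⟩, rfl⟩, hβe⟩
    constructor
    · refine ⟨hgS, MulAut.congr eQ κα, congr_mem_Kmap eQ hκα, fun y => ?_⟩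
      obtain ⟨y₀, rfl⟩ := eQ.surjective y
      have h1 : MulAut.congr eQ κα (eQ y₀) = eQ (κα y₀) := by simp
      rw [h1, heQx, heQx, hεx, hεx]
      have h2 : Subgroup.inclusion (le_sup_right : Q ≤ P ⊔ Q) (κα y₀) =
          α (Subgroup.inclusion le_sup_right y₀) := Subtype.ext (hκαe y₀).symm
      rw [h2, ← hβe]
      simp
    · intro x
      have hx' := (hα1 (Subgroup.inclusion le_sup_left x)).mp x.2
      refine ⟨⟨_, hx'⟩, ?_⟩
      rw [hεx, hεx, ← hβe]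
      have h2 : Subgroup.inclusion (le_sup_left : P ≤ P ⊔ Q)
          ⟨((α (Subgroup.inclusion le_sup_left x) : ↥(P ⊔ Q)) : Ω), hx'⟩ =
          α (Subgroup.inclusion le_sup_left x) := Subtype.ext rfl
      rw [h2]
      simp
  have hconjP' : ∀ (g : Ω) (hg : g ∈ NK S R (Kmap e (KP Q K P))),
      ∀ y ∈ (θ.comp (Subgroup.inclusion (le_sup_left : P ≤ P ⊔ Q))).range,
      ψ (Subgroup.inclusion le_sup_left ⟨g, (hNmem g hg).1⟩) * y *
        (ψ (Subgroup.inclusion le_sup_left ⟨g, (hNmem g hg).1⟩))⁻¹ ∈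
        (θ.comp (Subgroup.inclusion (le_sup_left : P ≤ P ⊔ Q))).range := by
    rintro g hg _ ⟨x, rfl⟩
    obtain ⟨x', hx'⟩ := (hNmem g hg).2 x
    refine ⟨x', ?_⟩
    show θ (Subgroup.inclusion le_sup_left x') = _ * θ (Subgroup.inclusion le_sup_left x) * _
    rw [hθP, hθP, ← map_inv, ← map_mul, ← map_mul]
    congr 1
    apply Subtype.ext
    exact hx'.symm
  have hmemN : ∀ (g : Ω) (hg : g ∈ NK S R (Kmap e (KP Q K P))),
      ψ (Subgroup.inclusion le_sup_left ⟨g, (hNmem g hg).1⟩) ∈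
        normalizerIn (NK S Q K)
          (θ.comp (Subgroup.inclusion (le_sup_left : P ≤ P ⊔ Q))).range := by
    intro g hg
    refine ⟨hψN _, mem_normalizer_of_forall (hconjP' g hg) (fun y hy => ?_)⟩
    have h1 := hconjP' g⁻¹ (Subgroup.inv_mem _ hg) y hy
    have h2 : (Subgroup.inclusion
        (le_sup_left : NK S Q' (Kmap eQ K) ≤ NK S Q' (Kmap eQ K) ⊔ Q')
        ⟨g⁻¹, (hNmem g⁻¹ (Subgroup.inv_mem _ hg)).1⟩) =
        (Subgroup.inclusion
          (le_sup_left : NK S Q' (Kmap eQ K) ≤ NK S Q' (Kmap eQ K) ⊔ Q')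
          ⟨g, (hNmem g hg).1⟩)⁻¹ := Subtype.ext rfl
    rw [h2, map_inv, inv_inv] at h1
    exact h1
  haveI : Finite ↥(normalizerIn (NK S Q K)
      (θ.comp (Subgroup.inclusion (le_sup_left : P ≤ P ⊔ Q))).range) :=
    finite_of_le (inf_le_left.trans (NK_le _ _))
  refine Nat.card_le_card_of_injective
    (fun g : NK S R (Kmap e (KP Q K P)) => (⟨_, hmemN g.1 g.2⟩ :
      ↥(normalizerIn (NK S Q K) (θ.comp (Subgroup.inclusion (le_sup_left : P ≤ P ⊔ Q))).range))) ?_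
  intro a b hab
  have h1 : ψ (Subgroup.inclusion le_sup_left ⟨a.1, (hNmem a.1 a.2).1⟩) =
      ψ (Subgroup.inclusion le_sup_left ⟨b.1, (hNmem b.1 b.2).1⟩) :=
    congrArg (fun z : ↥(normalizerIn (NK S Q K)
      (θ.comp (Subgroup.inclusion (le_sup_left : P ≤ P ⊔ Q))).range) => (z : Ω)) hab
  have h2 := F.injective_of_mem hψ h1
  have h3 : a.1 = b.1 := congrArg (fun z : ↥(NK S Q' (Kmap eQ K) ⊔ Q') => (z : Ω)) h2
  exact Subtype.ext h3

end StepA

end Cfsg.Agent.Lib.Helper26
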