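import Cfsg.Agent.Lib.Helper26.KNorm4

set_option autoImplicit false

namespace Cfsg.Agent.Lib.Helper26

open Cfsg Cfsg.FusionSystem

section StepC

variable {Ω : Type*} [Group Ω] {S : Subgroup Ω}

/-- A finite-group membership test for `K_P`: it suffices that `P` is mapped into `P`. -/
theorem mem_KP_of_forall {Q : Subgroup Ω} {K : Subgroup (MulAut Q)} {P : Subgroup Ω}
    [Finite P] {α : MulAut ↥(P ⊔ Q)}
    (h1 : ∀ x : P, ((α (Subgroup.inclusion le_sup_left x) : ↥(P ⊔ Q)) : Ω) ∈ P)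
    (h2 : ∃ κ ∈ K, ∀ x : Q,
      ((α (Subgroup.inclusion le_sup_right x) : ↥(P ⊔ Q)) : Ω) = ((κ x : Q) : Ω)) :
    α ∈ KP Q K P := by
  refine ⟨fun m => ⟨fun hm => h1 ⟨m, hm⟩, fun hm => ?_⟩, h2⟩
  let f : P → P := fun x => ⟨_, h1 x⟩
  have hf : Function.Injective f := by
    intro a b hab
    have h3' : ((α (Subgroup.inclusion le_sup_left a) : ↥(P ⊔ Q)) : Ω) =
        ((α (Subgroup.inclusion le_sup_left b) : ↥(P ⊔ Q)) : Ω) :=
      congrArg (fun z : P => (z : Ω)) hab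
    have h3 : α (Subgroup.inclusion le_sup_left a) = α (Subgroup.inclusion le_sup_left b) :=
      Subtype.ext h3'
    exact Subgroup.inclusion_injective _ (α.injective h3)
  obtain ⟨x, hx⟩ := (Finite.injective_iff_surjective.mp hf) ⟨_, hm⟩
  have h4' : ((α (Subgroup.inclusion le_sup_left x) : ↥(P ⊔ Q)) : Ω) = ((α m : ↥(P ⊔ Q)) : Ω) :=
    congrArg (fun z : P => (z : Ω)) hx
  have h4 : α (Subgroup.inclusion le_sup_left x) = α m := Subtype.ext h4'
  rw [← α.injective h4]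
  exact x.2

/-- The automorphisms of `P ⊔ Q` fixing `P` elementwise. -/
def fixP (P Q : Subgroup Ω) : Subgroup (MulAut ↥(P ⊔ Q)) where
  carrier := {α | ∀ x : P, α (Subgroup.inclusion le_sup_left x) = Subgroup.inclusion le_sup_left x}
  one_mem' := fun _ => rfl
  mul_mem' := by
    intro a b ha hb x
    rw [MulAut.mul_apply, hb x, ha x]
  inv_mem' := by
    intro a ha x
    have h1 := ha x
    have h2 := MulAut.inv_apply_self _ a (Subgroup.inclusion le_sup_left x)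
    rw [h1] at h2
    exact h2

theorem mem_fixP_iff {P Q : Subgroup Ω} {α : MulAut ↥(P ⊔ Q)} : α ∈ fixP P Q ↔
    ∀ x : P, α (Subgroup.inclusion le_sup_left x) = Subgroup.inclusion le_sup_left x := Iff.rfl

/-- The pointwise stabilizer of `P` is normalized by the setwise stabilizer. -/
theorem le_normalizer_inf_fixP {Q : Subgroup Ω} {K : Subgroup (MulAut Q)} {P : Subgroup Ω}
    {A : Subgroup (MulAut ↥(P ⊔ Q))} (hA : A ≤ KP Q K P) :
    A ≤ Subgroup.normalizer ((A ⊓ fixP P Q : Subgroup (MulAut ↥(P ⊔ Q))) : Set (MulAut ↥(P ⊔ Q))) := by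
  have key : ∀ α ∈ A, ∀ k ∈ A ⊓ fixP P Q, α * k * α⁻¹ ∈ A ⊓ fixP P Q := by
    intro α hα k hk
    refine ⟨A.mul_mem (A.mul_mem hα hk.1) (A.inv_mem hα), fun x => ?_⟩
    have h1 : ((α⁻¹ (Subgroup.inclusion le_sup_left x) : ↥(P ⊔ Q)) : Ω) ∈ P := by
      have h2 := ((hA (A.inv_mem hα)).1 (Subgroup.inclusion le_sup_left x)).mp x.2
      exact h2
    have h3 : α⁻¹ (Subgroup.inclusion le_sup_left x) =
        Subgroup.inclusion (le_sup_left : P ≤ P ⊔ Q) ⟨_, h1⟩ := Subtype.ext rfl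
    rw [MulAut.mul_apply, MulAut.mul_apply, h3, hk.2, ← h3, MulAut.apply_inv_self]
  intro α hα
  refine mem_normalizer_of_forall (key α hα) (fun k hk => ?_)
  have := key α⁻¹ (A.inv_mem hα) k hk
  rw [inv_inv] at this
  exact this

/-- Step (c) of AKO I.5.5: if `P ⊔ Q` is fully `K_P`-normalized in `F` then `P` is receptive in the
`K`-normalizer system. -/
theorem receptive_of_fullyKNormalized_sup [Finite S] {p : ℕ} [Fact p.Prime]
    (hS : IsPGroup p S) (F : FusionSystem S) (hF : F.IsSaturated p) {Q : Subgroup Ω}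
    {K : Subgroup (MulAut Q)} (E : FusionSystem (NK S Q K))
    (hE : ∀ (P : Subgroup Ω) (φ : P →* Ω), φ ∈ E.Hom P ↔ KHom F Q K P φ) {P : Subgroup Ω}
    (hPT : P ≤ NK S Q K) (hPK : FullyKNormalized F (P ⊔ Q) (KP Q K P)) : E.IsReceptive P := by
  refine ⟨hPT, fun R φ hφ hrange => ?_⟩
  obtain ⟨hφF, hRT, hφT, ψ₁, hψ₁, hψ₁R, κ, hκ, hψ₁Q⟩ := (hE R φ).mp hφ
  have hMS : P ⊔ Q ≤ S := hPK.1
  have hM'S : R ⊔ Q ≤ S := source_le F hψ₁
  haveI : Finite ↥(P ⊔ Q) := finite_of_le hMS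
  haveI : Finite P := finite_of_le (hPT.trans (NK_le _ _))
  haveI : Finite (MulAut ↥(P ⊔ Q)) := finite_mulAut_of_le hMS
  have hQmap : (Q.subgroupOf (R ⊔ Q)).map ψ₁ = Q := by
    ext z
    rw [map_subgroupOf_sup_eq]
    constructor
    · rintro ⟨q, rfl⟩
      rw [hψ₁Q]
      exact (κ q).2
    · intro hz
      refine ⟨κ⁻¹ ⟨z, hz⟩, ?_⟩
      rw [hψ₁Q]
      simp
  have hr : ψ₁.range = P ⊔ Q := by rw [range_ext_eq hψ₁R hQmap, hrange]
  obtain ⟨e, he, hex⟩ := exists_iso_of_hom F hψ₁ hr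
  -- behaviour of `e` on `R` and on `Q`
  have hφP : ∀ x : R, φ x ∈ P := fun x => hrange ▸ ⟨x, rfl⟩
  have heR : ∀ x : R, e (Subgroup.inclusion le_sup_left x) =
      Subgroup.inclusion (le_sup_left : P ≤ P ⊔ Q) ⟨φ x, hφP x⟩ := by
    intro x
    apply Subtype.ext
    rw [hex, hψ₁R]
    rfl
  have heQ : ∀ q : Q, e (Subgroup.inclusion le_sup_right q) =
      Subgroup.inclusion (le_sup_right : Q ≤ P ⊔ Q) (κ q) := by
    intro q
    apply Subtype.ext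
    rw [hex, hψ₁Q]
    rfl
  have hPsurj : ∀ y : P, ∃ x : R, Subgroup.inclusion (le_sup_left : P ≤ P ⊔ Q) y =
      e (Subgroup.inclusion le_sup_left x) := by
    intro y
    obtain ⟨x, hx⟩ : (y : Ω) ∈ φ.range := hrange ▸ y.2
    refine ⟨x, ?_⟩
    rw [heR]
    apply Subtype.ext
    exact hx.symm
  obtain ⟨hfc, hsyl⟩ := fullyKNormalized_imp hS F hF hPK
  have hrec := saturated_fullyCentralized hS F hF hfc
  obtain ⟨N, hNdef⟩ : ∃ N, N = extender (NK S Q K) R φ := ⟨_, rfl⟩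
  have hNT : N ≤ NK S Q K := by
    rw [hNdef]
    exact (extender_le_normalizerIn _ _ _).trans inf_le_left
  have hNS : N ≤ S := hNT.trans (NK_le _ _)
  obtain ⟨A₀, hA₀⟩ : ∃ A₀, A₀ = F.autGroup (P ⊔ Q) ⊓ KP Q K P := ⟨_, rfl⟩
  obtain ⟨R₀, hR₀⟩ : ∃ R₀, R₀ = autInducedBy S (P ⊔ Q) ⊓ KP Q K P := ⟨_, rfl⟩
  rw [← hA₀, ← hR₀] at hsyl
  have hA₀K : A₀ ≤ KP Q K P := by rw [hA₀]; exact inf_le_right
  have hR₀A₀ : R₀ ≤ A₀ := hsyl.le
  obtain ⟨B, hBdef⟩ : ∃ B, B = Kmap e (autInducedBy N (R ⊔ Q)) := ⟨_, rfl⟩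
  have hBp : IsPGroup p B := by
    rw [hBdef]
    exact ((isPGroup_autInducedBy hS (R ⊔ Q)).to_le (autInducedBy_mono hNS _)).map _
  have hcongr_e : ∀ (α : MulAut ↥(R ⊔ Q)) (m : ↥(R ⊔ Q)), MulAut.congr e α (e m) = e (α m) := by
    intro α m
    rw [congr_apply, MulEquiv.symm_apply_apply]
  have hB : B ≤ R₀ ⊔ (A₀ ⊓ fixP P Q) := by
    rw [hBdef]
    rintro _ ⟨α, hα, rfl⟩
    obtain ⟨g, hgN, hgα⟩ := mem_autInducedBy_iff.mp hα
    rw [hNdef] at hgN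
    obtain ⟨hgT, hgR, h, hhT, hgh⟩ := mem_extender_iff.mp hgN
    have hhP : h ∈ Subgroup.normalizer (P : Set Ω) := by
      refine mem_normalizer_of_forall (fun y hy => ?_) (fun y hy => ?_)
      · obtain ⟨x, rfl⟩ : y ∈ φ.range := hrange ▸ hy
        rw [← hgh x]
        exact hφP _
      · obtain ⟨x, rfl⟩ : y ∈ φ.range := hrange ▸ hy
        have hx' := conj_inv_mem_of_mem_normalizer hgR x
        have h1 := hgh ⟨_, hx'⟩
        have h2 : (⟨g * ((⟨g⁻¹ * (x : Ω) * g, hx'⟩ : R) : Ω) * g⁻¹,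
            conj_mem_of_mem_normalizer hgR _⟩ : R) = x := by
          apply Subtype.ext
          show g * (g⁻¹ * (x : Ω) * g) * g⁻¹ = x
          group
        rw [h2] at h1
        rw [h1]
        have h3 : h⁻¹ * (h * φ ⟨g⁻¹ * (x : Ω) * g, hx'⟩ * h⁻¹) * h =
            φ ⟨g⁻¹ * (x : Ω) * g, hx'⟩ := by group
        rw [h3]
        exact hφP _
    have hhN : h ∈ NK S (P ⊔ Q) (KP Q K P) := by
      rw [NK_KP]
      exact ⟨hhT, hhP⟩
    obtain ⟨hhS, γ, hγK, hγe⟩ := hhN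
    have hγR₀ : γ ∈ R₀ := by
      rw [hR₀]
      exact ⟨mem_autInducedBy_iff.mpr ⟨h, hhS, hγe⟩, hγK⟩
    have hβF : MulAut.congr e α ∈ F.autGroup (P ⊔ Q) :=
      congr_mem_autGroup he (autInducedBy_le_autGroup F hM'S (autInducedBy_mono hNS _ hα))
    -- `β` and `γ` agree on `P`
    have hβγ : ∀ y : P, MulAut.congr e α (Subgroup.inclusion le_sup_left y) =
        γ (Subgroup.inclusion le_sup_left y) := by
      intro y
      obtain ⟨x, hx⟩ := hPsurj y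
      rw [hx, hcongr_e]
      apply Subtype.ext
      rw [hγe, heR]
      have h1 : α (Subgroup.inclusion le_sup_left x) = Subgroup.inclusion
          (le_sup_left : R ≤ R ⊔ Q) ⟨g * (x : Ω) * g⁻¹, conj_mem_of_mem_normalizer hgR x⟩ := by
        apply Subtype.ext
        rw [hgα]
        rfl
      rw [h1, heR]
      exact hgh x
    have hβK : MulAut.congr e α ∈ KP Q K P := by
      apply mem_KP_of_forall
      · intro y
        rw [hβγ]
        exact ((hγK.1 _).mp y.2)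
      · obtain ⟨-, κg, hκg, hκge⟩ := hgT
        refine ⟨κ * κg * κ⁻¹, K.mul_mem (K.mul_mem hκ hκg) (K.inv_mem hκ), fun q => ?_⟩
        obtain ⟨q₀, rfl⟩ := κ.surjective q
        rw [← heQ, hcongr_e]
        have h1 : α (Subgroup.inclusion le_sup_right q₀) = Subgroup.inclusion
            (le_sup_right : Q ≤ R ⊔ Q) (κg q₀) := by
          apply Subtype.ext
          rw [hgα]
          exact (hκge q₀).symm
        rw [h1, heQ]
        simp [MulAut.mul_apply]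
    have hβA₀ : MulAut.congr e α ∈ A₀ := by
      rw [hA₀]
      exact ⟨hβF, hβK⟩
    have hfix : MulAut.congr e α * γ⁻¹ ∈ A₀ ⊓ fixP P Q := by
      refine ⟨A₀.mul_mem hβA₀ (A₀.inv_mem (hR₀A₀ hγR₀)), fun y => ?_⟩
      have h1 : ((γ⁻¹ (Subgroup.inclusion le_sup_left y) : ↥(P ⊔ Q)) : Ω) ∈ P :=
        (((KP Q K P).inv_mem hγK).1 _).mp y.2
      have h2 : γ⁻¹ (Subgroup.inclusion le_sup_left y) =
          Subgroup.inclusion (le_sup_left : P ≤ P ⊔ Q) ⟨_, h1⟩ := Subtype.ext rfl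
      rw [MulAut.mul_apply, h2, hβγ, ← h2, MulAut.apply_inv_self]
    have h5 : MulAut.congr e α = (MulAut.congr e α * γ⁻¹) * γ := by group
    show MulAut.congr e α ∈ _
    rw [h5]
    exact Subgroup.mul_mem _ (Subgroup.mem_sup_right hfix) (Subgroup.mem_sup_left hγR₀)
  obtain ⟨χ, hχ, hχB⟩ := exists_conj_le_of_le_sup hsyl inf_le_left
    (le_normalizer_inf_fixP hA₀K) hBp hB
  have hχF : χ ∈ F.autGroup (P ⊔ Q) := by
    have := hχ.1
    rw [hA₀] at this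
    exact this.1
  obtain ⟨-, κχ, hκχ, hκχe⟩ := hA₀K hχ.1
  have hχfix := hχ.2
  obtain ⟨e', he'def⟩ : ∃ e' : ↥(R ⊔ Q) ≃* ↥(P ⊔ Q), e' = e.trans χ := ⟨_, rfl⟩
  have he' : IsIso F e' := by
    rw [he'def]
    exact he.trans ((isIso_iff_mem_autGroup F hMS χ).mpr hχF)
  have he'x : ∀ m, e' m = χ (e m) := by intro m; rw [he'def]; rfl
  obtain ⟨ε', hε'def⟩ : ∃ ε' : ↥(R ⊔ Q) →* Ω, ε' = (P ⊔ Q).subtype.comp e'.toMonoidHom :=
    ⟨_, rfl⟩
  have hε' : ε' ∈ F.Hom (R ⊔ Q) := by rw [hε'def]; exact he'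
  have hε'x : ∀ m, ε' m = ((χ (e m) : ↥(P ⊔ Q)) : Ω) := by
    intro m
    rw [hε'def]
    show ((e' m : ↥(P ⊔ Q)) : Ω) = _
    rw [he'x]
  have hε'r : ε'.range = P ⊔ Q := by rw [hε'def]; exact range_subtype_comp_equiv e'
  have hNext : N ≤ extender S (R ⊔ Q) ε' := by
    intro g hgN
    have hgN' := hgN
    rw [hNdef] at hgN'
    obtain ⟨hgT, hgR, -⟩ := mem_extender_iff.mp hgN'
    have hgM' : g ∈ Subgroup.normalizer ((R ⊔ Q : Subgroup Ω) : Set Ω) :=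
      mem_normalizer_sup hgR (NK_le_normalizerIn Q K hgT).2
    have hα : conjAut (R ⊔ Q) g hgM' ∈ autInducedBy N (R ⊔ Q) :=
      conjAut_mem_autInducedBy hgN hgM'
    have hβB : MulAut.congr e (conjAut (R ⊔ Q) g hgM') ∈ B := by
      rw [hBdef]
      exact congr_mem_Kmap e hα
    have h1 := hχB (Helper18.conj_mem_conjSub (g := χ) hβB)
    rw [hR₀] at h1
    obtain ⟨s, hsS, hs⟩ := mem_autInducedBy_iff.mp h1.1
    refine mem_extender_iff.mpr ⟨hNS hgN, hgM', s, hsS, fun m => ?_⟩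
    rw [hε'x, hε'x]
    have h2 := hs (χ (e m))
    rw [← h2]
    have h3 : (⟨g * (m : Ω) * g⁻¹, conj_mem_of_mem_normalizer hgM' m⟩ : ↥(R ⊔ Q)) =
        conjAut (R ⊔ Q) g hgM' m := Subtype.ext rfl
    rw [h3, MulAut.mul_apply, MulAut.mul_apply, MulAut.inv_apply_self, hcongr_e]
  obtain ⟨θ, hθ, hθext⟩ := hrec.2 (R ⊔ Q) ε' hε' hε'r
  have hNQle : N ⊔ Q ≤ extender S (R ⊔ Q) ε' :=
    sup_le hNext (le_sup_right.trans (le_extender F hε'))
  obtain ⟨θ', hθ'def⟩ : ∃ θ' : ↥(N ⊔ Q) →* Ω, θ' = θ.comp (Subgroup.inclusion hNQle) := ⟨_, rfl⟩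
  have hθ' : θ' ∈ F.Hom (N ⊔ Q) := by rw [hθ'def]; exact restrict_mem F hθ hNQle
  have hθ'Q : ∀ q : Q, θ' (Subgroup.inclusion le_sup_right q) = (((κχ * κ) q : Q) : Ω) := by
    intro q
    have h0 : θ' (Subgroup.inclusion le_sup_right q) =
        θ ⟨(q : Ω), hNQle (le_sup_right (a := N) q.2)⟩ := by rw [hθ'def]; rfl
    rw [h0, hθext q (le_sup_right (a := R) q.2), hε'x]
    have h1 : (⟨(q : Ω), le_sup_right (a := R) q.2⟩ : ↥(R ⊔ Q)) =
        Subgroup.inclusion le_sup_right q := rfl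
    rw [h1, heQ, hκχe]
    rfl
  have hkhom := khom_of_ext F hNT hθ' (K.mul_mem hκχ hκ) hθ'Q
  have hmemE : θ'.comp (Subgroup.inclusion le_sup_left) ∈ E.Hom N := (hE N _).mpr hkhom
  subst hNdef
  refine ⟨θ'.comp (Subgroup.inclusion le_sup_left), hmemE, fun x hxR hxN => ?_⟩
  have h0 : (θ'.comp (Subgroup.inclusion le_sup_left)) ⟨x, hxN⟩ =
      θ ⟨x, hNQle (le_sup_left (b := Q) hxN)⟩ := by rw [hθ'def]; rfl
  rw [h0, hθext x (le_sup_left (b := Q) hxR), hε'x]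
  have h1 : (⟨x, le_sup_left (b := Q) hxR⟩ : ↥(R ⊔ Q)) =
      Subgroup.inclusion le_sup_left ⟨x, hxR⟩ := rfl
  rw [h1, heR, hχfix]
  rfl

end StepC

end Cfsg.Agent.Lib.Helper26
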