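import Cfsg.Agent.Lib.Helper26.KNorm5

set_option autoImplicit false

namespace Cfsg.Agent.Lib.Helper26

open Cfsg Cfsg.FusionSystem

section StepB

variable {Ω : Type*} [Group Ω] {S : Subgroup Ω}

/-- Restriction to `P` of an automorphism of `P ⊔ Q` lying in `K_P`. -/
def restrictAut {Q : Subgroup Ω} {K : Subgroup (MulAut Q)} {P : Subgroup Ω}
    (α : MulAut ↥(P ⊔ Q)) (hα : α ∈ KP Q K P) : MulAut P where
  toFun x := ⟨α (Subgroup.inclusion le_sup_left x), (hα.1 _).mp x.2⟩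
  invFun x := ⟨α⁻¹ (Subgroup.inclusion le_sup_left x), (((KP Q K P).inv_mem hα).1 _).mp x.2⟩
  left_inv x := by
    apply Subtype.ext
    have h1 : Subgroup.inclusion (le_sup_left : P ≤ P ⊔ Q)
        ⟨((α (Subgroup.inclusion le_sup_left x) : ↥(P ⊔ Q)) : Ω), (hα.1 _).mp x.2⟩ =
        α (Subgroup.inclusion le_sup_left x) := Subtype.ext rfl
    show ((α⁻¹ (Subgroup.inclusion (le_sup_left : P ≤ P ⊔ Q)
        ⟨((α (Subgroup.inclusion le_sup_left x) : ↥(P ⊔ Q)) : Ω), (hα.1 _).mp x.2⟩) : ↥(P ⊔ Q)) : Ω) =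
        x
    rw [h1, MulAut.inv_apply_self]
    rfl
  right_inv x := by
    apply Subtype.ext
    have h1 : Subgroup.inclusion (le_sup_left : P ≤ P ⊔ Q)
        ⟨((α⁻¹ (Subgroup.inclusion le_sup_left x) : ↥(P ⊔ Q)) : Ω),
          (((KP Q K P).inv_mem hα).1 _).mp x.2⟩ =
        α⁻¹ (Subgroup.inclusion le_sup_left x) := Subtype.ext rfl
    show ((α (Subgroup.inclusion (le_sup_left : P ≤ P ⊔ Q)
        ⟨((α⁻¹ (Subgroup.inclusion le_sup_left x) : ↥(P ⊔ Q)) : Ω),
          (((KP Q K P).inv_mem hα).1 _).mp x.2⟩) : ↥(P ⊔ Q)) : Ω) = x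
    rw [h1, MulAut.apply_inv_self]
    rfl
  map_mul' x y := by
    apply Subtype.ext
    show ((α (Subgroup.inclusion le_sup_left (x * y)) : ↥(P ⊔ Q)) : Ω) =
      ((α (Subgroup.inclusion le_sup_left x) : ↥(P ⊔ Q)) : Ω) *
        ((α (Subgroup.inclusion le_sup_left y) : ↥(P ⊔ Q)) : Ω)
    rw [map_mul, map_mul]
    rfl

theorem restrictAut_apply {Q : Subgroup Ω} {K : Subgroup (MulAut Q)} {P : Subgroup Ω}
    (α : MulAut ↥(P ⊔ Q)) (hα : α ∈ KP Q K P) (x : P) :
    ((restrictAut α hα x : P) : Ω) = ((α (Subgroup.inclusion le_sup_left x) : ↥(P ⊔ Q)) : Ω) := rfl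

/-- Restriction as a homomorphism `K_P → Aut(P)`. -/
def restrictHom (Q : Subgroup Ω) (K : Subgroup (MulAut Q)) (P : Subgroup Ω) :
    ↥(KP Q K P) →* MulAut P where
  toFun α := restrictAut α.1 α.2
  map_one' := by
    ext x
    rfl
  map_mul' a b := by
    ext x
    rfl

theorem restrictHom_apply (Q : Subgroup Ω) (K : Subgroup (MulAut Q)) (P : Subgroup Ω)
    (α : ↥(KP Q K P)) (x : P) : ((restrictHom Q K P α x : P) : Ω) =
      (((α : MulAut ↥(P ⊔ Q)) (Subgroup.inclusion le_sup_left x) : ↥(P ⊔ Q)) : Ω) := rfl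

/-- Step (b) of AKO I.5.5: if `P ⊔ Q` is fully `K_P`-normalized in `F` then `P` is fully automized
in the `K`-normalizer system. -/
theorem fullyAutomized_of_fullyKNormalized_sup [Finite S] {p : ℕ} [Fact p.Prime]
    (hS : IsPGroup p S) (F : FusionSystem S) (hF : F.IsSaturated p) {Q : Subgroup Ω}
    {K : Subgroup (MulAut Q)} (E : FusionSystem (NK S Q K))
    (hE : ∀ (P : Subgroup Ω) (φ : P →* Ω), φ ∈ E.Hom P ↔ KHom F Q K P φ) {P : Subgroup Ω}
    (hPT : P ≤ NK S Q K) (hPK : FullyKNormalized F (P ⊔ Q) (KP Q K P)) :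
    E.IsFullyAutomized p P := by
  have hMS : P ⊔ Q ≤ S := hPK.1
  haveI : Finite ↥(P ⊔ Q) := finite_of_le hMS
  haveI : Finite P := finite_of_le (hPT.trans (NK_le _ _))
  obtain ⟨-, hsyl⟩ := fullyKNormalized_imp hS F hF hPK
  have hA₀K : F.autGroup (P ⊔ Q) ⊓ KP Q K P ≤ KP Q K P := inf_le_right
  have hR₀K : autInducedBy S (P ⊔ Q) ⊓ KP Q K P ≤ KP Q K P := inf_le_right
  have hsyl' : Helper18.IsSylowIn p ((autInducedBy S (P ⊔ Q) ⊓ KP Q K P).subgroupOf (KP Q K P))
      ((F.autGroup (P ⊔ Q) ⊓ KP Q K P).subgroupOf (KP Q K P)) := by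
    apply IsSylowIn18.of_map_injective (KP Q K P).subtype Subtype.val_injective
    · intro x hx
      exact hsyl.le hx
    · rw [Subgroup.map_subgroupOf_eq_of_le hA₀K, Subgroup.map_subgroupOf_eq_of_le hR₀K]
      exact hsyl
  have hsyl2 := IsSylowIn18.map hsyl' (restrictHom Q K P)
  have hA : ((F.autGroup (P ⊔ Q) ⊓ KP Q K P).subgroupOf (KP Q K P)).map (restrictHom Q K P) =
      E.autGroup P := by
    ext α
    rw [mem_autGroup_iff E hPT, hE]
    constructor
    · rintro ⟨⟨α', hα'K⟩, hα'A, rfl⟩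
      have hα'F : α' ∈ F.autGroup (P ⊔ Q) := (Subgroup.mem_subgroupOf.mp hα'A).1
      rw [mem_autGroup_iff F hMS] at hα'F
      obtain ⟨-, κ, hκ, hκe⟩ := hα'K
      exact khom_of_ext F hPT hα'F hκ hκe
    · rintro ⟨-, -, -, ψ, hψ, hψP, κ, hκ, hψQ⟩
      have hQmap : (Q.subgroupOf (P ⊔ Q)).map ψ = Q := by
        ext z
        rw [map_subgroupOf_sup_eq]
        constructor
        · rintro ⟨q, rfl⟩
          rw [hψQ]
          exact (κ q).2
        · intro hz
          refine ⟨κ⁻¹ ⟨z, hz⟩, ?_⟩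
          rw [hψQ]
          simp
      have hr : ψ.range = P ⊔ Q := by
        rw [range_ext_eq hψP hQmap, range_subtype_comp_equiv]
      have hα'K : autOfHom F hψ hr ∈ KP Q K P := by
        apply mem_KP_of_forall
        · intro x
          rw [autOfHom_apply, hψP]
          exact (α x).2
        · exact ⟨κ, hκ, fun q => by rw [autOfHom_apply, hψQ]⟩
      refine ⟨⟨autOfHom F hψ hr, hα'K⟩, Subgroup.mem_subgroupOf.mpr ⟨autOfHom_mem F hψ hr, hα'K⟩, ?_⟩
      ext x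
      rw [restrictHom_apply]
      show ((autOfHom F hψ hr (Subgroup.inclusion le_sup_left x) : ↥(P ⊔ Q)) : Ω) = _
      rw [autOfHom_apply, hψP]
      rfl
  have hR : ((autInducedBy S (P ⊔ Q) ⊓ KP Q K P).subgroupOf (KP Q K P)).map (restrictHom Q K P) =
      autInducedBy (NK S Q K) P := by
    ext α
    constructor
    · rintro ⟨⟨γ, hγK⟩, hγR, rfl⟩
      have hγS : γ ∈ autInducedBy S (P ⊔ Q) := (Subgroup.mem_subgroupOf.mp hγR).1
      obtain ⟨s, hsS, hs⟩ := mem_autInducedBy_iff.mp hγS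
      have hsN : s ∈ NK S (P ⊔ Q) (KP Q K P) := ⟨hsS, γ, hγK, hs⟩
      rw [NK_KP] at hsN
      refine mem_autInducedBy_iff.mpr ⟨s, hsN.1, fun x => ?_⟩
      rw [restrictHom_apply]
      exact hs _
    · intro hα
      obtain ⟨g, hgT, hg⟩ := mem_autInducedBy_iff.mp hα
      have hgP : g ∈ Subgroup.normalizer (P : Set Ω) := mem_normalizer_of_conj_aut hg
      have hgN : g ∈ NK S (P ⊔ Q) (KP Q K P) := by
        rw [NK_KP]
        exact ⟨hgT, hgP⟩
      obtain ⟨hgS, γ, hγK, hγe⟩ := hgN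
      refine ⟨⟨γ, hγK⟩, Subgroup.mem_subgroupOf.mpr
        ⟨mem_autInducedBy_iff.mpr ⟨g, hgS, hγe⟩, hγK⟩, ?_⟩
      ext x
      rw [restrictHom_apply, hg]
      exact hγe _
  rw [hA, hR] at hsyl2
  exact ⟨hPT, hsyl2.exists_sylow⟩

end StepB

section Main

variable {Ω : Type*} [Group Ω] {S : Subgroup Ω}

/-- AKO Theorem I.5.5: the `K`-normalizer system of a fully `K`-normalized subgroup in a saturated
fusion system is saturated. -/
theorem knormalizer_saturated [Finite S] {p : ℕ} [Fact p.Prime]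
    (hS : IsPGroup p S) (F : FusionSystem S) (hF : F.IsSaturated p) {Q : Subgroup Ω}
    {K : Subgroup (MulAut Q)} (hQK : FullyKNormalized F Q K) (E : FusionSystem (NK S Q K))
    (hE : ∀ (P : Subgroup Ω) (φ : P →* Ω), φ ∈ E.Hom P ↔ KHom F Q K P φ) :
    E.IsSaturated p := by
  haveI : Finite ↥(NK S Q K) := finite_of_le (NK_le _ _)
  intro P hP
  obtain ⟨P', hPP', hfn⟩ := exists_fullyNormalized_conj E hP
  have hP'K := fullyKNormalized_sup_of_fullyNormalized hS F hF hQK E hE hfn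
  exact ⟨P', hPP', fullyAutomized_of_fullyKNormalized_sup hS F hF E hE hfn.1 hP'K,
    receptive_of_fullyKNormalized_sup hS F hF E hE hfn.1 hP'K⟩

/-- Transported form of `knormalizer_saturated`, for a system over a subgroup `T` that is only
propositionally equal to `N^K_S(Q)`. -/
theorem knormalizer_saturated' [Finite S] {p : ℕ} [Fact p.Prime]
    (hS : IsPGroup p S) (F : FusionSystem S) (hF : F.IsSaturated p) {Q : Subgroup Ω}
    {K : Subgroup (MulAut Q)} (hQK : FullyKNormalized F Q K) {T : Subgroup Ω}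
    (hT : T = NK S Q K) (E : FusionSystem T)
    (hE : ∀ (P : Subgroup Ω) (φ : P →* Ω), φ ∈ E.Hom P ↔ KHom F Q K P φ) :
    E.IsSaturated p := by
  subst hT
  exact knormalizer_saturated hS F hF hQK E hE

end Main

end Cfsg.Agent.Lib.Helper26
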