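import Cfsg.Agent.Lib.Helper26.KNorm7
import Cfsg.Agent.Lib.Helper26.FusionNormal
import Cfsg.Agent.Lib.Helper26.Realize2
import Cfsg.Agent.Lib.Helper1.Cores

set_option autoImplicit false

namespace Cfsg.Agent.Lib.Helper26

open Cfsg Cfsg.FusionSystem

section ModelNormal

variable {Ω : Type*} [Group Ω] {S : Subgroup Ω} {G : Type*} [Group G]

theorem exists_preimage_conj {ι : S →* G}
    {N : Subgroup G} [N.Normal] (hN : N ≤ ι.range) (g : G) {y : Ω} (hy : y ∈ preSub ι N) :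
    ∃ (q : Ω) (hq : q ∈ preSub ι N), g * ι ⟨q, preSub_le ι N hq⟩ * g⁻¹ = ι ⟨y, preSub_le ι N hy⟩ := by
  obtain ⟨hyS, hyN⟩ := mem_preSub_iff.mp hy
  have h1 : g⁻¹ * ι ⟨y, hyS⟩ * g ∈ N := by
    have := (inferInstance : N.Normal).conj_mem _ hyN g⁻¹
    simpa using this
  obtain ⟨s, hs⟩ := hN h1
  refine ⟨s.1, mem_preSub_iff.mpr ⟨s.2, ?_⟩, ?_⟩
  · show ι s ∈ N
    rw [hs]
    exact h1
  · show g * ι s * g⁻¹ = _
    rw [hs]
    group

/-- The preimage of a normal subgroup of `G` contained in the image of `S` is normal in the fusion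
system realized by `G`. -/
theorem isNormal_preSub_of_normal {ι : S →* G} (F : FusionSystem S) (hR : F.IsRealizedBy ι)
    (N : Subgroup G) [N.Normal] (hNT : N ≤ ι.range) : F.IsNormal (preSub ι N) := by
  refine ⟨preSub_le ι _, fun P φ hφ => ?_⟩
  have hPS : P ≤ S := (F.le_of_mem hφ).1
  have hφS : ∀ x : P, φ x ∈ S := (F.le_of_mem hφ).2
  obtain ⟨g, hg⟩ := exists_of_mem_hom F hR hφ
  have hPK : P ≤ preSub ι (cj ι.range g⁻¹) := by
    intro x hx
    rw [mem_preSub_iff]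
    refine ⟨hPS hx, ?_⟩
    rw [mem_cj_iff, inv_inv]
    rw [← hg ⟨x, hx⟩]
    exact ⟨_, rfl⟩
  have hQK : preSub ι N ≤ preSub ι (cj ι.range g⁻¹) := by
    intro x hx
    obtain ⟨hxS, hxN⟩ := mem_preSub_iff.mp hx
    rw [mem_preSub_iff]
    refine ⟨hxS, ?_⟩
    rw [mem_cj_iff, inv_inv]
    exact hNT ((inferInstance : N.Normal).conj_mem _ hxN g)
  have hsupK : P ⊔ preSub ι N ≤ preSub ι (cj ι.range g⁻¹) := sup_le hPK hQK
  have hsupS : P ⊔ preSub ι N ≤ S := sup_le hPS (preSub_le ι _)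
  have h : ∀ x : ↥(P ⊔ preSub ι N), g * ι ⟨x, hsupS x.2⟩ * g⁻¹ ∈ ι.range := by
    intro x
    obtain ⟨_, h2⟩ := mem_preSub_iff.mp (hsupK x.2)
    rw [mem_cj_iff, inv_inv] at h2
    exact h2
  refine ⟨pullHom hR.1 _ hsupS g h, pullHom_mem_hom F hR _ hsupS g h, ?_, ?_⟩
  · intro x
    have h1 := apply_pullHom hR.1 _ hsupS g h (Subgroup.inclusion le_sup_left x)
    have h2 := hg x
    have h3 : ι ⟨pullHom hR.1 _ hsupS g h (Subgroup.inclusion le_sup_left x),
        pullHom_mem hR.1 _ hsupS g h _⟩ = ι ⟨φ x, hφS x⟩ := by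
      rw [h1, h2]
      rfl
    exact congrArg Subtype.val (hR.1 h3)
  · ext y
    constructor
    · rintro ⟨x, hx, rfl⟩
      rw [mem_preSub_iff]
      refine ⟨pullHom_mem hR.1 _ hsupS g h x, ?_⟩
      rw [apply_pullHom]
      have hx' : (x : Ω) ∈ preSub ι N := hx
      obtain ⟨hxS, hxN⟩ := mem_preSub_iff.mp hx'
      exact (inferInstance : N.Normal).conj_mem _ hxN g
    · intro hy
      obtain ⟨q, hq, hqe⟩ := exists_preimage_conj hNT g hy
      refine ⟨⟨q, Subgroup.mem_sup_right hq⟩, hq, ?_⟩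
      have h1 := apply_pullHom hR.1 _ hsupS g h ⟨q, Subgroup.mem_sup_right hq⟩
      have h3 : ι ⟨pullHom hR.1 _ hsupS g h ⟨q, Subgroup.mem_sup_right hq⟩,
          pullHom_mem hR.1 _ hsupS g h _⟩ = ι ⟨y, preSub_le ι _ hy⟩ := by
        rw [h1]
        exact hqe
      exact congrArg Subtype.val (hR.1 h3)

end ModelNormal

section NormSys

variable {Ω : Type*} [Group Ω] {S : Subgroup Ω}

/-- `R` is normal in its normalizer system. -/
theorem normalizerSystem_isNormal (F : FusionSystem S) {R : Subgroup Ω} (hRS : R ≤ S)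
    (E : FusionSystem (normalizerIn S R)) (hE : F.IsNormalizerSystem R E) : E.IsNormal R := by
  have hRT : R ≤ normalizerIn S R := le_normalizerIn_self hRS
  refine ⟨hRT, fun P φ hφ => ?_⟩
  rw [hE P] at hφ
  obtain ⟨hφF, hPT, hφT, ψ, hψ, hψP, hψR⟩ := hφ
  have hMT : P ⊔ R ≤ normalizerIn S R := sup_le hPT hRT
  have hRsurj : ∀ y ∈ R, ∃ r : R, ψ (Subgroup.inclusion le_sup_right r) = y := by
    intro y hy
    have : y ∈ (R.subgroupOf (P ⊔ R)).map ψ := by rw [hψR]; exact hy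
    exact (map_subgroupOf_sup_eq ψ).mp this
  have hRmem : ∀ r : R, ψ (Subgroup.inclusion le_sup_right r) ∈ R := by
    intro r
    have : ψ (Subgroup.inclusion le_sup_right r) ∈ (R.subgroupOf (P ⊔ R)).map ψ :=
      (map_subgroupOf_sup_eq ψ).mpr ⟨r, rfl⟩
    rw [hψR] at this
    exact this
  have hconj : ∀ (x : ↥(P ⊔ R)), ∀ y ∈ R, ψ x * y * (ψ x)⁻¹ ∈ R := by
    intro x y hy
    obtain ⟨r, rfl⟩ := hRsurj y hy
    have hxN : (x : Ω) ∈ Subgroup.normalizer (R : Set Ω) := (hMT x.2).2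
    have hr' : (x : Ω) * r * (x : Ω)⁻¹ ∈ R := conj_mem_of_mem_normalizer hxN r
    have h1 : ψ x * ψ (Subgroup.inclusion le_sup_right r) * (ψ x)⁻¹ =
        ψ (Subgroup.inclusion le_sup_right ⟨_, hr'⟩) := by
      rw [← map_inv, ← map_mul, ← map_mul]
      congr 1
    rw [h1]
    exact hRmem _
  have hψT : ∀ x : ↥(P ⊔ R), ψ x ∈ normalizerIn S R := by
    intro x
    refine ⟨apply_mem F hψ x, mem_normalizer_of_forall (hconj x) (fun y hy => ?_)⟩
    have := hconj x⁻¹ y hy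
    rw [map_inv, inv_inv] at this
    exact this
  have hle : (P ⊔ R) ⊔ R ≤ P ⊔ R := sup_le le_rfl le_sup_right
  refine ⟨ψ, ?_, hψP, hψR⟩
  rw [hE (P ⊔ R)]
  refine ⟨hψ, hMT, hψT, ψ.comp (Subgroup.inclusion hle), restrict_mem F hψ hle, fun x => ?_, ?_⟩
  · show ψ _ = ψ x
    congr 1
  · ext z
    rw [map_subgroupOf_sup_eq]
    constructor
    · rintro ⟨q, rfl⟩
      exact hRmem q
    · intro hz
      obtain ⟨r, hr⟩ := hRsurj z hz
      exact ⟨r, hr⟩

theorem normalizerSystem_autGroup_eq (F : FusionSystem S) {R : Subgroup Ω} (hRS : R ≤ S)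
    (E : FusionSystem (normalizerIn S R)) (hE : F.IsNormalizerSystem R E) :
    E.autGroup R = F.autGroup R := by
  have hRT : R ≤ normalizerIn S R := le_normalizerIn_self hRS
  ext α
  rw [mem_autGroup_iff E hRT, mem_autGroup_iff F hRS, hE R]
  constructor
  · intro h
    exact h.1
  · intro h
    have hle : R ⊔ R ≤ R := sup_le le_rfl le_rfl
    refine ⟨h, hRT, fun x => hRT (α x).2, (R.subtype.comp α.toMonoidHom).comp
      (Subgroup.inclusion hle), restrict_mem F h hle, fun x => rfl, ?_⟩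
    ext z
    rw [map_subgroupOf_sup_eq]
    constructor
    · rintro ⟨q, rfl⟩
      exact (α q).2
    · intro hz
      refine ⟨α⁻¹ ⟨z, hz⟩, ?_⟩
      show ((α (α⁻¹ ⟨z, hz⟩) : R) : Ω) = z
      rw [MulAut.apply_inv_self]

theorem normalizerSystem_isConj (F : FusionSystem S) {R : Subgroup Ω}
    (E : FusionSystem (normalizerIn S R)) (hE : F.IsNormalizerSystem R E) {P P' : Subgroup Ω}
    (h : E.IsConj P P') : F.IsConj P P' := by
  obtain ⟨φ, hφ, hr⟩ := h
  rw [hE P] at hφ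
  exact ⟨φ, hφ.1, hr⟩

theorem normalizerSystem_isCentric (F : FusionSystem S) {R : Subgroup Ω} (hRc : F.IsCentric R)
    (E : FusionSystem (normalizerIn S R)) (hE : F.IsNormalizerSystem R E) : E.IsCentric R := by
  refine ⟨le_normalizerIn_self hRc.1, fun R' hRR' => ?_⟩
  have h1 := hRc.2 R' (normalizerSystem_isConj F E hE hRR')
  exact (inf_le_inf_right _ inf_le_left).trans h1

/-- The normalizer system of a fully normalized centric subgroup is constrained. -/
theorem normalizerSystem_constrained [Finite S] {p : ℕ} [Fact p.Prime] (hS : IsPGroup p S)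
    (F : FusionSystem S) (hF : F.IsSaturated p) {R : Subgroup Ω} (hRn : F.IsFullyNormalized R)
    (hRc : F.IsCentric R) (E : FusionSystem (normalizerIn S R)) (hE : F.IsNormalizerSystem R E) :
    E.IsConstrained p :=
  ⟨normalizerSystem_saturated hS F hF hRn E hE, R, normalizerSystem_isNormal F hRn.1 E hE,
    normalizerSystem_isCentric F hRc E hE⟩

/-- In a model of the normalizer system of a centric radical subgroup `R`, `O_p` is the image
of `R`. -/
theorem pCore_model_normalizerSystem [Finite S] {p : ℕ} [Fact p.Prime] (hS : IsPGroup p S)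
    (F : FusionSystem S) {R : Subgroup Ω} (hRc : F.IsCentric R) (hRr : F.IsRadical p R)
    (E : FusionSystem (normalizerIn S R)) (hE : F.IsNormalizerSystem R E)
    {G : Type*} [Group G] (ι : ↥(normalizerIn S R) →* G) (hG : E.IsModel p G ι) :
    (pCore p G : Subgroup G) = (R.subgroupOf (normalizerIn S R)).map ι := by
  obtain ⟨hfin, hR, ⟨T, hT⟩, hC⟩ := hG
  haveI := hfin
  have hRS : R ≤ S := hRc.1
  have hRT : R ≤ normalizerIn S R := le_normalizerIn_self hRS
  haveI : Finite ↥(normalizerIn S R) := finite_of_le inf_le_left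
  have hTp : IsPGroup p ↥(normalizerIn S R) := hS.to_le inf_le_left
  haveI hUn : (pCore p G).Normal := Helper1.pCore_normal p
  have hUT : pCore p G ≤ ι.range := hT ▸ Helper1.pCore_le_sylow p T
  have hU'n : E.IsNormal (preSub ι (pCore p G)) := isNormal_preSub_of_normal E hR _ hUT
  have hRrE : E.IsRadical p R := by
    refine ⟨hRT, ?_⟩
    rw [normalizerSystem_autGroup_eq F hRS E hE]
    exact hRr.2
  have hCR : centralizerIn (normalizerIn S R) R ≤ R :=
    (inf_le_inf_right _ inf_le_left).trans (hRc.2 R (isConj_refl F hRS))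
  have hU'R : preSub ι (pCore p G) ≤ R := isNormal_le_of_centric_radical hTp hU'n hRT hCR hRrE
  have hUim : pCore p G ≤ (R.subgroupOf (normalizerIn S R)).map ι := by
    have h1 := imSub_mono ι hU'R
    rw [imSub_preSub hUT] at h1
    exact h1
  apply le_antisymm hUim
  have hRnE := normalizerSystem_isNormal F hRS E hE
  have hconj : ∀ (g : G), ∀ y ∈ (R.subgroupOf (normalizerIn S R)).map ι,
      g * y * g⁻¹ ∈ (R.subgroupOf (normalizerIn S R)).map ι := by
    intro g y hy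
    have hU'T : preSub ι (pCore p G) ≤ normalizerIn S R := preSub_le ι _
    have h : ∀ x : ↥(preSub ι (pCore p G)), g * ι ⟨x, hU'T x.2⟩ * g⁻¹ ∈ ι.range := by
      intro x
      obtain ⟨_, h2⟩ := mem_preSub_iff.mp x.2
      exact hUT (hUn.conj_mem _ h2 g)
    have hφ := pullHom_mem_hom E hR _ hU'T g h
    obtain ⟨ψ, hψ, hψU, hψR⟩ := hRnE.2 _ _ hφ
    obtain ⟨h', hh'⟩ := exists_of_mem_hom E hR hψ
    have hc : h'⁻¹ * g ∈ Subgroup.centralizer ((pCore p G : Subgroup G) : Set G) := by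
      rw [Subgroup.mem_centralizer_iff]
      intro u hu
      obtain ⟨s, rfl⟩ := hUT hu
      have hsU' : (s : Ω) ∈ preSub ι (pCore p G) := mem_preSub_iff.mpr ⟨s.2, hu⟩
      have h1 := hh' (Subgroup.inclusion le_sup_left ⟨(s : Ω), hsU'⟩)
      have h2 := apply_pullHom hR.1 _ hU'T g h ⟨(s : Ω), hsU'⟩
      have h3 : ι ⟨ψ (Subgroup.inclusion le_sup_left ⟨(s : Ω), hsU'⟩), (E.le_of_mem hψ).2 _⟩ =
          ι ⟨pullHom hR.1 _ hU'T g h ⟨(s : Ω), hsU'⟩, pullHom_mem hR.1 _ hU'T g h _⟩ := by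
        congr 1
        exact Subtype.ext (hψU _)
      rw [h1, h2] at h3
      have h4 : h' * ι s * h'⁻¹ = g * ι s * g⁻¹ := h3
      calc ι s * (h'⁻¹ * g) = h'⁻¹ * (h' * ι s * h'⁻¹) * g := by group
        _ = h'⁻¹ * (g * ι s * g⁻¹) * g := by rw [h4]
        _ = h'⁻¹ * g * ι s := by group
    have hcR : h'⁻¹ * g ∈ (R.subgroupOf (normalizerIn S R)).map ι := hUim (hC hc)
    have hy2 : (h'⁻¹ * g) * y * (h'⁻¹ * g)⁻¹ ∈ (R.subgroupOf (normalizerIn S R)).map ι :=
      Subgroup.mul_mem _ (Subgroup.mul_mem _ hcR hy) (Subgroup.inv_mem _ hcR)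
    obtain ⟨r, hr, hre⟩ := hy2
    have hrR : (r : Ω) ∈ R := Subgroup.mem_subgroupOf.mp hr
    have h5 := hh' (Subgroup.inclusion le_sup_right ⟨(r : Ω), hrR⟩)
    have h6 : ψ (Subgroup.inclusion le_sup_right ⟨(r : Ω), hrR⟩) ∈ R := by
      have : ψ (Subgroup.inclusion le_sup_right ⟨(r : Ω), hrR⟩) ∈
          (R.subgroupOf (preSub ι (pCore p G) ⊔ R)).map ψ :=
        (map_subgroupOf_sup_eq ψ).mpr ⟨_, rfl⟩
      rw [hψR] at this
      exact this
    have h7 : g * y * g⁻¹ = h' * ι r * h'⁻¹ := by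
      rw [hre]
      group
    rw [h7]
    refine ⟨⟨_, (E.le_of_mem hψ).2 _⟩, Subgroup.mem_subgroupOf.mpr h6, ?_⟩
    rw [h5]
    rfl
  have hnormal : ((R.subgroupOf (normalizerIn S R)).map ι).Normal := ⟨fun y hy g => hconj g y hy⟩
  exact Helper1.le_pCore hnormal ((hTp.to_subgroup _).map ι)

end NormSys

end Cfsg.Agent.Lib.Helper26
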