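import Mathlib
import Cfsg.Prelude.Def_Blocks
import Cfsg.Prelude.Def_Local
import Cfsg.Prelude.Def_BlockLocal
import Cfsg.Agent.Lib.Helper26.Knorr5

/-!
A consequence of Knörr's theorem (S4671): for every defect group `P` of `B` there is a `P`-stable
block `c` of the normal subgroup `N`, covered by `B`, with defect group `P ∩ N`.
-/

set_option autoImplicit false
set_option linter.style.haveILetI false
set_option linter.unusedSectionVars false
set_option linter.unusedVariables false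

namespace Cfsg.Agent.Lib.Helper26

open scoped ComplexConjugate Pointwise
open Cfsg.Agent.Lib.Helper24 Cfsg.Agent.Lib.Helper25 Cfsg.Agent.Lib.Helper11
open Cfsg.Agent.Lib.helper2 Cfsg.Agent.Lib.helper7

section

variable {G : Type*} [Group G]

theorem kn_stable [Fintype G] (p : ℕ) [hp : Fact p.Prime] (M : Ideal Cfsg.AlgInt)
    (hM : Cfsg.IsPModular p M) (N : Subgroup G) [hN : N.Normal] [Fintype N]
    (B : Set (Cfsg.IrrCharacter G)) (hB : Cfsg.IsPBlock M B) (P : Subgroup G)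
    (hP : Cfsg.IsDefectGroup p M B P) :
    ∃ c : Set (Cfsg.IrrCharacter N), Cfsg.IsPBlock M c ∧
      (∀ x ∈ P, Cfsg.StabilizesBlock N c x) ∧
      (∃ χ ∈ B, ∃ θ ∈ c, Cfsg.classInner (fun n : N => (χ : G → ℂ) n) (θ : N → ℂ) ≠ 0) ∧
      Cfsg.IsDefectGroup p M c ((P ⊓ N).subgroupOf N) := by
  classical
  have hPr := hM.2.1.isPrime
  haveI : Fintype (Cfsg.IrrCharacter G) := Fintype.ofFinite _
  haveI : Fintype (Cfsg.IrrCharacter N) := Fintype.ofFinite _
  have hBne : ∃ χ₀, χ₀ ∈ B := by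
    obtain ⟨χ₁, rfl⟩ := hB
    exact ⟨χ₁, h7_sameBlock_refl hPr _⟩
  obtain ⟨χ₀, hχ₀⟩ := hBne
  have hres : Cfsg.IsCharacter N (fun n : N => (χ₀ : G → ℂ) n) :=
    isCharacter_restrict (isCharacter_of_irr χ₀) N
  have hne : (fun n : N => (χ₀ : G → ℂ) n) 1 ≠ 0 := irr_one_ne_zero χ₀
  obtain ⟨θ₁, m, hm, hθ₁⟩ := isCharacter_exists_constituent hres hne
  have hθ₁ne : Cfsg.classInner (fun n : N => (χ₀ : G → ℂ) n) (θ₁ : N → ℂ) ≠ 0 := by
    rw [hθ₁]
    exact_mod_cast hm.ne'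
  have hθ₁b : θ₁ ∈ Cfsg.blockOf M (θ₁ : N → ℂ) := h7_sameBlock_refl hPr _
  have hb : Cfsg.IsPBlock M (Cfsg.blockOf M (θ₁ : N → ℂ)) := ⟨θ₁, rfl⟩
  obtain ⟨P₀, hP₀, hR, hstab⟩ := kn_general p M hM N (Cfsg.blockOf M (θ₁ : N → ℂ)) hb B hB
    ⟨χ₀, hχ₀, θ₁, hθ₁b, hθ₁ne⟩
  obtain ⟨x, hx⟩ := qh_defect_conj p M hM B hB P₀ P hP₀ hP
  have he : ∃ e : ↥N ≃* ↥N, ∀ n : N, ((e n : N) : G) = x * (n : G) * x⁻¹ :=
    ⟨MulAut.conjNormal x, fun n => MulAut.conjNormal_apply x n⟩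
  obtain ⟨e, he⟩ := he
  have hesymm : ∀ n : N, ((e.symm n : N) : G) = x⁻¹ * (n : G) * x := by
    intro n
    have h1 := he (e.symm n)
    rw [MulEquiv.apply_symm_apply] at h1
    rw [h1]
    group
  have hc : ∃ c : Set (Cfsg.IrrCharacter N), c = bt_trb e.symm (Cfsg.blockOf M (θ₁ : N → ℂ)) :=
    ⟨_, rfl⟩
  obtain ⟨c, hcdef⟩ := hc
  have hc_iff : ∀ θ' : Cfsg.IrrCharacter N, θ' ∈ c ↔
      fr_cj N x θ' ∈ Cfsg.blockOf M (θ₁ : N → ℂ) := by
    intro θ'
    rw [hcdef, bt_mem_trb']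
    have h1 : ef_tr e.symm.symm θ' = fr_cj N x θ' := by
      apply Subtype.ext
      funext n
      rw [ef_tr_apply, fr_cj_val, cj_apply]
      refine congrArg (θ' : N → ℂ) (Subtype.ext ?_)
      exact he n
    rw [h1]
  have hbc : bt_trb e c = Cfsg.blockOf M (θ₁ : N → ℂ) := by
    ext θ
    rw [bt_mem_trb', hcdef, bt_mem_trb']
    have h1 : ef_tr e.symm.symm (ef_tr e.symm θ) = θ := bt_tr_tr_symm e θ
    rw [h1]
  refine ⟨c, ?_, ?_, ?_, ?_⟩
  · rw [hcdef]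
    exact bt_trb_isPBlock e.symm _ hb
  · intro y hy
    rw [hx] at hy
    obtain ⟨z, hz, rfl⟩ := hy
    have hzst := hstab z hz
    apply fp_stab_of_cj N c
    intro θ' hθ'
    rw [hc_iff] at hθ' ⊢
    have h1 : fr_cj N x (fr_cj N ((MulAut.conj x).toMonoidHom z)⁻¹ θ') =
        fr_cj N z⁻¹ (fr_cj N x θ') := by
      apply Subtype.ext
      rw [fr_cj_val, fr_cj_val, fr_cj_val, fr_cj_val, cj_mul, cj_mul]
      congr 1
      show (x * z * x⁻¹)⁻¹ * x = x * z⁻¹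
      group
    rw [h1]
    apply fp_cj_of_stab N _ z⁻¹ _ _ hθ'
    rw [inv_inv]
    exact hzst
  · refine ⟨χ₀, hχ₀, ef_tr e.symm θ₁, ?_, ?_⟩
    · rw [hcdef]
      exact (bt_mem_trb e.symm _ θ₁).mpr hθ₁b
    · have h1 : (fun n : N => (χ₀ : G → ℂ) n) =
          fun a : N => (fun n : N => (χ₀ : G → ℂ) n) (e.symm a) := by
        funext a
        show (χ₀ : G → ℂ) (a : G) = (χ₀ : G → ℂ) ((e.symm a : N) : G)
        rw [hesymm a]
        have h2 := irr_conj_invariant χ₀ (a : G) x⁻¹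
        rw [inv_inv] at h2
        exact h2.symm
      rw [h1]
      have h3 := h7_classInner_comp_equiv e.symm (fun n : N => (χ₀ : G → ℂ) n) (θ₁ : N → ℂ)
      have h4 : (fun a : N => (θ₁ : N → ℂ) (e.symm a)) = (ef_tr e.symm θ₁ : N → ℂ) := rfl
      rw [h4] at h3
      rw [h3]
      exact hθ₁ne
  · have hR' : Cfsg.IsDefectGroup p M (bt_trb e c) ((P₀ ⊓ N).subgroupOf N) := by
      rw [hbc]
      exact hR
    have h1 := kn_defectGroup_tr p M e c _ hR'
    have heq : ((P₀ ⊓ N).subgroupOf N).map e.toMonoidHom = (P ⊓ N).subgroupOf N := by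
      ext n
      rw [Subgroup.mem_map, Subgroup.mem_subgroupOf, Subgroup.mem_inf, hx, Subgroup.mem_map]
      constructor
      · rintro ⟨d, hd, rfl⟩
        rw [Subgroup.mem_subgroupOf, Subgroup.mem_inf] at hd
        refine ⟨⟨(d : G), hd.1, ?_⟩, (e d).2⟩
        exact (he d).symm
      · rintro ⟨⟨z, hz, hzn⟩, hnN⟩
        have hzn' : x * z * x⁻¹ = (n : G) := hzn
        have hzN : z ∈ N := by
          have h2 := hN.conj_mem _ hnN x⁻¹
          rw [← hzn'] at h2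
          have e1 : x⁻¹ * (x * z * x⁻¹) * x⁻¹⁻¹ = z := by group
          rw [e1] at h2
          exact h2
        refine ⟨⟨z, hzN⟩, ?_, ?_⟩
        · rw [Subgroup.mem_subgroupOf, Subgroup.mem_inf]
          exact ⟨hz, hzN⟩
        · apply Subtype.ext
          have := he ⟨z, hzN⟩
          rw [MulEquiv.coe_toMonoidHom, this]
          exact hzn'
    rw [← heq]
    exact h1

end

end Cfsg.Agent.Lib.Helper26
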