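import Mathlib
import Cfsg.Prelude.Def_Blocks
import Cfsg.Prelude.Def_Local
import Cfsg.Prelude.Def_BlockLocal
import Cfsg.Agent.Lib.Helper26.Knorr5

/-!
A consequence of Knörr's theorem (S4673): if `N ≤ L` are normal with `L/N` a `p`-group, the block
`B` covers the block `c` of `N` and some defect group of `B` lies in `N`, then the stabilizer of `c`
meets `L` in `N`.
-/

set_option autoImplicit false
set_option linter.style.haveILetI false
set_option linter.unusedSectionVars false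
set_option linter.unusedVariables false

namespace Cfsg.Agent.Lib.Helper26

open scoped ComplexConjugate Pointwise
open Cfsg.Agent.Lib.Helper24 Cfsg.Agent.Lib.Helper25 Cfsg.Agent.Lib.Helper11
open Cfsg.Agent.Lib.helper2 Cfsg.Agent.Lib.helper7
open Cfsg.Agent.Lib.Helper22.SpanOrbit

section

variable {G : Type*} [Group G]

/-- the unique block of `S` over the stable block `b` of `N`, for `S/N` a `p`-group -/
theorem kn_ppow_block [Fintype G] (p : ℕ) [hp : Fact p.Prime] {M : Ideal Cfsg.AlgInt}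
    (hM : Cfsg.IsPModular p M) (N S : Subgroup G) [hN : N.Normal] [hS : S.Normal] [Fintype N]
    [Fintype S] (hNS : N ≤ S) (hidx : ∃ k : ℕ, (N.subgroupOf S).index = p ^ k)
    (b : Set (Cfsg.IrrCharacter N)) (hb : Cfsg.IsPBlock M b) (hinv : fc_inv N b) :
    Cfsg.IsPBlock M (fps_ovs N S hNS b) ∧
      Cfsg.blockDefect p b + (N.subgroupOf S).index.factorization p ≤
        Cfsg.blockDefect p (fps_ovs N S hNS b) := by
  classical
  have hMp := hM.2.1.isPrime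
  haveI : Fintype ↥(N.subgroupOf S) := Fintype.ofFinite _
  have hb' := bt_trb_isPBlock (M := M) (Subgroup.subgroupOfEquivOfLe hNS) b hb
  have hinv' := fps_inv_tr N S hNS b hinv
  have hblk := (fp_over_is_block hM (N.subgroupOf S) hidx _ hb' hinv').1
  obtain ⟨B₁, hB₁, hcov₁, hdef₁⟩ := fc_exists_big_block hM (N.subgroupOf S) _ hb' hinv'
  have hsub₁ := fc_block_sub_over hM (N.subgroupOf S) _ hb' hinv' B₁ hB₁ hcov₁
  obtain ⟨χ₁, hχ₁, -⟩ := hcov₁
  have heq : B₁ = h7_over (N.subgroupOf S) (bt_trb (Subgroup.subgroupOfEquivOfLe hNS) b) :=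
    fr_block_eq_of_mem hMp _ _ hB₁ hblk χ₁ hχ₁ (hsub₁ hχ₁)
  rw [heq, fps_over_tr N S hNS b, bt_blockDefect] at hdef₁
  rw [fps_over_tr N S hNS b] at hblk
  exact ⟨hblk, hdef₁⟩

theorem kn_stab_inter [Fintype G] (p : ℕ) [hp : Fact p.Prime] (M : Ideal Cfsg.AlgInt)
    (hM : Cfsg.IsPModular p M) (N L : Subgroup G) [hN : N.Normal] [hL : L.Normal] [Fintype N]
    (hNL : N ≤ L) (hLN : ∃ k : ℕ, (N.subgroupOf L).index = p ^ k)
    (B : Set (Cfsg.IrrCharacter G)) (hB : Cfsg.IsPBlock M B)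
    (c : Set (Cfsg.IrrCharacter N)) (hc : Cfsg.IsPBlock M c)
    (hcov : ∃ χ ∈ B, ∃ θ ∈ c, Cfsg.classInner (fun n : N => (χ : G → ℂ) n) (θ : N → ℂ) ≠ 0)
    (hD : ∃ D : Subgroup G, Cfsg.IsDefectGroup p M B D ∧ D ≤ N) (T : Subgroup G)
    (hTmem : ∀ x : G, x ∈ T ↔ Cfsg.StabilizesBlock N c x) : T ⊓ L = N := by
  classical
  have hPr := hM.2.1.isPrime
  have hTcj : ∀ g ∈ T, ∀ θ ∈ c, fr_cj N g θ ∈ c := fun g hg θ hθ =>
    fp_cj_of_stab N c g ((hTmem g⁻¹).mp (T.inv_mem hg)) θ hθ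
  have hTform : ∀ g : G, g ∈ T ↔ ∀ θ ∈ c, ∀ θ' : Cfsg.IrrCharacter N,
      (∀ n : N, (θ' : N → ℂ) n = (θ : N → ℂ) ⟨g * n * g⁻¹, hN.conj_mem n n.2 g⟩) → θ' ∈ c := by
    intro g
    constructor
    · intro hg θ hθ θ' hθ'
      have h1 : θ' = fr_cj N g θ := by
        apply Subtype.ext
        funext n
        rw [fr_cj_val, cj_apply]
        exact hθ' n
      rw [h1]
      exact hTcj g hg θ hθ
    · intro h
      have h1 : ∀ θ ∈ c, fr_cj N g⁻¹⁻¹ θ ∈ c := by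
        intro θ hθ
        rw [inv_inv]
        exact h θ hθ (fr_cj N g θ) (fun n => rfl)
      have h2 := (hTmem g⁻¹).mpr (fp_stab_of_cj N c g⁻¹ h1)
      have h3 := T.inv_mem h2
      rw [inv_inv] at h3
      exact h3
  have hNT : N ≤ T := by
    intro n hn
    rw [hTform]
    intro θ hθ θ' hθ'
    have h1 : θ' = θ := by
      apply Subtype.ext
      funext m
      rw [hθ' m]
      have := irr_conj_invariant θ m (⟨n, hn⟩ : N)
      rw [← this]
      rfl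
    rw [h1]
    exact hθ
  apply le_antisymm _ (le_inf hNT hNL)
  haveI : Fintype ↥T := Fintype.ofFinite _
  haveI : Fintype ↥(N.subgroupOf T) := Fintype.ofFinite _
  haveI : Fintype ↥(L.subgroupOf T) := Fintype.ofFinite _
  obtain ⟨B', hB', hcov', hind'⟩ := (fr_main p M hM N c hc T hTform hNT).2.2 B hB hcov
  have hdefT := (fr_heights p M hM N c hc T hTform hNT B' hB' hcov' B hind').1
  have hinvT : fc_inv (N.subgroupOf T) (bt_trb (Subgroup.subgroupOfEquivOfLe hNT) c) :=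
    kn_inv_tr N T hNT c hTcj
  have hcT := bt_trb_isPBlock (M := M) (Subgroup.subgroupOfEquivOfLe hNT) c hc
  have hcovT : ∃ ψ ∈ B', ∃ θ' ∈ bt_trb (Subgroup.subgroupOfEquivOfLe hNT) c,
      Cfsg.classInner (fun n : ↥(N.subgroupOf T) => (ψ : ↥T → ℂ) n)
        (θ' : ↥(N.subgroupOf T) → ℂ) ≠ 0 := by
    obtain ⟨ψ, hψ, θ, hθ, hcon⟩ := hcov'
    have h1 : ψ ∈ fps_ovs N T hNT c := ⟨θ, hθ, hcon⟩
    rw [← fps_over_tr N T hNT c] at h1
    obtain ⟨θ', hθ', hcon'⟩ := h1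
    exact ⟨ψ, hψ, θ', hθ', hcon'⟩
  obtain ⟨g', hg'⟩ := Cfsg.Agent.S0906.result p M hM B' hB'
  obtain ⟨P₁⟩ : Nonempty (Sylow p ↥(Subgroup.centralizer ({g'} : Set ↥T))) := inferInstance
  have hP' : ∃ P' : Subgroup ↥T, Cfsg.IsDefectGroup p M B' P' :=
    ⟨_, g', hg', P₁, rfl⟩
  obtain ⟨P', hP'⟩ := hP'
  -- `P' ≤ N`
  obtain ⟨D, hDdef, hDN⟩ := hD
  obtain ⟨x, hx⟩ := qh_defect_conj p M hM B hB D _ hDdef (hdefT P' hP')
  have hP'N : P' ≤ N.subgroupOf T := by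
    intro t ht
    rw [Subgroup.mem_subgroupOf]
    have h1 : (t : G) ∈ P'.map T.subtype := ⟨t, ht, rfl⟩
    rw [hx] at h1
    obtain ⟨d, hd, hdt⟩ := h1
    rw [← hdt]
    exact hN.conj_mem d (hDN hd) x
  have hNL_T : N.subgroupOf T ≤ L.subgroupOf T := Subgroup.comap_mono hNL
  -- the index
  have hrel : ((N.subgroupOf T).subgroupOf (L.subgroupOf T)).index = N.relIndex (L ⊓ T) := by
    have h1 : ((N.subgroupOf T).subgroupOf (L.subgroupOf T)).index =
        (N.subgroupOf T).relIndex (L.subgroupOf T) := rfl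
    rw [h1, ← Subgroup.inf_subgroupOf_right L T, Subgroup.relIndex_subgroupOf inf_le_right]
  have hidxT : ∃ k : ℕ, ((N.subgroupOf T).subgroupOf (L.subgroupOf T)).index = p ^ k := by
    obtain ⟨k, hk⟩ := hLN
    have h1 : N.relIndex (L ⊓ T) ∣ N.relIndex L := relIndex_dvd_of_le N (L ⊓ T) L inf_le_left
    have h2 : N.relIndex L = p ^ k := hk
    rw [h2] at h1
    obtain ⟨j, _, hj⟩ := (Nat.dvd_prime_pow hp.out).mp h1
    exact ⟨j, by rw [hrel, hj]⟩
  obtain ⟨hblk₁, hdef₁⟩ := kn_ppow_block p hM (N.subgroupOf T) (L.subgroupOf T) hNL_T hidxT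
    _ hcT hinvT
  have hinv₁ := fps_inv_ovs (N.subgroupOf T) (L.subgroupOf T) hNL_T _ hinvT
  have hsub := fc_block_sub_over hM (N.subgroupOf T) _ hcT hinvT B' hB' hcovT
  have hcov₁ : ∃ ψ ∈ B', ∃ θ' ∈ fps_ovs (N.subgroupOf T) (L.subgroupOf T) hNL_T
      (bt_trb (Subgroup.subgroupOfEquivOfLe hNT) c),
      Cfsg.classInner (fun n : ↥(L.subgroupOf T) => (ψ : ↥T → ℂ) n)
        (θ' : ↥(L.subgroupOf T) → ℂ) ≠ 0 := by
    obtain ⟨ψ, hψ, -⟩ := hcovT
    have h1 := hsub hψ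
    rw [← fps_over_stage (N.subgroupOf T) (L.subgroupOf T) hNL_T] at h1
    obtain ⟨θ', hθ', hcon⟩ := h1
    exact ⟨ψ, hψ, θ', hθ', hcon⟩
  have hk₁ := kn_inv p M hM (L.subgroupOf T) _ hblk₁ hinv₁ B' hB' hcov₁ P' hP'
  have hk₀ := kn_inv p M hM (N.subgroupOf T) _ hcT hinvT B' hB' hcovT P' hP'
  have hcard₁ := Cfsg.Agent.S0908.result p M hM _ hblk₁ _ hk₁
  have hcard₀ := Cfsg.Agent.S0908.result p M hM _ hcT _ hk₀
  have e₁ : Nat.card ↥((P' ⊓ L.subgroupOf T).subgroupOf (L.subgroupOf T)) = Nat.card ↥P' := by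
    rw [inf_eq_left.mpr (hP'N.trans hNL_T)]
    exact Nat.card_congr (Subgroup.subgroupOfEquivOfLe (hP'N.trans hNL_T)).toEquiv
  have e₀ : Nat.card ↥((P' ⊓ N.subgroupOf T).subgroupOf (N.subgroupOf T)) = Nat.card ↥P' := by
    rw [inf_eq_left.mpr hP'N]
    exact Nat.card_congr (Subgroup.subgroupOfEquivOfLe hP'N).toEquiv
  rw [e₁] at hcard₁
  rw [e₀] at hcard₀
  have hdeq : Cfsg.blockDefect p (fps_ovs (N.subgroupOf T) (L.subgroupOf T) hNL_T
      (bt_trb (Subgroup.subgroupOfEquivOfLe hNT) c)) =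
      Cfsg.blockDefect p (bt_trb (Subgroup.subgroupOfEquivOfLe hNT) c) :=
    Nat.pow_right_injective hp.out.two_le (hcard₁.symm.trans hcard₀)
  obtain ⟨k, hk⟩ := hidxT
  have hk0 : k = 0 := by
    rw [hk, Nat.Prime.factorization_pow hp.out] at hdef₁
    simp at hdef₁
    omega
  rw [hk0, pow_zero] at hk
  have htop : (N.subgroupOf T).subgroupOf (L.subgroupOf T) = ⊤ := Subgroup.index_eq_one.mp hk
  have hle : L.subgroupOf T ≤ N.subgroupOf T := Subgroup.subgroupOf_eq_top.mp htop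
  intro y hy
  rw [Subgroup.mem_inf] at hy
  have h1 : (⟨y, hy.1⟩ : ↥T) ∈ L.subgroupOf T := Subgroup.mem_subgroupOf.mpr hy.2
  exact Subgroup.mem_subgroupOf.mp (hle h1)

end

end Cfsg.Agent.Lib.Helper26
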