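import Mathlib
import Cfsg.Prelude.Def_GeometricClasses

/-!
# `SL_n(F)` is not contained in the stabiliser of a tensor decomposition `n = n₁ n₂`, `n₁, n₂ ≥ 2`
(an elementary transvection is not a Kronecker product)
-/

set_option autoImplicit false
set_option linter.unusedVariables false

namespace Cfsg.Agent.Lib.Helper26.LXT

open Cfsg Cfsg.Geo
open scoped MatrixGroups Matrix Kronecker

/-- an elementary transvection on `Fin n₁ × Fin n₂` is not a Kronecker product -/
theorem lxt_transvection_not_kronecker {F : Type*} [Field F] {n₁ n₂ : ℕ} (i0 i1 : Fin n₁)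
    (hi : i0 ≠ i1) (k0 k1 : Fin n₂) (hk : k0 ≠ k1) (a : Matrix (Fin n₁) (Fin n₁) F)
    (b : Matrix (Fin n₂) (Fin n₂) F) :
    Matrix.transvection (i0, k0) (i0, k1) (1 : F) ≠ a ⊗ₖ b := by
  intro h
  have e1 := congrFun (congrFun h (i0, k0)) (i0, k1)
  have e2 := congrFun (congrFun h (i1, k0)) (i1, k1)
  have e3 := congrFun (congrFun h (i1, k0)) (i1, k0)
  have hne : ((i0, k0) : Fin n₁ × Fin n₂) ≠ (i0, k1) := fun hh => hk (Prod.ext_iff.mp hh).2
  have hne2 : ((i1, k0) : Fin n₁ × Fin n₂) ≠ (i1, k1) := fun hh => hk (Prod.ext_iff.mp hh).2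
  have hne3 : ((i0, k0) : Fin n₁ × Fin n₂) ≠ (i1, k0) := fun hh => hi (Prod.ext_iff.mp hh).1
  have f1 : a i0 i0 * b k0 k1 = 1 := by
    have : (1 : F) = a i0 i0 * b k0 k1 := by
      simpa [Matrix.transvection, Matrix.one_apply, Matrix.single_apply, Matrix.kroneckerMap_apply,
        hne] using e1
    exact this.symm
  have f2 : a i1 i1 * b k0 k1 = 0 := by
    have : (0 : F) = a i1 i1 * b k0 k1 := by
      have h4 : ¬ (i0 = i1 ∧ k0 = k0) := fun hh => hi hh.1
      simpa only [Matrix.transvection, Matrix.add_apply, Matrix.one_apply, Matrix.single_apply,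
        Matrix.kroneckerMap_apply, hne2, hne3, if_false, add_zero, Prod.mk.injEq, hi, false_and,
        and_false] using e2
    exact this.symm
  have f3 : a i1 i1 * b k0 k0 = 1 := by
    have : (1 : F) = a i1 i1 * b k0 k0 := by
      simpa only [Matrix.transvection, Matrix.add_apply, Matrix.one_apply, Matrix.single_apply,
        Matrix.kroneckerMap_apply, if_true, Prod.mk.injEq, hi, false_and, and_false, if_false,
        add_zero] using e3
    exact this.symm
  have hb : b k0 k1 ≠ 0 := by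
    intro h0
    rw [h0, mul_zero] at f1
    exact zero_ne_one f1
  have ha : a i1 i1 = 0 := by
    rcases mul_eq_zero.mp f2 with h0 | h0
    · exact h0
    · exact absurd h0 hb
  rw [ha, zero_mul] at f3
  exact zero_ne_one f3


/-- `SL_n(F)` is not contained in a tensor product subgroup with both factors of dimension `≥ 2` -/
theorem lxt_sl_not_le_tensor {n : ℕ} {F : Type*} [Field F] (n₁ n₂ : ℕ) (h1 : 2 ≤ n₁) (h2 : 2 ≤ n₂)
    (e : Fin n ≃ Fin n₁ × Fin n₂) (P : GL (Fin n) F) :
    ¬ specialLinear (Fin n) F ≤ tensorProductSubgroup n₁ n₂ e P := by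
  intro hle
  classical
  set i0 : Fin n₁ := ⟨0, by omega⟩ with hi0
  set i1 : Fin n₁ := ⟨1, by omega⟩ with hi1
  set k0 : Fin n₂ := ⟨0, by omega⟩ with hk0
  set k1 : Fin n₂ := ⟨1, by omega⟩ with hk1
  have hi : i0 ≠ i1 := by
    intro hh
    have := congrArg Fin.val hh
    simp [hi0, hi1] at this
  have hk : k0 ≠ k1 := by
    intro hh
    have := congrArg Fin.val hh
    simp [hk0, hk1] at this
  have hne : ((i0, k0) : Fin n₁ × Fin n₂) ≠ (i0, k1) := fun hh => hk (Prod.ext_iff.mp hh).2
  have hdet : (Matrix.transvection ((i0, k0) : Fin n₁ × Fin n₂) (i0, k1) (1 : F)).det = 1 :=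
    Matrix.det_transvection_of_ne _ _ hne 1
  set τ : GL (Fin n₁ × Fin n₂) F :=
    Matrix.GeneralLinearGroup.mkOfDetNeZero
      (Matrix.transvection ((i0, k0) : Fin n₁ × Fin n₂) (i0, k1) (1 : F))
      (by rw [hdet]; exact one_ne_zero) with hτ
  have hτc : (τ : Matrix (Fin n₁ × Fin n₂) (Fin n₁ × Fin n₂) F) =
      Matrix.transvection ((i0, k0) : Fin n₁ × Fin n₂) (i0, k1) (1 : F) := rfl
  set t : GL (Fin n) F := P * (glReindex e.symm τ) * P⁻¹ with ht
  have htS : t ∈ specialLinear (Fin n) F := by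
    unfold specialLinear
    rw [MonoidHom.mem_ker, ht, map_mul, map_mul, map_inv, mul_comm, ← mul_assoc, inv_mul_cancel,
      one_mul]
    apply Units.ext
    rw [Matrix.GeneralLinearGroup.val_det_apply]
    have : ((glReindex e.symm τ : GL (Fin n) F) : Matrix (Fin n) (Fin n) F) =
        Matrix.reindexAlgEquiv F F e.symm (τ : Matrix (Fin n₁ × Fin n₂) (Fin n₁ × Fin n₂) F) := rfl
    rw [this, Matrix.det_reindexAlgEquiv, hτc, hdet]
    rfl
  have h3 := hle htS
  unfold tensorProductSubgroup at h3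
  obtain ⟨m, hm, hmt⟩ := h3
  have hmt' : P * m * P⁻¹ = P * (glReindex e.symm τ) * P⁻¹ := hmt
  have hm2 : m = glReindex e.symm τ := by
    have h4 := congrArg (fun z => P⁻¹ * z * P) hmt'
    simpa [mul_assoc] using h4
  obtain ⟨g, hg, hgm⟩ := hm
  have hgτ : g = τ := by
    apply (glReindex (F := F) e.symm).injective
    rw [← hm2]
    exact hgm
  obtain ⟨a, b, hab⟩ := hg
  rw [hgτ, hτc] at hab
  exact lxt_transvection_not_kronecker i0 i1 hi k0 k1 hk _ _ hab

end Cfsg.Agent.Lib.Helper26.LXT
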