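import Mathlib
import Cfsg.Prelude.Def_GeometricClasses

/-!
# `SL_n(F)` is not contained in the stabiliser of a tensor decomposition into `t ≥ 2` factors of
dimension `m ≥ 2` (an elementary transvection is not a twisted pure tensor)
-/

set_option autoImplicit false
set_option linter.unusedVariables false
set_option linter.unusedSimpArgs false

namespace Cfsg.Agent.Lib.Helper26.LXT

open Cfsg Cfsg.Geo
open scoped MatrixGroups Matrix Kronecker

/-- `M` is a twisted pure tensor: `M x y = ∏ i, gs i (x i) (y (σ i))` -/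
def lxwTwisted {F : Type*} [Field F] (m t : ℕ) (M : Matrix (Fin t → Fin m) (Fin t → Fin m) F) : Prop :=
  ∃ (gs : Fin t → Matrix (Fin m) (Fin m) F) (σ : Equiv.Perm (Fin t)),
    ∀ x y : Fin t → Fin m, M x y = ∏ i, gs i (x i) (y (σ i))

theorem lxw_one {F : Type*} [Field F] (m t : ℕ) :
    lxwTwisted m t (1 : Matrix (Fin t → Fin m) (Fin t → Fin m) F) := by
  classical
  refine ⟨fun _ => 1, Equiv.refl (Fin t), fun x y => ?_⟩
  by_cases h : x = y
  · subst h
    rw [Matrix.one_apply_eq]
    symm
    apply Finset.prod_eq_one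
    intro i _
    simp only [Equiv.refl_apply]
    exact Matrix.one_apply_eq (x i)
  · rw [Matrix.one_apply_ne h]
    obtain ⟨i, hi⟩ : ∃ i, x i ≠ y i := by
      by_contra hcon
      push Not at hcon
      exact h (funext hcon)
    symm
    apply Finset.prod_eq_zero (Finset.mem_univ i)
    simp only [Equiv.refl_apply]
    exact Matrix.one_apply_ne hi

theorem lxw_mul {F : Type*} [Field F] (m t : ℕ) {A B : Matrix (Fin t → Fin m) (Fin t → Fin m) F}
    (hA : lxwTwisted m t A) (hB : lxwTwisted m t B) : lxwTwisted m t (A * B) := by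
  classical
  obtain ⟨as, σ, hA⟩ := hA
  obtain ⟨bs, ρ, hB⟩ := hB
  refine ⟨fun i => as i * bs (σ i), σ.trans ρ, fun x z => ?_⟩
  rw [Matrix.mul_apply]
  simp only [Matrix.mul_apply, Equiv.trans_apply]
  rw [Fintype.prod_sum]
  -- reindex the sum by `y ↦ y ∘ σ`
  have hre : ∀ y : Fin t → Fin m, A x y * B y z =
      ∏ i, as i (x i) (y (σ i)) * bs (σ i) (y (σ i)) (z (ρ (σ i))) := by
    intro y
    rw [hA, hB, Finset.prod_mul_distrib]
    congr 1
    exact (Equiv.prod_comp σ (fun j => bs j (y j) (z (ρ j)))).symm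
  simp only [hre]
  exact Fintype.sum_equiv (Equiv.arrowCongr σ.symm (Equiv.refl (Fin m)))
    (fun y => ∏ i, as i (x i) (y (σ i)) * bs (σ i) (y (σ i)) (z (ρ (σ i))))
    (fun w => ∏ i, as i (x i) (w i) * bs (σ i) (w i) (z (ρ (σ i))))
    (fun y => by
      apply Finset.prod_congr rfl
      intro i _
      simp [Equiv.arrowCongr])


theorem lxw_pure {F : Type*} [Field F] (m t : ℕ) (g : GL (Fin t → Fin m) F) (hg : IsPureTensor m t g) :
    lxwTwisted m t (g : Matrix (Fin t → Fin m) (Fin t → Fin m) F) := by
  obtain ⟨gs, hgs⟩ := hg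
  exact ⟨fun i => (gs i : Matrix (Fin m) (Fin m) F), Equiv.refl (Fin t), fun x y => by
    rw [hgs]; rfl⟩

theorem lxw_perm {F : Type*} [Field F] (m t : ℕ) (g : GL (Fin t → Fin m) F)
    (hg : IsFactorPermutation m t g) :
    lxwTwisted m t (g : Matrix (Fin t → Fin m) (Fin t → Fin m) F) := by
  classical
  obtain ⟨σ, hσ⟩ := hg
  refine ⟨fun _ => 1, σ.symm, fun x y => ?_⟩
  rw [hσ]
  by_cases h : y = x ∘ σ
  · rw [if_pos h]
    symm
    apply Finset.prod_eq_one
    intro i _
    rw [h]
    have h3 : (x ∘ σ) (σ.symm i) = x i := by simp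
    rw [h3]
    exact Matrix.one_apply_eq (α := F) (x i)
  · rw [if_neg h]
    obtain ⟨j, hj⟩ : ∃ j, y j ≠ x (σ j) := by
      by_contra hcon
      push Not at hcon
      exact h (funext hcon)
    symm
    apply Finset.prod_eq_zero (Finset.mem_univ (σ j))
    have h2 : x (σ j) ≠ y (σ.symm (σ j)) := by
      rw [Equiv.symm_apply_apply]
      exact fun hh => hj hh.symm
    exact Matrix.one_apply_ne h2

/-- every element of the standard tensor-wreath subgroup is a twisted pure tensor -/
theorem lxw_standard {F : Type*} [Field F] [Finite F] (m t : ℕ) (g : GL (Fin t → Fin m) F)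
    (hg : g ∈ tensorWreathStandard m t F) :
    lxwTwisted m t (g : Matrix (Fin t → Fin m) (Fin t → Fin m) F) := by
  classical
  unfold tensorWreathStandard at hg
  have h1 : g ∈ (Subgroup.closure {g : GL (Fin t → Fin m) F |
      IsPureTensor m t g ∨ IsFactorPermutation m t g}).toSubmonoid := hg
  rw [Subgroup.closure_toSubmonoid_of_finite] at h1
  clear hg
  induction h1 using Submonoid.closure_induction with
  | mem x hx =>
    rcases hx with hx | hx
    · exact lxw_pure m t x hx
    · exact lxw_perm m t x hx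
  | one => exact lxw_one m t
  | mul x y _ _ hx hy =>
    rw [Units.val_mul]
    exact lxw_mul m t hx hy


/-- an elementary transvection is not a twisted pure tensor -/
theorem lxw_transvection_not_twisted {F : Type*} [Field F] (m t : ℕ) (hm : 2 ≤ m) (ht : 2 ≤ t) :
    ¬ lxwTwisted m t (Matrix.transvection (fun _ : Fin t => (⟨0, by omega⟩ : Fin m))
      (Function.update (fun _ : Fin t => (⟨0, by omega⟩ : Fin m)) (⟨0, by omega⟩ : Fin t)
        (⟨1, by omega⟩ : Fin m)) (1 : F)) := by
  classical
  set a0 : Fin m := ⟨0, by omega⟩ with ha0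
  set a1 : Fin m := ⟨1, by omega⟩ with ha1
  set i0 : Fin t := ⟨0, by omega⟩ with hi0
  set i1 : Fin t := ⟨1, by omega⟩ with hi1
  have ha : a0 ≠ a1 := by
    intro hh
    have := congrArg Fin.val hh
    simp [ha0, ha1] at this
  have hi : i0 ≠ i1 := by
    intro hh
    have := congrArg Fin.val hh
    simp [hi0, hi1] at this
  set x0 : Fin t → Fin m := fun _ => a0 with hx0
  set y0 : Fin t → Fin m := Function.update x0 i0 a1 with hy0
  have hxy0 : x0 ≠ y0 := by
    intro hh
    have := congrFun hh i0
    simp [hx0, hy0] at this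
    exact ha this
  rintro ⟨gs, σ, hτ⟩
  -- entries of the transvection
  have hent : ∀ x y : Fin t → Fin m, Matrix.transvection x0 y0 (1 : F) x y =
      (if x = y then 1 else 0) + (if x0 = x ∧ y0 = y then 1 else 0) := by
    intro x y
    simp [Matrix.transvection, Matrix.one_apply, Matrix.single_apply]
  -- (1) diagonal entries
  have hdiag : ∀ x : Fin t → Fin m, ∀ i, gs i (x i) (x (σ i)) ≠ 0 := by
    intro x i
    have h1 : Matrix.transvection x0 y0 (1 : F) x x = 1 := by
      rw [hent, if_pos rfl, if_neg, add_zero]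
      rintro ⟨h1, h2⟩
      exact hxy0 (h1.trans h2.symm)
    rw [hτ] at h1
    have h2 : ∏ i, gs i (x i) (x (σ i)) ≠ 0 := by rw [h1]; exact one_ne_zero
    exact (Finset.prod_ne_zero_iff.mp h2) i (Finset.mem_univ i)
  -- (2) `σ = 1`
  have hσ : ∀ i, σ i = i := by
    intro i
    by_contra hne
    set j := σ i with hj
    set x : Fin t → Fin m := fun _ => a1 with hx
    set y : Fin t → Fin m := Function.update x j a0 with hy
    have hxy : x ≠ y := by
      intro hh
      have := congrFun hh j
      simp [hx, hy] at this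
      exact ha this.symm
    have hx0x : x0 ≠ x := by
      intro hh
      have := congrFun hh i0
      simp [hx, hx0] at this
      exact ha this
    have h1 : Matrix.transvection x0 y0 (1 : F) x y = 0 := by
      rw [hent, if_neg hxy, if_neg, add_zero]
      rintro ⟨h1, _⟩
      exact hx0x h1
    rw [hτ] at h1
    have h2 : ∏ k, gs k (x k) (y (σ k)) ≠ 0 := by
      apply Finset.prod_ne_zero_iff.mpr
      intro k _
      by_cases hk : k = i
      · subst hk
        have h3 := hdiag y k
        have h4 : y k = x k := by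
          simp only [hy]
          rw [Function.update_of_ne (Ne.symm hne)]
        rw [h4] at h3
        exact h3
      · have h3 := hdiag x k
        have h4 : y (σ k) = x (σ k) := by
          simp only [hy]
          rw [Function.update_of_ne]
          intro hh
          exact hk (σ.injective hh)
        rw [h4]
        exact h3
    exact h2 h1
  -- (3) the pure tensor case
  have h1 : gs i0 a0 a1 ≠ 0 := by
    have h2 : Matrix.transvection x0 y0 (1 : F) x0 y0 = 1 := by
      rw [hent, if_neg hxy0, if_pos ⟨rfl, rfl⟩, zero_add]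
    rw [hτ] at h2
    have h3 : ∏ i, gs i (x0 i) (y0 (σ i)) ≠ 0 := by rw [h2]; exact one_ne_zero
    have h4 := (Finset.prod_ne_zero_iff.mp h3) i0 (Finset.mem_univ i0)
    rw [hσ i0] at h4
    simpa [hx0, hy0] using h4
  set x : Fin t → Fin m := Function.update x0 i1 a1 with hx
  set y : Fin t → Fin m := Function.update y0 i1 a1 with hy
  have hxy : x ≠ y := by
    intro hh
    have := congrFun hh i0
    simp [hx, hy, hx0, hy0, hi] at this
    exact ha this
  have hx0x : x0 ≠ x := by
    intro hh
    have := congrFun hh i1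
    simp [hx, hx0] at this
    exact ha this
  have h5 : Matrix.transvection x0 y0 (1 : F) x y = 0 := by
    rw [hent, if_neg hxy, if_neg, add_zero]
    rintro ⟨h1, _⟩
    exact hx0x h1
  rw [hτ] at h5
  have h6 : ∏ k, gs k (x k) (y (σ k)) ≠ 0 := by
    apply Finset.prod_ne_zero_iff.mpr
    intro k _
    rw [hσ k]
    by_cases hk0 : k = i0
    · subst hk0
      have e1 : x i0 = a0 := by simp [hx, hx0, hi]
      have e2 : y i0 = a1 := by simp [hy, hy0, hi]
      rw [e1, e2]
      exact h1
    · by_cases hk1 : k = i1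
      · subst hk1
        have e1 : x i1 = a1 := by simp [hx]
        have e2 : y i1 = a1 := by simp [hy]
        rw [e1, e2]
        exact hdiag (fun _ => a1) i1
      · have e1 : x k = a0 := by simp [hx, hx0, hk1]
        have e2 : y k = a0 := by simp [hy, hy0, hk1, hk0, hx0]
        rw [e1, e2]
        exact hdiag (fun _ => a0) k
  exact h6 h5


/-- `SL_n(F)` is not contained in a tensor-wreath subgroup with `t ≥ 2` factors of dimension `m ≥ 2` -/
theorem lxw_sl_not_le_wreath {n : ℕ} {F : Type*} [Field F] [Finite F] (m t : ℕ) (hm : 2 ≤ m)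
    (ht : 2 ≤ t) (e : Fin n ≃ (Fin t → Fin m)) (P : GL (Fin n) F) :
    ¬ specialLinear (Fin n) F ≤ tensorWreathSubgroup m t e P := by
  intro hle
  classical
  set x0 : Fin t → Fin m := fun _ => (⟨0, by omega⟩ : Fin m) with hx0
  set y0 : Fin t → Fin m := Function.update x0 (⟨0, by omega⟩ : Fin t) (⟨1, by omega⟩ : Fin m) with hy0
  have hne : x0 ≠ y0 := by
    intro hh
    have := congrFun hh (⟨0, by omega⟩ : Fin t)
    simp [hx0, hy0] at this
  have hdet : (Matrix.transvection x0 y0 (1 : F)).det = 1 :=
    Matrix.det_transvection_of_ne _ _ hne 1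
  set τ : GL (Fin t → Fin m) F :=
    Matrix.GeneralLinearGroup.mkOfDetNeZero (Matrix.transvection x0 y0 (1 : F))
      (by rw [hdet]; exact one_ne_zero) with hτ
  have hτc : (τ : Matrix (Fin t → Fin m) (Fin t → Fin m) F) = Matrix.transvection x0 y0 (1 : F) := rfl
  set g : GL (Fin n) F := P * (glReindex e.symm τ) * P⁻¹ with hg
  have hgS : g ∈ specialLinear (Fin n) F := by
    unfold specialLinear
    rw [MonoidHom.mem_ker, hg, map_mul, map_mul, map_inv, mul_comm, ← mul_assoc, inv_mul_cancel,
      one_mul]
    apply Units.ext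
    rw [Matrix.GeneralLinearGroup.val_det_apply]
    have : ((glReindex e.symm τ : GL (Fin n) F) : Matrix (Fin n) (Fin n) F) =
        Matrix.reindexAlgEquiv F F e.symm (τ : Matrix (Fin t → Fin m) (Fin t → Fin m) F) := rfl
    rw [this, Matrix.det_reindexAlgEquiv, hτc, hdet]
    rfl
  have h3 := hle hgS
  unfold tensorWreathSubgroup at h3
  obtain ⟨w, hw, hwg⟩ := h3
  have hwg' : P * w * P⁻¹ = P * (glReindex e.symm τ) * P⁻¹ := hwg
  have hw2 : w = glReindex e.symm τ := by
    have h4 := congrArg (fun z => P⁻¹ * z * P) hwg'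
    simpa [mul_assoc] using h4
  obtain ⟨s, hs, hsw⟩ := hw
  have hsτ : s = τ := by
    apply (glReindex (F := F) e.symm).injective
    rw [← hw2]
    exact hsw
  have h5 := lxw_standard m t s hs
  rw [hsτ, hτc] at h5
  exact lxw_transvection_not_twisted m t hm ht h5

end Cfsg.Agent.Lib.Helper26.LXT
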