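import Mathlib

set_option autoImplicit false

namespace Cfsg.Agent.Lib.Helper26

section LiftHom

variable {G H A : Type*} [Group G] [Group H] [Group A]

/-- `h` lifts `c g` along `d` and conjugation by `h` is compatible, through `j`, with conjugation by `g`
on the part of `U` that `g` conjugates into `U` -/
def IsStableLift (c : G →* A) (d : H →* A) (U : Subgroup G) (j : U →* H) (g : G) (h : H) : Prop :=
  d h = c g ∧ ∀ (u : U) (hu : g * u * g⁻¹ ∈ U), j ⟨g * u * g⁻¹, hu⟩ = h * j u * h⁻¹

theorem stableLift_wd {c : G →* A} {d : H →* A} {U : Subgroup G} {j : U →* H} {r : G} {h : H}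
    (hs : IsStableLift c d U j r h) {u v u' v' : U}
    (e : (u : G) * r * v = u' * r * v') : j u * h * j v = j u' * h * j v' := by
  have hu : r * ((v' * v⁻¹ : U) : G) * r⁻¹ = ((u'⁻¹ * u : U) : G) := by
    have e' : r * (v' : G) = (u' : G)⁻¹ * (u * r * v) := by rw [e]; group
    calc r * ((v' * v⁻¹ : U) : G) * r⁻¹ = (r * (v' : G)) * (v : G)⁻¹ * r⁻¹ := by
          push_cast; group
      _ = ((u'⁻¹ * u : U) : G) := by rw [e']; push_cast; group
  have hmem : r * ((v' * v⁻¹ : U) : G) * r⁻¹ ∈ U := by rw [hu]; exact (u'⁻¹ * u).2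
  have h1 := hs.2 (v' * v⁻¹) hmem
  have h2 : (⟨r * ((v' * v⁻¹ : U) : G) * r⁻¹, hmem⟩ : U) = u'⁻¹ * u := Subtype.ext hu
  rw [h2, map_mul, map_mul, map_inv, map_inv] at h1
  calc j u * h * j v = j u' * ((j u')⁻¹ * j u) * h * j v := by group
    _ = j u' * (h * (j v' * (j v)⁻¹) * h⁻¹) * h * j v := by rw [h1]
    _ = j u' * h * j v' := by group

theorem exists_doubleCoset_decomp (U : Subgroup G) (g : G) :
    ∃ u : U, ∃ v : U, g = (u : G) * (DoubleCoset.mk U U g).out * (v : G) := by
  obtain ⟨h, hh, k, hk, e⟩ := (DoubleCoset.eq U U (DoubleCoset.mk U U g).out g).mp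
    (DoubleCoset.out_eq' U U _)
  exact ⟨⟨h, hh⟩, ⟨k, hk⟩, e⟩

/-- the bi-equivariant lift built from lifts `hh` of double coset representatives -/
noncomputable def biLift (U : Subgroup G) (j : U →* H) (hh : G → H) (g : G) : H :=
  j (Classical.choose (exists_doubleCoset_decomp U g)) * hh (DoubleCoset.mk U U g).out *
    j (Classical.choose (Classical.choose_spec (exists_doubleCoset_decomp U g)))

theorem biLift_eq {c : G →* A} {d : H →* A} {U : Subgroup G} {j : U →* H} {hh : G → H}
    (hs : ∀ g, IsStableLift c d U j g (hh g)) (g : G) (u v : U)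
    (e : g = (u : G) * (DoubleCoset.mk U U g).out * (v : G)) :
    biLift U j hh g = j u * hh (DoubleCoset.mk U U g).out * j v := by
  unfold biLift
  have e' := Classical.choose_spec (Classical.choose_spec (exists_doubleCoset_decomp U g))
  exact stableLift_wd (hs _) (e'.symm.trans e)

theorem biLift_mul {c : G →* A} {d : H →* A} {U : Subgroup G} {j : U →* H} {hh : G → H}
    (hs : ∀ g, IsStableLift c d U j g (hh g)) (g : G) (u₀ v₀ : U) :
    biLift U j hh ((u₀ : G) * g * v₀) = j u₀ * biLift U j hh g * j v₀ := by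
  have hq : DoubleCoset.mk U U ((u₀ : G) * g * v₀) = DoubleCoset.mk U U g := by
    symm
    rw [DoubleCoset.eq]
    exact ⟨u₀, u₀.2, v₀, v₀.2, rfl⟩
  obtain ⟨u, v, e⟩ := exists_doubleCoset_decomp U g
  have e2 : (u₀ : G) * g * v₀ =
      ((u₀ * u : U) : G) * (DoubleCoset.mk U U ((u₀ : G) * g * v₀)).out * ((v * v₀ : U) : G) := by
    rw [hq]
    conv_lhs => rw [e]
    push_cast
    group
  rw [biLift_eq hs _ _ _ e2, biLift_eq hs g u v e, hq, map_mul, map_mul]
  group

theorem biLift_lift {c : G →* A} {d : H →* A} {U : Subgroup G} {j : U →* H} {hh : G → H}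
    (hs : ∀ g, IsStableLift c d U j g (hh g)) (hj : ∀ u : U, d (j u) = c u) (g : G) :
    d (biLift U j hh g) = c g := by
  obtain ⟨u, v, e⟩ := exists_doubleCoset_decomp U g
  rw [biLift_eq hs g u v e, map_mul, map_mul, hj, hj, (hs _).1, ← map_mul, ← map_mul, ← e]

end LiftHom

end Cfsg.Agent.Lib.Helper26
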