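import Cfsg.Agent.Lib.Helper26.LiftHom1

set_option autoImplicit false

namespace Cfsg.Agent.Lib.Helper26

section LiftHom

variable {G H A : Type*} [Group G] [Group H] [Group A]

/-- Averaging: a lift `t` of `c` along `d` that is equivariant on both sides for a subgroup `U` of index prime to
`p` (through `j : U → H`) can be corrected to a homomorphism extending `j`, when `ker d` is an abelian `p`-group. -/
theorem exists_hom_of_biequivariant_lift [Finite G] {p : ℕ} [Fact p.Prime]
    (c : G →* A) (d : H →* A) (U : Subgroup G) (j : U →* H)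
    (hZc : ∀ a ∈ d.ker, ∀ b ∈ d.ker, a * b = b * a) (hZp : IsPGroup p d.ker)
    (hU : ¬ p ∣ U.index) (t : G → H) (ht : ∀ g, d (t g) = c g)
    (htl : ∀ (u : U) (g : G), t (u * g) = j u * t g)
    (htr : ∀ (g : G) (u : U), t (g * u) = t g * j u) :
    ∃ ψ : G →* H, (∀ g, d (ψ g) = c g) ∧ ∀ u : U, ψ u = j u := by
  classical
  letI : CommGroup d.ker :=
    { (inferInstance : Group d.ker) with
      mul_comm := fun a b => Subtype.ext (hZc a a.2 b b.2) }
  have hZn : d.ker.Normal := MonoidHom.normal_ker d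
  let cz : H → (d.ker →* d.ker) := fun h =>
    ((MulAut.conj h).toMonoidHom.comp d.ker.subtype).codRestrict d.ker
      (fun z => hZn.conj_mem z z.2 h)
  have hcz : ∀ (h : H) (z : d.ker), ((cz h z : d.ker) : H) = h * z * h⁻¹ := fun _ _ => rfl
  have hchi_mem : ∀ r a : G, t r * (t (a * r))⁻¹ * t a ∈ d.ker := by
    intro r a
    rw [MonoidHom.mem_ker, map_mul, map_mul, map_inv, ht, ht, ht, map_mul]
    group
  have hgg_mem : ∀ a b : G, (t (a * b))⁻¹ * t a * t b ∈ d.ker := by
    intro a b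
    rw [MonoidHom.mem_ker, map_mul, map_mul, map_inv, ht, ht, ht, map_mul]
    group
  let chi : G → G → d.ker := fun r a => ⟨t r * (t (a * r))⁻¹ * t a, hchi_mem r a⟩
  let gg : G → G → d.ker := fun a b => ⟨(t (a * b))⁻¹ * t a * t b, hgg_mem a b⟩
  have L1 : ∀ (r a : G) (u : U), chi (r * u) a = chi r a := by
    intro r a u
    apply Subtype.ext
    show t (r * u) * (t (a * (r * u)))⁻¹ * t a = t r * (t (a * r))⁻¹ * t a
    rw [← mul_assoc a r u, htr, htr]
    group
  have L2 : ∀ r a b : G, chi r (a * b) * gg a b = chi r b * cz (t b)⁻¹ (chi (b * r) a) := by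
    intro r a b
    apply Subtype.ext
    show (t r * (t (a * b * r))⁻¹ * t (a * b)) * ((t (a * b))⁻¹ * t a * t b) =
      (t r * (t (b * r))⁻¹ * t b) * ((t b)⁻¹ * (t (b * r) * (t (a * (b * r)))⁻¹ * t a) * (t b)⁻¹⁻¹)
    rw [mul_assoc a b r]
    group
  have : Fintype (G ⧸ U) := Fintype.ofFinite _
  set m := Fintype.card (G ⧸ U) with hm
  have hmp : ¬ p ∣ m := by
    rwa [Subgroup.index, Nat.card_eq_fintype_card] at hU
  let E : G → d.ker := fun a => ∏ q : G ⧸ U, chi q.out a
  have L3 : ∀ a b : G, ∏ q : G ⧸ U, chi (b * q.out) a = E a := by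
    intro a b
    have h1 : ∀ q : G ⧸ U, chi (b * q.out) a = chi ((b • q).out) a := by
      intro q
      have h2 : (b • q : G ⧸ U) = QuotientGroup.mk (b * q.out) := by
        conv_lhs => rw [← QuotientGroup.out_eq' q]
        rfl
      obtain ⟨u, hu⟩ := QuotientGroup.mk_out_eq_mul U (b * q.out)
      rw [h2, hu, L1]
    rw [Finset.prod_congr rfl (fun q _ => h1 q)]
    exact Equiv.prod_comp (MulAction.toPerm b) (fun q : G ⧸ U => chi q.out a)
  have L4 : ∀ a b : G, E (a * b) * (gg a b) ^ m = E b * cz (t b)⁻¹ (E a) := by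
    intro a b
    have h1 : ∏ q : G ⧸ U, (chi q.out (a * b) * gg a b) =
        ∏ q : G ⧸ U, (chi q.out b * cz (t b)⁻¹ (chi (b * q.out) a)) :=
      Finset.prod_congr rfl (fun q _ => L2 q.out a b)
    rw [Finset.prod_mul_distrib, Finset.prod_mul_distrib, Finset.prod_const, Finset.card_univ,
      ← map_prod, L3] at h1
    exact h1
  have hroot : ∀ x y : d.ker, x ^ m = y ^ m → x = y := fun x y h =>
    (hZp.powEquiv' hmp).injective h
  have hsurj : ∀ y : d.ker, ∃ x : d.ker, x ^ m = y := (hZp.powEquiv' hmp).surjective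
  choose e he using fun a => hsurj (E a)
  have L5 : ∀ a b : G, e (a * b) * gg a b = e b * cz (t b)⁻¹ (e a) := by
    intro a b
    apply hroot
    rw [mul_pow, mul_pow, he, he, ← map_pow, he]
    exact L4 a b
  have hmul : ∀ a b : G, t (a * b) * ((e (a * b) : d.ker) : H)⁻¹ =
      (t a * ((e a : d.ker) : H)⁻¹) * (t b * ((e b : d.ker) : H)⁻¹) := by
    intro a b
    have h1 := congrArg Subtype.val (L5 a b)
    have h2 : ((e (a * b) : d.ker) : H) * ((t (a * b))⁻¹ * t a * t b) =
        ((e b : d.ker) : H) * ((t b)⁻¹ * ((e a : d.ker) : H) * (t b)⁻¹⁻¹) := h1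
    have h3 : ((e (a * b) : d.ker) : H) =
        ((e b : d.ker) : H) * ((t b)⁻¹ * ((e a : d.ker) : H) * (t b)⁻¹⁻¹) *
          ((t (a * b))⁻¹ * t a * t b)⁻¹ := by
      rw [← h2]
      group
    rw [h3]
    group
  refine ⟨MonoidHom.mk' (fun a => t a * ((e a : d.ker) : H)⁻¹) hmul, fun g => ?_, fun u => ?_⟩
  · show d (t g * ((e g : d.ker) : H)⁻¹) = c g
    rw [map_mul, map_inv, ht, MonoidHom.mem_ker.mp (e g).2, inv_one, mul_one]
  · show t u * ((e u : d.ker) : H)⁻¹ = j u
    have h1mem : t 1 ∈ d.ker := by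
      rw [MonoidHom.mem_ker, ht, map_one]
    have L6 : ∀ r : G, chi r u = ⟨t 1, h1mem⟩ := by
      intro r
      apply Subtype.ext
      show t r * (t ((u : G) * r))⁻¹ * t u = t 1
      have h2 : t (u : G) = j u * t 1 := by
        have := htl u 1
        rwa [mul_one] at this
      rw [htl, h2]
      group
    have hE : E u = (⟨t 1, h1mem⟩ : d.ker) ^ m := by
      show ∏ q : G ⧸ U, chi q.out u = _
      rw [Finset.prod_congr rfl (fun q _ => L6 q.out), Finset.prod_const, Finset.card_univ]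
    have heu : e u = ⟨t 1, h1mem⟩ := hroot _ _ ((he u).trans hE)
    have h2 : t (u : G) = j u * t 1 := by
      have := htl u 1
      rwa [mul_one] at this
    rw [heu, h2]
    group

end LiftHom

end Cfsg.Agent.Lib.Helper26
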