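import Cfsg.Agent.Lib.Helper26.LiftHom2

set_option autoImplicit false

namespace Cfsg.Agent.Lib.Helper26

section LiftHom

variable {G H A : Type*} [Group G] [Group H] [Group A]

/-- Lifting lemma: a homomorphism `j` from a subgroup `U` of index prime to `p` lifting `c` along `d`, with `ker d`
an abelian `p`-group, extends to a homomorphism `G → H` lifting `c`, provided every element of `G` has a stable lift. -/
theorem exists_lift_hom [Finite G] {p : ℕ} [Fact p.Prime]
    (c : G →* A) (d : H →* A) (U : Subgroup G) (j : U →* H)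
    (hZc : ∀ a ∈ d.ker, ∀ b ∈ d.ker, a * b = b * a) (hZp : IsPGroup p d.ker)
    (hU : ¬ p ∣ U.index) (hj : ∀ u : U, d (j u) = c u)
    (hstab : ∀ g : G, ∃ h : H, IsStableLift c d U j g h) :
    ∃ ψ : G →* H, (∀ g, d (ψ g) = c g) ∧ ∀ u : U, ψ u = j u := by
  choose hh hs using hstab
  refine exists_hom_of_biequivariant_lift c d U j hZc hZp hU (biLift U j hh)
    (biLift_lift hs hj) (fun u g => ?_) (fun g u => ?_)
  · have := biLift_mul hs g u 1
    simpa using this
  · have := biLift_mul hs g 1 u
    simpa using this

end LiftHom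

end Cfsg.Agent.Lib.Helper26
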