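import Mathlib

set_option autoImplicit false

namespace Cfsg.Agent.Lib.Helper26

/-! Calculus of "subalgebras" (submodules closed under multiplication) inside the idempotent
semiring of submodules of an algebra. -/

section Semiring

variable {k : Type*} [CommSemiring k] {E : Type*} [Semiring E] [Algebra k E]

theorem sm_pow_succ_le_self {N : Submodule k E} (hN : N * N ≤ N) (i : ℕ) : N ^ (i + 1) ≤ N := by
  induction i with
  | zero => rw [zero_add, pow_one]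
  | succ i ih =>
    rw [pow_succ]
    exact (mul_le_mul_left ih _).trans hN

theorem sm_pow_succ_mul_le {N X : Submodule k E} (hN : N * N ≤ N) (hX : X ≤ N) (i : ℕ) :
    N ^ (i + 1) * X ≤ N ^ (i + 1) := by
  rw [pow_succ, mul_assoc]
  exact mul_le_mul_right ((mul_le_mul_right hX _).trans hN) _

theorem sm_pow_mul_le {T D' : Submodule k E} (h : T * D' ≤ D') (j : ℕ) : T ^ j * D' ≤ D' := by
  induction j with
  | zero => rw [pow_zero, one_mul]
  | succ j ih =>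
    rw [pow_succ, mul_assoc]
    exact (mul_le_mul_right h _).trans ih

theorem sm_pow_eq_bot_of_le {N P : Submodule k E} (h : N ≤ P) {n : ℕ} (hP : P ^ n = ⊥) :
    N ^ n = ⊥ := by
  rw [eq_bot_iff, ← hP]
  exact pow_le_pow_left' h n

theorem sm_pow_eq_bot_succ {N : Submodule k E} {n : ℕ} (hN : N ^ n = ⊥) : N ^ (n + 1) = ⊥ := by
  rw [pow_succ, hN, Submodule.bot_mul]

/-- the key bound for conjugation by `1 + Q` where `Q ≤ D ⊔ N ^ (j+1)` -/
theorem sm_conj_bound {N D Q C : Submodule k E} (hN : N * N ≤ N) (hD : D * D ≤ D) (hDN : D ≤ N)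
    (hC : C ≤ D) (j : ℕ) (hQ : Q ≤ D ⊔ N ^ (j + 1)) :
    C ⊔ Q * C ⊔ C * Q ⊔ Q * C * Q ≤ D ⊔ N ^ (j + 1 + 1) := by
  have hNj : N ^ (j + 1) ≤ N := sm_pow_succ_le_self hN j
  have h1 : Q * C ≤ D ⊔ N ^ (j + 1 + 1) := by
    calc Q * C ≤ (D ⊔ N ^ (j + 1)) * D := mul_le_mul' hQ hC
      _ = D * D ⊔ N ^ (j + 1) * D := Submodule.sup_mul _ _ _
      _ ≤ D ⊔ N ^ (j + 1 + 1) := by
        apply sup_le_sup hD
        rw [pow_succ N (j + 1)]
        exact mul_le_mul_right hDN _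
  have h2 : C * Q ≤ D ⊔ N ^ (j + 1 + 1) := by
    calc C * Q ≤ D * (D ⊔ N ^ (j + 1)) := mul_le_mul' hC hQ
      _ = D * D ⊔ D * N ^ (j + 1) := Submodule.mul_sup _ _ _
      _ ≤ D ⊔ N ^ (j + 1 + 1) := by
        apply sup_le_sup hD
        rw [pow_succ' N (j + 1)]
        exact mul_le_mul_left hDN _
  have h3 : Q * C * Q ≤ D ⊔ N ^ (j + 1 + 1) := by
    calc Q * C * Q ≤ (D ⊔ N ^ (j + 1 + 1)) * (D ⊔ N ^ (j + 1)) := mul_le_mul' h1 hQ
      _ = (D * D ⊔ D * N ^ (j + 1)) ⊔ (N ^ (j + 1 + 1) * D ⊔ N ^ (j + 1 + 1) * N ^ (j + 1)) := by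
        rw [Submodule.sup_mul, Submodule.mul_sup, Submodule.mul_sup]
      _ ≤ D ⊔ N ^ (j + 1 + 1) := by
        refine sup_le (sup_le (hD.trans le_sup_left) ?_) (sup_le ?_ ?_)
        · rw [pow_succ' N (j + 1)]
          exact (mul_le_mul_left hDN _).trans le_sup_right
        · exact (sm_pow_succ_mul_le hN hDN (j + 1)).trans le_sup_right
        · exact (sm_pow_succ_mul_le hN hNj (j + 1)).trans le_sup_right
  exact sup_le (sup_le (sup_le (hC.trans le_sup_left) h1) h2) h3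

/-- extension of a nilpotent subalgebra `D` by a nilpotent subalgebra `T` "normalizing" it. -/
theorem sm_nilp_ext {D T : Submodule k E} (hD : D * D ≤ D) (hT : T * T ≤ T)
    (hTD : T * D ≤ D * T ⊔ D) {m r : ℕ} (hDm : D ^ m = ⊥) (hTr : T ^ r = ⊥) :
    ∃ P : Submodule k E, P * P ≤ P ∧ D ≤ P ∧ T ≤ P ∧ ∃ n : ℕ, P ^ n = ⊥ := by
  have hDT : D * T * T ≤ D * T := by
    rw [mul_assoc]
    exact mul_le_mul_right hT _
  have hDDT : D * (D * T) ≤ D * T := by
    rw [← mul_assoc]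
    exact mul_le_mul_left hD _
  -- D' = D ⊔ D * T
  have h1 : T * (D ⊔ D * T) ≤ D ⊔ D * T := by
    rw [Submodule.mul_sup, ← mul_assoc]
    refine sup_le (hTD.trans (sup_le le_sup_right le_sup_left)) ?_
    calc T * D * T ≤ (D * T ⊔ D) * T := mul_le_mul_left hTD _
      _ = D * T * T ⊔ D * T := Submodule.sup_mul _ _ _
      _ ≤ D ⊔ D * T := sup_le (hDT.trans le_sup_right) le_sup_right
  have h2 : (D ⊔ D * T) * T ≤ D ⊔ D * T := by
    rw [Submodule.sup_mul]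
    exact sup_le le_sup_right (hDT.trans le_sup_right)
  have h3a : (D ⊔ D * T) * D ≤ D ⊔ D * T := by
    rw [Submodule.sup_mul, mul_assoc]
    refine sup_le (hD.trans le_sup_left) ?_
    calc D * (T * D) ≤ D * (D * T ⊔ D) := mul_le_mul_right hTD _
      _ = D * (D * T) ⊔ D * D := Submodule.mul_sup _ _ _
      _ ≤ D ⊔ D * T := sup_le (hDDT.trans le_sup_right) (hD.trans le_sup_left)
  have h3 : (D ⊔ D * T) * (D ⊔ D * T) ≤ D ⊔ D * T := by
    rw [Submodule.mul_sup]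
    refine sup_le h3a ?_
    rw [← mul_assoc]
    exact (mul_le_mul_left h3a _).trans h2
  have h4 : (D ⊔ D * T ⊔ T) * (D ⊔ D * T ⊔ T) ≤ D ⊔ D * T ⊔ T := by
    rw [Submodule.mul_sup, Submodule.sup_mul (D ⊔ D * T) T (D ⊔ D * T),
      Submodule.sup_mul (D ⊔ D * T) T T]
    exact sup_le (sup_le (h3.trans le_sup_left) (h1.trans le_sup_left))
      (sup_le (h2.trans le_sup_left) (hT.trans le_sup_right))
  have h5 : ∀ j : ℕ, (D ⊔ D * T) ^ (j + 1) ≤ D ^ (j + 1) ⊔ D ^ (j + 1) * T := by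
    intro j
    induction j with
    | zero => rw [zero_add, pow_one, pow_one]
    | succ j ih =>
      rw [pow_succ (D ⊔ D * T) (j + 1)]
      calc (D ⊔ D * T) ^ (j + 1) * (D ⊔ D * T)
          ≤ (D ^ (j + 1) ⊔ D ^ (j + 1) * T) * (D ⊔ D * T) := mul_le_mul_left ih _
        _ = D ^ (j + 1) * (D ⊔ D * T) ⊔ D ^ (j + 1) * (T * (D ⊔ D * T)) := by
          rw [Submodule.sup_mul, mul_assoc]
        _ ≤ D ^ (j + 1) * (D ⊔ D * T) :=
          sup_le le_rfl (mul_le_mul_right h1 _)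
        _ = D ^ (j + 1 + 1) ⊔ D ^ (j + 1 + 1) * T := by
          rw [Submodule.mul_sup, ← mul_assoc, ← pow_succ]
  have h6 : ∀ j : ℕ, (D ⊔ D * T ⊔ T) ^ (j + 1) ≤ D ⊔ D * T ⊔ T ^ (j + 1) := by
    intro j
    induction j with
    | zero => rw [zero_add, pow_one, pow_one]
    | succ j ih =>
      rw [pow_succ (D ⊔ D * T ⊔ T) (j + 1)]
      calc (D ⊔ D * T ⊔ T) ^ (j + 1) * (D ⊔ D * T ⊔ T)
          ≤ (D ⊔ D * T ⊔ T ^ (j + 1)) * (D ⊔ D * T ⊔ T) := mul_le_mul_left ih _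
        _ = ((D ⊔ D * T) * (D ⊔ D * T) ⊔ T ^ (j + 1) * (D ⊔ D * T)) ⊔
            ((D ⊔ D * T) * T ⊔ T ^ (j + 1) * T) := by
          rw [Submodule.mul_sup, Submodule.sup_mul (D ⊔ D * T) (T ^ (j + 1)) (D ⊔ D * T),
            Submodule.sup_mul (D ⊔ D * T) (T ^ (j + 1)) T]
        _ ≤ D ⊔ D * T ⊔ T ^ (j + 1 + 1) := by
          refine sup_le (sup_le (h3.trans le_sup_left) ((sm_pow_mul_le h1 (j + 1)).trans le_sup_left))
            (sup_le (h2.trans le_sup_left) ?_)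
          rw [← pow_succ]
          exact le_sup_right
  refine ⟨D ⊔ D * T ⊔ T, h4, le_sup_left.trans le_sup_left, le_sup_right, (r + 1) * (m + 1), ?_⟩
  have h7 : (D ⊔ D * T ⊔ T) ^ (r + 1) ≤ D ⊔ D * T := by
    refine (h6 r).trans ?_
    rw [sm_pow_eq_bot_succ hTr]
    exact sup_le le_rfl bot_le
  have h8 : (D ⊔ D * T) ^ (m + 1) = ⊥ := by
    rw [eq_bot_iff]
    refine (h5 m).trans ?_
    rw [sm_pow_eq_bot_succ hDm, Submodule.bot_mul]
    exact sup_le le_rfl le_rfl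
  rw [pow_mul, eq_bot_iff, ← h8]
  exact pow_le_pow_left' h7 (m + 1)

end Semiring

end Cfsg.Agent.Lib.Helper26
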