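import Cfsg.Agent.Lib.Helper26.LinUnip
import Cfsg.Agent.S5013

set_option autoImplicit false

namespace Cfsg.Agent.Lib.Helper26

open Cfsg.Agent.S5013

variable {k : Type*} [Field k] {M : Type*} [AddCommGroup M] [Module k M]

/-- The augmentation submodule of a linear group `H`: the span of all `h - 1`. -/
def aug (H : Subgroup (LinearMap.GeneralLinearGroup k M)) : Submodule k (M →ₗ[k] M) :=
  Submodule.span k ((fun g : LinearMap.GeneralLinearGroup k M => (g : M →ₗ[k] M) - 1) ''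
    (H : Set (LinearMap.GeneralLinearGroup k M)))

theorem sub_one_mem_aug {H : Subgroup (LinearMap.GeneralLinearGroup k M)}
    {g : LinearMap.GeneralLinearGroup k M} (hg : g ∈ H) : (g : M →ₗ[k] M) - 1 ∈ aug H :=
  Submodule.subset_span ⟨g, hg, rfl⟩

theorem aug_le_iff {H : Subgroup (LinearMap.GeneralLinearGroup k M)}
    {N : Submodule k (M →ₗ[k] M)} : aug H ≤ N ↔ ∀ g ∈ H, (g : M →ₗ[k] M) - 1 ∈ N := by
  rw [aug, Submodule.span_le]
  constructor
  · intro h g hg
    exact h ⟨g, hg, rfl⟩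
  · rintro h _ ⟨g, hg, rfl⟩
    exact h g hg

theorem aug_mono {H K : Subgroup (LinearMap.GeneralLinearGroup k M)} (h : H ≤ K) :
    aug H ≤ aug K :=
  aug_le_iff.mpr fun _ hg => sub_one_mem_aug (h hg)

theorem gl_mul_sub_one (x y : LinearMap.GeneralLinearGroup k M) :
    ((x * y : LinearMap.GeneralLinearGroup k M) : M →ₗ[k] M) - 1 =
      ((x : M →ₗ[k] M) - 1) * ((y : M →ₗ[k] M) - 1) + ((x : M →ₗ[k] M) - 1) +
        ((y : M →ₗ[k] M) - 1) := by
  rw [Units.val_mul]
  noncomm_ring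

theorem aug_mul_self_le (H : Subgroup (LinearMap.GeneralLinearGroup k M)) :
    aug H * aug H ≤ aug H := by
  rw [aug, Submodule.span_mul_span, Submodule.span_le]
  rintro _ ⟨_, ⟨g, hg, rfl⟩, _, ⟨h, hh, rfl⟩, rfl⟩
  have e := gl_mul_sub_one g h
  have e' : ((g : M →ₗ[k] M) - 1) * ((h : M →ₗ[k] M) - 1) =
      (((g * h : LinearMap.GeneralLinearGroup k M) : M →ₗ[k] M) - 1) - ((g : M →ₗ[k] M) - 1) -
        ((h : M →ₗ[k] M) - 1) := by
    rw [e]
    abel
  show ((g : M →ₗ[k] M) - 1) * ((h : M →ₗ[k] M) - 1) ∈ aug H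
  rw [e']
  exact Submodule.sub_mem _ (Submodule.sub_mem _ (sub_one_mem_aug (H.mul_mem hg hh))
    (sub_one_mem_aug hg)) (sub_one_mem_aug hh)

theorem aug_iSup_le {ι : Sort*} (S : ι → Subgroup (LinearMap.GeneralLinearGroup k M))
    {N : Submodule k (M →ₗ[k] M)} (hN : N * N ≤ N) (h : ∀ i, aug (S i) ≤ N) :
    aug (⨆ i, S i) ≤ N := by
  rw [aug_le_iff]
  intro g hg
  refine Subgroup.iSup_induction S (C := fun g => (g : M →ₗ[k] M) - 1 ∈ N) hg ?_ ?_ ?_
  · intro i x hx
    exact h i (sub_one_mem_aug hx)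
  · simp
  · intro x y hx hy
    rw [gl_mul_sub_one]
    exact N.add_mem (N.add_mem (hN (Submodule.mul_mem_mul hx hy)) hx) hy

theorem aug_biSup_le (T : Set (Subgroup (LinearMap.GeneralLinearGroup k M)))
    {N : Submodule k (M →ₗ[k] M)} (hN : N * N ≤ N) (h : ∀ A ∈ T, aug A ≤ N) :
    aug (⨆ A ∈ T, A) ≤ N :=
  aug_iSup_le _ hN fun A => aug_iSup_le _ hN fun hA => h A hA

theorem aug_sup_le {A B : Subgroup (LinearMap.GeneralLinearGroup k M)}
    {N : Submodule k (M →ₗ[k] M)} (hN : N * N ≤ N) (hA : aug A ≤ N) (hB : aug B ≤ N) :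
    aug (A ⊔ B) ≤ N := by
  rw [sup_eq_iSup]
  exact aug_iSup_le _ hN fun b => by cases b <;> assumption

/-- products of lists of `g - 1` -/
theorem list_prod_mem_aug_pow (H : Subgroup (LinearMap.GeneralLinearGroup k M)) :
    ∀ l : List (LinearMap.GeneralLinearGroup k M), (∀ g ∈ l, g ∈ H) →
      (l.map fun g : LinearMap.GeneralLinearGroup k M => (g : M →ₗ[k] M) - 1).prod ∈ aug H ^ l.length := by
  intro l
  induction l with
  | nil =>
    intro _
    rw [List.map_nil, List.prod_nil, List.length_nil, pow_zero]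
    exact Submodule.one_le.mp le_rfl
  | cons g l ih =>
    intro h
    rw [List.map_cons, List.prod_cons, List.length_cons, pow_succ']
    exact Submodule.mul_mem_mul (sub_one_mem_aug (h g List.mem_cons_self))
      (ih fun x hx => h x (List.mem_cons_of_mem _ hx))

theorem aug_pow_le (H : Subgroup (LinearMap.GeneralLinearGroup k M)) (n : ℕ) :
    aug H ^ n ≤ Submodule.span k {x | ∃ l : List (LinearMap.GeneralLinearGroup k M),
      (∀ g ∈ l, g ∈ H) ∧ l.length = n ∧ x = (l.map fun g : LinearMap.GeneralLinearGroup k M => (g : M →ₗ[k] M) - 1).prod} := by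
  induction n with
  | zero =>
    rw [pow_zero, Submodule.one_eq_span]
    apply Submodule.span_mono
    rintro _ rfl
    exact ⟨[], by simp, rfl, by simp⟩
  | succ n ih =>
    rw [pow_succ]
    refine (mul_le_mul_left ih _).trans ?_
    rw [aug, Submodule.span_mul_span]
    apply Submodule.span_mono
    rintro _ ⟨_, ⟨l, hl, hn, rfl⟩, _, ⟨g, hg, rfl⟩, rfl⟩
    refine ⟨l ++ [g], ?_, ?_, ?_⟩
    · intro x hx
      rcases List.mem_append.mp hx with hx | hx
      · exact hl x hx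
      · rw [List.mem_singleton] at hx
        rw [hx]
        exact hg
    · rw [List.length_append, hn, List.length_singleton]
    · rw [List.map_append, List.prod_append, List.map_singleton, List.prod_singleton]

theorem flatMap_singleton_eq_map.{u, v} {α : Type u} {β : Type v} (f : α → β) (l : List α) :
    List.flatMap (fun a => [f a]) l = l.map f := by
  induction l with
  | nil => rfl
  | cons g l ih => rw [List.flatMap_cons, ih, List.map_cons, List.singleton_append]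

theorem bind_pure_eq_map.{u} {α β : Type u} (f : α → β) (l : List α) :
    (do let a ← l; pure (f a)) = l.map f := by
  show List.flatMap (fun a => [f a]) l = l.map f
  exact flatMap_singleton_eq_map f l

theorem coe_list_eq (l : List (LinearMap.GeneralLinearGroup k M)) :
    (List.map (fun g : M →ₗ[k] M => g - 1) (do let a ← l; pure (a : M →ₗ[k] M))) =
      l.map (fun a : LinearMap.GeneralLinearGroup k M => (a : M →ₗ[k] M) - 1) := by
  have h := bind_pure_eq_map
    (fun a : LinearMap.GeneralLinearGroup k M => (Units.val a : M →ₗ[k] M)) l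
  rw [h, List.map_map]
  rfl

theorem isUnipotentOn_iff (H : Subgroup (LinearMap.GeneralLinearGroup k M)) :
    Cfsg.IsUnipotentOn H ↔ ∃ n : ℕ, aug H ^ n = ⊥ := by
  constructor
  · rintro ⟨n, hn⟩
    refine ⟨n, ?_⟩
    rw [eq_bot_iff]
    refine (aug_pow_le H n).trans ?_
    rw [Submodule.span_le]
    rintro _ ⟨l, hl, hln, rfl⟩
    have h2 := hn l hl hln
    rw [coe_list_eq] at h2
    rw [h2]
    exact Submodule.zero_mem _
  · rintro ⟨n, hn⟩
    refine ⟨n, ?_⟩
    intro l hl hln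
    have h1 := list_prod_mem_aug_pow H l hl
    rw [hln, hn, Submodule.mem_bot] at h1
    rw [coe_list_eq]
    exact h1

theorem conj_mem_conjBy {G : Type*} [Group G] {H : Subgroup G} {x : G} (hx : x ∈ H) (g : G) :
    g * x * g⁻¹ ∈ Cfsg.conjBy H g := by
  rw [mem_conjBy_iff]
  have : g⁻¹ * (g * x * g⁻¹) * g = x := by group
  rw [this]
  exact hx

theorem aug_conjBy_le {A C : Subgroup (LinearMap.GeneralLinearGroup k M)}
    {a : LinearMap.GeneralLinearGroup k M} (ha : a ∈ A) :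
    aug (Cfsg.conjBy C a) ≤ aug C ⊔ aug A * aug C ⊔ aug C * aug A ⊔ aug A * aug C * aug A := by
  rw [aug_le_iff]
  rintro _ ⟨c, hc, rfl⟩
  have h1 : ((a : M →ₗ[k] M)) * ((a⁻¹ : LinearMap.GeneralLinearGroup k M) : M →ₗ[k] M) = 1 :=
    Units.mul_inv a
  have e : (((MulAut.conj a).toMonoidHom c : LinearMap.GeneralLinearGroup k M) : M →ₗ[k] M) - 1 =
      ((c : M →ₗ[k] M) - 1) + ((a : M →ₗ[k] M) - 1) * ((c : M →ₗ[k] M) - 1) +
        ((c : M →ₗ[k] M) - 1) * (((a⁻¹ : LinearMap.GeneralLinearGroup k M) : M →ₗ[k] M) - 1) +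
        ((a : M →ₗ[k] M) - 1) * ((c : M →ₗ[k] M) - 1) *
          (((a⁻¹ : LinearMap.GeneralLinearGroup k M) : M →ₗ[k] M) - 1) := by
    have e1 : ((c : M →ₗ[k] M) - 1) + ((a : M →ₗ[k] M) - 1) * ((c : M →ₗ[k] M) - 1) +
        ((c : M →ₗ[k] M) - 1) * (((a⁻¹ : LinearMap.GeneralLinearGroup k M) : M →ₗ[k] M) - 1) +
        ((a : M →ₗ[k] M) - 1) * ((c : M →ₗ[k] M) - 1) *
          (((a⁻¹ : LinearMap.GeneralLinearGroup k M) : M →ₗ[k] M) - 1) =
        (a : M →ₗ[k] M) * (c : M →ₗ[k] M) *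
          ((a⁻¹ : LinearMap.GeneralLinearGroup k M) : M →ₗ[k] M) -
        (a : M →ₗ[k] M) * ((a⁻¹ : LinearMap.GeneralLinearGroup k M) : M →ₗ[k] M) := by
      noncomm_ring
    rw [e1, h1]
    show ((a * c * a⁻¹ : LinearMap.GeneralLinearGroup k M) : M →ₗ[k] M) - 1 = _
    rw [Units.val_mul, Units.val_mul]
  rw [e]
  have hc' := sub_one_mem_aug hc
  have ha' := sub_one_mem_aug ha
  have ha'' := sub_one_mem_aug (A.inv_mem ha)
  refine Submodule.add_mem _ (Submodule.add_mem _ (Submodule.add_mem _ ?_ ?_) ?_) ?_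
  · exact (le_sup_left.trans (le_sup_left.trans le_sup_left) : aug C ≤ _) hc'
  · exact (le_sup_right.trans (le_sup_left.trans le_sup_left) : aug A * aug C ≤ _)
      (Submodule.mul_mem_mul ha' hc')
  · exact (le_sup_right.trans le_sup_left : aug C * aug A ≤ _) (Submodule.mul_mem_mul hc' ha'')
  · exact (le_sup_right : aug A * aug C * aug A ≤ _)
      (Submodule.mul_mem_mul (Submodule.mul_mem_mul ha' hc') ha'')

theorem aug_mul_aug_le_of_normalizes {Dg H : Subgroup (LinearMap.GeneralLinearGroup k M)}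
    (h : ∀ g ∈ H, Cfsg.conjBy Dg g = Dg) : aug H * aug Dg ≤ aug Dg * aug H ⊔ aug Dg := by
  rw [aug, aug, Submodule.span_mul_span, Submodule.span_le]
  rintro _ ⟨_, ⟨g, hg, rfl⟩, _, ⟨d, hd, rfl⟩, rfl⟩
  have hd' : g * d * g⁻¹ ∈ Dg := by
    have := conj_mem_conjBy hd g
    rw [h g hg] at this
    exact this
  have e : ((g * d * g⁻¹ : LinearMap.GeneralLinearGroup k M) : M →ₗ[k] M) * (g : M →ₗ[k] M) =
      (g : M →ₗ[k] M) * (d : M →ₗ[k] M) := by
    rw [← Units.val_mul, ← Units.val_mul]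
    congr 1
    group
  have e2 : ((g : M →ₗ[k] M) - 1) * ((d : M →ₗ[k] M) - 1) =
      (((g * d * g⁻¹ : LinearMap.GeneralLinearGroup k M) : M →ₗ[k] M) - 1) *
        ((g : M →ₗ[k] M) - 1) +
      ((((g * d * g⁻¹ : LinearMap.GeneralLinearGroup k M) : M →ₗ[k] M) - 1) -
        ((d : M →ₗ[k] M) - 1)) := by
    rw [sub_one_mul, mul_sub_one, sub_one_mul, mul_sub_one, e]
    abel
  show ((g : M →ₗ[k] M) - 1) * ((d : M →ₗ[k] M) - 1) ∈ _
  rw [e2]
  refine Submodule.add_mem _ ?_ ?_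
  · exact (le_sup_left : _ ≤ aug Dg * aug H ⊔ aug Dg)
      (Submodule.mul_mem_mul (sub_one_mem_aug hd') (sub_one_mem_aug hg))
  · exact (le_sup_right : _ ≤ aug Dg * aug H ⊔ aug Dg)
      (Submodule.sub_mem _ (sub_one_mem_aug hd') (sub_one_mem_aug hd))

end Cfsg.Agent.Lib.Helper26
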