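import Cfsg.Agent.Lib.Helper26.LinUnip2

set_option autoImplicit false

namespace Cfsg.Agent.Lib.Helper26

open Cfsg.Agent.S5013 Module

variable {k : Type*} [Field k] {M : Type*} [AddCommGroup M] [Module k M]

/-- members of `W` whose augmentation lies in `N` -/
def memW (W : Set (Subgroup (LinearMap.GeneralLinearGroup k M))) (N : Submodule k (M →ₗ[k] M)) :
    Set (Subgroup (LinearMap.GeneralLinearGroup k M)) := {A | A ∈ W ∧ aug A ≤ N}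

/-- the subgroup generated by the members of `W` whose augmentation lies in `N` -/
def grpW (W : Set (Subgroup (LinearMap.GeneralLinearGroup k M))) (N : Submodule k (M →ₗ[k] M)) :
    Subgroup (LinearMap.GeneralLinearGroup k M) := ⨆ A ∈ memW W N, A

/-- `N` is a nilpotent subalgebra generated by augmentations of members of `W`. -/
def IsGood (W : Set (Subgroup (LinearMap.GeneralLinearGroup k M))) (N : Submodule k (M →ₗ[k] M)) :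
    Prop := (∃ n : ℕ, N ^ n = ⊥) ∧ aug (grpW W N) = N

def IsMaxGood (W : Set (Subgroup (LinearMap.GeneralLinearGroup k M)))
    (N : Submodule k (M →ₗ[k] M)) : Prop :=
  IsGood W N ∧ ∀ N', IsGood W N' → N ≤ N' → N' = N

variable {W : Set (Subgroup (LinearMap.GeneralLinearGroup k M))}

theorem memW_mono {N N' : Submodule k (M →ₗ[k] M)} (h : N ≤ N') : memW W N ⊆ memW W N' :=
  fun _ hA => ⟨hA.1, hA.2.trans h⟩

theorem le_grpW {N : Submodule k (M →ₗ[k] M)} {A : Subgroup (LinearMap.GeneralLinearGroup k M)}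
    (hA : A ∈ memW W N) : A ≤ grpW W N :=
  le_biSup (fun A => A) hA

theorem grpW_le_of_subset {N N' : Submodule k (M →ₗ[k] M)} (h : memW W N ⊆ memW W N') :
    grpW W N ≤ grpW W N' :=
  iSup₂_le fun _ hA => le_grpW (h hA)

theorem grpW_congr {N N' : Submodule k (M →ₗ[k] M)} (h : memW W N = memW W N') :
    grpW W N = grpW W N' :=
  le_antisymm (grpW_le_of_subset h.le) (grpW_le_of_subset h.ge)

theorem aug_grpW_le {N : Submodule k (M →ₗ[k] M)} (hN : N * N ≤ N) : aug (grpW W N) ≤ N :=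
  aug_biSup_le _ hN fun _ hA => hA.2

theorem IsGood.sub {N : Submodule k (M →ₗ[k] M)} (h : IsGood W N) : N * N ≤ N := by
  have := aug_mul_self_le (grpW W N)
  rw [h.2] at this
  exact this

theorem memW_aug_grpW {N : Submodule k (M →ₗ[k] M)} (hN : N * N ≤ N) :
    memW W (aug (grpW W N)) = memW W N := by
  apply Set.Subset.antisymm
  · exact memW_mono (aug_grpW_le hN)
  · intro A hA
    exact ⟨hA.1, aug_mono (le_grpW hA)⟩

theorem isGood_aug_grpW {P : Submodule k (M →ₗ[k] M)} (hP : P * P ≤ P) (hPn : ∃ n : ℕ, P ^ n = ⊥) :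
    IsGood W (aug (grpW W P)) := by
  obtain ⟨n, hn⟩ := hPn
  refine ⟨⟨n, sm_pow_eq_bot_of_le (aug_grpW_le hP) hn⟩, ?_⟩
  apply le_antisymm
  · exact aug_grpW_le (aug_mul_self_le _)
  · apply aug_mono
    apply grpW_le_of_subset
    rw [memW_aug_grpW hP]

theorem isGood_aug_of_mem (hWW : ∀ A ∈ W, ∀ B ∈ W, Cfsg.IsUnipotentOn (A ⊔ B))
    {A : Subgroup (LinearMap.GeneralLinearGroup k M)} (hA : A ∈ W) : IsGood W (aug A) := by
  have h1 := hWW A hA A hA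
  rw [sup_idem, isUnipotentOn_iff] at h1
  refine ⟨h1, ?_⟩
  apply le_antisymm
  · exact aug_grpW_le (aug_mul_self_le _)
  · exact aug_mono (le_grpW ⟨hA, le_rfl⟩)

theorem exists_max_ge [FiniteDimensional k M] {N : Submodule k (M →ₗ[k] M)} (hN : IsGood W N) :
    ∃ N', IsMaxGood W N' ∧ N ≤ N' := by
  obtain ⟨m, ⟨hm1, hm2⟩, hm3⟩ := wellFounded_gt.has_min {N' | IsGood W N' ∧ N ≤ N'}
    ⟨N, hN, le_rfl⟩
  refine ⟨m, ⟨hm1, ?_⟩, hm2⟩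
  intro N' hN' hle
  by_contra hne
  exact hm3 N' ⟨hN', hm2.trans hle⟩ (lt_of_le_of_ne hle (Ne.symm hne))

theorem conjBy_grpW_le {D : Submodule k (M →ₗ[k] M)} {a : LinearMap.GeneralLinearGroup k M}
    (h : ∀ C ∈ memW W D, Cfsg.conjBy C a ∈ memW W D) :
    Cfsg.conjBy (grpW W D) a ≤ grpW W D := by
  show Subgroup.map _ (⨆ A ∈ memW W D, A) ≤ _
  rw [Subgroup.map_iSup]
  refine iSup_le fun C => ?_
  rw [Subgroup.map_iSup]
  exact iSup_le fun hC => le_grpW (h C hC)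

theorem conjBy_grpW_eq {D : Submodule k (M →ₗ[k] M)}
    {A : Subgroup (LinearMap.GeneralLinearGroup k M)}
    (h : ∀ a ∈ A, ∀ C ∈ memW W D, Cfsg.conjBy C a ∈ memW W D)
    {a : LinearMap.GeneralLinearGroup k M} (ha : a ∈ A) :
    Cfsg.conjBy (grpW W D) a = grpW W D := by
  apply le_antisymm (conjBy_grpW_le (h a ha))
  have h1 : Cfsg.conjBy (grpW W D) a⁻¹ ≤ grpW W D := conjBy_grpW_le (h a⁻¹ (A.inv_mem ha))
  have h2 : Cfsg.conjBy (Cfsg.conjBy (grpW W D) a⁻¹) a ≤ Cfsg.conjBy (grpW W D) a :=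
    Subgroup.map_mono h1
  rw [conjBy_conjBy, mul_inv_cancel, conjBy_one] at h2
  exact h2

/-- normalizer growth -/
theorem exists_normalizing (hconj : ∀ A ∈ W, ∀ C ∈ W, ∀ a ∈ A, Cfsg.conjBy C a ∈ W)
    {N D : Submodule k (M →ₗ[k] M)} (hN : N * N ≤ N) (hNn : ∃ c : ℕ, N ^ c = ⊥)
    (hD : D * D ≤ D) (hDN : D ≤ N) (hex : ∃ A ∈ W, aug A ≤ N ∧ ¬ aug A ≤ D) :
    ∃ A ∈ W, aug A ≤ N ∧ ¬ aug A ≤ D ∧
      ∀ a ∈ A, ∀ C ∈ memW W D, Cfsg.conjBy C a ∈ memW W D := by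
  classical
  obtain ⟨c, hc⟩ := hNn
  have hQ : ∃ i : ℕ, ¬ ∃ A ∈ W, aug A ≤ D ⊔ N ^ (i + 1) ∧ ¬ aug A ≤ D := by
    refine ⟨c, ?_⟩
    rintro ⟨A, -, h1, h2⟩
    rw [sm_pow_eq_bot_succ hc, sup_bot_eq] at h1
    exact h2 h1
  have hfind := Nat.find_spec hQ
  have hmin := fun j => Nat.find_min hQ (m := j)
  rcases Nat.eq_zero_or_eq_succ_pred (Nat.find hQ) with h0 | hs
  · exfalso
    rw [h0] at hfind
    apply hfind
    obtain ⟨A, hA, h1, h2⟩ := hex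
    refine ⟨A, hA, ?_, h2⟩
    rw [zero_add, pow_one]
    exact h1.trans le_sup_right
  · generalize (Nat.find hQ).pred = j at hs
    rw [hs] at hfind
    have hj := hmin j (by rw [hs]; exact Nat.lt_succ_self j)
    rw [not_not] at hj
    obtain ⟨A, hA, h1, h2⟩ := hj
    refine ⟨A, hA, h1.trans (sup_le hDN (sm_pow_succ_le_self hN j)), h2, ?_⟩
    intro a ha C hC
    have hCW : Cfsg.conjBy C a ∈ W := hconj A hA C hC.1 a ha
    refine ⟨hCW, ?_⟩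
    have h3 : aug (Cfsg.conjBy C a) ≤ D ⊔ N ^ (j + 1 + 1) :=
      (aug_conjBy_le ha).trans (sm_conj_bound hN hD hDN hC.2 j h1)
    by_contra h4
    exact hfind ⟨_, hCW, h3, h4⟩

theorem inf_sub {N₁ N₂ : Submodule k (M →ₗ[k] M)} (h₁ : N₁ * N₁ ≤ N₁) (h₂ : N₂ * N₂ ≤ N₂) :
    (N₁ ⊓ N₂) * (N₁ ⊓ N₂) ≤ N₁ ⊓ N₂ :=
  le_inf ((mul_le_mul' inf_le_left inf_le_left).trans h₁)
    ((mul_le_mul' inf_le_right inf_le_right).trans h₂)

theorem exists_not_le_of_max {N₁ N₂ D : Submodule k (M →ₗ[k] M)} (h₁ : IsMaxGood W N₁)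
    (h₂ : IsGood W N₂) (hne : N₁ ≠ N₂) (hD : D ≤ N₂) :
    ∃ A ∈ W, aug A ≤ N₁ ∧ ¬ aug A ≤ D := by
  by_contra hcon
  push Not at hcon
  apply hne
  have h3 : memW W N₁ ⊆ memW W N₂ := fun A hA => ⟨hA.1, (hcon A hA.1 hA.2).trans hD⟩
  have h4 : N₁ ≤ N₂ := by
    rw [← h₁.1.2, ← h₂.2]
    exact aug_mono (grpW_le_of_subset h3)
  exact (h₁.2 N₂ h₂ h4).symm

theorem lt_of_witness {N₁ N₂ X N₃ : Submodule k (M →ₗ[k] M)} (hX : N₁ ⊓ N₂ ≤ X)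
    (h3 : ∀ C ∈ memW W (N₁ ⊓ N₂), aug C ≤ N₃)
    {A : Subgroup (LinearMap.GeneralLinearGroup k M)} (hA : A ∈ W) (hAX : aug A ≤ X)
    (hA3 : aug A ≤ N₃) (hAD : ¬ aug A ≤ aug (grpW W (N₁ ⊓ N₂))) :
    aug (grpW W (N₁ ⊓ N₂)) < aug (grpW W (X ⊓ N₃)) := by
  have h4 : memW W (N₁ ⊓ N₂) ⊆ memW W (X ⊓ N₃) :=
    fun C hC => ⟨hC.1, le_inf (hC.2.trans hX) (h3 C hC)⟩
  have h5 : aug (grpW W (N₁ ⊓ N₂)) ≤ aug (grpW W (X ⊓ N₃)) := aug_mono (grpW_le_of_subset h4)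
  have h6 : aug A ≤ aug (grpW W (X ⊓ N₃)) := aug_mono (le_grpW ⟨hA, le_inf hAX hA3⟩)
  refine lt_of_le_of_ne h5 ?_
  intro heq
  rw [← heq] at h6
  exact hAD h6

theorem step [FiniteDimensional k M] (hWW : ∀ A ∈ W, ∀ B ∈ W, Cfsg.IsUnipotentOn (A ⊔ B))
    (hconj : ∀ A ∈ W, ∀ C ∈ W, ∀ a ∈ A, Cfsg.conjBy C a ∈ W)
    {N₁ N₂ : Submodule k (M →ₗ[k] M)} (h₁ : IsMaxGood W N₁) (h₂ : IsMaxGood W N₂)
    (hne : N₁ ≠ N₂) :
    ∃ N₁' N₂', IsMaxGood W N₁' ∧ IsMaxGood W N₂' ∧ N₁' ≠ N₂' ∧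
      aug (grpW W (N₁ ⊓ N₂)) < aug (grpW W (N₁' ⊓ N₂')) := by
  have hs₁ := h₁.1.sub
  have hs₂ := h₂.1.sub
  have hs := inf_sub hs₁ hs₂
  have hDle : aug (grpW W (N₁ ⊓ N₂)) ≤ N₁ ⊓ N₂ := aug_grpW_le hs
  have hmem : memW W (aug (grpW W (N₁ ⊓ N₂))) = memW W (N₁ ⊓ N₂) := memW_aug_grpW hs
  have hgrp : grpW W (aug (grpW W (N₁ ⊓ N₂))) = grpW W (N₁ ⊓ N₂) := grpW_congr hmem
  have hDs : aug (grpW W (N₁ ⊓ N₂)) * aug (grpW W (N₁ ⊓ N₂)) ≤ aug (grpW W (N₁ ⊓ N₂)) :=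
    aug_mul_self_le _
  obtain ⟨A, hA, hA1, hAD, hAn⟩ := exists_normalizing hconj hs₁ h₁.1.1 hDs
    (hDle.trans inf_le_left) (exists_not_le_of_max h₁ h₂.1 hne (hDle.trans inf_le_right))
  obtain ⟨B, hB, hB2, hBD, hBn⟩ := exists_normalizing hconj hs₂ h₂.1.1 hDs
    (hDle.trans inf_le_right) (exists_not_le_of_max h₂ h₁.1 hne.symm (hDle.trans inf_le_left))
  -- `A ⊔ B` normalizes the group `grpW W (N₁ ⊓ N₂)`
  have hnorm : ∀ g ∈ A ⊔ B, Cfsg.conjBy (grpW W (N₁ ⊓ N₂)) g = grpW W (N₁ ⊓ N₂) := by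
    have hA' : A ≤ Subgroup.normalizer ((grpW W (N₁ ⊓ N₂) : Subgroup _) : Set _) := by
      intro a ha
      apply mem_normalizer_of_conjBy_eq
      have := conjBy_grpW_eq hAn ha
      rw [hgrp] at this
      exact this
    have hB' : B ≤ Subgroup.normalizer ((grpW W (N₁ ⊓ N₂) : Subgroup _) : Set _) := by
      intro b hb
      apply mem_normalizer_of_conjBy_eq
      have := conjBy_grpW_eq hBn hb
      rw [hgrp] at this
      exact this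
    intro g hg
    exact conjBy_eq_of_mem_normalizer (sup_le hA' hB' hg)
  have hTD := aug_mul_aug_le_of_normalizes hnorm
  have hTn : ∃ r : ℕ, aug (A ⊔ B) ^ r = ⊥ := (isUnipotentOn_iff _).mp (hWW A hA B hB)
  obtain ⟨r, hr⟩ := hTn
  obtain ⟨m, hm⟩ := h₁.1.1
  have hDm : aug (grpW W (N₁ ⊓ N₂)) ^ m = ⊥ := sm_pow_eq_bot_of_le (hDle.trans inf_le_left) hm
  obtain ⟨P, hP, hDP, hTP, hPn⟩ := sm_nilp_ext hDs (aug_mul_self_le (A ⊔ B)) hTD hDm hr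
  obtain ⟨N₃, h₃, hle₃⟩ := exists_max_ge (isGood_aug_grpW (W := W) hP hPn)
  have hA3 : aug A ≤ N₃ :=
    (aug_mono (le_grpW ⟨hA, (aug_mono le_sup_left).trans hTP⟩)).trans hle₃
  have hB3 : aug B ≤ N₃ :=
    (aug_mono (le_grpW ⟨hB, (aug_mono le_sup_right).trans hTP⟩)).trans hle₃
  have hC3 : ∀ C ∈ memW W (N₁ ⊓ N₂), aug C ≤ N₃ := by
    intro C hC
    have h5 : aug C ≤ aug (grpW W (N₁ ⊓ N₂)) := aug_mono (le_grpW hC)
    exact (aug_mono (le_grpW ⟨hC.1, h5.trans hDP⟩)).trans hle₃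
  by_cases h13 : N₁ = N₃
  · refine ⟨N₂, N₃, h₂, h₃, ?_, ?_⟩
    · rw [← h13]
      exact hne.symm
    · exact lt_of_witness inf_le_right hC3 hB hB2 hB3 hBD
  · exact ⟨N₁, N₃, h₁, h₃, h13, lt_of_witness inf_le_left hC3 hA hA1 hA3 hAD⟩

theorem max_unique_aux [FiniteDimensional k M]
    (hWW : ∀ A ∈ W, ∀ B ∈ W, Cfsg.IsUnipotentOn (A ⊔ B))
    (hconj : ∀ A ∈ W, ∀ C ∈ W, ∀ a ∈ A, Cfsg.conjBy C a ∈ W) :
    ∀ (m : ℕ) (N₁ N₂ : Submodule k (M →ₗ[k] M)), IsMaxGood W N₁ → IsMaxGood W N₂ → N₁ ≠ N₂ →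
      finrank k (M →ₗ[k] M) - finrank k (aug (grpW W (N₁ ⊓ N₂))) = m → False := by
  intro m
  induction m using Nat.strong_induction_on with
  | _ m ih =>
    intro N₁ N₂ h₁ h₂ hne hm
    obtain ⟨N₁', N₂', h₁', h₂', hne', hlt⟩ := step hWW hconj h₁ h₂ hne
    have h1 := Submodule.finrank_lt_finrank_of_lt hlt
    have h2 := Submodule.finrank_le (aug (grpW W (N₁' ⊓ N₂')))
    refine ih _ ?_ N₁' N₂' h₁' h₂' hne' rfl
    omega

theorem max_unique [FiniteDimensional k M]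
    (hWW : ∀ A ∈ W, ∀ B ∈ W, Cfsg.IsUnipotentOn (A ⊔ B))
    (hconj : ∀ A ∈ W, ∀ C ∈ W, ∀ a ∈ A, Cfsg.conjBy C a ∈ W)
    {N₁ N₂ : Submodule k (M →ₗ[k] M)} (h₁ : IsMaxGood W N₁) (h₂ : IsMaxGood W N₂) : N₁ = N₂ := by
  by_contra hne
  exact max_unique_aux hWW hconj _ N₁ N₂ h₁ h₂ hne rfl

/-- Linear Baer–Suzuki: a conjugation invariant family of subgroups, pairwise generating
unipotent groups, generates a unipotent group. -/
theorem isUnipotentOn_iSup [FiniteDimensional k M]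
    (hWW : ∀ A ∈ W, ∀ B ∈ W, Cfsg.IsUnipotentOn (A ⊔ B))
    (hconj : ∀ A ∈ W, ∀ C ∈ W, ∀ a ∈ A, Cfsg.conjBy C a ∈ W) :
    Cfsg.IsUnipotentOn (⨆ A ∈ W, A) := by
  rw [isUnipotentOn_iff]
  by_cases hW : W.Nonempty
  · obtain ⟨A₀, hA₀⟩ := hW
    obtain ⟨N, hN, -⟩ := exists_max_ge (isGood_aug_of_mem hWW hA₀)
    obtain ⟨n, hn⟩ := hN.1.1
    refine ⟨n, sm_pow_eq_bot_of_le ?_ hn⟩
    apply aug_biSup_le _ hN.1.sub
    intro A hA
    obtain ⟨N', hN', hle⟩ := exists_max_ge (isGood_aug_of_mem hWW hA)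
    rw [max_unique hWW hconj hN hN']
    exact hle
  · refine ⟨1, ?_⟩
    rw [pow_one, eq_bot_iff]
    apply aug_biSup_le _ (by rw [Submodule.bot_mul])
    intro A hA
    exact absurd ⟨A, hA⟩ hW

end Cfsg.Agent.Lib.Helper26
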