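import Cfsg.Agent.Lib.Helper26.LineOpp4
import Cfsg.Agent.Lib.Helper26.DirFactor4

set_option autoImplicit false

namespace Cfsg.Agent.Lib.Helper26

open Cfsg Cfsg.Agent.S5013 Cfsg.Agent.S5014 Cfsg.Agent.S5029
open scoped commutatorElement

variable {G : Type*} [Group G] {S : Set (Subgroup G)}

/-- Conjugates of root elements are root elements. -/
theorem rootElements_conj (hS : Cfsg.IsRootSubgroupSet S) {x : G}
    (hx : x ∈ Cfsg.rootElements S) (g : G) : g * x * g⁻¹ ∈ Cfsg.rootElements S := by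
  obtain ⟨hx1, A, hA, hxA⟩ := hx
  refine ⟨?_, Cfsg.conjBy A g, hS.conj_mem A hA g, mem_conjBy_of_mem hxA g⟩
  intro h
  apply hx1
  calc x = g⁻¹ * (g * x * g⁻¹) * g := by group
    _ = 1 := by rw [h]; group

/-- Products of non-identity elements of `C` and `A` are root elements. -/
def RootProd (S : Set (Subgroup G)) (A C : Subgroup G) : Prop :=
  ∀ z ∈ C, z ≠ 1 → ∀ a ∈ A, a ≠ 1 → z * a ∈ Cfsg.rootElements S

/-- Generalisation of `commutatorCase_with_commutator`: the partner `C` of `A` only needs to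
commute with `A` and to have root elements as products with `A`. -/
theorem cl_commutatorCase (hS : Cfsg.IsRootSubgroupSet S)
    (hni : ∀ A ∈ S, ¬ Cfsg.IsIsolatedIn (Cfsg.FAdj S) S A) {A B C : Subgroup G} (hA : A ∈ S)
    (hB : B ∈ Cfsg.rankOnePartners S A) (hCS : C ∈ S) (hAC : CommWith A C)
    (hH : RootProd S A C)
    (hBC : Cfsg.RootCommutatorCase S B C) : Cfsg.RootCommutatorCase S A ⁅B, C⁆ := by
  have hF := hBC.1
  obtain ⟨hBS, hAB⟩ := hB
  rcases hS.pair A hA _ hF with h | h | h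
  · exfalso
    obtain ⟨z, hz, hz1⟩ := exists_ne_one_of_ne_bot (hS.ne_bot _ hF)
    obtain ⟨b, hb, hb1⟩ := exists_ne_one_of_ne_bot (hS.ne_bot _ hBS)
    have hFc : CommWith ⁅B, C⁆ (B ⊔ A) := by
      apply CommWith.sup_right
      · intro x hx y hy
        exact hBC.2.1 x hx y (Subgroup.mem_sup_left hy)
      · exact (commWith_of_commutator_eq_bot h).symm
    have hzc : z ∈ Subgroup.centralizer ((B ⊔ A : Subgroup G) : Set G) :=
      commWith_iff_le_centralizer.mp hFc hz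
    apply Cfsg.Agent.S5025.result hS hBS ⟨hA, Cfsg.RankOnePair_symm hAB⟩ hzc hz1 b hb hb1
    have hzb1 : z * b ≠ 1 := by
      intro h1
      have hzB : z ∈ B := by
        rw [mul_eq_one_iff_eq_inv.mp h1]
        exact B.inv_mem hb
      have h2 : z ∈ B ⊓ ⁅B, C⁆ := ⟨hzB, hz⟩
      rw [inf_commutator_eq_bot hS (hni B hBS) hBS hBC, Subgroup.mem_bot] at h2
      exact hz1 h2
    have hline := (Cfsg.Agent.S5029.result hS (hni B hBS) hBS hCS hF).2.2.1
    obtain ⟨P, hP, hzbP⟩ := hline.2.2.1 (z * b) (Subgroup.mul_mem_sup hz hb) hzb1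
    exact ⟨hzb1, P, hP.1, hzbP⟩
  · exfalso
    obtain ⟨z, hz, hz1⟩ := exists_ne_one_of_ne_bot (hS.ne_bot _ hCS)
    obtain ⟨a, ha, ha1⟩ := exists_ne_one_of_ne_bot (hS.ne_bot _ hA)
    have hCc : CommWith C (A ⊔ ⁅B, C⁆) := by
      apply CommWith.sup_right
      · exact hAC.symm
      · intro x hx y hy
        exact (hBC.2.1 y hy x (Subgroup.mem_sup_right hx)).symm
    have hzc : z ∈ Subgroup.centralizer ((A ⊔ ⁅B, C⁆ : Subgroup G) : Set G) :=
      commWith_iff_le_centralizer.mp hCc hz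
    exact Cfsg.Agent.S5025.result hS hA ⟨hF, h⟩ hzc hz1 a ha ha1 (hH z hz hz1 a ha ha1)
  · exact h

/-- **Closing lemma.** If `B` is a rank one partner of `A`, `C ≠ A` commutes with `A` with root
elements as products, and `B, C` are in the commutator case, then `⁅A, ⁅B, C⁆⁆ = C`. -/
theorem cl_main (hS : Cfsg.IsRootSubgroupSet S)
    (hni : ∀ A ∈ S, ¬ Cfsg.IsIsolatedIn (Cfsg.FAdj S) S A) {A B C : Subgroup G} (hA : A ∈ S)
    (hB : B ∈ Cfsg.rankOnePartners S A) (hCS : C ∈ S) (hAC : CommWith A C)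
    (hH : RootProd S A C)
    (hBC : Cfsg.RootCommutatorCase S B C) : ⁅A, ⁅B, C⁆⁆ = C := by
  have hAF := cl_commutatorCase hS hni hA hB hCS hAC hH hBC
  obtain ⟨hBS, hAB⟩ := hB
  have hF := hBC.1
  have hE := hAF.1
  by_contra hne
  have hinf : C ⊓ ⁅A, ⁅B, C⁆⁆ = ⊥ := by
    rcases Cfsg.Agent.S5028.result hS (hni C hCS) hCS _ hE with h | h
    · exact h
    · exact absurd h.symm hne
  obtain ⟨a, ha, ha1⟩ := exists_ne_one_of_ne_bot (hS.ne_bot A hA)
  obtain ⟨β, hβ, hβ1, hrel⟩ := hAB.cond_left a ha ha1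
  have hgB : Cfsg.conjBy A (a * β⁻¹) = B := by
    rw [← conjBy_conjBy, hrel, conjBy_conjBy, mul_inv_cancel, conjBy_one]
  obtain ⟨c, hc, hc1⟩ := exists_ne_one_of_ne_bot (hS.ne_bot C hCS)
  obtain ⟨f, hf⟩ : ∃ f : G, f = β⁻¹ * c * β * c⁻¹ := ⟨_, rfl⟩
  have hfF : f ∈ ⁅B, C⁆ := by
    have := Subgroup.commutator_mem_commutator (B.inv_mem hβ) hc
    rw [commutatorElement_def, inv_inv] at this
    rw [hf]
    exact this
  obtain ⟨e', he'⟩ : ∃ e' : G, e' = a * f * a⁻¹ * f⁻¹ := ⟨_, rfl⟩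
  have he'E : e' ∈ ⁅A, ⁅B, C⁆⁆ := by
    have := Subgroup.commutator_mem_commutator ha hfF
    rw [commutatorElement_def] at this
    rw [he']
    exact this
  have hac : a * c = c * a := hAC a ha c hc
  have hca : c * a⁻¹ = a⁻¹ * c := (show Commute c a from hac.symm).inv_right.eq
  have hy : (a * β⁻¹) * c * (a * β⁻¹)⁻¹ = e' * f * c := by
    calc (a * β⁻¹) * c * (a * β⁻¹)⁻¹ = a * (β⁻¹ * c * β * c⁻¹) * (c * a⁻¹) := by group
      _ = a * f * (a⁻¹ * c) := by rw [hca, hf]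
      _ = e' * f * c := by rw [he']; group
  have he'f : e' * f = f * e' := hAF.2.1 e' he'E f (Subgroup.mem_sup_right hfF)
  have hCF : CommWith C ⁅B, C⁆ :=
    fun x hx y hy => (hBC.2.1 y hy x (Subgroup.mem_sup_right hx)).symm
  have hCE : CommWith C ⁅A, ⁅B, C⁆⁆ := commWith_commutator hAC.symm hCF
  have hzB : ∀ x ∈ B, x * (e' * c) = (e' * c) * x := by
    intro x hx
    have hyB : x * ((a * β⁻¹) * c * (a * β⁻¹)⁻¹) = ((a * β⁻¹) * c * (a * β⁻¹)⁻¹) * x := by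
      have h1 := commWith_conjBy hAC (a * β⁻¹)
      rw [hgB] at h1
      exact h1 x hx _ (mem_conjBy_of_mem hc _)
    have hfx : f⁻¹ * x = x * f⁻¹ :=
      hBC.2.1 f⁻¹ (Subgroup.inv_mem _ hfF) x (Subgroup.mem_sup_left hx)
    have hz : e' * c = f⁻¹ * ((a * β⁻¹) * c * (a * β⁻¹)⁻¹) := by
      rw [hy, he'f]
      group
    rw [hz]
    obtain ⟨y, hyd⟩ : ∃ y : G, y = (a * β⁻¹) * c * (a * β⁻¹)⁻¹ := ⟨_, rfl⟩
    rw [← hyd] at hyB ⊢
    calc x * (f⁻¹ * y) = (x * f⁻¹) * y := by group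
      _ = (f⁻¹ * x) * y := by rw [hfx]
      _ = f⁻¹ * (x * y) := by group
      _ = f⁻¹ * (y * x) := by rw [hyB]
      _ = f⁻¹ * y * x := by group
  have hzA : ∀ x ∈ A, x * (e' * c) = (e' * c) * x := by
    intro x hx
    have h1 : e' * x = x * e' := hAF.2.1 e' he'E x (Subgroup.mem_sup_left hx)
    have h2 : x * c = c * x := hAC x hx c hc
    rw [← mul_assoc, ← h1, mul_assoc, h2, mul_assoc]
  have hzc : e' * c ∈ Subgroup.centralizer ((A ⊔ B : Subgroup G) : Set G) := by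
    have hle : A ⊔ B ≤ Subgroup.centralizer ({e' * c} : Set G) := by
      apply sup_le
      · intro x hx
        rw [Subgroup.mem_centralizer_iff]
        intro w hw
        rw [Set.mem_singleton_iff] at hw
        rw [hw]
        exact (hzA x hx).symm
      · intro x hx
        rw [Subgroup.mem_centralizer_iff]
        intro w hw
        rw [Set.mem_singleton_iff] at hw
        rw [hw]
        exact (hzB x hx).symm
    rw [Subgroup.mem_centralizer_iff]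
    intro h hh
    have h1 := hle hh
    rw [Subgroup.mem_centralizer_iff] at h1
    exact (h1 (e' * c) rfl).symm
  have hz1 : e' * c ≠ 1 := by
    intro h1
    have hcE : c ∈ ⁅A, ⁅B, C⁆⁆ := by
      have : c = e'⁻¹ := eq_inv_of_mul_eq_one_right h1
      rw [this]
      exact Subgroup.inv_mem _ he'E
    have h2 : c ∈ C ⊓ ⁅A, ⁅B, C⁆⁆ := ⟨hc, hcE⟩
    rw [hinf, Subgroup.mem_bot] at h2
    exact hc1 h2
  obtain ⟨φ, hφ⟩ := (Cfsg.Agent.S5029.result hS (hni A hA) hA hF hE).2.2.2 a ha ha1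
  obtain ⟨b, hb⟩ := φ.surjective ⟨e'⁻¹, Subgroup.inv_mem _ he'E⟩
  have hb' : a⁻¹ * (b : G)⁻¹ * a * b = e'⁻¹ := by
    rw [← hφ b, hb]
  have hbz : (b : G) * (e' * c) = (e' * c) * b := by
    have h1 : e' * (b : G) = b * e' := hAF.2.1 e' he'E b (Subgroup.mem_sup_right b.2)
    have h2 : (b : G) * c = c * b := hBC.2.1 b b.2 c (Subgroup.mem_sup_right hc)
    rw [← mul_assoc, ← h1, mul_assoc, h2, mul_assoc]
  have he'c : c * e' = e' * c := hCE c hc e' he'E
  have he'a : e' * a = a * e' := hAF.2.1 e' he'E a (Subgroup.mem_sup_left ha)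
  have hconj : (e' * c) * a = (b : G) * (c * a) * (b : G)⁻¹ := by
    have h3 : (b : G)⁻¹ * a * b = a * e'⁻¹ := by
      rw [← hb']
      group
    have hce : c * e'⁻¹ = e'⁻¹ * c := (show Commute c e' from he'c).inv_right.eq
    have hae : a * e'⁻¹ = e'⁻¹ * a := (show Commute a e' from he'a.symm).inv_right.eq
    have h5 : (e' * c) * (a * e'⁻¹) = c * a := by
      calc (e' * c) * (a * e'⁻¹) = (e' * c) * (e'⁻¹ * a) := by rw [hae]
        _ = e' * (c * e'⁻¹) * a := by group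
        _ = e' * (e'⁻¹ * c) * a := by rw [hce]
        _ = c * a := by group
    calc (e' * c) * a = (e' * c) * ((b : G) * ((b : G)⁻¹ * a * b) * (b : G)⁻¹) := by group
      _ = (e' * c) * ((b : G) * (a * e'⁻¹) * (b : G)⁻¹) := by rw [h3]
      _ = ((e' * c) * (b : G)) * (a * e'⁻¹) * (b : G)⁻¹ := by group
      _ = ((b : G) * (e' * c)) * (a * e'⁻¹) * (b : G)⁻¹ := by rw [hbz]
      _ = (b : G) * ((e' * c) * (a * e'⁻¹)) * (b : G)⁻¹ := by group
      _ = (b : G) * (c * a) * (b : G)⁻¹ := by rw [h5]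
  apply Cfsg.Agent.S5025.result hS hA ⟨hBS, hAB⟩ hzc hz1 a ha ha1
  rw [hconj]
  exact rootElements_conj hS (hH c hc hc1 a ha ha1) b

/-- In the commutator case `⁅A, F⁆ ∈ S`, the group `F` normalizes `A ⊔ ⁅A, F⁆`. -/
theorem cl_le_normalizer {A F : Subgroup G} (h : Cfsg.RootCommutatorCase S A F) :
    F ≤ Subgroup.normalizer ((A ⊔ ⁅A, F⁆ : Subgroup G) : Set G) := by
  apply le_normalizer_of_conj_le
  intro f hf
  rw [conjBy_sup]
  apply sup_le (conjBy_le_sup hf)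
  rw [conjBy_eq_self_of_comm (fun x hx => (h.2.1 x hx f (Subgroup.mem_sup_right hf)).symm)]
  exact le_sup_right

/-- In the commutator case a non-identity element of `F` moves `A`. -/
theorem cl_conjBy_ne (hS : Cfsg.IsRootSubgroupSet S)
    (hni : ∀ A ∈ S, ¬ Cfsg.IsIsolatedIn (Cfsg.FAdj S) S A) {A F : Subgroup G} (hA : A ∈ S)
    (h : Cfsg.RootCommutatorCase S A F) {f : G} (hf : f ∈ F) (hf1 : f ≠ 1) :
    Cfsg.conjBy A f ≠ A := by
  intro heq
  apply hS.ne_bot _ h.1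
  rw [← h.2.2.2 f hf hf1, Subgroup.closure_eq_bot_iff]
  rintro _ ⟨a, ha, rfl⟩
  have h1 : f * a⁻¹ * f⁻¹ ∈ A := by
    have := mem_conjBy_of_mem (A.inv_mem ha) f
    rw [heq] at this
    exact this
  have h2 : a * f * a⁻¹ * f⁻¹ ∈ A := by
    have e : a * f * a⁻¹ * f⁻¹ = a * (f * a⁻¹ * f⁻¹) := by group
    rw [e]
    exact A.mul_mem ha h1
  have h3 : a * f * a⁻¹ * f⁻¹ ∈ ⁅A, F⁆ := by
    have := Subgroup.commutator_mem_commutator ha hf
    rw [commutatorElement_def] at this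
    exact this
  have h4 : a * f * a⁻¹ * f⁻¹ ∈ A ⊓ ⁅A, F⁆ := ⟨h2, h3⟩
  rw [inf_commutator_eq_bot hS (hni A hA) hA h, Subgroup.mem_bot] at h4
  exact h4

/-- **Line structure.** Every line `A ⊔ B₀` through `A` is a commutator line: for a rank one
partner `C'` of `A` there is a point `E` of the line in the commutator case with `C'`, and then
`⁅A, ⁅C', E⁆⁆ = E`, `A ⊔ E` is the whole line and its points are `E` and the conjugates of `A`
under `⁅C', E⁆`. -/
theorem line_structure (hS : Cfsg.IsRootSubgroupSet S)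
    (hni : ∀ A ∈ S, ¬ Cfsg.IsIsolatedIn (Cfsg.FAdj S) S A) {A B₀ C' : Subgroup G} (hA : A ∈ S)
    (hB₀ : B₀ ∈ Cfsg.linePartners S A) (hC' : C' ∈ Cfsg.rankOnePartners S A) :
    ∃ E ∈ Cfsg.membersIn S (A ⊔ B₀), E ≠ A ∧ Cfsg.RootCommutatorCase S C' E ∧
      Cfsg.RootCommutatorCase S A ⁅C', E⁆ ∧ ⁅A, ⁅C', E⁆⁆ = E ∧ A ⊔ E = A ⊔ B₀ ∧
      Cfsg.membersIn S (A ⊔ B₀) =
        (fun f : G => Cfsg.conjBy A f) '' ((⁅C', E⁆ : Subgroup G) : Set G) ∪ {E} := by
  obtain ⟨E, hE, hCE⟩ := exists_commutatorCase_on_line hS hA hB₀ hC'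
  have hEA : E ≠ A := by
    rintro rfl
    exact not_rankOne_of_commutator_mem hS hC'.1 hCE.1 (Cfsg.RankOnePair_symm hC'.2)
  obtain ⟨⟨hB₀S, hB₀A, hAB₀⟩, -, hpart, -⟩ := hB₀
  have hL : CommOn (A ⊔ B₀) :=
    commOn_sup (commOn_of_mem hS hA) (commOn_of_mem hS hB₀S) (commWith_of_commutator_eq_bot hAB₀)
  have hAE : CommWith A E := fun x hx y hy => hL x (Subgroup.mem_sup_left hx) y (hE.2 hy)
  have hH : RootProd S A E := by
    intro z hz hz1 a ha ha1
    have hza1 : z * a ≠ 1 := by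
      intro h1
      have hzA : z ∈ A := by
        rw [mul_eq_one_iff_eq_inv.mp h1]
        exact A.inv_mem ha
      exact hEA (eq_of_mem_of_mem hS (hni A hA) hA hE.1 hzA hz hz1).symm
    obtain ⟨P, hP, hzaP⟩ := hpart (z * a) ((A ⊔ B₀).mul_mem (hE.2 hz) (Subgroup.mem_sup_left ha)) hza1
    exact ⟨hza1, P, hP.1, hzaP⟩
  have hAF := cl_commutatorCase hS hni hA hC' hE.1 hAE hH hCE
  have hcl := cl_main hS hni hA hC' hE.1 hAE hH hCE
  obtain ⟨hmem, hpart', -, -⟩ := Cfsg.Agent.S5029.result hS (hni A hA) hA hCE.1 hAF.1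
  have hsup : A ⊔ E = A ⊔ B₀ := by
    apply le_antisymm (sup_le le_sup_left hE.2)
    apply sup_le le_sup_left
    obtain ⟨e, he, he1⟩ := exists_ne_one_of_ne_bot (hS.ne_bot E hE.1)
    obtain ⟨a, ha, b₀, hb₀, heq⟩ :=
      exists_mul_of_mem_sup_comm (commWith_of_commutator_eq_bot hAB₀) (hE.2 he)
    have hb₀1 : b₀ ≠ 1 := by
      intro h1
      rw [h1, mul_one] at heq
      rw [heq] at he he1
      exact hEA (eq_of_mem_of_mem hS (hni A hA) hA hE.1 ha he he1).symm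
    have hb₀m : b₀ ∈ A ⊔ ⁅A, ⁅C', E⁆⁆ := by
      have e1 : b₀ = a⁻¹ * e := by rw [heq]; group
      rw [e1, hcl]
      exact Subgroup.mul_mem_sup (A.inv_mem ha) he
    obtain ⟨Q, hQ, hb₀Q⟩ := hpart'.2.1 b₀ hb₀m hb₀1
    have hQB : Q = B₀ := eq_of_mem_of_mem hS (hni Q hQ.1) hQ.1 hB₀S hb₀Q hb₀ hb₀1
    rw [← hQB, ← hcl]
    exact hQ.2
  refine ⟨E, hE, hEA, hCE, hAF, hcl, hsup, ?_⟩
  rw [← hsup]
  have hmem' := hmem
  rw [hcl] at hmem'
  exact hmem'

end Cfsg.Agent.Lib.Helper26
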