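import Cfsg.Agent.Lib.Helper26.LineOpp2

/-!
# The graph of line partners: conjugation invariance and paths
-/

set_option autoImplicit false

namespace Cfsg.Agent.Lib.Helper26

open Cfsg Cfsg.Agent.S5013 Cfsg.Agent.S5014 Cfsg.Agent.S5029
open scoped commutatorElement

variable {G : Type*} [Group G] {S : Set (Subgroup G)}

theorem conjBy_inv_le_iff {C L : Subgroup G} {g : G} :
    Cfsg.conjBy C g⁻¹ ≤ L ↔ C ≤ Cfsg.conjBy L g := by
  constructor
  · intro h x hx
    rw [mem_conjBy_iff]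
    exact h (mem_conjBy_inv_of_mem hx g)
  · intro h z hz
    rw [mem_conjBy_iff, inv_inv] at hz
    have := h hz
    rw [mem_conjBy_iff] at this
    have e : g⁻¹ * (g * z * g⁻¹) * g = z := by group
    rwa [e] at this

theorem membersIn_conjBy_iff (hS : Cfsg.IsRootSubgroupSet S) {L C : Subgroup G} (g : G) :
    C ∈ Cfsg.membersIn S (Cfsg.conjBy L g) ↔ Cfsg.conjBy C g⁻¹ ∈ Cfsg.membersIn S L := by
  constructor
  · rintro ⟨hCS, hCL⟩
    exact ⟨hS.conj_mem C hCS g⁻¹, conjBy_inv_le_iff.mpr hCL⟩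
  · rintro ⟨hCS, hCL⟩
    refine ⟨?_, conjBy_inv_le_iff.mp hCL⟩
    have := hS.conj_mem _ hCS g
    rwa [conjBy_conjBy_inv] at this

theorem subgroupPartition_conjBy (hS : Cfsg.IsRootSubgroupSet S) {L : Subgroup G}
    (h : Cfsg.IsSubgroupPartition L (Cfsg.membersIn S L)) (g : G) :
    Cfsg.IsSubgroupPartition (Cfsg.conjBy L g) (Cfsg.membersIn S (Cfsg.conjBy L g)) := by
  refine ⟨fun C hC => hC.2, ?_, ?_⟩
  · intro x hx hx1
    rw [mem_conjBy_iff] at hx
    have hx1' : g⁻¹ * x * g ≠ 1 := by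
      intro h1
      apply hx1
      have : x = g * (g⁻¹ * x * g) * g⁻¹ := by group
      rw [this, h1]
      group
    obtain ⟨C, hC, hxC⟩ := h.2.1 _ hx hx1'
    refine ⟨Cfsg.conjBy C g, ?_, ?_⟩
    · rw [membersIn_conjBy_iff hS, conjBy_inv_conjBy]
      exact hC
    · rw [mem_conjBy_iff]
      exact hxC
  · intro C hC D hD hCD
    rw [membersIn_conjBy_iff hS] at hC hD
    have hne : Cfsg.conjBy C g⁻¹ ≠ Cfsg.conjBy D g⁻¹ := fun he => hCD (conjBy_injective g⁻¹ he)
    have := h.2.2 _ hC _ hD hne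
    rw [eq_bot_iff]
    intro x hx
    have h1 : g⁻¹ * x * g ∈ Cfsg.conjBy C g⁻¹ ⊓ Cfsg.conjBy D g⁻¹ :=
      ⟨mem_conjBy_inv_of_mem hx.1 g, mem_conjBy_inv_of_mem hx.2 g⟩
    rw [this, Subgroup.mem_bot] at h1
    rw [Subgroup.mem_bot]
    have : x = g * (g⁻¹ * x * g) * g⁻¹ := by group
    rw [this, h1]
    group

theorem linePartners_conjBy (hS : Cfsg.IsRootSubgroupSet S) {A B : Subgroup G}
    (hB : B ∈ Cfsg.linePartners S A) (g : G) :
    Cfsg.conjBy B g ∈ Cfsg.linePartners S (Cfsg.conjBy A g) := by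
  obtain ⟨⟨hBS, hBA, hAB⟩, hp⟩ := hB
  refine ⟨⟨hS.conj_mem B hBS g, fun he => hBA (conjBy_injective g he), ?_⟩, ?_⟩
  · rw [← conjBy_commutator, hAB, conjBy_bot]
  · rw [← conjBy_sup]
    exact subgroupPartition_conjBy hS hp g

theorem eAdj_conjBy (hS : Cfsg.IsRootSubgroupSet S) {A B : Subgroup G}
    (h : Cfsg.EAdj S S A B) (g : G) : Cfsg.EAdj S S (Cfsg.conjBy A g) (Cfsg.conjBy B g) :=
  ⟨hS.conj_mem A h.1 g, hS.conj_mem B h.2.1 g, linePartners_conjBy hS h.2.2 g⟩

theorem eAdj_symm {A B : Subgroup G} (h : Cfsg.EAdj S S A B) : Cfsg.EAdj S S B A :=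
  ⟨h.2.1, h.1, linePartners_symm h.1 h.2.2⟩

theorem eRtg_conjBy (hS : Cfsg.IsRootSubgroupSet S) {A B : Subgroup G}
    (h : Relation.ReflTransGen (Cfsg.EAdj S S) A B) (g : G) :
    Relation.ReflTransGen (Cfsg.EAdj S S) (Cfsg.conjBy A g) (Cfsg.conjBy B g) := by
  induction h with
  | refl => exact Relation.ReflTransGen.refl
  | tail _ hbc ih => exact Relation.ReflTransGen.tail ih (eAdj_conjBy hS hbc g)

/-- In a non-degenerate class every member is non-isolated in the graph of rank one pairs. -/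
theorem not_isolated_of_nondegenerate (hS : Cfsg.IsRootSubgroupClass S)
    (hnd : Cfsg.IsNondegenerateRootSet S) {A : Subgroup G} (hA : A ∈ S) :
    ¬ Cfsg.IsIsolatedIn (Cfsg.FAdj S) S A := by
  obtain ⟨A₀, hA₀, B₀, hB₀, h0⟩ := hnd.2.1
  have h1 : ¬ Cfsg.IsIsolatedIn (Cfsg.FAdj S) S A₀ := not_isolated_of_partner hA₀ hB₀ h0
  obtain ⟨g, hg⟩ := hS.2.2 A₀ hA₀ A hA
  rw [hg]
  exact not_isolated_conj hS.1 h1 hA₀ g

/-- A rank one pair of a non-degenerate class is joined by a path of length three in the graph of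
line partners. -/
theorem eRtg_of_rankOne (hS : Cfsg.IsRootSubgroupClass S) (hnd : Cfsg.IsNondegenerateRootSet S)
    {A B : Subgroup G} (hA : A ∈ S) (hB : B ∈ Cfsg.rankOnePartners S A) :
    Relation.ReflTransGen (Cfsg.EAdj S S) A B := by
  obtain ⟨C, hC, hBC⟩ := exists_linePartner_commutatorCase hS hnd hA hB
  have hCS : C ∈ S := hC.1.1
  have hF : ⁅B, C⁆ ∈ S := hBC.1
  have hBF : B ∈ Cfsg.linePartners S ⁅B, C⁆ :=
    (Cfsg.Agent.S5029.result hS.1 (not_isolated_of_nondegenerate hS hnd hB.1) hB.1 hCS hF).2.2.1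
  have hF' : ⁅C, B⁆ ∈ S := by rw [Subgroup.commutator_comm]; exact hF
  have hCF : C ∈ Cfsg.linePartners S ⁅C, B⁆ :=
    (Cfsg.Agent.S5029.result hS.1 (not_isolated_of_nondegenerate hS hnd hCS) hCS hB.1 hF').2.2.1
  rw [Subgroup.commutator_comm] at hCF
  have s1 : Cfsg.EAdj S S A C := ⟨hA, hCS, hC⟩
  have s2 : Cfsg.EAdj S S C ⁅B, C⁆ := ⟨hCS, hF, linePartners_symm hF hCF⟩
  have s3 : Cfsg.EAdj S S ⁅B, C⁆ B := ⟨hF, hB.1, hBF⟩
  exact ((Relation.ReflTransGen.single s1).tail s2).tail s3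

/-- Conjugating by a root element stays in the connected component of the line graph. -/
theorem eRtg_conjBy_root (hS : Cfsg.IsRootSubgroupClass S) (hnd : Cfsg.IsNondegenerateRootSet S)
    {A B : Subgroup G} (hA : A ∈ S) (hB : B ∈ S) {b : G} (hb : b ∈ B) :
    Relation.ReflTransGen (Cfsg.EAdj S S) A (Cfsg.conjBy A b) := by
  rcases hS.1.pair A hA B hB with h | h | h
  · have h1 : CommWith A B := commWith_of_commutator_eq_bot h
    have h2 : Cfsg.conjBy A b = A := by
      apply conjBy_eq_of_mem_normalizer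
      apply Subgroup.centralizer_le_normalizer
      exact commWith_iff_le_centralizer.mp h1.symm hb
    rw [h2]
  · by_cases hb1 : b = 1
    · rw [hb1, conjBy_one]
    · have hb1' : b⁻¹ ≠ 1 := fun he => hb1 (inv_eq_one.mp he)
      obtain ⟨a, ha, -, hab⟩ := h.cond_right b⁻¹ (B.inv_mem hb) hb1'
      rw [inv_inv] at hab
      have hpath := eRtg_of_rankOne hS hnd hA ⟨hB, h⟩
      have := eRtg_conjBy hS.1 hpath a⁻¹
      rw [conjBy_eq_of_mem_normalizer (Subgroup.le_normalizer (A.inv_mem ha)), hab] at this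
      exact this
  · by_cases hAb : Cfsg.conjBy A b = A
    · rw [hAb]
    · have hAni := not_isolated_of_nondegenerate hS hnd hA
      have hmem : Cfsg.conjBy A b ∈ Cfsg.membersIn S (A ⊔ ⁅A, B⁆) := by
        rw [(Cfsg.Agent.S5029.result hS.1 hAni hA hB h.1).1]
        exact Or.inl ⟨b, hb, rfl⟩
      exact Relation.ReflTransGen.single
        ⟨hA, hmem.1, linePartner_of_mem_line hS.1 hAni hA hB h hmem hAb⟩

/-- The elements `g` such that every member is joined to its conjugate by `g`. -/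
def eStab (hS : Cfsg.IsRootSubgroupSet S) : Subgroup G where
  carrier := {g | ∀ A ∈ S, Relation.ReflTransGen (Cfsg.EAdj S S) A (Cfsg.conjBy A g) ∧
    Relation.ReflTransGen (Cfsg.EAdj S S) A (Cfsg.conjBy A g⁻¹)}
  one_mem' := by
    intro A _
    rw [inv_one, conjBy_one]
    exact ⟨Relation.ReflTransGen.refl, Relation.ReflTransGen.refl⟩
  mul_mem' := by
    intro x y hx hy A hA
    constructor
    · have h1 := (hy A hA).1
      have h2 := (hx (Cfsg.conjBy A y) (hS.conj_mem A hA y)).1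
      rw [conjBy_conjBy] at h2
      exact h1.trans h2
    · have h1 := (hx A hA).2
      have h2 := (hy (Cfsg.conjBy A x⁻¹) (hS.conj_mem A hA x⁻¹)).2
      rw [conjBy_conjBy, ← mul_inv_rev] at h2
      exact h1.trans h2
  inv_mem' := by
    intro x hx A hA
    rw [inv_inv]
    exact ⟨(hx A hA).2, (hx A hA).1⟩

/-- Every conjugate of `A` lies in the connected component of `A` in the line graph. -/
theorem eRtg_conjBy_all (hS : Cfsg.IsRootSubgroupClass S) (hnd : Cfsg.IsNondegenerateRootSet S)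
    (g : G) : ∀ A ∈ S, Relation.ReflTransGen (Cfsg.EAdj S S) A (Cfsg.conjBy A g) := by
  have htop : eStab hS.1 = ⊤ := by
    rw [eq_top_iff, ← hS.1.generates]
    apply iSup₂_le
    intro B hB b hb A hA
    exact ⟨eRtg_conjBy_root hS hnd hA hB hb, eRtg_conjBy_root hS hnd hA hB (B.inv_mem hb)⟩
  have hg : g ∈ eStab hS.1 := by rw [htop]; exact Subgroup.mem_top g
  exact fun A hA => (hg A hA).1

theorem eConnected (hS : Cfsg.IsRootSubgroupClass S) (hnd : Cfsg.IsNondegenerateRootSet S) :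
    Cfsg.IsConnectedFamily (Cfsg.EAdj S S) S := by
  intro A hA B hB
  obtain ⟨g, rfl⟩ := hS.2.2 A hA B hB
  exact eRtg_conjBy_all hS hnd g A hA

end Cfsg.Agent.Lib.Helper26
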