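import Cfsg.Agent.Lib.Helper26.LineTrans
import Cfsg.Agent.Lib.Helper26.LineGraph

set_option autoImplicit false

namespace Cfsg.Agent.Lib.Helper26

open Cfsg Cfsg.Agent.S5013 Cfsg.Agent.S5014 Cfsg.Agent.S5029
open scoped commutatorElement

variable {G : Type*} [Group G] {S : Set (Subgroup G)}

/-- The subgroup generated by the line partners of `A` and by `B`. -/
def lgR (S : Set (Subgroup G)) (A B : Subgroup G) : Subgroup G :=
  (⨆ C ∈ Cfsg.linePartners S A, C) ⊔ B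

theorem lg_le_of_linePartner {A B C : Subgroup G} (hC : C ∈ Cfsg.linePartners S A) :
    C ≤ lgR S A B :=
  le_trans (le_iSup₂_of_le C hC le_rfl) le_sup_left

theorem lg_B_le {A B : Subgroup G} : B ≤ lgR S A B := le_sup_right

/-- Every line partner of `A` is conjugate to `A` under `lgR S A B`, and `A ≤ lgR S A B`. -/
theorem lg_key (hS : Cfsg.IsRootSubgroupSet S)
    (hni : ∀ A ∈ S, ¬ Cfsg.IsIsolatedIn (Cfsg.FAdj S) S A) {A B Q : Subgroup G} (hA : A ∈ S)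
    (hB : B ∈ Cfsg.rankOnePartners S A) (hQ : Q ∈ Cfsg.linePartners S A) :
    A ≤ lgR S A B ∧ ∃ r ∈ lgR S A B, Q = Cfsg.conjBy A r := by
  obtain ⟨E, hE, hEA, hBE, hAF, hcl, hsup, hmem⟩ := line_structure hS hni hA hQ hB
  have hAni := hni A hA
  have hAm : A ∈ Cfsg.membersIn S (A ⊔ Q) := ⟨hA, le_sup_left⟩
  have hEm : E ∈ Cfsg.membersIn S (A ⊔ ⁅A, ⁅B, E⁆⁆) := by
    rw [hcl, hsup]
    exact hE
  have hEΛ : E ∈ Cfsg.linePartners S A := linePartner_of_mem_line hS hAni hA hBE.1 hAF hEm hEA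
  have hER : E ≤ lgR S A B := lg_le_of_linePartner hEΛ
  have hFR : ⁅B, E⁆ ≤ lgR S A B := by
    rw [Subgroup.commutator_le]
    intro b hb e he
    rw [commutatorElement_def]
    exact Subgroup.mul_mem _ (Subgroup.mul_mem _ (Subgroup.mul_mem _ (lg_B_le hb) (hER he))
      (Subgroup.inv_mem _ (lg_B_le hb))) (Subgroup.inv_mem _ (hER he))
  have hfixE : ∀ f ∈ ⁅B, E⁆, Cfsg.conjBy E f = E := fun f hf =>
    conjBy_eq_self_of_comm (fun x hx => hBE.2.1 f hf x (Subgroup.mem_sup_right hx))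
  have hconjL : ∀ f ∈ ⁅B, E⁆, Cfsg.conjBy A f ⊔ E = A ⊔ E := by
    intro f hf
    have h2 : Cfsg.conjBy (A ⊔ ⁅A, ⁅B, E⁆⁆) f = A ⊔ ⁅A, ⁅B, E⁆⁆ :=
      conjBy_eq_of_mem_normalizer (cl_le_normalizer hAF hf)
    rw [hcl, conjBy_sup, hfixE f hf] at h2
    exact h2
  have hconjm : ∀ f ∈ ⁅B, E⁆, Cfsg.conjBy A f ∈ Cfsg.membersIn S (A ⊔ ⁅A, ⁅B, E⁆⁆) := by
    intro f hf
    rw [hcl, hsup, hmem]
    exact Or.inl ⟨f, hf, rfl⟩
  have hconjΛ : ∀ f ∈ ⁅B, E⁆, f ≠ 1 → Cfsg.conjBy A f ∈ Cfsg.linePartners S A := fun f hf hf1 =>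
    linePartner_of_mem_line hS hAni hA hBE.1 hAF (hconjm f hf) (cl_conjBy_ne hS hni hA hAF hf hf1)
  obtain ⟨f₀, hf₀, hf₀1⟩ := exists_ne_one_of_ne_bot (hS.ne_bot _ hBE.1)
  have hAR : A ≤ lgR S A B := by
    have h1 : A ≤ Cfsg.conjBy A f₀ ⊔ E := by
      rw [hconjL f₀ hf₀]
      exact le_sup_left
    exact le_trans h1 (sup_le (lg_le_of_linePartner (hconjΛ f₀ hf₀ hf₀1)) hER)
  refine ⟨hAR, ?_⟩
  have hQm : Q ∈ Cfsg.membersIn S (A ⊔ Q) := ⟨hQ.1.1, le_sup_right⟩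
  rw [hmem] at hQm
  rcases hQm with ⟨f, hf, rfl⟩ | hQE
  · exact ⟨f, hFR hf, rfl⟩
  · rw [Set.mem_singleton_iff] at hQE
    subst hQE
    obtain ⟨B₁, hB₁S, hQB₁⟩ := Cfsg.Agent.S5028.exists_partner (hni Q hQ.1.1) hQ.1.1
    have hAΛ : A ∈ Cfsg.linePartners S Q := linePartners_symm hA hQ
    obtain ⟨E₁, hE₁, hE₁Q, hB₁E₁, hQD, hcl₁, hsup₁, hmem₁⟩ :=
      line_structure hS hni hQ.1.1 hAΛ ⟨hB₁S, hQB₁⟩
    have hE₁m : E₁ ∈ Cfsg.membersIn S (A ⊔ Q) := by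
      rw [sup_comm]
      exact hE₁
    rw [hmem] at hE₁m
    rcases hE₁m with ⟨f, hf, hfE₁⟩ | hE₁Q'
    · have hfE₁' : E₁ = Cfsg.conjBy A f := hfE₁.symm
      have hDΛ : ⁅B₁, E₁⁆ ∈ Cfsg.linePartners S E₁ := by
        have hDQ : Cfsg.RootCommutatorCase S ⁅B₁, E₁⁆ Q :=
          commutatorCase_symm hS hQ.1.1 hB₁E₁.1 hQD
        have h1 := (Cfsg.Agent.S5029.result hS (hni _ hB₁E₁.1) hB₁E₁.1 hQ.1.1 hDQ.1).2.2.1
        rw [Subgroup.commutator_comm, hcl₁] at h1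
        exact h1
      have hDR : ⁅B₁, E₁⁆ ≤ lgR S A B := by
        have h1 := linePartners_conjBy hS hDΛ f⁻¹
        have h1' : Cfsg.conjBy E₁ f⁻¹ = A := by rw [hfE₁', conjBy_inv_conjBy]
        rw [h1'] at h1
        have h2 : Cfsg.conjBy ⁅B₁, E₁⁆ f⁻¹ ≤ lgR S A B := lg_le_of_linePartner h1
        intro d hd
        have h3 := h2 (mem_conjBy_of_mem hd f⁻¹)
        have h4 := (lgR S A B).mul_mem ((lgR S A B).mul_mem (hFR hf) h3) ((lgR S A B).inv_mem (hFR hf))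
        have e : f * (f⁻¹ * d * f⁻¹⁻¹) * f⁻¹ = d := by group
        rw [e] at h4
        exact h4
      have hne : Cfsg.conjBy A (f * f₀) ≠ Cfsg.conjBy A f := by
        intro h
        rw [← conjBy_conjBy] at h
        exact cl_conjBy_ne hS hni hA hAF hf₀ hf₀1 (conjBy_injective f h)
      have hPm : Cfsg.conjBy A (f * f₀) ∈ Cfsg.membersIn S (Q ⊔ A) := by
        rw [sup_comm, hmem]
        exact Or.inl ⟨f * f₀, Subgroup.mul_mem _ hf hf₀, rfl⟩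
      rw [hmem₁] at hPm
      rcases hPm with ⟨d, hd, hdP⟩ | hPE₁
      · have hdP' : Cfsg.conjBy Q d = Cfsg.conjBy A (f * f₀) := hdP
        refine ⟨d⁻¹ * (f * f₀), Subgroup.mul_mem _ (Subgroup.inv_mem _ (hDR hd))
          (hFR (Subgroup.mul_mem _ hf hf₀)), ?_⟩
        rw [← conjBy_conjBy, ← hdP', conjBy_inv_conjBy]
      · rw [Set.mem_singleton_iff] at hPE₁
        rw [hfE₁'] at hPE₁
        exact absurd hPE₁ hne
    · rw [Set.mem_singleton_iff] at hE₁Q'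
      exact absurd hE₁Q' hE₁Q

/-- In a non-degenerate class every member is conjugate to `A` under `lgR S A B`. -/
theorem lg_all (hS : Cfsg.IsRootSubgroupClass S) (hnd : Cfsg.IsNondegenerateRootSet S)
    {A B : Subgroup G} (hA : A ∈ S) (hB : B ∈ Cfsg.rankOnePartners S A) :
    ∀ P ∈ S, ∃ r ∈ lgR S A B, P = Cfsg.conjBy A r := by
  have hni : ∀ A ∈ S, ¬ Cfsg.IsIsolatedIn (Cfsg.FAdj S) S A :=
    fun A hA => not_isolated_of_nondegenerate hS hnd hA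
  intro P hP
  have hpath := eConnected hS hnd A hA P hP
  clear hP
  induction hpath with
  | refl => exact ⟨1, Subgroup.one_mem _, (conjBy_one A).symm⟩
  | tail _ hbc ih =>
    obtain ⟨r, hr, rfl⟩ := ih
    have h1 := linePartners_conjBy hS.1 hbc.2.2 r⁻¹
    rw [conjBy_inv_conjBy] at h1
    obtain ⟨-, r', hr', h2⟩ := lg_key hS.1 hni hA hB h1
    refine ⟨r * r', Subgroup.mul_mem _ hr hr', ?_⟩
    rw [← conjBy_conjBy, ← h2, conjBy_conjBy_inv]

/-- In a non-degenerate class the line partners of `A` and a rank one partner generate `G`. -/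
theorem lg_top (hS : Cfsg.IsRootSubgroupClass S) (hnd : Cfsg.IsNondegenerateRootSet S)
    {A B : Subgroup G} (hA : A ∈ S) (hB : B ∈ Cfsg.rankOnePartners S A) :
    lgR S A B = ⊤ := by
  have hni : ∀ A ∈ S, ¬ Cfsg.IsIsolatedIn (Cfsg.FAdj S) S A :=
    fun A hA => not_isolated_of_nondegenerate hS hnd hA
  rw [eq_top_iff, ← hS.1.generates]
  apply iSup₂_le
  intro P hP
  obtain ⟨r, hr, rfl⟩ := lg_all hS hnd hA hB P hP
  obtain ⟨Q, hQ, -⟩ := exists_linePartner_commutatorCase hS hnd hA hB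
  have hAR := (lg_key hS.1 hni hA hB hQ).1
  intro x hx
  rw [mem_conjBy_iff] at hx
  have h1 := (lgR S A B).mul_mem ((lgR S A B).mul_mem hr (hAR hx)) ((lgR S A B).inv_mem hr)
  have e : r * (r⁻¹ * x * r) * r⁻¹ = x := by group
  rw [e] at h1
  exact h1

end Cfsg.Agent.Lib.Helper26
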