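import Cfsg.Agent.Lib.Helper26.ChainAux

set_option autoImplicit false

namespace Cfsg.Agent.Lib.Helper26

open Cfsg Cfsg.Agent.S5013 Cfsg.Agent.S5014 Cfsg.Agent.S5029

variable {G : Type*} [Group G] {S : Set (Subgroup G)}

/-- The points of the "line" `L` together with the `L`-conjugates of `B`. -/
def orbSet (S : Set (Subgroup G)) (L B : Subgroup G) : Set (Subgroup G) :=
  {U | U ∈ Cfsg.membersIn S L ∨ ∃ x ∈ L, U = Cfsg.conjBy B x}

theorem exists_ne_one_of_ne_bot {H : Subgroup G} (h : H ≠ ⊥) : ∃ x ∈ H, x ≠ 1 := by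
  by_contra hcon
  apply h
  rw [eq_bot_iff]
  intro x hx
  rw [Subgroup.mem_bot]
  by_contra hx1
  exact hcon ⟨x, hx, hx1⟩

/-- If `B` is a rank one partner of all points of a line `L`, only `B` is `B`-invariant in
`orbSet S L B`. -/
theorem orbSet_fixed {L B : Subgroup G} (hB : B ≠ ⊥)
    (hpart : ∀ x ∈ L, x ≠ 1 → ∃ C ∈ Cfsg.membersIn S L, x ∈ C)
    (hopp : ∀ P ∈ Cfsg.membersIn S L, Cfsg.IsRankOnePair P B) {U : Subgroup G}
    (hU : U ∈ orbSet S L B) (hfix : ∀ b ∈ B, Cfsg.conjBy U b = U) : U = B := by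
  obtain ⟨b₀, hb₀, hb₀1⟩ := exists_ne_one_of_ne_bot hB
  rcases hU with hU | ⟨x, hx, rfl⟩
  · exfalso
    have h1 : b₀ ∈ B ⊓ Subgroup.normalizer (U : Set G) :=
      ⟨hb₀, mem_normalizer_of_conjBy_eq (hfix b₀ hb₀)⟩
    rw [(Cfsg.Agent.S5013.result (hopp U hU)).2.2.2, Subgroup.mem_bot] at h1
    exact hb₀1 h1
  · by_cases hx1 : x = 1
    · rw [hx1, conjBy_one]
    · exfalso
      obtain ⟨P, hP, hxP⟩ := hpart x hx hx1
      have hPB := hopp P hP
      have hx1' : x⁻¹ ≠ 1 := fun h => hx1 (inv_eq_one.mp h)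
      obtain ⟨β, hβ, -, hβe⟩ := hPB.cond_left x⁻¹ (P.inv_mem hxP) hx1'
      rw [inv_inv] at hβe
      have h2 := hfix (β⁻¹ * b₀ * β) (B.mul_mem (B.mul_mem (B.inv_mem hβ) hb₀) hβ)
      rw [← hβe, conjBy_conjBy] at h2
      have h3 : Cfsg.conjBy P (β * (β⁻¹ * b₀ * β * β⁻¹)) = P := by
        rw [← conjBy_conjBy, h2, conjBy_conjBy, mul_inv_cancel, conjBy_one]
      have e : β * (β⁻¹ * b₀ * β * β⁻¹) = b₀ := by group
      rw [e] at h3
      have h1 : b₀ ∈ B ⊓ Subgroup.normalizer (P : Set G) :=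
        ⟨hb₀, mem_normalizer_of_conjBy_eq h3⟩
      rw [(Cfsg.Agent.S5013.result hPB).2.2.2, Subgroup.mem_bot] at h1
      exact hb₀1 h1

theorem delta_subset_orbSet {L B P : Subgroup G} (hP : P ∈ Cfsg.membersIn S L) :
    delta P B ⊆ orbSet S L B := by
  rintro U (rfl | ⟨p, hp, rfl⟩)
  · exact Or.inl hP
  · exact Or.inr ⟨p, hP.2 hp, rfl⟩

theorem orbSet_conj_line {L B : Subgroup G} (hL : CommOn L) {U : Subgroup G}
    (hU : U ∈ orbSet S L B) {y : G} (hy : y ∈ L) : Cfsg.conjBy U y ∈ orbSet S L B := by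
  rcases hU with hU | ⟨x, hx, rfl⟩
  · left
    have : Cfsg.conjBy U y = U := by
      ext z
      rw [mem_conjBy_iff]
      constructor
      · intro hz
        have e : z = y * (y⁻¹ * z * y) * y⁻¹ := by group
        rw [e, hL y hy _ (hU.2 hz), mul_inv_cancel_right]
        exact hz
      · intro hz
        rw [mul_assoc, hL z (hU.2 hz) y hy, inv_mul_cancel_left]
        exact hz
    rw [this]
    exact hU
  · right
    exact ⟨y * x, L.mul_mem hy hx, conjBy_conjBy B x y⟩

theorem orbSet_conj_B {L B : Subgroup G}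
    (hpart : ∀ x ∈ L, x ≠ 1 → ∃ C ∈ Cfsg.membersIn S L, x ∈ C)
    (hopp : ∀ P ∈ Cfsg.membersIn S L, Cfsg.IsRankOnePair P B) {U : Subgroup G}
    (hU : U ∈ orbSet S L B) {b : G} (hb : b ∈ B) : Cfsg.conjBy U b ∈ orbSet S L B := by
  rcases hU with hU | ⟨x, hx, rfl⟩
  · apply delta_subset_orbSet hU
    apply unipotent_subset_delta (hopp U hU)
    exact conjBy_mem_unipotent (A_mem_unipotent U B) (Subgroup.mem_sup_right hb)
  · by_cases hx1 : x = 1
    · right
      refine ⟨1, L.one_mem, ?_⟩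
      rw [hx1, conjBy_one]
      exact conjBy_eq_of_mem_normalizer (Subgroup.le_normalizer hb)
    · obtain ⟨P, hP, hxP⟩ := hpart x hx hx1
      apply delta_subset_orbSet hP
      apply unipotent_subset_delta (hopp P hP)
      exact conjBy_mem_unipotent (conjBy_mem_unipotent (B_mem_unipotent (hopp P hP))
        (Subgroup.mem_sup_left hxP)) (Subgroup.mem_sup_right hb)

theorem orbSet_conj_sup {L B A : Subgroup G} (hL : CommOn L) (hAL : A ≤ L)
    (hpart : ∀ x ∈ L, x ≠ 1 → ∃ C ∈ Cfsg.membersIn S L, x ∈ C)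
    (hopp : ∀ P ∈ Cfsg.membersIn S L, Cfsg.IsRankOnePair P B) {g : G} (hg : g ∈ A ⊔ B) :
    ∀ U ∈ orbSet S L B, Cfsg.conjBy U g ∈ orbSet S L B := by
  rw [Subgroup.sup_eq_closure] at hg
  induction hg using Subgroup.closure_induction'' with
  | mem x hx =>
    intro U hU
    rcases hx with hx | hx
    · exact orbSet_conj_line hL hU (hAL hx)
    · exact orbSet_conj_B hpart hopp hU hx
  | inv_mem x hx =>
    intro U hU
    rcases hx with hx | hx
    · exact orbSet_conj_line hL hU (L.inv_mem (hAL hx))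
    · exact orbSet_conj_B hpart hopp hU (B.inv_mem hx)
  | one =>
    intro U hU
    rw [conjBy_one]
    exact hU
  | mul x y _ _ hx hy =>
    intro U hU
    rw [← conjBy_conjBy]
    exact hx _ (hy U hU)

/-- **Existence of a special point.** If `E` is a line partner of `A` and `B` a rank one
partner of `A`, then some member of `S` on the line `A E` is in the commutator case with `B`. -/
theorem exists_commutatorCase_on_line (hS : Cfsg.IsRootSubgroupSet S) {A E B : Subgroup G}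
    (hA : A ∈ S) (hE : E ∈ Cfsg.linePartners S A) (hB : B ∈ Cfsg.rankOnePartners S A) :
    ∃ C ∈ Cfsg.membersIn S (A ⊔ E), Cfsg.RootCommutatorCase S B C := by
  obtain ⟨⟨hES, hEA, hAE⟩, -, hpart, -⟩ := hE
  obtain ⟨hBS, hAB⟩ := hB
  by_contra hcon
  push Not at hcon
  have hL : CommOn (A ⊔ E) :=
    commOn_sup (commOn_of_mem hS hA) (commOn_of_mem hS hES) (commWith_of_commutator_eq_bot hAE)
  have hAni : ¬ Cfsg.IsIsolatedIn (Cfsg.FAdj S) S A := not_isolated_of_partner hA hBS hAB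
  obtain ⟨a, ha, ha1⟩ := exists_ne_one_of_ne_bot (hS.ne_bot A hA)
  have hopp : ∀ P ∈ Cfsg.membersIn S (A ⊔ E), Cfsg.IsRankOnePair P B := by
    intro P hP
    by_cases hPA : P = A
    · rw [hPA]
      exact hAB
    rcases hS.pair B hBS P hP.1 with h | h | h
    · exfalso
      obtain ⟨z, hz, hz1⟩ := exists_ne_one_of_ne_bot (hS.ne_bot P hP.1)
      have hPc : CommWith P (A ⊔ B) := by
        apply CommWith.sup_right
        · intro x hx y hy
          exact hL x (hP.2 hx) y (Subgroup.mem_sup_left hy)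
        · exact (commWith_of_commutator_eq_bot h).symm
      have hzc : z ∈ Subgroup.centralizer ((A ⊔ B : Subgroup G) : Set G) :=
        commWith_iff_le_centralizer.mp hPc hz
      apply Cfsg.Agent.S5025.result hS hA ⟨hBS, hAB⟩ hzc hz1 a ha ha1
      have hza1 : z * a ≠ 1 := by
        intro h1
        have hzA : z ∈ A := by
          rw [mul_eq_one_iff_eq_inv.mp h1]
          exact A.inv_mem ha
        exact hPA (eq_of_mem_of_mem hS hAni hA hP.1 hzA hz hz1).symm
      obtain ⟨C, hC, hzaC⟩ := hpart (z * a) ((A ⊔ E).mul_mem (hP.2 hz) (Subgroup.mem_sup_left ha)) hza1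
      exact ⟨hza1, C, hC.1, hzaC⟩
    · exact Cfsg.RankOnePair_symm h
    · exact absurd h (hcon P hP)
  obtain ⟨g, hg, hgB⟩ := B_mem_unipotent hAB
  have hEmem : E ∈ orbSet S (A ⊔ E) B := Or.inl ⟨hES, le_sup_right⟩
  have hU := orbSet_conj_sup hL le_sup_left hpart hopp hg E hEmem
  have hfix : ∀ b ∈ B, Cfsg.conjBy (Cfsg.conjBy E g) b = Cfsg.conjBy E g := by
    intro b hb
    rw [hgB, mem_conjBy_iff] at hb
    have hEa : Cfsg.conjBy E (g⁻¹ * b * g) = E := by
      have := orbSet_conj_line (S := S) (B := B) hL hEmem (Subgroup.mem_sup_left hb)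
      ext z
      rw [mem_conjBy_iff]
      constructor
      · intro hz
        have e : z = (g⁻¹ * b * g) * ((g⁻¹ * b * g)⁻¹ * z * (g⁻¹ * b * g)) * (g⁻¹ * b * g)⁻¹ := by
          group
        rw [e, hL _ (Subgroup.mem_sup_left hb) _ (Subgroup.mem_sup_right hz),
          mul_inv_cancel_right]
        exact hz
      · intro hz
        rw [mul_assoc, hL z (Subgroup.mem_sup_right hz) _ (Subgroup.mem_sup_left hb),
          inv_mul_cancel_left]
        exact hz
    rw [conjBy_conjBy]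
    have e : b * g = g * (g⁻¹ * b * g) := by group
    rw [e, ← conjBy_conjBy, hEa]
  have h1 := orbSet_fixed (hS.ne_bot B hBS) hpart hopp hU hfix
  rw [hgB] at h1
  exact hEA (conjBy_injective g h1)

end Cfsg.Agent.Lib.Helper26
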