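import Cfsg.Agent.Lib.Helper26.LineOpp

set_option autoImplicit false

namespace Cfsg.Agent.Lib.Helper26

open Cfsg Cfsg.Agent.S5013 Cfsg.Agent.S5014 Cfsg.Agent.S5029
open scoped commutatorElement

variable {G : Type*} [Group G] {S : Set (Subgroup G)}

theorem linePartners_symm {A E : Subgroup G} (hA : A ∈ S) (hE : E ∈ Cfsg.linePartners S A) :
    A ∈ Cfsg.linePartners S E := by
  obtain ⟨⟨_, hEA, hAE⟩, hp⟩ := hE
  refine ⟨⟨hA, hEA.symm, ?_⟩, ?_⟩
  · rw [Subgroup.commutator_comm]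
    exact hAE
  · rw [sup_comm]
    exact hp

theorem commutatorCase_conj (hS : Cfsg.IsRootSubgroupSet S) {A D : Subgroup G} (hA : A ∈ S)
    (hD : D ∈ S) (h : Cfsg.RootCommutatorCase S A D) (g : G) :
    Cfsg.RootCommutatorCase S (Cfsg.conjBy A g) (Cfsg.conjBy D g) := by
  apply commutatorCase_of_mem hS (hS.conj_mem A hA g) (hS.conj_mem D hD g)
  rw [← conjBy_commutator]
  exact hS.conj_mem _ h.1 g

theorem commutatorCase_symm (hS : Cfsg.IsRootSubgroupSet S) {A D : Subgroup G} (hA : A ∈ S)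
    (hD : D ∈ S) (h : Cfsg.RootCommutatorCase S A D) : Cfsg.RootCommutatorCase S D A := by
  apply commutatorCase_of_mem hS hD hA
  rw [Subgroup.commutator_comm]
  exact h.1

/-- In a non-degenerate class every member has a commutator partner. -/
theorem exists_commutatorCase_of_class (hS : Cfsg.IsRootSubgroupClass S)
    (hnd : Cfsg.IsNondegenerateRootSet S) {A : Subgroup G} (hA : A ∈ S) :
    ∃ D ∈ S, Cfsg.RootCommutatorCase S A D := by
  obtain ⟨A₀, hA₀, D₀, hD₀, h0⟩ := hnd.2.2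
  obtain ⟨g, hg⟩ := hS.2.2 A₀ hA₀ A hA
  refine ⟨Cfsg.conjBy D₀ g, hS.1.conj_mem D₀ hD₀ g, ?_⟩
  rw [hg]
  exact commutatorCase_conj hS.1 hA₀ hD₀ h0 g

/-- The points different from `A` on a commutator line through `A` are line partners of `A`. -/
theorem linePartner_of_mem_line (hS : Cfsg.IsRootSubgroupSet S) {A D C : Subgroup G}
    (hAni : ¬ Cfsg.IsIsolatedIn (Cfsg.FAdj S) S A) (hA : A ∈ S) (hD : D ∈ S)
    (h : Cfsg.RootCommutatorCase S A D) (hC : C ∈ Cfsg.membersIn S (A ⊔ ⁅A, D⁆)) (hCA : C ≠ A) :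
    C ∈ Cfsg.linePartners S A := by
  obtain ⟨hmem, hpart, hline, -⟩ := Cfsg.Agent.S5029.result hS hAni hA hD h.1
  have hL : CommOn (A ⊔ ⁅A, D⁆) :=
    commOn_sup (commOn_of_mem hS hA) (commOn_of_mem hS h.1)
      (fun x hx y hy => (h.2.1 y hy x (Subgroup.mem_sup_left hx)).symm)
  have hC' := hC
  rw [hmem] at hC'
  rcases hC' with ⟨d, hd, rfl⟩ | hCE
  · have hd1 : d ≠ 1 := by
      intro h1
      apply hCA
      show Cfsg.conjBy A d = A
      rw [h1, conjBy_one]
    have hsup : A ⊔ Cfsg.conjBy A d = A ⊔ ⁅A, D⁆ := by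
      apply le_antisymm (sup_le le_sup_left hC.2)
      apply sup_le le_sup_left
      rw [← h.2.2.2 d hd hd1, Subgroup.closure_le]
      rintro _ ⟨a, ha, rfl⟩
      have e : a * d * a⁻¹ * d⁻¹ = a * (d * a⁻¹ * d⁻¹) := by group
      show a * d * a⁻¹ * d⁻¹ ∈ A ⊔ Cfsg.conjBy A d
      rw [e]
      exact Subgroup.mul_mem_sup ha (mem_conjBy_of_mem (A.inv_mem ha) d)
    refine ⟨⟨hC.1, hCA, ?_⟩, ?_⟩
    · apply commutator_eq_bot_of_commWith
      intro x hx y hy
      exact hL x (Subgroup.mem_sup_left hx) y (hC.2 hy)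
    · rw [hsup]
      exact hpart
  · rw [Set.mem_singleton_iff] at hCE
    rw [hCE]
    exact linePartners_symm h.1 hline

/-- Part one of the special-pair lemma: in a non-degenerate class, a rank one partner `B` of `A`
is in the commutator case with some line partner of `A`. -/
theorem exists_linePartner_commutatorCase (hS : Cfsg.IsRootSubgroupClass S)
    (hnd : Cfsg.IsNondegenerateRootSet S) {A B : Subgroup G} (hA : A ∈ S)
    (hB : B ∈ Cfsg.rankOnePartners S A) :
    ∃ C ∈ Cfsg.linePartners S A, Cfsg.RootCommutatorCase S B C := by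
  obtain ⟨D, hD, hAD⟩ := exists_commutatorCase_of_class hS hnd hA
  have hAni : ¬ Cfsg.IsIsolatedIn (Cfsg.FAdj S) S A := not_isolated_of_partner hA hB.1 hB.2
  have hline := (Cfsg.Agent.S5029.result hS.1 hAni hA hD hAD.1).2.2.1
  obtain ⟨C, hC, hBC⟩ := exists_commutatorCase_on_line hS.1 hA (linePartners_symm hAD.1 hline) hB
  refine ⟨C, linePartner_of_mem_line hS.1 hAni hA hD hAD hC ?_, hBC⟩
  rintro rfl
  exact not_rankOne_of_commutator_mem hS.1 hB.1 hBC.1 (Cfsg.RankOnePair_symm hB.2)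

end Cfsg.Agent.Lib.Helper26
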