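import Cfsg.Agent.Lib.Helper26.LineOpp2

set_option autoImplicit false

namespace Cfsg.Agent.Lib.Helper26

open Cfsg Cfsg.Agent.S5013 Cfsg.Agent.S5014 Cfsg.Agent.S5029
open scoped commutatorElement

variable {G : Type*} [Group G] {S : Set (Subgroup G)}

theorem conjBy_eq_self_of_comm {H : Subgroup G} {g : G} (h : ∀ x ∈ H, g * x = x * g) :
    Cfsg.conjBy H g = H := by
  ext z
  rw [mem_conjBy_iff]
  constructor
  · intro hz
    have e : z = g * (g⁻¹ * z * g) * g⁻¹ := by group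
    rw [e, h _ hz, mul_inv_cancel_right]
    exact hz
  · intro hz
    rw [mul_assoc, ← h z hz, inv_mul_cancel_left]
    exact hz

/-- If `C` is a line partner of `A`, `B` a rank one partner of `A`, and `B, C` are in the
commutator case, then `A` and `⁅B, C⁆` are in the commutator case. -/
theorem commutatorCase_with_commutator (hS : Cfsg.IsRootSubgroupSet S)
    (hni : ∀ A ∈ S, ¬ Cfsg.IsIsolatedIn (Cfsg.FAdj S) S A) {A B C : Subgroup G} (hA : A ∈ S)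
    (hB : B ∈ Cfsg.rankOnePartners S A) (hC : C ∈ Cfsg.linePartners S A)
    (hBC : Cfsg.RootCommutatorCase S B C) : Cfsg.RootCommutatorCase S A ⁅B, C⁆ := by
  have hF := hBC.1
  obtain ⟨hBS, hAB⟩ := hB
  obtain ⟨⟨hCS, hCA, hAC⟩, -, hpart, -⟩ := hC
  rcases hS.pair A hA _ hF with h | h | h
  · exfalso
    obtain ⟨z, hz, hz1⟩ := exists_ne_one_of_ne_bot (hS.ne_bot _ hF)
    obtain ⟨b, hb, hb1⟩ := exists_ne_one_of_ne_bot (hS.ne_bot _ hBS)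
    have hFc : CommWith ⁅B, C⁆ (B ⊔ A) := by
      apply CommWith.sup_right
      · intro x hx y hy
        exact hBC.2.1 x hx y (Subgroup.mem_sup_left hy)
      · exact (commWith_of_commutator_eq_bot h).symm
    have hzc : z ∈ Subgroup.centralizer ((B ⊔ A : Subgroup G) : Set G) :=
      commWith_iff_le_centralizer.mp hFc hz
    apply Cfsg.Agent.S5025.result hS hBS ⟨hA, Cfsg.RankOnePair_symm hAB⟩ hzc hz1 b hb hb1
    have hzb1 : z * b ≠ 1 := by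
      intro h1
      have hzB : z ∈ B := by
        rw [mul_eq_one_iff_eq_inv.mp h1]
        exact B.inv_mem hb
      have h2 : z ∈ B ⊓ ⁅B, C⁆ := ⟨hzB, hz⟩
      rw [inf_commutator_eq_bot hS (hni B hBS) hBS hBC, Subgroup.mem_bot] at h2
      exact hz1 h2
    have hline := (Cfsg.Agent.S5029.result hS (hni B hBS) hBS hCS hF).2.2.1
    obtain ⟨P, hP, hzbP⟩ := hline.2.2.1 (z * b) (Subgroup.mul_mem_sup hz hb) hzb1
    exact ⟨hzb1, P, hP.1, hzbP⟩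
  · exfalso
    obtain ⟨z, hz, hz1⟩ := exists_ne_one_of_ne_bot (hS.ne_bot _ hCS)
    obtain ⟨a, ha, ha1⟩ := exists_ne_one_of_ne_bot (hS.ne_bot _ hA)
    have hCc : CommWith C (A ⊔ ⁅B, C⁆) := by
      apply CommWith.sup_right
      · exact (commWith_of_commutator_eq_bot hAC).symm
      · intro x hx y hy
        exact (hBC.2.1 y hy x (Subgroup.mem_sup_right hx)).symm
    have hzc : z ∈ Subgroup.centralizer ((A ⊔ ⁅B, C⁆ : Subgroup G) : Set G) :=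
      commWith_iff_le_centralizer.mp hCc hz
    apply Cfsg.Agent.S5025.result hS hA ⟨hF, h⟩ hzc hz1 a ha ha1
    have hza1 : z * a ≠ 1 := by
      intro h1
      have hzA : z ∈ A := by
        rw [mul_eq_one_iff_eq_inv.mp h1]
        exact A.inv_mem ha
      exact hCA (eq_of_mem_of_mem hS (hni A hA) hA hCS hzA hz hz1).symm
    obtain ⟨P, hP, hzaP⟩ := hpart (z * a)
      ((A ⊔ C).mul_mem (Subgroup.mem_sup_right hz) (Subgroup.mem_sup_left ha)) hza1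
    exact ⟨hza1, P, hP.1, hzaP⟩
  · exact h

/-- `C` commutes with `⁅A, ⁅B, C⁆⁆` when it commutes with `A` and `⁅B, C⁆`. -/
theorem commWith_commutator {C A F : Subgroup G} (hCA : CommWith C A) (hCF : CommWith C F) :
    CommWith C ⁅A, F⁆ := by
  apply CommWith.symm
  rw [commWith_iff_le_centralizer, Subgroup.commutator_le]
  intro a ha f hf
  have h1 : a ∈ Subgroup.centralizer (C : Set G) := commWith_iff_le_centralizer.mp hCA.symm ha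
  have h2 : f ∈ Subgroup.centralizer (C : Set G) := commWith_iff_le_centralizer.mp hCF.symm hf
  rw [commutatorElement_def]
  exact Subgroup.mul_mem _ (Subgroup.mul_mem _ (Subgroup.mul_mem _ h1 h2) (Subgroup.inv_mem _ h1))
    (Subgroup.inv_mem _ h2)

/-- The key conjugation relation `a F a⁻¹ = β ⁅A, F⁆ β⁻¹`-type for partners. -/
theorem conjBy_commutator_partner (hS : Cfsg.IsRootSubgroupSet S)
    (hni : ∀ A ∈ S, ¬ Cfsg.IsIsolatedIn (Cfsg.FAdj S) S A) {A B C : Subgroup G}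
    (hAC : CommWith A C)
    (hBC : Cfsg.RootCommutatorCase S B C) (hAF : Cfsg.RootCommutatorCase S A ⁅B, C⁆)
    {a β : G} (ha : a ∈ A) (hβ : β ∈ B)
    (hrel : Cfsg.conjBy A β⁻¹ = Cfsg.conjBy B a⁻¹) :
    Cfsg.conjBy ⁅B, C⁆ a⁻¹ = Cfsg.conjBy ⁅A, ⁅B, C⁆⁆ β⁻¹ := by
  have hF := hBC.1
  have hCF : CommWith C ⁅B, C⁆ := fun x hx y hy => (hBC.2.1 y hy x (Subgroup.mem_sup_right hx)).symm
  have hCB' : CommWith C ⁅A, ⁅B, C⁆⁆ := commWith_commutator hAC.symm hCF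
  have h1 : Cfsg.conjBy ⁅B, C⁆ a⁻¹ = ⁅Cfsg.conjBy A β⁻¹, C⁆ := by
    rw [conjBy_commutator, ← hrel,
      conjBy_eq_self_of_comm (H := C) (g := a⁻¹) (fun x hx => hAC a⁻¹ (A.inv_mem ha) x hx)]
  have h2 : ⁅Cfsg.conjBy A β⁻¹, C⁆ = Cfsg.conjBy ⁅A, Cfsg.conjBy C β⁆ β⁻¹ := by
    rw [conjBy_commutator, conjBy_inv_conjBy]
  have h3 : ⁅A, Cfsg.conjBy C β⁆ ≤ ⁅A, ⁅B, C⁆⁆ := by
    rw [Subgroup.commutator_le]
    intro a' ha' y hy
    rw [mem_conjBy_iff] at hy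
    have hf : (β⁻¹ * y * β)⁻¹ * y ∈ ⁅B, C⁆ := by
      have := Subgroup.commutator_mem_commutator (H₁ := B) (H₂ := C) hβ (C.inv_mem hy)
      rw [commutatorElement_def] at this
      have e : (β⁻¹ * y * β)⁻¹ * y = (β * (β⁻¹ * y * β)⁻¹ * β⁻¹ * (β⁻¹ * y * β)⁻¹⁻¹)⁻¹ := by group
      rw [e]
      exact Subgroup.inv_mem _ this
    have hw := Subgroup.commutator_mem_commutator (H₁ := A) (H₂ := ⁅B, C⁆) ha' hf
    have e : ⁅a', y⁆ = (β⁻¹ * y * β) * ⁅a', (β⁻¹ * y * β)⁻¹ * y⁆ * (β⁻¹ * y * β)⁻¹ := by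
      rw [commutatorElement_def, commutatorElement_def]
      have hc := hAC a' ha' _ hy
      calc a' * y * a'⁻¹ * y⁻¹
          = (a' * (β⁻¹ * y * β)) * ((β⁻¹ * y * β)⁻¹ * y) * a'⁻¹ * y⁻¹ := by group
        _ = ((β⁻¹ * y * β) * a') * ((β⁻¹ * y * β)⁻¹ * y) * a'⁻¹ * y⁻¹ := by rw [hc]
        _ = (β⁻¹ * y * β) * (a' * ((β⁻¹ * y * β)⁻¹ * y) * a'⁻¹ * ((β⁻¹ * y * β)⁻¹ * y)⁻¹) *
            (β⁻¹ * y * β)⁻¹ := by group
    rw [e, hCB' _ hy _ hw, mul_inv_cancel_right]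
    exact hw
  have hle : Cfsg.conjBy ⁅B, C⁆ a⁻¹ ≤ Cfsg.conjBy ⁅A, ⁅B, C⁆⁆ β⁻¹ := by
    rw [h1, h2]
    exact Subgroup.map_mono h3
  have hFS : Cfsg.conjBy ⁅B, C⁆ a⁻¹ ∈ S := hS.conj_mem _ hF _
  have hB'S : Cfsg.conjBy ⁅A, ⁅B, C⁆⁆ β⁻¹ ∈ S := hS.conj_mem _ hAF.1 _
  obtain ⟨x, hx, hx1⟩ := exists_ne_one_of_ne_bot (hS.ne_bot _ hFS)
  exact eq_of_mem_of_mem hS (hni _ hFS) hFS hB'S hx (hle hx) hx1

theorem le_normalizer_of_conj_le {H N : Subgroup G} (h : ∀ x ∈ H, Cfsg.conjBy N x ≤ N) :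
    H ≤ Subgroup.normalizer (N : Set G) := by
  intro x hx
  apply mem_normalizer_of_conjBy_eq
  apply le_antisymm (h x hx)
  have h1 := h x⁻¹ (H.inv_mem hx)
  have h2 : Cfsg.conjBy (Cfsg.conjBy N x⁻¹) x ≤ Cfsg.conjBy N x := Subgroup.map_mono h1
  rw [conjBy_conjBy, mul_inv_cancel, conjBy_one] at h2
  exact h2

/-- `A ⊔ B` normalizes `N₁ = F ⊔ ⁅F, A⁆`, `F = ⁅B, C⁆`. -/
theorem sup_le_normalizer_module (hS : Cfsg.IsRootSubgroupSet S)
    (hni : ∀ A ∈ S, ¬ Cfsg.IsIsolatedIn (Cfsg.FAdj S) S A) {A B C : Subgroup G}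
    (hAB : Cfsg.IsRankOnePair A B) (hAC : CommWith A C)
    (hBC : Cfsg.RootCommutatorCase S B C) (hAF : Cfsg.RootCommutatorCase S A ⁅B, C⁆) :
    A ⊔ B ≤ Subgroup.normalizer ((⁅B, C⁆ ⊔ ⁅⁅B, C⁆, A⁆ : Subgroup G) : Set G) := by
  have hAB' : CommWith A ⁅⁅B, C⁆, A⁆ := by
    intro x hx y hy
    rw [Subgroup.commutator_comm] at hy
    exact (hAF.2.1 y hy x (Subgroup.mem_sup_left hx)).symm
  have hBF : CommWith B ⁅B, C⁆ := fun x hx y hy => (hBC.2.1 y hy x (Subgroup.mem_sup_left hx)).symm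
  apply sup_le
  · apply le_normalizer_of_conj_le
    intro a ha
    rw [conjBy_sup]
    apply sup_le (conjBy_le_sup ha)
    rw [conjBy_eq_self_of_comm (fun x hx => hAB' a ha x hx)]
    exact le_sup_right
  · apply le_normalizer_of_conj_le
    intro β hβ
    rw [conjBy_sup]
    apply sup_le
    · rw [conjBy_eq_self_of_comm (fun x hx => hBF β hβ x hx)]
      exact le_sup_left
    · by_cases hβ1 : β = 1
      · rw [hβ1, conjBy_one]
        exact le_sup_right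
      · have hβ1' : β⁻¹ ≠ 1 := fun h => hβ1 (inv_eq_one.mp h)
        obtain ⟨a, ha, -, hrel⟩ := hAB.cond_right β⁻¹ (B.inv_mem hβ) hβ1'
        have h1 := conjBy_commutator_partner hS hni hAC hBC hAF ha (B.inv_mem hβ) hrel.symm
        rw [inv_inv] at h1
        rw [Subgroup.commutator_comm ⁅B, C⁆ A, ← h1, ← Subgroup.commutator_comm ⁅B, C⁆ A]
        exact conjBy_le_sup (A.inv_mem ha)

/-- `A` acts "quadratically" on `N₁`. -/
theorem quad_on_module {A F : Subgroup G}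
    (hcent : ∀ c ∈ ⁅F, A⁆, ∀ x ∈ F ⊔ A, c * x = x * c) {a m : G} (ha : a ∈ A)
    (hm : m ∈ F ⊔ ⁅F, A⁆) :
    a * m * a⁻¹ * m⁻¹ ∈ ⁅F, A⁆ := by
  obtain ⟨f, hf, w, hw, rfl⟩ := exists_mul_of_mem_sup hm
  have h1 := hcent w hw a (Subgroup.mem_sup_right ha)
  have hwa : w * a⁻¹ = a⁻¹ * w := (show Commute w a from h1).inv_right.eq
  have e : a * (f * w) * a⁻¹ * (f * w)⁻¹ = (f * a * f⁻¹ * a⁻¹)⁻¹ := by
    calc a * (f * w) * a⁻¹ * (f * w)⁻¹ = a * f * (w * a⁻¹) * w⁻¹ * f⁻¹ := by group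
      _ = a * f * (a⁻¹ * w) * w⁻¹ * f⁻¹ := by rw [hwa]
      _ = (f * a * f⁻¹ * a⁻¹)⁻¹ := by group
  rw [e]
  apply Subgroup.inv_mem
  have := Subgroup.commutator_mem_commutator (H₁ := F) (H₂ := A) hf ha
  rw [commutatorElement_def] at this
  exact this

/-- The partner of `a` does not centralize a non-trivial commutator `a f a⁻¹ f⁻¹`. -/
theorem partner_not_centralize (hS : Cfsg.IsRootSubgroupSet S)
    (hni : ∀ A ∈ S, ¬ Cfsg.IsIsolatedIn (Cfsg.FAdj S) S A) {A B C : Subgroup G}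
    (hA : A ∈ S) (hAC : CommWith A C)
    (hBC : Cfsg.RootCommutatorCase S B C) (hAF : Cfsg.RootCommutatorCase S A ⁅B, C⁆)
    {a β f : G} (ha : a ∈ A) (hβ : β ∈ B) (hf : f ∈ ⁅B, C⁆)
    (hrel : Cfsg.conjBy A β⁻¹ = Cfsg.conjBy B a⁻¹) (hw : a * f * a⁻¹ * f⁻¹ ≠ 1) :
    β⁻¹ * (a * f * a⁻¹ * f⁻¹) * β⁻¹⁻¹ ≠ a * f * a⁻¹ * f⁻¹ := by
  intro hfix
  have hwm : a * f * a⁻¹ * f⁻¹ ∈ ⁅A, ⁅B, C⁆⁆ := by
    have := Subgroup.commutator_mem_commutator (H₁ := A) (H₂ := ⁅B, C⁆) ha hf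
    rw [commutatorElement_def] at this
    exact this
  have h1 := conjBy_commutator_partner hS hni hAC hBC hAF ha hβ hrel
  have h2 : β⁻¹ * (a * f * a⁻¹ * f⁻¹) * β⁻¹⁻¹ ∈ Cfsg.conjBy ⁅A, ⁅B, C⁆⁆ β⁻¹ :=
    mem_conjBy_of_mem hwm β⁻¹
  rw [hfix, ← h1, mem_conjBy_iff, inv_inv] at h2
  have h3 := hAF.2.1 _ hwm a (Subgroup.mem_sup_left ha)
  rw [← h3, mul_inv_cancel_right] at h2
  have hFA := commutatorCase_symm hS hA hBC.1 hAF
  have h4 := inf_commutator_eq_bot hS (hni _ hBC.1) hBC.1 hFA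
  have h5 : a * f * a⁻¹ * f⁻¹ ∈ ⁅B, C⁆ ⊓ ⁅⁅B, C⁆, A⁆ := by
    refine ⟨h2, ?_⟩
    rw [Subgroup.commutator_comm]
    exact hwm
  rw [h4, Subgroup.mem_bot] at h5
  exact hw h5

end Cfsg.Agent.Lib.Helper26
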