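import Cfsg.Agent.Lib.Helper26.LineOpp3
import Cfsg.Agent.Lib.Helper26.ConjAct

set_option autoImplicit false

namespace Cfsg.Agent.Lib.Helper26

open Cfsg Cfsg.Agent.S5013 Cfsg.Agent.S5014 Cfsg.Agent.S5029
open scoped commutatorElement

variable {G : Type*} [Group G] {S : Set (Subgroup G)}

/-- A rank one pair `A, B` such that `B` is in the commutator case with a line partner of `A`
is special. -/
theorem special_of_commutatorCase (hS : Cfsg.IsRootSubgroupSet S)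
    (hni : ∀ A ∈ S, ¬ Cfsg.IsIsolatedIn (Cfsg.FAdj S) S A) {A B C : Subgroup G} (hA : A ∈ S)
    (hB : B ∈ Cfsg.rankOnePartners S A) (hC : C ∈ Cfsg.linePartners S A)
    (hBC : Cfsg.RootCommutatorCase S B C) : Cfsg.IsSpecialRankOnePair A B := by
  have hAF := commutatorCase_with_commutator hS hni hA hB hC hBC
  have hAC : CommWith A C := commWith_of_commutator_eq_bot hC.1.2.2
  have hFA := commutatorCase_symm hS hA hBC.1 hAF
  have hN : CommOn (⁅B, C⁆ ⊔ ⁅⁅B, C⁆, A⁆) :=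
    commOn_sup (commOn_of_mem hS hBC.1) (commOn_of_mem hS hFA.1)
      (fun x hx y hy => (hFA.2.1 y hy x (Subgroup.mem_sup_left hx)).symm)
  have hX := sup_le_normalizer_module hS hni hB.2 hAC hBC hAF
  have hq : ∀ a ∈ A, ∀ a' ∈ A, ∀ m ∈ ⁅B, C⁆ ⊔ ⁅⁅B, C⁆, A⁆,
      a' * (a * m * a⁻¹ * m⁻¹) * a'⁻¹ = a * m * a⁻¹ * m⁻¹ := by
    intro a ha a' ha' m hm
    have hw := quad_on_module hFA.2.1 ha hm
    have h1 := hFA.2.1 _ hw a' (Subgroup.mem_sup_right ha')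
    rw [← h1, mul_inv_cancel_right]
  have hnq : ∃ x ∈ A ⊔ B, ∃ y ∈ A ⊔ B, ∃ m ∈ ⁅B, C⁆ ⊔ ⁅⁅B, C⁆, A⁆,
      y * (x * m * x⁻¹ * m⁻¹) * y⁻¹ ≠ x * m * x⁻¹ * m⁻¹ := by
    obtain ⟨a, ha, ha1⟩ := exists_ne_one_of_ne_bot (hS.ne_bot A hA)
    obtain ⟨β, hβ, -, hrel⟩ := hB.2.cond_left a ha ha1
    have hex : ∃ f ∈ ⁅B, C⁆, a * f * a⁻¹ * f⁻¹ ≠ 1 := by
      by_contra hcon
      push Not at hcon
      apply hS.ne_bot _ hAF.1
      rw [← hAF.2.2.1 a ha ha1, Subgroup.closure_eq_bot_iff]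
      rintro _ ⟨f, hf, rfl⟩
      exact hcon f hf
    obtain ⟨f, hf, hw⟩ := hex
    exact ⟨a, Subgroup.mem_sup_left ha, β⁻¹, Subgroup.mem_sup_right (B.inv_mem hβ), f,
      Subgroup.mem_sup_left hf, partner_not_centralize hS hni hA hAC hBC hAF ha hβ hf hrel hw⟩
  exact special_of_module hB.2 (commOn_of_mem hS hA) (commOn_of_mem hS hB.1) hN hX hq hnq

end Cfsg.Agent.Lib.Helper26
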