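import Cfsg.Agent.Lib.Helper26.LineCL

set_option autoImplicit false

namespace Cfsg.Agent.Lib.Helper26

open Cfsg Cfsg.Agent.S5013 Cfsg.Agent.S5014 Cfsg.Agent.S5029
open scoped commutatorElement

variable {G : Type*} [Group G] {S : Set (Subgroup G)}

/-- Every point `P` of a line `A ⊔ B₀` has a line partner `P'` with `P ⊔ P'` the same line. -/
theorem line_partner_of_point (hS : Cfsg.IsRootSubgroupSet S)
    (hni : ∀ A ∈ S, ¬ Cfsg.IsIsolatedIn (Cfsg.FAdj S) S A) {A B₀ P : Subgroup G} (hA : A ∈ S)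
    (hB₀ : B₀ ∈ Cfsg.linePartners S A) (hP : P ∈ Cfsg.membersIn S (A ⊔ B₀)) :
    ∃ P' ∈ Cfsg.linePartners S P, P ⊔ P' = A ⊔ B₀ := by
  obtain ⟨C', hC'S, hAC'⟩ := Cfsg.Agent.S5028.exists_partner (hni A hA) hA
  obtain ⟨E, hE, hEA, hCE, hAF, hcl, hsup, hmem⟩ := line_structure hS hni hA hB₀ ⟨hC'S, hAC'⟩
  have hpart := hB₀.2
  obtain ⟨hB₀S, hB₀A, hAB₀⟩ := hB₀.1
  have hL : CommOn (A ⊔ B₀) :=
    commOn_sup (commOn_of_mem hS hA) (commOn_of_mem hS hB₀S) (commWith_of_commutator_eq_bot hAB₀)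
  by_cases hPE : P = E
  · subst hPE
    have hs : P ⊔ A = A ⊔ B₀ := by rw [sup_comm, hsup]
    refine ⟨A, ⟨⟨hA, hEA.symm, ?_⟩, ?_⟩, hs⟩
    · apply commutator_eq_bot_of_commWith
      intro x hx y hy
      exact hL x (hE.2 hx) y (Subgroup.mem_sup_left hy)
    · rw [hs]
      exact hpart
  · have hP' := hP
    rw [hmem] at hP'
    rcases hP' with ⟨f, hf, rfl⟩ | hPE'
    · have hs : Cfsg.conjBy A f ⊔ E = A ⊔ B₀ := by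
        have h1 : Cfsg.conjBy E f = E :=
          conjBy_eq_self_of_comm (fun x hx => by
            have := hCE.2.1 f hf x (Subgroup.mem_sup_right hx)
            exact this)
        have h2 : Cfsg.conjBy (A ⊔ ⁅A, ⁅C', E⁆⁆) f = A ⊔ ⁅A, ⁅C', E⁆⁆ :=
          conjBy_eq_of_mem_normalizer (cl_le_normalizer hAF hf)
        rw [hcl, conjBy_sup, h1] at h2
        rw [h2, hsup]
      refine ⟨E, ⟨⟨hE.1, fun h => hPE h.symm, ?_⟩, ?_⟩, hs⟩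
      · apply commutator_eq_bot_of_commWith
        intro x hx y hy
        exact hL x (hP.2 hx) y (hE.2 hy)
      · rw [hs]
        exact hpart
    · exact absurd hPE' hPE

/-- The data attached to a point `P` of a line `L`: a point `E ≠ P` and a member `F` of `S`
normalizing `L`, fixing `E` and carrying `P` to every point other than `E`. -/
theorem line_point_data (hS : Cfsg.IsRootSubgroupSet S)
    (hni : ∀ A ∈ S, ¬ Cfsg.IsIsolatedIn (Cfsg.FAdj S) S A) {A B₀ P : Subgroup G} (hA : A ∈ S)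
    (hB₀ : B₀ ∈ Cfsg.linePartners S A) (hP : P ∈ Cfsg.membersIn S (A ⊔ B₀)) :
    ∃ E F : Subgroup G, E ∈ Cfsg.membersIn S (A ⊔ B₀) ∧ E ≠ P ∧ F ∈ S ∧
      F ≤ Subgroup.normalizer ((A ⊔ B₀ : Subgroup G) : Set G) ∧
      (∀ f ∈ F, Cfsg.conjBy E f = E) ∧
      (∀ Q ∈ Cfsg.membersIn S (A ⊔ B₀), Q ≠ E → ∃ f ∈ F, Q = Cfsg.conjBy P f) ∧
      (∀ f ∈ F, f ≠ 1 → Cfsg.conjBy P f ≠ P) := by
  obtain ⟨P', hP', hs⟩ := line_partner_of_point hS hni hA hB₀ hP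
  obtain ⟨C', hC'S, hPC'⟩ := Cfsg.Agent.S5028.exists_partner (hni P hP.1) hP.1
  obtain ⟨E, hE, hEP, hCE, hPF, hcl, hsup, hmem⟩ :=
    line_structure hS hni hP.1 hP' ⟨hC'S, hPC'⟩
  rw [hs] at hE hsup hmem
  refine ⟨E, ⁅C', E⁆, hE, hEP, hCE.1, ?_, ?_, ?_, ?_⟩
  · have := cl_le_normalizer hPF
    rw [hcl, hsup] at this
    exact this
  · intro f hf
    exact conjBy_eq_self_of_comm (fun x hx => hCE.2.1 f hf x (Subgroup.mem_sup_right hx))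
  · intro Q hQ hQE
    rw [hmem] at hQ
    rcases hQ with ⟨f, hf, rfl⟩ | hQ
    · exact ⟨f, hf, rfl⟩
    · exact absurd hQ hQE
  · intro f hf hf1
    exact cl_conjBy_ne hS hni hP.1 hPF hf hf1

/-- The subgroup generated by the members of `S` normalizing a line `A ⊔ B` is doubly
transitive on the points of the line. -/
theorem line_two_transitive (hS : Cfsg.IsRootSubgroupSet S)
    (hni : ∀ A ∈ S, ¬ Cfsg.IsIsolatedIn (Cfsg.FAdj S) S A) {A B : Subgroup G} (hA : A ∈ S)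
    (hB : B ∈ Cfsg.linePartners S A) :
    ∀ C₁ ∈ Cfsg.membersIn S (A ⊔ B), ∀ C₂ ∈ Cfsg.membersIn S (A ⊔ B),
      ∀ D₁ ∈ Cfsg.membersIn S (A ⊔ B), ∀ D₂ ∈ Cfsg.membersIn S (A ⊔ B), C₁ ≠ C₂ → D₁ ≠ D₂ →
        ∃ x ∈ ⨆ E ∈ Cfsg.normalizingMembers S (A ⊔ B), E,
          Cfsg.conjBy C₁ x = D₁ ∧ Cfsg.conjBy C₂ x = D₂ := by
  have hK : (⨆ E ∈ Cfsg.normalizingMembers S (A ⊔ B), E) ≤
      Subgroup.normalizer ((A ⊔ B : Subgroup G) : Set G) := iSup₂_le (fun E hE => hE.2)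
  have hFK : ∀ F ∈ S, F ≤ Subgroup.normalizer ((A ⊔ B : Subgroup G) : Set G) →
      F ≤ ⨆ E ∈ Cfsg.normalizingMembers S (A ⊔ B), E :=
    fun F hF hFn => le_iSup₂_of_le F ⟨hF, hFn⟩ le_rfl
  have hmemK : ∀ k ∈ ⨆ E ∈ Cfsg.normalizingMembers S (A ⊔ B), E,
      ∀ P ∈ Cfsg.membersIn S (A ⊔ B), Cfsg.conjBy P k ∈ Cfsg.membersIn S (A ⊔ B) := by
    intro k hk P hP
    refine ⟨hS.conj_mem P hP.1 k, ?_⟩
    have h1 : Cfsg.conjBy P k ≤ Cfsg.conjBy (A ⊔ B) k := Subgroup.map_mono hP.2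
    rw [conjBy_eq_of_mem_normalizer (hK hk)] at h1
    exact h1
  have hAm : A ∈ Cfsg.membersIn S (A ⊔ B) := ⟨hA, le_sup_left⟩
  obtain ⟨E₀, F₀, hE₀, hE₀A, hF₀S, hF₀n, hfix₀, htr₀, hmv₀⟩ := line_point_data hS hni hA hB hAm
  have hF₀K := hFK F₀ hF₀S hF₀n
  have step1 : ∀ Q₁ ∈ Cfsg.membersIn S (A ⊔ B), ∀ Q₂ ∈ Cfsg.membersIn S (A ⊔ B),
      Q₁ ≠ E₀ → Q₂ ≠ E₀ → ∃ f ∈ F₀, Cfsg.conjBy Q₁ f = Q₂ := by
    intro Q₁ hQ₁ Q₂ hQ₂ h1 h2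
    obtain ⟨f₁, hf₁, rfl⟩ := htr₀ Q₁ hQ₁ h1
    obtain ⟨f₂, hf₂, rfl⟩ := htr₀ Q₂ hQ₂ h2
    refine ⟨f₂ * f₁⁻¹, F₀.mul_mem hf₂ (F₀.inv_mem hf₁), ?_⟩
    rw [conjBy_conjBy, inv_mul_cancel_right]
  obtain ⟨E₁, F₁, hE₁, hE₁E₀, hF₁S, hF₁n, hfix₁, htr₁, hmv₁⟩ := line_point_data hS hni hA hB hE₀
  have hF₁K := hFK F₁ hF₁S hF₁n
  obtain ⟨f₀, hf₀, hf₀1⟩ := exists_ne_one_of_ne_bot (hS.ne_bot F₀ hF₀S)
  have hA'm : Cfsg.conjBy A f₀ ∈ Cfsg.membersIn S (A ⊔ B) := hmemK f₀ (hF₀K hf₀) A hAm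
  have hA'A : Cfsg.conjBy A f₀ ≠ A := hmv₀ f₀ hf₀ hf₀1
  have hA'E₀ : Cfsg.conjBy A f₀ ≠ E₀ := by
    intro h
    rw [← hfix₀ f₀ hf₀] at h
    exact hE₀A (conjBy_injective f₀ h).symm
  have step2 : ∃ R ∈ Cfsg.membersIn S (A ⊔ B), R ≠ E₀ ∧ R ≠ E₁ := by
    by_cases h : A = E₁
    · refine ⟨Cfsg.conjBy A f₀, hA'm, hA'E₀, ?_⟩
      rw [← h]
      exact hA'A
    · exact ⟨A, hAm, fun h' => hE₀A h'.symm, h⟩
  obtain ⟨R, hR, hRE₀, hRE₁⟩ := step2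
  obtain ⟨f₁, hf₁, hRf₁⟩ := htr₁ R hR hRE₁
  have step3 : ∀ P ∈ Cfsg.membersIn S (A ⊔ B),
      ∃ k ∈ ⨆ E ∈ Cfsg.normalizingMembers S (A ⊔ B), E, Cfsg.conjBy P k = E₀ := by
    intro P hP
    by_cases hPE : P = E₀
    · exact ⟨1, Subgroup.one_mem _, by rw [conjBy_one, hPE]⟩
    · obtain ⟨f, hf, hfR⟩ := step1 P hP R hR hPE hRE₀
      refine ⟨f₁⁻¹ * f, Subgroup.mul_mem _ (Subgroup.inv_mem _ (hF₁K hf₁)) (hF₀K hf), ?_⟩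
      rw [← conjBy_conjBy, hfR, hRf₁, conjBy_inv_conjBy]
  intro C₁ hC₁ C₂ hC₂ D₁ hD₁ D₂ hD₂ hC hD
  obtain ⟨k₁, hk₁, hk₁E⟩ := step3 C₁ hC₁
  obtain ⟨k₂, hk₂, hk₂E⟩ := step3 D₁ hD₁
  have hC₂' : Cfsg.conjBy C₂ k₁ ≠ E₀ := by
    intro h
    rw [← hk₁E] at h
    exact hC (conjBy_injective k₁ h).symm
  have hD₂' : Cfsg.conjBy D₂ k₂ ≠ E₀ := by
    intro h
    rw [← hk₂E] at h
    exact hD (conjBy_injective k₂ h).symm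
  obtain ⟨f, hf, hfe⟩ := step1 _ (hmemK k₁ hk₁ C₂ hC₂) _ (hmemK k₂ hk₂ D₂ hD₂) hC₂' hD₂'
  refine ⟨k₂⁻¹ * (f * k₁), Subgroup.mul_mem _ (Subgroup.inv_mem _ hk₂)
    (Subgroup.mul_mem _ (hF₀K hf) hk₁), ?_, ?_⟩
  · rw [← conjBy_conjBy, ← conjBy_conjBy, hk₁E, hfix₀ f hf, ← hk₂E, conjBy_inv_conjBy]
  · rw [← conjBy_conjBy, ← conjBy_conjBy, hfe, conjBy_inv_conjBy]

end Cfsg.Agent.Lib.Helper26
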