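import Mathlib
import Cfsg.Agent.Lib.helper2.MI2.Defs

/-!
# Project MI2 (S2142; designer helper2), row P3 (`plane_false`, the plane lemma) (helper26), VERBATIM.
-/

set_option autoImplicit false
set_option linter.unusedVariables false
set_option linter.unusedSectionVars false

namespace Cfsg.Agent.Lib.helper2.MI2

open Matrix

variable {m : ℕ}

/-- additivity of `eps H a ·` on mutually perpendicular vectors (also for `a = 0`) -/
theorem mi2p3_eps_add_perp {H : Subgroup (G m)} (hF : Full H) (hN : NoTv H) {a b c : V m}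
    (hab : ff a b = 0) (hac : ff a c = 0) (hbc : ff b c = 0) :
    eps H a (b + c) = eps H a b + eps H a c := by
  by_cases ha : a = 0
  · subst ha
    simp
  · rw [eps_add hF hN ha hab hac, hbc, add_zero]

/-- `eps H a ·` and scalars -/
theorem mi2p3_eps_smul (H : Subgroup (G m)) (a b : V m) (c : ZMod 2) :
    eps H a (c • b) = c * eps H a b := by
  rcases z2_cases c with rfl | rfl
  · simp
  · simp

/-- the product of the three pairs is the transvection of `c` -/
theorem mi2p3_prod {a b c : V m} (hab : ff a b = 0) (hac : ff a c = 0) (hbc : ff b c = 0) :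
    (tv a * tv b) * (tv (a + c) * tv (a + b)) * (tv (b + c) * tv (a + b + c)) = tv c := by
  have hba : ff b a = 0 := by rw [ff_comm]; exact hab
  have hca : ff c a = 0 := by rw [ff_comm]; exact hac
  have hcb : ff c b = 0 := by rw [ff_comm]; exact hbc
  apply ext_act
  intro x
  simp only [act_mul, act_tv, ff_add_left, ff_add_right, ff_smul_left, ff_self, hab, hac,
    hbc, hba, hca, hcb, mul_zero, add_zero]
  funext i
  simp only [Pi.add_apply, Pi.smul_apply, smul_eq_mul]
  generalize ff x a = p; generalize ff x b = q; generalize ff x c = r; generalize x i = s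
  generalize a i = t; generalize b i = u; generalize c i = w
  revert p q r s t u w; decide

/-- **P3** [M] The plane lemma proper: `Full H` and `NoTv H` are incompatible (`hthird` = P1, `hhyp` = P2). -/
theorem plane_false (hm : 3 ≤ m)
    (hthird : ∀ v w : V m, ∃ u : V m, ff u v = 0 ∧ ff u w = 0 ∧ u ≠ 0 ∧ u ≠ v ∧ u ≠ w ∧ u ≠ v + w)
    (hhyp : ∀ v : V m, v ≠ 0 → ∃ w w' : V m, ff v w = 0 ∧ ff v w' = 0 ∧ ff w w' = 1)
    (H : Subgroup (G m)) (hF : Full H) (hN : NoTv H) : False := by
  -- Step A
  have hA : ∃ v w : V m, ff v w = 0 ∧ eps H v w = 1 := by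
    by_contra hcon
    push Not at hcon
    have h0 : ∀ v w : V m, ff v w = 0 → eps H v w = 0 := fun v w h => (z2_ne_one _).1 (hcon v w h)
    have hv : (Pi.single (Sum.inl ⟨0, by omega⟩) 1 : V m) ≠ 0 := by
      intro h
      have := congrFun h (Sum.inl ⟨0, by omega⟩)
      simp at this
    obtain ⟨w, w', h1, h2, h3⟩ := hhyp _ hv
    have := eps_add hF hN hv h1 h2
    rw [h0 _ w h1, h0 _ w' h2, h0 _ (w + w') (by rw [ff_add_right, h1, h2, add_zero]), h3] at this
    revert this; decide
  obtain ⟨v, w, hvw, he⟩ := hA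
  have hwv : ff w v = 0 := by rw [ff_comm]; exact hvw
  obtain ⟨u, huv, huw, hu0, huv', huw', huvw⟩ := hthird v w
  have hvu : ff v u = 0 := by rw [ff_comm]; exact huv
  have hwu : ff w u = 0 := by rw [ff_comm]; exact huw
  obtain ⟨α, hα⟩ : ∃ α : ZMod 2, α = eps H u w := ⟨_, rfl⟩
  obtain ⟨β, hβ⟩ : ∃ β : ZMod 2, β = eps H u v := ⟨_, rfl⟩
  obtain ⟨x, hx⟩ : ∃ x : V m, x = u + α • v + β • w := ⟨_, rfl⟩
  -- `x ≠ 0`
  have hx0 : x ≠ 0 := by
    intro h
    have hu : u = α • v + β • w := by
      have h' : u + (α • v + β • w) = 0 := by rw [← add_assoc, ← hx]; exact h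
      have := eq_neg_of_add_eq_zero_left h'
      rwa [v_neg] at this
    rcases z2_cases α with ha | ha <;> rcases z2_cases β with hb | hb <;> rw [ha, hb] at hu <;>
      simp at hu
    · exact hu0 hu
    · exact huw' hu
    · exact huv' hu
    · exact huvw hu
  -- perpendicularity
  have hxv : ff x v = 0 := by
    rw [hx, ff_add_left, ff_add_left, ff_smul_left, ff_smul_left, huv, ff_self, hwv]; simp
  have hxw : ff x w = 0 := by
    rw [hx, ff_add_left, ff_add_left, ff_smul_left, ff_smul_left, huw, ff_self, hvw]; simp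
  have hvx : ff v x = 0 := by rw [ff_comm]; exact hxv
  have hwx : ff w x = 0 := by rw [ff_comm]; exact hxw
  have hew : eps H w v = 1 := by rw [← eps_comm H hvw]; exact he
  -- `ε v x = 0`, `ε w x = 0`
  have hevx : eps H v x = 0 := by
    have h1 : ff v (u + α • v) = 0 := by rw [ff_add_right, ff_smul_right, hvu, ff_self]; simp
    have h2 : ff v (β • w) = 0 := by rw [ff_smul_right, hvw]; simp
    have h3 : ff (u + α • v) (β • w) = 0 := by
      rw [ff_smul_right, ff_add_left, ff_smul_left, huw, hvw]; simp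
    have h4 : ff v (α • v) = 0 := by rw [ff_smul_right, ff_self]; simp
    have h5 : ff u (α • v) = 0 := by rw [ff_smul_right, huv]; simp
    rw [hx, mi2p3_eps_add_perp hF hN h1 h2 h3, mi2p3_eps_add_perp hF hN hvu h4 h5,
      mi2p3_eps_smul, mi2p3_eps_smul, eps_self, he, eps_comm H hvu, ← hβ]
    generalize α = a; generalize β = b
    revert a b; decide
  have hewx : eps H w x = 0 := by
    have h1 : ff w (u + α • v) = 0 := by rw [ff_add_right, ff_smul_right, hwu, hwv]; simp
    have h2 : ff w (β • w) = 0 := by rw [ff_smul_right, ff_self]; simp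
    have h3 : ff (u + α • v) (β • w) = 0 := by
      rw [ff_smul_right, ff_add_left, ff_smul_left, huw, hvw]; simp
    have h4 : ff w (α • v) = 0 := by rw [ff_smul_right, hwv]; simp
    have h5 : ff u (α • v) = 0 := by rw [ff_smul_right, huv]; simp
    rw [hx, mi2p3_eps_add_perp hF hN h1 h2 h3, mi2p3_eps_add_perp hF hN hwu h4 h5,
      mi2p3_eps_smul, mi2p3_eps_smul, eps_self, hew, eps_comm H hwu, ← hα]
    generalize α = a; generalize β = b
    revert a b; decide
  -- the three pairs
  have p1 : tv v * tv w ∈ H := pair_mem hF hvw he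
  have p2 : tv (v + x) * tv (v + w) ∈ H := by
    have hperp : ff (v + x) (v + w) = 0 := by
      rw [ff_add_left, ff_add_right, ff_add_right, ff_self, hvw, hxv, hxw]; simp
    apply pair_mem hF hperp
    have h1 : ff (v + x) v = 0 := by rw [ff_add_left, ff_self, hxv]; simp
    have h2 : ff (v + x) w = 0 := by rw [ff_add_left, hvw, hxw]; simp
    have h1' : ff v (v + x) = 0 := by rw [ff_comm]; exact h1
    have h2' : ff w (v + x) = 0 := by rw [ff_comm]; exact h2
    rw [mi2p3_eps_add_perp hF hN h1 h2 hvw, ← eps_comm H h1', ← eps_comm H h2',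
      mi2p3_eps_add_perp hF hN (ff_self v) hvx hvx, mi2p3_eps_add_perp hF hN hwv hwx hvx,
      eps_self, hevx, hew, hewx]
    decide
  have p3 : tv (w + x) * tv (v + w + x) ∈ H := by
    have hperp : ff (w + x) (v + w + x) = 0 := by
      rw [ff_add_left, ff_add_right, ff_add_right, ff_add_right, ff_add_right, ff_self, ff_self, hwv,
        hxv, hxw, hwx]; simp
    apply pair_mem hF hperp
    have e : v + w + x = v + (w + x) := add_assoc _ _ _
    have h1 : ff (w + x) v = 0 := by rw [ff_add_left, hwv, hxv]; simp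
    have h1' : ff v (w + x) = 0 := by rw [ff_comm]; exact h1
    rw [e, mi2p3_eps_add_perp hF hN h1 (ff_self _) h1', eps_self, ← eps_comm H h1',
      mi2p3_eps_add_perp hF hN hvw hvx hwx, he, hevx]
    decide
  have hprod := mi2p3_prod hvw hvx hwx
  have : tv x ∈ H := by
    rw [← hprod]
    exact H.mul_mem (H.mul_mem p1 p2) p3
  exact hN x hx0 this

end Cfsg.Agent.Lib.helper2.MI2
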