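import Mathlib
import Cfsg.Agent.Lib.Helper24.MNP.Defs
import Cfsg.Agent.Lib.Helper26.MNPT3core
import Cfsg.Agent.Lib.Helper1.MNPF7

set_option autoImplicit false

namespace Cfsg.Agent.Lib.Helper24.MNP

open scoped commutatorElement
open Cfsg.Agent.Lib.Helper24.SCH (SchAct)

universe u

section T

variable {K : Type u} [Field K] [Finite K] {p q : ℕ} [Fact p.Prime] [Fact q.Prime] [CharP K p]

variable {σ : InvHom K}

theorem card_UT {m : ℕ} (hm : 1 ≤ m) (hK : Nat.card K = p ^ (2 * m))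
    (hσ : ∀ x, σ.s x = x ^ (p ^ m)) : Nat.card (UT K σ) = p ^ (3 * m) :=
  mnpt3_core hK (half_structure hm hK σ hσ)

end T

end Cfsg.Agent.Lib.Helper24.MNP
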