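import Cfsg.Agent.Lib.Helper19.MOD.Basic
import Cfsg.Agent.Lib.Helper26.MODF3core
import Cfsg.Agent.Lib.helper4.MODF1

/-!
Project MOD (designer helper19; block of PSU, S2291) row F3 (`exists_ctx`; the verbatim name lives in `Helper19.MODMain`, this copy is `modf3_exists_ctx`):
`modf3_core` applied to F1 `frame_even`, F2 `frame_odd` (helper4).
-/

set_option autoImplicit false

namespace Cfsg.Agent.Lib.Helper19.MOD

open Matrix Cfsg.Agent.Lib.helper15.SUn Cfsg.Agent.Lib.helper3.STC Cfsg.Agent.Lib.Helper27.STU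
  Cfsg.Agent.Lib.helper15.St2

universe u

section frames

variable {F : Type*} [Field F] [Fintype F] {n q : ℕ} {σ : F ≃+* F}

/-- F3 [S] -/
theorem modf3_exists_ctx (hF : Fintype.card F = q ^ 2) (n m : ℕ) (od : Prop)
    (hn : (¬ od ∧ n = 2 * m) ∨ (od ∧ n = 2 * m + 1)) :
    letI := frobStar hF
    Nonempty (Ctx F n q m od) :=
  modf3_core hF n m od hn (fun hs hf m hn => frame_even hs hf m hn) (fun hF hs hf m hn => frame_odd hF hs hf m hn)

end frames

end Cfsg.Agent.Lib.Helper19.MOD
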