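import Cfsg.Agent.Lib.Helper1.Cores
import Mathlib


set_option autoImplicit false

namespace Cfsg.Agent.Lib.Helper26

open Cfsg
open scoped IsMulCommutative

variable {G : Type*} [Group G]

theorem aut_eq_conj_of_fix_sylow [Finite G] {p : ℕ} [Fact p.Prime] (T : Sylow p G)
    (hcent : Subgroup.centralizer ((pCore p G : Subgroup G) : Set G) ≤ pCore p G) (ψ : G ≃* G)
    (hψ : ∀ y ∈ T, ψ y = y) :
    ∃ z ∈ T, (∀ t ∈ T, z * t = t * z) ∧ ∀ g : G, ψ g = z * g * z⁻¹ := by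
  have hQn : (pCore p G).Normal := Helper1.pCore_normal p
  have hQT : pCore p G ≤ T := Helper1.pCore_le_sylow p T
  have hCn : (Subgroup.centralizer ((pCore p G : Subgroup G) : Set G)).Normal :=
    Subgroup.normal_centralizer
  set Z : Subgroup G := pCore p G ⊓ Subgroup.centralizer ((pCore p G : Subgroup G) : Set G) with hZ
  have hZn : Z.Normal := Subgroup.normal_inf_normal _ _
  have hZcomm : IsMulCommutative Z := by
    refine ⟨⟨fun a b => ?_⟩⟩
    apply Subtype.ext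
    exact ((Subgroup.mem_centralizer_iff.mp a.2.2) b b.2.1).symm
  have hf : ∀ g : G, g * (ψ g)⁻¹ ∈ Z := by
    intro g
    have hu : ψ g * g⁻¹ ∈ Subgroup.centralizer ((pCore p G : Subgroup G) : Set G) := by
      rw [Subgroup.mem_centralizer_iff]
      intro x hx
      have hy : g⁻¹ * x * g ∈ pCore p G := by
        have := hQn.conj_mem x hx g⁻¹
        rwa [inv_inv] at this
      have h1 : ψ (g⁻¹ * x * g) = g⁻¹ * x * g := hψ _ (hQT hy)
      have h2 : ψ x = x := hψ _ (hQT hx)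
      have h3 : ψ x = ψ g * ψ (g⁻¹ * x * g) * (ψ g)⁻¹ := by
        rw [← map_inv, ← map_mul, ← map_mul]
        congr 1
        group
      rw [h2, h1] at h3
      calc x * (ψ g * g⁻¹) = (ψ g * (g⁻¹ * x * g) * (ψ g)⁻¹) * (ψ g * g⁻¹) := by rw [← h3]
        _ = ψ g * g⁻¹ * x := by group
    have hu' : ψ g * g⁻¹ ∈ Z := ⟨hcent hu, hu⟩
    have := Z.inv_mem hu'
    rwa [mul_inv_rev, inv_inv] at this
  have hfT : ∀ (g : G) (t : G), t ∈ T → (g * t) * (ψ (g * t))⁻¹ = g * (ψ g)⁻¹ := by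
    intro g t ht
    rw [map_mul, hψ t ht]
    group
  have hfconj : ∀ h g : G, h * (g * (ψ g)⁻¹) * h⁻¹ = ((h * g) * (ψ (h * g))⁻¹) * (h * (ψ h)⁻¹)⁻¹ := by
    intro h g
    rw [map_mul]
    group
  let fZ : G → Z := fun g => ⟨g * (ψ g)⁻¹, hf g⟩
  let conjZ : G → (Z →* Z) := fun h =>
    ((MulAut.conj h).toMonoidHom.comp Z.subtype).codRestrict Z (fun z => hZn.conj_mem z z.2 h)
  have : Fintype (G ⧸ (T : Subgroup G)) := Fintype.ofFinite _
  set a : Z := ∏ q : G ⧸ (T : Subgroup G), fZ q.out with ha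
  set n := Fintype.card (G ⧸ (T : Subgroup G)) with hn
  have hnp : ¬ p ∣ n := by
    have := T.not_dvd_index
    rwa [Subgroup.index, Nat.card_eq_fintype_card] at this
  have hkey : ∀ h : G, conjZ h a = a * ((fZ h)⁻¹) ^ n := by
    intro h
    rw [ha, map_prod]
    have h1 : ∀ q : G ⧸ (T : Subgroup G), conjZ h (fZ q.out) =
        fZ ((h • q).out) * (fZ h)⁻¹ := by
      intro q
      apply Subtype.ext
      show h * (q.out * (ψ q.out)⁻¹) * h⁻¹ = _
      rw [hfconj]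
      have h2 : (h • q : G ⧸ (T : Subgroup G)) = QuotientGroup.mk (h * q.out) := by
        conv_lhs => rw [← QuotientGroup.out_eq' q]
        rfl
      obtain ⟨t, ht⟩ := QuotientGroup.mk_out_eq_mul (T : Subgroup G) (h * q.out)
      rw [h2, ht]
      show _ = (h * q.out * t * (ψ (h * q.out * t))⁻¹) * (h * (ψ h)⁻¹)⁻¹
      rw [hfT (h * q.out) t t.2]
    rw [Finset.prod_congr rfl (fun q _ => h1 q), Finset.prod_mul_distrib, Finset.prod_const,
      Finset.card_univ]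
    congr 1
    exact Equiv.prod_comp (MulAction.toPerm h) (fun q : G ⧸ (T : Subgroup G) => fZ q.out)
  have hZp : IsPGroup p Z := (Helper1.pCore_isPGroup p).to_le inf_le_left
  obtain ⟨b, hb⟩ := (hZp.powEquiv' hnp).surjective a
  have hb' : b ^ n = a := hb
  have hfb : ∀ h : G, fZ h = b * (conjZ h b)⁻¹ := by
    intro h
    apply (hZp.powEquiv' hnp).injective
    show (fZ h) ^ n = (b * (conjZ h b)⁻¹) ^ n
    rw [mul_pow, inv_pow, ← map_pow, hb', hkey h, mul_inv_rev, inv_pow, inv_inv]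
    rw [mul_comm ((fZ h) ^ n) a⁻¹, ← mul_assoc, mul_inv_cancel, one_mul]
  have hψb : ∀ g : G, ψ g = (b : G)⁻¹ * g * (b : G)⁻¹⁻¹ := by
    intro g
    have h1 : g * (ψ g)⁻¹ = (b : G) * (g * (b : G) * g⁻¹)⁻¹ := congrArg Subtype.val (hfb g)
    have hc1 : g * (b : G) * g⁻¹ ∈ Z := hZn.conj_mem b b.2 g
    have h2 : (g * (b : G) * g⁻¹) * (b : G)⁻¹ = (b : G)⁻¹ * (g * (b : G) * g⁻¹) := by
      have := hZcomm.is_comm.comm (⟨g * (b : G) * g⁻¹, hc1⟩ : Z) b⁻¹
      exact congrArg Subtype.val this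
    have h3 : ψ g = (g * (b : G) * g⁻¹) * (b : G)⁻¹ * g := by
      have : (ψ g)⁻¹ = g⁻¹ * ((b : G) * (g * (b : G) * g⁻¹)⁻¹) := by
        rw [← h1]; group
      rw [← inv_inv (ψ g), this]
      group
    rw [h3, h2]
    group
  refine ⟨(b : G)⁻¹, hQT (Z.inv_mem b.2).1, ?_, hψb⟩
  intro t ht
  have h1 := hψb t
  rw [hψ t ht] at h1
  calc (b : G)⁻¹ * t = ((b : G)⁻¹ * t * (b : G)⁻¹⁻¹) * (b : G)⁻¹ := by group
    _ = t * (b : G)⁻¹ := by rw [← h1]

end Cfsg.Agent.Lib.Helper26
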