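import Cfsg.Agent.Lib.Helper26.Realize2
import Cfsg.Agent.Lib.Helper26.FusionNormal
import Cfsg.Agent.Lib.Helper1.Cores

set_option autoImplicit false

namespace Cfsg.Agent.Lib.Helper26

open Cfsg Cfsg.FusionSystem

variable {Ω : Type*} [Group Ω] {S : Subgroup Ω} {G : Type*} [Group G]

/-- in a model, the image of a subgroup normal in the fusion system is a normal subgroup -/
theorem imSub_normal_of_isNormal [Finite G] {p : ℕ} [Fact p.Prime] (F : FusionSystem S)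
    {ι : S →* G} (hR : F.IsRealizedBy ι) (hT : ∃ T : Sylow p G, (T : Subgroup G) = ι.range)
    (hcent : Subgroup.centralizer ((pCore p G : Subgroup G) : Set G) ≤ pCore p G)
    {Q : Subgroup Ω} (hQ : F.IsNormal Q) : (imSub ι Q).Normal := by
  obtain ⟨T, hT⟩ := hT
  have hRn : (pCore p G).Normal := Helper1.pCore_normal p
  have hRT : pCore p G ≤ ι.range := hT ▸ Helper1.pCore_le_sylow p T
  have hQS : Q ≤ S := hQ.1
  have hR'S : preSub ι (pCore p G) ≤ S := preSub_le ι _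
  constructor
  intro y hy g
  have h' : ∀ x : ↥(preSub ι (pCore p G)), g * ι ⟨x, hR'S x.2⟩ * g⁻¹ ∈ ι.range := by
    intro x
    obtain ⟨hxS, hx⟩ := mem_preSub_iff.mp x.2
    exact hRT (hRn.conj_mem _ hx g)
  have hφ := pullHom_mem_hom F hR _ hR'S g h'
  obtain ⟨ψ, hψ, hψe, hψQ⟩ := hQ.2 _ _ hφ
  obtain ⟨h, hh⟩ := exists_of_mem_hom F hR hψ
  have hcz : h⁻¹ * g ∈ Subgroup.centralizer ((pCore p G : Subgroup G) : Set G) := by
    rw [Subgroup.mem_centralizer_iff]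
    intro r hr
    obtain ⟨s, rfl⟩ := hRT hr
    have hsR : (s : Ω) ∈ preSub ι (pCore p G) := mem_preSub_iff.mpr ⟨s.2, hr⟩
    have h1 := apply_pullHom hR.1 _ hR'S g h' ⟨s, hsR⟩
    have h2 := hh (Subgroup.inclusion le_sup_left ⟨s, hsR⟩)
    have h3 := hψe ⟨s, hsR⟩
    have h4 : g * ι s * g⁻¹ = h * ι s * h⁻¹ := by
      rw [← h1]
      have e : (⟨pullHom hR.1 _ hR'S g h' ⟨s, hsR⟩, pullHom_mem hR.1 _ hR'S g h' ⟨s, hsR⟩⟩ : S) =
          ⟨ψ (Subgroup.inclusion le_sup_left ⟨s, hsR⟩), (F.le_of_mem hψ).2 _⟩ := Subtype.ext h3.symm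
      rw [e, h2]
      rfl
    calc ι s * (h⁻¹ * g) = h⁻¹ * (h * ι s * h⁻¹) * g := by group
      _ = h⁻¹ * (g * ι s * g⁻¹) * g := by rw [h4]
      _ = h⁻¹ * g * ι s := by group
  obtain ⟨s, hs⟩ := hRT (hcent hcz)
  obtain ⟨x, hxS, hxQ, rfl⟩ := mem_imSub_iff.mp hy
  have hnorm := isNormal_le_normalizer hQ
  have hx' : (s : Ω) * x * (s : Ω)⁻¹ ∈ Q := (Subgroup.mem_normalizer_iff.mp (hnorm s.2) x).mp hxQ
  have hx'K : (s : Ω) * x * (s : Ω)⁻¹ ∈ preSub ι (pCore p G) ⊔ Q := le_sup_right (a := preSub ι (pCore p G)) hx'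
  have h5 := hh ⟨_, hx'K⟩
  have h6 : ψ ⟨_, hx'K⟩ ∈ Q :=
    hψQ.le ⟨⟨_, hx'K⟩, Subgroup.mem_subgroupOf.mpr hx', rfl⟩
  have h7 : g * ι ⟨x, hxS⟩ * g⁻¹ = h * ι ⟨(s : Ω) * x * (s : Ω)⁻¹, S.mul_mem (S.mul_mem s.2 hxS) (S.inv_mem s.2)⟩ * h⁻¹ := by
    have e : (⟨(s : Ω) * x * (s : Ω)⁻¹, S.mul_mem (S.mul_mem s.2 hxS) (S.inv_mem s.2)⟩ : S) =
        s * ⟨x, hxS⟩ * s⁻¹ := Subtype.ext rfl
    rw [e, map_mul, map_mul, map_inv, hs]
    group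
  rw [h7, ← h5]
  exact apply_mem_imSub ι _ h6

end Cfsg.Agent.Lib.Helper26
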