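import Cfsg.Agent.Lib.Helper26.ModelUniq1

set_option autoImplicit false

namespace Cfsg.Agent.Lib.Helper26

open Cfsg Cfsg.FusionSystem

variable {Ω : Type*} [Group Ω] {S : Subgroup Ω} {G : Type*} [Group G]

theorem conj_pow_of_commutator {c r z : G} (h1 : c * r * c⁻¹ = r * z) (h2 : c * z = z * c) (k : ℕ) :
    c ^ k * r * (c ^ k)⁻¹ = r * z ^ k := by
  induction k with
  | zero => simp
  | succ k ih =>
    have hz : c * z ^ k * c⁻¹ = z ^ k := by
      have : c * z ^ k = z ^ k * c := (Commute.pow_right (show Commute c z from h2) k).eq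
      rw [this]; group
    calc c ^ (k + 1) * r * (c ^ (k + 1))⁻¹ = c * (c ^ k * r * (c ^ k)⁻¹) * c⁻¹ := by
          rw [pow_succ']; group
      _ = c * (r * z ^ k) * c⁻¹ := by rw [ih]
      _ = (c * r * c⁻¹) * (c * z ^ k * c⁻¹) := by group
      _ = r * z ^ (k + 1) := by rw [h1, hz, pow_succ']; group

/-- in a model, the image of a centric subgroup normal in the fusion system contains its centralizer -/
theorem centralizer_imSub_le [Finite G] {p : ℕ} [Fact p.Prime] (F : FusionSystem S)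
    {ι : S →* G} (hR : F.IsRealizedBy ι) (hT : ∃ T : Sylow p G, (T : Subgroup G) = ι.range)
    (hcent : Subgroup.centralizer ((pCore p G : Subgroup G) : Set G) ≤ pCore p G)
    {Q : Subgroup Ω} (hQ : F.IsNormal Q) (hQc : F.IsCentric Q) :
    Subgroup.centralizer ((imSub ι Q : Subgroup G) : Set G) ≤ imSub ι Q := by
  have hQn : (imSub ι Q).Normal := imSub_normal_of_isNormal F hR hT hcent hQ
  obtain ⟨T, hT⟩ := hT
  have hRn : (pCore p G).Normal := Helper1.pCore_normal p
  have hRT : pCore p G ≤ ι.range := hT ▸ Helper1.pCore_le_sylow p T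
  have hRp : IsPGroup p (pCore p G) := Helper1.pCore_isPGroup p
  have hQS : Q ≤ S := hQ.1
  have hCn : (Subgroup.centralizer ((imSub ι Q : Subgroup G) : Set G)).Normal :=
    Subgroup.normal_centralizer
  set C := Subgroup.centralizer ((imSub ι Q : Subgroup G) : Set G) with hC
  have hstep1 : C ⊓ pCore p G ≤ imSub ι Q := by
    rintro y ⟨hyC, hyR⟩
    obtain ⟨s, rfl⟩ := hRT hyR
    have hs : (s : Ω) ∈ centralizerIn S Q := by
      refine ⟨s.2, Subgroup.mem_centralizer_iff.mpr (fun x hx => ?_)⟩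
      have h1 := (Subgroup.mem_centralizer_iff.mp hyC) (ι ⟨x, hQS hx⟩) (apply_mem_imSub ι (hQS hx) hx)
      rw [← map_mul, ← map_mul] at h1
      exact congrArg Subtype.val (hR.1 h1)
    exact apply_mem_imSub ι s.2 (hQc.2 Q (isConj_refl F hQS) hs)
  have hZp : IsPGroup p ↥(C ⊓ pCore p G) := hRp.to_le inf_le_right
  obtain ⟨k, hk⟩ := IsPGroup.iff_card.mp hZp
  have hpow : ∀ z ∈ C ⊓ pCore p G, z ^ (p ^ k) = 1 := by
    intro z hz
    have := pow_card_eq_one' (G := ↥(C ⊓ pCore p G)) (x := ⟨z, hz⟩)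
    rw [hk] at this
    exact congrArg Subtype.val this
  have hCp : IsPGroup p C := by
    rintro ⟨c, hc⟩
    refine ⟨k + k, Subtype.ext ?_⟩
    show c ^ (p ^ (k + k)) = 1
    have hcn : c ^ (p ^ k) ∈ Subgroup.centralizer ((pCore p G : Subgroup G) : Set G) := by
      rw [Subgroup.mem_centralizer_iff]
      intro r hr
      have hz : r⁻¹ * (c * r * c⁻¹) ∈ C ⊓ pCore p G := by
        refine ⟨?_, Subgroup.mul_mem _ (Subgroup.inv_mem _ hr) (hRn.conj_mem r hr c)⟩
        have h1 : r⁻¹ * c * r⁻¹⁻¹ ∈ C := hCn.conj_mem c hc r⁻¹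
        have h2 : r⁻¹ * (c * r * c⁻¹) = (r⁻¹ * c * r⁻¹⁻¹) * c⁻¹ := by group
        rw [h2]
        exact Subgroup.mul_mem _ h1 (Subgroup.inv_mem _ hc)
      have hcomm : c * (r⁻¹ * (c * r * c⁻¹)) = (r⁻¹ * (c * r * c⁻¹)) * c :=
        ((Subgroup.mem_centralizer_iff.mp hc) _ (hstep1 hz)).symm
      have h3 := conj_pow_of_commutator (c := c) (r := r) (z := r⁻¹ * (c * r * c⁻¹))
        (by group) hcomm (p ^ k)
      rw [hpow _ hz, mul_one] at h3
      calc r * c ^ (p ^ k) = (c ^ (p ^ k) * r * (c ^ (p ^ k))⁻¹) * c ^ (p ^ k) := by rw [h3]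
        _ = c ^ (p ^ k) * r := by group
    have hcC : c ^ (p ^ k) ∈ C := Subgroup.pow_mem _ hc _
    have := hpow _ ⟨hcC, hcent hcn⟩
    rw [pow_add, pow_mul]
    exact this
  have hCR : C ≤ pCore p G := Helper1.le_pCore hCn hCp
  exact fun y hy => hstep1 ⟨hy, hCR hy⟩

end Cfsg.Agent.Lib.Helper26
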