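import Cfsg.Agent.Lib.Helper26.ModelUniq2
import Cfsg.Agent.Lib.Helper26.LiftHom3

set_option autoImplicit false

namespace Cfsg.Agent.Lib.Helper26

open Cfsg Cfsg.FusionSystem

variable {Ω : Type*} [Group Ω] {S : Subgroup Ω} {G : Type*} [Group G]

/-- the action of `G` on `Q` through its normal image in `G` -/
noncomputable def modelActQ {ι : S →* G} (hinj : Function.Injective ι) {Q : Subgroup Ω} (hQS : Q ≤ S)
    (hn : (imSub ι Q).Normal) : G →* MulAut Q :=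
  (MulAut.congr (imEquiv hinj hQS).symm).toMonoidHom.comp (@MulAut.conjNormal G _ (imSub ι Q) hn)

theorem modelActQ_spec {ι : S →* G} (hinj : Function.Injective ι) {Q : Subgroup Ω} (hQS : Q ≤ S)
    (hn : (imSub ι Q).Normal) (g : G) (x : Q) :
    ι ⟨((modelActQ hinj hQS hn g x : Q) : Ω), hQS (modelActQ hinj hQS hn g x).2⟩ = g * ι ⟨x, hQS x.2⟩ * g⁻¹ := by
  have h1 := imEquiv_symm_spec hinj hQS
    ((@MulAut.conjNormal G _ (imSub ι Q) hn g) (imEquiv hinj hQS x))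
  exact h1

theorem mem_ker_modelActQ_iff {ι : S →* G} (hinj : Function.Injective ι) {Q : Subgroup Ω} (hQS : Q ≤ S)
    (hn : (imSub ι Q).Normal) (g : G) :
    g ∈ (modelActQ hinj hQS hn).ker ↔ g ∈ Subgroup.centralizer ((imSub ι Q : Subgroup G) : Set G) := by
  rw [MonoidHom.mem_ker, Subgroup.mem_centralizer_iff]
  constructor
  · intro h y hy
    obtain ⟨x, hxS, hxQ, rfl⟩ := mem_imSub_iff.mp hy
    have h1 := modelActQ_spec hinj hQS hn g ⟨x, hxQ⟩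
    rw [h] at h1
    have h2 : ι ⟨x, hxS⟩ = g * ι ⟨x, hxS⟩ * g⁻¹ := h1
    calc ι ⟨x, hxS⟩ * g = (g * ι ⟨x, hxS⟩ * g⁻¹) * g := by rw [← h2]
      _ = g * ι ⟨x, hxS⟩ := by group
  · intro h
    ext x
    have h1 := modelActQ_spec hinj hQS hn g x
    have h2 := h (ι ⟨x, hQS x.2⟩) (apply_mem_imSub ι (hQS x.2) x.2)
    have h3 : g * ι ⟨x, hQS x.2⟩ * g⁻¹ = ι ⟨x, hQS x.2⟩ := by
      rw [← h2]; group
    rw [h3] at h1
    have h4 : (⟨((modelActQ hinj hQS hn g x : Q) : Ω), hQS (modelActQ hinj hQS hn g x).2⟩ : S) = ⟨x, hQS x.2⟩ :=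
      hinj h1
    exact congrArg (fun s : ↥S => (s : Ω)) h4

theorem modelActQ_eq_of_forall {G₁ G₂ : Type*} [Group G₁] [Group G₂] {ι₁ : S →* G₁} {ι₂ : S →* G₂}
    (hinj₁ : Function.Injective ι₁) (hinj₂ : Function.Injective ι₂) {Q : Subgroup Ω} (hQS : Q ≤ S)
    (hn₁ : (imSub ι₁ Q).Normal) (hn₂ : (imSub ι₂ Q).Normal) {g : G₁} {h : G₂}
    (φ : Q → Ω) (hφ : ∀ x : Q, φ x ∈ S)
    (h1 : ∀ x : Q, ι₁ ⟨φ x, hφ x⟩ = g * ι₁ ⟨x, hQS x.2⟩ * g⁻¹)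
    (h2 : ∀ x : Q, ι₂ ⟨φ x, hφ x⟩ = h * ι₂ ⟨x, hQS x.2⟩ * h⁻¹) :
    modelActQ hinj₂ hQS hn₂ h = modelActQ hinj₁ hQS hn₁ g := by
  ext x
  have e1 := modelActQ_spec hinj₁ hQS hn₁ g x
  have e2 := modelActQ_spec hinj₂ hQS hn₂ h x
  rw [← h1] at e1
  rw [← h2] at e2
  have e1' := congrArg (fun s : ↥S => (s : Ω)) (hinj₁ e1)
  have e2' := congrArg (fun s : ↥S => (s : Ω)) (hinj₂ e2)
  exact e2'.trans e1'.symm

end Cfsg.Agent.Lib.Helper26
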