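import Cfsg.Agent.Lib.Helper26.ModelUniq3

set_option autoImplicit false

namespace Cfsg.Agent.Lib.Helper26

open Cfsg Cfsg.FusionSystem

variable {Ω : Type*} [Group Ω] {S : Subgroup Ω}

/-- between two models of a constrained system there is an injective homomorphism compatible with `S` -/
theorem exists_model_hom [Finite S] {p : ℕ} [Fact p.Prime] (F : FusionSystem S)
    {Q : Subgroup Ω} (hQ : F.IsNormal Q) (hQc : F.IsCentric Q)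
    {G₁ G₂ : Type*} [Group G₁] [Group G₂] (ι₁ : S →* G₁) (ι₂ : S →* G₂)
    (h₁ : F.IsModel p G₁ ι₁) (h₂ : F.IsModel p G₂ ι₂) :
    ∃ ψ : G₁ →* G₂, Function.Injective ψ ∧ ∀ x : S, ψ (ι₁ x) = ι₂ x := by
  obtain ⟨hfin₁, hR₁, hT₁, hc₁⟩ := h₁
  obtain ⟨hfin₂, hR₂, hT₂, hc₂⟩ := h₂
  have hQS : Q ≤ S := hQ.1
  have hn₁ := imSub_normal_of_isNormal F hR₁ hT₁ hc₁ hQ
  have hn₂ := imSub_normal_of_isNormal F hR₂ hT₂ hc₂ hQ
  have hz₁ := centralizer_imSub_le F hR₁ hT₁ hc₁ hQ hQc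
  have hz₂ := centralizer_imSub_le F hR₂ hT₂ hc₂ hQ hQc
  set c := modelActQ hR₁.1 hQS hn₁ with hc
  set d := modelActQ hR₂.1 hQS hn₂ with hd
  let e₁ := MonoidHom.ofInjective hR₁.1
  let j : ι₁.range →* G₂ := ι₂.comp e₁.symm.toMonoidHom
  have hjι : ∀ s : S, j ⟨ι₁ s, ⟨s, rfl⟩⟩ = ι₂ s := by
    intro s
    show ι₂ (e₁.symm ⟨ι₁ s, ⟨s, rfl⟩⟩) = ι₂ s
    have : e₁.symm ⟨ι₁ s, ⟨s, rfl⟩⟩ = s := by
      rw [MulEquiv.symm_apply_eq]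
      exact Subtype.ext rfl
    rw [this]
  have hkerd : ∀ a ∈ d.ker, a ∈ imSub ι₂ Q := fun a ha =>
    hz₂ ((mem_ker_modelActQ_iff hR₂.1 hQS hn₂ a).mp ha)
  have hZc : ∀ a ∈ d.ker, ∀ b ∈ d.ker, a * b = b * a := by
    intro a ha b hb
    exact ((Subgroup.mem_centralizer_iff.mp ((mem_ker_modelActQ_iff hR₂.1 hQS hn₂ a).mp ha)) b
      (hkerd b hb)).symm
  obtain ⟨T₁, hT₁⟩ := hT₁
  obtain ⟨T₂, hT₂⟩ := hT₂
  have hZp : IsPGroup p d.ker := by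
    have h1 : d.ker ≤ (T₂ : Subgroup G₂) := by
      intro a ha
      rw [hT₂]
      exact imSub_le_range ι₂ Q (hkerd a ha)
    exact T₂.2.to_le h1
  have hU : ¬ p ∣ (ι₁.range).index := by
    rw [← hT₁]
    exact T₁.not_dvd_index
  have hj : ∀ u : ι₁.range, d (j u) = c u := by
    rintro ⟨_, s, rfl⟩
    rw [hjι]
    refine modelActQ_eq_of_forall hR₁.1 hR₂.1 hQS hn₁ hn₂ (fun x => (s : Ω) * x * (s : Ω)⁻¹)
      (fun x => S.mul_mem (S.mul_mem s.2 (hQS x.2)) (S.inv_mem s.2)) (fun x => ?_) (fun x => ?_)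
    · have e : (⟨(s : Ω) * x * (s : Ω)⁻¹, S.mul_mem (S.mul_mem s.2 (hQS x.2)) (S.inv_mem s.2)⟩ : S) =
          s * ⟨x, hQS x.2⟩ * s⁻¹ := Subtype.ext rfl
      rw [e, map_mul, map_mul, map_inv]
    · have e : (⟨(s : Ω) * x * (s : Ω)⁻¹, S.mul_mem (S.mul_mem s.2 (hQS x.2)) (S.inv_mem s.2)⟩ : S) =
          s * ⟨x, hQS x.2⟩ * s⁻¹ := Subtype.ext rfl
      rw [e, map_mul, map_mul, map_inv]
  have hstab : ∀ g : G₁, ∃ h : G₂, IsStableLift c d ι₁.range j g h := by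
    intro g
    set P := preSub ι₁ ((ι₁.range).comap (MulAut.conj g).toMonoidHom) with hP
    have hPS : P ≤ S := preSub_le ι₁ _
    have h' : ∀ x : P, g * ι₁ ⟨x, hPS x.2⟩ * g⁻¹ ∈ ι₁.range := by
      intro x
      obtain ⟨hxS, hx⟩ := mem_preSub_iff.mp x.2
      exact hx
    have hφ := pullHom_mem_hom F hR₁ P hPS g h'
    obtain ⟨h, hh⟩ := exists_of_mem_hom F hR₂ hφ
    have hQP : Q ≤ P := by
      intro x hx
      refine mem_preSub_iff.mpr ⟨hQS hx, ?_⟩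
      show g * ι₁ ⟨x, hQS hx⟩ * g⁻¹ ∈ ι₁.range
      exact imSub_le_range ι₁ Q (hn₁.conj_mem _ (apply_mem_imSub ι₁ (hQS hx) hx) g)
    refine ⟨h, ⟨?_, ?_⟩⟩
    · refine modelActQ_eq_of_forall hR₁.1 hR₂.1 hQS hn₁ hn₂
        (fun x => pullHom hR₁.1 P hPS g h' ⟨x, hQP x.2⟩)
        (fun x => pullHom_mem hR₁.1 P hPS g h' ⟨x, hQP x.2⟩) (fun x => ?_) (fun x => ?_)
      · exact apply_pullHom hR₁.1 P hPS g h' ⟨x, hQP x.2⟩
      · exact hh ⟨x, hQP x.2⟩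
    · rintro ⟨_, s, rfl⟩ hu
      have hsP : (s : Ω) ∈ P := mem_preSub_iff.mpr ⟨s.2, hu⟩
      have h1 := apply_pullHom hR₁.1 P hPS g h' ⟨s, hsP⟩
      have h2 := hh ⟨s, hsP⟩
      have e1 : (⟨g * ι₁ s * g⁻¹, hu⟩ : ι₁.range) =
          ⟨ι₁ ⟨pullHom hR₁.1 P hPS g h' ⟨s, hsP⟩, pullHom_mem hR₁.1 P hPS g h' ⟨s, hsP⟩⟩, ⟨_, rfl⟩⟩ :=
        Subtype.ext h1.symm
      rw [e1, hjι, hjι]
      exact h2
  obtain ⟨ψ, hψd, hψj⟩ := exists_lift_hom c d ι₁.range j hZc hZp hU hj hstab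
  have hψι : ∀ x : S, ψ (ι₁ x) = ι₂ x := by
    intro x
    have := hψj ⟨ι₁ x, ⟨x, rfl⟩⟩
    rw [hjι] at this
    exact this
  refine ⟨ψ, ?_, hψι⟩
  rw [injective_iff_map_eq_one]
  intro g hg
  have h1 : g ∈ c.ker := by
    rw [MonoidHom.mem_ker, ← hψd, hg, map_one]
  have h2 : g ∈ imSub ι₁ Q := hz₁ ((mem_ker_modelActQ_iff hR₁.1 hQS hn₁ g).mp h1)
  obtain ⟨s, rfl⟩ := imSub_le_range ι₁ Q h2
  rw [hψι] at hg
  have : s = 1 := hR₂.1 (hg.trans (map_one ι₂).symm)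
  rw [this, map_one]

end Cfsg.Agent.Lib.Helper26
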