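import Mathlib
import Cfsg.Agent.Lib.helper7.NCV.Defs

/-!
# NCV row A2 (count_abstract), verbatim (helper26): the abstract COUNT lemma.
-/

set_option autoImplicit false

namespace Cfsg.Agent.Lib.helper7.NCV

open Matrix

universe u

variable {F : Type u} [Field F] {n : ℕ}

/-- **A2 (COUNT).** `𝒞` a cover by proper subgroups, `rep M` a representative for each member;
representatives of different members never lie in a common nilpotent subgroup, and the extra
element `d` lies in a common nilpotent subgroup with none of them.  Then no nilpotent minimal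
cover. -/
theorem count_abstract {Γ : Type*} [Group Γ] [Finite Γ] (𝒞 : Set (Subgroup Γ))
    (rep : Subgroup Γ → Γ) (d : Γ)
    (hcov : ∀ g : Γ, ∃ M ∈ 𝒞, g ∈ M) (hprop : ∀ M ∈ 𝒞, M ≠ ⊤)
    (hsep : ∀ M ∈ 𝒞, ∀ M' ∈ 𝒞, ∀ A : Subgroup Γ, Group.IsNilpotent ↥A →
      rep M ∈ A → rep M' ∈ A → M = M')
    (hd : ∀ M ∈ 𝒞, ∀ A : Subgroup Γ, Group.IsNilpotent ↥A → d ∈ A → rep M ∈ A → False) :
    ¬ NilMinCover Γ := by
  classical
  rintro ⟨𝓐, ⟨-, hAcov⟩, hmin, hnil⟩
  have hfin : 𝒞.Finite := Set.toFinite 𝒞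
  have hle : 𝓐.card ≤ hfin.toFinset.card := by
    apply hmin
    refine ⟨fun A hA => hprop A ((Set.Finite.mem_toFinset hfin).mp hA), fun g => ?_⟩
    obtain ⟨M, hM, hg⟩ := hcov g
    exact ⟨M, (Set.Finite.mem_toFinset hfin).mpr hM, hg⟩
  choose mem hmemA hmem using hAcov
  have hinj : hfin.toFinset.card ≤ (𝓐.erase (mem d)).card := by
    apply Finset.card_le_card_of_injOn (fun M => mem (rep M))
    · intro M hM
      have hM' : M ∈ 𝒞 := (Set.Finite.mem_toFinset hfin).mp hM
      rw [Finset.mem_coe, Finset.mem_erase]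
      refine ⟨fun heq => ?_, hmemA _⟩
      refine hd M hM' (mem d) (hnil _ (hmemA d)) (hmem d) ?_
      rw [← heq]
      exact hmem _
    · intro M hM M' hM' heq
      have hM1 : M ∈ 𝒞 := (Set.Finite.mem_toFinset hfin).mp hM
      have hM2 : M' ∈ 𝒞 := (Set.Finite.mem_toFinset hfin).mp hM'
      refine hsep M hM1 M' hM2 (mem (rep M)) (hnil _ (hmemA _)) (hmem _) ?_
      have heq' : mem (rep M) = mem (rep M') := heq
      rw [heq']
      exact hmem _
  have hcard : (𝓐.erase (mem d)).card = 𝓐.card - 1 := Finset.card_erase_of_mem (hmemA d)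
  have hpos : 0 < 𝓐.card := Finset.card_pos.mpr ⟨_, hmemA d⟩
  omega

end Cfsg.Agent.Lib.helper7.NCV
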