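import Mathlib
import Cfsg.Prelude.Def_Blocks
import Cfsg.Agent.Lib.Helper26.NormalCentProd

set_option autoImplicit false
set_option linter.style.haveILetI false
set_option linter.unusedSectionVars false
set_option linter.unusedVariables false

namespace Cfsg.Agent.Lib.Helper26

open scoped ComplexConjugate
open Cfsg.Agent.Lib.Helper24 Cfsg.Agent.Lib.Helper25 Cfsg.Agent.Lib.helper7 Cfsg.Agent.Lib.helper2

section deg

variable {G : Type*} [Group G]

open Classical in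
/-- the block-weighted restriction of the members of a block to a `p`-subgroup is a multiple of
the regular character -/
theorem ncp_sum_id [Fintype G] [Fintype (Cfsg.IrrCharacter G)] {p : ℕ} [hp : Fact p.Prime]
    {M : Ideal Cfsg.AlgInt} (hM : Cfsg.IsPModular p M) (P : Subgroup G) [Fintype P]
    (hP : IsPGroup p P) (χ₀ : Cfsg.IrrCharacter G) (ζ : Cfsg.IrrCharacter P) :
    ∑ χ : Cfsg.IrrCharacter G, (if χ ∈ Cfsg.blockOf M (χ₀ : G → ℂ) then
        (χ : G → ℂ) 1 * conj (∑ x : P, (χ : G → ℂ) (x : G) * conj ((ζ : P → ℂ) x)) else 0) =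
      (ζ : P → ℂ) 1 * ∑ χ : Cfsg.IrrCharacter G,
        (if χ ∈ Cfsg.blockOf M (χ₀ : G → ℂ) then
          (χ : G → ℂ) 1 * conj ((χ : G → ℂ) 1) else 0) := by
  have h1reg : ¬ p ∣ orderOf (1 : G) := by
    rw [orderOf_one]
    exact hp.out.one_lt.ne' ∘ Nat.dvd_one.mp
  have horth : ∀ x : P, x ≠ 1 →
      ∑ χ : Cfsg.IrrCharacter G,
        (if χ ∈ Cfsg.blockOf M (χ₀ : G → ℂ) then
          (χ : G → ℂ) 1 * conj ((χ : G → ℂ) (x : G)) else 0) = 0 := by
    intro x hx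
    rw [← h7_finsum_mem_fintype]
    apply h7_weak_block_orth hM χ₀ 1 (x : G) h1reg
    obtain ⟨k, hk⟩ := (IsPGroup.iff_orderOf.mp hP) x
    rw [Subgroup.orderOf_coe, hk]
    cases k with
    | zero =>
      exfalso
      rw [pow_zero, orderOf_eq_one_iff] at hk
      exact hx hk
    | succ k => exact dvd_pow_self p (Nat.succ_ne_zero k)
  set T : ℂ := ∑ x : P, (ζ : P → ℂ) x * ∑ χ : Cfsg.IrrCharacter G,
      (if χ ∈ Cfsg.blockOf M (χ₀ : G → ℂ) then
        (χ : G → ℂ) 1 * conj ((χ : G → ℂ) (x : G)) else 0) with hT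
  have hTa : T = (ζ : P → ℂ) 1 * ∑ χ : Cfsg.IrrCharacter G,
      (if χ ∈ Cfsg.blockOf M (χ₀ : G → ℂ) then
        (χ : G → ℂ) 1 * conj ((χ : G → ℂ) 1) else 0) := by
    rw [hT, Finset.sum_eq_single (1 : P)]
    · rw [Subgroup.coe_one]
    · intro x _ hx
      rw [horth x hx, mul_zero]
    · intro h
      exact absurd (Finset.mem_univ _) h
  rw [← hTa, hT]
  simp only [Finset.mul_sum]
  rw [Finset.sum_comm]
  refine Finset.sum_congr rfl fun χ _ => ?_
  by_cases hχ : χ ∈ Cfsg.blockOf M (χ₀ : G → ℂ)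
  · simp only [if_pos hχ]
    rw [map_sum, Finset.mul_sum]
    refine Finset.sum_congr rfl fun x _ => ?_
    rw [map_mul, Complex.conj_conj]
    ring
  · simp only [if_neg hχ, mul_zero, Finset.sum_const_zero]

/-- for `θ` over `ζ` with `θ|_P` a multiple of `ζ`: the restricted inner sum -/
theorem ncp_res_sum [Fintype G] (P : Subgroup G) [Fintype P]
    (hG : P ⊔ Subgroup.centralizer (P : Set G) = ⊤)
    (θ : Cfsg.IrrCharacter G) (ζ : Cfsg.IrrCharacter P)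
    (hζ : Cfsg.classInner (fun u : P => (θ : G → ℂ) u) (ζ : P → ℂ) ≠ 0) :
    ∑ x : P, (θ : G → ℂ) (x : G) * conj ((ζ : P → ℂ) x) =
      (Nat.card P : ℂ) * (θ : G → ℂ) 1 / (ζ : P → ℂ) 1 := by
  classical
  have hζ1 := irr_one_ne_zero ζ
  have h1mem : (1 : G) ∈ Subgroup.centralizer (P : Set G) := Subgroup.one_mem _
  have hval : ∀ x : P, (θ : G → ℂ) (x : G) = (ζ : P → ℂ) x * (θ : G → ℂ) 1 / (ζ : P → ℂ) 1 := by
    intro x
    have := ncp_res_formula P hG θ ζ hζ x 1 h1mem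
    rwa [mul_one] at this
  have hnorm : ∑ x : P, (ζ : P → ℂ) x * conj ((ζ : P → ℂ) x) = (Nat.card P : ℂ) := by
    have h := irr_classInner ζ ζ
    rw [if_pos rfl] at h
    unfold Cfsg.classInner at h
    have hne : (Nat.card P : ℂ) ≠ 0 := by exact_mod_cast Nat.card_pos.ne'
    field_simp at h
    exact h
  calc ∑ x : P, (θ : G → ℂ) (x : G) * conj ((ζ : P → ℂ) x)
      = ∑ x : P, ((θ : G → ℂ) 1 / (ζ : P → ℂ) 1) *
          ((ζ : P → ℂ) x * conj ((ζ : P → ℂ) x)) := by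
        refine Finset.sum_congr rfl fun x _ => ?_
        rw [hval x]
        ring
    _ = (Nat.card P : ℂ) * (θ : G → ℂ) 1 / (ζ : P → ℂ) 1 := by
        rw [← Finset.mul_sum, hnorm]
        ring

/-- degree formula: a member of the block over `ζ` has degree `ζ(1)` times the degree of the
canonical character -/
theorem ncp_degree [Fintype G] [Fintype (Cfsg.IrrCharacter G)] (p : ℕ) [hp : Fact p.Prime]
    (M : Ideal Cfsg.AlgInt)
    (hM : Cfsg.IsPModular p M) (P : Subgroup G) [Fintype P] (hP : IsPGroup p P)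
    (hG : P ⊔ Subgroup.centralizer (P : Set G) = ⊤) (B : Set (Cfsg.IrrCharacter G))
    (hB : Cfsg.IsPBlock M B) (hD : Cfsg.IsDefectGroup p M B P)
    (χ : Cfsg.IrrCharacter G) (hχ : χ ∈ B) (hχk : ∀ y ∈ P, (χ : G → ℂ) y = (χ : G → ℂ) 1)
    (θ : Cfsg.IrrCharacter G) (hθ : θ ∈ B) (ζ : Cfsg.IrrCharacter P)
    (hζ : Cfsg.classInner (fun u : P => (θ : G → ℂ) u) (ζ : P → ℂ) ≠ 0) :
    (θ : G → ℂ) 1 = (ζ : P → ℂ) 1 * (χ : G → ℂ) 1 := by
  classical
  have hPr := hM.2.1.isPrime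
  have hcardne : (Nat.card P : ℂ) ≠ 0 := by exact_mod_cast Nat.card_pos.ne'
  -- the key identity for a member over a character of P
  have hkey : ∀ (θ' : Cfsg.IrrCharacter G) (hθ' : θ' ∈ B) (ζ' : Cfsg.IrrCharacter P)
      (hζ' : Cfsg.classInner (fun u : P => (θ' : G → ℂ) u) (ζ' : P → ℂ) ≠ 0)
      (χ₀ : Cfsg.IrrCharacter G) (hχ₀ : B = Cfsg.blockOf M (χ₀ : G → ℂ)),
      (θ' : G → ℂ) 1 * conj ((Nat.card P : ℂ) * (θ' : G → ℂ) 1 / (ζ' : P → ℂ) 1) =
      (ζ' : P → ℂ) 1 * ∑ χ' : Cfsg.IrrCharacter G,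
        (if χ' ∈ Cfsg.blockOf M (χ₀ : G → ℂ) then
          (χ' : G → ℂ) 1 * conj ((χ' : G → ℂ) 1) else 0) := by
    intro θ' hθ' ζ' hζ' χ₀ hχ₀
    rw [← ncp_sum_id hM P hP χ₀ ζ', Finset.sum_eq_single θ']
    · rw [if_pos (hχ₀ ▸ hθ'), ncp_res_sum P hG θ' ζ' hζ']
    · intro χ' _ hne
      by_cases hχ' : χ' ∈ Cfsg.blockOf M (χ₀ : G → ℂ)
      · rw [if_pos hχ']
        have h0 : Cfsg.classInner (fun u : P => (χ' : G → ℂ) u) (ζ' : P → ℂ) = 0 := by
          by_contra hcon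
          exact hne (ncp_inj p M hM P hP hG B hB hD θ' χ' hθ' (hχ₀ ▸ hχ') ζ' hζ' hcon)
        unfold Cfsg.classInner at h0
        have h2 := (mul_eq_zero.mp h0).resolve_left (inv_ne_zero hcardne)
        rw [h2, map_zero, mul_zero]
      · rw [if_neg hχ']
    · intro h
      exact absurd (Finset.mem_univ _) h
  obtain ⟨χ₀, hχ₀⟩ := hB
  -- χ lies over the trivial character of P
  have hχtriv : Cfsg.classInner (fun u : P => (χ : G → ℂ) u) ((trivIrr P : Cfsg.IrrCharacter P) : P → ℂ)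
      ≠ 0 := by
    unfold Cfsg.classInner
    have h1 : ∑ g : P, (fun u : P => (χ : G → ℂ) u) g * conj ((trivIrr P : P → ℂ) g) =
        (Nat.card P : ℂ) * (χ : G → ℂ) 1 := by
      simp only [trivIrr_apply, map_one, mul_one]
      rw [Finset.sum_congr rfl (fun (x : P) _ => hχk (x : G) x.2), Finset.sum_const,
        Finset.card_univ, nsmul_eq_mul, Nat.card_eq_fintype_card]
    rw [h1]
    exact mul_ne_zero (inv_ne_zero hcardne) (mul_ne_zero hcardne (irr_one_ne_zero χ))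
  have k1 := hkey θ hθ ζ hζ χ₀ hχ₀
  have k2 := hkey χ hχ (trivIrr P) hχtriv χ₀ hχ₀
  rw [trivIrr_apply, one_mul, div_one] at k2
  rw [← k2] at k1
  obtain ⟨a, ha0, ha⟩ := irr_one_eq_finrank θ
  obtain ⟨b, hb0, hb⟩ := irr_one_eq_finrank ζ
  obtain ⟨c, hc0, hc⟩ := irr_one_eq_finrank χ
  rw [ha, hb, hc] at k1 ⊢
  simp only [map_mul, map_div₀, Complex.conj_natCast] at k1
  have hbne : (b : ℂ) ≠ 0 := by exact_mod_cast hb0.ne'
  rw [← mul_div_assoc, div_eq_iff hbne] at k1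
  have k3 : ((a * a : ℕ) : ℂ) = ((b * c * (b * c) : ℕ) : ℂ) := by
    push_cast
    have := mul_left_cancel₀ hcardne (by linear_combination k1 :
      (Nat.card P : ℂ) * ((a : ℂ) * a) = (Nat.card P : ℂ) * ((b : ℂ) * c * (b * c)))
    exact this
  have k4 : a * a = b * c * (b * c) := by exact_mod_cast k3
  have k5 : a = b * c := Nat.mul_self_inj.mp k4
  rw [k5]
  push_cast
  ring

/-- the values of a member of the block lying over `ζ` -/
theorem ncp_values [Fintype G] [Fintype (Cfsg.IrrCharacter G)] (p : ℕ) [hp : Fact p.Prime]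
    (M : Ideal Cfsg.AlgInt)
    (hM : Cfsg.IsPModular p M) (D : Subgroup G) [Fintype D] (hD : IsPGroup p D)
    (hG : D ⊔ Subgroup.centralizer (D : Set G) = ⊤) (B : Set (Cfsg.IrrCharacter G))
    (hB : Cfsg.IsPBlock M B) (hBD : Cfsg.IsDefectGroup p M B D)
    (χ : Cfsg.IrrCharacter G) (hχ : χ ∈ B) (hχD : ∀ y ∈ D, (χ : G → ℂ) y = (χ : G → ℂ) 1)
    (θ : Cfsg.IrrCharacter G) (hθ : θ ∈ B) (ζ : Cfsg.IrrCharacter D)
    (hζ : Cfsg.classInner (fun u : D => (θ : G → ℂ) u) (ζ : D → ℂ) ≠ 0) :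
    (∀ (y : D) (x : G), ¬ p ∣ orderOf x → Commute (y : G) x →
      (θ : G → ℂ) ((y : G) * x) = (ζ : D → ℂ) y * (χ : G → ℂ) x) ∧
    (∀ z : G, (∀ y : G, Cfsg.IsPPart p z y → y ∉ D) → (θ : G → ℂ) z = 0) := by
  classical
  have hPr := hM.2.1.isPrime
  haveI hDn : D.Normal := ncp_normal D hG
  have hdeg := ncp_degree p M hM D hD hG B hB hBD χ hχ hχD θ hθ ζ hζ
  obtain ⟨⟨θ₀, hθ₀B, hθ₀k, huniq⟩, -⟩ := ncp_canon p M hM D hD hG B hB hBD
  have hχθ₀ : χ = θ₀ := huniq χ hχ hχD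
  have hdef : ∀ D' : Subgroup G, Cfsg.IsDefectGroup p M B D' → D' = D :=
    fun D' hD' => ncp_defect_eq p M hM D hD B hB hBD D' hD'
  obtain ⟨χ₀, rfl⟩ := hB
  obtain ⟨c, hc⟩ := ncp_prop hM D hD hG χ₀ χ (hχθ₀ ▸ huniq) θ hθ
  have h1reg : ¬ p ∣ orderOf (1 : G) := by
    rw [orderOf_one]
    exact hp.out.one_lt.ne' ∘ Nat.dvd_one.mp
  have hζ1 := irr_one_ne_zero ζ
  have hχ1 := irr_one_ne_zero χ
  have hcval : c = (ζ : D → ℂ) 1 := by
    have h1 := hc 1 h1reg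
    rw [hdeg] at h1
    exact (mul_right_cancel₀ hχ1 h1).symm
  constructor
  · intro y x hx _
    have hxC := ncp_reg_mem p D hD hG x hx
    rw [ncp_res_formula D hG θ ζ hζ y x hxC, hc x hx, hcval]
    field_simp
  · intro z hz
    obtain ⟨r, u, hru, hcomm, hr, hu, -, -⟩ := pp_exists p hp.out z
    have hpp : Cfsg.IsPPart p z u := ⟨r, by rw [← hru, hcomm.eq], hcomm.symm, hu, hr⟩
    apply Cfsg.Agent.S0924.result p M hM θ z u hpp
    intro D' hD'
    rw [← h7_blockOf_eq_of_mem hPr χ₀ θ hθ] at hD'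
    rw [hdef D' hD']
    exact hz u hpp

/-- a character with the values of a member of the block belongs to the block -/
theorem ncp_mem_of_values [Fintype G] [Fintype (Cfsg.IrrCharacter G)] (p : ℕ)
    [hp : Fact p.Prime] (M : Ideal Cfsg.AlgInt)
    (hM : Cfsg.IsPModular p M) (D : Subgroup G) (B : Set (Cfsg.IrrCharacter G))
    (hB : Cfsg.IsPBlock M B)
    (χ : Cfsg.IrrCharacter G) (hχ : χ ∈ B)
    (θ : Cfsg.IrrCharacter G) (ζ : Cfsg.IrrCharacter D)
    (h1 : ∀ (y : D) (x : G), ¬ p ∣ orderOf x → Commute (y : G) x →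
      (θ : G → ℂ) ((y : G) * x) = (ζ : D → ℂ) y * (χ : G → ℂ) x) : θ ∈ B := by
  classical
  have hPr := hM.2.1.isPrime
  obtain ⟨χ₀, rfl⟩ := hB
  have h1reg : ¬ p ∣ orderOf (1 : G) := by
    rw [orderOf_one]
    exact hp.out.one_lt.ne' ∘ Nat.dvd_one.mp
  have hζ1 := irr_one_ne_zero ζ
  have hχ1 := irr_one_ne_zero χ
  have hval : ∀ x : G, ¬ p ∣ orderOf x → (θ : G → ℂ) x = (ζ : D → ℂ) 1 * (χ : G → ℂ) x := by
    intro x hx
    have := h1 1 x hx (by rw [Subgroup.coe_one]; exact Commute.one_left x)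
    rwa [Subgroup.coe_one, one_mul] at this
  apply cp_block_congr p M hM χ₀ χ θ _ hχ
  intro x hx
  have : Cfsg.centralChar (θ : G → ℂ) x - Cfsg.centralChar (χ : G → ℂ) x = 0 := by
    unfold Cfsg.centralChar
    rw [hval x hx, hval 1 h1reg]
    field_simp
    ring
  rw [this]
  exact h7_memLocalIdeal_zero hPr

end deg

end Cfsg.Agent.Lib.Helper26
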