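import Mathlib
import Cfsg.Agent.Lib.Helper18.OCT.Defs

set_option autoImplicit false

namespace Cfsg.Agent.Lib.Helper18.OCT

open Cfsg.Lie Matrix
open scoped MatrixGroups

section Z

variable {F : Type*} [Field F]

/-- Z2 [S]. -/
theorem one8_mul (x : Oct F) : zornMul one8 x = x ∧ zornMul x one8 = x := by
  constructor
  · ext i
    fin_cases i <;> simp [one8, zornMul, dot3, cross3, zA, zB]
  · ext i
    fin_cases i <;> simp [one8, zornMul, dot3, cross3, zA, zB]

end Z

end Cfsg.Agent.Lib.Helper18.OCT
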