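import Mathlib
import Cfsg.Agent.Lib.helper8.OME.Defs
import Cfsg.Agent.Lib.helper14.ODNEXMINUS

set_option autoImplicit false

/-!
# Project OME, row SQNEGM (helper26): `d` odd, `q ≡ 7 (mod 8)`: `Ω⁻_{2d}(q)` contains `x` with `x² = -1`
(= helper14's ODN row `odn_ex_minus`; `MI d` is an abbreviation of its index type).
-/

namespace Cfsg.Agent.Lib.helper8.OME

open Polynomial Module Cfsg.Agent.Lib.Helper13.S5955 Cfsg.Agent.Lib.helper15.S5972
  Cfsg.Agent.Lib.Helper18.OPE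

/-- SQNEGM [M] -/
theorem ome_sq_neg_ex {F : Type*} [Field F] [Fintype F] (d : ℕ) (hd : Odd d) (a b : F)
    (hab : ∀ x y : F, x ^ 2 + a * x * y + b * y ^ 2 = 0 → x = 0 ∧ y = 0)
    (hq : Fintype.card F % 8 = 7) :
    ∃ x : GL (MI d) F, x ∈ Cfsg.Geo.omegaGL (Cfsg.quadFormMinus (d - 1) F a b) ∧
      (x : Matrix (MI d) (MI d) F) * (x : Matrix (MI d) (MI d) F) = -1 :=
  Cfsg.Agent.Lib.Helper1.ODN.odn_ex_minus hq d hd a b hab

end Cfsg.Agent.Lib.helper8.OME
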