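import Mathlib
import Cfsg.Agent.Lib.Helper18.OPE.Defs2
import Cfsg.Agent.Lib.helper23.ONECNTcore

/-!
# OPE rows CNTM + CNTP (helper26), CORES: the double counts, with the statements of CM1 / CM2 / CNTP / CHI (resp. CP1 / CP2 / TSCNT) as hypotheses
(port of helper23's `onecntm_core` / `onecntp_core`; `onecnt_double`, `onecnt_prime_dvd` are reused from there).
-/

set_option autoImplicit false
set_option linter.unusedVariables false

namespace Cfsg.Agent.Lib.Helper18.OPE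

open Polynomial Module Cfsg.Agent.Lib.Helper13.S5955 Cfsg.Agent.Lib.helper15.S5972
open Cfsg.Agent.Lib.Helper18.ONE (onecnt_double onecnt_prime_dvd)

theorem opecntm_finite_sub {F : Type*} [Field F] [Fintype F] (d : ℕ) :
    Finite (Submodule F (Fin d ⊕ Fin d → F)) :=
  Finite.of_injective (fun W : Submodule F (Fin d ⊕ Fin d → F) =>
    (W : Set (Fin d ⊕ Fin d → F))) SetLike.coe_injective

/-- CNTM with the statements of CM1, CM2 (at `h = m / 2 ≥ 1`), CNTP (at `m - 2`) and CHI as hypotheses. -/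
theorem opecntm_core {F : Type*} [Field F] [Fintype F] {p : ℕ} [Fact p.Prime] [CharP F p]
    (d h : ℕ) (hh1 : 1 ≤ h) (hh : h < d) (r : ℕ) [Fact r.Prime] (hrp : r ≠ p) (i : ℕ)
    (hCM1 : ∃ N₁ : ℕ, 0 < N₁ ∧ ∀ W : ELL d (2 * h) F,
      Nat.card {W' : HYP d (2 * h - 2) F // W'.1 ≤ W.1} = N₁)
    (hCM2 : ∀ W' : HYP d (2 * h - 2) F,
      2 * (Fintype.card F + 1) * Nat.card {W : ELL d (2 * h) F // W'.1 ≤ W.1} =
        Fintype.card F ^ (2 * (d - h)) * (Fintype.card F ^ (d - h + 1) - 1) *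
          (Fintype.card F ^ (d - h) - 1))
    (hCNTP : r ∣ Nat.card (HYP d (2 * h - 2) F) → CH i d (h - 1))
    (hCHI : ∀ e : ℕ, 1 ≤ e → r ∣ Fintype.card F ^ e - 1 → i ∣ e)
    (hr : r ∣ Nat.card (ELL d (2 * h) F)) : CE i d h := by
  classical
  have hfin := opecntm_finite_sub (F := F) d
  have hrpr : r.Prime := Fact.out
  obtain ⟨N₁, -, hN₁⟩ := hCM1
  have hdc := onecnt_double (fun (W : ELL d (2 * h) F) (W' : HYP d (2 * h - 2) F) => W'.1 ≤ W.1)
    N₁ (2 * (Fintype.card F + 1)) _ hN₁ hCM2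
  have h1 : r ∣ Nat.card (HYP d (2 * h - 2) F) *
      (Fintype.card F ^ (2 * (d - h)) * (Fintype.card F ^ (d - h + 1) - 1) *
        (Fintype.card F ^ (d - h) - 1)) := by
    rw [← hdc]
    exact Dvd.dvd.mul_left (Dvd.dvd.mul_right hr N₁) _
  rcases (Nat.Prime.dvd_mul hrpr).mp h1 with h2 | h2
  · exact Or.inl (hCNTP h2)
  · rcases (Nat.Prime.dvd_mul hrpr).mp h2 with h3 | h3
    · have h4 : r ∣ (Fintype.card F ^ (d - h + 1) - 1) * Fintype.card F ^ (2 * (d - h)) := by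
        rw [mul_comm]; exact h3
      have h5 := onecnt_prime_dvd (F := F) r hrp _ _ h4
      exact Or.inr (Or.inl (hCHI _ (by omega) h5))
    · exact Or.inr (Or.inr (hCHI _ (by omega) h3))

/-- CNTP with the statements of CP1, CP2 (at `h = m / 2`) and TSCNT as hypotheses. -/
theorem opecntm_cntpcore {F : Type*} [Field F] [Fintype F] {p : ℕ} [Fact p.Prime] [CharP F p]
    (d h : ℕ) (r : ℕ) [Fact r.Prime] (hrp : r ≠ p) (i : ℕ)
    (hCP1 : ∃ N : ℕ, 0 < N ∧ ∀ W : HYP d (2 * h) F,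
      Nat.card {U : Submodule F (Fin d ⊕ Fin d → F) //
        U ≤ W.1 ∧ Module.finrank F ↥U = h ∧ ∀ u ∈ U, Cfsg.quadFormPlus d F u = 0} = N)
    (hCP2 : ∀ U : Submodule F (Fin d ⊕ Fin d → F), Module.finrank F ↥U = h →
      (∀ u ∈ U, Cfsg.quadFormPlus d F u = 0) →
      Nat.card {W : HYP d (2 * h) F // U ≤ W.1} = Fintype.card F ^ (h * (2 * d - 2 * h)))
    (hTS : r ∣ Nat.card {U : Submodule F (Fin d ⊕ Fin d → F) //
      Module.finrank F ↥U = h ∧ ∀ u ∈ U, Cfsg.quadFormPlus d F u = 0} → CH i d h)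
    (hr : r ∣ Nat.card (HYP d (2 * h) F)) : CH i d h := by
  classical
  have hfin := opecntm_finite_sub (F := F) d
  obtain ⟨N, -, hN⟩ := hCP1
  have hN' : ∀ W : HYP d (2 * h) F,
      Nat.card {U : {U : Submodule F (Fin d ⊕ Fin d → F) //
        Module.finrank F ↥U = h ∧ ∀ u ∈ U, Cfsg.quadFormPlus d F u = 0} // U.1 ≤ W.1} = N := by
    intro W
    rw [← hN W]
    refine Nat.card_congr
      { toFun := fun U => ⟨U.1.1, U.2, U.1.2.1, U.1.2.2⟩
        invFun := fun U => ⟨⟨U.1, U.2.2.1, U.2.2.2⟩, U.2.1⟩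
        left_inv := fun _ => rfl
        right_inv := fun _ => rfl }
  have hK : ∀ U : {U : Submodule F (Fin d ⊕ Fin d → F) //
      Module.finrank F ↥U = h ∧ ∀ u ∈ U, Cfsg.quadFormPlus d F u = 0},
      1 * Nat.card {W : HYP d (2 * h) F // U.1 ≤ W.1} =
      Fintype.card F ^ (h * (2 * d - 2 * h)) := by
    intro U
    rw [one_mul]
    exact hCP2 U.1 U.2.1 U.2.2
  have hdc := onecnt_double (fun (W : HYP d (2 * h) F) (U : {U : Submodule F (Fin d ⊕ Fin d → F) //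
      Module.finrank F ↥U = h ∧ ∀ u ∈ U, Cfsg.quadFormPlus d F u = 0}) => U.1 ≤ W.1) N 1 _ hN' hK
  rw [one_mul] at hdc
  have h1 : r ∣ Nat.card {U : Submodule F (Fin d ⊕ Fin d → F) //
      Module.finrank F ↥U = h ∧ ∀ u ∈ U, Cfsg.quadFormPlus d F u = 0} *
      Fintype.card F ^ (h * (2 * d - 2 * h)) := by
    rw [← hdc]
    exact Dvd.dvd.mul_right hr N
  exact hTS (onecnt_prime_dvd (F := F) r hrp _ _ h1)

end Cfsg.Agent.Lib.Helper18.OPE
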