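import Mathlib
import Cfsg.Agent.Lib.Helper18.OPE.Defs2
import Cfsg.Agent.Lib.Helper26.OPECNTMcore
import Cfsg.Agent.Lib.Helper21.OPECM1
import Cfsg.Agent.Lib.helper23.OPECNTP
import Cfsg.Agent.Lib.Helper29.OPECHI
import Cfsg.Agent.Lib.helper2.OPECM2core
import Cfsg.Agent.Lib.helper17.OPEQTYSUM
import Cfsg.Agent.Lib.helper17.OPEQCTXO
import Cfsg.Agent.Lib.helper17.OPEQTYCLASS
import Cfsg.Agent.Lib.Helper24.OPESTDCTX
import Cfsg.Agent.Lib.Helper24.OPEFROZEN
import Cfsg.Agent.Lib.Helper11.OPEAP3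

set_option autoImplicit false

/-!
# Project OPE, row CNTM (helper26): `ell_count_ce`, verbatim.
-/

namespace Cfsg.Agent.Lib.Helper18.OPE

open Polynomial Module Cfsg.Agent.Lib.Helper13.S5955 Cfsg.Agent.Lib.helper15.S5972
open scoped Matrix

/-- the statement of CM2 `ap_count` (helper2's one-term wrapper of `opecm2_core`), under a private name so that this file does not wait
for the verbatim CM2 row -/
theorem opecntm_ap_count {F : Type*} [Field F] [Fintype F] (d h : ℕ) (hh1 : 1 ≤ h) (hh : h < d)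
    (W' : HYP d (2 * h - 2) F) :
    2 * (Fintype.card F + 1) * Nat.card {W : ELL d (2 * h) F // W'.1 ≤ W.1} =
      Fintype.card F ^ (2 * (d - h)) * (Fintype.card F ^ (d - h + 1) - 1) *
        (Fintype.card F ^ (d - h) - 1) :=
  opecm2_core d h hh1 hh W' (std_facts d) (fun m hme W => frozen_iff d m hme W)
    (fun W₁ W₂ h₁ h₂ ho he₁ he₂ s₁ s₂ hs₁ hs₂ =>
      qty_sum (Cfsg.Agent.Lib.Helper16.qfPlus d F) W₁ W₂ h₁ h₂ ho he₁ he₂ s₁ s₂ hs₁ hs₂)
    (fun W hW hev => (qty_iff (Cfsg.Agent.Lib.Helper16.qfPlus d F) W hW hev).2.2)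
    (fun W h1 h2 => qty_uniq (Cfsg.Agent.Lib.Helper16.qfPlus d F) W h1 h2)
    (fun N a hN ha hdim hty => ap_planes (Cfsg.Agent.Lib.Helper16.qfPlus d F) N hN a ha hdim hty)

/-- CNTM [M-L] -/
theorem ell_count_ce {F : Type*} [Field F] [Fintype F] {p : ℕ} [Fact p.Prime] [CharP F p]
    (d m : ℕ) (hm : 2 ≤ m) (hme : Even m) (hmd : m < d) (r : ℕ) [Fact r.Prime] (hrp : r ≠ p)
    (hr2 : r ≠ 2) (i : ℕ) (hi : i = orderOf ((Fintype.card F : ℕ) : ZMod r))
    (hr : r ∣ Nat.card (ELL d m F)) : CE i d (m / 2) := by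
  obtain ⟨h, hmh⟩ := hme
  have hm2 : m = 2 * h := by omega
  subst hm2
  have e : 2 * h / 2 = h := by omega
  rw [e]
  have hh1 : 1 ≤ h := by omega
  refine opecntm_core d h hh1 (by omega) r hrp i (ell_sub_const d h hh1)
    (fun W' => opecntm_ap_count d h hh1 (by omega) W') (fun h2 => ?_)
    (fun e he => (ch_of_dvd (Fintype.card F) r hr2 Fintype.card_pos i hi e he).1) hr
  have h3 := hyp_count_ch d (2 * h - 2) ⟨h - 1, by omega⟩ (by omega) r hrp hr2 i hi h2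
  have e2 : (2 * h - 2) / 2 = h - 1 := by omega
  rw [e2] at h3
  exact h3

end Cfsg.Agent.Lib.Helper18.OPE
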