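import Mathlib
import Cfsg.Agent.Lib.Helper13.OTS.Defs
import Cfsg.Agent.Lib.Helper26.OTSTWONECMcore
import Cfsg.Agent.Lib.helper14.ODNEXMINUS
import Cfsg.Agent.Lib.Helper27.OTSNEGEVEN

/-!
# OTS row TWONECM (helper26): `q_two_nec_minus_std`, VERBATIM (= `otstwonecm_core` + helper14's `odn_ex_minus` + helper27's `q_neg_even`).
-/

set_option autoImplicit false

namespace Cfsg.Agent.Lib.Helper13.OTS

open Polynomial Module Cfsg.Agent.Lib.Helper13.S5955 Cfsg.Agent.Lib.helper15.S5972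

/-- TWONECM [M]: `ε = -1`, necessity for `r = 2` on the standard minus space.  (If `d`, `m` are odd and `q % 8 = 7`: helper1's ODN row `odn_ex_minus` gives `x ∈ Ω`, `x² = -1`, not scalar; `hall` gives an invariant `W` of odd dimension; NEGEVEN
(`-1` a non-square as `q % 4 = 3`).) -/
theorem q_two_nec_minus_std {F : Type*} [Field F] [Fintype F] (d : ℕ) (hd : 4 ≤ d) (m : ℕ)
    (a b : F) (hab : ∀ x y : F, x ^ 2 + a * x * y + b * y ^ 2 = 0 → x = 0 ∧ y = 0)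
    (hall : ∀ x : GL ((Fin (d - 1) ⊕ Fin (d - 1)) ⊕ Fin 2) F,
      x ∈ Cfsg.Geo.omegaGL (Cfsg.quadFormMinus (d - 1) F a b) →
      (∃ z : F, ((x ^ 2 : GL ((Fin (d - 1) ⊕ Fin (d - 1)) ⊕ Fin 2) F) :
        Matrix ((Fin (d - 1) ⊕ Fin (d - 1)) ⊕ Fin 2) ((Fin (d - 1) ⊕ Fin (d - 1)) ⊕ Fin 2) F) =
        z • (1 : Matrix ((Fin (d - 1) ⊕ Fin (d - 1)) ⊕ Fin 2) ((Fin (d - 1) ⊕ Fin (d - 1)) ⊕ Fin 2) F)) →
      (∀ z : F, (x : Matrix ((Fin (d - 1) ⊕ Fin (d - 1)) ⊕ Fin 2) ((Fin (d - 1) ⊕ Fin (d - 1)) ⊕ Fin 2) F) ≠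
        z • (1 : Matrix ((Fin (d - 1) ⊕ Fin (d - 1)) ⊕ Fin 2) ((Fin (d - 1) ⊕ Fin (d - 1)) ⊕ Fin 2) F)) →
      ∃ W : Submodule F ((Fin (d - 1) ⊕ Fin (d - 1)) ⊕ Fin 2 → F), finrank F W = m ∧
        (∀ w ∈ W, Cfsg.quadFormMinus (d - 1) F a b w = 0) ∧
        W.map (Matrix.toLin' (x : Matrix ((Fin (d - 1) ⊕ Fin (d - 1)) ⊕ Fin 2)
          ((Fin (d - 1) ⊕ Fin (d - 1)) ⊕ Fin 2) F)) ≤ W) :
    Even d ∨ Even m ∨ Fintype.card F % 8 ≠ 7 :=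
  otstwonecm_core d hd m a b hab
    (fun hq hdo => Cfsg.Agent.Lib.Helper1.ODN.odn_ex_minus hq d hdo a b hab)
    (fun hns x hx W hW => q_neg_even hns x hx W hW) hall

end Cfsg.Agent.Lib.Helper13.OTS
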