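import Cfsg.Agent.Lib.Helper26.WeakTI

set_option autoImplicit false

namespace Cfsg.Agent.Lib.Helper26

open Cfsg Cfsg.Agent.S5013 Cfsg.Agent.S5014 Cfsg.Agent.S5029
open scoped commutatorElement

variable {G : Type*} [Group G] {S : Set (Subgroup G)}

/-- In a rank one pair `(C, D)` the conjugate of `D` by a non-identity element of `C` is a rank
one partner of `D`. -/
theorem om_conj_partner {C D : Subgroup G} (h : Cfsg.IsRankOnePair C D) {x : G} (hx : x ∈ C)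
    (hx1 : x ≠ 1) : Cfsg.IsRankOnePair D (Cfsg.conjBy D x) := by
  obtain ⟨δ, hδ, -, hδe⟩ := rankOne_exists_left h hx hx1
  have h1 := rankOnePair_conj (Cfsg.RankOnePair_symm h) δ
  rw [conjBy_eq_of_mem_normalizer (Subgroup.le_normalizer hδ), hδe] at h1
  exact h1

/-- `omLe S P Q`: every rank one partner of `P` in `S` is a rank one partner of `Q`. -/
def omLe (S : Set (Subgroup G)) (P Q : Subgroup G) : Prop :=
  Cfsg.rankOnePartners S P ⊆ Cfsg.rankOnePartners S Q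

theorem omLe_conj (hS : Cfsg.IsRootSubgroupSet S) {P Q : Subgroup G} (h : omLe S P Q) (g : G) :
    omLe S (Cfsg.conjBy P g) (Cfsg.conjBy Q g) := by
  intro B hB
  have h1 : Cfsg.conjBy B g⁻¹ ∈ Cfsg.rankOnePartners S P := by
    refine ⟨hS.conj_mem B hB.1 g⁻¹, ?_⟩
    have h2 := rankOnePair_conj hB.2 g⁻¹
    rw [conjBy_inv_conjBy] at h2
    exact h2
  have h2 := h h1
  refine ⟨hB.1, ?_⟩
  have h3 := rankOnePair_conj h2.2 g
  rw [conjBy_conjBy_inv] at h3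
  exact h3

theorem omLe_trans {P Q R : Subgroup G} (h1 : omLe S P Q) (h2 : omLe S Q R) : omLe S P R :=
  Set.Subset.trans h1 h2

/-- **Monoid trick.** If `A, C ∈ S` commute, every rank one partner of `A` is one of `C`, and
`A` has a rank one partner, then every rank one partner of `C` is one of `A`. -/
theorem om_main (hS : Cfsg.IsRootSubgroupSet S) {A C D : Subgroup G}
    (hAC : CommWith A C) (hle : omLe S A C) (hD : D ∈ Cfsg.rankOnePartners S A) :
    omLe S C A := by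
  have hDC : D ∈ Cfsg.rankOnePartners S C := hle hD
  obtain ⟨d, hd, hd1⟩ := exists_ne_one_of_ne_bot (hS.ne_bot D hD.1)
  obtain ⟨a, ha, ha1, hae⟩ := rankOne_exists_right hD.2 hd hd1
  obtain ⟨c, hc, hc1, hce⟩ := rankOne_exists_right hDC.2 hd hd1
  -- first element of the monoid
  have hA1 : Cfsg.conjBy A (a⁻¹ * d) = D := by
    rw [← conjBy_conjBy, ← hae, conjBy_inv_conjBy]
  have hC1 : Cfsg.conjBy C (a⁻¹ * d) = Cfsg.conjBy D (a⁻¹ * c) := by
    rw [← conjBy_conjBy, ← hce, conjBy_conjBy]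
  have hP1 : omLe S D (Cfsg.conjBy D (a⁻¹ * c)) := by
    have h1 := omLe_conj hS hle (a⁻¹ * d)
    rw [hA1, hC1] at h1
    exact h1
  -- second element of the monoid
  have ha1' : a⁻¹ ≠ 1 := inv_ne_one.mpr ha1
  obtain ⟨d', hd', hd'1, hd'e⟩ := rankOne_exists_left hD.2 (A.inv_mem ha) ha1'
  obtain ⟨c', hc', hc'1, hc'e⟩ := rankOne_exists_right hDC.2 hd' hd'1
  have hA2 : Cfsg.conjBy A (a * d') = D := by
    rw [← conjBy_conjBy, hd'e, conjBy_conjBy_inv]
  have hC2 : Cfsg.conjBy C (a * d') = Cfsg.conjBy D (a * c') := by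
    rw [← conjBy_conjBy, ← hc'e, conjBy_conjBy]
  have hP2 : omLe S D (Cfsg.conjBy D (a * c')) := by
    have h1 := omLe_conj hS hle (a * d')
    rw [hA2, hC2] at h1
    exact h1
  -- the product lies in `C`
  have hP12 : omLe S D (Cfsg.conjBy D (c * c')) := by
    have h1 := omLe_conj hS hP2 (a⁻¹ * c)
    rw [conjBy_conjBy] at h1
    have e : a⁻¹ * c * (a * c') = c * c' := by
      have h2 : a * c = c * a := hAC a ha c hc
      calc a⁻¹ * c * (a * c') = a⁻¹ * (c * a) * c' := by group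
        _ = a⁻¹ * (a * c) * c' := by rw [h2]
        _ = c * c' := by group
    rw [e] at h1
    exact omLe_trans hP1 h1
  have hcc' : c * c' = 1 := by
    by_contra hne
    have h1 := om_conj_partner hDC.2 (C.mul_mem hc hc') hne
    have h2 : Cfsg.conjBy D (c * c') ∈ Cfsg.rankOnePartners S D :=
      ⟨hS.conj_mem D hD.1 _, h1⟩
    exact (hP12 h2).2.ne rfl
  have hc'eq : a * c' = (a⁻¹ * c)⁻¹ := by
    have h1 : c' = c⁻¹ := eq_inv_of_mul_eq_one_right hcc'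
    have h2 : a * c⁻¹ = c⁻¹ * a := by
      have h3 : Commute a c := hAC a ha c hc
      exact h3.inv_right.eq
    rw [h1, h2]
    group
  rw [hc'eq] at hP2
  have hP3 : omLe S (Cfsg.conjBy D (a⁻¹ * c)) D := by
    have h1 := omLe_conj hS hP2 (a⁻¹ * c)
    rw [conjBy_conjBy, mul_inv_cancel, conjBy_one] at h1
    exact h1
  have h4 := omLe_conj hS hP3 (a⁻¹ * d)⁻¹
  rw [← hC1, ← hA1, conjBy_inv_conjBy, conjBy_inv_conjBy] at h4
  exact h4

/-- If `C` commutes with `A` and with `⁅A, D⁆ ∈ S` (commutator case for `A, D`), then `C, D` is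
not a rank one pair. -/
theorem om_not_rankOne (hS : Cfsg.IsRootSubgroupSet S) {A C D : Subgroup G}
    (hcc : Cfsg.RootCommutatorCase S A D) (hCA : CommWith C A) (hCE : CommWith C ⁅A, D⁆) :
    ¬ Cfsg.IsRankOnePair C D := by
  intro h
  obtain ⟨c, hc, hc1⟩ := ne_bot_left h
  obtain ⟨d, hd, hd1, hde⟩ := rankOne_exists_left h hc hc1
  apply hS.ne_bot _ hcc.1
  rw [Subgroup.commutator_eq_bot_iff_le_centralizer]
  intro a ha
  rw [Subgroup.mem_centralizer_iff]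
  intro δ' hδ'
  -- `δ := d δ' d⁻¹ ∈ D`
  have hδ : d * δ' * d⁻¹ ∈ D := D.mul_mem (D.mul_mem hd hδ') (D.inv_mem hd)
  -- `c δ c⁻¹ = d γ d⁻¹` with `γ ∈ C`
  have h1 : c * (d * δ' * d⁻¹) * c⁻¹ ∈ Cfsg.conjBy C d := by
    rw [hde]
    exact mem_conjBy_of_mem hδ c
  rw [mem_conjBy_iff] at h1
  set γ := d⁻¹ * (c * (d * δ' * d⁻¹) * c⁻¹) * d with hγ
  have hγa : γ * a = a * γ := hCA γ h1 a ha
  -- `c` commutes with `d a d⁻¹`
  have h2 : c * (d * a * d⁻¹) = (d * a * d⁻¹) * c := by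
    have h3 : d * a * d⁻¹ * a⁻¹ ∈ ⁅A, D⁆ := by
      have h4 : ⁅d, a⁆ ∈ ⁅D, A⁆ := Subgroup.commutator_mem_commutator hd ha
      rw [Subgroup.commutator_comm, commutatorElement_def] at h4
      exact h4
    have h5 := hCE c hc _ h3
    have h6 := hCA c hc a ha
    calc c * (d * a * d⁻¹) = c * (d * a * d⁻¹ * a⁻¹) * a := by group
      _ = (d * a * d⁻¹ * a⁻¹) * c * a := by rw [h5]
      _ = (d * a * d⁻¹ * a⁻¹) * (c * a) := by group
      _ = (d * a * d⁻¹ * a⁻¹) * (a * c) := by rw [h6]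
      _ = (d * a * d⁻¹) * c := by group
  -- now compute
  have h7 : (d * a * d⁻¹) * (c * (d * δ' * d⁻¹) * c⁻¹) =
      (c * (d * δ' * d⁻¹) * c⁻¹) * (d * a * d⁻¹) := by
    have e1 : c * (d * δ' * d⁻¹) * c⁻¹ = d * γ * d⁻¹ := by rw [hγ]; group
    rw [e1]
    calc d * a * d⁻¹ * (d * γ * d⁻¹) = d * (a * γ) * d⁻¹ := by group
      _ = d * (γ * a) * d⁻¹ := by rw [hγa]
      _ = d * γ * d⁻¹ * (d * a * d⁻¹) := by group
  have h8 : (d * a * d⁻¹) * (d * δ' * d⁻¹) = (d * δ' * d⁻¹) * (d * a * d⁻¹) := by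
    have h9 : c⁻¹ * (d * a * d⁻¹) = (d * a * d⁻¹) * c⁻¹ := by
      have hc' : Commute c (d * a * d⁻¹) := h2
      exact hc'.inv_left.eq
    calc d * a * d⁻¹ * (d * δ' * d⁻¹)
        = c⁻¹ * (c * (d * a * d⁻¹)) * (d * δ' * d⁻¹) := by group
      _ = c⁻¹ * ((d * a * d⁻¹) * c) * (d * δ' * d⁻¹) := by rw [h2]
      _ = c⁻¹ * ((d * a * d⁻¹) * (c * (d * δ' * d⁻¹) * c⁻¹)) * c := by group
      _ = c⁻¹ * ((c * (d * δ' * d⁻¹) * c⁻¹) * (d * a * d⁻¹)) * c := by rw [h7]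
      _ = (d * δ' * d⁻¹) * (c⁻¹ * (d * a * d⁻¹)) * c := by group
      _ = (d * δ' * d⁻¹) * ((d * a * d⁻¹) * c⁻¹) * c := by rw [h9]
      _ = (d * δ' * d⁻¹) * (d * a * d⁻¹) := by group
  have h10 : d * (a * δ') * d⁻¹ = d * (δ' * a) * d⁻¹ := by
    calc d * (a * δ') * d⁻¹ = (d * a * d⁻¹) * (d * δ' * d⁻¹) := by group
      _ = (d * δ' * d⁻¹) * (d * a * d⁻¹) := h8
      _ = d * (δ' * a) * d⁻¹ := by group
  exact (mul_left_cancel (mul_right_cancel h10)).symm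

end Cfsg.Agent.Lib.Helper26
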