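import Cfsg.Agent.Lib.Helper26.OppMono

set_option autoImplicit false

namespace Cfsg.Agent.Lib.Helper26

open Cfsg Cfsg.Agent.S5013 Cfsg.Agent.S5014 Cfsg.Agent.S5029
open scoped commutatorElement

variable {G : Type*} [Group G] {S : Set (Subgroup G)}

/-- On a line through `A` a rank one partner `B` of `A` is in the commutator case with at most
one point. -/
theorem om_special_unique (hS : Cfsg.IsRootSubgroupSet S)
    (hni : ∀ A ∈ S, ¬ Cfsg.IsIsolatedIn (Cfsg.FAdj S) S A) {A B₀ B P₁ P₂ : Subgroup G}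
    (hA : A ∈ S) (hB₀ : B₀ ∈ Cfsg.linePartners S A) (hB : B ∈ Cfsg.rankOnePartners S A)
    (hP₁ : P₁ ∈ Cfsg.membersIn S (A ⊔ B₀)) (hP₂ : P₂ ∈ Cfsg.membersIn S (A ⊔ B₀))
    (h₁ : Cfsg.RootCommutatorCase S B P₁) (h₂ : Cfsg.RootCommutatorCase S B P₂) : P₁ = P₂ := by
  obtain ⟨E₀, -, -, hCE, -, -, -, hmem⟩ := line_structure hS hni hA hB₀ hB
  have key : ∀ P ∈ Cfsg.membersIn S (A ⊔ B₀), Cfsg.RootCommutatorCase S B P → P = E₀ := by
    intro P hP hBP
    by_contra hne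
    rw [hmem] at hP
    rcases hP with ⟨f, hf, rfl⟩ | hP
    · have hfB : ∀ x ∈ B, f * x = x * f :=
        fun x hx => hCE.2.1 f hf x (Subgroup.mem_sup_left hx)
      have h3 := rankOnePair_conj hB.2 f
      rw [conjBy_eq_self_of_comm hfB] at h3
      exact not_rankOne_of_commutator_mem hS hB.1 hBP.1 (Cfsg.RankOnePair_symm h3)
    · exact hne hP
  rw [key P₁ hP₁ h₁, key P₂ hP₂ h₂]

/-- If `A, C` are in the commutator case and every rank one partner of `A` is one of `C`, then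
every rank one partner of `A` is in the commutator case with `⁅A, C⁆`. -/
theorem om_star (hS : Cfsg.IsRootSubgroupSet S)
    (hni : ∀ A ∈ S, ¬ Cfsg.IsIsolatedIn (Cfsg.FAdj S) S A) {A C B : Subgroup G} (hA : A ∈ S)
    (hC : C ∈ S) (hcc : Cfsg.RootCommutatorCase S A C) (hle : omLe S A C)
    (hB : B ∈ Cfsg.rankOnePartners S A) : Cfsg.RootCommutatorCase S B ⁅A, C⁆ := by
  have hcc' : Cfsg.RootCommutatorCase S C A := commutatorCase_symm hS hA hC hcc
  obtain ⟨hmem, -, hline, -⟩ := Cfsg.Agent.S5029.result hS (hni C hC) hC hA hcc'.1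
  have hEline : ⁅C, A⁆ ∈ Cfsg.linePartners S C := linePartners_symm hcc'.1 hline
  have hBC : B ∈ Cfsg.rankOnePartners S C := hle hB
  obtain ⟨P, hP, hBP⟩ := exists_commutatorCase_on_line hS hC hEline hBC
  rw [hmem] at hP
  rcases hP with ⟨a, ha, rfl⟩ | hP
  · exfalso
    have hPS : Cfsg.conjBy C a ∈ S := hS.conj_mem C hC a
    have h1 := commutatorCase_conj hS hB.1 hPS hBP a⁻¹
    rw [conjBy_inv_conjBy] at h1
    have h2 := rankOnePair_conj hB.2 a⁻¹
    rw [conjBy_eq_of_mem_normalizer (Subgroup.le_normalizer (A.inv_mem ha))] at h2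
    have h3 : Cfsg.conjBy B a⁻¹ ∈ Cfsg.rankOnePartners S A := ⟨hS.conj_mem B hB.1 a⁻¹, h2⟩
    have h4 := hle h3
    exact not_rankOne_of_commutator_mem hS h3.1 h1.1 (Cfsg.RankOnePair_symm h4.2)
  · rw [Set.mem_singleton_iff] at hP
    rw [hP, Subgroup.commutator_comm] at hBP
    exact hBP

/-- If every rank one partner of `A` is one of `C`, then `A, C` are not in the commutator
case. -/
theorem om_not_commutatorCase (hS : Cfsg.IsRootSubgroupSet S)
    (hni : ∀ A ∈ S, ¬ Cfsg.IsIsolatedIn (Cfsg.FAdj S) S A) {A C : Subgroup G} (hA : A ∈ S)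
    (hC : C ∈ S) (hle : omLe S A C) : ¬ Cfsg.RootCommutatorCase S A C := by
  intro hcc
  obtain ⟨B, hBS, hAB⟩ := Cfsg.Agent.S5028.exists_partner (hni A hA) hA
  have hB : B ∈ Cfsg.rankOnePartners S A := ⟨hBS, hAB⟩
  obtain ⟨hmem, -, hline, -⟩ := Cfsg.Agent.S5029.result hS (hni A hA) hA hC hcc.1
  have hEline : ⁅A, C⁆ ∈ Cfsg.linePartners S A := linePartners_symm hcc.1 hline
  have hAm : A ∈ Cfsg.membersIn S (A ⊔ ⁅A, C⁆) := ⟨hA, le_sup_left⟩
  have hEm : ⁅A, C⁆ ∈ Cfsg.membersIn S (A ⊔ ⁅A, C⁆) := ⟨hcc.1, le_sup_right⟩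
  obtain ⟨c, hc, hc1⟩ := exists_ne_one_of_ne_bot (hS.ne_bot C hC)
  have hQm : Cfsg.conjBy A c ∈ Cfsg.membersIn S (A ⊔ ⁅A, C⁆) := by
    rw [hmem]
    exact Or.inl ⟨c, hc, rfl⟩
  have hQA : Cfsg.conjBy A c ≠ A := cl_conjBy_ne hS hni hA hcc hc hc1
  have hAE : A ≠ ⁅A, C⁆ := by
    intro h
    have h1 := inf_commutator_eq_bot hS (hni A hA) hA hcc
    rw [← h, inf_idem] at h1
    exact hS.ne_bot A hA h1
  have hQE : Cfsg.conjBy A c ≠ ⁅A, C⁆ := by
    intro h
    have hcE : ∀ x ∈ ⁅A, C⁆, c⁻¹ * x = x * c⁻¹ := by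
      intro x hx
      have h1 := hcc.2.1 x hx c (Subgroup.mem_sup_right hc)
      have h2 : Commute x c := h1
      exact h2.inv_right.eq.symm
    have h2 := congrArg (fun K => Cfsg.conjBy K c⁻¹) h
    simp only [conjBy_inv_conjBy] at h2
    rw [conjBy_eq_self_of_comm hcE] at h2
    exact hAE h2
  obtain ⟨x, -, hxA, hxE⟩ := line_two_transitive hS hni hA hEline A hAm ⁅A, C⁆ hEm A hAm
    (Cfsg.conjBy A c) hQm hAE hQA.symm
  have hBE : Cfsg.RootCommutatorCase S B ⁅A, C⁆ := om_star hS hni hA hC hcc hle hB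
  have hB2 : Cfsg.conjBy B x ∈ Cfsg.rankOnePartners S A := by
    refine ⟨hS.conj_mem B hBS x, ?_⟩
    have h1 := rankOnePair_conj hAB x
    rw [hxA] at h1
    exact h1
  have h1 : Cfsg.RootCommutatorCase S (Cfsg.conjBy B x) ⁅A, C⁆ :=
    om_star hS hni hA hC hcc hle hB2
  have h2 : Cfsg.RootCommutatorCase S (Cfsg.conjBy B x) (Cfsg.conjBy A c) := by
    have h3 := commutatorCase_conj hS hBS hcc.1 hBE x
    rw [hxE] at h3
    exact h3
  exact hQE (om_special_unique hS hni hA hEline hB2 hEm hQm h1 h2).symm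

/-- In a non-degenerate class: if `C` commutes with all line partners of `A`, then no rank one
partner of `A` commutes with `C`. -/
theorem om_no_partner_commutes (hS : Cfsg.IsRootSubgroupClass S)
    (hnd : Cfsg.IsNondegenerateRootSet S) {A C B : Subgroup G} (hA : A ∈ S) (hC : C ∈ S)
    (hΛ : ∀ E ∈ Cfsg.linePartners S A, CommWith E C)
    (hB : B ∈ Cfsg.rankOnePartners S A) : ¬ CommWith B C := by
  intro hBC
  have hni : ∀ A ∈ S, ¬ Cfsg.IsIsolatedIn (Cfsg.FAdj S) S A :=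
    fun A hA => not_isolated_of_nondegenerate hS hnd hA
  have htop : (⊤ : Subgroup G) ≤ Subgroup.centralizer (C : Set G) := by
    rw [← lg_top hS hnd hA hB]
    apply sup_le
    · apply iSup₂_le
      intro E hE
      exact commWith_iff_le_centralizer.mp (hΛ E hE)
    · exact commWith_iff_le_centralizer.mp hBC
  obtain ⟨D, hDS, hCD⟩ := Cfsg.Agent.S5028.exists_partner (hni C hC) hC
  apply rankOne_not_commute hCD
  intro c hc d hd
  have h1 : d ∈ Subgroup.centralizer (C : Set G) := htop (Subgroup.mem_top d)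
  rw [Subgroup.mem_centralizer_iff] at h1
  exact h1 c hc

end Cfsg.Agent.Lib.Helper26
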