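import Cfsg.Agent.Lib.Helper26.OppMono2

set_option autoImplicit false

namespace Cfsg.Agent.Lib.Helper26

open Cfsg Cfsg.Agent.S5013 Cfsg.Agent.S5014 Cfsg.Agent.S5029
open scoped commutatorElement

variable {G : Type*} [Group G] {S : Set (Subgroup G)}

/-- On the commutator line `A ⊔ ⁅A, D⁆` some element fixes `A` and moves `⁅A, D⁆` to a conjugate
of `A` under `D`. -/
theorem om_line_move (hS : Cfsg.IsRootSubgroupSet S)
    (hni : ∀ A ∈ S, ¬ Cfsg.IsIsolatedIn (Cfsg.FAdj S) S A) {A D : Subgroup G} (hA : A ∈ S)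
    (hD : D ∈ S) (hcc : Cfsg.RootCommutatorCase S A D) :
    ∃ d ∈ D, ∃ x : G, Cfsg.conjBy A x = A ∧ Cfsg.conjBy ⁅A, D⁆ x = Cfsg.conjBy A d := by
  obtain ⟨hmem, -, hline, -⟩ := Cfsg.Agent.S5029.result hS (hni A hA) hA hD hcc.1
  have hEline : ⁅A, D⁆ ∈ Cfsg.linePartners S A := linePartners_symm hcc.1 hline
  have hAm : A ∈ Cfsg.membersIn S (A ⊔ ⁅A, D⁆) := ⟨hA, le_sup_left⟩
  have hEm : ⁅A, D⁆ ∈ Cfsg.membersIn S (A ⊔ ⁅A, D⁆) := ⟨hcc.1, le_sup_right⟩
  obtain ⟨c, hc, hc1⟩ := exists_ne_one_of_ne_bot (hS.ne_bot D hD)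
  have hQm : Cfsg.conjBy A c ∈ Cfsg.membersIn S (A ⊔ ⁅A, D⁆) := by
    rw [hmem]
    exact Or.inl ⟨c, hc, rfl⟩
  have hQA : Cfsg.conjBy A c ≠ A := cl_conjBy_ne hS hni hA hcc hc hc1
  have hAE : A ≠ ⁅A, D⁆ := by
    intro h
    have h1 := inf_commutator_eq_bot hS (hni A hA) hA hcc
    rw [← h, inf_idem] at h1
    exact hS.ne_bot A hA h1
  obtain ⟨x, -, hxA, hxE⟩ := line_two_transitive hS hni hA hEline A hAm ⁅A, D⁆ hEm A hAm
    (Cfsg.conjBy A c) hQm hAE hQA.symm
  exact ⟨c, hc, x, hxA, hxE⟩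

/-- Second part of the comparison lemma: if every rank one partner of `A` is one of `C ≠ A`,
then `A, C` commute and have the same rank one partners. -/
theorem om_part2 (hS : Cfsg.IsRootSubgroupClass S)
    (hdn : Cfsg.IsDegenerateRootSet S ∨ Cfsg.IsNondegenerateRootSet S) {A C : Subgroup G}
    (hA : A ∈ S) (hC : C ∈ S)
    (hle : Cfsg.rankOnePartners S A ⊆ Cfsg.rankOnePartners S C) :
    ⁅A, C⁆ = ⊥ ∧ Cfsg.rankOnePartners S A = Cfsg.rankOnePartners S C := by
  have hcomm : ⁅A, C⁆ = ⊥ := by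
    rcases hS.1.pair A hA C hC with h | h | h
    · exact h
    · exfalso
      have h1 : C ∈ Cfsg.rankOnePartners S A := ⟨hC, h⟩
      exact (hle h1).2.ne rfl
    · exfalso
      rcases hdn with hdeg | hnd
      · exact hdeg A hA C hC h
      · have hni : ∀ A ∈ S, ¬ Cfsg.IsIsolatedIn (Cfsg.FAdj S) S A :=
          fun A hA => not_isolated_of_nondegenerate hS hnd hA
        exact om_not_commutatorCase hS.1 hni hA hC hle h
  refine ⟨hcomm, Set.Subset.antisymm hle ?_⟩
  intro B hB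
  obtain ⟨g, hg⟩ := hS.2.2 C hC A hA
  have hD : Cfsg.conjBy B g ∈ Cfsg.rankOnePartners S A := by
    refine ⟨hS.1.conj_mem B hB.1 g, ?_⟩
    have h1 := rankOnePair_conj hB.2 g
    rw [← hg] at h1
    exact h1
  exact om_main hS.1 (commWith_of_commutator_eq_bot hcomm) hle hD hB

/-- In a non-degenerate class: if `A, C` have the same rank one partners, everything commuting
with `A` commutes with `C`, and `D` commutes with `C`, then `A, D` are not in the commutator
case. -/
theorem om_part1_cc (hS : Cfsg.IsRootSubgroupClass S) (hnd : Cfsg.IsNondegenerateRootSet S)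
    {A C D : Subgroup G} (hA : A ∈ S) (hD : D ∈ S)
    (hΩ : Cfsg.rankOnePartners S A = Cfsg.rankOnePartners S C) (hDC : CommWith D C) :
    ¬ Cfsg.RootCommutatorCase S A D := by
  intro hcc
  have hni : ∀ A ∈ S, ¬ Cfsg.IsIsolatedIn (Cfsg.FAdj S) S A :=
    fun A hA => not_isolated_of_nondegenerate hS hnd hA
  have key : ∀ B ∈ Cfsg.rankOnePartners S A, ∀ d ∈ D,
      ¬ Cfsg.RootCommutatorCase S B (Cfsg.conjBy A d) := by
    intro B hB d hd hBQ
    have h1 : B ∈ Cfsg.rankOnePartners S C := by rw [← hΩ]; exact hB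
    have hdC : ∀ x ∈ C, d⁻¹ * x = x * d⁻¹ := fun x hx => hDC d⁻¹ (D.inv_mem hd) x hx
    have h2 := rankOnePair_conj h1.2 d⁻¹
    rw [conjBy_eq_self_of_comm hdC] at h2
    have h3 : Cfsg.conjBy B d⁻¹ ∈ Cfsg.rankOnePartners S A := by
      rw [hΩ]
      exact ⟨hS.1.conj_mem B hB.1 d⁻¹, h2⟩
    have h4 := rankOnePair_conj h3.2 d
    rw [conjBy_conjBy_inv] at h4
    exact not_rankOne_of_commutator_mem hS.1 hB.1 hBQ.1 (Cfsg.RankOnePair_symm h4)
  obtain ⟨hmem, -, hline, -⟩ := Cfsg.Agent.S5029.result hS.1 (hni A hA) hA hD hcc.1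
  have hEline : ⁅A, D⁆ ∈ Cfsg.linePartners S A := linePartners_symm hcc.1 hline
  obtain ⟨B, hBS, hAB⟩ := Cfsg.Agent.S5028.exists_partner (hni A hA) hA
  have hB : B ∈ Cfsg.rankOnePartners S A := ⟨hBS, hAB⟩
  obtain ⟨P, hP, hBP⟩ := exists_commutatorCase_on_line hS.1 hA hEline hB
  rw [hmem] at hP
  rcases hP with ⟨d, hd, rfl⟩ | hP
  · exact key B hB d hd hBP
  · rw [Set.mem_singleton_iff] at hP
    rw [hP] at hBP
    obtain ⟨d, hd, x, hxA, hxE⟩ := om_line_move hS.1 hni hA hD hcc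
    have hB2 : Cfsg.conjBy B x ∈ Cfsg.rankOnePartners S A := by
      refine ⟨hS.1.conj_mem B hBS x, ?_⟩
      have h1 := rankOnePair_conj hAB x
      rw [hxA] at h1
      exact h1
    have h2 := commutatorCase_conj hS.1 hBS hcc.1 hBP x
    rw [hxE] at h2
    exact key _ hB2 d hd h2

/-- First part of the comparison lemma: if every member commuting with `A` commutes with
`C ≠ A`, then `A` and `C` have the same commuting members. -/
theorem om_part1 (hS : Cfsg.IsRootSubgroupClass S)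
    (hdn : Cfsg.IsDegenerateRootSet S ∨ Cfsg.IsNondegenerateRootSet S) {A C : Subgroup G}
    (hA : A ∈ S) (hC : C ∈ S)
    (hsub : Cfsg.centralizingMembers S A ⊆ Cfsg.centralizingMembers S C) :
    Cfsg.centralizingMembers S A = Cfsg.centralizingMembers S C := by
  have hAA : A ∈ Cfsg.centralizingMembers S A :=
    ⟨hA, commWith_iff_le_centralizer.mp (commOn_of_mem hS.1 hA)⟩
  have hAC : CommWith A C := commWith_iff_le_centralizer.mpr (hsub hAA).2
  have hle : Cfsg.rankOnePartners S C ⊆ Cfsg.rankOnePartners S A := by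
    intro B hB
    refine ⟨hB.1, ?_⟩
    rcases hS.1.pair A hA B hB.1 with h | h | h
    · exfalso
      have h1 : B ∈ Cfsg.centralizingMembers S A :=
        ⟨hB.1, commWith_iff_le_centralizer.mp (commWith_of_commutator_eq_bot h).symm⟩
      have h2 : CommWith B C := commWith_iff_le_centralizer.mpr (hsub h1).2
      exact rankOne_not_commute hB.2 (fun c hc b hb => (h2 b hb c hc).symm)
    · exact h
    · exfalso
      rcases hdn with hdeg | hnd
      · exact hdeg A hA B hB.1 h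
      · have hE : ⁅A, B⁆ ∈ Cfsg.centralizingMembers S A := by
          refine ⟨h.1, ?_⟩
          apply commWith_iff_le_centralizer.mp
          intro x hx a ha
          exact h.2.1 x hx a (Subgroup.mem_sup_left ha)
        have hCE : CommWith C ⁅A, B⁆ := (commWith_iff_le_centralizer.mpr (hsub hE).2).symm
        exact om_not_rankOne hS.1 h hAC.symm hCE hB.2
  have hΩ := (om_part2 hS hdn hC hA hle).2
  apply Set.Subset.antisymm hsub
  intro D hD
  refine ⟨hD.1, ?_⟩
  have hDC : CommWith D C := commWith_iff_le_centralizer.mpr hD.2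
  rcases hS.1.pair A hA D hD.1 with h | h | h
  · exact commWith_iff_le_centralizer.mp (commWith_of_commutator_eq_bot h).symm
  · exfalso
    have h1 : D ∈ Cfsg.rankOnePartners S C := by
      rw [hΩ]
      exact ⟨hD.1, h⟩
    exact rankOne_not_commute h1.2 (fun c hc d hd => (hDC d hd c hc).symm)
  · exfalso
    rcases hdn with hdeg | hnd
    · exact hdeg A hA D hD.1 h
    · exact om_part1_cc hS hnd hA hD.1 hΩ.symm hDC h

end Cfsg.Agent.Lib.Helper26
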