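import Cfsg.Agent.S5029
import Cfsg.Agent.S5024

set_option autoImplicit false

namespace Cfsg.Agent.Lib.Helper26

open Cfsg Cfsg.Agent.S5013 Cfsg.Agent.S5014 Cfsg.Agent.S5029
open scoped commutatorElement

variable {G : Type*} [Group G] {S : Set (Subgroup G)}

/-- The configuration `A, B, D ∈ S` with `C = ⁅A, B⁆ ∈ S` and `⁅D, C⁆ = A`. -/
structure Opp (S : Set (Subgroup G)) (A B D : Subgroup G) : Prop where
  hS : Cfsg.IsRootSubgroupSet S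
  hA : A ∈ S
  hB : B ∈ S
  hD : D ∈ S
  hC : ⁅A, B⁆ ∈ S
  hDC : ⁅D, ⁅A, B⁆⁆ = A

namespace Opp

variable {A B D : Subgroup G}

theorem ccAB (o : Opp S A B D) : Cfsg.RootCommutatorCase S A B :=
  commutatorCase_of_mem o.hS o.hA o.hB o.hC

theorem ccBA (o : Opp S A B D) : Cfsg.RootCommutatorCase S B A :=
  commutatorCase_of_mem o.hS o.hB o.hA (by rw [Subgroup.commutator_comm]; exact o.hC)

theorem ccDC (o : Opp S A B D) : Cfsg.RootCommutatorCase S D ⁅A, B⁆ :=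
  commutatorCase_of_mem o.hS o.hD o.hC (by rw [o.hDC]; exact o.hA)

theorem ccCD (o : Opp S A B D) : Cfsg.RootCommutatorCase S ⁅A, B⁆ D :=
  commutatorCase_of_mem o.hS o.hC o.hD (by rw [Subgroup.commutator_comm, o.hDC]; exact o.hA)

theorem comm_CA (o : Opp S A B D) {c a : G} (hc : c ∈ ⁅A, B⁆) (ha : a ∈ A) : c * a = a * c :=
  o.ccAB.2.1 c hc a (Subgroup.mem_sup_left ha)

theorem comm_CB (o : Opp S A B D) {c b : G} (hc : c ∈ ⁅A, B⁆) (hb : b ∈ B) : c * b = b * c :=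
  o.ccAB.2.1 c hc b (Subgroup.mem_sup_right hb)

theorem comm_AD (o : Opp S A B D) {a d : G} (ha : a ∈ A) (hd : d ∈ D) : a * d = d * a := by
  have h := o.ccDC.2.1 a (by rw [o.hDC]; exact ha) d (Subgroup.mem_sup_left hd)
  exact h

theorem comm_AA (o : Opp S A B D) {a a' : G} (ha : a ∈ A) (ha' : a' ∈ A) : a * a' = a' * a :=
  congrArg Subtype.val ((o.hS.commutative A o.hA).is_comm.comm ⟨a, ha⟩ ⟨a', ha'⟩)

theorem comm_CC (o : Opp S A B D) {c c' : G} (hc : c ∈ ⁅A, B⁆) (hc' : c' ∈ ⁅A, B⁆) :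
    c * c' = c' * c :=
  congrArg Subtype.val ((o.hS.commutative _ o.hC).is_comm.comm ⟨c, hc⟩ ⟨c', hc'⟩)

/-- `a⁻¹ b⁻¹ a b ∈ C`. -/
theorem mem_C (_o : Opp S A B D) {a b : G} (ha : a ∈ A) (hb : b ∈ B) :
    a⁻¹ * b⁻¹ * a * b ∈ ⁅A, B⁆ := by
  have := Subgroup.commutator_mem_commutator (A.inv_mem ha) (B.inv_mem hb)
  rw [commutatorElement_def, inv_inv, inv_inv] at this
  exact this

/-- `c⁻¹ d c d⁻¹ ∈ A`. -/
theorem mem_A (o : Opp S A B D) {c d : G} (hc : c ∈ ⁅A, B⁆) (hd : d ∈ D) :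
    c⁻¹ * d * c * d⁻¹ ∈ A := by
  have := Subgroup.commutator_mem_commutator (H₁ := ⁅A, B⁆) (H₂ := D) ((⁅A, B⁆).inv_mem hc) hd
  rw [commutatorElement_def, inv_inv, Subgroup.commutator_comm, o.hDC] at this
  exact this

/-- A nontrivial element of `B` does not centralize `A`. -/
theorem exists_not_comm_B (o : Opp S A B D) {b : G} (hb : b ∈ B) (hb1 : b ≠ 1) :
    ∃ a ∈ A, a * b ≠ b * a := by
  by_contra hcon
  push Not at hcon
  apply o.hS.ne_bot _ o.hC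
  rw [← o.ccAB.2.2.2 b hb hb1, Subgroup.closure_eq_bot_iff]
  rintro _ ⟨a, ha, rfl⟩
  rw [Set.mem_singleton_iff]
  show a * b * a⁻¹ * b⁻¹ = 1
  rw [hcon a ha]
  group

/-- A nontrivial element of `D` does not centralize `C`. -/
theorem exists_not_comm_D (o : Opp S A B D) {d : G} (hd : d ∈ D) (hd1 : d ≠ 1) :
    ∃ c ∈ ⁅A, B⁆, d * c ≠ c * d := by
  by_contra hcon
  push Not at hcon
  apply o.hS.ne_bot _ o.hA
  have h := o.ccDC.2.2.1 d hd hd1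
  rw [o.hDC] at h
  rw [← h, Subgroup.closure_eq_bot_iff]
  rintro _ ⟨c, hc, rfl⟩
  rw [Set.mem_singleton_iff]
  show d * c * d⁻¹ * c⁻¹ = 1
  rw [hcon c hc]
  group

/-- A nontrivial element of `C` does not centralize `D`. -/
theorem exists_not_comm_C (o : Opp S A B D) {c : G} (hc : c ∈ ⁅A, B⁆) (hc1 : c ≠ 1) :
    ∃ d ∈ D, d * c ≠ c * d := by
  by_contra hcon
  push Not at hcon
  apply o.hS.ne_bot _ o.hA
  have h := o.ccDC.2.2.2 c hc hc1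
  rw [o.hDC] at h
  rw [← h, Subgroup.closure_eq_bot_iff]
  rintro _ ⟨d, hd, rfl⟩
  rw [Set.mem_singleton_iff]
  show d * c * d⁻¹ * c⁻¹ = 1
  rw [hcon d hd]
  group

theorem inf_AC (o : Opp S A B D) : A ⊓ ⁅A, B⁆ = ⊥ := by
  rw [eq_bot_iff]
  rintro x ⟨hxA, hxC⟩
  rw [Subgroup.mem_bot]
  by_contra hx1
  apply o.hS.ne_bot _ o.hC
  rw [← o.ccAB.2.2.1 x hxA hx1, Subgroup.closure_eq_bot_iff]
  rintro _ ⟨b, hb, rfl⟩
  rw [Set.mem_singleton_iff]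
  show x * b * x⁻¹ * b⁻¹ = 1
  rw [o.comm_CB hxC hb]
  group

/-- For `b ≠ 1` in `B`, every element of `C` is `a⁻¹ b⁻¹ a b` for some `a ∈ A`. -/
theorem exists_A_of_C (o : Opp S A B D) {b : G} (hb : b ∈ B) (hb1 : b ≠ 1) {c : G}
    (hc : c ∈ ⁅A, B⁆) : ∃ a ∈ A, a⁻¹ * b⁻¹ * a * b = c := by
  have hr := commHom_range o.hS o.ccBA hb hb1
  have hc' : c⁻¹ ∈ (commHom o.hS o.ccBA hb).range := by
    rw [hr, Subgroup.commutator_comm]
    exact Subgroup.inv_mem _ hc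
  obtain ⟨a, ha⟩ := hc'
  rw [commHom_apply] at ha
  refine ⟨(a : G), a.2, ?_⟩
  have h1 : (a : G)⁻¹ * b⁻¹ * a * b = (b⁻¹ * (a : G)⁻¹ * b * a)⁻¹ := by group
  rw [h1, ha, inv_inv]

/-- For `d ≠ 1` in `D`, every element of `A` is `c⁻¹ d c d⁻¹` for some `c ∈ C`. -/
theorem exists_C_of_A (o : Opp S A B D) {d : G} (hd : d ∈ D) (hd1 : d ≠ 1) {a : G}
    (ha : a ∈ A) : ∃ c ∈ ⁅A, B⁆, c⁻¹ * d * c * d⁻¹ = a := by
  have hd1' : d⁻¹ ≠ 1 := fun h => hd1 (inv_eq_one.mp h)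
  have hr := commHom_range o.hS o.ccDC (D.inv_mem hd) hd1'
  have ha' : a ∈ (commHom o.hS o.ccDC (D.inv_mem hd)).range := by
    rw [hr, o.hDC]
    exact ha
  obtain ⟨c', hc'⟩ := ha'
  rw [commHom_apply, inv_inv] at hc'
  refine ⟨(c' : G)⁻¹, Subgroup.inv_mem _ c'.2, ?_⟩
  rw [inv_inv]
  have h1 : (c' : G) * d * (c' : G)⁻¹ * d⁻¹ = c' * (d * (c' : G)⁻¹ * d⁻¹ * c') * (c' : G)⁻¹ := by
    group
  rw [h1, hc']
  have h2 := o.comm_CA c'.2 ha
  rw [h2, mul_inv_cancel_right]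

/-- No commutator `b d b⁻¹ d⁻¹` with `b, d ≠ 1` can commute with all of `D`. -/
theorem no_central_comm (o : Opp S A B D) {b d : G} (hb : b ∈ B) (hb1 : b ≠ 1) (hd : d ∈ D)
    (hd1 : d ≠ 1)
    (hcent : ∀ d' ∈ D, (b * d * b⁻¹ * d⁻¹) * d' = d' * (b * d * b⁻¹ * d⁻¹)) : False := by
  obtain ⟨as, has, hasb⟩ := o.exists_not_comm_B hb hb1
  obtain ⟨cs, hcs, hcsa⟩ := o.exists_C_of_A hd hd1 has
  obtain ⟨a, ha, hac⟩ := o.exists_A_of_C hb hb1 hcs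
  -- e a e⁻¹ = a * (b as b⁻¹)
  have hconj : (b * d * b⁻¹ * d⁻¹) * a * (b * d * b⁻¹ * d⁻¹)⁻¹ = a * (b * as * b⁻¹) := by
    have e1 : d⁻¹ * a * d = a := by rw [mul_assoc, o.comm_AD ha hd, ← mul_assoc, inv_mul_cancel, one_mul]
    have e2 : b⁻¹ * a * b = a * cs := by rw [← hac]; group
    have e3 : d * cs * d⁻¹ = cs * as := by rw [← hcsa]; group
    have e4 : d * a * d⁻¹ = a := by rw [← o.comm_AD ha hd, mul_inv_cancel_right]
    have e5 : b * cs * b⁻¹ = cs := by rw [← o.comm_CB hcs hb, mul_inv_cancel_right]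
    have e6 : b * a * b⁻¹ = a * cs⁻¹ := by
      have : b * (b⁻¹ * a * b) * b⁻¹ = a := by group
      rw [e2] at this
      have h2 : b * (a * cs) * b⁻¹ = (b * a * b⁻¹) * (b * cs * b⁻¹) := by group
      rw [h2, e5] at this
      calc b * a * b⁻¹ = (b * a * b⁻¹ * cs) * cs⁻¹ := by group
        _ = a * cs⁻¹ := by rw [this]
    calc (b * d * b⁻¹ * d⁻¹) * a * (b * d * b⁻¹ * d⁻¹)⁻¹
        = b * (d * (b⁻¹ * (d⁻¹ * a * d) * b) * d⁻¹) * b⁻¹ := by group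
      _ = b * (d * (a * cs) * d⁻¹) * b⁻¹ := by rw [e1, e2]
      _ = b * ((d * a * d⁻¹) * (d * cs * d⁻¹)) * b⁻¹ := by group
      _ = b * (a * (cs * as)) * b⁻¹ := by rw [e4, e3]
      _ = (b * a * b⁻¹) * (b * cs * b⁻¹) * (b * as * b⁻¹) := by group
      _ = a * cs⁻¹ * cs * (b * as * b⁻¹) := by rw [e6, e5]
      _ = a * (b * as * b⁻¹) := by group
  -- the element c₄ = as⁻¹ b as b⁻¹ ∈ C commutes with all of D
  have hc4 : as⁻¹ * b * as * b⁻¹ ∈ ⁅A, B⁆ := by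
    have := o.mem_C has (B.inv_mem hb)
    rwa [inv_inv] at this
  have hc4D : ∀ d' ∈ D, d' * (as⁻¹ * b * as * b⁻¹) = (as⁻¹ * b * as * b⁻¹) * d' := by
    intro d' hd'
    have hed : Commute (b * d * b⁻¹ * d⁻¹) d' := hcent d' hd'
    have had : Commute a d' := o.comm_AD ha hd'
    have hasd : Commute as d' := o.comm_AD has hd'
    have hX : Commute ((b * d * b⁻¹ * d⁻¹) * a * (b * d * b⁻¹ * d⁻¹)⁻¹) d' :=
      (hed.mul_left had).mul_left hed.inv_left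
    rw [hconj] at hX
    have h2 : Commute (as⁻¹ * (a⁻¹ * (a * (b * as * b⁻¹)))) d' :=
      hasd.inv_left.mul_left (had.inv_left.mul_left hX)
    have h3 : as⁻¹ * (a⁻¹ * (a * (b * as * b⁻¹))) = as⁻¹ * b * as * b⁻¹ := by group
    rw [h3] at h2
    exact h2.eq.symm
  have hc41 : as⁻¹ * b * as * b⁻¹ = 1 := by
    by_contra hne
    obtain ⟨d', hd', hd'c⟩ := o.exists_not_comm_C hc4 hne
    exact hd'c (hc4D d' hd')
  apply hasb
  symm
  calc b * as = as * (as⁻¹ * b * as * b⁻¹) * b := by group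
    _ = as * b := by rw [hc41, mul_one]

theorem rankOne_BD (o : Opp S A B D) : Cfsg.IsRankOnePair B D := by
  rcases o.hS.pair B o.hB D o.hD with h | h | h
  · exfalso
    apply o.hS.ne_bot _ o.hA
    have hDA : ⁅D, A⁆ = ⊥ := by
      rw [Subgroup.commutator_eq_bot_iff_le_centralizer]
      intro d hd a ha
      exact o.comm_AD ha hd
    have h3 : ⁅⁅A, B⁆, D⁆ = ⊥ :=
      Subgroup.commutator_commutator_eq_bot_of_rotate
        (by rw [h]; exact Subgroup.commutator_bot_left A)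
        (by rw [hDA]; exact Subgroup.commutator_bot_left B)
    rw [← o.hDC, Subgroup.commutator_comm]
    exact h3
  · exact h
  · exfalso
    obtain ⟨b, hb, hb1⟩ := Cfsg.Agent.S5024.exists_ne_one (o.hS.ne_bot _ o.hB)
    obtain ⟨d, hd, hd1⟩ := Cfsg.Agent.S5024.exists_ne_one (o.hS.ne_bot _ o.hD)
    refine o.no_central_comm hb hb1 hd hd1 (fun d' hd' => ?_)
    have he : b * d * b⁻¹ * d⁻¹ ∈ ⁅B, D⁆ := by
      have := Subgroup.commutator_mem_commutator hb hd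
      rwa [commutatorElement_def] at this
    exact h.2.1 _ he d' (Subgroup.mem_sup_right hd')

/-- `⁅A C, D⁆ = A`. -/
theorem comm_N_D (o : Opp S A B D) : ⁅A ⊔ ⁅A, B⁆, D⁆ = A := by
  apply le_antisymm
  · rw [Subgroup.commutator_le]
    intro n hn d hd
    obtain ⟨a, ha, c, hc, rfl⟩ := exists_mul_of_mem_sup hn
    have h1 : c * d * c⁻¹ * d⁻¹ ∈ A := by
      have := o.mem_A ((⁅A, B⁆).inv_mem hc) hd
      rwa [inv_inv] at this
    have h2 : d * a⁻¹ * d⁻¹ = a⁻¹ := by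
      rw [← o.comm_AD (A.inv_mem ha) hd, mul_inv_cancel_right]
    have h3 : ⁅a * c, d⁆ = a * (c * d * c⁻¹ * d⁻¹) * (d * a⁻¹ * d⁻¹) := by
      rw [commutatorElement_def]
      group
    rw [h3, h2]
    exact A.mul_mem (A.mul_mem ha h1) (A.inv_mem ha)
  · calc A = ⁅⁅A, B⁆, D⁆ := by rw [Subgroup.commutator_comm, o.hDC]
      _ ≤ ⁅A ⊔ ⁅A, B⁆, D⁆ := Subgroup.commutator_mono le_sup_right le_rfl

/-- `⁅A C, B⁆ = C`. -/
theorem comm_N_B (o : Opp S A B D) : ⁅A ⊔ ⁅A, B⁆, B⁆ = ⁅A, B⁆ := by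
  apply le_antisymm
  · rw [Subgroup.commutator_le]
    intro n hn b hb
    obtain ⟨a, ha, c, hc, rfl⟩ := exists_mul_of_mem_sup hn
    have h2 : c * b * c⁻¹ = b := by rw [o.comm_CB hc hb, mul_inv_cancel_right]
    have h3 : ⁅a * c, b⁆ = a * (c * b * c⁻¹) * a⁻¹ * b⁻¹ := by
      rw [commutatorElement_def]
      group
    rw [h3, h2]
    have := Subgroup.commutator_mem_commutator ha hb
    rwa [commutatorElement_def] at this
  · exact Subgroup.commutator_mono le_sup_left le_rfl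

theorem conjBy_C_of_mem_B (o : Opp S A B D) {b : G} (hb : b ∈ B) :
    Cfsg.conjBy ⁅A, B⁆ b = ⁅A, B⁆ := by
  ext z
  rw [mem_conjBy_iff]
  constructor
  · intro h
    have h1 := o.comm_CB h hb
    have h2 : z = b * (b⁻¹ * z * b) * b⁻¹ := by group
    rw [h2, ← h1, mul_inv_cancel_right]
    exact h
  · intro h
    have h1 := o.comm_CB h hb
    have h2 : b⁻¹ * z * b = b⁻¹ * (z * b) := by group
    rw [h2, h1, inv_mul_cancel_left]
    exact h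

theorem conjBy_A_of_mem_D (o : Opp S A B D) {d : G} (hd : d ∈ D) :
    Cfsg.conjBy A d = A := by
  ext z
  rw [mem_conjBy_iff]
  constructor
  · intro h
    have h1 := o.comm_AD h hd
    have h2 : z = d * (d⁻¹ * z * d) * d⁻¹ := by group
    rw [h2, ← h1, mul_inv_cancel_right]
    exact h
  · intro h
    have h1 := o.comm_AD h hd
    have h2 : d⁻¹ * z * d = d⁻¹ * (z * d) := by group
    rw [h2, h1, inv_mul_cancel_left]
    exact h

theorem conjBy_N_le_of_mem_B (o : Opp S A B D) {b : G} (hb : b ∈ B) :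
    Cfsg.conjBy (A ⊔ ⁅A, B⁆) b ≤ A ⊔ ⁅A, B⁆ := by
  have e : Cfsg.conjBy (A ⊔ ⁅A, B⁆) b = Cfsg.conjBy A b ⊔ Cfsg.conjBy ⁅A, B⁆ b :=
    Subgroup.map_sup _ _ _
  rw [e]
  refine sup_le (conjBy_le_sup hb) ?_
  rw [o.conjBy_C_of_mem_B hb]
  exact le_sup_right

theorem conjBy_N_le_of_mem_D (o : Opp S A B D) {d : G} (hd : d ∈ D) :
    Cfsg.conjBy (A ⊔ ⁅A, B⁆) d ≤ A ⊔ ⁅A, B⁆ := by
  have e : Cfsg.conjBy (A ⊔ ⁅A, B⁆) d = Cfsg.conjBy A d ⊔ Cfsg.conjBy ⁅A, B⁆ d :=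
    Subgroup.map_sup _ _ _
  rw [e]
  refine sup_le ?_ ?_
  · rw [o.conjBy_A_of_mem_D hd]
    exact le_sup_left
  · have h := conjBy_le_sup (A := ⁅A, B⁆) (B := D) hd
    rw [Subgroup.commutator_comm ⁅A, B⁆ D, o.hDC, sup_comm] at h
    exact h

theorem conjBy_eq_of_forall_le {N : Subgroup G} {K : Subgroup G}
    (h : ∀ k ∈ K, Cfsg.conjBy N k ≤ N) {k : G} (hk : k ∈ K) : Cfsg.conjBy N k = N := by
  apply le_antisymm (h k hk)
  have h1 := h k⁻¹ (K.inv_mem hk)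
  intro z hz
  rw [mem_conjBy_iff]
  have h2 : k⁻¹ * z * k ∈ Cfsg.conjBy N k⁻¹ := by
    rw [mem_conjBy_iff, inv_inv]
    have : k * (k⁻¹ * z * k) * k⁻¹ = z := by group
    rw [this]
    exact hz
  exact h1 h2

theorem conjBy_N_of_mem_B (o : Opp S A B D) {b : G} (hb : b ∈ B) :
    Cfsg.conjBy (A ⊔ ⁅A, B⁆) b = A ⊔ ⁅A, B⁆ :=
  conjBy_eq_of_forall_le (fun _ hk => o.conjBy_N_le_of_mem_B hk) hb

theorem conjBy_N_of_mem_D (o : Opp S A B D) {d : G} (hd : d ∈ D) :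
    Cfsg.conjBy (A ⊔ ⁅A, B⁆) d = A ⊔ ⁅A, B⁆ :=
  conjBy_eq_of_forall_le (fun _ hk => o.conjBy_N_le_of_mem_D hk) hd

/-- Key: associated elements `b, d` give `A^b = C^d`. -/
theorem conjBy_A_eq_conjBy_C (o : Opp S A B D) {b d : G} (hb : b ∈ B) (hd : d ∈ D)
    (h : Cfsg.conjBy B d⁻¹ = Cfsg.conjBy D b⁻¹) :
    Cfsg.conjBy A b⁻¹ = Cfsg.conjBy ⁅A, B⁆ d⁻¹ := by
  calc Cfsg.conjBy A b⁻¹ = Cfsg.conjBy ⁅A ⊔ ⁅A, B⁆, D⁆ b⁻¹ := by rw [o.comm_N_D]
    _ = ⁅Cfsg.conjBy (A ⊔ ⁅A, B⁆) b⁻¹, Cfsg.conjBy D b⁻¹⁆ := Subgroup.map_commutator _ _ _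
    _ = ⁅A ⊔ ⁅A, B⁆, Cfsg.conjBy B d⁻¹⁆ := by rw [o.conjBy_N_of_mem_B (B.inv_mem hb), h]
    _ = ⁅Cfsg.conjBy (A ⊔ ⁅A, B⁆) d⁻¹, Cfsg.conjBy B d⁻¹⁆ := by
        rw [o.conjBy_N_of_mem_D (D.inv_mem hd)]
    _ = Cfsg.conjBy ⁅A ⊔ ⁅A, B⁆, B⁆ d⁻¹ := (Subgroup.map_commutator _ _ _).symm
    _ = Cfsg.conjBy ⁅A, B⁆ d⁻¹ := by rw [o.comm_N_B]

theorem inf_A_conjBy_C (o : Opp S A B D) {d : G} (hd : d ∈ D) :
    A ⊓ Cfsg.conjBy ⁅A, B⁆ d = ⊥ := by
  rw [eq_bot_iff]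
  rintro x ⟨hxA, hxC⟩
  have hxA : x ∈ A := hxA
  have hxC : x ∈ Cfsg.conjBy ⁅A, B⁆ d := hxC
  rw [mem_conjBy_iff] at hxC
  have h1 : d⁻¹ * x * d = x := by rw [mul_assoc, o.comm_AD hxA hd, inv_mul_cancel_left]
  rw [h1] at hxC
  have : x ∈ A ⊓ ⁅A, B⁆ := ⟨hxA, hxC⟩
  rwa [o.inf_AC] at this

theorem inf_C_conjBy_A (o : Opp S A B D) {b : G} (hb : b ∈ B) :
    ⁅A, B⁆ ⊓ Cfsg.conjBy A b = ⊥ := by
  rw [eq_bot_iff]
  rintro x ⟨hxC, hxA⟩
  have hxC : x ∈ ⁅A, B⁆ := hxC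
  have hxA : x ∈ Cfsg.conjBy A b := hxA
  rw [mem_conjBy_iff] at hxA
  have h1 : b⁻¹ * x * b = x := by rw [mul_assoc, o.comm_CB hxC hb, inv_mul_cancel_left]
  rw [h1] at hxA
  have : x ∈ A ⊓ ⁅A, B⁆ := ⟨hxA, hxC⟩
  rwa [o.inf_AC] at this

/-- A conjugate of `A` by a nontrivial element of `B` is a conjugate of `C` by a nontrivial
element of `D`. -/
theorem conjBy_A_eq (o : Opp S A B D) {b : G} (hb : b ∈ B) (hb1 : b ≠ 1) :
    ∃ d ∈ D, d ≠ 1 ∧ Cfsg.conjBy A b = Cfsg.conjBy ⁅A, B⁆ d := by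
  have hb1' : b⁻¹ ≠ 1 := fun h => hb1 (inv_eq_one.mp h)
  obtain ⟨d, hd, hd1, hde⟩ := o.rankOne_BD.cond_left b⁻¹ (B.inv_mem hb) hb1'
  have h := o.conjBy_A_eq_conjBy_C (B.inv_mem hb) hd hde
  rw [inv_inv] at h
  exact ⟨d⁻¹, D.inv_mem hd, fun h' => hd1 (inv_eq_one.mp h'), h⟩

theorem inf_A_conjBy_A (o : Opp S A B D) {β : G} (hβ : β ∈ B) (hβ1 : β ≠ 1) :
    A ⊓ Cfsg.conjBy A β = ⊥ := by
  obtain ⟨d, hd, -, h⟩ := o.conjBy_A_eq hβ hβ1
  rw [h]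
  exact o.inf_A_conjBy_C hd

/-- The family `A^B ∪ {C}`. -/
def orbP (A B : Subgroup G) : Set (Subgroup G) :=
  (fun b : G => Cfsg.conjBy A b) '' (B : Set G) ∪ {⁅A, B⁆}

theorem mem_orbP_conj_B (o : Opp S A B D) {E : Subgroup G} (hE : E ∈ orbP A B) {b : G}
    (hb : b ∈ B) : Cfsg.conjBy E b ∈ orbP A B := by
  rcases hE with ⟨b', hb', rfl⟩ | hE
  · left
    exact ⟨b * b', B.mul_mem hb hb', (conjBy_conjBy A b' b).symm⟩
  · rw [Set.mem_singleton_iff] at hE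
    rw [hE, o.conjBy_C_of_mem_B hb]
    right
    rfl

theorem conjBy_C_mem_orbP (o : Opp S A B D) {d : G} (hd : d ∈ D) :
    Cfsg.conjBy ⁅A, B⁆ d ∈ orbP A B := by
  by_cases hd1 : d = 1
  · rw [hd1, conjBy_one]
    right
    rfl
  · have hd1' : d⁻¹ ≠ 1 := fun h => hd1 (inv_eq_one.mp h)
    obtain ⟨b, hb, -, hbe⟩ := o.rankOne_BD.cond_right d⁻¹ (D.inv_mem hd) hd1'
    have h := o.conjBy_A_eq_conjBy_C hb (D.inv_mem hd) hbe.symm
    rw [inv_inv] at h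
    left
    exact ⟨b⁻¹, B.inv_mem hb, h⟩

theorem mem_orbP_conj_D (o : Opp S A B D) {E : Subgroup G} (hE : E ∈ orbP A B) {d : G}
    (hd : d ∈ D) : Cfsg.conjBy E d ∈ orbP A B := by
  rcases hE with ⟨b', hb', rfl⟩ | hE
  · by_cases hb1 : b' = 1
    · simp only [hb1, conjBy_one]
      rw [o.conjBy_A_of_mem_D hd]
      left
      exact ⟨1, B.one_mem, conjBy_one A⟩
    · obtain ⟨d₁, hd₁, -, h⟩ := o.conjBy_A_eq hb' hb1
      simp only [h, conjBy_conjBy]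
      exact o.conjBy_C_mem_orbP (D.mul_mem hd hd₁)
  · rw [Set.mem_singleton_iff] at hE
    rw [hE]
    exact o.conjBy_C_mem_orbP hd

theorem mem_orbP_conj (o : Opp S A B D) {x : G} (hx : x ∈ B ⊔ D) :
    ∀ E ∈ orbP A B, Cfsg.conjBy E x ∈ orbP A B := by
  rw [Subgroup.sup_eq_closure] at hx
  refine Subgroup.closure_induction'' (p := fun x _ => ∀ E ∈ orbP A B, Cfsg.conjBy E x ∈ orbP A B)
    ?_ ?_ ?_ ?_ hx
  · rintro g (hg | hg) E hE
    · exact o.mem_orbP_conj_B hE hg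
    · exact o.mem_orbP_conj_D hE hg
  · rintro g (hg | hg) E hE
    · exact o.mem_orbP_conj_B hE (B.inv_mem hg)
    · exact o.mem_orbP_conj_D hE (D.inv_mem hg)
  · intro E hE
    rw [conjBy_one]
    exact hE
  · intro x y _ _ hx hy E hE
    rw [← conjBy_conjBy]
    exact hx _ (hy E hE)

theorem exists_C_eq (o : Opp S A B D) : ∃ g ∈ B ⊔ D, ⁅A, B⁆ = Cfsg.conjBy A g := by
  obtain ⟨b, hb, hb1⟩ := Cfsg.Agent.S5024.exists_ne_one (o.hS.ne_bot _ o.hB)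
  obtain ⟨d, hd, -, h⟩ := o.conjBy_A_eq hb hb1
  refine ⟨d⁻¹ * b, Subgroup.mul_mem _ (Subgroup.inv_mem _ (Subgroup.mem_sup_right hd))
    (Subgroup.mem_sup_left hb), ?_⟩
  rw [← conjBy_conjBy, h, conjBy_conjBy, inv_mul_cancel, conjBy_one]

/-- The orbit of `A` under `⟨B, D⟩` is `A^B ∪ {C}`. -/
theorem orbit_eq_orbP (o : Opp S A B D) :
    {E | ∃ x ∈ B ⊔ D, E = Cfsg.conjBy A x} = orbP A B := by
  ext E
  constructor
  · rintro ⟨x, hx, rfl⟩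
    exact o.mem_orbP_conj hx A (Or.inl ⟨1, B.one_mem, conjBy_one A⟩)
  · rintro (⟨b, hb, rfl⟩ | hE)
    · exact ⟨b, Subgroup.mem_sup_left hb, rfl⟩
    · rw [Set.mem_singleton_iff] at hE
      obtain ⟨g, hg, hgC⟩ := o.exists_C_eq
      exact ⟨g, hg, hE.trans hgC⟩

theorem orbP_partition (o : Opp S A B D) :
    Cfsg.IsSubgroupPartition (A ⊔ ⁅A, B⁆) (orbP A B) := by
  refine ⟨?_, ?_, ?_⟩
  · rintro E (⟨b, hb, rfl⟩ | hE)
    · exact conjBy_le_sup hb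
    · rw [Set.mem_singleton_iff] at hE
      rw [hE]
      exact le_sup_right
  · intro x hx hx1
    obtain ⟨a, ha, c, hc, rfl⟩ := exists_mul_of_mem_sup hx
    by_cases ha1 : a = 1
    · refine ⟨⁅A, B⁆, Or.inr rfl, ?_⟩
      rw [ha1, one_mul]
      exact hc
    · obtain ⟨β, hβ, hmem⟩ := exists_conj_of_mul o.hS o.ccAB ha ha1 hc
      exact ⟨_, Or.inl ⟨β, hβ, rfl⟩, hmem⟩
  · rintro E₁ (⟨b, hb, rfl⟩ | hE₁) E₂ (⟨b', hb', rfl⟩ | hE₂) hne
    · have hβ1 : b⁻¹ * b' ≠ 1 := by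
        intro h
        apply hne
        rw [inv_mul_eq_one.mp h]
      have hti := o.inf_A_conjBy_A (B.mul_mem (B.inv_mem hb) hb') hβ1
      rw [eq_bot_iff]
      rintro x ⟨hx1, hx2⟩
      have hx1 : x ∈ Cfsg.conjBy A b := hx1
      have hx2 : x ∈ Cfsg.conjBy A b' := hx2
      rw [mem_conjBy_iff] at hx1 hx2
      have hy2 : b⁻¹ * x * b ∈ Cfsg.conjBy A (b⁻¹ * b') := by
        rw [mem_conjBy_iff]
        have : (b⁻¹ * b')⁻¹ * (b⁻¹ * x * b) * (b⁻¹ * b') = b'⁻¹ * x * b' := by group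
        rw [this]
        exact hx2
      have hy : b⁻¹ * x * b ∈ A ⊓ Cfsg.conjBy A (b⁻¹ * b') := ⟨hx1, hy2⟩
      rw [hti, Subgroup.mem_bot] at hy
      rw [Subgroup.mem_bot]
      calc x = b * (b⁻¹ * x * b) * b⁻¹ := by group
        _ = 1 := by rw [hy]; group
    · rw [Set.mem_singleton_iff] at hE₂
      rw [hE₂, inf_comm]
      exact o.inf_C_conjBy_A hb
    · rw [Set.mem_singleton_iff] at hE₁
      rw [hE₁]
      exact o.inf_C_conjBy_A hb'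
    · exfalso
      rw [Set.mem_singleton_iff] at hE₁ hE₂
      exact hne (hE₁.trans hE₂.symm)

/-- The centralizer of `A C` in `⟨B, D⟩` is central in `⟨B, D⟩`. -/
theorem centralizer_le_center (o : Opp S A B D) {x : G} (hx : x ∈ B ⊔ D)
    (hxN : x ∈ Subgroup.centralizer ((A ⊔ ⁅A, B⁆ : Subgroup G) : Set G)) :
    ∀ y ∈ B ⊔ D, x * y = y * x := by
  have hR := o.rankOne_BD
  have hxn : ∀ n ∈ A ⊔ ⁅A, B⁆, Commute x n := fun n hn =>
    (Subgroup.mem_centralizer_iff.mp hxN n hn).symm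
  have hconj : ∀ K : Subgroup G, K ≤ A ⊔ ⁅A, B⁆ → Cfsg.conjBy K x = K := by
    intro K hK
    ext z
    rw [mem_conjBy_iff]
    constructor
    · intro h
      have h1 := (hxn _ (hK h)).eq
      have : z = x⁻¹ * z * x := by
        calc z = (x * (x⁻¹ * z * x)) * x⁻¹ := by group
          _ = ((x⁻¹ * z * x) * x) * x⁻¹ := by rw [h1]
          _ = x⁻¹ * z * x := by group
      rw [this]
      exact h
    · intro h
      have h1 := (hxn _ (hK h)).eq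
      have : x⁻¹ * z * x = z := by
        calc x⁻¹ * z * x = x⁻¹ * (z * x) := by group
          _ = x⁻¹ * (x * z) := by rw [h1]
          _ = z := by group
      rw [this]
      exact h
  have hB : Cfsg.conjBy B x = B := by
    have hmem : Cfsg.conjBy B x ∈ delta B D := unipotent_subset_delta hR ⟨x, hx, rfl⟩
    rcases hmem with h | ⟨b, hb, h⟩
    · exact h
    · exfalso
      have h1 : ⁅A, B⁆ = Cfsg.conjBy A b := by
        calc ⁅A, B⁆ = Cfsg.conjBy ⁅A ⊔ ⁅A, B⁆, B⁆ x := by rw [o.comm_N_B, hconj _ le_sup_right]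
          _ = ⁅Cfsg.conjBy (A ⊔ ⁅A, B⁆) x, Cfsg.conjBy B x⁆ := Subgroup.map_commutator _ _ _
          _ = ⁅Cfsg.conjBy (A ⊔ ⁅A, B⁆) b, Cfsg.conjBy D b⁆ := by
              rw [hconj _ le_rfl, h, o.conjBy_N_of_mem_B hb]
          _ = Cfsg.conjBy ⁅A ⊔ ⁅A, B⁆, D⁆ b := (Subgroup.map_commutator _ _ _).symm
          _ = Cfsg.conjBy A b := by rw [o.comm_N_D]
      have h2 := o.inf_C_conjBy_A hb
      rw [← h1, inf_idem] at h2
      exact o.hS.ne_bot _ o.hC h2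
  have hD : Cfsg.conjBy D x = D := by
    have hmem : Cfsg.conjBy D x ∈ delta D B :=
      unipotent_subset_delta (Cfsg.RankOnePair_symm hR) ⟨x, by rwa [sup_comm], rfl⟩
    rcases hmem with h | ⟨d, hd, h⟩
    · exact h
    · exfalso
      have h1 : A = Cfsg.conjBy ⁅A, B⁆ d := by
        calc A = Cfsg.conjBy ⁅A ⊔ ⁅A, B⁆, D⁆ x := by rw [o.comm_N_D, hconj _ le_sup_left]
          _ = ⁅Cfsg.conjBy (A ⊔ ⁅A, B⁆) x, Cfsg.conjBy D x⁆ := Subgroup.map_commutator _ _ _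
          _ = ⁅Cfsg.conjBy (A ⊔ ⁅A, B⁆) d, Cfsg.conjBy B d⁆ := by
              rw [hconj _ le_rfl, h, o.conjBy_N_of_mem_D hd]
          _ = Cfsg.conjBy ⁅A ⊔ ⁅A, B⁆, B⁆ d := (Subgroup.map_commutator _ _ _).symm
          _ = Cfsg.conjBy ⁅A, B⁆ d := by rw [o.comm_N_B]
      have h2 := o.inf_A_conjBy_C hd
      rw [← h1, inf_idem] at h2
      exact o.hS.ne_bot _ o.hA h2
  have key : ∀ (K : Subgroup G), Cfsg.conjBy K x = K → ∀ k ∈ K, x * k * x⁻¹ * k⁻¹ ∈ K := by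
    intro K hK k hk
    have : x * k * x⁻¹ ∈ Cfsg.conjBy K x := by
      rw [mem_conjBy_iff]
      have : x⁻¹ * (x * k * x⁻¹) * x = k := by group
      rw [this]
      exact hk
    rw [hK] at this
    exact K.mul_mem this (K.inv_mem hk)
  have hcomm : ∀ (g n : G), Commute x n → Commute x (g⁻¹ * n * g) →
      n * (x * g * x⁻¹ * g⁻¹) = (x * g * x⁻¹ * g⁻¹) * n := by
    intro g n h1 h2
    have h2' := h2.inv_left.eq
    calc n * (x * g * x⁻¹ * g⁻¹) = (n * x) * g * x⁻¹ * g⁻¹ := by group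
      _ = (x * n) * g * x⁻¹ * g⁻¹ := by rw [h1.eq]
      _ = x * g * ((g⁻¹ * n * g) * x⁻¹) * g⁻¹ := by group
      _ = x * g * (x⁻¹ * (g⁻¹ * n * g)) * g⁻¹ := by rw [h2']
      _ = (x * g * x⁻¹ * g⁻¹) * n := by group
  have hxb : ∀ b ∈ B, x * b = b * x := by
    intro b hb
    by_contra hne
    have hk := key B hB b hb
    have hk1 : x * b * x⁻¹ * b⁻¹ ≠ 1 := by
      intro h
      apply hne
      calc x * b = (x * b * x⁻¹ * b⁻¹) * b * x := by group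
        _ = b * x := by rw [h, one_mul]
    obtain ⟨a, ha, hak⟩ := o.exists_not_comm_B hk hk1
    apply hak
    have hn : b⁻¹ * a * b ∈ A ⊔ ⁅A, B⁆ := by
      have h1 : b⁻¹ * a * b ∈ Cfsg.conjBy (A ⊔ ⁅A, B⁆) b⁻¹ := by
        rw [mem_conjBy_iff, inv_inv]
        have : b * (b⁻¹ * a * b) * b⁻¹ = a := by group
        rw [this]
        exact Subgroup.mem_sup_left ha
      rwa [o.conjBy_N_of_mem_B (B.inv_mem hb)] at h1
    exact hcomm b a (hxn a (Subgroup.mem_sup_left ha)) (hxn _ hn)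
  have hxd : ∀ d ∈ D, x * d = d * x := by
    intro d hd
    by_contra hne
    have hk := key D hD d hd
    have hk1 : x * d * x⁻¹ * d⁻¹ ≠ 1 := by
      intro h
      apply hne
      calc x * d = (x * d * x⁻¹ * d⁻¹) * d * x := by group
        _ = d * x := by rw [h, one_mul]
    obtain ⟨c, hc, hck⟩ := o.exists_not_comm_D hk hk1
    apply hck
    have hn : d⁻¹ * c * d ∈ A ⊔ ⁅A, B⁆ := by
      have h1 : d⁻¹ * c * d ∈ Cfsg.conjBy (A ⊔ ⁅A, B⁆) d⁻¹ := by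
        rw [mem_conjBy_iff, inv_inv]
        have : d * (d⁻¹ * c * d) * d⁻¹ = c := by group
        rw [this]
        exact Subgroup.mem_sup_right hc
      rwa [o.conjBy_N_of_mem_D (D.inv_mem hd)] at h1
    exact (hcomm d c (hxn c (Subgroup.mem_sup_right hc)) (hxn _ hn)).symm
  have hle : B ⊔ D ≤ Subgroup.centralizer ({x} : Set G) := by
    refine sup_le ?_ ?_
    · intro b hb
      rw [Subgroup.mem_centralizer_iff]
      intro h hh
      rw [Set.mem_singleton_iff] at hh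
      rw [hh]
      exact hxb b hb
    · intro d hd
      rw [Subgroup.mem_centralizer_iff]
      intro h hh
      rw [Set.mem_singleton_iff] at hh
      rw [hh]
      exact hxd d hd
  intro y hy
  have := Subgroup.mem_centralizer_iff.mp (hle hy) x rfl
  exact this

end Opp

end Cfsg.Agent.Lib.Helper26
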