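import Mathlib
import Cfsg.Agent.Lib.Helper26.Ord3744

/-!
No simple group of order 5472, via exceptional characters for the prime 19.
-/

set_option autoImplicit false
set_option linter.style.haveILetI false
set_option linter.unusedSectionVars false
set_option linter.unusedVariables false

namespace Cfsg.Agent.Lib.Helper26

open scoped ComplexConjugate
open Cfsg.Agent.Lib.Helper11 Cfsg.Agent.Lib.helper7 Cfsg.Agent.Lib.Helper25 Cfsg.Agent.Lib.helper2
open Cfsg.Agent.Lib.helper8 Cfsg.Agent.Lib.helper23 Cfsg.Agent.Lib.Helper24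

theorem o5472_deg (d : ℕ) (c m : ℤ) (hc : c = 1 ∨ c = -1) (hd : d ∣ 5472) (hd1 : d ≠ 1)
    (h1 : (d : ℤ) = 19 * m - 3 * (6 * c)) : c * (d : ℤ) = 96 ∨ c * (d : ℤ) = -18 := by
  have hmem : d ∈ Nat.divisors 5472 := Nat.mem_divisors.mpr ⟨hd, by norm_num⟩
  rcases hc with hc | hc
  · subst hc
    left
    have hmod : d % 19 = 1 := by omega
    have hmem' : d ∈ (Nat.divisors 5472).filter (fun d => d % 19 = 1) :=
      Finset.mem_filter.mpr ⟨hmem, hmod⟩
    have e1 : (Nat.divisors 5472).filter (fun d => d % 19 = 1) = {1, 96} := by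
      decide +kernel
    rw [e1] at hmem'
    simp only [Finset.mem_insert, Finset.mem_singleton] at hmem'
    rcases hmem' with h | h
    · exact absurd h hd1
    · subst h
      norm_num
  · subst hc
    right
    have hmod : d % 19 = 18 := by omega
    have hmem' : d ∈ (Nat.divisors 5472).filter (fun d => d % 19 = 18) :=
      Finset.mem_filter.mpr ⟨hmem, hmod⟩
    have e1 : (Nat.divisors 5472).filter (fun d => d % 19 = 18) = {18} := by
      decide +kernel
    rw [e1] at hmem'
    simp only [Finset.mem_singleton] at hmem'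
    subst hmem'
    norm_num

theorem o5472_deg0 (d : ℕ) (ε m : ℤ) (hε : ε = 1 ∨ ε = -1) (hd : d ∣ 5472)
    (h1 : (d : ℤ) = 19 * m - 3 * (6 * 0 + ε)) :
    ε * (d : ℤ) = 16 ∨ ε * (d : ℤ) = -3 ∨ ε * (d : ℤ) = -288 := by
  have hmem : d ∈ Nat.divisors 5472 := Nat.mem_divisors.mpr ⟨hd, by norm_num⟩
  rcases hε with hc | hc
  · subst hc
    left
    have hmod : d % 19 = 16 := by omega
    have hmem' : d ∈ (Nat.divisors 5472).filter (fun d => d % 19 = 16) :=
      Finset.mem_filter.mpr ⟨hmem, hmod⟩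
    have e1 : (Nat.divisors 5472).filter (fun d => d % 19 = 16) = {16} := by
      decide +kernel
    rw [e1] at hmem'
    simp only [Finset.mem_singleton] at hmem'
    subst hmem'
    norm_num
  · subst hc
    right
    have hmod : d % 19 = 3 := by omega
    have hmem' : d ∈ (Nat.divisors 5472).filter (fun d => d % 19 = 3) :=
      Finset.mem_filter.mpr ⟨hmem, hmod⟩
    have e1 : (Nat.divisors 5472).filter (fun d => d % 19 = 3) = {3, 288} := by
      decide +kernel
    rw [e1] at hmem'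
    simp only [Finset.mem_insert, Finset.mem_singleton] at hmem'
    rcases hmem' with h | h
    · subst h
      left
      norm_num
    · subst h
      right
      norm_num

theorem o5472_main {G : Type*} [Group G] [Finite G] [IsSimpleGroup G]
    (hG : Nat.card G = 5472) : False := by
  classical
  haveI : Fact (Nat.Prime 19) := ⟨by norm_num⟩
  haveI : Fintype G := Fintype.ofFinite G
  haveI : Fintype (Cfsg.IrrCharacter G) := Fintype.ofFinite _
  have hnc : ¬ IsMulCommutative G := h8_not_comm_of_card (by rw [hG]; norm_num)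
  have hG19 : Nat.card G = 19 ^ 1 * 288 := by rw [hG]; norm_num
  have hnd : ¬ 19 ∣ 288 := by norm_num
  obtain ⟨P⟩ : Nonempty (Sylow 19 G) := inferInstance
  obtain ⟨hP, hN, hX, r, hr18, hr1, hC⟩ := og3_sylow_data 19 288 hG19 hnd (by norm_num) P
  have h1 := h8_nsylow_mem (G := G) 19 1 288 hG19 hnd
  have e : (Nat.divisors 288).filter (fun d => d % 19 = 1) = {1, 96} := by
    decide +kernel
  rw [e] at h1
  simp only [Finset.mem_insert, Finset.mem_singleton] at h1
  have h2 := h8_simple_nsylow_ne_one (G := G) 19 1 288 hG19 hnd (by norm_num) (by norm_num)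
  have hn : Nat.card (Sylow 19 G) = 96 := by
    rcases h1 with h1 | h1
    · exact absurd h1 h2
    · exact h1
  rw [hG, hn] at hN
  have hN57 : Nat.card (Subgroup.normalizer ((P : Subgroup G) : Set G)) = 19 * 3 := by omega
  have hr3 : r = 3 := by
    have h3 : r ∣ 57 := by
      refine ⟨Nat.card (Subgroup.centralizer ((P : Subgroup G) : Set G)), ?_⟩
      rw [mul_comm, hC, hN57]
    have h4 : r ∣ Nat.gcd 57 18 := Nat.dvd_gcd h3 hr18
    have h5 : Nat.gcd 57 18 = 3 := by norm_num
    rw [h5] at h4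
    have h6 : r ≤ 3 := Nat.le_of_dvd (by norm_num) h4
    have h7 : r ≠ 0 := by
      intro h
      rw [h] at h4
      norm_num at h4
    have h8 : r ≠ 2 := by
      intro h
      rw [h] at h4
      norm_num at h4
    omega
  have hC19 : Nat.card (Subgroup.centralizer ((P : Subgroup G) : Set G)) = 19 := by
    rw [hr3, hN57] at hC
    omega
  haveI : Fintype ((P : Subgroup G)) := Fintype.ofFinite _
  obtain ⟨ε, S, w, a, hε, hS, hwa, hnorm, hdeg, hcS, hcN, hw1, htS⟩ :=
    exc_main (P : Subgroup G) (p := 19) (e := 3) (t := 6) hP hC19 hN57 (by norm_num)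
      (by norm_num)
  have ha : a = 0 := exc_a_zero S w (trivIrr G) a ε 3 6 hε hS htS hw1 hwa hnorm (by norm_num)
  subst ha
  have hnorm3 : ∑ χ, w χ ^ 2 = 3 := by
    have : ((3 : ℕ) : ℤ) = 3 := by norm_num
    rw [this] at hnorm
    linarith
  -- subtract the trivial character
  obtain ⟨w', hw'⟩ : ∃ w' : Cfsg.IrrCharacter G → ℤ,
      w' = fun χ => w χ - if χ = trivIrr G then 1 else 0 := ⟨_, rfl⟩
  have hw'ap : ∀ χ : Cfsg.IrrCharacter G, w' χ = w χ - if χ = trivIrr G then 1 else 0 := by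
    intro χ
    rw [hw']
  have hw'2 : ∑ χ, w' χ ^ 2 = 2 := by
    have h3 : ∀ χ : Cfsg.IrrCharacter G, w' χ ^ 2 =
        w χ ^ 2 - 2 * ((if χ = trivIrr G then 1 else 0) * w χ)
          + (if χ = trivIrr G then 1 else 0) * (if χ = trivIrr G then 1 else 0) := by
      intro χ
      rw [hw'ap]
      by_cases h : χ = trivIrr G
      · simp only [if_pos h]; ring
      · simp only [if_neg h]; ring
    simp only [h3, Finset.sum_add_distrib, Finset.sum_sub_distrib, ← Finset.mul_sum,
      exc_sum_ind_mul, if_pos]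
    have h4 : ∑ χ : Cfsg.IrrCharacter G, (if χ = trivIrr G then (1 : ℤ) else 0) * w χ = 1 := by
      rw [Finset.sum_eq_single (trivIrr G)]
      · rw [if_pos rfl, one_mul, hw1]
      · intro b _ hb
        rw [if_neg hb, zero_mul]
      · intro h; exact absurd (Finset.mem_univ _) h
    rw [h4, hnorm3]
    norm_num
  obtain ⟨x, y, hxy, hx, hy, hz⟩ := exc_norm_two w' hw'2
  have hw't : w' (trivIrr G) = 0 := by
    rw [hw'ap, if_pos rfl, hw1]
    norm_num
  have hxt : x ≠ trivIrr G := by
    intro h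
    rw [h, hw't] at hx
    norm_num at hx
  have hyt : y ≠ trivIrr G := by
    intro h
    rw [h, hw't] at hy
    norm_num at hy
  have hwx : w x = w' x := by rw [hw'ap, if_neg hxt, sub_zero]
  have hwy : w y = w' y := by rw [hw'ap, if_neg hyt, sub_zero]
  rw [← hwx] at hx
  rw [← hwy] at hy
  have hxS : x ∉ S := by
    intro h
    have := hwa x h
    rcases hx with hc | hc <;> rw [hc] at this <;> norm_num at this
  have hyS : y ∉ S := by
    intro h
    have := hwa y h
    rcases hy with hc | hc <;> rw [hc] at this <;> norm_num at this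
  obtain ⟨θ, hθ⟩ : S.Nonempty := by
    rw [← Finset.card_pos, hS]
    norm_num
  have hsum' := exc_sum_two_support w'
    (fun χ : Cfsg.IrrCharacter G => (Cfsg.charDegree (χ : G → ℂ) : ℤ)) x y hxy hz
  have hsum : ∑ χ : Cfsg.IrrCharacter G, w χ * (Cfsg.charDegree (χ : G → ℂ) : ℤ) =
      w x * (Cfsg.charDegree (x : G → ℂ) : ℤ) + w y * (Cfsg.charDegree (y : G → ℂ) : ℤ) + 1 := by
    have h3 : ∀ χ : Cfsg.IrrCharacter G, w χ * (Cfsg.charDegree (χ : G → ℂ) : ℤ) =
        w' χ * (Cfsg.charDegree (χ : G → ℂ) : ℤ) +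
          (if χ = trivIrr G then 1 else 0) * (Cfsg.charDegree (χ : G → ℂ) : ℤ) := by
      intro χ
      rw [hw'ap]
      ring
    have h4 : ∑ χ : Cfsg.IrrCharacter G, w χ * (Cfsg.charDegree (χ : G → ℂ) : ℤ) =
        ∑ χ : Cfsg.IrrCharacter G, w' χ * (Cfsg.charDegree (χ : G → ℂ) : ℤ) +
        ∑ χ : Cfsg.IrrCharacter G,
          (if χ = trivIrr G then 1 else 0) * (Cfsg.charDegree (χ : G → ℂ) : ℤ) := by
      rw [← Finset.sum_add_distrib]
      exact Finset.sum_congr rfl (fun χ _ => h3 χ)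
    rw [h4, hsum', Finset.sum_eq_single (trivIrr G)]
    · rw [if_pos rfl, one_mul, exc_degree_triv, hwx, hwy]
      norm_num
    · intro b _ hb
      rw [if_neg hb, zero_mul]
    · intro h; exact absurd (Finset.mem_univ _) h
  have hd := hdeg θ hθ
  rw [hsum] at hd
  obtain ⟨m₁, hm₁⟩ := hcN x hxS
  obtain ⟨m₂, hm₂⟩ := hcN y hyS
  obtain ⟨m', hm'⟩ := hcS θ hθ
  rw [hwa θ hθ] at hm'
  have hdvd : ∀ χ : Cfsg.IrrCharacter G, Cfsg.charDegree (χ : G → ℂ) ∣ 5472 := by
    intro χ
    rw [← hG]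
    exact cdc_degree_dvd χ
  have hne1 : ∀ χ : Cfsg.IrrCharacter G, χ ≠ trivIrr G → Cfsg.charDegree (χ : G → ℂ) ≠ 1 :=
    fun χ hχ h => hχ (exc_linear_trivial hnc χ h)
  have k1 := o5472_deg (Cfsg.charDegree (x : G → ℂ)) (w x) m₁ hx (hdvd x) (hne1 x hxt)
    (by rw [hm₁]; push_cast; ring)
  have k2 := o5472_deg (Cfsg.charDegree (y : G → ℂ)) (w y) m₂ hy (hdvd y) (hne1 y hyt)
    (by rw [hm₂]; push_cast; ring)
  have k0 := o5472_deg0 (Cfsg.charDegree (θ : G → ℂ)) ε m' hε (hdvd θ)
    (by rw [hm']; push_cast; ring)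
  rcases k1 with k1 | k1 <;> rcases k2 with k2 | k2 <;> rcases k0 with k0 | k0 | k0 <;> omega

end Cfsg.Agent.Lib.Helper26
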