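import Cfsg.Agent.Lib.Helper26.OutRigid

set_option autoImplicit false

/-!
# Adjusting an automorphism on a Frobenius subgroup `⟨c⟩ ⋊ ⟨u⟩`, and words

The first half of the rigid-triple criterion as a statement of its own: after an inner
automorphism, an automorphism maps `c` to `c` or `c⁻¹` and fixes `u`.  Then what an automorphism
fixing `u` can do to an element `w` normalising `⟨u⟩`, and the evaluation of words under
automorphisms, to exclude the remaining candidates by relations.
-/

namespace Cfsg.Agent.Lib.Helper26.OutRigid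

open Subgroup
open scoped Pointwise

variable {G : Type*} [Group G]

/-- after an inner automorphism, an automorphism sends `c` to `c` or `c⁻¹` and fixes `u` -/
theorem exists_adjust [Finite G] (p : ℕ) [hp : Fact p.Prime] (k j : ℕ) (c u : G)
    (hfac : (Nat.card G).factorization p = 1) (hc : orderOf c = p)
    (hCc : ∀ h : G, h * c = c * h → h ^ p = 1)
    (hu : u * c * u⁻¹ = c ^ k) (hk1 : 1 ≤ k)
    (hk : ∀ j : ℕ, 0 < j → j < p → ∃ i : ℕ, k ^ i * j % p = 1 ∨ k ^ i * j % p = p - 1)
    (hj : j * (k - 1) % p = 1) (α : MulAut G) :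
    ∃ g : G, ((MulAut.conj g * α) c = c ∨ (MulAut.conj g * α) c = c⁻¹) ∧
      (MulAut.conj g * α) u = u := by
  classical
  obtain ⟨g, hg⟩ := exists_conj_eq_or_inv p k c u hfac hc hu hk α
  set β : MulAut G := MulAut.conj g * α with hβ
  have hβc : β c = g * α c * g⁻¹ := by
    rw [hβ, MulAut.mul_apply, MulAut.conj_apply]
  have hv : β u * c * (β u)⁻¹ = c ^ k := by
    have h1 : β u * β c * (β u)⁻¹ = (β c) ^ k := by
      rw [← map_inv, ← map_mul, ← map_mul, hu, map_pow]
    rcases hg with hg | hg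
    · rw [hβc, hg] at h1
      exact h1
    · rw [hβc, hg] at h1
      have h2 : (β u * c * (β u)⁻¹)⁻¹ = (c ^ k)⁻¹ := by
        rw [← inv_pow, ← h1]
        group
      exact inv_injective h2
  set v := β u with hvdef
  have hwc : (v⁻¹ * u) * c = c * (v⁻¹ * u) := by
    have h1 : v⁻¹ * c ^ k * v = c := by
      rw [← hv]
      group
    calc (v⁻¹ * u) * c = v⁻¹ * (u * c * u⁻¹) * u := by group
      _ = v⁻¹ * c ^ k * v * (v⁻¹ * u) := by rw [hu]; group
      _ = c * (v⁻¹ * u) := by rw [h1]
  have hwmem := mem_zpowers_of_centralizer p c hfac hc hCc _ hwc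
  rw [mem_zpowers_iff_mem_range_orderOf, Finset.mem_image] at hwmem
  obtain ⟨m, -, hm⟩ := hwmem
  have huv : u = c ^ (k * m) * v := by
    have h1 : u = v * c ^ m := by rw [hm]; group
    have h2 : v * c ^ m * v⁻¹ = c ^ (k * m) := conj_pow_of_conj hv m
    rw [h1, ← h2]
    group
  set a := k * m with ha
  set i := j * a with hi
  have hmod : (i + a) % p = (k * i) % p := by
    have h1 : k * i = i + (k - 1) * i := by
      have : k = 1 + (k - 1) := by omega
      calc k * i = (1 + (k - 1)) * i := by rw [← this]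
        _ = i + (k - 1) * i := by ring
    have h2 : (k - 1) * i = (j * (k - 1)) * a := by rw [hi]; ring
    have hj' : j * (k - 1) ≡ 1 [MOD p] := by
      unfold Nat.ModEq
      rw [hj, Nat.mod_eq_of_lt hp.out.one_lt]
    have h3 : (j * (k - 1)) * a ≡ a [MOD p] := by
      have := hj'.mul_right a
      rwa [one_mul] at this
    have h4 : i + a ≡ k * i [MOD p] := by
      rw [h1, h2]
      exact (Nat.ModEq.add_left i h3).symm
    exact h4
  have hpw : c ^ (i + a) = c ^ (k * i) := by
    rw [← hc] at hmod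
    rw [← pow_mod_orderOf, hmod, pow_mod_orderOf]
  have hconj : (c ^ i)⁻¹ * v * c ^ i = u := by
    have h1 : v * c ^ i * v⁻¹ = c ^ (k * i) := conj_pow_of_conj hv i
    have h2 : v * c ^ i = c ^ (k * i) * v := by rw [← h1]; group
    calc (c ^ i)⁻¹ * v * c ^ i = (c ^ i)⁻¹ * (v * c ^ i) := by group
      _ = (c ^ i)⁻¹ * (c ^ (i + a) * v) := by rw [h2, hpw]
      _ = c ^ a * v := by rw [pow_add]; group
      _ = u := huv.symm
  refine ⟨(c ^ i)⁻¹ * g, ?_, ?_⟩
  · have e : (MulAut.conj ((c ^ i)⁻¹ * g) * α) c = (c ^ i)⁻¹ * β c * c ^ i := by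
      rw [map_mul, mul_assoc, ← hβ, MulAut.mul_apply, MulAut.conj_apply, inv_inv]
    rw [e, hβc]
    rcases hg with hg | hg
    · left
      rw [hg]
      have : c * c ^ i = c ^ i * c := by rw [← pow_succ', ← pow_succ]
      calc (c ^ i)⁻¹ * c * c ^ i = (c ^ i)⁻¹ * (c * c ^ i) := by group
        _ = c := by rw [this]; group
    · right
      rw [hg]
      have : c ^ i * c = c * c ^ i := by rw [← pow_succ', ← pow_succ]
      calc (c ^ i)⁻¹ * c⁻¹ * c ^ i = (c * c ^ i)⁻¹ * c ^ i := by group
        _ = (c ^ i * c)⁻¹ * c ^ i := by rw [this]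
        _ = c⁻¹ := by group
  · have e : (MulAut.conj ((c ^ i)⁻¹ * g) * α) u = (c ^ i)⁻¹ * β u * c ^ i := by
      rw [map_mul, mul_assoc, ← hβ, MulAut.mul_apply, MulAut.conj_apply, inv_inv]
    rw [e]
    exact hconj

/-- if the adjusted automorphisms are all trivial, every automorphism is inner -/
theorem card_out_eq_one_of_adjust (c u : G)
    (hadj : ∀ α : MulAut G, ∃ g : G,
      ((MulAut.conj g * α) c = c ∨ (MulAut.conj g * α) c = c⁻¹) ∧ (MulAut.conj g * α) u = u)
    (hfin : ∀ γ : MulAut G, (γ c = c ∨ γ c = c⁻¹) → γ u = u → γ = 1) :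
    Nat.card (Cfsg.Out G) = 1 := by
  have key : ∀ α : MulAut G, α ∈ Cfsg.Inn G := by
    intro α
    obtain ⟨g, h1, h2⟩ := hadj α
    have h3 := hfin _ h1 h2
    have hα : α = (MulAut.conj g)⁻¹ := by
      apply eq_inv_of_mul_eq_one_right
      exact h3
    rw [hα]
    exact Subgroup.inv_mem _ ⟨_, rfl⟩
  have htop : Cfsg.Inn G = ⊤ := by
    rw [eq_top_iff]
    intro α _
    exact key α
  have hidx : (Cfsg.Inn G).index = 1 := by rw [htop, Subgroup.index_top]
  exact hidx

/-- an automorphism fixing `u` maps an element `w` normalising `⟨u⟩` into `w ⟨u⟩`, when `u` is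
self-centralising of prime order `q` and generates a Sylow subgroup -/
theorem exists_pow_of_fix [Finite G] (q : ℕ) [hq : Fact q.Prime] (m : ℕ) (u w : G)
    (hfac : (Nat.card G).factorization q = 1) (hu : orderOf u = q)
    (hCu : ∀ h : G, h * u = u * h → h ^ q = 1)
    (hw : w * u * w⁻¹ = u ^ m) (γ : MulAut G) (hγ : γ u = u) :
    ∃ s : ℕ, s < q ∧ γ w = w * u ^ s := by
  classical
  have h1 : γ w * u * (γ w)⁻¹ = u ^ m := by
    have : γ (w * u * w⁻¹) = γ (u ^ m) := by rw [hw]
    rw [map_mul, map_mul, map_inv, map_pow, hγ] at this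
    exact this
  have hcomm : (w⁻¹ * γ w) * u = u * (w⁻¹ * γ w) := by
    have h2 : w⁻¹ * u ^ m * w = u := by rw [← hw]; group
    calc (w⁻¹ * γ w) * u = w⁻¹ * (γ w * u * (γ w)⁻¹) * γ w := by group
      _ = w⁻¹ * u ^ m * w * (w⁻¹ * γ w) := by rw [h1]; group
      _ = u * (w⁻¹ * γ w) := by rw [h2]
  have hmem := mem_zpowers_of_centralizer q u hfac hu hCu _ hcomm
  rw [mem_zpowers_iff_mem_range_orderOf, Finset.mem_image] at hmem
  obtain ⟨s, hs, hs2⟩ := hmem
  rw [Finset.mem_range, hu] at hs
  refine ⟨s, hs, ?_⟩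
  rw [hs2]
  group

/-- the value of a word: the letter `l` stands for `f l` -/
def wev (f : ℕ → G) : List ℕ → G
  | [] => 1
  | l :: w => f l * wev f w

theorem map_wev (γ : MulAut G) (f : ℕ → G) (w : List ℕ) :
    γ (wev f w) = wev (fun l => γ (f l)) w := by
  induction w with
  | nil => exact map_one γ
  | cons l w ih =>
    show γ (f l * wev f w) = γ (f l) * wev (fun l => γ (f l)) w
    rw [map_mul, ih]

theorem wev_congr (f f' : ℕ → G) (w : List ℕ) (hf : ∀ l ∈ w, f l = f' l) :
    wev f w = wev f' w := by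
  induction w with
  | nil => rfl
  | cons l w ih =>
    show f l * wev f w = f' l * wev f' w
    rw [hf l List.mem_cons_self, ih (fun l' hl' => hf l' (List.mem_cons_of_mem l hl'))]

/-- a relation that fails for the images excludes an automorphism -/
theorem false_of_rel (γ : MulAut G) (f f' : ℕ → G) (w : List ℕ) (hf : ∀ l ∈ w, γ (f l) = f' l)
    (h1 : wev f w = 1) (h2 : wev f' w ≠ 1) : False := by
  apply h2
  have h3 : wev (fun l => γ (f l)) w = wev f' w := wev_congr _ _ w hf
  rw [← h3, ← map_wev, h1, map_one]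

end Cfsg.Agent.Lib.Helper26.OutRigid
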