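import Mathlib
import Cfsg.Agent.Lib.helper23.P4S.DefsC

/-! P4C row GEN (`spec_of_gens`), helper26: in a finite group, if the generators of `μ(PSp_4(q))` are element orders then so is
every `m` with `InT4 p q m` (an element of order `N` has a power of order `m` for every `m ∣ N`). -/

set_option autoImplicit false

namespace Cfsg.Agent.Lib.helper23.P4S

open Matrix
open scoped Kronecker

/-- in a finite group, every divisor of an element order is an element order -/
theorem p4cgen_dvd {G : Type*} [Group G] [Finite G] (N m : ℕ) (hN : N ∈ Set.range (orderOf : G → ℕ))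
    (hm : m ∣ N) : m ∈ Set.range (orderOf : G → ℕ) := by
  obtain ⟨g, rfl⟩ := hN
  have hpos : 0 < orderOf g := orderOf_pos g
  obtain ⟨k, hk⟩ := hm
  have hk0 : k ≠ 0 := by
    rintro rfl
    rw [mul_zero] at hk
    omega
  have hm0 : m ≠ 0 := by
    rintro rfl
    rw [zero_mul] at hk
    omega
  refine ⟨g ^ k, ?_⟩
  rw [orderOf_pow_of_dvd hk0 ⟨m, by rw [hk, mul_comm]⟩, hk]
  exact Nat.mul_div_cancel m (Nat.pos_of_ne_zero hk0)

/-- GEN -/
theorem spec_of_gens {G : Type*} [Group G] [Finite G] (p q : ℕ)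
    (h1 : (q ^ 2 + 1) / Nat.gcd 2 (q - 1) ∈ Set.range (orderOf : G → ℕ))
    (h2 : (q ^ 2 - 1) / Nat.gcd 2 (q - 1) ∈ Set.range (orderOf : G → ℕ))
    (h3 : p * (q + 1) ∈ Set.range (orderOf : G → ℕ))
    (h4 : p * (q - 1) ∈ Set.range (orderOf : G → ℕ))
    (h5 : p = 2 → 4 ∈ Set.range (orderOf : G → ℕ))
    (h6 : p = 3 → 9 ∈ Set.range (orderOf : G → ℕ)) (m : ℕ) (hm : InT4 p q m) :
    m ∈ Set.range (orderOf : G → ℕ) := by
  rcases hm with h | h | h | h | ⟨hp, h⟩ | ⟨hp, h⟩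
  · exact p4cgen_dvd _ m h1 h
  · exact p4cgen_dvd _ m h2 h
  · exact p4cgen_dvd _ m h3 h
  · exact p4cgen_dvd _ m h4 h
  · exact p4cgen_dvd _ m (h5 hp) h
  · exact p4cgen_dvd _ m (h6 hp) h

end Cfsg.Agent.Lib.helper23.P4S
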