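import Mathlib
import Cfsg.Agent.Lib.helper6.P4T.Defs

/-! P4T row TW2 (`wt12_pow`), helper26: all weights of `diag(b, b⁻¹)` on `ρ₁₂` have `k`-th power `1` iff `orderOf b ∣ 2 k`.
Proved directly (row TW1 is not needed): with `s = b ^ k`, `s * s = 1` every weight to the power `k` is `(s * s)^(2q) = 1`;
conversely the quotient of the weights at `(0, (0, 1))` and `(1, (0, 1))` is `b * b`. -/

set_option autoImplicit false

namespace Cfsg.Agent.Lib.helper23.P4S

open Matrix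
open scoped Kronecker

theorem p4ttw2_aux {K : Type} [Field K] (b : K) (q k : ℕ) (h : b ^ (2 * k) = 1)
    (j : Fin 3 × (Fin 2 × Fin 2)) : wt12 b q j ^ k = 1 := by
  have hs : b ^ k * b ^ k = 1 := by rw [← pow_add, ← two_mul, h]
  have hinv : (b⁻¹) ^ k = b ^ k := by
    rw [inv_pow]
    exact inv_eq_of_mul_eq_one_left hs
  have h1 : ∀ i : Fin 2, (![b, b⁻¹] i) ^ k = b ^ k := by
    intro i
    fin_cases i
    · rfl
    · exact hinv
  have h0 : ∀ i : Fin 3, (![b * b, 1, b⁻¹ * b⁻¹] i) ^ k = 1 := by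
    intro i
    fin_cases i
    · show (b * b) ^ k = 1
      rw [mul_pow, hs]
    · show (1 : K) ^ k = 1
      exact one_pow k
    · show (b⁻¹ * b⁻¹) ^ k = 1
      rw [mul_pow, hinv, hs]
  show ((![b * b, 1, b⁻¹ * b⁻¹] j.1) * ((![b, b⁻¹] j.2.1) ^ q * (![b, b⁻¹] j.2.2) ^ (3 * q))) ^ k = 1
  rw [mul_pow, mul_pow, ← pow_mul, ← pow_mul, mul_comm q k, mul_comm (3 * q) k, pow_mul, pow_mul,
    h0, h1, h1, one_mul, ← pow_add]
  have e : q + 3 * q = 2 * (2 * q) := by ring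
  rw [e, pow_mul, pow_two, hs, one_pow]

/-- TW2 -/
theorem wt12_pow {K : Type} [Field K] (b : K) (hb : b ≠ 0) (q : ℕ) (k : ℕ) :
    (∀ j, wt12 b q j ^ k = 1) ↔ orderOf b ∣ 2 * k := by
  constructor
  · intro h
    have ha := h (0, (0, 1))
    have hc := h (1, (0, 1))
    have ha' : ((b * b) * (b ^ q * (b⁻¹) ^ (3 * q))) ^ k = 1 := ha
    have hc' : ((1 : K) * (b ^ q * (b⁻¹) ^ (3 * q))) ^ k = 1 := hc
    rw [one_mul] at hc'
    rw [mul_pow, hc', mul_one, ← pow_two, ← pow_mul] at ha'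
    exact orderOf_dvd_of_pow_eq_one ha'
  · intro h j
    exact p4ttw2_aux b q k (orderOf_dvd_iff_pow_eq_one.mp h) j

end Cfsg.Agent.Lib.helper23.P4S
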