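import Mathlib
import Cfsg.Prelude.Def_Classical
import Cfsg.Agent.Lib.helper23.P4V.Defs

/-!
# P4V row FR5 (helper26): `IsFrame.shear`, `IsFrame.swap2` (verbatim).
-/

set_option autoImplicit false

namespace Cfsg.Agent.Lib.helper23.P4V

open Matrix

universe u

section Field

variable {F : Type u} [Field F]

/-- **FR5** (both). -/
theorem IsFrame.shear {e₁ e₂ f₁ f₂ : V F} (h : IsFrame e₁ e₂ f₁ f₂) (s₁₁ s₁₂ s₂₂ : F) :
    IsFrame e₁ e₂ (f₁ + s₁₁ • e₁ + s₁₂ • e₂) (f₂ + s₁₂ • e₁ + s₂₂ • e₂) := by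
  obtain ⟨h1, h2, h3, h4, h5, h6⟩ := h
  unfold om at h1 h2 h3 h4 h5 h6
  unfold IsFrame om
  simp only [Pi.add_apply, Pi.smul_apply, smul_eq_mul]
  refine ⟨h1, ?_, ?_, ?_, ?_, ?_⟩
  · linear_combination h2 - s₁₂ * h3 - s₂₂ * h6 + s₁₁ * h5 + s₁₁ * s₂₂ * h1 + s₁₂ * h4 -
      s₁₂ * s₁₂ * h1
  · linear_combination h3 + s₁₂ * h1
  · linear_combination h4 - s₁₂ * h1
  · linear_combination h5 + s₂₂ * h1
  · linear_combination h6 - s₁₁ * h1

theorem IsFrame.swap2 {e₁ e₂ f₁ f₂ : V F} (h : IsFrame e₁ e₂ f₁ f₂) : IsFrame e₁ f₂ f₁ (-e₂) := by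
  obtain ⟨h1, h2, h3, h4, h5, h6⟩ := h
  unfold om at h1 h2 h3 h4 h5 h6
  unfold IsFrame om
  simp only [Pi.neg_apply]
  refine ⟨h5, ?_, h3, ?_, ?_, ?_⟩
  · linear_combination h6
  · linear_combination h4
  · linear_combination -h1
  · linear_combination -h2

end Field

end Cfsg.Agent.Lib.helper23.P4V
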