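import Cfsg.Agent.Lib.helper17.CB14

set_option autoImplicit false

namespace Cfsg.Agent.Lib.Helper26.PPI

open MulAction
open Cfsg.Agent.Lib.helper17.CB12 Cfsg.Agent.Lib.helper17.CB14

universe u v w

section Equivariant

/-- orbit representatives give functions transforming through a character on an invariant set
whose point stabilizers lie in the kernel of the character -/
theorem exists_equivariant {H : Type*} [Group H] {X : Type*} [MulAction H X] {A : Type*}
    [Group A] (χ : H →* A) (W : Set X) (hW : ∀ (h : H) (x : X), x ∈ W → h • x ∈ W)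
    (hstab : ∀ x ∈ W, ∀ h : H, h • x = x → χ h = 1) :
    ∃ ρ : X → A, ∀ (h : H) (x : X), x ∈ W → ρ (h • x) = χ h * ρ x := by
  classical
  let rep : X → X := fun x => (Quotient.mk (orbitRel H X) x).out
  have hrep : ∀ x, ∃ k : H, k • rep x = x := by
    intro x
    have h1 : (orbitRel H X).r x (rep x) :=
      (orbitRel H X).symm (Quotient.exact (Quotient.out_eq (Quotient.mk (orbitRel H X) x)))
    exact h1
  choose kk hkk using hrep
  refine ⟨fun x => χ (kk x), ?_⟩
  intro h x hx
  have hrepeq : rep (h • x) = rep x := by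
    show (Quotient.mk (orbitRel H X) _).out = (Quotient.mk (orbitRel H X) x).out
    congr 1
    apply Quotient.sound
    exact ⟨h, rfl⟩
  have hrW : rep x ∈ W := by
    have h1 : rep x = (kk x)⁻¹ • x := by rw [eq_inv_smul_iff, hkk]
    rw [h1]
    exact hW _ _ hx
  have h2 : kk (h • x) • rep x = h • x := by
    rw [← hrepeq, hkk]
  have h1 : ((kk (h • x))⁻¹ * (h * kk x)) • rep x = rep x := by
    rw [mul_smul, mul_smul, hkk, inv_smul_eq_iff, h2]
  have h3 := hstab _ hrW _ h1
  rw [map_mul, map_inv, map_mul, inv_mul_eq_one] at h3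
  exact h3
  
end Equivariant

section CommAux

variable {A : Type*} [CommGroup A]

theorem comm_aux1 (a b c d : A) : a * b⁻¹ = c * d⁻¹ * (a * c⁻¹ * (b * d⁻¹)⁻¹) := by
  apply Additive.ofMul.injective
  simp only [ofMul_mul, ofMul_inv]
  abel

theorem comm_aux2 (l a b : A) : l * a * (l * b)⁻¹ = a * b⁻¹ := by
  apply Additive.ofMul.injective
  simp only [ofMul_mul, ofMul_inv]
  abel

end CommAux

section Transfer

variable {S : Type u} [Group S] {X : Type v} [MulAction (S × S) X]
variable {A : Type w} [CommGroup A]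

/-- `ρ` transforms under the right action through `lam` -/
def IsRet (lam : S →* A) (ρ : X → A) : Prop :=
  ∀ (t : S) (x : X), ρ (((1 : S), t) • x) = ρ x * (lam t)⁻¹

variable {lam : S →* A}

/-- the local factor -/
def facA (ρ : X → A) (σ : GX S X) (x : X) : A := ρ (σ.1 x) * (ρ x)⁻¹

theorem facA_right {ρ : X → A} (hρ : IsRet lam ρ) (σ : GX S X) (t : S) (x : X) :
    facA ρ σ (((1 : S), t) • x) = facA ρ σ x := by
  unfold facA
  rw [σ.2 t x, hρ, hρ]
  group

/-- the local factor on right orbits -/
def facY {ρ : X → A} (hρ : IsRet lam ρ) (σ : GX S X) : Ybar S X → A :=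
  Quotient.lift (s := rightRel S X) (facA ρ σ) (by
    rintro x y ⟨t, rfl⟩
    exact (facA_right hρ σ t x).symm)

theorem facY_mk {ρ : X → A} (hρ : IsRet lam ρ) (σ : GX S X) (x : X) :
    facY hρ σ (Quotient.mk (rightRel S X) x) = facA ρ σ x := rfl

variable [Fintype (Ybar S X)]

/-- the transfer with values in `A` -/
noncomputable def trA {ρ : X → A} (hρ : IsRet lam ρ) (σ : GX S X) : A :=
  ∏ y : Ybar S X, facY hρ σ y

theorem trA_mul {ρ : X → A} (hρ : IsRet lam ρ) (σ σ' : GX S X) :
    trA hρ (σ * σ') = trA hρ σ * trA hρ σ' := by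
  unfold trA
  have h1 : ∀ y : Ybar S X, facY hρ (σ * σ') y = facY hρ σ (barPerm σ' y) * facY hρ σ' y := by
    intro y
    induction y using Quotient.inductionOn with
    | h x =>
      rw [barPerm_mk, facY_mk, facY_mk, facY_mk]
      unfold facA
      show ρ (σ.1 (σ'.1 x)) * (ρ x)⁻¹ = _
      group
  rw [Finset.prod_congr rfl (fun y _ => h1 y), Finset.prod_mul_distrib]
  congr 1
  exact Equiv.prod_comp (barPerm σ') (fun y => facY hρ σ y)

/-- the transfer as a homomorphism -/
noncomputable def trHom {ρ : X → A} (hρ : IsRet lam ρ) : GX S X →* A :=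
  MonoidHom.mk' (trA hρ) (trA_mul hρ)

theorem trHom_apply {ρ : X → A} (hρ : IsRet lam ρ) (σ : GX S X) : trHom hρ σ = trA hρ σ := rfl

/-- the transfer does not depend on the choice of `ρ` -/
theorem trA_indep {ρ ρ' : X → A} (hρ : IsRet lam ρ) (hρ' : IsRet lam ρ') (σ : GX S X) :
    trA hρ' σ = trA hρ σ := by
  have hδ : ∀ (t : S) (x : X),
      ρ' (((1 : S), t) • x) * (ρ (((1 : S), t) • x))⁻¹ = ρ' x * (ρ x)⁻¹ := by
    intro t x
    rw [hρ, hρ']
    group
  let δ : Ybar S X → A := Quotient.lift (s := rightRel S X) (fun x => ρ' x * (ρ x)⁻¹) (by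
    rintro x y ⟨t, rfl⟩
    exact (hδ t x).symm)
  have h1 : ∀ y : Ybar S X, facY hρ' σ y = facY hρ σ y * (δ (barPerm σ y) * (δ y)⁻¹) := by
    intro y
    induction y using Quotient.inductionOn with
    | h x =>
      rw [barPerm_mk, facY_mk, facY_mk]
      show ρ' (σ.1 x) * (ρ' x)⁻¹ =
        ρ (σ.1 x) * (ρ x)⁻¹ * (ρ' (σ.1 x) * (ρ (σ.1 x))⁻¹ * (ρ' x * (ρ x)⁻¹)⁻¹)
      exact comm_aux1 _ _ _ _
  unfold trA
  rw [Finset.prod_congr rfl (fun y _ => h1 y), Finset.prod_mul_distrib, Finset.prod_mul_distrib,
    Finset.prod_inv_distrib, Equiv.prod_comp (barPerm σ) δ, mul_inv_cancel, mul_one]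

/-- evaluation on an element of `S` under which `ρ` transforms through `lam` -/
theorem trA_iota {ρ : X → A} (hρ : IsRet lam ρ) (s : S)
    (hs : ∀ x : X, ρ (((s, (1 : S)) : S × S) • x) = lam s * ρ x) :
    trA hρ (iotaX S X s) = lam s ^ Fintype.card (Ybar S X) := by
  unfold trA
  have h1 : ∀ y : Ybar S X, facY hρ (iotaX S X s) y = lam s := by
    intro y
    induction y using Quotient.inductionOn with
    | h x =>
      rw [facY_mk]
      unfold facA
      rw [iotaX_apply, hs]
      group
  rw [Finset.prod_congr rfl (fun y _ => h1 y), Finset.prod_const, Finset.card_univ]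

/-- the key vanishing: an element commuting with the left action of a `p`-subgroup `Q` has
trivial transfer as soon as some `ρ` transforms through `lam` under `Q` and is invariant under
the element on the points whose right orbit is fixed by `Q`. -/
theorem trA_eq_one {p : ℕ} [Fact p.Prime] (hA : ∀ a : A, a ^ p = 1) (Q : Subgroup S)
    (hQ : IsPGroup p Q) {ρ : X → A} (hρ : IsRet lam ρ) (σ : GX S X)
    (hcomm : ∀ q ∈ Q, σ * iotaX S X q = iotaX S X q * σ)
    (hleft : ∀ q ∈ Q, ∀ x : X, ρ (((q, (1 : S)) : S × S) • x) = lam q * ρ x)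
    (hfix : ∀ x : X, (∀ q ∈ Q, barPerm (iotaX S X q) (Quotient.mk (rightRel S X) x) =
      Quotient.mk (rightRel S X) x) → ρ (σ.1 x) = ρ x) :
    trA hρ σ = 1 := by
  classical
  have hinv : ∀ q ∈ Q, ∀ y : Ybar S X, facY hρ σ (barPerm (iotaX S X q) y) = facY hρ σ y := by
    intro q hq y
    induction y using Quotient.inductionOn with
    | h x =>
      rw [barPerm_mk, facY_mk, facY_mk]
      unfold facA
      have h1 : σ.1 ((iotaX S X q).1 x) = (iotaX S X q).1 (σ.1 x) := by
        have := congrArg (fun g : GX S X => g.1 x) (hcomm q hq)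
        exact this
      rw [h1, iotaX_apply, iotaX_apply, hleft q hq, hleft q hq]
      exact comm_aux2 _ _ _
  unfold trA
  have h2 := Finset.prod_comp (s := (Finset.univ : Finset (Ybar S X))) (fun a : A => a)
    (facY hρ σ)
  rw [h2]
  apply Finset.prod_eq_one
  intro b _
  by_cases hb1 : b = 1
  · rw [hb1, one_pow]
  · have hdvd : p ∣ (Finset.univ.filter (fun y : Ybar S X => facY hρ σ y = b)).card := by
      apply dvd_card_of_no_fixed Q hQ
      · intro c hc y hy
        rw [Finset.mem_filter] at hy ⊢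
        exact ⟨Finset.mem_univ _, by rw [hinv c hc]; exact hy.2⟩
      · intro y hy
        by_contra hcon
        push Not at hcon
        rw [Finset.mem_filter] at hy
        apply hb1
        rw [← hy.2]
        induction y using Quotient.inductionOn with
        | h x =>
          rw [facY_mk]
          unfold facA
          rw [hfix x hcon, mul_inv_cancel]
    obtain ⟨k, hk⟩ := hdvd
    rw [hk, pow_mul, hA, one_pow]

end Transfer

end Cfsg.Agent.Lib.Helper26.PPI
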