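import Cfsg.Agent.Lib.Helper26.PPIa
import Cfsg.Agent.Lib.helper17.CB11

set_option autoImplicit false

namespace Cfsg.Agent.Lib.Helper26.PPI

open Cfsg Cfsg.FusionSystem MulAction
open Cfsg.Agent.Lib.Helper26
open Cfsg.Agent.Lib.helper17.ParkGraph (graphOf IsFGraph mem_graphOf)
open Cfsg.Agent.Lib.helper17.CB12 Cfsg.Agent.Lib.helper17.CB14

universe u v w

section RCAction

variable {S : Type u} [Group S] {X : Type v} [MulAction (S × S) X]

/-- the right action together with the action of a subgroup of `GX` -/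
@[instance_reducible] def actRC (C : Subgroup (GX S X)) : MulAction (S × C) X where
  smul h x := (((1 : S), h.1) : S × S) • ((h.2 : GX S X) : Equiv.Perm X) x
  one_smul x := by
    show (((1 : S), (1 : S)) : S × S) • x = x
    exact one_smul _ x
  mul_smul h h' x := by
    show (((1 : S), h.1 * h'.1) : S × S) • ((h.2 : GX S X) : Equiv.Perm X)
        (((h'.2 : GX S X) : Equiv.Perm X) x) =
      (((1 : S), h.1) : S × S) • ((h.2 : GX S X) : Equiv.Perm X)
        ((((1 : S), h'.1) : S × S) • ((h'.2 : GX S X) : Equiv.Perm X) x)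
    rw [(h.2 : GX S X).2 h'.1, ← mul_smul]
    congr 1
    simp

theorem actRC_smul (C : Subgroup (GX S X)) (h : S × C) (x : X) :
    (letI := actRC C; h • x) = (((1 : S), h.1) : S × S) • ((h.2 : GX S X) : Equiv.Perm X) x := rfl

end RCAction

variable {Ω : Type u} [Group Ω] {S : Subgroup Ω} (F : FusionSystem S)
  {X : Type v} [MulAction (S × S) X] {A : Type w} [CommGroup A] (lam : S →* A)

/-- `lam` is constant on the classes of the system -/
def IsFInv : Prop :=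
  ∀ (P : Subgroup Ω) (φ : P →* Ω) (hφ : φ ∈ F.Hom P) (x : P),
    lam ⟨φ x, apply_mem F hφ x⟩ = lam ⟨x, source_le F hφ x.2⟩

/-- all point stabilizers are graphs of maps of the system -/
def HasFGraphStab (X : Type v) [MulAction (S × S) X] : Prop :=
  ∀ (M : Subgroup (S × S)) (x : X), (∀ a ∈ M, a • x = x) → IsFGraph F M

variable {F} {lam}

theorem exists_stab_graph (hX : HasFGraphStab F X) (x : X) :
    ∃ (R : Subgroup Ω) (θ : R →* Ω), θ ∈ F.Hom R ∧
      ∀ z : S × S, z • x = x ↔ ∃ h : (z.1 : Ω) ∈ R, θ ⟨z.1, h⟩ = (z.2 : Ω) := by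
  obtain ⟨R, θ, hθ, hM⟩ := hX (stabilizer (S × S) x) x (fun a ha => ha)
  refine ⟨R, θ, hθ, fun z => ?_⟩
  rw [← mem_stabilizer_iff, hM, mem_graphOf]

theorem stab_lam (hX : HasFGraphStab F X) (hlam : IsFInv F lam) (x : X) (u t : S)
    (h : ((u, t) : S × S) • x = x) : lam t = lam u := by
  obtain ⟨R, θ, hθ, hst⟩ := exists_stab_graph hX x
  obtain ⟨h1, h2⟩ := (hst (u, t)).mp h
  have h3 : t = ⟨θ ⟨u, h1⟩, apply_mem F hθ _⟩ := Subtype.ext h2.symm
  rw [h3, hlam R θ hθ ⟨u, h1⟩]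

theorem exists_biequivariant (hX : HasFGraphStab F X) (hlam : IsFInv F lam) :
    ∃ ρ : X → A, ∀ (u t : S) (x : X), ρ (((u, t) : S × S) • x) = lam u * (lam t)⁻¹ * ρ x := by
  let χ : S × S →* A := (lam.comp (MonoidHom.fst S S)) * (lam.comp (MonoidHom.snd S S))⁻¹
  obtain ⟨ρ, hρ⟩ := exists_equivariant χ Set.univ (fun _ _ _ => trivial) (by
    rintro x - ⟨u, t⟩ h
    have h1 := stab_lam hX hlam x u t h
    show lam u * (lam t)⁻¹ = 1
    rw [h1, mul_inv_cancel])
  exact ⟨ρ, fun u t x => hρ (u, t) x trivial⟩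

theorem isRet_of_biequivariant {ρ : X → A}
    (hρ : ∀ (u t : S) (x : X), ρ (((u, t) : S × S) • x) = lam u * (lam t)⁻¹ * ρ x) :
    IsRet lam ρ := by
  intro t x
  rw [hρ, map_one, one_mul, mul_comm]

section Adapted

/-- points whose right orbit is fixed by `Q'` -/
def fixW (X : Type v) [MulAction (S × S) X] (Q' : Subgroup S) : Set X :=
  {x | ∀ q ∈ Q', barPerm (iotaX S X q) (Quotient.mk (rightRel S X) x) =
    Quotient.mk (rightRel S X) x}

theorem mk_right (t : S) (x : X) :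
    Quotient.mk (rightRel S X) ((((1 : S), t) : S × S) • x) = Quotient.mk (rightRel S X) x := by
  symm
  apply Quotient.sound
  exact ⟨t, rfl⟩

theorem fixW_right {Q' : Subgroup S} (t : S) (x : X) :
    (((1 : S), t) : S × S) • x ∈ fixW X Q' ↔ x ∈ fixW X Q' := by
  unfold fixW
  simp only [Set.mem_ofPred_eq, mk_right]

theorem fixW_gx {Q' : Subgroup S} (g : GX S X)
    (hg : ∀ q ∈ Q', g * iotaX S X q = iotaX S X q * g) {x : X} (hx : x ∈ fixW X Q') :
    g.1 x ∈ fixW X Q' := by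
  intro q hq
  rw [← barPerm_mk g x, ← Equiv.Perm.mul_apply, ← barPerm_mul, ← hg q hq, barPerm_mul,
    Equiv.Perm.mul_apply, hx q hq]

theorem fixW_left {Q' : Subgroup S} {q₀ : S} (hq₀ : q₀ ∈ Q') {x : X} (hx : x ∈ fixW X Q') :
    ((q₀, (1 : S)) : S × S) • x ∈ fixW X Q' := by
  have h1 : Quotient.mk (rightRel S X) (((q₀, (1 : S)) : S × S) • x) =
      Quotient.mk (rightRel S X) x := by
    have := hx q₀ hq₀
    rw [barPerm_mk, iotaX_apply] at this
    exact this
  intro q hq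
  rw [h1]
  exact hx q hq

theorem fixW_left_iff {Q' : Subgroup S} {q₀ : S} (hq₀ : q₀ ∈ Q') (x : X) :
    ((q₀, (1 : S)) : S × S) • x ∈ fixW X Q' ↔ x ∈ fixW X Q' := by
  constructor
  · intro h
    have h1 := fixW_left (Q'.inv_mem hq₀) h
    rw [← mul_smul] at h1
    have e : ((q₀⁻¹, (1 : S)) : S × S) * (q₀, (1 : S)) = 1 := by
      apply Prod.ext <;> simp
    rw [e, one_smul] at h1
    exact h1
  · exact fixW_left hq₀

theorem fixW_label {Q' : Subgroup S} {x : X} (hx : x ∈ fixW X Q') {q : S} (hq : q ∈ Q') :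
    ∃ t : S, ((q, t) : S × S) • x = x := by
  have h1 := hx q hq
  rw [barPerm_mk] at h1
  obtain ⟨t, ht⟩ : (rightRel S X).r ((iotaX S X q).1 x) x := Quotient.exact h1
  refine ⟨t, ?_⟩
  rw [iotaX_apply, ← mul_smul] at ht
  simpa using ht

/-- the stabilizer condition for the adapted function -/
theorem stab_cond (hX : HasFGraphStab F X) (Q' : Subgroup S)
    (hcent : ∀ (R : Subgroup Ω) (θ : R →* Ω), θ ∈ F.Hom R → ∀ (hQR : ∀ q ∈ Q', (q : Ω) ∈ R)
      (t : S), (∀ q (hq : q ∈ Q'), (t : Ω) * θ ⟨q, hQR q hq⟩ = θ ⟨q, hQR q hq⟩ * t) → lam t = 1)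
    (g : GX S X) (hg : ∀ q ∈ Q', g * iotaX S X q = iotaX S X q * g) (x : X)
    (hx : x ∈ fixW X Q') (t : S) (h : (((1 : S), t) : S × S) • g.1 x = x) : lam t = 1 := by
  obtain ⟨R, θ, hθ, hst⟩ := exists_stab_graph hX x
  have hQR : ∀ q ∈ Q', (q : Ω) ∈ R := by
    intro q hq
    obtain ⟨t', ht'⟩ := fixW_label hx hq
    exact ((hst (q, t')).mp ht').1
  apply hcent R θ hθ hQR t
  intro q hq
  obtain ⟨t', ht'⟩ := fixW_label hx hq
  obtain ⟨h1, h2⟩ := (hst (q, t')).mp ht'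
  have hgx : g.1 x = (((1 : S), t⁻¹) : S × S) • x := by
    have e : (((1 : S), t⁻¹) : S × S) = (((1 : S), t) : S × S)⁻¹ := by simp
    rw [e, eq_inv_smul_iff]
    exact h
  have h3 : ((q, t') : S × S) • g.1 x = g.1 x := by
    have e : ((q, t') : S × S) = ((1 : S), t') * (q, (1 : S)) := by
      apply Prod.ext <;> simp
    have h4 : ((q, (1 : S)) : S × S) • g.1 x = g.1 (((q, (1 : S)) : S × S) • x) := by
      have := congrArg (fun k : GX S X => k.1 x) (hg q hq)
      exact this.symm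
    rw [e, mul_smul, h4, ← g.2 t', ← mul_smul, ← e, ht']
  have h5 : ((q, t * t' * t⁻¹) : S × S) • x = x := by
    have e : ((q, t * t' * t⁻¹) : S × S) = ((1 : S), t) * (q, t') * ((1 : S), t⁻¹) := by
      apply Prod.ext <;> simp
    rw [e, mul_smul, mul_smul, ← hgx, h3, h]
  obtain ⟨h6, h7⟩ := (hst (q, t * t' * t⁻¹)).mp h5
  have h9 : θ ⟨q, hQR q hq⟩ = (t' : Ω) := h2
  have h7' : θ ⟨q, hQR q hq⟩ = (t : Ω) * (t' : Ω) * (t : Ω)⁻¹ := h7
  have h8 : (t : Ω) * (t' : Ω) * (t : Ω)⁻¹ = (t' : Ω) := by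
    rw [← h7', h9]
  rw [h9]
  calc (t : Ω) * (t' : Ω) = (t : Ω) * (t' : Ω) * (t : Ω)⁻¹ * (t : Ω) := by group
    _ = (t' : Ω) * (t : Ω) := by rw [h8]

/-- **The adapted function**: transforms through `lam` under the right action and the left
action of `Q'`, and is invariant under the centralizer of `Q'` in `GX` on the points whose
right orbit is fixed by `Q'`. -/
theorem exists_adapted (hX : HasFGraphStab F X) (hlam : IsFInv F lam) (Q' : Subgroup S)
    (hcent : ∀ (R : Subgroup Ω) (θ : R →* Ω), θ ∈ F.Hom R → ∀ (hQR : ∀ q ∈ Q', (q : Ω) ∈ R)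
      (t : S), (∀ q (hq : q ∈ Q'), (t : Ω) * θ ⟨q, hQR q hq⟩ = θ ⟨q, hQR q hq⟩ * t) → lam t = 1) :
    ∃ ρ : X → A, IsRet lam ρ ∧
      (∀ q ∈ Q', ∀ x : X, ρ (((q, (1 : S)) : S × S) • x) = lam q * ρ x) ∧
      ∀ σ : GX S X, (∀ q ∈ Q', σ * iotaX S X q = iotaX S X q * σ) → ∀ x : X,
        (∀ q ∈ Q', barPerm (iotaX S X q) (Quotient.mk (rightRel S X) x) =
          Quotient.mk (rightRel S X) x) → ρ (σ.1 x) = ρ x := by
  classical
  let C : Subgroup (GX S X) :=
    { carrier := {g | ∀ q ∈ Q', g * iotaX S X q = iotaX S X q * g}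
      mul_mem' := by
        intro a b ha hb q hq
        rw [mul_assoc, hb q hq, ← mul_assoc, ha q hq, mul_assoc]
      one_mem' := by
        intro q _
        rw [one_mul, mul_one]
      inv_mem' := by
        intro a ha q hq
        have := ha q hq
        rw [eq_mul_inv_iff_mul_eq, mul_assoc, ← this, ← mul_assoc, inv_mul_cancel, one_mul] }
  letI := actRC C
  let χ : S × C →* A := (lam.comp (MonoidHom.fst S C))⁻¹
  obtain ⟨ρ₁, hρ₁⟩ := exists_equivariant χ (fixW X Q') (by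
    intro h x hx
    rw [actRC_smul, fixW_right]
    exact fixW_gx _ h.2.2 hx) (by
    intro x hx h hfix
    rw [actRC_smul] at hfix
    have h1 := stab_cond hX Q' hcent _ h.2.2 x hx h.1 hfix
    show (lam h.1)⁻¹ = 1
    rw [h1, inv_one])
  obtain ⟨ρ₀, hρ₀⟩ := exists_biequivariant (A := A) hX hlam
  have hρ₁r : ∀ (t : S) (x : X), x ∈ fixW X Q' →
      ρ₁ ((((1 : S), t) : S × S) • x) = ρ₁ x * (lam t)⁻¹ := by
    intro t x hx
    have := hρ₁ (t, 1) x hx
    rw [actRC_smul] at this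
    rw [mul_comm]
    exact this
  have hρ₁g : ∀ (g : GX S X) (hg : ∀ q ∈ Q', g * iotaX S X q = iotaX S X q * g) (x : X),
      x ∈ fixW X Q' → ρ₁ (g.1 x) = ρ₁ x := by
    intro g hg x hx
    have := hρ₁ (1, ⟨g, hg⟩) x hx
    rw [actRC_smul] at this
    have e : χ (1, ⟨g, hg⟩) = 1 := by
      show (lam 1)⁻¹ = 1
      rw [map_one, inv_one]
    rw [e, one_mul] at this
    rw [← this]
    show ρ₁ (g.1 x) = ρ₁ ((((1 : S), (1 : S)) : S × S) • g.1 x)
    rw [one_one_smul]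
  let ρ : X → A := fun x => if x ∈ fixW X Q' then ρ₁ x else ρ₀ x
  have hρ : IsRet lam ρ := by
    intro t x
    show (if _ ∈ fixW X Q' then _ else _) = (if _ ∈ fixW X Q' then _ else _) * _
    by_cases hx : x ∈ fixW X Q'
    · rw [if_pos hx, if_pos ((fixW_right t x).mpr hx)]
      exact hρ₁r t x hx
    · rw [if_neg hx, if_neg (fun h => hx ((fixW_right t x).mp h))]
      exact isRet_of_biequivariant hρ₀ t x
  refine ⟨ρ, hρ, ?_, ?_⟩
  · intro q hq x
    by_cases hx : x ∈ fixW X Q'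
    · obtain ⟨t', ht'⟩ := fixW_label hx hq
      have h1 := stab_lam hX hlam x q t' ht'
      have h2 : ((q, (1 : S)) : S × S) • x = (((1 : S), t'⁻¹) : S × S) • x := by
        conv_rhs => rw [← ht', ← mul_smul]
        congr 1
        apply Prod.ext <;> simp
      rw [h2, hρ, map_inv, inv_inv, h1, mul_comm]
    · show (if _ ∈ fixW X Q' then _ else _) = _ * (if _ ∈ fixW X Q' then _ else _)
      rw [if_neg hx, if_neg (fun h => hx ((fixW_left_iff hq x).mp h)), hρ₀, map_one, inv_one,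
        mul_one]
  · intro σ hσ x hx
    have hx' : x ∈ fixW X Q' := hx
    show (if _ ∈ fixW X Q' then _ else _) = (if _ ∈ fixW X Q' then _ else _)
    rw [if_pos hx', if_pos (fixW_gx σ hσ hx')]
    exact hρ₁g σ hσ x hx'

/-- **Vanishing of the transfer on the centralizer** of the left action of a `p`-subgroup. -/
theorem trA_centralizer_eq_one [Fintype (Ybar S X)] {p : ℕ} [Fact p.Prime]
    (hA : ∀ a : A, a ^ p = 1) (hX : HasFGraphStab F X) (hlam : IsFInv F lam) (Q' : Subgroup S)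
    (hQ' : IsPGroup p Q')
    (hcent : ∀ (R : Subgroup Ω) (θ : R →* Ω), θ ∈ F.Hom R → ∀ (hQR : ∀ q ∈ Q', (q : Ω) ∈ R)
      (t : S), (∀ q (hq : q ∈ Q'), (t : Ω) * θ ⟨q, hQR q hq⟩ = θ ⟨q, hQR q hq⟩ * t) → lam t = 1)
    {ρ₀ : X → A} (hρ₀ : IsRet lam ρ₀) (σ : GX S X)
    (hσ : ∀ q ∈ Q', σ * iotaX S X q = iotaX S X q * σ) : trA hρ₀ σ = 1 := by
  obtain ⟨ρ, hρ, hleft, hfix⟩ := exists_adapted hX hlam Q' hcent
  rw [trA_indep hρ hρ₀]
  exact trA_eq_one hA Q' hQ' hρ σ hσ hleft (hfix σ hσ)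

end Adapted

end Cfsg.Agent.Lib.Helper26.PPI
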