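import Cfsg.Agent.Lib.Helper26.PPIb
import Cfsg.Agent.Lib.helper17.CB13

set_option autoImplicit false

namespace Cfsg.Agent.Lib.Helper26.PPI

open Cfsg Cfsg.FusionSystem MulAction
open Cfsg.Agent.Lib.Helper26
open Cfsg.Agent.Lib.helper17.ParkGraph (graphOf IsFGraph mem_graphOf alpha1 alpha2 alpha1_apply
  alpha2_apply)
open Cfsg.Agent.Lib.helper17.CB1 Cfsg.Agent.Lib.helper17.CB2
open Cfsg.Agent.Lib.helper17.CB11 Cfsg.Agent.Lib.helper17.CB12 Cfsg.Agent.Lib.helper17.CB14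

universe u v w

variable {Ω : Type u} [Group Ω] {S : Subgroup Ω} {F : FusionSystem S}

/-- a variant of the swap criterion for graphs -/
theorem mem_of_swap_mem_graph' {Δ : Subgroup (S × S)} (hΔ : IsFGraph F Δ)
    {P : Subgroup Ω} (hP : P ≤ S) (φ : P →* Ω) (hφS : ∀ x : P, φ x ∈ S) (θ' : P →* Ω)
    (hθ' : θ' ∈ F.Hom P)
    (h : ∀ u : P, ((⟨φ u, hφS u⟩, ⟨θ' u, apply_mem F hθ' u⟩) : S × S) ∈ Δ) : φ ∈ F.Hom P := by
  obtain ⟨Q, θ, hθ, rfl⟩ := hΔ
  obtain ⟨ψ, hψ, hψθ⟩ := F.inv_mem hθ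
  have hr : ∀ u : P, θ' u ∈ θ.range := by
    intro u
    obtain ⟨h1, h2⟩ := mem_graphOf.mp (h u)
    exact ⟨⟨φ u, h1⟩, h2⟩
  have h1 := F.comp_mem hθ' hψ hr
  refine mem_of_forall_eq F h1 (fun u => ?_)
  obtain ⟨h3, h4⟩ := mem_graphOf.mp (h u)
  show φ u = ψ ⟨θ' u, hr u⟩
  have h5 : (⟨θ' u, hr u⟩ : θ.range) = ⟨θ ⟨φ u, h3⟩, ⟨⟨φ u, h3⟩, rfl⟩⟩ := by
    apply Subtype.ext
    exact h4.symm
  rw [h5, hψθ]

section Biset

variable {X : Type v} [MulAction (S × S) X]

theorem iotaX_injective [Nonempty X] (hX : HasFGraphStab F X) :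
    Function.Injective (iotaX S X) := by
  intro s s' h
  obtain ⟨x⟩ := ‹Nonempty X›
  have h1 : ((s, (1 : S)) : S × S) • x = ((s', (1 : S)) : S × S) • x := by
    have := congrArg (fun g : GX S X => g.1 x) h
    exact this
  have h2 : ((s'⁻¹ * s, (1 : S)) : S × S) • x = x := by
    have e : ((s'⁻¹ * s, (1 : S)) : S × S) = ((s', (1 : S)) : S × S)⁻¹ * (s, (1 : S)) := by simp
    rw [e, mul_smul, inv_smul_eq_iff, h1]
  obtain ⟨R, θ, hθ, hst⟩ := exists_stab_graph hX x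
  obtain ⟨h3, h4⟩ := (hst _).mp h2
  have h5 : (⟨((s'⁻¹ * s : S) : Ω), h3⟩ : R) = 1 := by
    apply F.injective_of_mem hθ
    rw [map_one]
    exact h4
  have h6 : ((s'⁻¹ * s : S) : Ω) = 1 := congrArg Subtype.val h5
  have h7 : s'⁻¹ * s = 1 := Subtype.ext h6
  exact (inv_mul_eq_one.mp h7).symm

/-- a point whose stabilizer projects onto `S` -/
theorem exists_full_point [Finite S] [Finite X] {p : ℕ} [Fact p.Prime] (hS : IsPGroup p S)
    (hX : HasFGraphStab F X) (hcard : ¬ p ∣ Nat.card (Ybar S X)) :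
    ∃ (x : X) (θ : S →* Ω) (hθ : θ ∈ F.Hom S),
      ∀ s : S, ((s, ⟨θ s, apply_mem F hθ s⟩) : S × S) • x = x := by
  classical
  haveI : Fintype (Ybar S X) := Fintype.ofFinite _
  have hy : ∃ y : Ybar S X, ∀ c ∈ (⊤ : Subgroup S), barPerm (iotaX S X c) y = y := by
    by_contra hcon
    push Not at hcon
    apply hcard
    have h1 := dvd_card_of_no_fixed (X := X) (⊤ : Subgroup S) (hS.to_subgroup ⊤) Finset.univ
      (fun _ _ _ _ => Finset.mem_univ _) (fun y _ => hcon y)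
    rw [Finset.card_univ, ← Nat.card_eq_fintype_card] at h1
    exact h1
  obtain ⟨y, hy⟩ := hy
  obtain ⟨x, rfl⟩ := Quotient.exists_rep y
  have hx : x ∈ fixW X (⊤ : Subgroup S) := hy
  obtain ⟨R, θ, hθ, hst⟩ := exists_stab_graph hX x
  have hSR : S ≤ R := by
    intro s hs
    obtain ⟨t, ht⟩ := fixW_label hx (Subgroup.mem_top (⟨s, hs⟩ : S))
    exact ((hst _).mp ht).1
  obtain rfl : R = S := le_antisymm (source_le F hθ) hSR
  refine ⟨x, θ, hθ, fun s => ?_⟩
  exact (hst _).mpr ⟨s.2, rfl⟩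

/-- **Park's theorem for a biset with graph stabilizers, twisted equivalences and a number of
right orbits prime to `p`.** -/
theorem isRealizedBy_iotaX [Finite S] [Finite X] {p : ℕ} [Fact p.Prime] (hS : IsPGroup p S)
    (hX : HasFGraphStab F X) (hcard : ¬ p ∣ Nat.card (Ybar S X))
    (htw : ∀ (P : Subgroup Ω) (hP : P ≤ S) (φ : P →* Ω) (_ : φ ∈ F.Hom P)
      (hφS : ∀ x : P, φ x ∈ S), ∃ e : X ≃ X, ∀ (k : P × S) (x : X),
        e (alpha1 hP k • x) = alpha2 φ hφS k • e x) :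
    F.IsRealizedBy (iotaX S X) := by
  obtain ⟨x₁, θ, hθ, hx₁⟩ := exists_full_point hS hX hcard
  haveI : Nonempty X := ⟨x₁⟩
  refine ⟨iotaX_injective hX, fun P hP φ hφS => ⟨fun hφ => ?_, ?_⟩⟩
  · obtain ⟨e, he⟩ := htw P hP φ hφ hφS
    have heG : e ∈ GX S X := by
      intro t x
      have := he ((1 : P), t) x
      have h1 : alpha1 hP ((1 : P), t) = ((1 : S), t) := by
        rw [alpha1_apply]; apply Prod.ext <;> simp
      have h2 : alpha2 φ hφS ((1 : P), t) = ((1 : S), t) := by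
        rw [alpha2_apply]; apply Prod.ext <;> simp
      rw [h1, h2] at this
      exact this
    refine ⟨⟨e, heG⟩, fun u => ?_⟩
    rw [eq_mul_inv_iff_mul_eq]
    apply Subtype.ext
    apply Equiv.ext
    intro z
    simp only [Subgroup.coe_mul, Equiv.Perm.mul_apply, iotaX_apply]
    have := he (u, (1 : S)) z
    rw [alpha1_apply, alpha2_apply] at this
    exact this.symm
  · rintro ⟨g, hg⟩
    have hΔ : IsFGraph F (stabilizer (S × S) (g.1 x₁)) := hX _ _ (fun a ha => ha)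
    refine mem_of_swap_mem_graph' hΔ hP φ hφS (θ.comp (Subgroup.inclusion hP))
      (restrict_mem F hθ hP) (fun u => ?_)
    rw [mem_stabilizer_iff]
    have h1 : iotaX S X ⟨φ u, hφS u⟩ * g = g * iotaX S X ⟨u, hP u.2⟩ := by
      rw [hg u]; group
    have h2 : ((⟨φ u, hφS u⟩, (1 : S)) : S × S) • g.1 x₁ =
        g.1 (((⟨u, hP u.2⟩, (1 : S)) : S × S) • x₁) := by
      have := congrArg (fun k : GX S X => k.1 x₁) h1
      exact this
    have e : ∀ (a b : S), ((a, b) : S × S) = ((1 : S), b) * (a, (1 : S)) := by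
      intro a b
      apply Prod.ext <;> simp
    rw [e, mul_smul, h2, ← g.2, ← mul_smul, ← e]
    exact congrArg g.1 (hx₁ ⟨u, hP u.2⟩)

end Biset

section Main

variable {A : Type w} [CommGroup A] {lam : S →* A}

/-- receptivity turns the hypothesis on the centralizer into the hypothesis used for the adapted
function -/
theorem hcent_of_receptive (hlam : IsFInv F lam) {Q : Subgroup Ω} (hQ : Q ≤ S)
    (hrec : F.IsReceptive Q)
    (hC : ∀ (x : Ω) (hx : x ∈ centralizerIn S Q), lam ⟨x, hx.1⟩ = 1) :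
    ∀ (R : Subgroup Ω) (θ : R →* Ω), θ ∈ F.Hom R →
      ∀ (hQR : ∀ q ∈ Q.subgroupOf S, (q : Ω) ∈ R) (t : S),
      (∀ q (hq : q ∈ Q.subgroupOf S), (t : Ω) * θ ⟨q, hQR q hq⟩ = θ ⟨q, hQR q hq⟩ * t) →
      lam t = 1 := by
  intro R θ hθ hQR t ht
  have hQR' : Q ≤ R := fun x hx => hQR ⟨x, hQ hx⟩ (Subgroup.mem_subgroupOf.mpr hx)
  have hθQ : θ.comp (Subgroup.inclusion hQR') ∈ F.Hom Q := restrict_mem F hθ hQR'
  obtain ⟨ψ, hψ, hψr, hψθ, -⟩ := exists_inv F hθQ rfl
  obtain ⟨ψ', hψ', hext⟩ := hrec.2 _ ψ hψ hψr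
  have htC : (t : Ω) ∈ centralizerIn S (θ.comp (Subgroup.inclusion hQR')).range := by
    refine ⟨t.2, ?_⟩
    rintro _ ⟨x, rfl⟩
    exact (ht ⟨x, hQ x.2⟩ (Subgroup.mem_subgroupOf.mpr x.2)).symm
  have htE := centralizerIn_le_extender S _ ψ htC
  have hv : ψ' ⟨t, htE⟩ ∈ centralizerIn S Q := by
    refine ⟨apply_mem F hψ' _, ?_⟩
    intro x hx
    have hy : θ.comp (Subgroup.inclusion hQR') ⟨x, hx⟩ ∈
        (θ.comp (Subgroup.inclusion hQR')).range := ⟨⟨x, hx⟩, rfl⟩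
    have hyE := le_extender F hψ hy
    have h1 : ψ' ⟨θ.comp (Subgroup.inclusion hQR') ⟨x, hx⟩, hyE⟩ = x := by
      rw [hext _ hy hyE]
      exact hψθ ⟨x, hx⟩ hy
    rw [← h1, ← map_mul, ← map_mul]
    congr 1
    apply Subtype.ext
    exact (ht ⟨x, hQ hx⟩ (Subgroup.mem_subgroupOf.mpr hx)).symm
  have h2 := hC _ hv
  have h3 := hlam _ ψ' hψ' ⟨t, htE⟩
  rw [← h2, h3]

/-- **The Park group with its transfer.** For a saturated fusion system `F` over `S` and a
homomorphism `lam` from `S` into an abelian group of exponent `p` that is constant on the classes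
of `F`: a group `G` realizing `F` through `ι`, with a homomorphism `V` from `G` restricting to a
power of `lam` prime to `p` on `S`, and trivial on the centralizer in `G` of every receptive
subgroup whose centralizer in `S` lies in the kernel of `lam`. -/
theorem exists_park_transfer [Finite S] {p : ℕ} [Fact p.Prime] (hS : IsPGroup p S)
    (F : FusionSystem S) (hF : F.IsSaturated p) (lam : S →* A)
    (hlam : IsFInv F lam) (hA : ∀ a : A, a ^ p = 1) :
    ∃ (G : Type u) (_ : Group G) (ι : S →* G) (V : G →* A) (m : ℕ), ¬ p ∣ m ∧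
      F.IsRealizedBy ι ∧ (∀ s : S, V (ι s) = lam s ^ m) ∧
      ∀ (Q : Subgroup Ω) (hQ : Q ≤ S), F.IsReceptive Q →
        (∀ (x : Ω) (hx : x ∈ centralizerIn S Q), lam ⟨x, hx.1⟩ = 1) →
        ∀ c : G, (∀ q : Q, c * ι ⟨q, hQ q.2⟩ = ι ⟨q, hQ q.2⟩ * c) → V c = 1 := by
  classical
  obtain ⟨X, hfin, hact, hXg, hst, m, hcard, hm⟩ := exists_char_biset hS F hF
  have hX : HasFGraphStab F X := hXg
  obtain ⟨r, hr⟩ := exists_retraction (X := X) (⊥ : Subgroup S) (by
    intro x c t hc hfix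
    rw [Subgroup.mem_bot] at hc
    subst hc
    obtain ⟨R, θ, hθ, hstx⟩ := exists_stab_graph hX x
    obtain ⟨h1, h2⟩ := (hstx _).mp hfix
    apply Subtype.ext
    rw [← h2]
    have h3 : (⟨(((1 : S), t) : S × S).1, h1⟩ : R) = 1 := Subtype.ext rfl
    rw [h3, map_one]
    rfl)
  have hr1 : ∀ (t : S) (x : X), r (((1 : S), t) • x) = r x * t⁻¹ := by
    intro t x
    rw [hr 1 (Subgroup.one_mem _) t x, one_mul]
  haveI : Fintype (Ybar S X) := Fintype.ofFinite _
  have hcard2 := card_eq_of_retraction r hr1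
  have hm' : Nat.card (Ybar S X) = m := by
    rw [hcard, mul_comm] at hcard2
    exact (Nat.eq_of_mul_eq_mul_right Nat.card_pos hcard2).symm
  obtain ⟨ρ₀, hρ₀⟩ := exists_biequivariant (A := A) hX hlam
  have hρ₀' : IsRet lam ρ₀ := isRet_of_biequivariant hρ₀
  refine ⟨GX S X, inferInstance, iotaX S X, trHom hρ₀', m, hm, ?_, ?_, ?_⟩
  · apply isRealizedBy_iotaX hS hX (by rw [hm']; exact hm)
    intro P hP φ hφ hφS
    exact exists_twisted_equiv F hXg hst hP φ hφ hφS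
  · intro s
    rw [trHom_apply, trA_iota hρ₀' s, ← Nat.card_eq_fintype_card, hm']
    intro x
    rw [hρ₀, map_one, inv_one, mul_one]
  · intro Q hQ hrec hC c hc
    rw [trHom_apply]
    apply trA_centralizer_eq_one hA hX hlam (Q.subgroupOf S) (hS.to_subgroup _)
      (hcent_of_receptive hlam hQ hrec hC) hρ₀' c
    intro q hq
    exact hc ⟨q, Subgroup.mem_subgroupOf.mp hq⟩

end Main

end Cfsg.Agent.Lib.Helper26.PPI
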