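import Cfsg.Agent.S5082
import Cfsg.Agent.Lib.Helper26.FusionSat3
import Cfsg.Agent.Lib.Helper26.FusionHyp2
import Cfsg.Agent.Lib.Helper1.Residual

set_option autoImplicit false

namespace Cfsg.Agent.Lib.Helper26

open Cfsg Cfsg.FusionSystem

variable {Ω : Type*} [Group Ω] {S : Subgroup Ω}

theorem autGroup_mono_of_subsystem {T : Subgroup Ω} {E : FusionSystem T} {F : FusionSystem S}
    (h : E.IsSubsystemOf F) (P : Subgroup Ω) : E.autGroup P ≤ F.autGroup P := by
  apply Subgroup.closure_mono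
  intro α hα
  exact h P hα

theorem le_of_subsystem {T : Subgroup Ω} {E : FusionSystem T} {F : FusionSystem S}
    (h : E.IsSubsystemOf F) : T ≤ S :=
  source_le F (h T (subtype_mem E le_rfl))

theorem eq_pResidual_sup_of_isSylowIn {A : Type*} [Group A] [Finite A] {p : ℕ} [Fact p.Prime]
    (H R : Subgroup A) (hRH : R ≤ H) (hR : IsSylowIn p H R) :
    H = (pResidual p H).map H.subtype ⊔ R := by
  obtain ⟨Q, hQ⟩ := hR
  have h1 := Cfsg.Agent.Lib.Helper1.sylow_sup_pResidual Q
  have h2 := congrArg (Subgroup.map H.subtype) h1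
  rw [Subgroup.map_sup, ← MonoidHom.range_eq_map, Subgroup.range_subtype, hQ,
    Subgroup.map_subgroupOf_eq_of_le hRH] at h2
  rw [sup_comm]
  exact h2.symm

/-- a saturated subsystem of `p`-power index lies in any other subsystem of `p`-power index over the same subgroup -/
theorem le_of_pPowerIndex [Finite S] {p : ℕ} [Fact p.Prime] (hS : IsPGroup p S) (F : FusionSystem S)
    {T : Subgroup Ω} (E₁ E₂ : FusionSystem T) (h₁s : E₁.IsSaturated p)
    (h₁ : E₁.HasPPowerIndexIn F p) (h₂ : E₂.HasPPowerIndexIn F p) : E₁ ≤ E₂ := by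
  have hTS : T ≤ S := le_of_subsystem h₁.1
  have hfinT : Finite T := finite_of_le hTS
  have hT : IsPGroup p T := hS.to_le hTS
  refine Cfsg.Agent.S5082.result p hT E₁ h₁s E₂ (fun P hP => ?_)
  have hfn : E₁.IsFullyNormalized P := by
    rcases hP with rfl | hP
    · exact top_fullyNormalized E₁
    · exact hP.2.1
  have hPT : P ≤ T := hfn.1
  have hfinP : Finite P := finite_of_le (hPT.trans hTS)
  have hfa : E₁.IsFullyAutomized p P := (saturated_fullyNormalized hT E₁ h₁s hfn).2.1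
  have hsyl : IsSylowIn p (E₁.autGroup P) (autInducedBy T P) := hfa.2
  have hle : autInducedBy T P ≤ E₁.autGroup P := autInducedBy_le_autGroup E₁ hPT
  rw [eq_pResidual_sup_of_isSylowIn (E₁.autGroup P) (autInducedBy T P) hle hsyl]
  refine sup_le ?_ (autInducedBy_le_autGroup E₂ hPT)
  refine le_trans ?_ (h₂.2.2 P hPT)
  have hAF : E₁.autGroup P ≤ F.autGroup P := autGroup_mono_of_subsystem h₁.1 P
  have h3 := map_pResidual_le p (Subgroup.inclusion hAF) (Subgroup.inclusion_injective hAF)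
  have h4 := Subgroup.map_mono (f := (F.autGroup P).subtype) h3
  rw [Subgroup.map_map] at h4
  exact h4

theorem hom_eq_of_pPowerIndex [Finite S] {p : ℕ} [Fact p.Prime] (hS : IsPGroup p S) (F : FusionSystem S)
    {T₁ T₂ : Subgroup Ω} (h : T₁ = T₂) (E₁ : FusionSystem T₁) (E₂ : FusionSystem T₂)
    (h₁s : E₁.IsSaturated p) (h₂s : E₂.IsSaturated p)
    (h₁ : E₁.HasPPowerIndexIn F p) (h₂ : E₂.HasPPowerIndexIn F p) (P : Subgroup Ω) :
    E₁.Hom P = E₂.Hom P := by
  subst h
  exact Set.Subset.antisymm (le_of_pPowerIndex hS F E₁ E₂ h₁s h₁ h₂ P)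
    (le_of_pPowerIndex hS F E₂ E₁ h₂s h₂ h₁ P)

end Cfsg.Agent.Lib.Helper26
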