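import Cfsg.Agent.Lib.Helper27.RealizeNormal
import Cfsg.Agent.Lib.Helper26.AlperinInd
import Cfsg.Agent.Lib.Helper26.FusionSat2
import Cfsg.Agent.Lib.Helper26.FusionFully
import Cfsg.Agent.Lib.Helper26.PPowerIndex

set_option autoImplicit false

namespace Cfsg.Agent.Lib.Helper26.PPI

open Cfsg Cfsg.FusionSystem
open Cfsg.Agent.Lib.Helper26
open Cfsg.Agent.Lib.Helper27 (pullFS pullFS_mem_iff exists_conj_of_mem_autGroup)

universe u v w

variable {Ω : Type u} [Group Ω] {S : Subgroup Ω} {G : Type v} [Group G] {A : Type w} [CommGroup A]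

/-- the data of a group realizing `F` together with a homomorphism into an abelian group of
exponent `p` whose values on the centralizers of receptive subgroups are taken on `S` -/
structure TrData (p : ℕ) (F : FusionSystem S) (ι : S →* G) (V : G →* A) : Prop where
  real : F.IsRealizedBy ι
  exp : ∀ a : A, a ^ p = 1
  surj : ∀ g : G, ∃ s : S, V (ι s) = V g
  kl : ∀ (Q : Subgroup Ω) (hQ : Q ≤ S), F.IsReceptive Q → ∀ c : G,
    (∀ q : Q, c * ι ⟨q, hQ q.2⟩ = ι ⟨q, hQ q.2⟩ * c) →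
    ∃ (z : Ω) (hz : z ∈ centralizerIn S Q), V (ι ⟨z, hz.1⟩) = V c

section Rel

variable {ι : S →* G} {Q : Subgroup Ω} (hQ : Q ≤ S)

/-- `g` induces `α` on `Q` through `ι` -/
def Rel (ι : S →* G) {Q : Subgroup Ω} (hQ : Q ≤ S) (α : MulAut Q) (g : G) : Prop :=
  ∀ x : Q, ι ⟨α x, hQ (α x).2⟩ = g * ι ⟨x, hQ x.2⟩ * g⁻¹

theorem rel_one : Rel ι hQ 1 1 := by
  intro x
  rw [one_mul, inv_one, mul_one]
  rfl

theorem rel_mul {α β : MulAut Q} {g h : G} (h₁ : Rel ι hQ α g) (h₂ : Rel ι hQ β h) :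
    Rel ι hQ (α * β) (g * h) := by
  intro x
  show ι ⟨α (β x), _⟩ = _
  rw [h₁ (β x), h₂ x]
  group

theorem rel_inv {α : MulAut Q} {g : G} (h : Rel ι hQ α g) : Rel ι hQ α⁻¹ g⁻¹ := by
  intro x
  have h1 := h (α⁻¹ x)
  have h2 : ι ⟨α (α⁻¹ x), hQ (α (α⁻¹ x)).2⟩ = ι ⟨x, hQ x.2⟩ := by
    congr 1
    apply Subtype.ext
    rw [MulAut.apply_inv_self]
  rw [h2] at h1
  rw [h1]
  group

theorem rel_pow {α : MulAut Q} {g : G} (h : Rel ι hQ α g) (n : ℕ) : Rel ι hQ (α ^ n) (g ^ n) := by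
  induction n with
  | zero =>
    rw [pow_zero, pow_zero]
    exact rel_one hQ
  | succ k ih =>
    rw [pow_succ, pow_succ]
    exact rel_mul hQ ih h

end Rel

theorem card_normalizerIn_le_of_conj [Finite S] {Q₀ Q : Subgroup Ω} {s : Ω} (hs : s ∈ S)
    (hQ : ∀ y, y ∈ Q ↔ s⁻¹ * y * s ∈ Q₀) :
    Nat.card (normalizerIn S Q₀) ≤ Nat.card (normalizerIn S Q) := by
  have hfin : Finite ↥(normalizerIn S Q) := finite_of_le inf_le_left
  have hmem : ∀ x : ↥(normalizerIn S Q₀), s * x * s⁻¹ ∈ normalizerIn S Q := by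
    intro x
    refine ⟨S.mul_mem (S.mul_mem hs x.2.1) (S.inv_mem hs), mem_normalizer_of_forall ?_ ?_⟩
    · intro y hy
      rw [hQ] at hy ⊢
      have h1 := conj_mem_of_mem_normalizer x.2.2 ⟨_, hy⟩
      have e : s⁻¹ * (s * (x : Ω) * s⁻¹ * y * (s * (x : Ω) * s⁻¹)⁻¹) * s =
          (x : Ω) * (s⁻¹ * y * s) * (x : Ω)⁻¹ := by group
      rw [e]
      exact h1
    · intro y hy
      rw [hQ] at hy ⊢
      have h1 := conj_inv_mem_of_mem_normalizer x.2.2 ⟨_, hy⟩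
      have e : s⁻¹ * ((s * (x : Ω) * s⁻¹)⁻¹ * y * (s * (x : Ω) * s⁻¹)) * s =
          (x : Ω)⁻¹ * (s⁻¹ * y * s) * (x : Ω) := by group
      rw [e]
      exact h1
  exact Nat.card_le_card_of_injective (fun x => (⟨s * x * s⁻¹, hmem x⟩ : ↥(normalizerIn S Q))) (by
    intro x y hxy
    have h1 : s * (x : Ω) * s⁻¹ = s * (y : Ω) * s⁻¹ := congrArg Subtype.val hxy
    apply Subtype.ext
    exact mul_left_cancel (mul_right_cancel h1))

variable {p : ℕ} {F : FusionSystem S} {ι : S →* G} {V : G →* A}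

theorem mem_T {x : Ω} : x ∈ preSub ι V.ker ↔ ∃ hx : x ∈ S, V (ι ⟨x, hx⟩) = 1 := by
  rw [mem_preSub_iff]
  simp only [MonoidHom.mem_ker]

namespace TrData

variable (D : TrData p F ι V)

include D

theorem V_inv {P : Subgroup Ω} {φ : P →* Ω} (hφ : φ ∈ F.Hom P) (x : P) :
    V (ι ⟨φ x, apply_mem F hφ x⟩) = V (ι ⟨x, source_le F hφ x.2⟩) := by
  obtain ⟨g, hg⟩ := exists_of_mem_hom F D.real hφ
  rw [hg x, map_mul, map_mul, map_inv, mul_comm, inv_mul_cancel_left]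

theorem T_closed {P : Subgroup Ω} {φ : P →* Ω} (hφ : φ ∈ F.Hom P) (x : P)
    (hx : (x : Ω) ∈ preSub ι V.ker) : φ x ∈ preSub ι V.ker := by
  rw [mem_T] at hx ⊢
  obtain ⟨hxS, h1⟩ := hx
  exact ⟨apply_mem F hφ x, by rw [D.V_inv hφ x]; exact h1⟩

theorem mem_E_iff {P : Subgroup Ω} {φ : P →* Ω} :
    φ ∈ (pullFS ι D.real.1 V.ker).Hom P ↔ P ≤ preSub ι V.ker ∧ (∀ x : P, φ x ∈ preSub ι V.ker) ∧
      ∃ g : G, V g = 1 ∧ ∀ (x : P) (hx : (x : Ω) ∈ S) (hφ : φ x ∈ S),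
        ι ⟨φ x, hφ⟩ = g * ι ⟨x, hx⟩ * g⁻¹ := by
  rw [pullFS_mem_iff]
  simp only [MonoidHom.mem_ker, exists_prop]

theorem E_sub : (pullFS ι D.real.1 V.ker).IsSubsystemOf F := by
  intro P φ hφ
  obtain ⟨hP, hφT, g, -, hg⟩ := D.mem_E_iff.mp hφ
  have hTS := preSub_le ι V.ker
  exact (D.real.2 P (hP.trans hTS) φ (fun x => hTS (hφT x))).mpr ⟨g, fun x => hg x _ _⟩

theorem mem_E_of {P : Subgroup Ω} (hPT : P ≤ preSub ι V.ker) {φ : P →* Ω} (hφ : φ ∈ F.Hom P)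
    (g : G) (hg : V g = 1)
    (hr : ∀ x : P, ι ⟨φ x, apply_mem F hφ x⟩ = g * ι ⟨x, source_le F hφ x.2⟩ * g⁻¹) :
    φ ∈ (pullFS ι D.real.1 V.ker).Hom P := by
  rw [D.mem_E_iff]
  exact ⟨hPT, fun x => D.T_closed hφ x (hPT x.2), g, hg, fun x _ _ => hr x⟩

/-- every map of `F` defined on a subgroup of the kernel becomes a map of the subsystem after a
conjugation in `S` -/
theorem exists_twist {P : Subgroup Ω} (hPT : P ≤ preSub ι V.ker) {φ : P →* Ω}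
    (hφ : φ ∈ F.Hom P) :
    ∃ (s : Ω) (_ : s ∈ S), (conjHom S s).comp (φ.codRestrict S (apply_mem F hφ)) ∈
      (pullFS ι D.real.1 V.ker).Hom P := by
  obtain ⟨g, hg⟩ := exists_of_mem_hom F D.real hφ
  obtain ⟨s, hs⟩ := D.surj g⁻¹
  refine ⟨s, s.2, ?_⟩
  have h1 := F.comp_mem hφ (F.conj_mem (le_refl S) s.2) (apply_mem F hφ)
  refine D.mem_E_of hPT h1 (ι s * g) (by rw [map_mul, hs, map_inv, inv_mul_cancel]) (fun x => ?_)
  have h2 : ι ⟨(conjHom S s).comp (φ.codRestrict S (apply_mem F hφ)) x, apply_mem F h1 x⟩ =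
      ι s * ι ⟨φ x, apply_mem F hφ x⟩ * (ι s)⁻¹ := by
    rw [← map_inv, ← map_mul, ← map_mul]
    rfl
  rw [h2, hg x]
  group

/-- every subgroup of the kernel is conjugate in the subsystem to a fully `F`-normalized one -/
theorem exists_conj_fn [Finite S] {P : Subgroup Ω} (hPT : P ≤ preSub ι V.ker) :
    ∃ Q, (pullFS ι D.real.1 V.ker).IsConj P Q ∧ F.IsFullyNormalized Q := by
  have hTS := preSub_le ι V.ker
  obtain ⟨Q₀, ⟨φ, hφ, hr⟩, hfn⟩ := exists_fullyNormalized_conj F (hPT.trans hTS)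
  obtain ⟨s, hs, hE⟩ := D.exists_twist hPT hφ
  have hφ'F := D.E_sub P hE
  refine ⟨_, ⟨_, hE, rfl⟩, range_le F hφ'F, fun Q'' hQ'' => ?_⟩
  have h1 : F.IsConj Q₀ ((conjHom S s).comp (φ.codRestrict S (apply_mem F hφ))).range :=
    isConj_trans F (isConj_symm F ⟨φ, hφ, hr⟩) ⟨_, hφ'F, rfl⟩
  have h2 := hfn.2 Q'' (isConj_trans F h1 hQ'')
  refine h2.trans (card_normalizerIn_le_of_conj hs ?_)
  intro y
  rw [← hr]
  constructor
  · rintro ⟨x, rfl⟩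
    refine ⟨x, ?_⟩
    show φ x = s⁻¹ * (s * φ x * s⁻¹) * s
    group
  · rintro ⟨x, hx⟩
    refine ⟨x, ?_⟩
    show s * φ x * s⁻¹ = y
    rw [hx]
    group

theorem mem_autGroup_F_iff {Q : Subgroup Ω} (hQ : Q ≤ S) {α : MulAut Q} :
    α ∈ F.autGroup Q ↔ ∃ g : G, Rel ι hQ α g := by
  constructor
  · intro hα
    exact exists_conj_of_mem_autGroup F D.real hQ hα
  · rintro ⟨g, hg⟩
    rw [mem_autGroup_iff F hQ]
    exact (D.real.2 Q hQ _ (fun x => hQ (α x).2)).mpr ⟨g, fun x => hg x⟩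

theorem mem_autGroup_E_iff {Q : Subgroup Ω} (hQT : Q ≤ preSub ι V.ker) {α : MulAut Q} :
    α ∈ (pullFS ι D.real.1 V.ker).autGroup Q ↔
      ∃ g : G, V g = 1 ∧ Rel ι (hQT.trans (preSub_le ι V.ker)) α g := by
  rw [mem_autGroup_iff _ hQT, D.mem_E_iff]
  constructor
  · rintro ⟨-, -, g, hg, h⟩
    exact ⟨g, hg, fun x => h x _ _⟩
  · rintro ⟨g, hg, h⟩
    exact ⟨hQT, fun x => hQT (α x).2, g, hg, fun x _ _ => h x⟩

theorem fullyAutomized [Finite S] [Fact p.Prime] (hS : IsPGroup p S) (hF : F.IsSaturated p)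
    {Q : Subgroup Ω} (hQT : Q ≤ preSub ι V.ker) (hfn : F.IsFullyNormalized Q) :
    (pullFS ι D.real.1 V.ker).IsFullyAutomized p Q := by
  have hTS := preSub_le ι V.ker
  have hQS := hQT.trans hTS
  haveI : Finite Q := finite_of_le hQS
  obtain ⟨-, hfa, hrec⟩ := saturated_fullyNormalized hS F hF hfn
  have hsyl := isSylowIn18_of_fullyAutomized F hfa
  have hle : (pullFS ι D.real.1 V.ker).autGroup Q ≤ F.autGroup Q :=
    autGroup_mono_of_subsystem D.E_sub Q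
  have key : ∀ (b : MulAut Q) (k : G), Rel ι hQS b k →
      ∀ l ∈ (pullFS ι D.real.1 V.ker).autGroup Q,
        b * l * b⁻¹ ∈ (pullFS ι D.real.1 V.ker).autGroup Q := by
    intro b k hk l hl
    obtain ⟨n, hn, hnl⟩ := (D.mem_autGroup_E_iff hQT).mp hl
    rw [D.mem_autGroup_E_iff hQT]
    refine ⟨k * n * k⁻¹, by rw [map_mul, map_mul, hn, mul_one, map_inv, mul_inv_cancel], ?_⟩
    exact rel_mul hQS (rel_mul hQS hk hnl) (rel_inv hQS hk)
  have hnorm : F.autGroup Q ≤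
      Subgroup.normalizer ((pullFS ι D.real.1 V.ker).autGroup Q : Set (MulAut Q)) := by
    intro a ha
    obtain ⟨g, hg⟩ := (D.mem_autGroup_F_iff hQS).mp ha
    apply mem_normalizer_of_forall
    · intro l hl
      exact key a g hg l hl
    · intro l hl
      have := key a⁻¹ g⁻¹ (rel_inv hQS hg) l hl
      rwa [inv_inv] at this
  have hsyl2 := hsyl.inf_of_normal hle hnorm
  have heq : autInducedBy S Q ⊓ (pullFS ι D.real.1 V.ker).autGroup Q =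
      autInducedBy (preSub ι V.ker) Q := by
    apply le_antisymm
    · rintro α ⟨hαS, hαE⟩
      obtain ⟨s, hs, hsα⟩ := mem_autInducedBy_iff.mp hαS
      obtain ⟨n, hn, hnα⟩ := (D.mem_autGroup_E_iff hQT).mp hαE
      obtain ⟨z, hz, hzV⟩ := D.kl Q hQS hrec (n⁻¹ * ι ⟨s, hs⟩) (by
        intro q
        have h1 := hnα q
        have h2 : ι ⟨α q, hQS (α q).2⟩ =
            ι ⟨s, hs⟩ * ι ⟨q, hQS q.2⟩ * (ι ⟨s, hs⟩)⁻¹ := by
          rw [← map_inv, ← map_mul, ← map_mul]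
          congr 1
          apply Subtype.ext
          exact hsα q
        rw [h2] at h1
        calc n⁻¹ * ι ⟨s, hs⟩ * ι ⟨q, hQS q.2⟩
            = n⁻¹ * (ι ⟨s, hs⟩ * ι ⟨q, hQS q.2⟩ * (ι ⟨s, hs⟩)⁻¹) * ι ⟨s, hs⟩ := by group
          _ = ι ⟨q, hQS q.2⟩ * (n⁻¹ * ι ⟨s, hs⟩) := by rw [h1]; group)
      rw [map_mul, map_inv, hn, inv_one, one_mul] at hzV
      refine mem_autInducedBy_iff.mpr ⟨s * z⁻¹, ?_, fun x => ?_⟩
      · rw [mem_T]
        refine ⟨S.mul_mem hs (S.inv_mem hz.1), ?_⟩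
        have e : ι ⟨s * z⁻¹, S.mul_mem hs (S.inv_mem hz.1)⟩ =
            ι ⟨s, hs⟩ * (ι ⟨z, hz.1⟩)⁻¹ := by
          rw [← map_inv, ← map_mul]
          rfl
        rw [e, map_mul, map_inv, hzV, mul_inv_cancel]
      · rw [hsα x]
        have hzx : (x : Ω) * z = z * (x : Ω) := hz.2 x x.2
        have h3 : z⁻¹ * (x : Ω) * z = x := by
          rw [mul_assoc, hzx, inv_mul_cancel_left]
        calc s * (x : Ω) * s⁻¹ = s * (z⁻¹ * (x : Ω) * z) * s⁻¹ := by rw [h3]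
          _ = s * z⁻¹ * (x : Ω) * (s * z⁻¹)⁻¹ := by group
    · intro α hα
      exact ⟨autInducedBy_mono hTS Q hα, autInducedBy_le_autGroup _ hQT hα⟩
  rw [heq] at hsyl2
  exact ⟨hQT, hsyl2.exists_sylow⟩

theorem receptive [Finite S] [Fact p.Prime] (hS : IsPGroup p S) (hF : F.IsSaturated p)
    {Q : Subgroup Ω} (hQT : Q ≤ preSub ι V.ker) (hfn : F.IsFullyNormalized Q) :
    (pullFS ι D.real.1 V.ker).IsReceptive Q := by
  have hTS := preSub_le ι V.ker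
  have hQS := hQT.trans hTS
  obtain ⟨-, -, hrec⟩ := saturated_fullyNormalized hS F hF hfn
  refine ⟨hQT, fun P φ hφE hr => ?_⟩
  have hφF : φ ∈ F.Hom P := D.E_sub P hφE
  obtain ⟨ψ₀, hψ₀, hext⟩ := hrec.2 P φ hφF hr
  have hle : extender (preSub ι V.ker) P φ ≤ extender S P φ := by
    intro g hg
    obtain ⟨hgT, hN, h, hhT, hh⟩ := mem_extender_iff.mp hg
    exact mem_extender_iff.mpr ⟨hTS hgT, hN, h, hTS hhT, hh⟩
  have hNT : extender (preSub ι V.ker) P φ ≤ preSub ι V.ker :=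
    (extender_le_normalizerIn _ P φ).trans inf_le_left
  have hψ₁ : ψ₀.comp (Subgroup.inclusion hle) ∈ F.Hom (extender (preSub ι V.ker) P φ) :=
    restrict_mem F hψ₀ hle
  obtain ⟨g, hg⟩ := exists_of_mem_hom F D.real hψ₁
  obtain ⟨-, -, n, hn, hnφ⟩ := D.mem_E_iff.mp hφE
  have hPle : P ≤ extender (preSub ι V.ker) P φ := le_extender _ hφE
  have hPS : P ≤ S := source_le F hφF
  obtain ⟨z, hz, hzV⟩ := D.kl Q hQS hrec (g * n⁻¹) (by
    intro q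
    obtain ⟨x, hx⟩ : (q : Ω) ∈ φ.range := by rw [hr]; exact q.2
    have h1 := hg ⟨x, hPle x.2⟩
    have h2 : ψ₀.comp (Subgroup.inclusion hle) ⟨x, hPle x.2⟩ = φ x :=
      hext x x.2 (hle (hPle x.2))
    have h3 := hnφ x (hPS x.2) (apply_mem F hφF x)
    have h4 : ι ⟨q, hQS q.2⟩ = ι ⟨φ x, apply_mem F hφF x⟩ := by
      congr 1
      apply Subtype.ext
      exact hx.symm
    have h5 : ι ⟨ψ₀.comp (Subgroup.inclusion hle) ⟨x, hPle x.2⟩, apply_mem F hψ₁ _⟩ =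
        ι ⟨φ x, apply_mem F hφF x⟩ := by
      congr 1
      apply Subtype.ext
      exact h2
    rw [h5] at h1
    have h6 : ι ⟨x, hPS x.2⟩ = n⁻¹ * ι ⟨φ x, apply_mem F hφF x⟩ * n := by
      rw [h3]; group
    rw [h4]
    calc g * n⁻¹ * ι ⟨φ x, apply_mem F hφF x⟩
        = g * (n⁻¹ * ι ⟨φ x, apply_mem F hφF x⟩ * n) * g⁻¹ * (g * n⁻¹) := by group
      _ = ι ⟨φ x, apply_mem F hφF x⟩ * (g * n⁻¹) := by rw [← h6, ← h1])
  rw [map_mul, map_inv, hn, inv_one, mul_one] at hzV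
  have hzS : z⁻¹ ∈ S := S.inv_mem hz.1
  have hψ₂ := F.comp_mem hψ₁ (F.conj_mem (le_refl S) hzS) (apply_mem F hψ₁)
  refine ⟨_, D.mem_E_of hNT hψ₂ ((ι ⟨z, hz.1⟩)⁻¹ * g)
    (by rw [map_mul, map_inv, hzV, inv_mul_cancel]) (fun x => ?_), fun x hP hN => ?_⟩
  · have e : ι ⟨(conjHom S z⁻¹).comp ((ψ₀.comp (Subgroup.inclusion hle)).codRestrict S
          (apply_mem F hψ₁)) x, apply_mem F hψ₂ x⟩ =
        (ι ⟨z, hz.1⟩)⁻¹ * ι ⟨ψ₀.comp (Subgroup.inclusion hle) x, apply_mem F hψ₁ x⟩ *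
          ι ⟨z, hz.1⟩ := by
      rw [← map_inv, ← map_mul, ← map_mul]
      congr 1
      apply Subtype.ext
      show z⁻¹ * _ * z⁻¹⁻¹ = z⁻¹ * _ * z
      rw [inv_inv]
      rfl
    rw [e, hg x]
    group
  · show z⁻¹ * ψ₀ ⟨x, hle hN⟩ * z⁻¹⁻¹ = φ ⟨x, hP⟩
    rw [hext x hP (hle hN), inv_inv]
    have hφQ : φ ⟨x, hP⟩ ∈ Q := by rw [← hr]; exact ⟨_, rfl⟩
    have hzx : φ ⟨x, hP⟩ * z = z * φ ⟨x, hP⟩ := hz.2 _ hφQ
    rw [mul_assoc, hzx, inv_mul_cancel_left]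

theorem saturated [Finite S] [Fact p.Prime] (hS : IsPGroup p S) (hF : F.IsSaturated p) :
    (pullFS ι D.real.1 V.ker).IsSaturated p := by
  intro P hPT
  obtain ⟨Q, hPQ, hfn⟩ := D.exists_conj_fn hPT
  have hQT : Q ≤ preSub ι V.ker := isConj_le_right _ hPQ
  exact ⟨Q, hPQ, D.fullyAutomized hS hF hQT hfn, D.receptive hS hF hQT hfn⟩

theorem pPowerIndex (hhyp : F.hyperfocalSubgroup p ≤ preSub ι V.ker) :
    (pullFS ι D.real.1 V.ker).HasPPowerIndexIn F p := by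
  have hTS := preSub_le ι V.ker
  refine ⟨D.E_sub, hhyp, fun P hPT => ?_⟩
  have hPS := hPT.trans hTS
  rw [Subgroup.map_le_iff_le_comap]
  unfold pResidual
  rw [Subgroup.closure_le]
  intro α hα
  show (α : MulAut P) ∈ (pullFS ι D.real.1 V.ker).autGroup P
  obtain ⟨g, hg⟩ := (D.mem_autGroup_F_iff hPS).mp α.2
  have hcop : Nat.Coprime (orderOf (α : MulAut P)) p := by
    rw [Subgroup.orderOf_coe]
    exact hα
  have hb := Nat.gcd_eq_gcd_ab (orderOf (α : MulAut P)) p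
  rw [hcop, Nat.cast_one] at hb
  have h1 : (α : MulAut P) = ((α : MulAut P) ^ p) ^ (Nat.gcdB (orderOf (α : MulAut P)) p) := by
    calc (α : MulAut P) = (α : MulAut P) ^ (1 : ℤ) := (zpow_one _).symm
      _ = ((α : MulAut P) ^ orderOf (α : MulAut P)) ^ (Nat.gcdA (orderOf (α : MulAut P)) p) *
          ((α : MulAut P) ^ p) ^ (Nat.gcdB (orderOf (α : MulAut P)) p) := by
        rw [hb, zpow_add, zpow_mul, zpow_mul, zpow_natCast, zpow_natCast]
      _ = _ := by rw [pow_orderOf_eq_one, one_zpow, one_mul]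
  have h2 : (α : MulAut P) ^ p ∈ (pullFS ι D.real.1 V.ker).autGroup P :=
    (D.mem_autGroup_E_iff hPT).mpr ⟨g ^ p, by rw [map_pow, D.exp], rel_pow hPS hg p⟩
  rw [h1]
  exact Subgroup.zpow_mem _ h2 _

end TrData

end Cfsg.Agent.Lib.Helper26.PPI
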