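import Cfsg.Agent.Lib.Helper26.PPIc
import Cfsg.Agent.Lib.Helper26.PPId
import Cfsg.Agent.S5092
import Cfsg.Agent.Lib.Helper27.ResLimit
import Cfsg.Agent.Lib.Helper1.Frat

set_option autoImplicit false

namespace Cfsg.Agent.Lib.Helper26.PPI

open Cfsg Cfsg.FusionSystem
open Cfsg.Agent.Lib.Helper26
open Cfsg.Agent.Lib.Helper27 (pullFS)

universe u w

section Aux

variable {A : Type w} [CommGroup A]

theorem zpow_pow_eq_self {p : ℕ} [hp : Fact p.Prime] {a : A} (ha : a ^ p = 1) {m : ℕ}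
    (hm : ¬ p ∣ m) : (a ^ m) ^ (Nat.gcdA m p) = a := by
  have hcop : Nat.Coprime m p := ((Nat.Prime.coprime_iff_not_dvd hp.out).mpr hm).symm
  have hb := Nat.gcd_eq_gcd_ab m p
  rw [hcop, Nat.cast_one] at hb
  calc (a ^ m) ^ (Nat.gcdA m p) = (a ^ m) ^ (Nat.gcdA m p) * (a ^ p) ^ (Nat.gcdB m p) := by
        rw [ha, one_zpow, mul_one]
    _ = a ^ (1 : ℤ) := by
        rw [hb, zpow_add, zpow_mul, zpow_mul, zpow_natCast, zpow_natCast]
    _ = a := zpow_one a

theorem eq_one_of_pow_eq_one {p : ℕ} [hp : Fact p.Prime] {a : A} (ha : a ^ p = 1) {m : ℕ}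
    (hm : ¬ p ∣ m) (h : a ^ m = 1) : a = 1 := by
  rw [← zpow_pow_eq_self ha hm, h, one_zpow]

end Aux

variable {Ω : Type u} [Group Ω] {S : Subgroup Ω}

/-- the subsystem of index `p` attached to a surjective homomorphism onto a group of order `p`
whose kernel contains the hyperfocal subgroup -/
theorem exists_of_lam [Finite S] {p : ℕ} [Fact p.Prime] (hS : IsPGroup p S)
    (F : FusionSystem S) (hF : F.IsSaturated p) {A : Type w} [CommGroup A] (lam : S →* A)
    (hsurj : Function.Surjective lam) (hcard : Nat.card A = p) (T : Subgroup Ω) (hTS : T ≤ S)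
    (hker : ∀ s : S, lam s = 1 ↔ (s : Ω) ∈ T) (hhyp : F.hyperfocalSubgroup p ≤ T) :
    ∃ E : FusionSystem T, E.IsSaturated p ∧ E.HasPPowerIndexIn F p := by
  have hexp : ∀ a : A, a ^ p = 1 := by
    intro a
    rw [← hcard]
    exact pow_card_eq_one'
  have hfoc : F.focalSubgroup ≤ T := by
    rw [Cfsg.Agent.S5092.result p hS F hF]
    refine sup_le hhyp (Subgroup.commutator_le.mpr (fun a ha b hb => ?_))
    have h1 : lam (⟨a, ha⟩ * ⟨b, hb⟩ * ⟨a, ha⟩⁻¹ * ⟨b, hb⟩⁻¹) = 1 := by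
      rw [map_mul, map_mul, map_mul, map_inv, map_inv, mul_comm (lam ⟨a, ha⟩),
        mul_inv_cancel_right, mul_inv_cancel]
    exact (hker _).mp h1
  have hlam : IsFInv F lam := by
    intro P φ hφ x
    have h1 : (x : Ω)⁻¹ * φ x ∈ T := hfoc (Subgroup.subset_closure ⟨P, φ, x, hφ, rfl⟩)
    have h2 : lam ((⟨x, source_le F hφ x.2⟩ : S)⁻¹ * ⟨φ x, apply_mem F hφ x⟩) = 1 :=
      (hker _).mpr h1
    rw [map_mul, map_inv, inv_mul_eq_one] at h2
    exact h2.symm
  obtain ⟨G, hG, ι, V, m, hm, hreal, hVι, hKL⟩ := exists_park_transfer hS F hF lam hlam hexp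
  have D : TrData p F ι V := by
    refine ⟨hreal, hexp, fun g => ?_, fun Q hQ hrec c hc => ?_⟩
    · obtain ⟨s, hs⟩ := hsurj ((V g) ^ (Nat.gcdA m p))
      refine ⟨s, ?_⟩
      rw [hVι, hs, ← zpow_natCast, ← zpow_mul, mul_comm, zpow_mul, zpow_natCast]
      exact zpow_pow_eq_self (hexp _) hm
    · by_cases h : ∀ (x : Ω) (hx : x ∈ centralizerIn S Q), lam ⟨x, hx.1⟩ = 1
      · refine ⟨1, Subgroup.one_mem _, ?_⟩
        rw [hKL Q hQ hrec h c hc]
        have e : (⟨1, (Subgroup.one_mem (centralizerIn S Q) : (1 : Ω) ∈ centralizerIn S Q).1⟩ : S) = 1 :=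
          rfl
        rw [e, map_one, map_one]
      · push Not at h
        obtain ⟨x₀, hx₀, hne⟩ := h
        have hne' : V (ι ⟨x₀, hx₀.1⟩) ≠ 1 := by
          rw [hVι]
          exact fun h' => hne (eq_one_of_pow_eq_one (hexp _) hm h')
        obtain ⟨j, hj⟩ := mem_powers_of_prime_card hcard hne' (g' := V c)
        refine ⟨x₀ ^ j, Subgroup.pow_mem _ hx₀ j, ?_⟩
        have e : (⟨x₀ ^ j, (Subgroup.pow_mem _ hx₀ j : x₀ ^ j ∈ centralizerIn S Q).1⟩ : S) =
            (⟨x₀, hx₀.1⟩ : S) ^ j := rfl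
        rw [e, map_pow, map_pow]
        exact hj
  have hTeq : T = preSub ι V.ker := by
    ext x
    rw [mem_T]
    constructor
    · intro hx
      refine ⟨hTS hx, ?_⟩
      rw [hVι, (hker ⟨x, hTS hx⟩).mpr hx, one_pow]
    · rintro ⟨hxS, hx⟩
      rw [hVι] at hx
      exact (hker ⟨x, hxS⟩).mp (eq_one_of_pow_eq_one (hexp _) hm hx)
  subst hTeq
  exact ⟨pullFS ι D.real.1 V.ker, D.saturated hS hF, D.pPowerIndex hhyp⟩

/-- the subsystem of index `p` on a normal subgroup of index `p` containing the hyperfocal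
subgroup -/
theorem exists_index_p [Finite S] {p : ℕ} [Fact p.Prime] (hS : IsPGroup p S)
    (F : FusionSystem S) (hF : F.IsSaturated p) (T : Subgroup Ω) (hTS : T ≤ S)
    (hhyp : F.hyperfocalSubgroup p ≤ T) (hn : (T.subgroupOf S).Normal)
    (hidx : (T.subgroupOf S).index = p) :
    ∃ E : FusionSystem T, E.IsSaturated p ∧ E.HasPPowerIndexIn F p := by
  have hcard : Nat.card (↥S ⧸ T.subgroupOf S) = p := by
    rw [← Subgroup.index_eq_card]
    exact hidx
  haveI : IsCyclic (↥S ⧸ T.subgroupOf S) := isCyclic_of_prime_card hcard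
  letI : CommGroup (↥S ⧸ T.subgroupOf S) := IsCyclic.commGroup
  exact exists_of_lam hS F hF (QuotientGroup.mk' (T.subgroupOf S))
    (QuotientGroup.mk'_surjective _) hcard T hTS (fun s => by
      rw [QuotientGroup.mk'_apply, QuotientGroup.eq_one_iff, Subgroup.mem_subgroupOf]) hhyp

theorem pPowerIndex_refl {p : ℕ} (F : FusionSystem S) : F.HasPPowerIndexIn F p :=
  ⟨fun _ => subset_rfl, hyperfocal_le F p, fun _ _ => Subgroup.map_subtype_le _⟩

theorem pPowerIndex_trans {p : ℕ} {T M : Subgroup Ω} {E : FusionSystem T} {E' : FusionSystem M}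
    {F : FusionSystem S} (h₁ : E.HasPPowerIndexIn E' p) (h₂ : E'.HasPPowerIndexIn F p)
    (hT : F.hyperfocalSubgroup p ≤ T) : E.HasPPowerIndexIn F p := by
  have hTM : T ≤ M := le_of_subsystem h₁.1
  refine ⟨fun P => (h₁.1 P).trans (h₂.1 P), hT, fun P hPT => ?_⟩
  have hPM := hPT.trans hTM
  rw [Subgroup.map_le_iff_le_comap]
  unfold pResidual
  rw [Subgroup.closure_le]
  intro α hα
  show (α : MulAut P) ∈ E.autGroup P
  have h1 : (α : MulAut P) ∈ E'.autGroup P :=
    h₂.2.2 P hPM ⟨α, Subgroup.subset_closure hα, rfl⟩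
  have h2 : (⟨(α : MulAut P), h1⟩ : E'.autGroup P) ∈ pResidual p (E'.autGroup P) := by
    apply Subgroup.subset_closure
    show Nat.Coprime (orderOf (⟨(α : MulAut P), h1⟩ : E'.autGroup P)) p
    rw [← Subgroup.orderOf_coe]
    show Nat.Coprime (orderOf (α : MulAut P)) p
    rw [Subgroup.orderOf_coe]
    exact hα
  exact h₁.2.2 P hPT ⟨_, h2, rfl⟩

/-- a proper subgroup of a finite `p`-group lies in a normal subgroup of index `p` -/
theorem exists_max_normal [Finite S] {p : ℕ} [Fact p.Prime] (hS : IsPGroup p S)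
    {T : Subgroup Ω} (hTS : T ≤ S) (hne : T ≠ S) :
    ∃ M : Subgroup Ω, T ≤ M ∧ M ≤ S ∧ (M.subgroupOf S).Normal ∧ (M.subgroupOf S).index = p := by
  have h1 : T.subgroupOf S ≠ ⊤ := by
    intro h
    apply hne
    exact le_antisymm hTS (Subgroup.subgroupOf_eq_top.mp h)
  obtain ⟨M', hM', hle⟩ := (eq_top_or_exists_le_coatom (T.subgroupOf S)).resolve_left h1
  have e : (M'.map S.subtype).subgroupOf S = M' :=
    Subgroup.comap_map_eq_self_of_injective (Subgroup.subtype_injective S) M'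
  refine ⟨M'.map S.subtype, ?_, ?_, ?_, ?_⟩
  · intro x hx
    exact ⟨⟨x, hTS hx⟩, hle (Subgroup.mem_subgroupOf.mpr hx), rfl⟩
  · rintro _ ⟨y, -, rfl⟩
    exact y.2
  · rw [e]
    exact Cfsg.Agent.Lib.Helper1.pgroup_coatom_normal hS hM'
  · rw [e]
    exact Cfsg.Agent.Lib.Helper1.pgroup_coatom_index hS hM'

theorem fs_ext' {E F : FusionSystem S} (h : ∀ P : Subgroup Ω, E.Hom P = F.Hom P) : E = F := by
  cases E
  cases F
  simp only [FusionSystem.mk.injEq]
  funext P
  exact h P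

/-- existence of the saturated subsystem of `p`-power index over any subgroup containing the
hyperfocal subgroup -/
theorem exists_pPowerIndex {p : ℕ} [Fact p.Prime] (n : ℕ) :
    ∀ (S : Subgroup Ω) [Finite S], Nat.card S = n → IsPGroup p S → ∀ (F : FusionSystem S),
      F.IsSaturated p → ∀ T : Subgroup Ω, T ≤ S → F.hyperfocalSubgroup p ≤ T →
      ∃ E : FusionSystem T, E.IsSaturated p ∧ E.HasPPowerIndexIn F p := by
  induction n using Nat.strong_induction_on with
  | _ n ih =>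
    intro S _ hn hS F hF T hTS hhyp
    by_cases hne : T = S
    · subst hne
      exact ⟨F, hF, pPowerIndex_refl F⟩
    · obtain ⟨M, hTM, hMS, hMn, hMi⟩ := exists_max_normal hS hTS hne
      obtain ⟨E', hE's, hE'i⟩ := exists_index_p hS F hF M hMS (hhyp.trans hTM) hMn hMi
      haveI : Finite M := finite_of_le hMS
      have hlt : Nat.card M < n := by
        rw [← hn]
        have h1 := Subgroup.card_mul_index (M.subgroupOf S)
        rw [hMi, Nat.card_congr (Subgroup.subgroupOfEquivOfLe hMS).toEquiv] at h1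
        rw [← h1]
        have hp1 : 1 < p := (Fact.out : p.Prime).one_lt
        have hpos : 0 < Nat.card M := Nat.card_pos
        nlinarith
      have hhyp' : E'.hyperfocalSubgroup p ≤ T :=
        (Cfsg.Agent.Lib.Helper27.ResLimit.hyp_le_of_subsystem p E' F hE'i.1).trans hhyp
      obtain ⟨E, hEs, hEi⟩ := ih (Nat.card M) hlt M rfl (hS.to_le hMS) E' hE's T hTM hhyp'
      exact ⟨E, hEs, pPowerIndex_trans hEi hE'i hhyp⟩

end Cfsg.Agent.Lib.Helper26.PPI
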