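import Cfsg.Agent.Lib.Helper26.PPowerIndex

set_option autoImplicit false

namespace Cfsg.Agent.Lib.Helper26

open Cfsg Cfsg.FusionSystem

variable {Ω : Type*} [Group Ω] {S : Subgroup Ω}

/-- conjugation by elements of `S` preserves a subgroup `T ≤ S` normal in `S` -/
theorem conj_mem_of_subgroupOf_normal {T : Subgroup Ω} (hTS : T ≤ S) (hTn : (T.subgroupOf S).Normal)
    {s t : Ω} (hs : s ∈ S) (ht : t ∈ T) : s * t * s⁻¹ ∈ T := by
  have h := hTn.conj_mem ⟨t, hTS ht⟩ (Subgroup.mem_subgroupOf.mpr ht) ⟨s, hs⟩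
  exact Subgroup.mem_subgroupOf.mp h

theorem le_normalizer_of_subgroupOf_normal {T : Subgroup Ω} (hTS : T ≤ S)
    (hTn : (T.subgroupOf S).Normal) : S ≤ Subgroup.normalizer (T : Set Ω) := by
  intro s hs
  refine mem_normalizer_of_forall (fun y hy => conj_mem_of_subgroupOf_normal hTS hTn hs hy)
    (fun y hy => ?_)
  have := conj_mem_of_subgroupOf_normal hTS hTn (S.inv_mem hs) hy
  rwa [inv_inv] at this

/-- a subgroup normal in `S` and containing the hyperfocal subgroup is strongly closed -/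
theorem stronglyClosed_of_hyperfocal_le [Finite S] {p : ℕ} [Fact p.Prime] (hS : IsPGroup p S)
    (F : FusionSystem S) (hF : F.IsSaturated p) {T : Subgroup Ω} (hTS : T ≤ S)
    (hTn : (T.subgroupOf S).Normal) (hT : F.hyperfocalSubgroup p ≤ T) : F.StronglyClosed T := by
  have hnorm := le_normalizer_of_subgroupOf_normal hTS hTn
  refine ⟨hTS, fun R hR φ hφ x => ?_⟩
  obtain ⟨-, h2⟩ := le_cosetSystem hS F hF T hnorm hT R hφ
  obtain ⟨s, hs, hsn⟩ := h2 x
  have h3 : s * (x : Ω) * s⁻¹ ∈ T := conj_mem_of_subgroupOf_normal hTS hTn hs (hR x.2)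
  have : φ x = (s * (x : Ω) * s⁻¹) * ((s * (x : Ω) * s⁻¹)⁻¹ * φ x) := by group
  rw [this]
  exact T.mul_mem h3 hsn

/-- in a fully automized subgroup the automizer is generated by `O^p` and `Aut_S` -/
theorem autGroup_le_of_fullyAutomized [Finite S] {p : ℕ} [Fact p.Prime]
    (F : FusionSystem S) {P : Subgroup Ω} (hfa : F.IsFullyAutomized p P)
    (X : Subgroup (MulAut P))
    (h1 : (pResidual p (F.autGroup P)).map (F.autGroup P).subtype ≤ X)
    (h2 : autInducedBy S P ≤ X) : F.autGroup P ≤ X := by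
  have hPS : P ≤ S := hfa.1
  have hfinP : Finite P := finite_of_le hPS
  have hsyl : IsSylowIn p (F.autGroup P) (autInducedBy S P) := hfa.2
  have hle : autInducedBy S P ≤ F.autGroup P := autInducedBy_le_autGroup F hPS
  rw [eq_pResidual_sup_of_isSylowIn (F.autGroup P) (autInducedBy S P) hle hsyl]
  exact sup_le h1 h2

/-- general (not necessarily injective) homomorphisms map `O^p` into `O^p` -/
theorem map_pResidual_le' {G H : Type*} [Group G] [Group H] (p : ℕ) (f : G →* H) :
    (pResidual p G).map f ≤ pResidual p H := by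
  unfold pResidual
  rw [MonoidHom.map_closure]
  apply Subgroup.closure_mono
  rintro _ ⟨g, hg, rfl⟩
  show Nat.Coprime (orderOf (f g)) p
  exact Nat.Coprime.coprime_dvd_left (orderOf_map_dvd f g) hg

end Cfsg.Agent.Lib.Helper26
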