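import Cfsg.Agent.Lib.Helper26.PPowNormal9

set_option autoImplicit false

namespace Cfsg.Agent.Lib.Helper26

open Cfsg Cfsg.FusionSystem

variable {Ω : Type*} [Group Ω] {S : Subgroup Ω}

/-- the extension condition for a saturated subsystem of `p`-power index over a strongly closed subgroup -/
theorem extension_condition_of_pPowerIndex [Finite S] {p : ℕ} [Fact p.Prime] (hS : IsPGroup p S)
    (F : FusionSystem S) (hF : F.IsSaturated p) {T : Subgroup Ω} (E : FusionSystem T)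
    (hEs : E.IsSaturated p) (hEi : E.HasPPowerIndexIn F p) (hsc : F.StronglyClosed T)
    (α : MulAut T) (hα : α ∈ E.autGroup T) :
    ∃ β ∈ F.autGroup (T ⊔ centralizerIn S T),
      (∀ x : T, ((β (Subgroup.inclusion le_sup_left x) : ↥(T ⊔ centralizerIn S T)) : Ω) = ((α x : T) : Ω)) ∧
      ∀ c : ↥(T ⊔ centralizerIn S T), (c : Ω) ∈ centralizerIn S T →
        (c : Ω)⁻¹ * ((β c : ↥(T ⊔ centralizerIn S T)) : Ω) ∈ T ⊓ Subgroup.centralizer (T : Set Ω) := by
  have hTS : T ≤ S := hsc.1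
  have hfinT : Finite T := finite_of_le hTS
  have hT : IsPGroup p T := hS.to_le hTS
  have hKS : T ⊔ centralizerIn S T ≤ S := sup_le hTS (centralizerIn_le S T)
  have hTK : T ≤ T ⊔ centralizerIn S T := le_sup_left
  have hfa : E.IsFullyAutomized p T :=
    (saturated_fullyNormalized hT E hEs (top_fullyNormalized E)).2.1
  obtain ⟨R, hR⟩ := hfa.2
  obtain ⟨q, hq, m, hm, hαqm⟩ :=
    Helper13.exists_mul_of_sylow_pResidual (R : Subgroup (E.autGroup T)) R.not_dvd_index ⟨α, hα⟩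
  rw [hR, Subgroup.mem_subgroupOf] at hq
  obtain ⟨t, ht, htq⟩ := mem_autInducedBy_iff.mp hq
  have hα' : α = (q : MulAut T) * (m : MulAut T) := congrArg Subtype.val hαqm
  have hAF : E.autGroup T ≤ F.autGroup T := autGroup_mono_of_subsystem hEi.1 T
  have hmF : Subgroup.inclusion hAF m ∈ pResidual p (F.autGroup T) :=
    map_pResidual_le p (Subgroup.inclusion hAF) (Subgroup.inclusion_injective hAF) ⟨m, hm, rfl⟩
  obtain ⟨βm, hβm, hβmx⟩ := exists_extend_pResidual hS F hF hsc _ hmF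
  have htN : t ∈ Subgroup.normalizer ((T ⊔ centralizerIn S T : Subgroup Ω) : Set Ω) :=
    Subgroup.le_normalizer (hTK ht)
  have hβt : conjAut (T ⊔ centralizerIn S T) t htN ∈ F.autGroup (T ⊔ centralizerIn S T) :=
    autInducedBy_le_autGroup F hKS (conjAut_mem_autInducedBy (hTS ht) htN)
  refine ⟨conjAut (T ⊔ centralizerIn S T) t htN * (βm : MulAut ↥(T ⊔ centralizerIn S T)),
    Subgroup.mul_mem _ hβt βm.2, fun x => ?_, fun c hc => ?_⟩
  · rw [MulAut.mul_apply, conjAut_apply]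
    have h1 := hβmx x
    have e : (Subgroup.inclusion hTK x : ↥(T ⊔ centralizerIn S T)) = ⟨x, hTK x.2⟩ := rfl
    rw [e, h1, hα', MulAut.mul_apply, htq]
    rfl
  · rw [MulAut.mul_apply, conjAut_apply]
    have hz1 : (c : Ω)⁻¹ * (((βm : MulAut ↥(T ⊔ centralizerIn S T)) c : ↥(T ⊔ centralizerIn S T)) : Ω) ∈ T :=
      hEi.2.1 (gen_mem_hyperfocal F p hKS βm hβm c)
    have hcC : (c : Ω) ∈ Subgroup.centralizer (T : Set Ω) := hc.2
    have hβcC : (((βm : MulAut ↥(T ⊔ centralizerIn S T)) c : ↥(T ⊔ centralizerIn S T)) : Ω) ∈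
        Subgroup.centralizer (T : Set Ω) := by
      rw [Subgroup.mem_centralizer_iff]
      intro y hy
      set m' : MulAut T := ((Subgroup.inclusion hAF m : F.autGroup T) : MulAut T) with hm'
      have h1 := hβmx (m'⁻¹ ⟨y, hy⟩)
      rw [MulAut.apply_inv_self] at h1
      have hcomm : (⟨((m'⁻¹ ⟨y, hy⟩ : T) : Ω), hTK (m'⁻¹ ⟨y, hy⟩).2⟩ : ↥(T ⊔ centralizerIn S T)) * c =
          c * ⟨((m'⁻¹ ⟨y, hy⟩ : T) : Ω), hTK (m'⁻¹ ⟨y, hy⟩).2⟩ := by
        apply Subtype.ext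
        exact (Subgroup.mem_centralizer_iff.mp hcC) _ (m'⁻¹ ⟨y, hy⟩).2
      have h2 := congrArg (fun z => (((βm : MulAut ↥(T ⊔ centralizerIn S T)) z :
        ↥(T ⊔ centralizerIn S T)) : Ω)) hcomm
      simp only [map_mul, Subgroup.coe_mul] at h2
      rw [h1] at h2
      exact h2
    have hz2 : (c : Ω)⁻¹ * (((βm : MulAut ↥(T ⊔ centralizerIn S T)) c : ↥(T ⊔ centralizerIn S T)) : Ω) ∈
        Subgroup.centralizer (T : Set Ω) :=
      Subgroup.mul_mem _ (Subgroup.inv_mem _ hcC) hβcC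
    set w : Ω := (((βm : MulAut ↥(T ⊔ centralizerIn S T)) c : ↥(T ⊔ centralizerIn S T)) : Ω) with hw
    have e1 : (c : Ω)⁻¹ * t = t * (c : Ω)⁻¹ :=
      ((Subgroup.mem_centralizer_iff.mp (Subgroup.inv_mem _ hcC)) t ht).symm
    have e2 : t * ((c : Ω)⁻¹ * w) = ((c : Ω)⁻¹ * w) * t :=
      (Subgroup.mem_centralizer_iff.mp hz2) t ht
    have e3 : (c : Ω)⁻¹ * (t * w * t⁻¹) = (c : Ω)⁻¹ * w := by
      calc (c : Ω)⁻¹ * (t * w * t⁻¹) = ((c : Ω)⁻¹ * t) * w * t⁻¹ := by group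
        _ = (t * ((c : Ω)⁻¹ * w)) * t⁻¹ := by rw [e1]; group
        _ = (c : Ω)⁻¹ * w := by rw [e2]; group
    rw [e3]
    exact ⟨hz1, hz2⟩

end Cfsg.Agent.Lib.Helper26
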