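import Cfsg.Agent.Lib.Helper26.PPowNormal1

set_option autoImplicit false

namespace Cfsg.Agent.Lib.Helper26

open Cfsg Cfsg.FusionSystem

variable {Ω : Type*} [Group Ω] {S : Subgroup Ω}

/-- the image `α(P ∩ T)` of a subgroup under an automorphism `α` of `T` -/
def imgA {T : Subgroup Ω} (α : MulAut T) (P : Subgroup Ω) : Subgroup Ω :=
  (P.subgroupOf T).map (T.subtype.comp α.toMonoidHom)

theorem mem_imgA {T : Subgroup Ω} {α : MulAut T} {P : Subgroup Ω} {y : Ω} :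
    y ∈ imgA α P ↔ ∃ x : T, (x : Ω) ∈ P ∧ ((α x : T) : Ω) = y := by
  constructor
  · rintro ⟨x, hx, rfl⟩
    exact ⟨x, Subgroup.mem_subgroupOf.mp hx, rfl⟩
  · rintro ⟨x, hx, rfl⟩
    exact ⟨x, Subgroup.mem_subgroupOf.mpr hx, rfl⟩

theorem apply_mem_imgA {T : Subgroup Ω} (α : MulAut T) {P : Subgroup Ω} {x : Ω} (hx : x ∈ P)
    (hxT : x ∈ T) : ((α ⟨x, hxT⟩ : T) : Ω) ∈ imgA α P :=
  mem_imgA.mpr ⟨⟨x, hxT⟩, hx, rfl⟩

theorem imgA_le {T : Subgroup Ω} (α : MulAut T) (P : Subgroup Ω) : imgA α P ≤ T := by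
  intro y hy
  obtain ⟨x, -, rfl⟩ := mem_imgA.mp hy
  exact (α x).2

theorem imgA_mono {T : Subgroup Ω} (α : MulAut T) {P Q : Subgroup Ω} (h : P ≤ Q) :
    imgA α P ≤ imgA α Q := by
  intro y hy
  obtain ⟨x, hx, rfl⟩ := mem_imgA.mp hy
  exact mem_imgA.mpr ⟨x, h hx, rfl⟩

/-- the isomorphism `P ≃ α(P)` for `P ≤ T` -/
noncomputable def eqA {T : Subgroup Ω} (α : MulAut T) {P : Subgroup Ω} (hPT : P ≤ T) :
    P ≃* imgA α P :=
  (Subgroup.subgroupOfEquivOfLe hPT).symm.trans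
    ((P.subgroupOf T).equivMapOfInjective (T.subtype.comp α.toMonoidHom)
      (fun a b hab => α.injective (Subtype.ext hab)))

theorem eqA_apply {T : Subgroup Ω} (α : MulAut T) {P : Subgroup Ω} (hPT : P ≤ T) (x : P) :
    ((eqA α hPT x : imgA α P) : Ω) = ((α ⟨x, hPT x.2⟩ : T) : Ω) := rfl

theorem eqA_isIso (F : FusionSystem S) {T : Subgroup Ω} (hTS : T ≤ S) {α : MulAut T}
    (hα : α ∈ F.autGroup T) {P : Subgroup Ω} (hPT : P ≤ T) : IsIso F (eqA α hPT) := by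
  have h1 : T.subtype.comp α.toMonoidHom ∈ F.Hom T := (mem_autGroup_iff F hTS).mp hα
  exact mem_of_forall_eq F (restrict_mem F h1 hPT) (fun x => rfl)

end Cfsg.Agent.Lib.Helper26
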