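import Cfsg.Agent.Lib.Helper26.PPowNormal2

set_option autoImplicit false

namespace Cfsg.Agent.Lib.Helper26

open Cfsg Cfsg.FusionSystem

variable {Ω : Type*} [Group Ω] {S : Subgroup Ω}

/-- `χ` is the conjugate of `φ` by the automorphism `α` of `T` -/
def IsConjBy {T : Subgroup Ω} (α : MulAut T) {P : Subgroup Ω} (φ : P →* Ω)
    (χ : ↥(imgA α P) →* Ω) : Prop :=
  ∀ (x : P) (hx : (x : Ω) ∈ T) (hφx : φ x ∈ T) (hαx : ((α ⟨x, hx⟩ : T) : Ω) ∈ imgA α P),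
    χ ⟨(α ⟨x, hx⟩ : T), hαx⟩ = ((α ⟨φ x, hφx⟩ : T) : Ω)

/-- the part of `E` stable under conjugation by `Aut_F(T)` -/
def invPart (F : FusionSystem S) {T : Subgroup Ω} (E : FusionSystem T) : FusionSystem T where
  Hom P := {φ | φ ∈ E.Hom P ∧ ∀ α ∈ F.autGroup T, ∃ χ ∈ E.Hom (imgA α P), IsConjBy α φ χ}
  le_of_mem h := E.le_of_mem h.1
  injective_of_mem h := E.injective_of_mem h.1
  conj_mem := by
    intro P g hP hg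
    refine ⟨E.conj_mem hP hg, fun α _ => ?_⟩
    refine ⟨conjHom (imgA α P) ((α ⟨g, hg⟩ : T) : Ω), E.conj_mem (imgA_le α P) (α ⟨g, hg⟩).2, ?_⟩
    intro x hx hφx hαx
    rw [conjHom_apply]
    have e : (⟨conjHom P g x, hφx⟩ : T) = ⟨g, hg⟩ * ⟨x, hx⟩ * (⟨g, hg⟩ : T)⁻¹ := Subtype.ext rfl
    rw [e, map_mul, map_mul, map_inv]
    rfl
  comp_mem := by
    rintro P Q φ ψ ⟨hφ, hφc⟩ ⟨hψ, hψc⟩ h
    refine ⟨E.comp_mem hφ hψ h, fun α hα => ?_⟩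
    obtain ⟨χ₁, hχ₁, hc₁⟩ := hφc α hα
    obtain ⟨χ₂, hχ₂, hc₂⟩ := hψc α hα
    have hPT : P ≤ T := (E.le_of_mem hφ).1
    have h' : ∀ y : ↥(imgA α P), χ₁ y ∈ imgA α Q := by
      rintro ⟨y, hy⟩
      obtain ⟨x, hx, rfl⟩ := mem_imgA.mp hy
      have hφT : φ ⟨x, hx⟩ ∈ T := (E.le_of_mem hφ).2 ⟨x, hx⟩
      have := hc₁ ⟨x, hx⟩ x.2 hφT hy
      rw [this]
      exact apply_mem_imgA α (h ⟨x, hx⟩) hφT
    refine ⟨χ₂.comp (χ₁.codRestrict _ h'), E.comp_mem hχ₁ hχ₂ h', ?_⟩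
    intro x hx hφx hαx
    have hφT : φ x ∈ T := (E.le_of_mem hφ).2 x
    have h1 := hc₁ x hx hφT hαx
    have h2 := hc₂ ⟨φ x, h x⟩ hφT hφx (apply_mem_imgA α (h x) hφT)
    have e : (⟨χ₁ ⟨(α ⟨x, hx⟩ : T), hαx⟩, h' _⟩ : ↥(imgA α Q)) =
        ⟨((α ⟨φ x, hφT⟩ : T) : Ω), apply_mem_imgA α (h x) hφT⟩ := Subtype.ext h1
    show χ₂ ⟨χ₁ ⟨(α ⟨x, hx⟩ : T), hαx⟩, h' _⟩ = _
    rw [e]
    exact h2
  inv_mem := by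
    rintro P φ ⟨hφ, hφc⟩
    obtain ⟨ψ, hψ, hinv⟩ := E.inv_mem hφ
    have hPT : P ≤ T := (E.le_of_mem hφ).1
    refine ⟨ψ, ⟨hψ, fun α hα => ?_⟩, hinv⟩
    obtain ⟨χ, hχ, hc⟩ := hφc α hα
    obtain ⟨χ', hχ', hinv'⟩ := E.inv_mem hχ
    have hle : imgA α φ.range ≤ χ.range := by
      intro y hy
      obtain ⟨t, ⟨x, hx⟩, rfl⟩ := mem_imgA.mp hy
      have hxT : (x : Ω) ∈ T := hPT x.2
      have hαx := apply_mem_imgA α x.2 hxT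
      refine ⟨⟨_, hαx⟩, ?_⟩
      rw [hc x hxT (by rw [hx]; exact t.2) hαx]
      congr 2
      exact Subtype.ext hx
    refine ⟨χ'.comp (Subgroup.inclusion hle), restrict_mem E hχ' hle, ?_⟩
    rintro ⟨_, x, rfl⟩ hy hψy hαy
    have hxT : (x : Ω) ∈ T := hPT x.2
    have hαx := apply_mem_imgA α x.2 hxT
    have h1 := hc x hxT hy hαx
    have h2 := hinv' ⟨_, hαx⟩
    show χ' ⟨((α ⟨φ x, hy⟩ : T) : Ω), _⟩ = _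
    have h3 : ψ ⟨φ x, ⟨x, rfl⟩⟩ = (x : Ω) := hinv x
    have e1 : (⟨((α ⟨φ x, hy⟩ : T) : Ω), hle hαy⟩ : χ.range) = ⟨χ ⟨_, hαx⟩, ⟨_, rfl⟩⟩ :=
      Subtype.ext h1.symm
    rw [e1, h2]
    have e2 : (⟨(x : Ω), hxT⟩ : T) = ⟨ψ ⟨φ x, ⟨x, rfl⟩⟩, hψy⟩ := Subtype.ext h3.symm
    show ((α ⟨(x : Ω), hxT⟩ : T) : Ω) = ((α ⟨ψ ⟨φ x, ⟨x, rfl⟩⟩, hψy⟩ : T) : Ω)
    rw [e2]

theorem invPart_le (F : FusionSystem S) {T : Subgroup Ω} (E : FusionSystem T) :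
    invPart F E ≤ E := fun _ _ h => h.1

end Cfsg.Agent.Lib.Helper26
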