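import Cfsg.Agent.Lib.Helper26.PPowNormal3

set_option autoImplicit false

namespace Cfsg.Agent.Lib.Helper26

open Cfsg Cfsg.FusionSystem

variable {Ω : Type*} [Group Ω] {S : Subgroup Ω}

/-- a saturated subsystem of `p`-power index is stable under conjugation by `Aut_F(T)` -/
theorem le_invPart [Finite S] {p : ℕ} [Fact p.Prime] (hS : IsPGroup p S) (F : FusionSystem S)
    {T : Subgroup Ω} (E : FusionSystem T) (hEs : E.IsSaturated p)
    (hEi : E.HasPPowerIndexIn F p) : E ≤ invPart F E := by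
  have hTS : T ≤ S := le_of_subsystem hEi.1
  have hfinT : Finite T := finite_of_le hTS
  have hT : IsPGroup p T := hS.to_le hTS
  refine Cfsg.Agent.S5082.result p hT E hEs (invPart F E) (fun P hP => ?_)
  have hfn : E.IsFullyNormalized P := by
    rcases hP with rfl | hP
    · exact top_fullyNormalized E
    · exact hP.2.1
  have hPT : P ≤ T := hfn.1
  have hfa : E.IsFullyAutomized p P := (saturated_fullyNormalized hT E hEs hfn).2.1
  refine autGroup_le_of_fullyAutomized E hfa _ ?_ (autInducedBy_le_autGroup _ hPT)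
  rintro _ ⟨β, hβ, rfl⟩
  rw [mem_autGroup_iff _ hPT]
  refine ⟨(mem_autGroup_iff E hPT).mp β.2, fun α hα => ?_⟩
  have hAF : E.autGroup P ≤ F.autGroup P := autGroup_mono_of_subsystem hEi.1 P
  have hβF : Subgroup.inclusion hAF β ∈ pResidual p (F.autGroup P) :=
    map_pResidual_le p (Subgroup.inclusion hAF) (Subgroup.inclusion_injective hAF) ⟨β, hβ, rfl⟩
  have he := eqA_isIso F hTS hα hPT
  have hγ := autTransport_mem_pResidual F p (eqA α hPT) he hβF
  have hγE : ((autTransport F (eqA α hPT) he (Subgroup.inclusion hAF β) : F.autGroup (imgA α P)) :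
      MulAut (imgA α P)) ∈ E.autGroup (imgA α P) :=
    hEi.2.2 (imgA α P) (imgA_le α P) ⟨_, hγ, rfl⟩
  refine ⟨_, (mem_autGroup_iff E (imgA_le α P)).mp hγE, ?_⟩
  intro x hx hφx hαx
  show (((autTransport F (eqA α hPT) he (Subgroup.inclusion hAF β) : F.autGroup (imgA α P)) :
      MulAut (imgA α P)) ⟨_, hαx⟩ : Ω) = _
  rw [autTransport_apply]
  have e1 : (eqA α hPT).symm ⟨((α ⟨x, hx⟩ : T) : Ω), hαx⟩ = x := by
    rw [MulEquiv.symm_apply_eq]
    exact Subtype.ext rfl
  rw [e1, eqA_apply]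
  rfl

end Cfsg.Agent.Lib.Helper26
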