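import Cfsg.Agent.Lib.Helper26.PPowNormal4

set_option autoImplicit false

namespace Cfsg.Agent.Lib.Helper26

open Cfsg Cfsg.FusionSystem

variable {Ω : Type*} [Group Ω] {S : Subgroup Ω}

/-- `φ` restricted to `P ∩ T` is an `E`-map followed by an element of `Aut_F(T)` -/
def IsFrattiniFactored (F : FusionSystem S) {T : Subgroup Ω} (E : FusionSystem T) {P : Subgroup Ω}
    (φ : P →* Ω) : Prop :=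
  ∃ α ∈ F.autGroup T, ∃ φ₀ ∈ E.Hom (P ⊓ T), ∀ (x : ↥(P ⊓ T)) (hx : (x : Ω) ∈ P) (h₀ : φ₀ x ∈ T),
    φ ⟨x, hx⟩ = ((α ⟨φ₀ x, h₀⟩ : T) : Ω)

/-- the maps of `F` that factor, on the intersection with `T`, as an `E`-map followed by an element of `Aut_F(T)` -/
def frattPart (F : FusionSystem S) {T : Subgroup Ω} (E : FusionSystem T) (hTS : T ≤ S)
    (hTn : S ≤ Subgroup.normalizer (T : Set Ω)) (hsc : F.StronglyClosed T)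
    (hinv : E ≤ invPart F E) : FusionSystem S where
  Hom P := {φ | φ ∈ F.Hom P ∧ IsFrattiniFactored F E φ}
  le_of_mem h := F.le_of_mem h.1
  injective_of_mem h := F.injective_of_mem h.1
  conj_mem := by
    intro P g hP hg
    refine ⟨F.conj_mem hP hg, conjAut T g (hTn hg),
      autInducedBy_le_autGroup F hTS (conjAut_mem_autInducedBy hg (hTn hg)),
      (P ⊓ T).subtype, subtype_mem E inf_le_right, ?_⟩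
    intro x hx h₀
    rfl
  comp_mem := by
    rintro P Q φ ψ ⟨hφ, α, hα, φ₀, hφ₀, hφe⟩ ⟨hψ, β, hβ, ψ₀, hψ₀, hψe⟩ h
    refine ⟨F.comp_mem hφ hψ h, β * α, Subgroup.mul_mem _ hβ hα, ?_⟩
    have hαi : α⁻¹ ∈ F.autGroup T := Subgroup.inv_mem _ hα
    obtain ⟨χ, hχ, hc⟩ := (hinv (Q ⊓ T) hψ₀).2 α⁻¹ hαi
    have hφ₀T : ∀ x : ↥(P ⊓ T), φ₀ x ∈ T := (E.le_of_mem hφ₀).2
    have hmem : ∀ x : ↥(P ⊓ T), φ ⟨x, x.2.1⟩ ∈ Q ⊓ T := by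
      intro x
      refine ⟨h _, ?_⟩
      rw [hφe x x.2.1 (hφ₀T x)]
      exact (α _).2
    have hφ₀eq : ∀ x : ↥(P ⊓ T), φ₀ x = ((α⁻¹ ⟨φ ⟨x, x.2.1⟩, (hmem x).2⟩ : T) : Ω) := by
      intro x
      have h1 : (⟨φ ⟨x, x.2.1⟩, (hmem x).2⟩ : T) = α ⟨φ₀ x, hφ₀T x⟩ :=
        Subtype.ext (hφe x x.2.1 (hφ₀T x))
      rw [h1, MulAut.inv_apply_self]
    have h' : ∀ x : ↥(P ⊓ T), φ₀ x ∈ imgA α⁻¹ (Q ⊓ T) := by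
      intro x
      rw [hφ₀eq x]
      exact apply_mem_imgA α⁻¹ (hmem x) (hmem x).2
    refine ⟨χ.comp (φ₀.codRestrict _ h'), E.comp_mem hφ₀ hχ h', ?_⟩
    intro x hx h₀
    show ψ ⟨φ ⟨x, hx⟩, h _⟩ = _
    have hψ₀T : ψ₀ ⟨φ ⟨x, hx⟩, hmem x⟩ ∈ T := (E.le_of_mem hψ₀).2 _
    rw [hψe ⟨φ ⟨x, hx⟩, hmem x⟩ (h _) hψ₀T, MulAut.mul_apply]
    congr 2
    apply Subtype.ext
    show ψ₀ ⟨φ ⟨x, hx⟩, hmem x⟩ = ((α ⟨χ ⟨φ₀ x, h' x⟩, h₀⟩ : T) : Ω)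
    have h2 := hc ⟨φ ⟨x, hx⟩, hmem x⟩ (hmem x).2 hψ₀T (apply_mem_imgA α⁻¹ (hmem x) (hmem x).2)
    have e1 : (⟨φ₀ x, h' x⟩ : ↥(imgA α⁻¹ (Q ⊓ T))) =
        ⟨((α⁻¹ ⟨φ ⟨x, hx⟩, (hmem x).2⟩ : T) : Ω), apply_mem_imgA α⁻¹ (hmem x) (hmem x).2⟩ :=
      Subtype.ext (hφ₀eq x)
    have e2 : (⟨χ ⟨φ₀ x, h' x⟩, h₀⟩ : T) = α⁻¹ ⟨ψ₀ ⟨φ ⟨x, hx⟩, hmem x⟩, hψ₀T⟩ := by
      apply Subtype.ext
      show χ ⟨φ₀ x, h' x⟩ = _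
      rw [e1]
      exact h2
    rw [e2, MulAut.apply_inv_self]
  inv_mem := by
    rintro P φ ⟨hφ, α, hα, φ₀, hφ₀, hφe⟩
    obtain ⟨ψ, hψ, hinvψ⟩ := F.inv_mem hφ
    refine ⟨ψ, ⟨hψ, α⁻¹, Subgroup.inv_mem _ hα, ?_⟩, hinvψ⟩
    obtain ⟨ψ₀, hψ₀, hinv₀⟩ := E.inv_mem hφ₀
    obtain ⟨χ, hχ, hc⟩ := (hinv _ hψ₀).2 α hα
    have hφ₀T : ∀ x : ↥(P ⊓ T), φ₀ x ∈ T := (E.le_of_mem hφ₀).2
    have hr : ∀ x : ↥(P ⊓ T), φ₀ x ∈ φ₀.range := fun x => ⟨x, rfl⟩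
    have hpre : ∀ y : ↥(φ.range ⊓ T), ∃ x : ↥(P ⊓ T), φ ⟨x, x.2.1⟩ = (y : Ω) := by
      rintro ⟨y, ⟨x, rfl⟩, hyT⟩
      have h1 := restrict_mem F hψ (inf_le_left : φ.range ⊓ T ≤ φ.range)
      have h2 := hsc.2 (φ.range ⊓ T) inf_le_right _ h1 ⟨φ x, ⟨x, rfl⟩, hyT⟩
      have h3 : ψ ⟨φ x, ⟨x, rfl⟩⟩ = (x : Ω) := hinvψ x
      have hxT : (x : Ω) ∈ T := by
        rw [← h3]
        exact h2
      exact ⟨⟨x, x.2, hxT⟩, rfl⟩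
    have hle : φ.range ⊓ T ≤ imgA α φ₀.range := by
      intro y hy
      obtain ⟨x, hx⟩ := hpre ⟨y, hy⟩
      have := hφe x x.2.1 (hφ₀T x)
      rw [hx] at this
      rw [show y = _ from this]
      exact apply_mem_imgA α (hr x) (hφ₀T x)
    refine ⟨χ.comp (Subgroup.inclusion hle), restrict_mem E hχ hle, ?_⟩
    intro y hy h₀
    obtain ⟨x, hx⟩ := hpre y
    have hy' : (y : Ω) = ((α ⟨φ₀ x, hφ₀T x⟩ : T) : Ω) := by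
      rw [← hx]
      exact hφe x x.2.1 (hφ₀T x)
    have hψy : ψ ⟨y, hy⟩ = (x : Ω) := by
      have e : (⟨(y : Ω), hy⟩ : φ.range) = ⟨φ ⟨x, x.2.1⟩, ⟨_, rfl⟩⟩ := Subtype.ext hx.symm
      rw [e]
      exact hinvψ ⟨x, x.2.1⟩
    have h3 : ψ₀ ⟨φ₀ x, ⟨x, rfl⟩⟩ = (x : Ω) := hinv₀ x
    have hψ₀T : ψ₀ ⟨φ₀ x, ⟨x, rfl⟩⟩ ∈ T := by
      rw [h3]
      exact x.2.2
    have h4 := hc ⟨φ₀ x, ⟨x, rfl⟩⟩ (hφ₀T x) hψ₀T (apply_mem_imgA α (hr x) (hφ₀T x))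
    have e2 : (Subgroup.inclusion hle y : ↥(imgA α φ₀.range)) =
        ⟨((α ⟨φ₀ x, hφ₀T x⟩ : T) : Ω), apply_mem_imgA α (hr x) (hφ₀T x)⟩ := Subtype.ext hy'
    have e3 : (⟨(χ.comp (Subgroup.inclusion hle)) y, h₀⟩ : T) = α ⟨(x : Ω), x.2.2⟩ := by
      apply Subtype.ext
      show χ (Subgroup.inclusion hle y) = _
      rw [e2, h4]
      congr 2
      exact Subtype.ext h3
    rw [hψy, e3, MulAut.inv_apply_self]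

end Cfsg.Agent.Lib.Helper26
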