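import Cfsg.Agent.Lib.Helper26.PPowNormal5

set_option autoImplicit false

namespace Cfsg.Agent.Lib.Helper26

open Cfsg Cfsg.FusionSystem

variable {Ω : Type*} [Group Ω] {S : Subgroup Ω}

/-- restriction of an automorphism in `Aut_F(P)` to an invariant subgroup `R` -/
theorem ppn_exists_restrict_aut (F : FusionSystem S) {P R : Subgroup Ω} (hPS : P ≤ S) (hRP : R ≤ P)
    (hstab : ∀ γ ∈ F.autGroup P, ∀ x : P, (x : Ω) ∈ R → ((γ x : P) : Ω) ∈ R)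
    {β : MulAut P} (hβ : β ∈ F.autGroup P) :
    ∃ γ ∈ F.autGroup R, ∀ x : R, ((γ x : R) : Ω) = ((β ⟨x, hRP x.2⟩ : P) : Ω) := by
  have h1 : P.subtype.comp β.toMonoidHom ∈ F.Hom P := (mem_autGroup_iff F hPS).mp hβ
  have h2 := restrict_mem F h1 hRP
  have hr : ((P.subtype.comp β.toMonoidHom).comp (Subgroup.inclusion hRP)).range = R := by
    ext y
    constructor
    · rintro ⟨x, rfl⟩
      exact hstab β hβ ⟨x, hRP x.2⟩ x.2
    · intro hy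
      have h3 := hstab β⁻¹ (Subgroup.inv_mem _ hβ) ⟨y, hRP hy⟩ hy
      refine ⟨⟨_, h3⟩, ?_⟩
      show ((β (β⁻¹ ⟨y, hRP hy⟩) : P) : Ω) = y
      rw [MulAut.apply_inv_self]
  obtain ⟨e, he, hex⟩ := exists_iso_of_hom F h2 hr
  exact ⟨e, (isIso_iff_mem_autGroup F (hRP.trans hPS) e).mp he, fun x => hex x⟩

theorem exists_restrict_pResidual (F : FusionSystem S) (p : ℕ) {P R : Subgroup Ω} (hPS : P ≤ S)
    (hRP : R ≤ P)
    (hstab : ∀ γ ∈ F.autGroup P, ∀ x : P, (x : Ω) ∈ R → ((γ x : P) : Ω) ∈ R)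
    (β : F.autGroup P) (hβ : β ∈ pResidual p (F.autGroup P)) :
    ∃ γ : F.autGroup R, γ ∈ pResidual p (F.autGroup R) ∧
      ∀ x : R, (((γ : MulAut R) x : R) : Ω) = (((β : MulAut P) ⟨x, hRP x.2⟩ : P) : Ω) := by
  have hpr := Helper1.pResidual_normal (G := F.autGroup R) p
  refine Subgroup.closure_induction (p := fun (β : F.autGroup P) _ => ∃ γ : F.autGroup R,
    γ ∈ pResidual p (F.autGroup R) ∧
      ∀ x : R, (((γ : MulAut R) x : R) : Ω) = (((β : MulAut P) ⟨x, hRP x.2⟩ : P) : Ω))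
    ?_ ?_ ?_ ?_ (show β ∈ Subgroup.closure {g : F.autGroup P | Nat.Coprime (orderOf g) p} from hβ)
  · intro g hg
    obtain ⟨γ, hγ, hγx⟩ := ppn_exists_restrict_aut F hPS hRP hstab g.2
    refine ⟨⟨γ, hγ⟩, Helper1.mem_pResidual_of_coprime ?_, hγx⟩
    have hg' : Nat.Coprime (orderOf g) p := hg
    refine Nat.Coprime.coprime_dvd_left ?_ hg'
    apply orderOf_dvd_of_pow_eq_one
    apply Subtype.ext
    show γ ^ orderOf g = 1
    ext x
    have h1 := aut_pow_restrict hRP (g : MulAut P) γ (fun x => (hγx x).symm) (orderOf g) x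
    have h2 : (g : MulAut P) ^ orderOf g = 1 := by
      have := pow_orderOf_eq_one g
      exact congrArg Subtype.val this
    rw [h2] at h1
    exact h1.symm
  · exact ⟨1, Subgroup.one_mem _, fun x => rfl⟩
  · rintro a b _ _ ⟨γ₁, hγ₁, h₁⟩ ⟨γ₂, hγ₂, h₂⟩
    refine ⟨γ₁ * γ₂, Subgroup.mul_mem _ hγ₁ hγ₂, fun x => ?_⟩
    show (((γ₁ : MulAut R) ((γ₂ : MulAut R) x) : R) : Ω) =
      (((a : MulAut P) ((b : MulAut P) ⟨x, hRP x.2⟩) : P) : Ω)
    rw [h₁]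
    congr 2
    exact Subtype.ext (h₂ x)
  · rintro a _ ⟨γ, hγ, h⟩
    refine ⟨γ⁻¹, Subgroup.inv_mem _ hγ, fun x => ?_⟩
    show ((((γ : MulAut R)⁻¹ x : R)) : Ω) = ((((a : MulAut P)⁻¹ ⟨x, hRP x.2⟩ : P)) : Ω)
    have h1 := h ((γ : MulAut R)⁻¹ x)
    rw [MulAut.apply_inv_self] at h1
    have h2 : (⟨(x : Ω), hRP x.2⟩ : P) =
        (a : MulAut P) ⟨(((γ : MulAut R)⁻¹ x : R) : Ω), hRP ((γ : MulAut R)⁻¹ x).2⟩ :=
      Subtype.ext h1
    rw [h2, MulAut.inv_apply_self]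

end Cfsg.Agent.Lib.Helper26
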