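import Cfsg.Agent.Lib.Helper26.PPowNormal6

set_option autoImplicit false

namespace Cfsg.Agent.Lib.Helper26

open Cfsg Cfsg.FusionSystem

variable {Ω : Type*} [Group Ω] {S : Subgroup Ω}

/-- every automorphism in `Aut_F(P)` stabilizes `P ∩ T` when `T` is strongly closed -/
theorem aut_stab_inf_of_stronglyClosed (F : FusionSystem S) {T P : Subgroup Ω} (hPS : P ≤ S)
    (hsc : F.StronglyClosed T) :
    ∀ γ ∈ F.autGroup P, ∀ x : P, (x : Ω) ∈ P ⊓ T → ((γ x : P) : Ω) ∈ P ⊓ T := by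
  intro γ hγ x hx
  refine ⟨(γ x).2, ?_⟩
  have h1 : P.subtype.comp γ.toMonoidHom ∈ F.Hom P := (mem_autGroup_iff F hPS).mp hγ
  have h2 := restrict_mem F h1 (inf_le_left : P ⊓ T ≤ P)
  exact hsc.2 (P ⊓ T) inf_le_right _ h2 ⟨x, hx⟩

/-- Frattini property of a saturated subsystem of `p`-power index over a strongly closed subgroup -/
theorem le_frattPart [Finite S] {p : ℕ} [Fact p.Prime] (hS : IsPGroup p S) (F : FusionSystem S)
    (hF : F.IsSaturated p) {T : Subgroup Ω} (E : FusionSystem T) (hTS : T ≤ S)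
    (hTn : S ≤ Subgroup.normalizer (T : Set Ω)) (hsc : F.StronglyClosed T)
    (hinv : E ≤ invPart F E) (hEi : E.HasPPowerIndexIn F p) :
    F ≤ frattPart F E hTS hTn hsc hinv := by
  refine Cfsg.Agent.S5082.result p hS F hF (frattPart F E hTS hTn hsc hinv) (fun P hP => ?_)
  have hfn : F.IsFullyNormalized P := by
    rcases hP with rfl | hP
    · exact top_fullyNormalized F
    · exact hP.2.1
  have hPS : P ≤ S := hfn.1
  have hfa : F.IsFullyAutomized p P := (saturated_fullyNormalized hS F hF hfn).2.1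
  refine autGroup_le_of_fullyAutomized F hfa _ ?_ (autInducedBy_le_autGroup _ hPS)
  rintro _ ⟨β, hβ, rfl⟩
  rw [mem_autGroup_iff _ hPS]
  refine ⟨(mem_autGroup_iff F hPS).mp β.2, 1, Subgroup.one_mem _, ?_⟩
  obtain ⟨γ, hγ, hγx⟩ := exists_restrict_pResidual F p hPS (inf_le_left : P ⊓ T ≤ P)
    (aut_stab_inf_of_stronglyClosed F hPS hsc) β hβ
  have hγE : (γ : MulAut ↥(P ⊓ T)) ∈ E.autGroup (P ⊓ T) :=
    hEi.2.2 (P ⊓ T) inf_le_right ⟨γ, hγ, rfl⟩
  refine ⟨_, (mem_autGroup_iff E inf_le_right).mp hγE, ?_⟩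
  intro x hx h₀
  exact (hγx x).symm

end Cfsg.Agent.Lib.Helper26
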