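import Cfsg.Agent.Lib.Helper26.PPowNormal7

set_option autoImplicit false

namespace Cfsg.Agent.Lib.Helper26

open Cfsg Cfsg.FusionSystem

variable {Ω : Type*} [Group Ω] {S : Subgroup Ω}

theorem ppn_fullyNormalized_of_stronglyClosed [Finite S] (F : FusionSystem S) {T : Subgroup Ω}
    (hsc : F.StronglyClosed T) : F.IsFullyNormalized T := by
  have hTS : T ≤ S := hsc.1
  have hfinT : Finite T := finite_of_le hTS
  refine ⟨hTS, fun Q hQ => ?_⟩
  obtain ⟨φ, hφ, hr⟩ := hQ
  have hQT : Q ≤ T := by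
    rw [← hr]
    rintro _ ⟨x, rfl⟩
    exact hsc.2 T le_rfl φ hφ x
  have hcard : Nat.card T ≤ Nat.card Q := by
    rw [← hr]
    have : Finite φ.range := finite_of_le (range_le F hφ)
    exact Nat.card_le_card_of_injective (fun x => (⟨φ x, ⟨x, rfl⟩⟩ : φ.range))
      (fun a b hab => F.injective_of_mem hφ (congrArg Subtype.val hab))
  have : Q = T := Subgroup.eq_of_le_of_card_ge hQT hcard
  rw [this]

/-- automorphisms of a strongly closed subgroup extend to `T C_S(T)` -/
theorem exists_extend_aut_of_stronglyClosed [Finite S] {p : ℕ} [Fact p.Prime] (hS : IsPGroup p S)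
    (F : FusionSystem S) (hF : F.IsSaturated p) {T : Subgroup Ω} (hsc : F.StronglyClosed T)
    {g : MulAut T} (hg : g ∈ F.autGroup T) :
    ∃ β ∈ F.autGroup (T ⊔ centralizerIn S T), ∀ x : T,
      ((β (Subgroup.inclusion le_sup_left x) : ↥(T ⊔ centralizerIn S T)) : Ω) = ((g x : T) : Ω) := by
  have hTS : T ≤ S := hsc.1
  have hKS : T ⊔ centralizerIn S T ≤ S := sup_le hTS (centralizerIn_le S T)
  have hfinK : Finite ↥(T ⊔ centralizerIn S T) := finite_of_le hKS
  have hfn := ppn_fullyNormalized_of_stronglyClosed F hsc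
  have hrec : F.IsReceptive T := (saturated_fullyNormalized hS F hF hfn).2.2
  have hφ : T.subtype.comp g.toMonoidHom ∈ F.Hom T := (mem_autGroup_iff F hTS).mp hg
  obtain ⟨ψ, hψ, hψe⟩ := hrec.2 T _ hφ (range_subtype_comp_equiv g)
  have hK : T ⊔ centralizerIn S T ≤ extender S T (T.subtype.comp g.toMonoidHom) :=
    sup_le (le_extender F hφ) (centralizerIn_le_extender S T _)
  have hψ' := restrict_mem F hψ hK
  set ψ' := ψ.comp (Subgroup.inclusion hK) with hψ'def
  have hψT : ∀ x : T, ψ' (Subgroup.inclusion le_sup_left x) = ((g x : T) : Ω) := by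
    intro x
    exact hψe x x.2 (hK (le_sup_left (a := T) x.2))
  have hle : ψ'.range ≤ T ⊔ centralizerIn S T := by
    rintro _ ⟨z, rfl⟩
    refine map_sup_mem ψ' _ (fun x => ?_) (fun c => ?_) z
    · rw [hψT]
      exact le_sup_left (a := T) (g x).2
    · refine le_sup_right (a := T) ⟨apply_mem F hψ' _, Subgroup.mem_centralizer_iff.mpr ?_⟩
      intro t ht
      have h1 : t = ψ' (Subgroup.inclusion le_sup_left (g⁻¹ ⟨t, ht⟩)) := by
        rw [hψT, MulAut.apply_inv_self]
      have hc : (Subgroup.inclusion (le_sup_left : T ≤ T ⊔ centralizerIn S T) (g⁻¹ ⟨t, ht⟩)) *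
          Subgroup.inclusion (le_sup_right : centralizerIn S T ≤ T ⊔ centralizerIn S T) c =
          Subgroup.inclusion le_sup_right c * Subgroup.inclusion le_sup_left (g⁻¹ ⟨t, ht⟩) := by
        apply Subtype.ext
        exact (Subgroup.mem_centralizer_iff.mp c.2.2) _ (g⁻¹ ⟨t, ht⟩).2
      rw [h1, ← map_mul, ← map_mul, hc]
  have hr : ψ'.range = T ⊔ centralizerIn S T := by
    apply Subgroup.eq_of_le_of_card_ge hle
    have : Finite ψ'.range := finite_of_le (range_le F hψ')
    exact Nat.card_le_card_of_injective (fun x => (⟨ψ' x, ⟨x, rfl⟩⟩ : ψ'.range))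
      (fun a b hab => F.injective_of_mem hψ' (congrArg Subtype.val hab))
  obtain ⟨e, he, hex⟩ := exists_iso_of_hom F hψ' hr
  refine ⟨e, (isIso_iff_mem_autGroup F hKS e).mp he, fun x => ?_⟩
  rw [hex, hψT]

end Cfsg.Agent.Lib.Helper26
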