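import Cfsg.Agent.Lib.Helper26.PPowNormal8

set_option autoImplicit false

namespace Cfsg.Agent.Lib.Helper26

open Cfsg Cfsg.FusionSystem

variable {Ω : Type*} [Group Ω] {S : Subgroup Ω}

/-- a `p'`-automorphism in `Aut_F(T)` extends to a `p'`-automorphism in `Aut_F(K)` if it extends at all -/
theorem exists_coprime_extension [Finite S] (F : FusionSystem S) {p : ℕ} [Fact p.Prime]
    {T K : Subgroup Ω} (hTK : T ≤ K) (hKS : K ≤ S) {g : MulAut T}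
    (hgo : Nat.Coprime (orderOf g) p) {β₀ : MulAut K} (hβ₀ : β₀ ∈ F.autGroup K)
    (hext : ∀ x : T, ((β₀ ⟨x, hTK x.2⟩ : K) : Ω) = ((g x : T) : Ω)) :
    ∃ β : F.autGroup K, Nat.Coprime (orderOf β) p ∧
      ∀ x : T, ((((β : MulAut K)) ⟨x, hTK x.2⟩ : K) : Ω) = ((g x : T) : Ω) := by
  have hfinK : Finite K := finite_of_le hKS
  have hp : (Fact.out : p.Prime).one_lt.ne' = (Fact.out : p.Prime).one_lt.ne' := rfl
  have hn0 : orderOf β₀ ≠ 0 := (orderOf_pos β₀).ne'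
  obtain ⟨a, m, hm, hnm⟩ := Nat.exists_eq_pow_mul_and_not_dvd hn0 p (Fact.out : p.Prime).one_lt.ne'
  have hcop : Nat.Coprime (p ^ a) (orderOf g) := Nat.Coprime.pow_left a hgo.symm
  obtain ⟨k, hk⟩ := exists_pow_eq_self_of_coprime hcop
  have hβmem : β₀ ^ (p ^ a * k) ∈ F.autGroup K := Subgroup.pow_mem _ hβ₀ _
  refine ⟨⟨β₀ ^ (p ^ a * k), hβmem⟩, ?_, fun x => ?_⟩
  · have hdvd : orderOf (⟨β₀ ^ (p ^ a * k), hβmem⟩ : F.autGroup K) ∣ m := by
      apply orderOf_dvd_of_pow_eq_one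
      apply Subtype.ext
      show (β₀ ^ (p ^ a * k)) ^ m = 1
      rw [← pow_mul, show p ^ a * k * m = (p ^ a * m) * k by ring, ← hnm, pow_mul,
        pow_orderOf_eq_one, one_pow]
    exact Nat.Coprime.coprime_dvd_left hdvd
      ((Nat.Prime.coprime_iff_not_dvd Fact.out).mpr hm).symm
  · have h1 := aut_pow_restrict hTK β₀ g hext (p ^ a * k) x
    show (((β₀ ^ (p ^ a * k)) ⟨x, hTK x.2⟩ : K) : Ω) = _
    rw [h1, pow_mul, hk]

/-- elements of `O^p(Aut_F(T))` extend to elements of `O^p(Aut_F(T C_S(T)))` -/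
theorem exists_extend_pResidual [Finite S] {p : ℕ} [Fact p.Prime] (hS : IsPGroup p S)
    (F : FusionSystem S) (hF : F.IsSaturated p) {T : Subgroup Ω} (hsc : F.StronglyClosed T)
    (γ : F.autGroup T) (hγ : γ ∈ pResidual p (F.autGroup T)) :
    ∃ β : F.autGroup (T ⊔ centralizerIn S T), β ∈ pResidual p (F.autGroup (T ⊔ centralizerIn S T)) ∧
      ∀ x : T, (((β : MulAut ↥(T ⊔ centralizerIn S T)) ⟨x, le_sup_left (a := T) x.2⟩ :
        ↥(T ⊔ centralizerIn S T)) : Ω) = (((γ : MulAut T) x : T) : Ω) := by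
  have hTS : T ≤ S := hsc.1
  have hKS : T ⊔ centralizerIn S T ≤ S := sup_le hTS (centralizerIn_le S T)
  have hTK : T ≤ T ⊔ centralizerIn S T := le_sup_left
  refine Subgroup.closure_induction (p := fun (γ : F.autGroup T) _ =>
    ∃ β : F.autGroup (T ⊔ centralizerIn S T), β ∈ pResidual p (F.autGroup (T ⊔ centralizerIn S T)) ∧
      ∀ x : T, (((β : MulAut ↥(T ⊔ centralizerIn S T)) ⟨x, le_sup_left (a := T) x.2⟩ :
        ↥(T ⊔ centralizerIn S T)) : Ω) = (((γ : MulAut T) x : T) : Ω))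
    ?_ ?_ ?_ ?_ (show γ ∈ Subgroup.closure {g : F.autGroup T | Nat.Coprime (orderOf g) p} from hγ)
  · intro g hg
    obtain ⟨β₀, hβ₀, hext⟩ := exists_extend_aut_of_stronglyClosed hS F hF hsc g.2
    have hgo : Nat.Coprime (orderOf (g : MulAut T)) p := by
      have : orderOf (g : MulAut T) = orderOf g := Subgroup.orderOf_coe g
      rw [this]
      exact hg
    obtain ⟨β, hβ, hβx⟩ := exists_coprime_extension F hTK hKS hgo hβ₀ hext
    exact ⟨β, Helper1.mem_pResidual_of_coprime hβ, hβx⟩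
  · exact ⟨1, Subgroup.one_mem _, fun x => rfl⟩
  · rintro a b _ _ ⟨β₁, hβ₁, h₁⟩ ⟨β₂, hβ₂, h₂⟩
    refine ⟨β₁ * β₂, Subgroup.mul_mem _ hβ₁ hβ₂, fun x => ?_⟩
    show (((β₁ : MulAut ↥(T ⊔ centralizerIn S T)) ((β₂ : MulAut ↥(T ⊔ centralizerIn S T))
      ⟨x, hTK x.2⟩) : ↥(T ⊔ centralizerIn S T)) : Ω) = (((a : MulAut T) ((b : MulAut T) x) : T) : Ω)
    rw [← h₁]
    congr 2
    exact Subtype.ext (h₂ x)
  · rintro a _ ⟨β, hβ, h⟩
    refine ⟨β⁻¹, Subgroup.inv_mem _ hβ, fun x => ?_⟩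
    show ((((β : MulAut ↥(T ⊔ centralizerIn S T))⁻¹ ⟨x, hTK x.2⟩ : ↥(T ⊔ centralizerIn S T))) : Ω) =
      ((((a : MulAut T)⁻¹ x : T)) : Ω)
    have h1 := h ((a : MulAut T)⁻¹ x)
    rw [MulAut.apply_inv_self] at h1
    have h2 : (⟨(x : Ω), hTK x.2⟩ : ↥(T ⊔ centralizerIn S T)) =
        (β : MulAut ↥(T ⊔ centralizerIn S T))
          ⟨(((a : MulAut T)⁻¹ x : T) : Ω), hTK ((a : MulAut T)⁻¹ x).2⟩ :=
      Subtype.ext h1.symm
    rw [h2, MulAut.inv_apply_self]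

end Cfsg.Agent.Lib.Helper26
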