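import Mathlib
import Cfsg.Prelude.Def_Characters
import Cfsg.Prelude.Def_Transfer
import Cfsg.Agent.Lib.Helper13.PResidual
import Cfsg.Agent.Lib.Helper1.SplitResidual
import Cfsg.Agent.Lib.Helper1.Tate

/-!
Counting Galois-fixed characters of degree prime to `p` in the principal block when `G / O^p(G)`
is cyclic (S4553): group-theoretic preliminaries.
-/

set_option autoImplicit false
set_option linter.style.haveILetI false
set_option linter.unusedSectionVars false
set_option linter.unusedVariables false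

namespace Cfsg.Agent.Lib.Helper26

section

variable {G : Type*} [Group G]

/-- the exponent `k` is prime to the group order -/
theorem prq_coprime [Finite G] (p : ℕ) [hp : Fact p.Prime] (k : ℕ)
    (hk₁ : ∀ g : G, (∃ j : ℕ, orderOf g = p ^ j) → g ^ k = g ^ (1 + p))
    (hk₂ : ∀ g : G, Nat.Coprime (orderOf g) p → g ^ k = g) : Nat.Coprime k (Nat.card G) := by
  by_contra hcon
  obtain ⟨r, hr, hrk, hrG⟩ := Nat.Prime.not_coprime_iff_dvd.mp hcon
  haveI := Fact.mk hr
  obtain ⟨g, hg⟩ := exists_prime_orderOf_dvd_card' r hrG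
  have hgk : g ^ k = 1 := by
    obtain ⟨c, rfl⟩ := hrk
    rw [pow_mul, ← hg, pow_orderOf_eq_one, one_pow]
  have hg1 : g ≠ 1 := by
    intro h
    rw [h, orderOf_one] at hg
    exact hr.one_lt.ne hg
  by_cases hrp : r = p
  · have h1 := hk₁ g ⟨1, by rw [hg, hrp, pow_one]⟩
    rw [hgk, pow_add, pow_one] at h1
    have h2 : g ^ p = 1 := by rw [← hrp, ← hg, pow_orderOf_eq_one]
    rw [h2, mul_one] at h1
    exact hg1 h1.symm
  · have h1 := hk₂ g (by
      rw [hg]
      exact (Nat.coprime_primes hr hp.out).mpr hrp)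
    rw [hgk] at h1
    exact hg1 h1.symm

/-- a homomorphism to a commutative group that is trivial on the elements of order prime to `p`
turns `k`-th powers into `(1 + p)`-th powers -/
theorem prq_hom_pow [Finite G] (p : ℕ) [hp : Fact p.Prime] (k : ℕ)
    (hk₁ : ∀ g : G, (∃ j : ℕ, orderOf g = p ^ j) → g ^ k = g ^ (1 + p))
    (hk₂ : ∀ g : G, Nat.Coprime (orderOf g) p → g ^ k = g) {A : Type*} [CommGroup A]
    (β : G →* A) (hβ : ∀ g : G, Nat.Coprime (orderOf g) p → β g = 1) (g : G) :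
    β (g ^ k) = β g ^ (1 + p) := by
  obtain ⟨j, m, hm, ho⟩ := Nat.exists_eq_pow_mul_and_not_dvd (orderOf_pos g).ne' p hp.out.ne_one
  have hcop : Nat.Coprime m (p ^ j) :=
    Nat.Coprime.pow_right j ((Nat.Prime.coprime_iff_not_dvd hp.out).mpr hm).symm
  -- the `p`-part
  have h1 : ∃ i : ℕ, orderOf (g ^ m) = p ^ i := by
    have hd : orderOf (g ^ m) ∣ p ^ j := by
      apply orderOf_dvd_of_pow_eq_one
      rw [← pow_mul, mul_comm, ← ho, pow_orderOf_eq_one]
    obtain ⟨i, -, hi⟩ := (Nat.dvd_prime_pow hp.out).mp hd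
    exact ⟨i, hi⟩
  have h2 := hk₁ _ h1
  -- the `p'`-part
  have h3 : Nat.Coprime (orderOf (g ^ (p ^ j))) p := by
    have hd : orderOf (g ^ (p ^ j)) ∣ m := by
      apply orderOf_dvd_of_pow_eq_one
      rw [← pow_mul, ← ho, pow_orderOf_eq_one]
    exact Nat.Coprime.coprime_dvd_left hd ((Nat.Prime.coprime_iff_not_dvd hp.out).mpr hm).symm
  have h4 := hk₂ _ h3
  have h5 := hβ _ h3
  set w : A := β (g ^ k) * (β g ^ (1 + p))⁻¹ with hw
  have hwm : w ^ m = 1 := by
    rw [hw, mul_pow, inv_pow, ← map_pow, ← map_pow, ← map_pow, ← pow_mul, ← pow_mul,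
      mul_comm k m, mul_comm (1 + p) m, pow_mul, pow_mul g m (1 + p), h2, mul_inv_cancel]
  have hwp : w ^ (p ^ j) = 1 := by
    rw [hw, mul_pow, inv_pow, ← map_pow, ← map_pow, ← map_pow, ← pow_mul, ← pow_mul,
      mul_comm k (p ^ j), mul_comm (1 + p) (p ^ j), pow_mul, pow_mul g (p ^ j) (1 + p), h4,
      map_pow β (g ^ p ^ j) (1 + p), h5, one_pow, inv_one, mul_one]
  have h6 := pow_gcd_eq_one.mpr ⟨hwm, hwp⟩
  rw [hcop, pow_one] at h6
  rw [hw] at h6
  exact mul_inv_eq_one.mp h6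

/-- a homomorphism from `O^p(G)` to a commutative group with finite image is trivial on
`p`-elements -/
theorem prq_hom_pelement [Finite G] (p : ℕ) [hp : Fact p.Prime] (N : Subgroup G)
    (hNres : N = Cfsg.pResidual p G) {A : Type*} [CommGroup A] (lam : ↥N →* A)
    (y : ↥N) (hy : ∃ i : ℕ, orderOf y = p ^ i) : lam y = 1 := by
  subst hNres
  obtain ⟨b, m, hm, hcard⟩ := Nat.exists_eq_pow_mul_and_not_dvd
    (Nat.card_pos (α := ↥(Cfsg.pResidual p G))).ne' p hp.out.ne_one
  -- the `m`-th power of `lam` has image a `p`-group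
  set f : ↥(Cfsg.pResidual p G) →* A := (powMonoidHom m).comp lam with hf
  have hfp : IsPGroup p ↥f.range := by
    rintro ⟨a, n, rfl⟩
    refine ⟨b, ?_⟩
    apply Subtype.ext
    rw [Subgroup.coe_pow, Subgroup.coe_one]
    show (f n) ^ (p ^ b) = 1
    rw [hf, MonoidHom.comp_apply, powMonoidHom_apply, ← pow_mul, mul_comm, ← hcard, ← map_pow,
      pow_card_eq_one', map_one]
  have h1 := Cfsg.Agent.Lib.Helper1.Tate.hom_eq_one_of_pResidual_top
    (Cfsg.Agent.Lib.Helper1.pResidual_pResidual (G := G) p) hfp f.rangeRestrict y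
  have h2 : lam y ^ m = 1 := by
    have := congrArg Subtype.val h1
    exact this
  obtain ⟨i, hi⟩ := hy
  have h3 : lam y ^ (p ^ i) = 1 := by
    rw [← map_pow, ← hi, pow_orderOf_eq_one, map_one]
  have hcop : Nat.Coprime m (p ^ i) :=
    Nat.Coprime.pow_right i ((Nat.Prime.coprime_iff_not_dvd hp.out).mpr hm).symm
  have h4 := pow_gcd_eq_one.mpr ⟨h2, h3⟩
  rw [hcop, pow_one] at h4
  exact h4

/-- a generator of the cyclic `p`-group `G / N` is the image of a `p`-element -/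
theorem prq_lift_pelement [Finite G] (p : ℕ) [hp : Fact p.Prime] (N : Subgroup G) [hN : N.Normal]
    (a : ℕ) (ha : 0 < a) (hidx : N.index = p ^ a) (q₀ : G ⧸ N) :
    ∃ x : G, (∃ i : ℕ, orderOf x = p ^ i) ∧ (x : G ⧸ N) = q₀ := by
  obtain ⟨g, rfl⟩ := QuotientGroup.mk_surjective q₀
  obtain ⟨j, m, hm, ho⟩ := Nat.exists_eq_pow_mul_and_not_dvd (orderOf_pos g).ne' p hp.out.ne_one
  have hcop : Nat.Coprime m (p ^ a) :=
    Nat.Coprime.pow_right a ((Nat.Prime.coprime_iff_not_dvd hp.out).mpr hm).symm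
  have h1 : 1 < p ^ a := Nat.one_lt_pow ha.ne' hp.out.one_lt
  obtain ⟨m', -, hm'⟩ := Nat.exists_mul_mod_eq_one_of_coprime hcop h1
  refine ⟨g ^ (m * m'), ?_, ?_⟩
  · have hd : orderOf (g ^ (m * m')) ∣ p ^ j := by
      apply orderOf_dvd_of_pow_eq_one
      rw [← pow_mul, mul_comm, ← mul_assoc, ← ho, pow_mul, pow_orderOf_eq_one, one_pow]
    obtain ⟨i, -, hi⟩ := (Nat.dvd_prime_pow hp.out).mp hd
    exact ⟨i, hi⟩
  · rw [QuotientGroup.mk_pow]
    have hq : orderOf (g : G ⧸ N) ∣ p ^ a := by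
      rw [← hidx, Subgroup.index_eq_card]
      exact orderOf_dvd_natCard _
    have h2 : m * m' ≡ 1 [MOD orderOf (g : G ⧸ N)] := by
      apply Nat.ModEq.of_dvd hq
      show m * m' % p ^ a = 1 % p ^ a
      rw [hm', Nat.mod_eq_of_lt h1]
    have h3 := pow_eq_pow_iff_modEq.mpr h2
    rw [h3, pow_one]

end

end Cfsg.Agent.Lib.Helper26
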