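import Mathlib
import Cfsg.Prelude.Def_Characters
import Cfsg.Agent.Lib.Helper26.GalFixOver7
import Cfsg.Agent.Lib.Helper25.CharAbelian

/-!
Counting Galois-fixed characters of degree prime to `p` in the principal block when `G / O^p(G)`
is cyclic (S4553): characters of degree prime to `p` restrict irreducibly to a normal subgroup with
cyclic quotient of `p`-power order.
-/

set_option autoImplicit false
set_option linter.style.haveILetI false
set_option linter.unusedSectionVars false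
set_option linter.unusedVariables false

namespace Cfsg.Agent.Lib.Helper26

open scoped ComplexConjugate
open Cfsg.Agent.Lib.Helper24 Cfsg.Agent.Lib.Helper25 Cfsg.Agent.Lib.Helper11
open Cfsg.Agent.Lib.helper2 Cfsg.Agent.Lib.helper7

section

variable {G : Type*} [Group G]

theorem prq_restrict_irr [Fintype G] (p : ℕ) [hp : Fact p.Prime] (N : Subgroup G) [hN : N.Normal]
    [Fintype N] (hcyc : IsCyclic (G ⧸ N)) (a : ℕ) (hidx : N.index = p ^ a)
    (χ : Cfsg.IrrCharacter G) (hdeg : ¬ p ∣ Cfsg.charDegree (χ : G → ℂ)) :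
    ∃ θ : Cfsg.IrrCharacter N, ∀ n : N, (χ : G → ℂ) n = (θ : N → ℂ) n := by
  classical
  have hR := isCharacter_restrict (isCharacter_of_irr χ) N
  have h1 : (fun n : N => (χ : G → ℂ) n) 1 ≠ 0 := by
    show (χ : G → ℂ) ((1 : N) : G) ≠ 0
    rw [Subgroup.coe_one]
    exact irr_one_ne_zero χ
  obtain ⟨θ, m, hm, hθm⟩ := isCharacter_exists_constituent hR h1
  have hcon : Cfsg.classInner (fun n : N => (χ : G → ℂ) n) (θ : N → ℂ) ≠ 0 := by
    rw [hθm]
    exact_mod_cast hm.ne'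
  obtain ⟨e, he, hinner, hres⟩ := h7_clifford N (χ : G → ℂ) χ.2 (θ : N → ℂ) θ.2 hcon
  have hidxT := Cfsg.Agent.Lib.helper2.card_image_cj N (θ : N → ℂ)
  obtain ⟨-, -, hχ1⟩ := h7_charDegree_props χ
  obtain ⟨-, -, hθ1⟩ := h7_charDegree_props θ
  have hdegeq : Cfsg.charDegree (χ : G → ℂ) =
      e * ((Cfsg.Agent.Lib.helper2.cjStab N (θ : N → ℂ)).index *
        Cfsg.charDegree (θ : N → ℂ)) := by
    have h2 := congrFun hres 1
    simp only [Pi.smul_apply, Finset.sum_apply, smul_eq_mul] at h2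
    have h3 : ∀ ψ ∈ Finset.univ.image (fun g : G => cj N (θ : N → ℂ) g),
        ψ 1 = (θ : N → ℂ) 1 := by
      intro ψ hψ
      obtain ⟨g, -, rfl⟩ := Finset.mem_image.mp hψ
      rw [cj_apply]
      refine congrArg (θ : N → ℂ) ?_
      apply Subtype.ext
      simp
    rw [Finset.sum_congr rfl h3, Finset.sum_const, hidxT, ← hθ1] at h2
    have h4 : (χ : G → ℂ) ((1 : N) : G) = (χ : G → ℂ) 1 := rfl
    rw [h4, ← hχ1] at h2
    have h5 : ((Cfsg.charDegree (χ : G → ℂ) : ℕ) : ℂ) =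
        ((e * ((Cfsg.Agent.Lib.helper2.cjStab N (θ : N → ℂ)).index *
          Cfsg.charDegree (θ : N → ℂ)) : ℕ) : ℂ) := by
      rw [h2]
      push_cast
      rw [nsmul_eq_mul]
    exact_mod_cast h5
  have hNT : N ≤ Cfsg.Agent.Lib.helper2.cjStab N (θ : N → ℂ) :=
    Cfsg.Agent.Lib.helper2.le_cjStab N _ (h7_irr_isClassFunction θ.2)
  have hTtop : Cfsg.Agent.Lib.helper2.cjStab N (θ : N → ℂ) = ⊤ := by
    rw [← Subgroup.index_eq_one]
    have hd : (Cfsg.Agent.Lib.helper2.cjStab N (θ : N → ℂ)).index ∣ p ^ a := by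
      rw [← hidx]
      exact Subgroup.index_dvd_of_le hNT
    obtain ⟨i, -, hi⟩ := (Nat.dvd_prime_pow hp.out).mp hd
    rcases Nat.eq_zero_or_pos i with h0 | hpos
    · rw [hi, h0, pow_zero]
    · exfalso
      apply hdeg
      rw [hdegeq, hi]
      exact Dvd.dvd.mul_left (Dvd.dvd.mul_right (dvd_pow_self p hpos.ne') _) _
  have hinv : ∀ (g : G) (n : N),
      (θ : N → ℂ) ⟨g * n * g⁻¹, hN.conj_mem (n : G) n.2 g⟩ = (θ : N → ℂ) n := by
    intro g n
    have hg : g ∈ Cfsg.Agent.Lib.helper2.cjStab N (θ : N → ℂ) := by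
      rw [hTtop]
      exact Subgroup.mem_top g
    have := congrFun ((Cfsg.Agent.Lib.helper2.mem_cjStab N _ g).mp hg) n
    rwa [cj_apply] at this
  obtain ⟨χ₀f, hχ₀irr, hχ₀⟩ := Cfsg.Agent.S0886.result N hcyc (θ : N → ℂ) θ.2 hinv
  obtain ⟨hG1, -⟩ := gfo_gallagher N θ ⟨χ₀f, hχ₀irr⟩ hχ₀
  obtain ⟨β, hβN, hβ⟩ := hG1 χ hcon
  obtain ⟨βq, hβq⟩ := h7_deflate N β hβN
  have hβ1 : (β : G → ℂ) 1 = 1 := by
    letI : CommGroup (G ⧸ N) := IsCyclic.commGroup
    have h2 := irr_one_of_comm βq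
    have h3 := hβq 1
    rw [QuotientGroup.mk_one] at h3
    rw [← h3]
    exact h2
  refine ⟨θ, fun n => ?_⟩
  have h2 := congrFun hβ n
  rw [Pi.mul_apply, hβN n n.2, hβ1, one_mul] at h2
  rw [h2]
  exact hχ₀ n

end

end Cfsg.Agent.Lib.Helper26
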