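import Mathlib
import Cfsg.Prelude.Def_Characters
import Cfsg.Agent.Lib.Helper26.PRatCount1
import Cfsg.Agent.Lib.Helper26.PRatCount2
import Cfsg.Agent.Lib.helper7.Gallagher

/-!
Counting Galois-fixed characters of degree prime to `p` in the principal block when `G / O^p(G)`
is cyclic (S4553): the determinant relation for a Galois conjugate extension.
-/

set_option autoImplicit false
set_option linter.style.haveILetI false
set_option linter.unusedSectionVars false
set_option linter.unusedVariables false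

namespace Cfsg.Agent.Lib.Helper26

open scoped ComplexConjugate
open Cfsg.Agent.Lib.Helper24 Cfsg.Agent.Lib.Helper25 Cfsg.Agent.Lib.Helper11
open Cfsg.Agent.Lib.helper2 Cfsg.Agent.Lib.helper7

section

variable {G : Type*} [Group G]

theorem prq_det_conjRep {n : ℕ} (τ : ℂ ≃+* ℂ) (ρ : Representation ℂ G (Fin n → ℂ)) (g : G) :
    LinearMap.det (conjRep τ ρ g) = τ (LinearMap.det (ρ g)) := by
  have h1 : conjRep τ ρ g = Matrix.toLin' ((LinearMap.toMatrix' (ρ g)).map τ) := rfl
  rw [h1, LinearMap.det_toLin']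
  have h2 : (LinearMap.toMatrix' (ρ g)).map τ =
      (τ : ℂ →+* ℂ).mapMatrix (LinearMap.toMatrix' (ρ g)) := rfl
  rw [h2, ← RingHom.map_det, LinearMap.det_toMatrix']
  rfl

/-- the determinant relation: if `χ₀ (g ^ k) = μ g * χ₀ g` for a linear character `μ`, then
`δ g ^ k = μ g ^ χ₀(1) * δ g` for the determinant `δ` of `χ₀` -/
theorem prq_det_rel [Fintype G] (k : ℕ) (hk : Nat.Coprime k (Nat.card G))
    (χ₀ : Cfsg.IrrCharacter G) (μh : G →* ℂˣ)
    (hμ : ∀ g : G, (χ₀ : G → ℂ) (g ^ k) = ((μh g : ℂˣ) : ℂ) * (χ₀ : G → ℂ) g) :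
    ∃ (δ : G →* ℂˣ) (n : ℕ), (n : ℂ) = (χ₀ : G → ℂ) 1 ∧
      ∀ g : G, δ g ^ k = μh g ^ n * δ g := by
  classical
  obtain ⟨n, ρ₀, hρ₀irr, hρ₀χ⟩ := χ₀.2
  haveI := hρ₀irr
  obtain ⟨τ, hτ⟩ := exists_ringAut_pow (Nat.card G) k Nat.card_pos hk
  haveI : (h7_twist μh ρ₀).IsIrreducible := h7_twist_irr μh ρ₀
  have hchar : (conjRep τ ρ₀).character = (h7_twist μh ρ₀).character := by
    funext g
    rw [conjRep_character, h7_twist_character, hρ₀χ,
      ringAut_character_apply τ k hτ (isCharacter_of_irr χ₀) g]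
    exact hμ g
  refine ⟨h7_detHom ρ₀, n, ?_, ?_⟩
  · rw [← hρ₀χ, Representation.char_one]
    simp
  · intro g
    have h1 := h7_det_eq_of_char_eq (h7_twist μh ρ₀) (conjRep τ ρ₀) hchar g
    rw [prq_det_conjRep, h7_twist_det] at h1
    have hroot : (LinearMap.det (ρ₀ g)) ^ Nat.card G = 1 := by
      rw [← map_pow, ← map_pow, pow_card_eq_one', map_one, map_one]
    rw [hτ _ hroot] at h1
    apply Units.ext
    rw [Units.val_pow_eq_pow_val, Units.val_mul, Units.val_pow_eq_pow_val, h7_detHom_apply, h1]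
    congr 2
    simp

end

end Cfsg.Agent.Lib.Helper26
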