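import Mathlib
import Cfsg.Prelude.Def_Characters
import Cfsg.Agent.Lib.Helper26.PRatCount3

/-!
Counting Galois-fixed characters of degree prime to `p` in the principal block when `G / O^p(G)`
is cyclic (S4553): existence of a Galois-fixed extension.
-/

set_option autoImplicit false
set_option linter.style.haveILetI false
set_option linter.unusedSectionVars false
set_option linter.unusedVariables false

namespace Cfsg.Agent.Lib.Helper26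

open scoped ComplexConjugate
open Cfsg.Agent.Lib.Helper24 Cfsg.Agent.Lib.Helper25 Cfsg.Agent.Lib.Helper11
open Cfsg.Agent.Lib.helper2 Cfsg.Agent.Lib.helper7

section

variable {G : Type*} [Group G]

theorem prq_exists_fixed_ext [Fintype G] (p : ℕ) [hp : Fact p.Prime] (N : Subgroup G)
    [hN : N.Normal] [Fintype N] (hNres : N = Cfsg.pResidual p G) (hcyc : IsCyclic (G ⧸ N))
    (a : ℕ) (ha : 0 < a) (hidx : N.index = p ^ a) (k : ℕ)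
    (hk₁ : ∀ g : G, (∃ j : ℕ, orderOf g = p ^ j) → g ^ k = g ^ (1 + p))
    (hk₂ : ∀ g : G, Nat.Coprime (orderOf g) p → g ^ k = g) (θ : Cfsg.IrrCharacter N)
    (hdeg : ¬ p ∣ Cfsg.charDegree (θ : N → ℂ))
    (hθk : ∀ n : N, (θ : N → ℂ) (n ^ k) = (θ : N → ℂ) n)
    (hinv : ∀ (g : G) (n : N),
      (θ : N → ℂ) ⟨g * n * g⁻¹, hN.conj_mem (n : G) n.2 g⟩ = (θ : N → ℂ) n) :
    ∃ χ₁ : Cfsg.IrrCharacter G, (∀ n : N, (χ₁ : G → ℂ) n = (θ : N → ℂ) n) ∧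
      ∀ g : G, (χ₁ : G → ℂ) (g ^ k) = (χ₁ : G → ℂ) g := by
  classical
  have hk := prq_coprime p k hk₁ hk₂
  obtain ⟨χ₀f, hχ₀irr, hχ₀'⟩ := Cfsg.Agent.S0886.result N hcyc (θ : N → ℂ) θ.2 hinv
  obtain ⟨χ₀, hχ₀⟩ : ∃ χ₀ : Cfsg.IrrCharacter G, ∀ n : N, (χ₀ : G → ℂ) n = (θ : N → ℂ) n :=
    ⟨⟨χ₀f, hχ₀irr⟩, hχ₀'⟩
  obtain ⟨hG1, -⟩ := gfo_gallagher N θ χ₀ hχ₀
  obtain ⟨χ₁', hχ₁'⟩ : ∃ χ₁' : Cfsg.IrrCharacter G, χ₁' = gfo_gal k hk χ₀ := ⟨_, rfl⟩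
  have hχ₁'a : ∀ g : G, (χ₁' : G → ℂ) g = (χ₀ : G → ℂ) (g ^ k) := by
    intro g
    rw [hχ₁', gfo_gal_apply]
  have hχ₁'N : ∀ n : N, (χ₁' : G → ℂ) n = (θ : N → ℂ) n := by
    intro n
    rw [hχ₁'a]
    have := hχ₀ (n ^ k)
    rw [Subgroup.coe_pow] at this
    rw [this, hθk]
  have hcon₁ : Cfsg.classInner (fun n : N => (χ₁' : G → ℂ) n) (θ : N → ℂ) ≠ 0 := by
    have : (fun n : N => (χ₁' : G → ℂ) n) = (θ : N → ℂ) := funext hχ₁'N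
    rw [this, h7_irr_norm θ.2]
    exact one_ne_zero
  obtain ⟨μ, hμN, hμ⟩ := hG1 χ₁' hcon₁
  have hμ1 : (μ : G → ℂ) 1 = 1 := by
    have h := congrFun hμ 1
    rw [Pi.mul_apply, hχ₁'a, one_pow] at h
    have hne := irr_one_ne_zero χ₀
    have h' : (1 : ℂ) * (χ₀ : G → ℂ) 1 = (μ : G → ℂ) 1 * (χ₀ : G → ℂ) 1 := by
      rw [one_mul]
      exact h
    exact (mul_right_cancel₀ hne h').symm
  obtain ⟨μh, hμh⟩ : ∃ μh : G →* ℂˣ, ∀ g : G, ((μh g : ℂˣ) : ℂ) = (μ : G → ℂ) g :=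
    ⟨irrLinearHom μ hμ1, fun g => rfl⟩
  have hμhN : ∀ n ∈ N, μh n = 1 := by
    intro n hn
    apply Units.ext
    rw [hμh, hμN n hn, hμ1, Units.val_one]
  have hμrel : ∀ g : G, (χ₀ : G → ℂ) (g ^ k) = ((μh g : ℂˣ) : ℂ) * (χ₀ : G → ℂ) g := by
    intro g
    rw [← hχ₁'a, hμ, Pi.mul_apply, hμh]
  obtain ⟨δ, n, hn, hδ⟩ := prq_det_rel k hk χ₀ μh hμrel
  have hnp : Nat.Coprime n p := by
    obtain ⟨-, -, hθ1⟩ := h7_charDegree_props θ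
    have h1 : (n : ℂ) = ((Cfsg.charDegree (θ : N → ℂ) : ℕ) : ℂ) := by
      rw [hn, hθ1]
      have := hχ₀ 1
      rw [Subgroup.coe_one] at this
      exact this
    have h2 : n = Cfsg.charDegree (θ : N → ℂ) := by exact_mod_cast h1
    rw [h2]
    exact ((Nat.Prime.coprime_iff_not_dvd hp.out).mpr hdeg).symm
  -- a generator of the quotient and a `p`-element above it
  obtain ⟨q₀, hq₀⟩ := hcyc.exists_generator
  obtain ⟨x, hxp, hxq⟩ := prq_lift_pelement p N a ha hidx q₀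
  have hcardQ : Nat.card (G ⧸ N) = p ^ a := by
    rw [← Subgroup.index_eq_card]
    exact hidx
  have hxN : x ^ (p ^ a) ∈ N := by
    apply (QuotientGroup.eq_one_iff _).mp
    rw [QuotientGroup.mk_pow, ← hcardQ]
    exact pow_card_eq_one'
  have hpa : p * p ^ (a - 1) = p ^ a := by
    rw [← pow_succ', Nat.sub_add_cancel ha]
  have h1 : μh x ^ n = δ x ^ p := by
    have h2 := hδ x
    have h3 : δ x ^ k = δ x ^ (1 + p) := by rw [← map_pow, hk₁ x hxp, map_pow]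
    rw [h3, pow_add, pow_one, mul_comm] at h2
    exact (mul_right_cancel h2).symm
  have hδN : δ (x ^ (p ^ a)) = 1 := by
    have h2 := prq_hom_pelement p N hNres (δ.comp N.subtype) ⟨x ^ (p ^ a), hxN⟩ (by
      obtain ⟨i, hi⟩ := hxp
      have hd : orderOf (⟨x ^ (p ^ a), hxN⟩ : N) ∣ p ^ i := by
        rw [Subgroup.orderOf_mk, ← hi]
        exact orderOf_pow_dvd _
      obtain ⟨i', -, hi'⟩ := (Nat.dvd_prime_pow hp.out).mp hd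
      exact ⟨i', hi'⟩)
    exact h2
  have hz : μh x ^ (p ^ (a - 1)) = 1 := by
    have hzn : (μh x ^ (p ^ (a - 1))) ^ n = 1 := by
      rw [← pow_mul, mul_comm, pow_mul, h1, ← pow_mul, hpa, ← map_pow, hδN]
    have hzp : (μh x ^ (p ^ (a - 1))) ^ p = 1 := by
      rw [← pow_mul, mul_comm, hpa, ← map_pow]
      exact hμhN _ hxN
    have h2 := pow_gcd_eq_one.mpr ⟨hzn, hzp⟩
    rw [hnp, pow_one] at h2
    exact h2
  -- a `p`-th root of `(μh x)⁻¹`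
  obtain ⟨w0, hw0⟩ := IsAlgClosed.exists_pow_nat_eq (((μh x)⁻¹ : ℂˣ) : ℂ) hp.out.pos
  have hw0ne : w0 ≠ 0 := by
    intro h
    rw [h, zero_pow hp.out.ne_zero] at hw0
    exact Units.ne_zero _ hw0.symm
  obtain ⟨w, hw⟩ : ∃ w : ℂˣ, w ^ p = (μh x)⁻¹ := by
    refine ⟨Units.mk0 w0 hw0ne, ?_⟩
    apply Units.ext
    rw [Units.val_pow_eq_pow_val, Units.val_mk0]
    exact hw0
  have hwpa : w ^ (p ^ a) = 1 := by
    rw [← hpa, pow_mul, hw, inv_pow, hz, inv_one]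
  have horder : orderOf w ∣ orderOf q₀ := by
    rw [orderOf_eq_card_of_forall_mem_zpowers hq₀, hcardQ]
    exact orderOf_dvd_of_pow_eq_one hwpa
  obtain ⟨νq, hνq⟩ : ∃ νq : G ⧸ N →* ℂˣ, νq q₀ = w :=
    ⟨monoidHomOfForallMemZpowers hq₀ horder, monoidHomOfForallMemZpowers_apply_gen hq₀ horder⟩
  obtain ⟨μq, hμq⟩ : ∃ μq : G ⧸ N →* ℂˣ, ∀ g : G, μq (g : G ⧸ N) = μh g :=
    ⟨QuotientGroup.lift N μh (fun n hn => hμhN n hn), fun g => rfl⟩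
  have key : νq ^ p * μq = 1 := by
    apply (MonoidHom.eq_iff_eq_on_generator hq₀ _ _).mpr
    rw [MonoidHom.mul_apply, MonoidHom.pow_apply, MonoidHom.one_apply, hνq, hw, ← hxq, hμq,
      inv_mul_cancel]
  obtain ⟨ν, hν⟩ : ∃ ν : G →* ℂˣ, ∀ g : G, ν g = νq (g : G ⧸ N) :=
    ⟨νq.comp (QuotientGroup.mk' N), fun g => rfl⟩
  have hνrel : ∀ g : G, ν g ^ p * μh g = 1 := by
    intro g
    have h2 := congrArg (fun f : G ⧸ N →* ℂˣ => f (g : G ⧸ N)) key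
    simp only [MonoidHom.mul_apply, MonoidHom.pow_apply, MonoidHom.one_apply] at h2
    rw [hν, ← hμq]
    exact h2
  have hνN : ∀ n ∈ N, ν n = 1 := by
    intro n hn
    rw [hν, (QuotientGroup.eq_one_iff n).mpr hn, map_one]
  have hνcop : ∀ g : G, Nat.Coprime (orderOf g) p → ν g = 1 := by
    intro g hg
    apply hνN
    rw [hNres]
    exact Cfsg.Agent.Lib.Helper13.mem_pResidual_of_coprime hg
  have hνk : ∀ g : G, ν (g ^ k) = ν g ^ (1 + p) := prq_hom_pow p k hk₁ hk₂ ν hνcop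
  refine ⟨⟨fun g => ((ν g : ℂˣ) : ℂ) * (χ₀ : G → ℂ) g, isIrr_linChar_mul ν _ χ₀.2⟩, ?_, ?_⟩
  · intro n
    show ((ν (n : G) : ℂˣ) : ℂ) * (χ₀ : G → ℂ) n = (θ : N → ℂ) n
    rw [hνN n n.2, Units.val_one, one_mul, hχ₀]
  · intro g
    show ((ν (g ^ k) : ℂˣ) : ℂ) * (χ₀ : G → ℂ) (g ^ k) = ((ν g : ℂˣ) : ℂ) * (χ₀ : G → ℂ) g
    rw [hνk, hμrel, pow_add, pow_one, Units.val_mul]
    have h2 : ((ν g : ℂˣ) : ℂ) * (((ν g ^ p : ℂˣ) : ℂ) * ((μh g : ℂˣ) : ℂ)) = ((ν g : ℂˣ) : ℂ) := by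
      rw [← Units.val_mul, hνrel, Units.val_one, mul_one]
    calc ((ν g : ℂˣ) : ℂ) * ((ν g ^ p : ℂˣ) : ℂ) * (((μh g : ℂˣ) : ℂ) * (χ₀ : G → ℂ) g)
        = (((ν g : ℂˣ) : ℂ) * (((ν g ^ p : ℂˣ) : ℂ) * ((μh g : ℂˣ) : ℂ))) * (χ₀ : G → ℂ) g := by
          ring
      _ = ((ν g : ℂˣ) : ℂ) * (χ₀ : G → ℂ) g := by rw [h2]

end

end Cfsg.Agent.Lib.Helper26
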