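import Mathlib
import Cfsg.Prelude.Def_Characters
import Cfsg.Agent.Lib.Helper26.PRatCount4

/-!
Counting Galois-fixed characters of degree prime to `p` in the principal block when `G / O^p(G)`
is cyclic (S4553): there are exactly `p` Galois-fixed extensions.
-/

set_option autoImplicit false
set_option linter.style.haveILetI false
set_option linter.unusedSectionVars false
set_option linter.unusedVariables false

namespace Cfsg.Agent.Lib.Helper26

open scoped ComplexConjugate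
open Cfsg.Agent.Lib.Helper24 Cfsg.Agent.Lib.Helper25 Cfsg.Agent.Lib.Helper11
open Cfsg.Agent.Lib.helper2 Cfsg.Agent.Lib.helper7

section

variable {G : Type*} [Group G]

theorem prq_card_ext [Fintype G] (p : ℕ) [hp : Fact p.Prime] (N : Subgroup G)
    [hN : N.Normal] [Fintype N] (hNres : N = Cfsg.pResidual p G) (hcyc : IsCyclic (G ⧸ N))
    (a : ℕ) (ha : 0 < a) (hidx : N.index = p ^ a) (k : ℕ)
    (hk₁ : ∀ g : G, (∃ j : ℕ, orderOf g = p ^ j) → g ^ k = g ^ (1 + p))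
    (hk₂ : ∀ g : G, Nat.Coprime (orderOf g) p → g ^ k = g) (θ : Cfsg.IrrCharacter N)
    (hdeg : ¬ p ∣ Cfsg.charDegree (θ : N → ℂ))
    (hθk : ∀ n : N, (θ : N → ℂ) (n ^ k) = (θ : N → ℂ) n)
    (hinv : ∀ (g : G) (n : N),
      (θ : N → ℂ) ⟨g * n * g⁻¹, hN.conj_mem (n : G) n.2 g⟩ = (θ : N → ℂ) n) :
    Nat.card {χ : Cfsg.IrrCharacter G // (∀ n : N, (χ : G → ℂ) n = (θ : N → ℂ) n) ∧
      ∀ g : G, (χ : G → ℂ) (g ^ k) = (χ : G → ℂ) g} = p := by
  classical
  have hk := prq_coprime p k hk₁ hk₂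
  obtain ⟨χ₁, hχ₁N, hχ₁k⟩ := prq_exists_fixed_ext p N hNres hcyc a ha hidx k hk₁ hk₂ θ hdeg hθk hinv
  obtain ⟨hG1, hG2⟩ := gfo_gallagher N θ χ₁ hχ₁N
  obtain ⟨q₀, hq₀⟩ := hcyc.exists_generator
  obtain ⟨x, hxq⟩ := QuotientGroup.mk_surjective q₀
  have hcardQ : Nat.card (G ⧸ N) = p ^ a := by
    rw [← Subgroup.index_eq_card]
    exact hidx
  have hoq : orderOf q₀ = p ^ a := by
    rw [orderOf_eq_card_of_forall_mem_zpowers hq₀, hcardQ]
  have hcopN : ∀ g : G, Nat.Coprime (orderOf g) p → g ∈ N := by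
    intro g hg
    rw [hNres]
    exact Cfsg.Agent.Lib.Helper13.mem_pResidual_of_coprime hg
  have horder : ∀ ζ : ↥(rootsOfUnity p ℂ), orderOf (ζ : ℂˣ) ∣ orderOf q₀ := by
    intro ζ
    rw [hoq]
    have h1 : orderOf (ζ : ℂˣ) ∣ p := orderOf_dvd_of_pow_eq_one ((mem_rootsOfUnity p _).mp ζ.2)
    exact dvd_trans h1 (dvd_pow_self p ha.ne')
  -- the twisting homomorphisms
  have hex : ∀ ζ : ↥(rootsOfUnity p ℂ), ∃ ν : G →* ℂˣ, ν x = (ζ : ℂˣ) ∧ (∀ n ∈ N, ν n = 1) ∧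
      (∀ g : G, ν g ^ p = 1) := by
    intro ζ
    refine ⟨(monoidHomOfForallMemZpowers hq₀ (horder ζ)).comp (QuotientGroup.mk' N), ?_, ?_, ?_⟩
    · rw [MonoidHom.comp_apply, QuotientGroup.mk'_apply, hxq]
      exact monoidHomOfForallMemZpowers_apply_gen hq₀ (horder ζ)
    · intro n hn
      rw [MonoidHom.comp_apply, QuotientGroup.mk'_apply, (QuotientGroup.eq_one_iff n).mpr hn,
        map_one]
    · intro g
      have h1 : (monoidHomOfForallMemZpowers hq₀ (horder ζ)) ^ p = 1 := by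
        apply (MonoidHom.eq_iff_eq_on_generator hq₀ _ _).mpr
        rw [MonoidHom.pow_apply, MonoidHom.one_apply,
          monoidHomOfForallMemZpowers_apply_gen hq₀ (horder ζ)]
        exact (mem_rootsOfUnity p _).mp ζ.2
      have h2 := congrArg (fun f : G ⧸ N →* ℂˣ => f (g : G ⧸ N)) h1
      exact h2
  choose ν hνx hνN hνp using hex
  have hνk : ∀ (ζ : ↥(rootsOfUnity p ℂ)) (g : G), ν ζ (g ^ k) = ν ζ g := by
    intro ζ g
    rw [prq_hom_pow p k hk₁ hk₂ (ν ζ) (fun g hg => hνN ζ g (hcopN g hg)) g, pow_add, pow_one,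
      hνp, mul_one]
  let Φ : ↥(rootsOfUnity p ℂ) → {χ : Cfsg.IrrCharacter G //
      (∀ n : N, (χ : G → ℂ) n = (θ : N → ℂ) n) ∧
      ∀ g : G, (χ : G → ℂ) (g ^ k) = (χ : G → ℂ) g} := fun ζ =>
    ⟨⟨fun g => ((ν ζ g : ℂˣ) : ℂ) * (χ₁ : G → ℂ) g, isIrr_linChar_mul (ν ζ) _ χ₁.2⟩, by
      intro n
      show ((ν ζ (n : G) : ℂˣ) : ℂ) * (χ₁ : G → ℂ) n = (θ : N → ℂ) n
      rw [hνN ζ n n.2, Units.val_one, one_mul, hχ₁N], by
      intro g
      show ((ν ζ (g ^ k) : ℂˣ) : ℂ) * (χ₁ : G → ℂ) (g ^ k) =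
        ((ν ζ g : ℂˣ) : ℂ) * (χ₁ : G → ℂ) g
      rw [hνk, hχ₁k]⟩
  have hΦ : Function.Bijective Φ := by
    constructor
    · intro ζ ζ' h
      have h1 : (fun g => ((ν ζ g : ℂˣ) : ℂ) * (χ₁ : G → ℂ) g) =
          fun g => ((ν ζ' g : ℂˣ) : ℂ) * (χ₁ : G → ℂ) g :=
        congrArg (fun e => ((e.1 : Cfsg.IrrCharacter G) : G → ℂ)) h
      have h2 : linIrr (ν ζ) = linIrr (ν ζ') := by
        apply hG2
        · intro n hn
          rw [linIrr_apply, linIrr_apply, hνN ζ n hn, map_one]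
        · intro n hn
          rw [linIrr_apply, linIrr_apply, hνN ζ' n hn, map_one]
        · exact h1
      have h3 := congrFun (congrArg Subtype.val h2) x
      rw [linIrr_apply, linIrr_apply, hνx, hνx] at h3
      exact Subtype.ext (Units.ext h3)
    · rintro ⟨χ, hχN, hχk⟩
      have hcon : Cfsg.classInner (fun n : N => (χ : G → ℂ) n) (θ : N → ℂ) ≠ 0 := by
        have : (fun n : N => (χ : G → ℂ) n) = (θ : N → ℂ) := funext hχN
        rw [this, h7_irr_norm θ.2]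
        exact one_ne_zero
      obtain ⟨β, hβN, hβ⟩ := hG1 χ hcon
      have hβ1 : (β : G → ℂ) 1 = 1 := by
        have h := congrFun hβ 1
        rw [Pi.mul_apply] at h
        have h2 : (χ : G → ℂ) 1 = (χ₁ : G → ℂ) 1 := by
          have e1 := hχN 1
          have e2 := hχ₁N 1
          rw [Subgroup.coe_one] at e1 e2
          rw [e1, e2]
        have hne := irr_one_ne_zero χ₁
        rw [h2] at h
        have h' : (1 : ℂ) * (χ₁ : G → ℂ) 1 = (β : G → ℂ) 1 * (χ₁ : G → ℂ) 1 := by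
          rw [one_mul]
          exact h
        exact (mul_right_cancel₀ hne h').symm
      obtain ⟨βh, hβh⟩ : ∃ βh : G →* ℂˣ, ∀ g : G, ((βh g : ℂˣ) : ℂ) = (β : G → ℂ) g :=
        ⟨irrLinearHom β hβ1, fun g => rfl⟩
      have hβhN : ∀ n ∈ N, βh n = 1 := by
        intro n hn
        apply Units.ext
        rw [hβh, hβN n hn, hβ1, Units.val_one]
      -- `β` is Galois-fixed
      obtain ⟨β₁, hβ₁⟩ : ∃ β₁ : Cfsg.IrrCharacter G, β₁ = gfo_gal k hk β := ⟨_, rfl⟩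
      have hβ₁a : ∀ g : G, (β₁ : G → ℂ) g = (β : G → ℂ) (g ^ k) := by
        intro g
        rw [hβ₁, gfo_gal_apply]
      have hβ₁N : ∀ n ∈ N, (β₁ : G → ℂ) n = (β₁ : G → ℂ) 1 := by
        intro n hn
        rw [hβ₁a, hβ₁a, one_pow]
        exact hβN _ (N.pow_mem hn k)
      have heq : (β₁ : G → ℂ) * (χ₁ : G → ℂ) = (β : G → ℂ) * (χ₁ : G → ℂ) := by
        funext g
        have e1 := congrFun hβ (g ^ k)
        have e2 := congrFun hβ g
        rw [Pi.mul_apply] at e1 e2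
        rw [Pi.mul_apply, Pi.mul_apply, hβ₁a, ← hχ₁k g, ← e1, hχk, e2, hχ₁k]
      have hββ : β₁ = β := hG2 β₁ β hβ₁N hβN heq
      have hβhk : ∀ g : G, βh (g ^ k) = βh g := by
        intro g
        apply Units.ext
        rw [hβh, hβh, ← hβ₁a, hββ]
      have hβhp : ∀ g : G, βh g ^ p = 1 := by
        intro g
        have h1 := prq_hom_pow p k hk₁ hk₂ βh (fun g hg => hβhN g (hcopN g hg)) g
        rw [hβhk, pow_add, pow_one] at h1
        exact (mul_eq_left).mp h1.symm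
      refine ⟨⟨βh x, (mem_rootsOfUnity p _).mpr (hβhp x)⟩, ?_⟩
      apply Subtype.ext
      apply Subtype.ext
      show (fun g => ((ν ⟨βh x, (mem_rootsOfUnity p _).mpr (hβhp x)⟩ g : ℂˣ) : ℂ) *
        (χ₁ : G → ℂ) g) = (χ : G → ℂ)
      rw [hβ]
      funext g
      rw [Pi.mul_apply, ← hβh]
      congr 2
      -- the two homomorphisms agree on the quotient
      have hq1 : QuotientGroup.lift N (ν ⟨βh x, (mem_rootsOfUnity p _).mpr (hβhp x)⟩)
          (fun n hn => hνN _ n hn) = QuotientGroup.lift N βh (fun n hn => hβhN n hn) := by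
        apply (MonoidHom.eq_iff_eq_on_generator hq₀ _ _).mpr
        rw [← hxq]
        show ν ⟨βh x, (mem_rootsOfUnity p _).mpr (hβhp x)⟩ x = βh x
        rw [hνx]
      have h2 := congrArg (fun f : G ⧸ N →* ℂˣ => f (g : G ⧸ N)) hq1
      exact h2
  have h1 := Nat.card_eq_of_bijective Φ hΦ
  rw [← h1]
  haveI : NeZero p := ⟨hp.out.ne_zero⟩
  exact Complex.card_rootsOfUnity p

end

end Cfsg.Agent.Lib.Helper26
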