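import Mathlib
import Cfsg.Prelude.Def_Characters
import Cfsg.Prelude.Def_Blocks
import Cfsg.Agent.Lib.Helper26.PRatCount5
import Cfsg.Agent.Lib.Helper26.ExtPrincipal
import Cfsg.Agent.Lib.Helper24.OddIndex4

/-!
Counting Galois-fixed characters of degree prime to `p` in the principal block when `G / O^p(G)`
is cyclic (S4553): the main statement.
-/

set_option autoImplicit false
set_option linter.style.haveILetI false
set_option linter.unusedSectionVars false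
set_option linter.unusedVariables false

namespace Cfsg.Agent.Lib.Helper26

open scoped ComplexConjugate
open Cfsg.Agent.Lib.Helper24 Cfsg.Agent.Lib.Helper25 Cfsg.Agent.Lib.Helper11
open Cfsg.Agent.Lib.helper2 Cfsg.Agent.Lib.helper7

section

variable {G : Type*} [Group G]

theorem prq_main [Finite G] (p : ℕ) [hp : Fact p.Prime] (M : Ideal Cfsg.AlgInt)
    (hM : Cfsg.IsPModular p M) (P : Sylow p G) (N : Subgroup G) [hN : N.Normal]
    (hNres : N = Cfsg.pResidual p G) (hcyc : IsCyclic (G ⧸ N)) (hnt : N ≠ ⊤) (k : ℕ)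
    (hk₁ : ∀ g : G, (∃ j : ℕ, orderOf g = p ^ j) → g ^ k = g ^ (1 + p))
    (hk₂ : ∀ g : G, Nat.Coprime (orderOf g) p → g ^ k = g) :
    Nat.card {χ : Cfsg.IrrCharacter G // χ ∈ Cfsg.principalBlock M G ∧
        ¬ p ∣ Cfsg.charDegree (χ : G → ℂ) ∧
        ∀ g : G, (χ : G → ℂ) (g ^ k) = (χ : G → ℂ) g} =
      p * Nat.card {θ : Cfsg.IrrCharacter ↥N // θ ∈ Cfsg.principalBlock M ↥N ∧
        ¬ p ∣ Cfsg.charDegree (θ : ↥N → ℂ) ∧
        (∀ x ∈ (P : Subgroup G), ∀ n : ↥N,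
          (θ : ↥N → ℂ) ⟨x * n * x⁻¹, hN.conj_mem n n.2 x⟩ = (θ : ↥N → ℂ) n) ∧
        ∀ n : ↥N, (θ : ↥N → ℂ) (n ^ k) = (θ : ↥N → ℂ) n} := by
  classical
  haveI : Fintype G := Fintype.ofFinite G
  haveI : Fintype ↥N := Fintype.ofFinite _
  haveI : Fintype (Cfsg.IrrCharacter G) := Fintype.ofFinite _
  haveI : Fintype (Cfsg.IrrCharacter ↥N) := Fintype.ofFinite _
  have hPr : M.IsPrime := hM.2.1.isPrime
  -- the index of `N`
  have hPG : IsPGroup p (G ⧸ N) := by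
    subst hNres
    exact Cfsg.Agent.Lib.Helper13.isPGroup_quotient_pResidual p
  obtain ⟨a, hcardQ⟩ := IsPGroup.iff_card.mp hPG
  have hidx : N.index = p ^ a := by
    rw [Subgroup.index_eq_card]
    exact hcardQ
  have ha : 0 < a := by
    rcases Nat.eq_zero_or_pos a with h0 | h
    · exfalso
      apply hnt
      rw [← Subgroup.index_eq_one, hidx, h0, pow_zero]
    · exact h
  -- `G = P N`
  have hPN : ∀ g : G, ∃ q ∈ (P : Subgroup G), ∃ m ∈ N, g = q * m := by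
    intro g
    obtain ⟨q, hq, m, hm, hg⟩ := Cfsg.Agent.Lib.Helper13.exists_mul_of_sylow_pResidual
      (P : Subgroup G) P.not_dvd_index g
    exact ⟨q, hq, m, hNres ▸ hm, hg⟩
  have hinvG : ∀ θ : Cfsg.IrrCharacter ↥N,
      (∀ x ∈ (P : Subgroup G), ∀ n : ↥N,
        (θ : ↥N → ℂ) ⟨x * n * x⁻¹, hN.conj_mem n n.2 x⟩ = (θ : ↥N → ℂ) n) →
      ∀ (g : G) (n : ↥N),
        (θ : ↥N → ℂ) ⟨g * n * g⁻¹, hN.conj_mem (n : G) n.2 g⟩ = (θ : ↥N → ℂ) n := by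
    intro θ hθP g n
    obtain ⟨q, hq, m, hm, rfl⟩ := hPN g
    have h1 := hθP q hq ⟨m * n * m⁻¹, hN.conj_mem (n : G) n.2 m⟩
    have h2 : (⟨q * m * n * (q * m)⁻¹, hN.conj_mem (n : G) n.2 (q * m)⟩ : ↥N) =
        ⟨q * (m * n * m⁻¹) * q⁻¹, hN.conj_mem _ (hN.conj_mem (n : G) n.2 m) q⟩ := by
      apply Subtype.ext
      show q * m * n * (q * m)⁻¹ = q * (m * n * m⁻¹) * q⁻¹
      group
    rw [h2, h1]
    have h3 := h7_irr_isClassFunction θ.2 n ⟨m, hm⟩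
    rw [← h3]
    congr 1
  -- degrees of a character and of its restriction
  have hdegeq : ∀ (χ : Cfsg.IrrCharacter G) (θ : Cfsg.IrrCharacter ↥N),
      (∀ n : ↥N, (χ : G → ℂ) n = (θ : ↥N → ℂ) n) →
      Cfsg.charDegree (χ : G → ℂ) = Cfsg.charDegree (θ : ↥N → ℂ) := by
    intro χ θ h
    obtain ⟨-, -, h1⟩ := h7_charDegree_props χ
    obtain ⟨-, -, h2⟩ := h7_charDegree_props θ
    have h3 := h 1
    rw [Subgroup.coe_one] at h3
    have h4 : ((Cfsg.charDegree (χ : G → ℂ) : ℕ) : ℂ) =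
        ((Cfsg.charDegree (θ : ↥N → ℂ) : ℕ) : ℂ) := by rw [h1, h2, h3]
    exact_mod_cast h4
  have hover : ∀ (χ : Cfsg.IrrCharacter G) (θ : Cfsg.IrrCharacter ↥N),
      (∀ n : ↥N, (χ : G → ℂ) n = (θ : ↥N → ℂ) n) →
      Cfsg.classInner (fun n : ↥N => (χ : G → ℂ) n) (θ : ↥N → ℂ) ≠ 0 := by
    intro χ θ h
    have : (fun n : ↥N => (χ : G → ℂ) n) = (θ : ↥N → ℂ) := funext h
    rw [this, h7_irr_norm θ.2]
    exact one_ne_zero
  -- the restriction map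
  have hres : ∀ χ : {χ : Cfsg.IrrCharacter G // χ ∈ Cfsg.principalBlock M G ∧
      ¬ p ∣ Cfsg.charDegree (χ : G → ℂ) ∧ ∀ g : G, (χ : G → ℂ) (g ^ k) = (χ : G → ℂ) g},
      ∃ θ : Cfsg.IrrCharacter ↥N, ∀ n : ↥N, (χ.1 : G → ℂ) n = (θ : ↥N → ℂ) n :=
    fun χ => prq_restrict_irr p N hcyc a hidx χ.1 χ.2.2.1
  choose R hR using hres
  let r : {χ : Cfsg.IrrCharacter G // χ ∈ Cfsg.principalBlock M G ∧
      ¬ p ∣ Cfsg.charDegree (χ : G → ℂ) ∧ ∀ g : G, (χ : G → ℂ) (g ^ k) = (χ : G → ℂ) g} →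
      {θ : Cfsg.IrrCharacter ↥N // θ ∈ Cfsg.principalBlock M ↥N ∧
        ¬ p ∣ Cfsg.charDegree (θ : ↥N → ℂ) ∧
        (∀ x ∈ (P : Subgroup G), ∀ n : ↥N,
          (θ : ↥N → ℂ) ⟨x * n * x⁻¹, hN.conj_mem n n.2 x⟩ = (θ : ↥N → ℂ) n) ∧
        ∀ n : ↥N, (θ : ↥N → ℂ) (n ^ k) = (θ : ↥N → ℂ) n} := fun χ =>
    ⟨R χ, od_forward M hPr N (R χ) χ.1 (hover χ.1 (R χ) (hR χ)) χ.2.1, by
      rw [← hdegeq χ.1 (R χ) (hR χ)]
      exact χ.2.2.1, by
      intro x hx n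
      rw [← hR χ, ← hR χ]
      exact irr_conj_invariant χ.1 (n : G) x, by
      intro n
      rw [← hR χ, ← hR χ, Subgroup.coe_pow]
      exact χ.2.2.2 (n : G)⟩
  -- the fibres
  have hfib : ∀ θ : {θ : Cfsg.IrrCharacter ↥N // θ ∈ Cfsg.principalBlock M ↥N ∧
        ¬ p ∣ Cfsg.charDegree (θ : ↥N → ℂ) ∧
        (∀ x ∈ (P : Subgroup G), ∀ n : ↥N,
          (θ : ↥N → ℂ) ⟨x * n * x⁻¹, hN.conj_mem n n.2 x⟩ = (θ : ↥N → ℂ) n) ∧
        ∀ n : ↥N, (θ : ↥N → ℂ) (n ^ k) = (θ : ↥N → ℂ) n},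
      Nat.card {χ // r χ = θ} = p := by
    intro θ
    refine Eq.trans ?_ (prq_card_ext p N hNres hcyc a ha hidx k hk₁ hk₂ θ.1 θ.2.2.1 θ.2.2.2.2
      (hinvG θ.1 θ.2.2.2.1))
    let f : {χ // r χ = θ} → {χ : Cfsg.IrrCharacter G //
        (∀ n : ↥N, (χ : G → ℂ) n = (θ.1 : ↥N → ℂ) n) ∧
        ∀ g : G, (χ : G → ℂ) (g ^ k) = (χ : G → ℂ) g} := fun χ =>
      ⟨χ.1.1, by
        intro n
        rw [hR χ.1]
        have h1 : R χ.1 = θ.1 := congrArg Subtype.val χ.2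
        rw [h1], χ.1.2.2.2⟩
    apply Nat.card_eq_of_bijective f
    constructor
    · intro χ χ' h
      have h1 : (f χ).1 = (f χ').1 := congrArg Subtype.val h
      have h2 : χ.1.1 = χ'.1.1 := h1
      exact Subtype.ext (Subtype.ext h2)
    · rintro ⟨χ, hχN, hχk⟩
      have hmem : χ ∈ Cfsg.principalBlock M G :=
        xp_mem_principal p M hM N ⟨a, hidx⟩ χ ⟨θ.1, θ.2.1, hover χ θ.1 hχN⟩
      have hd : ¬ p ∣ Cfsg.charDegree (χ : G → ℂ) := by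
        rw [hdegeq χ θ.1 hχN]
        exact θ.2.2.1
      refine ⟨⟨⟨χ, hmem, hd, hχk⟩, ?_⟩, rfl⟩
      apply Subtype.ext
      apply Subtype.ext
      funext n
      show (R ⟨χ, hmem, hd, hχk⟩ : ↥N → ℂ) n = (θ.1 : ↥N → ℂ) n
      rw [← hR ⟨χ, hmem, hd, hχk⟩ n]
      exact hχN n
  rw [Nat.card_congr (Equiv.sigmaFiberEquiv r).symm, Nat.card_sigma]
  simp only [hfib]
  rw [Finset.sum_const, Finset.card_univ, smul_eq_mul, mul_comm, Nat.card_eq_fintype_card]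

end

end Cfsg.Agent.Lib.Helper26
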