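import Mathlib
import Cfsg.Prelude.Def_Blocks
import Cfsg.Prelude.Def_Local
import Cfsg.Agent.Lib.Helper24.FongPrincipal
import Cfsg.Agent.Lib.Helper24.QuotDefect2
import Cfsg.Agent.Lib.Helper25.ItoPSolvable
import Cfsg.Agent.Lib.Helper25.SingleBlock
import Cfsg.Agent.Lib.Helper18.PPrimeCore
import Cfsg.Agent.Lib.Helper13.Basic

/-!
`p`-solvable groups: the Sylow `p`-subgroups are abelian iff all irreducible characters of the
principal block have height zero (S4736).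
-/

set_option autoImplicit false
set_option linter.style.haveILetI false
set_option linter.unusedSectionVars false
set_option linter.unusedVariables false

namespace Cfsg.Agent.Lib.Helper26

open scoped ComplexConjugate
open Cfsg.Agent.Lib.Helper24 Cfsg.Agent.Lib.Helper25 Cfsg.Agent.Lib.Helper11
open Cfsg.Agent.Lib.helper2 Cfsg.Agent.Lib.helper7

theorem pas_main {G : Type*} [Group G] [Finite G] (p : ℕ) [hp : Fact p.Prime]
    (M : Ideal Cfsg.AlgInt) (hM : Cfsg.IsPModular p M) (hsolv : Cfsg.IsPSolvable p G)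
    (P : Sylow p G) :
    IsMulCommutative P ↔ ∀ χ ∈ Cfsg.principalBlock M G,
      Cfsg.blockHeight p (Cfsg.principalBlock M G) (χ : G → ℂ) = 0 := by
  classical
  haveI := Fintype.ofFinite G
  haveI : Fintype (Cfsg.IrrCharacter G) := Fintype.ofFinite _
  have hMp := hM.2.1.isPrime
  haveI hNn : (Cfsg.pPrimeCore p G).Normal := Cfsg.Agent.Lib.Helper1.pPrimeCore_normal p
  have hcopN : (Nat.card ↥(Cfsg.pPrimeCore p G)).Coprime p :=
    Cfsg.Agent.Lib.Helper1.pPrimeCore_card_coprime p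
  have hsolvQ : Cfsg.IsPSolvable p (G ⧸ Cfsg.pPrimeCore p G) :=
    Cfsg.Agent.Lib.Helper5.h5_isPSolvable_of_surjective (QuotientGroup.mk' (Cfsg.pPrimeCore p G))
      (QuotientGroup.mk'_surjective _) hsolv
  have hcore : Cfsg.pPrimeCore p (G ⧸ Cfsg.pPrimeCore p G) = ⊥ :=
    Cfsg.Agent.Lib.Helper1.pPrimeCore_quotient_eq_bot p
  have hconstr := Cfsg.Agent.Lib.Helper5.h5_centralizer_pCore_le hsolvQ hcore
  have htriv : trivIrr G ∈ Cfsg.principalBlock M G := h7_sameBlock_refl hMp _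
  have hht : ∀ χ : Cfsg.IrrCharacter G,
      Cfsg.blockHeight p (Cfsg.principalBlock M G) (χ : G → ℂ) = 0 ↔
        ¬ p ∣ Cfsg.charDegree (χ : G → ℂ) := by
    intro χ
    unfold Cfsg.blockHeight
    have h1 : sInf ((fun ψ : Cfsg.IrrCharacter G =>
        (Cfsg.charDegree (ψ : G → ℂ)).factorization p) '' Cfsg.principalBlock M G) = 0 := by
      apply Nat.eq_zero_of_le_zero
      have h2 : sInf ((fun ψ : Cfsg.IrrCharacter G =>
          (Cfsg.charDegree (ψ : G → ℂ)).factorization p) '' Cfsg.principalBlock M G) ≤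
          (Cfsg.charDegree (trivIrr G : G → ℂ)).factorization p :=
        Nat.sInf_le ⟨trivIrr G, htriv, rfl⟩
      have h3 : Cfsg.charDegree (trivIrr G : G → ℂ) = 1 := by
        unfold Cfsg.charDegree
        simp
      rw [h3] at h2
      simpa using h2
    rw [h1, Nat.sub_zero]
    have hpos := (h7_charDegree_props χ).2.1
    constructor
    · intro h hdvd
      have := hp.out.factorization_pos_of_dvd hpos.ne' hdvd
      omega
    · exact Nat.factorization_eq_zero_of_not_dvd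
  have hA : ∀ χ ∈ Cfsg.principalBlock M G,
      ∃ φ : Cfsg.IrrCharacter (G ⧸ Cfsg.pPrimeCore p G), qh_infl (Cfsg.pPrimeCore p G) φ = χ := by
    intro χ hχ
    exact (qh_mem_range_iff (Cfsg.pPrimeCore p G) χ).mpr (fg_principal_le p M hM χ hχ)
  have hB : ∀ φ : Cfsg.IrrCharacter (G ⧸ Cfsg.pPrimeCore p G),
      qh_infl (Cfsg.pPrimeCore p G) φ ∈ Cfsg.principalBlock M G := by
    intro φ
    have h1 := sb_single_block_psolvable p M hM hsolvQ hcore
      (trivIrr (G ⧸ Cfsg.pPrimeCore p G)) φ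
    exact fg_infl_sameBlock (Cfsg.pPrimeCore p G) hMp _ _ h1
  have hdeg : ∀ φ : Cfsg.IrrCharacter (G ⧸ Cfsg.pPrimeCore p G),
      Cfsg.charDegree (qh_infl (Cfsg.pPrimeCore p G) φ : G → ℂ) =
        Cfsg.charDegree (φ : G ⧸ Cfsg.pPrimeCore p G → ℂ) := by
    intro φ
    unfold Cfsg.charDegree
    rw [qh_infl_apply]
    rfl
  have hPb : ∃ Pb : Sylow p (G ⧸ Cfsg.pPrimeCore p G),
      (Pb : Subgroup (G ⧸ Cfsg.pPrimeCore p G)) =
        (P : Subgroup G).map (QuotientGroup.mk' (Cfsg.pPrimeCore p G)) :=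
    ⟨P.mapSurjective (QuotientGroup.mk'_surjective _), Sylow.coe_mapSurjective _ _⟩
  obtain ⟨Pb, hPbdef⟩ := hPb
  have hpit := pit_main p hsolvQ Pb
  have hiff : (∀ χ ∈ Cfsg.principalBlock M G,
      Cfsg.blockHeight p (Cfsg.principalBlock M G) (χ : G → ℂ) = 0) ↔
      ∀ φ : Cfsg.IrrCharacter (G ⧸ Cfsg.pPrimeCore p G),
        ¬ p ∣ Cfsg.charDegree (φ : G ⧸ Cfsg.pPrimeCore p G → ℂ) := by
    constructor
    · intro h φ
      have := (hht _).mp (h _ (hB φ))
      rwa [hdeg] at this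
    · intro h χ hχ
      obtain ⟨φ, rfl⟩ := hA χ hχ
      rw [hht, hdeg]
      exact h φ
  rw [hiff, ← hpit]
  constructor
  · intro hab
    have habQ : ∀ x ∈ (Pb : Subgroup (G ⧸ Cfsg.pPrimeCore p G)),
        ∀ y ∈ (Pb : Subgroup (G ⧸ Cfsg.pPrimeCore p G)), x * y = y * x := by
      intro x hx y hy
      rw [hPbdef] at hx hy
      obtain ⟨a, ha, rfl⟩ := hx
      obtain ⟨b, hb, rfl⟩ := hy
      have := hab.is_comm.comm (⟨a, ha⟩ : P) ⟨b, hb⟩
      have h2 : a * b = b * a := congrArg Subtype.val this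
      rw [← map_mul, ← map_mul, h2]
    have hle : (Pb : Subgroup (G ⧸ Cfsg.pPrimeCore p G)) ≤
        Cfsg.pCore p (G ⧸ Cfsg.pPrimeCore p G) := by
      intro x hx
      apply hconstr
      rw [Subgroup.mem_centralizer_iff]
      intro y hy
      exact habQ y (Cfsg.Agent.Lib.Helper13.pCore_le_sylow Pb hy) x hx
    have heq : (Pb : Subgroup (G ⧸ Cfsg.pPrimeCore p G)) =
        Cfsg.pCore p (G ⧸ Cfsg.pPrimeCore p G) :=
      le_antisymm hle (Cfsg.Agent.Lib.Helper13.pCore_le_sylow Pb)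
    refine ⟨?_, ⟨⟨fun a b => Subtype.ext (habQ a a.2 b b.2)⟩⟩⟩
    rw [heq]
    exact Cfsg.Agent.Lib.Helper13.pCore_normal' p
  · rintro ⟨-, habQ⟩
    refine ⟨⟨fun a b => Subtype.ext ?_⟩⟩
    have hma : (QuotientGroup.mk' (Cfsg.pPrimeCore p G)) (a : G) ∈
        (Pb : Subgroup (G ⧸ Cfsg.pPrimeCore p G)) := by
      rw [hPbdef]
      exact ⟨a, a.2, rfl⟩
    have hmb : (QuotientGroup.mk' (Cfsg.pPrimeCore p G)) (b : G) ∈
        (Pb : Subgroup (G ⧸ Cfsg.pPrimeCore p G)) := by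
      rw [hPbdef]
      exact ⟨b, b.2, rfl⟩
    have h0 := habQ.is_comm.comm (⟨_, hma⟩ : Pb) ⟨_, hmb⟩
    have h1 : (QuotientGroup.mk' (Cfsg.pPrimeCore p G)) ((a : G) * (b : G)) =
        (QuotientGroup.mk' (Cfsg.pPrimeCore p G)) ((b : G) * (a : G)) := by
      rw [map_mul, map_mul]
      exact congrArg Subtype.val h0
    have h2 : ((b : G) * (a : G))⁻¹ * ((a : G) * (b : G)) ∈ Cfsg.pPrimeCore p G :=
      QuotientGroup.eq.mp h1.symm
    have h3 : ((b : G) * (a : G))⁻¹ * ((a : G) * (b : G)) ∈ (P : Subgroup G) :=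
      (P : Subgroup G).mul_mem ((P : Subgroup G).inv_mem ((P : Subgroup G).mul_mem b.2 a.2))
        ((P : Subgroup G).mul_mem a.2 b.2)
    have h4 := Cfsg.Agent.Lib.Helper18.eq_one_of_mem_pGroup_of_mem_coprime P.isPGroup' hcopN h3 h2
    have h5 : (b : G) * (a : G) = (a : G) * (b : G) := inv_mul_eq_one.mp h4
    exact h5.symm

end Cfsg.Agent.Lib.Helper26
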