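import Cfsg.Agent.Lib.helper14.PgV
import Cfsg.Agent.Lib.helper23.PgS

set_option autoImplicit false

/-!
# Directed enumeration of the elements of a stabiliser chain

The enumeration of `pgEnumM` visits, at each level, all the points of the orbit, and cuts the
branches afterwards.  Here a function `tgt` may give the image of the base point of the level in
advance (for the centraliser of `v`: the image of `v b` is `v` of the image of `b`); then the
point of the orbit is computed with the inverse of the product of the transversal elements chosen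
so far, and the level costs one step.  If `tgt` gives a value `≥ n`, all the points are visited.
-/

namespace Cfsg.Agent.Lib.Helper26

open Cfsg.Agent.Lib.helper23 Cfsg.Agent.Lib.helper14.PV Subgroup

/-- one step of the directed enumeration: `pre` is the product of the transversal elements chosen
so far, `pri` its inverse -/
def pgDirStep (L : PgLvlW) (ih : (ℕ → ℕ) → (ℕ → ℕ) → List (ℕ × ℕ) → Bool)
    (pre pri : ℕ → ℕ) (imgs : List (ℕ × ℕ)) (z : ℕ) : Bool :=
  cond (L.inO z)
    (pgForce (pre z) (fun y =>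
      ih (fun p => pre (pgEvalW L.own (L.path z) p))
        (fun p => pgEvalW L.own (pgInvW L.own.length (L.path z)) (pri p)) ((L.b, y) :: imgs)))
    true

/-- the directed enumeration -/
def pgDir (n : ℕ) (tgt : List (ℕ × ℕ) → ℕ → ℕ) (test : (ℕ → ℕ) → Bool) :
    List PgLvlW → (ℕ → ℕ) → (ℕ → ℕ) → List (ℕ × ℕ) → Bool :=
  @List.rec PgLvlW (fun _ => (ℕ → ℕ) → (ℕ → ℕ) → List (ℕ × ℕ) → Bool)
    (fun pre _ _ => test pre)
    (fun L _ ih pre pri imgs =>
      pgForce (tgt imgs L.b) (fun y =>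
        cond (Nat.blt y n)
          (pgForce (pri y) (fun z => pgDirStep L ih pre pri imgs z))
          (pgAll n (fun z => pgDirStep L ih pre pri imgs z))))

theorem pgDir_nil (n : ℕ) (tgt : List (ℕ × ℕ) → ℕ → ℕ) (test : (ℕ → ℕ) → Bool)
    (pre pri : ℕ → ℕ) (imgs : List (ℕ × ℕ)) : pgDir n tgt test [] pre pri imgs = test pre := rfl

theorem pgDir_cons (n : ℕ) (tgt : List (ℕ × ℕ) → ℕ → ℕ) (test : (ℕ → ℕ) → Bool)
    (L : PgLvlW) (C : List PgLvlW) (pre pri : ℕ → ℕ) (imgs : List (ℕ × ℕ)) :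
    pgDir n tgt test (L :: C) pre pri imgs =
      pgForce (tgt imgs L.b) (fun y =>
        cond (Nat.blt y n)
          (pgForce (pri y) (fun z => pgDirStep L (pgDir n tgt test C) pre pri imgs z))
          (pgAll n (fun z => pgDirStep L (pgDir n tgt test C) pre pri imgs z))) := rfl

/-- the directed enumeration reaches every element of the group of a stabiliser chain for which
the targets are right -/
theorem pgDir_sound {n : ℕ} (tgt : List (ℕ × ℕ) → ℕ → ℕ) (test : (ℕ → ℕ) → Bool)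
    (h : Equiv.Perm (Fin n))
    (htgt : ∀ (l : List (ℕ × ℕ)) (b : ℕ),
      (∀ q ∈ l, ∃ hq : q.1 < n, (h ⟨q.1, hq⟩).1 = q.2) → ∀ hb : b < n, tgt l b < n →
        tgt l b = (h ⟨b, hb⟩).1) :
    ∀ C : List PgLvlW, PgValidW n C →
    ∀ (pre pri : ℕ → ℕ) (W : Equiv.Perm (Fin n)) (imgs : List (ℕ × ℕ)),
      PgRep pre W → PgRep pri W⁻¹ →
      (∀ q ∈ imgs, ∃ hq : q.1 < n, (h ⟨q.1, hq⟩).1 = q.2) →
      pgDir n tgt test C pre pri imgs = true →
      ∀ h' ∈ pgGrpW n C, h = W * h' →
      ∃ f : ℕ → ℕ, PgRep f h ∧ test f = true := by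
  intro C
  induction C with
  | nil =>
    intro _ pre pri W imgs hpre _ _ hen h' hh' hW
    rw [pgGrpW_nil, Subgroup.mem_bot] at hh'
    rw [hh', mul_one] at hW
    rw [pgDir_nil] at hen
    refine ⟨pre, ?_, hen⟩
    intro p
    rw [hW]
    exact hpre p
  | cons L C ih =>
    intro hval pre pri W imgs hpre hpri himgs hen h' hh' hW
    obtain ⟨h0, horbAll, hstabAll, hvalC⟩ := hval
    obtain ⟨hb, -, hok, -, -, hU, -⟩ := pgChkLvlW0_spec h0
    have horb := horbAll h' hh' hb
    set z : Fin n := h' ⟨L.b, hb⟩ with hz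
    have hy : pre z.1 = (h ⟨L.b, hb⟩).1 := by
      rw [hpre z, hW, Equiv.Perm.mul_apply]
    have hstep : pgDirStep L (pgDir n tgt test C) pre pri imgs z.1 = true := by
      rw [pgDir_cons, pgForce_eq] at hen
      cases hlt : Nat.blt (tgt imgs L.b) n with
      | false =>
        rw [hlt] at hen
        exact (pgAll_iff _ _).1 hen z.1 z.2
      | true =>
        rw [hlt] at hen
        simp only [cond_true, pgForce_eq] at hen
        have h1 : tgt imgs L.b < n := by simpa using hlt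
        have h2 := htgt imgs L.b himgs hb h1
        have h3 : pri (tgt imgs L.b) = z.1 := by
          rw [h2, ← hy, hpre z, hpri (W z)]
          simp
        rw [h3] at hen
        exact hen
    unfold pgDirStep at hstep
    rw [horb] at hstep
    simp only [cond_true, pgForce_eq] at hstep
    have himgs' : ∀ q ∈ (L.b, pre z.1) :: imgs, ∃ hq : q.1 < n, (h ⟨q.1, hq⟩).1 = q.2 := by
      intro q hq
      rcases List.mem_cons.1 hq with rfl | hq
      · exact ⟨hb, hy.symm⟩
      · exact himgs q hq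
    obtain ⟨hlet, hpath⟩ := hU z.1 z.2 horb
    set u := pgWordPerm n L.own (L.path z.1) with hu
    have humem : u ∈ pgGrpW n (L :: C) := pgWordPerm_mem hok _
    have hub : u ⟨L.b, hb⟩ = z := by
      apply Fin.ext
      rw [hu, pgWordPerm_apply hok]
      exact hpath
    have hh'' : u⁻¹ * h' ∈ pgGrpW n C := by
      apply hstabAll _ (mul_mem (inv_mem humem) hh') hb
      rw [Equiv.Perm.mul_apply, ← hz, ← hub]
      simp
    have hinv := pgInvW_perm hok (L.path z.1) hlet
    refine ih hvalC _ _ (W * u) _ ?_ ?_ himgs' hstep _ hh'' ?_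
    · intro p
      show pre (pgEvalW L.own (L.path z.1) p.1) = _
      rw [Equiv.Perm.mul_apply, ← hpre, hu, pgWordPerm_apply hok]
    · intro p
      show pgEvalW L.own (pgInvW L.own.length (L.path z.1)) (pri p.1) = _
      rw [mul_inv_rev, Equiv.Perm.mul_apply, hpri p, ← pgWordPerm_apply hok, hinv]
    · rw [hW]
      group

/-- the first level in pieces: the steps for the points `lo, …, lo + cnt - 1` -/
def pgDirPiece (n : ℕ) (tgt : List (ℕ × ℕ) → ℕ → ℕ) (test : (ℕ → ℕ) → Bool)
    (L : PgLvlW) (C : List PgLvlW) (lo cnt : ℕ) : Bool :=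
  pgAll cnt (fun k => pgForce (Nat.add lo k) (fun z =>
    pgDirStep L (pgDir n tgt test C) (fun p => p) (fun p => p) [] z))

theorem pgDirPiece_spec {n : ℕ} {tgt : List (ℕ × ℕ) → ℕ → ℕ} {test : (ℕ → ℕ) → Bool}
    {L : PgLvlW} {C : List PgLvlW} {lo cnt : ℕ}
    (h : pgDirPiece n tgt test L C lo cnt = true) (z : ℕ) (h1 : lo ≤ z) (h2 : z < lo + cnt) :
    pgDirStep L (pgDir n tgt test C) (fun p => p) (fun p => p) [] z = true := by
  have := (pgAll_iff _ _).1 h (z - lo) (by omega)
  rw [pgForce_eq] at this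
  have e : Nat.add lo (z - lo) = z := by simp only [Nat.add_eq]; omega
  rw [e] at this
  exact this

theorem pgDir_of_pieces {n : ℕ} {tgt : List (ℕ × ℕ) → ℕ → ℕ} {test : (ℕ → ℕ) → Bool}
    {L : PgLvlW} {C : List PgLvlW} (h0 : Nat.blt (tgt [] L.b) n = false)
    (h : ∀ z < n, pgDirStep L (pgDir n tgt test C) (fun p => p) (fun p => p) [] z = true) :
    pgDir n tgt test (L :: C) (fun p => p) (fun p => p) [] = true := by
  rw [pgDir_cons, pgForce_eq, h0]
  simp only [cond_false]
  rw [pgAll_iff]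
  exact h

/-! ### Centralisers -/

/-- the target for the centraliser of `v`: if `b` is the image under `v` of a base point whose
image is known, the image of `b` is known -/
def pgCentTgt (n : ℕ) (vf : ℕ → ℕ) (imgs : List (ℕ × ℕ)) (b : ℕ) : ℕ :=
  @List.rec (ℕ × ℕ) (fun _ => ℕ) n (fun q _ ih => cond (Nat.beq (vf q.1) b) (vf q.2) ih) imgs

theorem pgCentTgt_nil (n : ℕ) (vf : ℕ → ℕ) (b : ℕ) : pgCentTgt n vf [] b = n := rfl

theorem pgCentTgt_cons (n : ℕ) (vf : ℕ → ℕ) (q : ℕ × ℕ) (l : List (ℕ × ℕ)) (b : ℕ) :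
    pgCentTgt n vf (q :: l) b = cond (Nat.beq (vf q.1) b) (vf q.2) (pgCentTgt n vf l b) := rfl

theorem pgCentTgt_sound {n : ℕ} {vf : ℕ → ℕ} {v h : Equiv.Perm (Fin n)} (hv : PgRep vf v)
    (hc : ∀ p : Fin n, h (v p) = v (h p)) :
    ∀ (l : List (ℕ × ℕ)) (b : ℕ),
      (∀ q ∈ l, ∃ hq : q.1 < n, (h ⟨q.1, hq⟩).1 = q.2) → ∀ hb : b < n,
        pgCentTgt n vf l b < n → pgCentTgt n vf l b = (h ⟨b, hb⟩).1 := by
  intro l
  induction l with
  | nil =>
    intro b _ _ ht
    rw [pgCentTgt_nil] at ht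
    exact absurd ht (lt_irrefl n)
  | cons q l ih =>
    intro b hl hb ht
    rw [pgCentTgt_cons] at ht ⊢
    rcases Bool.eq_false_or_eq_true (Nat.beq (vf q.1) b) with hq | hq
    · rw [hq]
      simp only [cond_true]
      rw [Nat.beq_eq] at hq
      obtain ⟨hq1, e1⟩ := hl q List.mem_cons_self
      have e2 : v ⟨q.1, hq1⟩ = ⟨b, hb⟩ := by
        apply Fin.ext
        rw [← hv]
        exact hq
      rw [← e2, hc, ← hv, e1]
    · rw [hq] at ht ⊢
      simp only [cond_false] at ht ⊢
      exact ih b (fun q' hq' => hl q' (List.mem_cons_of_mem q hq')) hb ht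

/-- the elements commuting with `v` satisfy the test -/
theorem pgCentD_gen {n : ℕ} {C : List PgLvlW} (hval : PgValidW n C)
    (vf : ℕ → ℕ) (test : (ℕ → ℕ) → Bool) (v : Equiv.Perm (Fin n)) (hv : PgRep vf v)
    (hen : pgDir n (pgCentTgt n vf)
      (fun f => cond (pgAll n (fun p => Nat.beq (f (vf p)) (vf (f p)))) (test f) true)
      C (fun p => p) (fun p => p) [] = true) :
    ∀ h ∈ pgGrpW n C, h * v = v * h → ∃ f : ℕ → ℕ, PgRep f h ∧ test f = true := by
  intro h hh hcomm
  have hc : ∀ p : Fin n, h (v p) = v (h p) := by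
    intro p
    rw [← Equiv.Perm.mul_apply, ← Equiv.Perm.mul_apply, hcomm]
  obtain ⟨f, hf, ht⟩ := pgDir_sound (pgCentTgt n vf) _ h (pgCentTgt_sound hv hc) C hval
    (fun p => p) (fun p => p) 1 [] (fun _ => rfl) (fun _ => by simp)
    (fun _ hq => absurd hq List.not_mem_nil) hen h hh (one_mul h).symm
  refine ⟨f, hf, ?_⟩
  have hcm : pgAll n (fun p => Nat.beq (f (vf p)) (vf (f p))) = true := by
    rw [pgAll_iff]
    intro p hp
    rw [Nat.beq_eq]
    have e1 : vf p = (v ⟨p, hp⟩).1 := hv ⟨p, hp⟩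
    have e2 : f p = (h ⟨p, hp⟩).1 := hf ⟨p, hp⟩
    rw [e1, e2, hf, hv, hc]
  simp only [hcm, cond_true] at ht
  exact ht

/-- the elements commuting with `v` have one of the listed exponents -/
theorem pgCentD_main {n w : ℕ} (hw : n ≤ 2 ^ w) {C : List PgLvlW} (hval : PgValidW n C)
    (vf : ℕ → ℕ) (Ks : List ℕ) (v : Equiv.Perm (Fin n)) (hv : PgRep vf v)
    (hen : pgDir n (pgCentTgt n vf) (pgCentTest n w vf Ks) C (fun p => p) (fun p => p) [] = true) :
    ∀ h ∈ pgGrpW n C, h * v = v * h → ∃ K ∈ Ks, h ^ K = 1 := by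
  intro h hh hcomm
  obtain ⟨f, hf, ht⟩ := pgCentD_gen hval vf (pgExpTest n w Ks) v hv hen h hh hcomm
  exact pgExpTest_sound hw hf ht

/-- a cheaper test at the leaves: the commutation is tested at four points first; if it holds
there the function is stored as a table, and the other tests use the table -/
def pgCentTestQ (n w : ℕ) (vf : ℕ → ℕ) (Ks : List ℕ) (f : ℕ → ℕ) : Bool :=
  cond (pgAll 4 (fun p => cond (Nat.blt p n) (Nat.beq (f (vf p)) (vf (f p))) true))
    (pgForce (pgMk w n f) (fun T =>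
      cond (pgAll n (fun p => Nat.beq (pgLk w T (vf p)) (vf (pgLk w T p))))
        (pgAnyL Ks (fun K => pgAll n (fun p => Nat.beq (pgIter (pgLk w T) K p) p))) true))
    true

/-- the elements commuting with `v` have one of the listed exponents, with the cheaper test -/
theorem pgCentDQ_main {n w : ℕ} (hw : n ≤ 2 ^ w) {C : List PgLvlW} (hval : PgValidW n C)
    (vf : ℕ → ℕ) (Ks : List ℕ) (v : Equiv.Perm (Fin n)) (hv : PgRep vf v)
    (hen : pgDir n (pgCentTgt n vf) (pgCentTestQ n w vf Ks) C (fun p => p) (fun p => p) [] =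
      true) :
    ∀ h ∈ pgGrpW n C, h * v = v * h → ∃ K ∈ Ks, h ^ K = 1 := by
  intro h hh hcomm
  have hc : ∀ p : Fin n, h (v p) = v (h p) := by
    intro p
    rw [← Equiv.Perm.mul_apply, ← Equiv.Perm.mul_apply, hcomm]
  obtain ⟨f, hf, ht⟩ := pgDir_sound (pgCentTgt n vf) _ h (pgCentTgt_sound hv hc) C hval
    (fun p => p) (fun p => p) 1 [] (fun _ => rfl) (fun _ => by simp)
    (fun _ hq => absurd hq List.not_mem_nil) hen h hh (one_mul h).symm
  have hcm : ∀ p < n, f (vf p) = vf (f p) := by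
    intro p hp
    have e1 : vf p = (v ⟨p, hp⟩).1 := hv ⟨p, hp⟩
    have e2 : f p = (h ⟨p, hp⟩).1 := hf ⟨p, hp⟩
    rw [e1, e2, hf, hv, hc]
  have hq : pgAll 4 (fun p => cond (Nat.blt p n) (Nat.beq (f (vf p)) (vf (f p))) true) = true := by
    rw [pgAll_iff]
    intro p _
    rcases Bool.eq_false_or_eq_true (Nat.blt p n) with hp | hp
    · rw [hp]
      simp only [cond_true]
      rw [Nat.beq_eq]
      exact hcm p (by simpa using hp)
    · rw [hp]
      rfl
  have hlk : ∀ p : Fin n, pgLk w (pgMk w n f) p.1 = (h p).1 := by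
    intro p
    rw [pgMk_lk w n f ?_ p.1 p.2, hf]
    intro k hk
    rw [hf ⟨k, hk⟩]
    exact lt_of_lt_of_le (h ⟨k, hk⟩).2 hw
  have hcT : pgAll n (fun p => Nat.beq (pgLk w (pgMk w n f) (vf p))
      (vf (pgLk w (pgMk w n f) p))) = true := by
    rw [pgAll_iff]
    intro p hp
    rw [Nat.beq_eq]
    have e1 : vf p = (v ⟨p, hp⟩).1 := hv ⟨p, hp⟩
    rw [e1, hlk, hlk ⟨p, hp⟩, hv, hc]
  unfold pgCentTestQ at ht
  rw [hq] at ht
  simp only [cond_true, pgForce_eq] at ht
  rw [hcT] at ht
  simp only [cond_true] at ht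
  obtain ⟨K, hK, hK2⟩ := (pgAnyL_iff _ _).1 ht
  refine ⟨K, hK, ?_⟩
  ext p
  have := (pgAll_iff _ _).1 hK2 p.1 p.2
  rw [Nat.beq_eq, pgIter_perm h _ hlk] at this
  exact this

end Cfsg.Agent.Lib.Helper26
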