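import Cfsg.Agent.Lib.Helper26.FrattiniDec2
import Cfsg.Agent.Lib.Helper26.DirFactor4

set_option autoImplicit false

namespace Cfsg.Agent.Lib.Helper26

open Cfsg Cfsg.FusionSystem

variable {Ω : Type*} [Group Ω] {S : Subgroup Ω}

/-- image of a subgroup under an automorphism of `S` -/
abbrev autMap (α : MulAut S) (P : Subgroup Ω) : Subgroup Ω :=
  (P.subgroupOf S).map (S.subtype.comp α.toMonoidHom)

theorem autMap_le (α : MulAut S) (P : Subgroup Ω) : autMap α P ≤ S := by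
  rintro _ ⟨y, _, rfl⟩
  exact (α y).2

theorem mem_autMap {α : MulAut S} {P : Subgroup Ω} (hPS : P ≤ S) {y : Ω} :
    y ∈ autMap α P ↔ ∃ x : P, ((α ⟨x, hPS x.2⟩ : S) : Ω) = y := by
  constructor
  · rintro ⟨x, hx, rfl⟩
    exact ⟨⟨x, Subgroup.mem_subgroupOf.mp hx⟩, rfl⟩
  · rintro ⟨x, rfl⟩
    exact mem_map_aut hPS α x

theorem autMap_one {P : Subgroup Ω} (hPS : P ≤ S) : autMap (1 : MulAut S) P = P := by
  ext y
  rw [mem_autMap hPS]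
  constructor
  · rintro ⟨x, rfl⟩
    exact x.2
  · intro hy
    exact ⟨⟨y, hy⟩, rfl⟩

theorem autMap_mul (β α : MulAut S) {P : Subgroup Ω} (hPS : P ≤ S) :
    autMap (β * α) P = autMap β (autMap α P) := by
  ext y
  rw [mem_autMap hPS, mem_autMap (autMap_le α P)]
  constructor
  · rintro ⟨x, rfl⟩
    exact ⟨⟨_, mem_map_aut hPS α x⟩, rfl⟩
  · rintro ⟨⟨z, hz⟩, rfl⟩
    obtain ⟨x, rfl⟩ := (mem_autMap hPS).mp hz
    exact ⟨x, rfl⟩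

/-- the `α`-conjugate of `φ` is a map of `E` -/
def ConjIn (E : FusionSystem S) (α : MulAut S) (P : Subgroup Ω) (φ : P →* Ω) : Prop :=
  ∃ (hPS : P ≤ S) (hφS : ∀ x : P, φ x ∈ S), ∃ χ ∈ E.Hom (autMap α P),
    ∀ (x : P) (hαx : ((α ⟨x, hPS x.2⟩ : S) : Ω) ∈ autMap α P),
      χ ⟨(α ⟨x, hPS x.2⟩ : S), hαx⟩ = ((α ⟨φ x, hφS x⟩ : S) : Ω)

/-- the maps of `F` all of whose `Aut_F(S)`-conjugates lie in `E` -/
def invPred (F E : FusionSystem S) : GoodPred F where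
  Good P φ := ∀ α ∈ F.autGroup S, ConjIn E α P φ
  conj := by
    intro P g hPS hg α _
    have hφS : ∀ x : P, conjHom P g x ∈ S := fun x =>
      S.mul_mem (S.mul_mem hg (hPS x.2)) (S.inv_mem hg)
    refine ⟨hPS, hφS, conjHom (autMap α P) ((α ⟨g, hg⟩ : S) : Ω),
      E.conj_mem (autMap_le α P) (α ⟨g, hg⟩).2, fun x hαx => ?_⟩
    have e : (⟨conjHom P g x, hφS x⟩ : S) = ⟨g, hg⟩ * ⟨x, hPS x.2⟩ * ⟨g, hg⟩⁻¹ := Subtype.ext rfl
    rw [e, map_mul, map_mul, map_inv]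
    rfl
  comp := by
    intro P Q φ ψ _ _ hgφ hgψ h α hα
    obtain ⟨hPS, hφS, χ₁, hχ₁, e₁⟩ := hgφ α hα
    obtain ⟨hQS, hψS, χ₂, hχ₂, e₂⟩ := hgψ α hα
    have h' : ∀ y : ↥(autMap α P), χ₁ y ∈ autMap α Q := by
      intro y
      obtain ⟨x, hx⟩ := (mem_autMap hPS).mp y.2
      have hy : y = ⟨((α ⟨x, hPS x.2⟩ : S) : Ω), mem_map_aut hPS α x⟩ := Subtype.ext hx.symm
      rw [hy, e₁ x _]
      exact mem_map_aut hQS α ⟨φ x, h x⟩
    refine ⟨hPS, fun x => hψS _, χ₂.comp (χ₁.codRestrict _ h'), E.comp_mem hχ₁ hχ₂ h',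
      fun x hαx => ?_⟩
    have e3 : χ₂ ⟨χ₁ ⟨((α ⟨x, hPS x.2⟩ : S) : Ω), hαx⟩, h' _⟩ =
        χ₂ ⟨((α ⟨φ x, hφS x⟩ : S) : Ω), mem_map_aut hQS α ⟨φ x, h x⟩⟩ :=
      hom_congr_val χ₂ _ _ (e₁ x hαx)
    exact e3.trans (e₂ ⟨φ x, h x⟩ _)
  inv := by
    intro P φ hφ hgφ ψ hψ hψx α hα
    obtain ⟨hPS, hφS, χ, hχ, e⟩ := hgφ α hα
    have hrS : φ.range ≤ S := range_le F hφ
    have hrange : χ.range = autMap α φ.range := by
      ext z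
      rw [mem_autMap hrS]
      constructor
      · rintro ⟨y, rfl⟩
        obtain ⟨x, hx⟩ := (mem_autMap hPS).mp y.2
        have hy : y = ⟨((α ⟨x, hPS x.2⟩ : S) : Ω), mem_map_aut hPS α x⟩ := Subtype.ext hx.symm
        rw [hy, e x _]
        exact ⟨⟨φ x, ⟨x, rfl⟩⟩, rfl⟩
      · rintro ⟨⟨_, x, rfl⟩, rfl⟩
        exact ⟨⟨_, mem_map_aut hPS α x⟩, e x _⟩
    obtain ⟨χ', hχ', -, hχ'1, -⟩ := exists_inv E hχ hrange
    refine ⟨hrS, fun y => apply_mem F hψ y, χ', hχ', ?_⟩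
    rintro ⟨_, x, rfl⟩ hαy
    have h1 := hχ'1 ⟨_, mem_map_aut hPS α x⟩ (by rw [e x _]; exact hαy)
    have h2 : χ' ⟨((α ⟨φ x, hrS ⟨x, rfl⟩⟩ : S) : Ω), hαy⟩ =
        χ' ⟨χ ⟨((α ⟨x, hPS x.2⟩ : S) : Ω), mem_map_aut hPS α x⟩,
          by rw [e x _]; exact hαy⟩ := hom_congr_val χ' _ _ (e x _).symm
    rw [h2, h1]
    have h3 : (⟨ψ ⟨φ x, ⟨x, rfl⟩⟩, apply_mem F hψ _⟩ : S) = ⟨x, hPS x.2⟩ := Subtype.ext (hψx x)
    rw [h3]

/-- the largest `Aut_F(S)`-invariant subsystem of `F` inside `E` -/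
def invSystem (F E : FusionSystem S) : FusionSystem S := (invPred F E).system

theorem invSystem_le (F E : FusionSystem S) : invSystem F E ≤ F := (invPred F E).system_le

theorem invSystem_le' (F E : FusionSystem S) : invSystem F E ≤ E := by
  intro P φ hφ
  obtain ⟨hPS, hφS, χ, hχ, e⟩ := hφ.2 1 (Subgroup.one_mem _)
  obtain ⟨χ', hχ', e'⟩ := hom_cast_eq E (autMap_one hPS) hχ
  refine mem_of_forall_eq E hχ' (fun x => ?_)
  have h1 := e' x (by rw [autMap_one hPS]; exact x.2) x.2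
  have h2 := e x (by rw [autMap_one hPS]; exact x.2)
  exact (h1.trans h2).symm

theorem invSystem_invCond (F E : FusionSystem S) : InvCond F (invSystem F E) := by
  intro P hPS φ hφ α hα
  obtain ⟨χ, hχ, hχe⟩ := hom_conj_aut F le_rfl hPS hφ.1 (fun x => apply_mem F hφ.1 x) hα
  refine ⟨χ, ⟨hχ, fun β hβ => ?_⟩, hχe⟩
  obtain ⟨_, hφS, χ₂, hχ₂, e₂⟩ := hφ.2 (β * α) (Subgroup.mul_mem _ hβ hα)
  obtain ⟨χ₃, hχ₃, e₃⟩ := hom_cast_eq E (autMap_mul β α hPS) hχ₂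
  refine ⟨autMap_le α P, fun y => apply_mem F hχ y, χ₃, hχ₃, ?_⟩
  intro y hβy
  obtain ⟨x, hx⟩ := (mem_autMap hPS).mp y.2
  have hy : y = ⟨((α ⟨x, hPS x.2⟩ : S) : Ω), mem_map_aut hPS α x⟩ := Subtype.ext hx.symm
  subst hy
  have h1 := e₃ _ (by rw [autMap_mul β α hPS]; exact hβy) hβy
  have h2 := e₂ x (by rw [autMap_mul β α hPS]; exact hβy)
  have h3 := hχe x (hφS x) (mem_map_aut hPS α x)
  rw [h1]
  refine h2.trans ?_
  rw [MulAut.mul_apply]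
  congr 2
  exact Subtype.ext h3.symm

end Cfsg.Agent.Lib.Helper26
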