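import Cfsg.Agent.Lib.Helper26.PrimeIdx1

set_option autoImplicit false

namespace Cfsg.Agent.Lib.Helper26

open Cfsg Cfsg.FusionSystem

variable {Ω : Type*} [Group Ω] {S : Subgroup Ω}

/-- the `p`-elements of `Aut_F(P)` -/
def ppSet (F : FusionSystem S) (p : ℕ) (P : Subgroup Ω) : Set (MulAut P) :=
  {a | a ∈ F.autGroup P ∧ ∃ k : ℕ, orderOf a = p ^ k}

theorem ppGen_eq (F : FusionSystem S) (p : ℕ) (P : Subgroup Ω) :
    (Subgroup.closure {α : F.autGroup P | ∃ k : ℕ, orderOf α = p ^ k}).map (F.autGroup P).subtype =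
      Subgroup.closure (ppSet F p P) := by
  rw [MonoidHom.map_closure]
  congr 1
  ext a
  constructor
  · rintro ⟨α, ⟨k, hk⟩, rfl⟩
    exact ⟨α.2, k, by rw [← hk]; exact Subgroup.orderOf_coe α⟩
  · rintro ⟨ha, k, hk⟩
    exact ⟨⟨a, ha⟩, ⟨k, by rw [← hk]; exact (Subgroup.orderOf_coe (⟨a, ha⟩ : F.autGroup P)).symm⟩, rfl⟩

theorem closure_ppSet_le (F : FusionSystem S) (p : ℕ) (P : Subgroup Ω) :
    Subgroup.closure (ppSet F p P) ≤ F.autGroup P :=
  (Subgroup.closure_le _).mpr (fun _ ha => ha.1)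

theorem congr_mem_closure_ppSet {F : FusionSystem S} {p : ℕ} {P P' : Subgroup Ω} {e : P ≃* P'}
    (he : IsIso F e) {a : MulAut P} (ha : a ∈ Subgroup.closure (ppSet F p P)) :
    MulAut.congr e a ∈ Subgroup.closure (ppSet F p P') := by
  have hle : Subgroup.closure (ppSet F p P) ≤
      (Subgroup.closure (ppSet F p P')).comap (MulAut.congr e).toMonoidHom := by
    rw [Subgroup.closure_le]
    rintro b ⟨hb, k, hk⟩
    apply Subgroup.subset_closure
    exact ⟨congr_mem_autGroup he hb, k, by rw [← hk]; exact (MulAut.congr e).orderOf_eq b⟩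
  exact hle ha

theorem exists_iso_autMap (F : FusionSystem S) {β : MulAut S} (hβ : β ∈ F.autGroup S)
    {P : Subgroup Ω} (hPS : P ≤ S) :
    ∃ e : P ≃* autMap β P, IsIso F e ∧
      ∀ x : P, ((e x : autMap β P) : Ω) = ((β ⟨x, hPS x.2⟩ : S) : Ω) := by
  have hφ : (S.subtype.comp β.toMonoidHom).comp (Subgroup.inclusion hPS) ∈ F.Hom P :=
    restrict_mem F ((mem_autGroup_iff F le_rfl).mp hβ) hPS
  have hr : ((S.subtype.comp β.toMonoidHom).comp (Subgroup.inclusion hPS)).range = autMap β P := by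
    ext y
    rw [mem_autMap hPS]
    constructor
    · rintro ⟨x, rfl⟩
      exact ⟨x, rfl⟩
    · rintro ⟨x, rfl⟩
      exact ⟨x, rfl⟩
  obtain ⟨e, he, hex⟩ := exists_iso_of_hom F hφ hr
  exact ⟨e, he, fun x => hex x⟩

theorem isCentric_of_isConj (F : FusionSystem S) {P Q : Subgroup Ω} (hP : F.IsCentric P)
    (h : F.IsConj P Q) : F.IsCentric Q :=
  ⟨isConj_le_right F h, fun R hR => hP.2 R (isConj_trans F h hR)⟩

theorem ppGen_le_invSystem (F E : FusionSystem S) (p : ℕ)
    (h : ∀ P : Subgroup Ω, F.IsCentric P → Subgroup.closure (ppSet F p P) ≤ E.autGroup P)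
    {P : Subgroup Ω} (hP : F.IsCentric P) :
    Subgroup.closure (ppSet F p P) ≤ (invSystem F E).autGroup P := by
  have hPS : P ≤ S := hP.1
  intro a ha
  rw [mem_autGroup_iff _ hPS]
  refine ⟨(mem_autGroup_iff F hPS).mp (closure_ppSet_le F p P ha), fun β hβ => ?_⟩
  obtain ⟨e, he, hex⟩ := exists_iso_autMap F hβ hPS
  have ha' : MulAut.congr e a ∈ E.autGroup (autMap β P) :=
    h _ (isCentric_of_isConj F hP he.isConj) (congr_mem_closure_ppSet he ha)
  rw [mem_autGroup_iff E (autMap_le β P)] at ha'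
  refine ⟨hPS, fun x => hPS (a x).2, _, ha', fun x hαx => ?_⟩
  have h1 : e.symm ⟨((β ⟨x, hPS x.2⟩ : S) : Ω), hαx⟩ = x := by
    rw [MulEquiv.symm_apply_eq]
    exact Subtype.ext (hex x).symm
  change ((e (a (e.symm ⟨((β ⟨x, hPS x.2⟩ : S) : Ω), hαx⟩)) : autMap β P) : Ω) = _
  rw [h1, hex]
  rfl

theorem exists_orderOf_conjAut {p : ℕ} [Fact p.Prime] (hS : IsPGroup p S) {P : Subgroup Ω}
    {g : Ω} (hgS : g ∈ S) (hg : g ∈ Subgroup.normalizer (P : Set Ω)) :
    ∃ k : ℕ, orderOf (conjAut P g hg) = p ^ k := by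
  obtain ⟨k, hk⟩ := hS ⟨g, hgS⟩
  have hgk : g ^ (p ^ k) = 1 := by
    have := congrArg Subtype.val hk
    simpa using this
  have hpow : ∀ (n : ℕ) (x : P), ((((conjAut P g hg) ^ n) x : P) : Ω) = g ^ n * x * (g ^ n)⁻¹ := by
    intro n
    induction n with
    | zero => intro x; simp
    | succ n ih =>
      intro x
      rw [pow_succ, MulAut.mul_apply, ih, conjAut_apply, pow_succ]
      group
  have h1 : (conjAut P g hg) ^ (p ^ k) = 1 := by
    ext x
    rw [hpow, hgk]
    simp
  obtain ⟨j, -, hj⟩ := (Nat.dvd_prime_pow Fact.out).mp (orderOf_dvd_of_pow_eq_one h1)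
  exact ⟨j, hj⟩

/-- Every map of `F` decomposes as an automorphism of `S` after a map of the invariant part
of `E`, as soon as `E` contains the `p`-elements of the automizers of centric subgroups. -/
theorem decAll_of_centric_ppGen [Finite S] {p : ℕ} [Fact p.Prime] (hS : IsPGroup p S)
    (F : FusionSystem S) (hF : F.IsSaturated p) (E : FusionSystem S)
    (h : ∀ P : Subgroup Ω, F.IsCentric P → Subgroup.closure (ppSet F p P) ≤ E.autGroup P)
    {P : Subgroup Ω} {φ : P →* Ω} (hφ : φ ∈ F.Hom P) : DecAll F (invSystem F E) P φ := by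
  have hInv := invSystem_invCond F E
  have hT := top_stronglyClosed F
  refine (decPred F (invSystem F E) hT hInv).forall_good hS hF ?_ ?_ hφ
  · intro α hα P₀ h₀ hP₀T
    exact ⟨α, hα, P₀.subtype, subtype_mem _ hP₀T, fun x hx => rfl⟩
  · intro P hPn hne ih
    have hPS : P ≤ S := hPn.1
    have hfinP : Finite P := finite_of_le hPS
    by_cases hc : F.IsCentric P
    · refine autGroup_le_of_frattini hS F hF _ hPn ih (Subgroup.closure (ppSet F p P))
        (closure_ppSet_le F p P) ?_ ?_ ?_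
      · apply le_normalizer_closure_of_forall_conj_mem
        rintro b hb a ⟨ha, k, hk⟩
        refine ⟨Subgroup.mul_mem _ (Subgroup.mul_mem _ hb ha) (Subgroup.inv_mem _ hb), k, ?_⟩
        rw [← hk]
        exact (MulAut.conj b).orderOf_eq a
      · intro a ha
        have ha₁ := ppGen_le_invSystem F E p h hc ha
        rw [mem_autGroup_iff _ hPS] at ha₁
        show a ∈ (decPred F (invSystem F E) hT hInv).system.autGroup P
        rw [mem_autGroup_iff _ hPS]
        refine ⟨ha₁.1, fun P₀ h₀ hP₀T => ?_⟩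
        exact dec_congr (fun x => rfl) (dec_of_mem (restrict_mem (invSystem F E) ha₁ h₀))
      · obtain ⟨g, hgN, hgP⟩ := SetLike.exists_of_lt (lt_normalizerIn hS hPS hne)
        refine ⟨g, hgN.1, hgP, hgN.2, Subgroup.subset_closure ⟨?_, ?_⟩⟩
        · exact autInducedBy_le_autGroup F hPS (conjAut_mem_autInducedBy hgN.1 hgN.2)
        · exact exists_orderOf_conjAut hS hgN.1 hgN.2
    · intro α hα
      obtain ⟨hfc, -, hrec⟩ := saturated_fullyNormalized hS F hF hPn
      obtain ⟨Q, hPQ, ψ, hψ, hψe⟩ := autGroup_subset_extGen_of_not_centric F hfc hrec hc hα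
      have hQS : Q ≤ S := source_le F hψ
      have hfinQ : Finite Q := finite_of_le hQS
      have hmem := ih Q hQS (card_lt_card_of_lt hPQ) hψ
      rw [mem_autGroup_iff _ hPS]
      exact mem_of_forall_eq _ (restrict_mem _ hmem hPQ.le) (fun x => (hψe x).symm)

end Cfsg.Agent.Lib.Helper26
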