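import Cfsg.Agent.Lib.Helper26.PrimeIdx2

set_option autoImplicit false

namespace Cfsg.Agent.Lib.Helper26

open Cfsg Cfsg.FusionSystem

variable {Ω : Type*} [Group Ω] {S : Subgroup Ω}

/-- Transport of an automorphism in an invariant subsystem along an isomorphism of `F` that
decomposes as an automorphism of `S` after a map of the subsystem. -/
theorem congr_mem_autGroup_of_dec {F E₁ : FusionSystem S} (hInv : InvCond F E₁)
    {Q P : Subgroup Ω} (hPS : P ≤ S) (f : Q ≃* P) (hdec : Dec F E₁ Q (P.subtype.comp f.toMonoidHom))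
    {c : MulAut Q} (hc : c ∈ E₁.autGroup Q) : MulAut.congr f c ∈ E₁.autGroup P := by
  obtain ⟨α, hα, ψ₀, hψ₀, hψe⟩ := hdec
  have hQS : Q ≤ S := (E₁.le_of_mem hψ₀).1
  have hψ₀S : ∀ y, ψ₀ y ∈ S := (E₁.le_of_mem hψ₀).2
  have hRS : ψ₀.range ≤ S := range_le E₁ hψ₀
  obtain ⟨ι, hι, -, hι1, -⟩ := exists_inv E₁ hψ₀ rfl
  have hιQ : ∀ z : ψ₀.range, ι z ∈ Q := by
    rintro ⟨_, y, rfl⟩
    exact (hι1 y ⟨y, rfl⟩).symm ▸ y.2
  have hcE : Q.subtype.comp c.toMonoidHom ∈ E₁.Hom Q := (mem_autGroup_iff E₁ hQS).mp hc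
  have h1 := E₁.comp_mem hι hcE hιQ
  have hv : ∀ z : ψ₀.range, ((Q.subtype.comp c.toMonoidHom).comp (ι.codRestrict Q hιQ)) z ∈ Q :=
    fun z => (c _).2
  have h2 := E₁.comp_mem h1 hψ₀ hv
  have hφR : ∀ y : Q, (ψ₀.comp (((Q.subtype.comp c.toMonoidHom).comp
      (ι.codRestrict Q hιQ)).codRestrict Q hv)) ⟨ψ₀ y, ⟨y, rfl⟩⟩ = ψ₀ (c y) := by
    intro y
    have e1 : (ι.codRestrict Q hιQ) ⟨ψ₀ y, ⟨y, rfl⟩⟩ = y := Subtype.ext (hι1 y _)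
    have e2 : ((c ((ι.codRestrict Q hιQ) ⟨ψ₀ y, ⟨y, rfl⟩⟩) : Q) : Ω) = ((c y : Q) : Ω) := by
      rw [e1]
    change ψ₀ ⟨((c ((ι.codRestrict Q hιQ) ⟨ψ₀ y, ⟨y, rfl⟩⟩) : Q) : Ω), _⟩ = _
    exact hom_congr_val ψ₀ _ _ e2
  obtain ⟨χ, hχ, hχe⟩ := hInv ψ₀.range hRS _ h2 α hα
  have hEq : autMap α ψ₀.range = P := by
    ext x
    rw [mem_autMap hRS]
    constructor
    · rintro ⟨⟨_, y, rfl⟩, rfl⟩
      rw [← hψe y (hψ₀S y)]
      exact (f y).2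
    · intro hx
      refine ⟨⟨ψ₀ (f.symm ⟨x, hx⟩), ⟨_, rfl⟩⟩, ?_⟩
      rw [← hψe (f.symm ⟨x, hx⟩) (hψ₀S _)]
      simp
  obtain ⟨χ', hχ', hχ'e⟩ := hom_cast_eq E₁ hEq hχ
  rw [mem_autGroup_iff E₁ hPS]
  refine mem_of_forall_eq E₁ hχ' (fun x => ?_)
  obtain ⟨y, rfl⟩ := f.surjective x
  have hmem : ((α ⟨ψ₀ y, hψ₀S y⟩ : S) : Ω) ∈ autMap α ψ₀.range :=
    mem_map_aut hRS α ⟨ψ₀ y, ⟨y, rfl⟩⟩
  have e0 : ((f y : P) : Ω) = ((α ⟨ψ₀ y, hψ₀S y⟩ : S) : Ω) := hψe y (hψ₀S y)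
  have e1 : χ' (f y) = χ ⟨((α ⟨ψ₀ y, hψ₀S y⟩ : S) : Ω), hmem⟩ :=
    (hχ'e ((f y : P) : Ω) (by rw [e0]; exact hmem) (f y).2).trans (hom_congr_val χ _ _ e0)
  have e2 := hχe ⟨ψ₀ y, ⟨y, rfl⟩⟩ (hψ₀S _) hmem
  have e3 : ((α ⟨(ψ₀.comp (((Q.subtype.comp c.toMonoidHom).comp
      (ι.codRestrict Q hιQ)).codRestrict Q hv)) ⟨ψ₀ y, ⟨y, rfl⟩⟩, hψ₀S _⟩ : S) : Ω) =
      ((α ⟨ψ₀ (c y), hψ₀S _⟩ : S) : Ω) := by
    congr 2
    exact Subtype.ext (hφR y)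
  rw [e1, e2, e3, ← hψe (c y) (hψ₀S _)]
  change ((f (c (f.symm (f y))) : P) : Ω) = _
  rw [MulEquiv.symm_apply_apply]
  rfl

theorem congr_trans_aut {Q P : Subgroup Ω} (e : P ≃* Q) (γ : MulAut Q) (a : MulAut P) :
    MulAut.congr (e.trans γ) a = γ * MulAut.congr e a * γ⁻¹ := by
  ext y
  rfl

theorem congr_symm_congr {Q P : Subgroup Ω} (e : P ≃* Q) (a : MulAut P) :
    MulAut.congr e.symm (MulAut.congr e a) = a := by
  ext y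
  simp [MulAut.congr]

/-- `Aut_{E₁}(P)` contains all `p`-elements of `Aut_F(P)`, for every `P ≤ S`. -/
theorem closure_ppSet_le_invSystem [Finite S] {p : ℕ} [Fact p.Prime] (hS : IsPGroup p S)
    (F : FusionSystem S) (hF : F.IsSaturated p) (E : FusionSystem S)
    (h : ∀ P : Subgroup Ω, F.IsCentric P → Subgroup.closure (ppSet F p P) ≤ E.autGroup P)
    {P : Subgroup Ω} (hPS : P ≤ S) :
    Subgroup.closure (ppSet F p P) ≤ (invSystem F E).autGroup P := by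
  rw [Subgroup.closure_le]
  rintro a ⟨ha, k, hk⟩
  obtain ⟨Q, hPQ, hQn⟩ := exists_fullyNormalized_conj F hPS
  have hQS : Q ≤ S := hQn.1
  have hfinQ : Finite Q := finite_of_le hQS
  obtain ⟨e, he⟩ := exists_iso_of_isConj F hPQ
  obtain ⟨-, hfa, -⟩ := saturated_fullyNormalized hS F hF hQn
  have hsyl := isSylowIn18_of_fullyAutomized F hfa
  have hb : MulAut.congr e a ∈ F.autGroup Q := congr_mem_autGroup he ha
  have hbk : (MulAut.congr e a) ^ (p ^ k) = 1 := by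
    rw [← map_pow, ← hk, pow_orderOf_eq_one, map_one]
  have hRp := isPGroup_zpowers_of_pow_eq_one hbk
  have hR : Subgroup.zpowers (MulAut.congr e a) ≤ F.autGroup Q := by
    rw [Subgroup.zpowers_le]
    exact hb
  obtain ⟨γ, hγ, hle⟩ := hsyl.exists_conj_le hR hRp
  have hc : γ * MulAut.congr e a * γ⁻¹ ∈ autInducedBy S Q :=
    hle (Cfsg.Agent.Lib.Helper18.conj_mem_conjSub (Subgroup.mem_zpowers _))
  have he' : IsIso F (e.trans γ) := he.trans ((isIso_iff_mem_autGroup F hQS γ).mpr hγ)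
  have hc' : MulAut.congr (e.trans γ) a ∈ (invSystem F E).autGroup Q := by
    rw [congr_trans_aut]
    exact autInducedBy_le_autGroup _ hQS hc
  have hdec : Dec F (invSystem F E) Q (P.subtype.comp (e.trans γ).symm.toMonoidHom) := by
    have := decAll_of_centric_ppGen hS F hF E h he'.symm Q le_rfl hQS
    exact dec_congr (fun x => rfl) this
  have := congr_mem_autGroup_of_dec (invSystem_invCond F E) hPS (e.trans γ).symm hdec hc'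
  rwa [congr_symm_congr] at this

/-- Centric subgroups of `E` and of `F` coincide. -/
theorem isCentric_iff_of_dec {F E E₁ : FusionSystem S} (hEF : E.IsSubsystemOf F)
    (hE₁ : E₁ ≤ E)
    (hdec : ∀ (P : Subgroup Ω) (φ : P →* Ω), φ ∈ F.Hom P → Dec F E₁ P φ) (P : Subgroup Ω) :
    E.IsCentric P ↔ F.IsCentric P := by
  constructor
  · rintro ⟨hPS, hP⟩
    refine ⟨hPS, ?_⟩
    rintro Q ⟨φ, hφ, hr⟩
    obtain ⟨α, hα, φ₀, hφ₀, e⟩ := hdec P φ hφ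
    have hφ₀S : ∀ x, φ₀ x ∈ S := (E₁.le_of_mem hφ₀).2
    have hR := hP φ₀.range ⟨φ₀, hE₁ P hφ₀, rfl⟩
    rintro c ⟨hcS, hcC⟩
    have hc' : ((α⁻¹ ⟨c, hcS⟩ : S) : Ω) ∈ centralizerIn S φ₀.range := by
      refine ⟨(α⁻¹ ⟨c, hcS⟩).2, Subgroup.mem_centralizer_iff.mpr ?_⟩
      rintro _ ⟨x, rfl⟩
      have hφx : φ x ∈ Q := by rw [← hr]; exact ⟨x, rfl⟩
      have h1 : φ x * c = c * φ x := (Subgroup.mem_centralizer_iff.mp hcC) _ hφx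
      have h2 : α (⟨φ₀ x, hφ₀S x⟩ * α⁻¹ ⟨c, hcS⟩) = α (α⁻¹ ⟨c, hcS⟩ * ⟨φ₀ x, hφ₀S x⟩) := by
        rw [map_mul, map_mul, MulAut.apply_inv_self]
        apply Subtype.ext
        rw [Subgroup.coe_mul, Subgroup.coe_mul, ← e x (hφ₀S x)]
        exact h1
      have h3 := α.injective h2
      exact congrArg Subtype.val h3
    obtain ⟨x', hx'⟩ := hR hc'
    rw [← hr]
    refine ⟨x', ?_⟩
    rw [e x' (hφ₀S x')]
    have : (⟨φ₀ x', hφ₀S x'⟩ : S) = α⁻¹ ⟨c, hcS⟩ := Subtype.ext hx'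
    rw [this, MulAut.apply_inv_self]
  · rintro ⟨hPS, hP⟩
    refine ⟨hPS, ?_⟩
    rintro Q ⟨φ, hφ, hr⟩
    exact hP Q ⟨φ, hEF P hφ, hr⟩

end Cfsg.Agent.Lib.Helper26
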