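import Cfsg.Agent.Lib.Helper26.PrimeRes6

set_option autoImplicit false

namespace Cfsg.Agent.Lib.Helper26

open Cfsg Cfsg.FusionSystem

variable {Ω : Type*} [Group Ω] {S : Subgroup Ω}

/-- a centric subgroup is fully centralized -/
theorem fullyCentralized_of_centric [Finite S] (F : FusionSystem S) {P : Subgroup Ω}
    (hP : F.IsCentric P) : F.IsFullyCentralized P := by
  have hPS : P ≤ S := hP.1
  refine ⟨hPS, fun Q hPQ => ?_⟩
  have hQS : Q ≤ S := isConj_le_right F hPQ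
  obtain ⟨e, -⟩ := exists_iso_of_isConj F hPQ
  have h1 : Nat.card (centralizerIn S P) = Nat.card (Subgroup.center P) := by
    rw [centralizerIn_eq_map_center hPS (hP.2 P (isConj_refl F hPS))]
    exact Subgroup.card_map_of_injective P.subtype_injective
  have h2 : Nat.card (centralizerIn S Q) = Nat.card (Subgroup.center Q) := by
    rw [centralizerIn_eq_map_center hQS (hP.2 Q hPQ)]
    exact Subgroup.card_map_of_injective Q.subtype_injective
  have h3 : Nat.card (Subgroup.center P) = Nat.card (Subgroup.center Q) :=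
    Nat.card_congr (Subgroup.centerCongr e).toEquiv
  omega

/-- the restriction to `P ≤ S` of an automorphism of `S`, as a homomorphism into the ambient group -/
def autRes (γ : MulAut S) {P : Subgroup Ω} (hPS : P ≤ S) : P →* Ω :=
  (S.subtype.comp γ.toMonoidHom).comp (Subgroup.inclusion hPS)

theorem autRes_apply (γ : MulAut S) {P : Subgroup Ω} (hPS : P ≤ S) (x : P) :
    autRes γ hPS x = ((γ ⟨x, hPS x.2⟩ : S) : Ω) := rfl

theorem autRes_mem (F : FusionSystem S) {γ : MulAut S} (hγ : γ ∈ F.autGroup S) {P : Subgroup Ω}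
    (hPS : P ≤ S) : autRes γ hPS ∈ F.Hom P :=
  restrict_mem F ((mem_autGroup_iff F le_rfl).mp hγ) hPS

theorem autRes_range (γ : MulAut S) {P : Subgroup Ω} (hPS : P ≤ S) :
    (autRes γ hPS).range = imgA γ P := by
  ext y
  rw [mem_imgA]
  constructor
  · rintro ⟨x, rfl⟩
    exact ⟨⟨x, hPS x.2⟩, x.2, rfl⟩
  · rintro ⟨x, hx, rfl⟩
    exact ⟨⟨x, hx⟩, rfl⟩

/-- conjugation by `γ` preserves the system `F` -/
def NormalizesSys (γ : MulAut S) (F : FusionSystem S) : Prop :=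
  ∀ (P : Subgroup Ω) (hPS : P ≤ S) (φ : P →* Ω), φ ∈ F.Hom P →
    ∃ χ ∈ F.Hom ((P.subgroupOf S).map (S.subtype.comp γ.toMonoidHom)),
      ∀ (x : P) (hφx : φ x ∈ S)
        (hαx : ((γ ⟨x, hPS x.2⟩ : S) : Ω) ∈ (P.subgroupOf S).map (S.subtype.comp γ.toMonoidHom)),
        χ ⟨(γ ⟨x, hPS x.2⟩ : S), hαx⟩ = ((γ ⟨φ x, hφx⟩ : S) : Ω)

theorem pow_eq_of_coprime {G : Type*} [Group G] {p : ℕ} [Fact p.Prime] {ω : G} {k n : ℕ}
    (hk : ω ^ (p ^ k) = 1) (hn : ¬ p ∣ n) : ∃ m : ℕ, (ω ^ n) ^ m = ω := by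
  have hp : p.Prime := Fact.out
  have hcop : Nat.Coprime n (p ^ k) :=
    Nat.Coprime.pow_right k ((Nat.Prime.coprime_iff_not_dvd hp).mpr hn).symm
  by_cases h1 : p ^ k = 1
  · refine ⟨0, ?_⟩
    rw [h1, pow_one] at hk
    rw [hk, pow_zero]
  · have hlt : 1 < p ^ k := by
      have : 0 < p ^ k := Nat.pos_of_ne_zero (pow_ne_zero _ hp.ne_zero)
      omega
    obtain ⟨m, -, hm⟩ := Nat.exists_mul_mod_eq_one_of_coprime hcop hlt
    refine ⟨m, ?_⟩
    rw [← pow_mul]
    have e : n * m = p ^ k * (n * m / p ^ k) + 1 := by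
      have := Nat.div_add_mod (n * m) (p ^ k)
      rw [hm] at this
      exact this.symm
    rw [e, pow_succ, pow_mul, hk, one_pow, one_mul]

end Cfsg.Agent.Lib.Helper26
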