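import Cfsg.Agent.Lib.Helper26.PrimeNorm1

set_option autoImplicit false

namespace Cfsg.Agent.Lib.Helper26

open Cfsg Cfsg.FusionSystem

variable {Ω : Type*} [Group Ω] {S : Subgroup Ω}

/-- Step: if `γ` normalizes the saturated system `F`, some power of `γ` prime to `p` lies in `Aut_F(S)`, and
`γ` restricted to the centric subgroup `R` is a map of `F`, then so is `γ` restricted to `N_S(R)`. -/
theorem autRes_normalizer_mem [Finite S] {p : ℕ} [Fact p.Prime] (hS : IsPGroup p S)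
    (F : FusionSystem S) (hF : F.IsSaturated p) (γ : MulAut S) (hγ : NormalizesSys γ F)
    {n : ℕ} (hn : ¬ p ∣ n) (hγn : γ ^ n ∈ F.autGroup S) {R : Subgroup Ω} (hR : F.IsCentric R)
    (hres : autRes γ hR.1 ∈ F.Hom R) :
    autRes γ (inf_le_left : normalizerIn S R ≤ S) ∈ F.Hom (normalizerIn S R) := by
  have hRS : R ≤ S := hR.1
  have hNS : normalizerIn S R ≤ S := inf_le_left
  have hRN : R ≤ normalizerIn S R := le_normalizerIn_self hRS
  have hfinN : Finite ↥(normalizerIn S R) := finite_of_le hNS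
  have hQc : F.IsCentric (autRes γ hRS).range := isCentric_of_isConj F hR ⟨_, hres, rfl⟩
  have hQrec := saturated_fullyCentralized hS F hF (fullyCentralized_of_centric F hQc)
  obtain ⟨ψ, hψ, hψe⟩ := hQrec.2 R _ hres rfl
  have hNext : normalizerIn S R ≤ extender S R (autRes γ hRS) := by
    intro g hg
    refine mem_extender_iff.mpr ⟨hg.1, hg.2, ((γ ⟨g, hg.1⟩ : S) : Ω), (γ _).2, fun x => ?_⟩
    have e : (⟨g * (x : Ω) * g⁻¹, hRS (conj_mem_of_mem_normalizer hg.2 x)⟩ : S) =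
        ⟨g, hg.1⟩ * ⟨x, hRS x.2⟩ * (⟨g, hg.1⟩ : S)⁻¹ := Subtype.ext rfl
    show ((γ ⟨g * (x : Ω) * g⁻¹, _⟩ : S) : Ω) = _
    rw [e, map_mul, map_mul, map_inv]
    rfl
  have hχ' : ψ.comp (Subgroup.inclusion hNext) ∈ F.Hom (normalizerIn S R) := restrict_mem F hψ hNext
  have hχ'R : ∀ (x : Ω) (hx : x ∈ R), (ψ.comp (Subgroup.inclusion hNext)) ⟨x, hRN hx⟩ =
      ((γ ⟨x, hRS hx⟩ : S) : Ω) := fun x hx => hψe x hx (hNext (hRN hx))
  have hχ'S : ∀ y : ↥(normalizerIn S R), (ψ.comp (Subgroup.inclusion hNext)) y ∈ S :=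
    fun y => apply_mem F hχ' y
  have hχ'N : ∀ y : ↥(normalizerIn S R),
      (ψ.comp (Subgroup.inclusion hNext)) y ∈ imgA γ (normalizerIn S R) := by
    intro y
    have hγz : γ (γ⁻¹ ⟨(ψ.comp (Subgroup.inclusion hNext)) y, hχ'S y⟩) =
        ⟨(ψ.comp (Subgroup.inclusion hNext)) y, hχ'S y⟩ := MulAut.apply_inv_self _ _ _
    have key : ∀ (r : Ω) (hr : r ∈ R),
        ((γ⁻¹ ⟨(ψ.comp (Subgroup.inclusion hNext)) y, hχ'S y⟩ : S) : Ω) * r *
          ((γ⁻¹ ⟨(ψ.comp (Subgroup.inclusion hNext)) y, hχ'S y⟩ : S) : Ω)⁻¹ =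
        (y : Ω) * r * (y : Ω)⁻¹ := by
      intro r hr
      have hyr : (y : Ω) * r * (y : Ω)⁻¹ ∈ R := conj_mem_of_mem_normalizer y.2.2 ⟨r, hr⟩
      have h1 : γ (γ⁻¹ ⟨(ψ.comp (Subgroup.inclusion hNext)) y, hχ'S y⟩ * ⟨r, hRS hr⟩ *
          (γ⁻¹ ⟨(ψ.comp (Subgroup.inclusion hNext)) y, hχ'S y⟩)⁻¹) =
          γ ⟨(y : Ω) * r * (y : Ω)⁻¹, hRS hyr⟩ := by
        apply Subtype.ext
        rw [map_mul, map_mul, map_inv, hγz]
        show (ψ.comp (Subgroup.inclusion hNext)) y * ((γ ⟨r, hRS hr⟩ : S) : Ω) *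
          ((ψ.comp (Subgroup.inclusion hNext)) y)⁻¹ = _
        rw [← hχ'R r hr, ← hχ'R _ hyr, ← map_inv, ← map_mul, ← map_mul]
        rfl
      exact congrArg Subtype.val (γ.injective h1)
    refine mem_imgA.mpr ⟨γ⁻¹ ⟨(ψ.comp (Subgroup.inclusion hNext)) y, hχ'S y⟩, ⟨Subtype.property _, ?_⟩,
      by rw [hγz]⟩
    refine mem_normalizer_of_forall (fun r hr => ?_) (fun r hr => ?_)
    · rw [key r hr]
      exact conj_mem_of_mem_normalizer y.2.2 ⟨r, hr⟩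
    · have hr' : (y : Ω)⁻¹ * r * (y : Ω) ∈ R := conj_inv_mem_of_mem_normalizer y.2.2 ⟨r, hr⟩
      have h2 := key _ hr'
      have h3 : (y : Ω) * ((y : Ω)⁻¹ * r * (y : Ω)) * (y : Ω)⁻¹ = r := by group
      rw [h3] at h2
      have h4 : ((γ⁻¹ ⟨(ψ.comp (Subgroup.inclusion hNext)) y, hχ'S y⟩ : S) : Ω)⁻¹ * r *
          ((γ⁻¹ ⟨(ψ.comp (Subgroup.inclusion hNext)) y, hχ'S y⟩ : S) : Ω) =
          (y : Ω)⁻¹ * r * (y : Ω) := by
        calc ((γ⁻¹ ⟨(ψ.comp (Subgroup.inclusion hNext)) y, hχ'S y⟩ : S) : Ω)⁻¹ * r *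
              ((γ⁻¹ ⟨(ψ.comp (Subgroup.inclusion hNext)) y, hχ'S y⟩ : S) : Ω)
            = ((γ⁻¹ ⟨(ψ.comp (Subgroup.inclusion hNext)) y, hχ'S y⟩ : S) : Ω)⁻¹ *
              (((γ⁻¹ ⟨(ψ.comp (Subgroup.inclusion hNext)) y, hχ'S y⟩ : S) : Ω) *
                ((y : Ω)⁻¹ * r * (y : Ω)) *
                ((γ⁻¹ ⟨(ψ.comp (Subgroup.inclusion hNext)) y, hχ'S y⟩ : S) : Ω)⁻¹) *
              ((γ⁻¹ ⟨(ψ.comp (Subgroup.inclusion hNext)) y, hχ'S y⟩ : S) : Ω) := by rw [h2]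
          _ = (y : Ω)⁻¹ * r * (y : Ω) := by group
      rw [h4]
      exact hr'
  -- the automorphism `ω` of `N_S(R)` with `γ ∘ ω = χ'`
  have hω₀inj : Function.Injective ((eqA γ hNS).symm.toMonoidHom.comp
      ((ψ.comp (Subgroup.inclusion hNext)).codRestrict (imgA γ (normalizerIn S R)) hχ'N)) :=
    (eqA γ hNS).symm.injective.comp
      (fun a b hab => F.injective_of_mem hχ' (congrArg Subtype.val hab))
  have hω₀bij := Finite.injective_iff_bijective.mp hω₀inj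
  obtain ⟨ω, hωdef⟩ : ∃ ω : MulAut ↥(normalizerIn S R), ∀ y, ω y =
      (eqA γ hNS).symm ⟨(ψ.comp (Subgroup.inclusion hNext)) y, hχ'N y⟩ :=
    ⟨MulEquiv.ofBijective _ hω₀bij, fun y => rfl⟩
  have hω : ∀ y : ↥(normalizerIn S R), ((γ ⟨ω y, hNS (ω y).2⟩ : S) : Ω) =
      (ψ.comp (Subgroup.inclusion hNext)) y := by
    intro y
    have h1 : eqA γ hNS (ω y) = ⟨(ψ.comp (Subgroup.inclusion hNext)) y, hχ'N y⟩ := by
      rw [hωdef, MulEquiv.apply_symm_apply]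
    have h2 := congrArg Subtype.val h1
    rwa [eqA_apply] at h2
  have hωR : ∀ (x : ↥(normalizerIn S R)), (x : Ω) ∈ R → ω x = x := by
    intro x hx
    have h1 := hω x
    have h2 : (ψ.comp (Subgroup.inclusion hNext)) x = ((γ ⟨x, hNS x.2⟩ : S) : Ω) := hχ'R x hx
    rw [h2] at h1
    have h3 : (⟨ω x, hNS (ω x).2⟩ : S) = ⟨x, hNS x.2⟩ := γ.injective (Subtype.ext h1)
    have h4 : ((ω x : ↥(normalizerIn S R)) : Ω) = (x : Ω) := congrArg (fun s : S => (s : Ω)) h3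
    exact Subtype.ext h4
  -- `ω` has `p`-power order
  have hcen : centralizerIn S R ≤ R := hR.2 R (isConj_refl F hRS)
  have hpel : IsPElementOn p ω (normalizerIn S R) := by
    refine isPElementOn_step hS hRS ω ⟨0, fun x hx => ?_⟩ (fun x _ => ⟨(ω x).2, ?_⟩)
    · rw [pow_zero, pow_one]
      exact hωR x hx
    · apply hcen
      refine ⟨S.mul_mem (S.inv_mem (hNS x.2)) (hNS (ω x).2), ?_⟩
      intro r hr
      have hxr : (x : Ω) * r * (x : Ω)⁻¹ ∈ R := conj_mem_of_mem_normalizer x.2.2 ⟨r, hr⟩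
      have e1 := hωR (x * ⟨r, hRN hr⟩ * x⁻¹) hxr
      rw [map_mul, map_mul, map_inv, hωR ⟨r, hRN hr⟩ hr] at e1
      have e2 : ((ω x : ↥(normalizerIn S R)) : Ω) * r * ((ω x : ↥(normalizerIn S R)) : Ω)⁻¹ =
          (x : Ω) * r * (x : Ω)⁻¹ := congrArg Subtype.val e1
      calc r * ((x : Ω)⁻¹ * ((ω x : ↥(normalizerIn S R)) : Ω))
          = (x : Ω)⁻¹ * ((x : Ω) * r * (x : Ω)⁻¹) * ((ω x : ↥(normalizerIn S R)) : Ω) := by group
        _ = (x : Ω)⁻¹ * (((ω x : ↥(normalizerIn S R)) : Ω) * r *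
              ((ω x : ↥(normalizerIn S R)) : Ω)⁻¹) * ((ω x : ↥(normalizerIn S R)) : Ω) := by rw [e2]
        _ = (x : Ω)⁻¹ * ((ω x : ↥(normalizerIn S R)) : Ω) * r := by group
  obtain ⟨k, hk⟩ := hpel
  have hk' : ω ^ (p ^ k) = 1 := by
    ext x
    rw [hk x x.2]
    rfl
  -- the powers
  have hpow : ∀ i : ℕ, ∃ χ ∈ F.Hom (normalizerIn S R), ∀ y : ↥(normalizerIn S R),
      χ y = (((γ ^ i) ⟨(ω ^ i) y, hNS ((ω ^ i) y).2⟩ : S) : Ω) := by
    intro i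
    induction i with
    | zero =>
      exact ⟨(normalizerIn S R).subtype, subtype_mem F hNS, fun y => rfl⟩
    | succ i ih =>
      obtain ⟨χ, hχ, hχe⟩ := ih
      obtain ⟨χs, hχs, hχse⟩ := hγ _ hNS χ hχ
      refine ⟨χs.comp ((ψ.comp (Subgroup.inclusion hNext)).codRestrict _ hχ'N),
        F.comp_mem hχ' hχs hχ'N, fun y => ?_⟩
      have hmem : ((γ ⟨ω y, hNS (ω y).2⟩ : S) : Ω) ∈ imgA γ (normalizerIn S R) :=
        apply_mem_imgA γ (ω y).2 (hNS (ω y).2)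
      have e1 : (((ψ.comp (Subgroup.inclusion hNext)).codRestrict _ hχ'N) y :
          ↥(imgA γ (normalizerIn S R))) = ⟨((γ ⟨ω y, hNS (ω y).2⟩ : S) : Ω), hmem⟩ :=
        Subtype.ext (hω y).symm
      show χs (((ψ.comp (Subgroup.inclusion hNext)).codRestrict _ hχ'N) y) = _
      rw [e1]
      refine (hχse (ω y) (apply_mem F hχ _) hmem).trans ?_
      rw [pow_succ' γ, pow_succ ω, MulAut.mul_apply, MulAut.mul_apply]
      congr 2
      exact Subtype.ext (hχe (ω y))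
  obtain ⟨χn, hχn, hχne⟩ := hpow n
  -- `ω ^ n` is in `Aut_F(N_S(R))`
  have hγninv : S.subtype.comp ((γ ^ n)⁻¹).toMonoidHom ∈ F.Hom S :=
    (mem_autGroup_iff F le_rfl).mp (Subgroup.inv_mem _ hγn)
  have hωn : ω ^ n ∈ F.autGroup (normalizerIn S R) := by
    rw [mem_autGroup_iff F hNS]
    have hχnS : ∀ y, χn y ∈ S := fun y => apply_mem F hχn y
    refine mem_of_forall_eq F (F.comp_mem hχn hγninv hχnS) (fun y => ?_)
    show (((ω ^ n) y : ↥(normalizerIn S R)) : Ω) = (((γ ^ n)⁻¹ ⟨χn y, hχnS y⟩ : S) : Ω)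
    have h1 : (⟨χn y, hχnS y⟩ : S) = (γ ^ n) ⟨(ω ^ n) y, hNS ((ω ^ n) y).2⟩ :=
      Subtype.ext (hχne y)
    rw [h1, MulAut.inv_apply_self]
  obtain ⟨m, hm⟩ := pow_eq_of_coprime hk' hn
  have hωF : ω ∈ F.autGroup (normalizerIn S R) := by
    rw [← hm]
    exact Subgroup.pow_mem _ hωn m
  have hωinv : (normalizerIn S R).subtype.comp (ω⁻¹).toMonoidHom ∈ F.Hom (normalizerIn S R) :=
    (mem_autGroup_iff F hNS).mp (Subgroup.inv_mem _ hωF)
  refine mem_of_forall_eq F (F.comp_mem hωinv hχ' (fun y => (ω⁻¹ y).2)) (fun y => ?_)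
  show ((γ ⟨y, hNS y.2⟩ : S) : Ω) = (ψ.comp (Subgroup.inclusion hNext)) (ω⁻¹ y)
  rw [← hω (ω⁻¹ y)]
  congr 2
  apply Subtype.ext
  show (y : Ω) = ((ω (ω⁻¹ y) : ↥(normalizerIn S R)) : Ω)
  rw [MulAut.apply_inv_self]

end Cfsg.Agent.Lib.Helper26
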