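import Cfsg.Agent.Lib.Helper26.PrimeNorm2

set_option autoImplicit false

namespace Cfsg.Agent.Lib.Helper26

open Cfsg Cfsg.FusionSystem

variable {Ω : Type*} [Group Ω] {S : Subgroup Ω}

theorem mem_autGroup_of_autRes_aux [Finite S] {p : ℕ} [Fact p.Prime] (hS : IsPGroup p S)
    (F : FusionSystem S) (hF : F.IsSaturated p) (γ : MulAut S) (hγ : NormalizesSys γ F)
    {n : ℕ} (hn : ¬ p ∣ n) (hγn : γ ^ n ∈ F.autGroup S) :
    ∀ (k : ℕ) (R : Subgroup Ω) (hR : F.IsCentric R), Nat.card S - Nat.card R ≤ k →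
      autRes γ hR.1 ∈ F.Hom R → γ ∈ F.autGroup S := by
  intro k
  induction k with
  | zero =>
    intro R hR hk hres
    have hRS : R ≤ S := hR.1
    have hcard : Nat.card S ≤ Nat.card R := by omega
    have hRe : R = S := Subgroup.eq_of_le_of_card_ge hRS hcard
    subst hRe
    rw [mem_autGroup_iff F le_rfl]
    exact mem_of_forall_eq F hres (fun x => rfl)
  | succ k ih =>
    intro R hR hk hres
    have hRS : R ≤ S := hR.1
    by_cases hRe : R = S
    · subst hRe
      rw [mem_autGroup_iff F le_rfl]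
      exact mem_of_forall_eq F hres (fun x => rfl)
    · have hlt := lt_normalizerIn hS hRS hRe
      have hNS : normalizerIn S R ≤ S := inf_le_left
      have hNc : F.IsCentric (normalizerIn S R) := Cfsg.Agent.Lib.Helper27.isCentric_of_le F hR hlt.le hNS
      have hfinN : Finite ↥(normalizerIn S R) := finite_of_le hNS
      have h1 : Nat.card R < Nat.card (normalizerIn S R) := card_lt_card_of_lt hlt
      have h2 : Nat.card (normalizerIn S R) ≤ Nat.card S := Subgroup.card_le_of_le hNS
      exact ih (normalizerIn S R) hNc (by omega) (autRes_normalizer_mem hS F hF γ hγ hn hγn hR hres)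

/-- If `γ` normalizes the saturated system `F`, some power of `γ` prime to `p` lies in `Aut_F(S)`, and
`γ` restricted to a centric subgroup is a map of `F`, then `γ` is in `Aut_F(S)`. -/
theorem mem_autGroup_of_autRes_mem [Finite S] {p : ℕ} [Fact p.Prime] (hS : IsPGroup p S)
    (F : FusionSystem S) (hF : F.IsSaturated p) (γ : MulAut S) (hγ : NormalizesSys γ F)
    {n : ℕ} (hn : ¬ p ∣ n) (hγn : γ ^ n ∈ F.autGroup S) {R : Subgroup Ω} (hR : F.IsCentric R)
    (hres : autRes γ hR.1 ∈ F.Hom R) : γ ∈ F.autGroup S :=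
  mem_autGroup_of_autRes_aux hS F hF γ hγ hn hγn _ R hR le_rfl hres

end Cfsg.Agent.Lib.Helper26
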