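import Cfsg.Agent.Lib.Helper26.PrimeNorm3

set_option autoImplicit false

namespace Cfsg.Agent.Lib.Helper26

open Cfsg Cfsg.FusionSystem

variable {Ω : Type*} [Group Ω] {S : Subgroup Ω}

/-- Transport of an automorphism in an invariant subsystem (over `T`) along an isomorphism of `F` that
decomposes as an automorphism of `T` after a map of the subsystem. -/
theorem congr_mem_autGroup_of_decT {F : FusionSystem S} {T : Subgroup Ω} {E₁ : FusionSystem T}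
    (hInv : InvCond F E₁) {Q P : Subgroup Ω} (hPT : P ≤ T) (f : Q ≃* P)
    (hdec : Dec F E₁ Q (P.subtype.comp f.toMonoidHom))
    {c : MulAut Q} (hc : c ∈ E₁.autGroup Q) : MulAut.congr f c ∈ E₁.autGroup P := by
  obtain ⟨α, hα, ψ₀, hψ₀, hψe⟩ := hdec
  have hQT : Q ≤ T := (E₁.le_of_mem hψ₀).1
  have hψ₀T : ∀ y, ψ₀ y ∈ T := (E₁.le_of_mem hψ₀).2
  have hRT : ψ₀.range ≤ T := range_le E₁ hψ₀
  obtain ⟨ι, hι, -, hι1, -⟩ := exists_inv E₁ hψ₀ rfl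
  have hιQ : ∀ z : ψ₀.range, ι z ∈ Q := by
    rintro ⟨_, y, rfl⟩
    exact (hι1 y ⟨y, rfl⟩).symm ▸ y.2
  have hcE : Q.subtype.comp c.toMonoidHom ∈ E₁.Hom Q := (mem_autGroup_iff E₁ hQT).mp hc
  have h1 := E₁.comp_mem hι hcE hιQ
  have hv : ∀ z : ψ₀.range, ((Q.subtype.comp c.toMonoidHom).comp (ι.codRestrict Q hιQ)) z ∈ Q :=
    fun z => (c _).2
  have h2 := E₁.comp_mem h1 hψ₀ hv
  have hφR : ∀ y : Q, (ψ₀.comp (((Q.subtype.comp c.toMonoidHom).comp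
      (ι.codRestrict Q hιQ)).codRestrict Q hv)) ⟨ψ₀ y, ⟨y, rfl⟩⟩ = ψ₀ (c y) := by
    intro y
    have e1 : (ι.codRestrict Q hιQ) ⟨ψ₀ y, ⟨y, rfl⟩⟩ = y := Subtype.ext (hι1 y _)
    have e2 : ((c ((ι.codRestrict Q hιQ) ⟨ψ₀ y, ⟨y, rfl⟩⟩) : Q) : Ω) = ((c y : Q) : Ω) := by
      rw [e1]
    change ψ₀ ⟨((c ((ι.codRestrict Q hιQ) ⟨ψ₀ y, ⟨y, rfl⟩⟩) : Q) : Ω), _⟩ = _
    exact hom_congr_val ψ₀ _ _ e2
  obtain ⟨χ, hχ, hχe⟩ := hInv ψ₀.range hRT _ h2 α hα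
  have hEq : imgA α ψ₀.range = P := by
    ext x
    rw [mem_imgA]
    constructor
    · rintro ⟨z, ⟨y, hy⟩, rfl⟩
      have hz : z = ⟨ψ₀ y, hψ₀T y⟩ := Subtype.ext hy.symm
      rw [hz, ← hψe y (hψ₀T y)]
      exact (f y).2
    · intro hx
      refine ⟨⟨ψ₀ (f.symm ⟨x, hx⟩), hψ₀T _⟩, ⟨_, rfl⟩, ?_⟩
      rw [← hψe (f.symm ⟨x, hx⟩) (hψ₀T _)]
      simp
  obtain ⟨χ', hχ', hχ'e⟩ := hom_cast_eq E₁ hEq hχ
  rw [mem_autGroup_iff E₁ hPT]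
  refine mem_of_forall_eq E₁ hχ' (fun x => ?_)
  obtain ⟨y, rfl⟩ := f.surjective x
  have hmem : ((α ⟨ψ₀ y, hψ₀T y⟩ : T) : Ω) ∈ imgA α ψ₀.range :=
    mem_map_aut hRT α ⟨ψ₀ y, ⟨y, rfl⟩⟩
  have e0 : ((f y : P) : Ω) = ((α ⟨ψ₀ y, hψ₀T y⟩ : T) : Ω) := hψe y (hψ₀T y)
  have e1 : χ' (f y) = χ ⟨((α ⟨ψ₀ y, hψ₀T y⟩ : T) : Ω), hmem⟩ :=
    (hχ'e ((f y : P) : Ω) (by rw [e0]; exact hmem) (f y).2).trans (hom_congr_val χ _ _ e0)
  have e2 := hχe ⟨ψ₀ y, ⟨y, rfl⟩⟩ (hψ₀T _) hmem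
  have e3 : ((α ⟨(ψ₀.comp (((Q.subtype.comp c.toMonoidHom).comp
      (ι.codRestrict Q hιQ)).codRestrict Q hv)) ⟨ψ₀ y, ⟨y, rfl⟩⟩, hψ₀T _⟩ : T) : Ω) =
      ((α ⟨ψ₀ (c y), hψ₀T _⟩ : T) : Ω) := by
    congr 2
    exact Subtype.ext (hφR y)
  rw [e1, e2, e3, ← hψe (c y) (hψ₀T _)]
  change ((f (c (f.symm (f y))) : P) : Ω) = _
  rw [MulEquiv.symm_apply_apply]
  rfl

/-- a subgroup centric in `E` is centric in any subsystem `D` of `F` over `T`, when all `F`-maps in `T`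
decompose as an automorphism of `T` after an `E`-map -/
theorem isCentric_of_decT {F : FusionSystem S} {T : Subgroup Ω} {E D : FusionSystem T}
    (hDF : D.IsSubsystemOf F)
    (hdec : ∀ (P : Subgroup Ω), P ≤ T → ∀ (φ : P →* Ω), φ ∈ F.Hom P → Dec F E P φ)
    {R : Subgroup Ω} (hR : E.IsCentric R) : D.IsCentric R := by
  obtain ⟨hRT, hP⟩ := hR
  refine ⟨hRT, ?_⟩
  rintro Q ⟨φ, hφ, hr⟩
  obtain ⟨α, hα, φ₀, hφ₀, e⟩ := hdec R hRT φ (hDF R hφ)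
  have hφ₀T : ∀ x, φ₀ x ∈ T := (E.le_of_mem hφ₀).2
  have hR' := hP φ₀.range ⟨φ₀, hφ₀, rfl⟩
  rintro c ⟨hcT, hcC⟩
  have hc' : ((α⁻¹ ⟨c, hcT⟩ : T) : Ω) ∈ centralizerIn T φ₀.range := by
    refine ⟨(α⁻¹ ⟨c, hcT⟩).2, Subgroup.mem_centralizer_iff.mpr ?_⟩
    rintro _ ⟨x, rfl⟩
    have hφx : φ x ∈ Q := by rw [← hr]; exact ⟨x, rfl⟩
    have h1 : φ x * c = c * φ x := (Subgroup.mem_centralizer_iff.mp hcC) _ hφx
    have h2 : α (⟨φ₀ x, hφ₀T x⟩ * α⁻¹ ⟨c, hcT⟩) = α (α⁻¹ ⟨c, hcT⟩ * ⟨φ₀ x, hφ₀T x⟩) := by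
      rw [map_mul, map_mul, MulAut.apply_inv_self]
      apply Subtype.ext
      rw [Subgroup.coe_mul, Subgroup.coe_mul, ← e x (hφ₀T x)]
      exact h1
    have h3 := α.injective h2
    exact congrArg Subtype.val h3
  obtain ⟨x', hx'⟩ := hR' hc'
  rw [← hr]
  refine ⟨x', ?_⟩
  rw [e x' (hφ₀T x')]
  have : (⟨φ₀ x', hφ₀T x'⟩ : T) = α⁻¹ ⟨c, hcT⟩ := Subtype.ext hx'
  rw [this, MulAut.apply_inv_self]

/-- an `F`-invariant subsystem over `T` with the Frattini property contains the `p`-elements of all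
automizers of a saturated subsystem `E ≤ F` over `T` -/
theorem ppSet_subset_of_invariant [Finite S] {p : ℕ} [Fact p.Prime] (hS : IsPGroup p S)
    {F : FusionSystem S} {T : Subgroup Ω} (hTS : T ≤ S) (E : FusionSystem T) (hE : E.IsSaturated p)
    (hEF : E.IsSubsystemOf F) (D : FusionSystem T) (hInv : InvCond F D)
    (hdec : ∀ (P : Subgroup Ω), P ≤ T → ∀ (φ : P →* Ω), φ ∈ F.Hom P → Dec F D P φ)
    {P : Subgroup Ω} (hPT : P ≤ T) : ppSet E p P ⊆ D.autGroup P := by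
  haveI hfinT : Finite T := finite_of_le hTS
  have hT : IsPGroup p T := hS.to_le hTS
  rintro a ⟨ha, k, hk⟩
  obtain ⟨Q, hPQ, hQn⟩ := exists_fullyNormalized_conj E hPT
  have hQT : Q ≤ T := hQn.1
  have hfinQ : Finite Q := finite_of_le hQT
  obtain ⟨e, he⟩ := exists_iso_of_isConj E hPQ
  obtain ⟨-, hfa, -⟩ := saturated_fullyNormalized hT E hE hQn
  have hsyl := isSylowIn18_of_fullyAutomized E hfa
  have hb : MulAut.congr e a ∈ E.autGroup Q := congr_mem_autGroup he ha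
  have hbk : (MulAut.congr e a) ^ (p ^ k) = 1 := by
    rw [← map_pow, ← hk, pow_orderOf_eq_one, map_one]
  have hRp := isPGroup_zpowers_of_pow_eq_one hbk
  have hR : Subgroup.zpowers (MulAut.congr e a) ≤ E.autGroup Q := by
    rw [Subgroup.zpowers_le]
    exact hb
  obtain ⟨γ, hγ, hle⟩ := hsyl.exists_conj_le hR hRp
  have hc : γ * MulAut.congr e a * γ⁻¹ ∈ autInducedBy T Q :=
    hle (Cfsg.Agent.Lib.Helper18.conj_mem_conjSub (Subgroup.mem_zpowers _))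
  have he' : IsIso E (e.trans γ) := he.trans ((isIso_iff_mem_autGroup E hQT γ).mpr hγ)
  have hc' : MulAut.congr (e.trans γ) a ∈ D.autGroup Q := by
    rw [congr_trans_aut]
    exact autInducedBy_le_autGroup _ hQT hc
  have hdec' : Dec F D Q (P.subtype.comp (e.trans γ).symm.toMonoidHom) :=
    hdec Q hQT _ (hEF Q he'.symm)
  have := congr_mem_autGroup_of_decT hInv hPT (e.trans γ).symm hdec' hc'
  rwa [congr_symm_congr] at this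

end Cfsg.Agent.Lib.Helper26
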