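import Cfsg.Agent.Lib.Helper26.PrimeNorm4

set_option autoImplicit false

namespace Cfsg.Agent.Lib.Helper26

open Cfsg Cfsg.FusionSystem

variable {Ω : Type*} [Group Ω] {S : Subgroup Ω}

/-- a power of `δ` prime to `p` which is a `p`-element -/
theorem exists_pow_ppSet [Finite S] (F : FusionSystem S) {p : ℕ} [Fact p.Prime] {P : Subgroup Ω}
    (hPS : P ≤ S) {δ : MulAut P} (hδ : δ ∈ F.autGroup P) :
    ∃ n : ℕ, ¬ p ∣ n ∧ δ ^ n ∈ ppSet F p P := by
  have hp : p.Prime := Fact.out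
  haveI hfinP : Finite P := finite_of_le hPS
  have hpos : orderOf δ ≠ 0 := (orderOf_pos δ).ne'
  obtain ⟨e, n, hn, hen⟩ := Nat.exists_eq_pow_mul_and_not_dvd hpos p hp.ne_one
  refine ⟨n, hn, Subgroup.pow_mem _ hδ n, ?_⟩
  have h1 : (δ ^ n) ^ (p ^ e) = 1 := by
    rw [← pow_mul, mul_comm, ← hen, pow_orderOf_eq_one]
  obtain ⟨j, -, hj⟩ := (Nat.dvd_prime_pow hp).mp (orderOf_dvd_of_pow_eq_one h1)
  exact ⟨j, hj⟩

/-- the explicit model of `O^{p'}(E)` lies in every `F`-invariant saturated subsystem over `T` with the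
Frattini property -/
theorem resSystem_le_of_invariant [Finite S] {p : ℕ} [Fact p.Prime] (hS : IsPGroup p S)
    {F : FusionSystem S} {T : Subgroup Ω} (hTS : T ≤ S) (E : FusionSystem T) (hE : E.IsSaturated p)
    (hEF : E.IsSubsystemOf F)
    (hEdec : ∀ (P : Subgroup Ω), P ≤ T → ∀ (φ : P →* Ω), φ ∈ F.Hom P → Dec F E P φ)
    (D : FusionSystem T) (hDs : D.IsSaturated p) (hDF : D.IsSubsystemOf F) (hInv : InvCond F D)
    (hdec : ∀ (P : Subgroup Ω), P ≤ T → ∀ (φ : P →* Ω), φ ∈ F.Hom P → Dec F D P φ)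
    (C : ResCtx E (ppCore E p)) : resSystem E (ppCore E p) C ≤ D := by
  haveI hfinT : Finite T := finite_of_le hTS
  have hT : IsPGroup p T := hS.to_le hTS
  have hcp : HasCentricPP E p D :=
    fun R hR => ppSet_subset_of_invariant hS hTS E hE hEF D hInv hdec hR.1
  have hE₀D : ppCore E p ≤ D := ppCore_le_of E p hcp
  have h𝔄D : autZero E (ppCore E p) ≤ D.autGroup T := by
    refine (Subgroup.closure_le _).mpr ?_
    rintro δ ⟨hδ, R, hR, hres⟩
    have hδF : δ ∈ F.autGroup T := autGroup_mono_of_subsystem hEF T hδ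
    have hnorm : NormalizesSys δ D := fun P hPT φ hφ => hInv P hPT φ hφ δ hδF
    obtain ⟨n, hn, hδn⟩ := exists_pow_ppSet (p := p) E le_rfl hδ
    have hδnD : δ ^ n ∈ D.autGroup T := hcp T (isCentric_top E) hδn
    have hRD : D.IsCentric R := isCentric_of_decT hDF hEdec hR
    exact mem_autGroup_of_autRes_mem hT D hDs δ hnorm hn hδnD hRD (hE₀D R hres)
  intro P φ hφ
  obtain ⟨-, α, hα, φ₀, hφ₀, e⟩ := hφ
  have hαD : T.subtype.comp α.toMonoidHom ∈ D.Hom T := (mem_autGroup_iff D le_rfl).mp (h𝔄D hα)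
  have hφ₀T : ∀ x, φ₀ x ∈ T := ((ppCore E p).le_of_mem hφ₀).2
  exact mem_of_forall_eq D (D.comp_mem (hE₀D P hφ₀) hαD hφ₀T) (fun x => e x (hφ₀T x))

/-- the explicit model of `O^{p'}(E)` is saturated of index prime to `p` in `E` -/
theorem resSystem_primeIndex [Finite S] {p : ℕ} [Fact p.Prime] (hS : IsPGroup p S)
    (F : FusionSystem S) (hF : F.IsSaturated p) (C : ResCtx F (ppCore F p)) :
    (resSystem F (ppCore F p) C).IsSaturated p ∧ (resSystem F (ppCore F p) C).HasPrimeToPIndexIn F p := by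
  refine ⟨saturated_resSystem hS hF C, resSystem_le C, ?_⟩
  intro P hPS
  rw [ppGen_eq]
  exact (closure_ppSet_le_ppCore hS F hF hPS).trans
    (autGroup_mono_of_subsystem (le_resSystem C) P)

/-- `O^{p'}(E)` lies in every weakly normal subsystem of `F` over `T`, for `E` weakly normal in `F` over `T` -/
theorem residual_le_of_weaklyNormal [Finite S] {p : ℕ} [Fact p.Prime] (hS : IsPGroup p S)
    (F : FusionSystem S) {T : Subgroup Ω} (E : FusionSystem T) (hE : E.IsWeaklyNormalIn F p)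
    (D : FusionSystem T) (hD : E.IsPPrimeResidual p D) (D' : FusionSystem T)
    (hD' : D'.IsWeaklyNormalIn F p) : D.IsSubsystemOf D' := by
  obtain ⟨hEs, -, hEF, hTcl, -, hEdec⟩ := hE
  obtain ⟨hD's, -, hD'F, -, hD'Inv, hD'dec⟩ := hD'
  have hTS : T ≤ S := hTcl.1
  haveI hfinT : Finite T := finite_of_le hTS
  have hT : IsPGroup p T := hS.to_le hTS
  have C := resCtx_ppCore hT E hEs
  obtain ⟨h1, h2⟩ := resSystem_primeIndex hT E hEs C
  have h3 : D.IsSubsystemOf (resSystem E (ppCore E p) C) := hD.2.2 _ h1 h2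
  have h4 := resSystem_le_of_invariant hS hTS E hEs hEF hEdec D' hD's hD'F hD'Inv hD'dec C
  exact fun P φ hφ => h4 P (h3 P hφ)

end Cfsg.Agent.Lib.Helper26
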