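import Cfsg.Agent.Lib.Helper26.PrimeNorm5
import Cfsg.Agent.Lib.Helper26.KNorm2

set_option autoImplicit false

namespace Cfsg.Agent.Lib.Helper26

open Cfsg Cfsg.FusionSystem

variable {Ω : Type*} [Group Ω] {S : Subgroup Ω}

/-- a number divisible by `q` and congruent to `1` modulo `m` -/
theorem exists_dvd_and_mod_eq_one {q m : ℕ} (h : Nat.Coprime q m) (hm : 0 < m) :
    ∃ k : ℕ, q ∣ k ∧ k % m = 1 % m := by
  rcases Nat.lt_or_ge 1 m with h1 | h1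
  · obtain ⟨j, -, hj⟩ := Nat.exists_mul_mod_eq_one_of_coprime h h1
    exact ⟨q * j, dvd_mul_right q j, by rw [hj, Nat.mod_eq_of_lt h1]⟩
  · have : m = 1 := by omega
    subst this
    exact ⟨q, dvd_rfl, by rw [Nat.mod_one, Nat.mod_one]⟩

theorem pow_eq_self_of_mod {G : Type*} [Group G] {g : G} {m k : ℕ} (hg : g ^ m = 1)
    (hk : k % m = 1 % m) : g ^ k = g := by
  rw [pow_eq_pow_mod k hg, hk, ← pow_eq_pow_mod 1 hg, pow_one]

/-- powers of an automorphism `γ` of `Q` trivial on `R`, at an element moved by an element of `R` -/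
theorem pow_apply_of_stabilizes {Q : Subgroup Ω} (R : Subgroup Ω) (γ : MulAut Q)
    (hfix : ∀ q : Q, (q : Ω) ∈ R → γ q = q) (q : Q)
    (hq : (q : Ω)⁻¹ * ((γ q : Q) : Ω) ∈ R) (k : ℕ) : (γ ^ k) q = q * (q⁻¹ * γ q) ^ k := by
  have hz : (((q⁻¹ * γ q : Q)) : Ω) ∈ R := hq
  have hfz : ∀ j : ℕ, (γ ^ j) (q⁻¹ * γ q) = q⁻¹ * γ q := by
    intro j
    induction j with
    | zero => rfl
    | succ j ihj => rw [pow_succ, MulAut.mul_apply, hfix _ hz, ihj]
  induction k with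
  | zero => simp
  | succ k ih =>
    calc (γ ^ (k + 1)) q = (γ ^ k) (γ q) := by rw [pow_succ, MulAut.mul_apply]
      _ = (γ ^ k) (q * (q⁻¹ * γ q)) := by rw [mul_inv_cancel_left]
      _ = (γ ^ k) q * (γ ^ k) (q⁻¹ * γ q) := map_mul _ _ _
      _ = q * (q⁻¹ * γ q) ^ k * (q⁻¹ * γ q) := by rw [ih, hfz k]
      _ = q * (q⁻¹ * γ q) ^ (k + 1) := by rw [pow_succ, mul_assoc]

/-- an automorphism of `Q` trivial on `R` and on `Q/R` has order dividing any exponent of `R` -/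
theorem pow_eq_one_of_stabilizes {Q : Subgroup Ω} (R : Subgroup Ω) (γ : MulAut Q)
    (hfix : ∀ q : Q, (q : Ω) ∈ R → γ q = q)
    (hq : ∀ q : Q, (q : Ω)⁻¹ * ((γ q : Q) : Ω) ∈ R) {n : ℕ} (hn : ∀ z ∈ R, z ^ n = 1) :
    γ ^ n = 1 := by
  ext q
  rw [pow_apply_of_stabilizes R γ hfix q (hq q) n]
  have h1 : (q⁻¹ * γ q) ^ n = 1 := by
    apply Subtype.ext
    rw [Subgroup.coe_pow]
    exact hn _ (hq q)
  rw [h1, mul_one]
  rfl

/-- a normal `p`-subgroup of `A` lies in every Sylow `p`-subgroup of `A` -/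
theorem le_of_isSylowIn_of_normal {G : Type*} [Group G] [Finite G] {p : ℕ} [Fact p.Prime]
    {P A L : Subgroup G} (h : Helper18.IsSylowIn p P A) (hLA : L ≤ A) (hLp : IsPGroup p L)
    (hn : ∀ a ∈ A, ∀ l ∈ L, a⁻¹ * l * a ∈ L) : L ≤ P := by
  obtain ⟨x, hx, hle⟩ := h.exists_conj_le hLA hLp
  intro l hl
  have h1 : x * (x⁻¹ * l * x) * x⁻¹ ∈ Helper18.conjSub x L :=
    Helper18.conj_mem_conjSub (hn x hx l hl)
  have h2 : x * (x⁻¹ * l * x) * x⁻¹ = l := by group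
  rw [h2] at h1
  exact hle h1

end Cfsg.Agent.Lib.Helper26
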