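import Cfsg.Agent.Lib.Helper26.PrimeNormA

set_option autoImplicit false

namespace Cfsg.Agent.Lib.Helper26

open Cfsg Cfsg.FusionSystem

variable {Ω : Type*} [Group Ω] {S : Subgroup Ω}

/-- automorphisms of `Q` acting on `R ≤ Q` as conjugation by an element of `N` -/
def stabK {R N Q : Subgroup Ω} (hRQ : R ≤ Q) (hNR : N ≤ Subgroup.normalizer (R : Set Ω)) :
    Subgroup (MulAut Q) where
  carrier := {β | ∃ t ∈ N, ∀ r : R, ((β ⟨r, hRQ r.2⟩ : Q) : Ω) = t * r * t⁻¹}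
  one_mem' := ⟨1, N.one_mem, fun r => by simp⟩
  mul_mem' := by
    rintro β β' ⟨t, ht, hβ⟩ ⟨t', ht', hβ'⟩
    refine ⟨t * t', N.mul_mem ht ht', fun r => ?_⟩
    have hmem : t' * (r : Ω) * t'⁻¹ ∈ R := conj_mem_of_mem_normalizer (hNR ht') r
    have e : β' ⟨r, hRQ r.2⟩ = ⟨t' * r * t'⁻¹, hRQ hmem⟩ := Subtype.ext (hβ' r)
    rw [MulAut.mul_apply, e, hβ ⟨_, hmem⟩]
    group
  inv_mem' := by
    rintro β ⟨t, ht, hβ⟩
    refine ⟨t⁻¹, N.inv_mem ht, fun r => ?_⟩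
    have hmem : t⁻¹ * (r : Ω) * t ∈ R := conj_inv_mem_of_mem_normalizer (hNR ht) r
    have e : β ⟨t⁻¹ * r * t, hRQ hmem⟩ = ⟨r, hRQ r.2⟩ := by
      apply Subtype.ext
      rw [hβ ⟨_, hmem⟩]
      show t * (t⁻¹ * (r : Ω) * t) * t⁻¹ = r
      group
    rw [← e, MulAut.inv_apply_self, inv_inv]

theorem mem_stabK_iff {R N Q : Subgroup Ω} {hRQ : R ≤ Q}
    {hNR : N ≤ Subgroup.normalizer (R : Set Ω)} {β : MulAut Q} :
    β ∈ stabK hRQ hNR ↔ ∃ t ∈ N, ∀ r : R, ((β ⟨r, hRQ r.2⟩ : Q) : Ω) = t * r * t⁻¹ := Iff.rfl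

theorem stabK_apply_mem {R N Q : Subgroup Ω} {hRQ : R ≤ Q}
    {hNR : N ≤ Subgroup.normalizer (R : Set Ω)} {β : MulAut Q} (hβ : β ∈ stabK hRQ hNR)
    (q : Q) (hq : (q : Ω) ∈ R) : ((β q : Q) : Ω) ∈ R := by
  obtain ⟨t, ht, hβt⟩ := hβ
  have := hβt ⟨q, hq⟩
  have e : (⟨((⟨q, hq⟩ : R) : Ω), hRQ hq⟩ : Q) = q := Subtype.ext rfl
  rw [e] at this
  rw [this]
  exact conj_mem_of_mem_normalizer (hNR ht) ⟨q, hq⟩

/-- the elements of `Aut_F(Q)` acting on `R` as an element of `N` and trivially on `Q/R` -/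
def chainP (F : FusionSystem S) {R N Q : Subgroup Ω} (hRQ : R ≤ Q)
    (hNR : N ≤ Subgroup.normalizer (R : Set Ω)) : Subgroup (MulAut Q) where
  carrier := {β | β ∈ F.autGroup Q ∧ β ∈ stabK hRQ hNR ∧
    ∀ q : Q, (q : Ω)⁻¹ * ((β q : Q) : Ω) ∈ R}
  one_mem' := ⟨Subgroup.one_mem _, Subgroup.one_mem _, fun q => by simp [R.one_mem]⟩
  mul_mem' := by
    rintro β β' ⟨h1, h2, h3⟩ ⟨h1', h2', h3'⟩
    refine ⟨Subgroup.mul_mem _ h1 h1', Subgroup.mul_mem _ h2 h2', fun q => ?_⟩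
    have e : (q : Ω)⁻¹ * (((β * β') q : Q) : Ω) =
        ((q : Ω)⁻¹ * ((β' q : Q) : Ω)) * (((β' q : Q) : Ω)⁻¹ * ((β (β' q) : Q) : Ω)) := by
      rw [MulAut.mul_apply]
      group
    rw [e]
    exact R.mul_mem (h3' q) (h3 (β' q))
  inv_mem' := by
    rintro β ⟨h1, h2, h3⟩
    refine ⟨Subgroup.inv_mem _ h1, Subgroup.inv_mem _ h2, fun q => ?_⟩
    have h := h3 (β⁻¹ q)
    rw [MulAut.apply_inv_self] at h
    have e : (q : Ω)⁻¹ * ((β⁻¹ q : Q) : Ω) = (((β⁻¹ q : Q) : Ω)⁻¹ * (q : Ω))⁻¹ := by group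
    rw [e]
    exact R.inv_mem h

theorem mem_chainP_iff (F : FusionSystem S) {R N Q : Subgroup Ω} {hRQ : R ≤ Q}
    {hNR : N ≤ Subgroup.normalizer (R : Set Ω)} {β : MulAut Q} :
    β ∈ chainP F hRQ hNR ↔ β ∈ F.autGroup Q ∧ β ∈ stabK hRQ hNR ∧
      ∀ q : Q, (q : Ω)⁻¹ * ((β q : Q) : Ω) ∈ R := Iff.rfl

theorem chainP_le (F : FusionSystem S) {R N Q : Subgroup Ω} (hRQ : R ≤ Q)
    (hNR : N ≤ Subgroup.normalizer (R : Set Ω)) :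
    chainP F hRQ hNR ≤ F.autGroup Q ⊓ stabK hRQ hNR := fun _ h => ⟨h.1, h.2.1⟩

/-- (s1) normality of `chainP` in `Aut_F(Q) ⊓ stabK` -/
theorem chainP_normal (F : FusionSystem S) {R N Q : Subgroup Ω} (hRQ : R ≤ Q)
    (hNR : N ≤ Subgroup.normalizer (R : Set Ω)) {α β : MulAut Q}
    (hα : α ∈ F.autGroup Q ⊓ stabK hRQ hNR) (hβ : β ∈ chainP F hRQ hNR) :
    α⁻¹ * β * α ∈ chainP F hRQ hNR := by
  obtain ⟨hα1, hα2⟩ := hα
  obtain ⟨hβ1, hβ2, hβ3⟩ := hβ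
  refine ⟨Subgroup.mul_mem _ (Subgroup.mul_mem _ (Subgroup.inv_mem _ hα1) hβ1) hα1,
    Subgroup.mul_mem _ (Subgroup.mul_mem _ (Subgroup.inv_mem _ hα2) hβ2) hα2, fun q => ?_⟩
  have h1 := hβ3 (α q)
  have h2 : (((α q)⁻¹ * β (α q) : Q) : Ω) ∈ R := h1
  have h3 := stabK_apply_mem (Subgroup.inv_mem _ hα2) _ h2
  have e : α⁻¹ ((α q)⁻¹ * β (α q)) = q⁻¹ * (α⁻¹ * β * α) q := by
    rw [map_mul, map_inv, MulAut.inv_apply_self, MulAut.mul_apply, MulAut.mul_apply]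
  rw [e] at h3
  exact h3

/-- (s2) `chainP` is a `p`-group -/
theorem chainP_isPGroup [Finite S] {p : ℕ} [Fact p.Prime] (hS : IsPGroup p S) (F : FusionSystem S)
    {R N Q : Subgroup Ω} (hRQ : R ≤ Q) (hNR : N ≤ Subgroup.normalizer (R : Set Ω))
    (hRS : R ≤ S) (hNS : N ≤ S) : IsPGroup p (chainP F hRQ hNR) := by
  obtain ⟨a, ha⟩ := hS.exists_card_eq
  have hexp : ∀ z ∈ S, z ^ (Nat.card S) = 1 := by
    intro z hz
    have : (⟨z, hz⟩ : S) ^ Nat.card S = 1 := pow_card_eq_one'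
    exact congrArg Subtype.val this
  rintro ⟨β, hβ1, ⟨t, ht, hβt⟩, hβ3⟩
  refine ⟨a + a, Subtype.ext ?_⟩
  show β ^ (p ^ (a + a)) = 1
  rw [pow_add, ← ha, pow_mul]
  have hpow : ∀ (j : ℕ) (r : R), (((β ^ j) ⟨r, hRQ r.2⟩ : Q) : Ω) = t ^ j * r * (t ^ j)⁻¹ := by
    intro j
    induction j with
    | zero => intro r; simp
    | succ j ih =>
      intro r
      have hmem : t ^ j * (r : Ω) * (t ^ j)⁻¹ ∈ R :=
        conj_mem_of_mem_normalizer (hNR (N.pow_mem ht j)) r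
      have e : (β ^ j) ⟨r, hRQ r.2⟩ = ⟨t ^ j * r * (t ^ j)⁻¹, hRQ hmem⟩ := Subtype.ext (ih r)
      rw [pow_succ', MulAut.mul_apply, e, hβt ⟨_, hmem⟩, pow_succ']
      group
  have hβP : β ∈ chainP F hRQ hNR := ⟨hβ1, ⟨t, ht, hβt⟩, hβ3⟩
  have hmemP : β ^ Nat.card S ∈ chainP F hRQ hNR := Subgroup.pow_mem _ hβP _
  apply pow_eq_one_of_stabilizes R (β ^ Nat.card S)
  · intro q hq
    apply Subtype.ext
    have := hpow (Nat.card S) ⟨q, hq⟩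
    have e : (⟨((⟨q, hq⟩ : R) : Ω), hRQ hq⟩ : Q) = q := Subtype.ext rfl
    rw [e] at this
    rw [this, hexp t (hNS ht)]
    simp
  · exact hmemP.2.2
  · exact fun z hz => hexp z (hRS hz)

/-- the elements `q` normalizing `R` with `q⁻¹ (t q t⁻¹) ∈ R` -/
def commSub (R : Subgroup Ω) (t : Ω) : Subgroup Ω where
  carrier := {q | q ∈ Subgroup.normalizer (R : Set Ω) ∧ q⁻¹ * (t * q * t⁻¹) ∈ R}
  one_mem' := ⟨Subgroup.one_mem _, by simp [R.one_mem]⟩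
  mul_mem' := by
    rintro q q' ⟨hq, hz⟩ ⟨hq', hz'⟩
    refine ⟨Subgroup.mul_mem _ hq hq', ?_⟩
    have e : (q * q')⁻¹ * (t * (q * q') * t⁻¹) =
        (q'⁻¹ * (q⁻¹ * (t * q * t⁻¹)) * q') * (q'⁻¹ * (t * q' * t⁻¹)) := by group
    rw [e]
    exact R.mul_mem (conj_inv_mem_of_mem_normalizer hq' ⟨_, hz⟩) hz'
  inv_mem' := by
    rintro q ⟨hq, hz⟩
    refine ⟨Subgroup.inv_mem _ hq, ?_⟩
    have e : q⁻¹⁻¹ * (t * q⁻¹ * t⁻¹) = q * (q⁻¹ * (t * q * t⁻¹))⁻¹ * q⁻¹ := by group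
    rw [e]
    exact conj_mem_of_mem_normalizer hq ⟨_, R.inv_mem hz⟩

theorem inv_mul_conj_mem_of_sup {R X : Subgroup Ω} {t : Ω}
    (htR : t ∈ Subgroup.normalizer (R : Set Ω)) (htX : ∀ x ∈ X, t * x * t⁻¹ = x)
    (hXR : X ≤ Subgroup.normalizer (R : Set Ω)) :
    ∀ q ∈ R ⊔ X, q⁻¹ * (t * q * t⁻¹) ∈ R := by
  have h : R ⊔ X ≤ commSub R t := by
    refine sup_le (fun r hr => ⟨Subgroup.le_normalizer hr, ?_⟩) (fun x hx => ⟨hXR hx, ?_⟩)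
    · exact R.mul_mem (R.inv_mem hr) (conj_mem_of_mem_normalizer htR ⟨r, hr⟩)
    · rw [htX x hx, inv_mul_cancel]
      exact R.one_mem
  exact fun q hq => (h hq).2

end Cfsg.Agent.Lib.Helper26
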