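import Cfsg.Agent.Lib.Helper26.PrimeNormB

set_option autoImplicit false

namespace Cfsg.Agent.Lib.Helper26

open Cfsg Cfsg.FusionSystem

variable {Ω : Type*} [Group Ω] {S : Subgroup Ω}

/-- an automorphism `ε₀` of a receptive subgroup `Q₀` extends to `G₀ ⊔ Q₀`, when the conjugation
automorphisms by elements of `G₀` lie in a subgroup of `Aut_S(Q₀)` normalized by `ε₀` -/
theorem exists_extend_of_conj_mem (F : FusionSystem S) {Q₀ : Subgroup Ω} (hrec : F.IsReceptive Q₀)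
    {ε₀ : MulAut Q₀} (hε₀ : ε₀ ∈ F.autGroup Q₀) {P₀ : Subgroup (MulAut Q₀)}
    (hPS₀ : P₀ ≤ autInducedBy S Q₀) (hPn : ∀ π ∈ P₀, ε₀ * π * ε₀⁻¹ ∈ P₀)
    {G₀ : Subgroup Ω} (hGS : G₀ ≤ S) (hGN : G₀ ≤ Subgroup.normalizer (Q₀ : Set Ω))
    (hGP : ∀ (g : Ω) (hg : g ∈ G₀), conjAut Q₀ g (hGN hg) ∈ P₀) :
    ∃ Ψ ∈ F.Hom (G₀ ⊔ Q₀),
      ∀ y : Q₀, Ψ (Subgroup.inclusion le_sup_right y) = ((ε₀ y : Q₀) : Ω) := by
  have hQ₀S : Q₀ ≤ S := hrec.1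
  have hφ₀ : Q₀.subtype.comp ε₀.toMonoidHom ∈ F.Hom Q₀ := (mem_autGroup_iff F hQ₀S).mp hε₀
  obtain ⟨Ψ₁, hΨ₁, hΨ₁e⟩ := hrec.2 Q₀ _ hφ₀ (range_subtype_comp_equiv ε₀)
  have hG : G₀ ≤ extender S Q₀ (Q₀.subtype.comp ε₀.toMonoidHom) := by
    intro g hg
    obtain ⟨h, hh, hhe⟩ := mem_autInducedBy_iff.mp (hPS₀ (hPn _ (hGP g hg)))
    refine mem_extender_iff.mpr ⟨hGS hg, hGN hg, h, hh, fun x => ?_⟩
    have h1 := hhe (ε₀ x)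
    rw [MulAut.mul_apply, MulAut.mul_apply, MulAut.inv_apply_self] at h1
    exact h1
  have hle : G₀ ⊔ Q₀ ≤ extender S Q₀ (Q₀.subtype.comp ε₀.toMonoidHom) :=
    sup_le hG (le_extender F hφ₀)
  refine ⟨Ψ₁.comp (Subgroup.inclusion hle), restrict_mem F hΨ₁ hle, fun y => ?_⟩
  exact hΨ₁e y y.2 (hle (le_sup_right (a := G₀) y.2))

end Cfsg.Agent.Lib.Helper26
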