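import Cfsg.Agent.Lib.Helper26.PrimeNormC
import Cfsg.Agent.Lib.Helper26.FusionNC

set_option autoImplicit false

namespace Cfsg.Agent.Lib.Helper26

open Cfsg Cfsg.FusionSystem

variable {Ω : Type*} [Group Ω] {S : Subgroup Ω}

set_option maxHeartbeats 1600000 in
/-- Core extension step: an automorphism `ε` of `R ⊔ X` in `F`, trivial on `R`, extends to a map `η` of
`F` on `N ⊔ (R ⊔ X)` moving each element of `N` by an element of `R`. -/
theorem exists_extend_core [Finite S] {p : ℕ} [Fact p.Prime] (hS : IsPGroup p S)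
    (F : FusionSystem S) (hF : F.IsSaturated p) {T : Subgroup Ω} (hT : F.StronglyClosed T)
    {R N X : Subgroup Ω} (hRN : R ≤ N) (hNT : N ≤ T)
    (hNR : N ≤ Subgroup.normalizer (R : Set Ω)) (hXS : X ≤ S)
    (hXN : X ≤ Subgroup.centralizer (N : Set Ω))
    (hcen : ∀ R' : Subgroup Ω, F.IsConj R R' → centralizerIn T R' ≤ R')
    (ε : MulAut ↥(R ⊔ X)) (hε : ε ∈ F.autGroup (R ⊔ X))
    (hεR : ∀ q : ↥(R ⊔ X), (q : Ω) ∈ R → ε q = q) :
    ∃ η ∈ F.Hom (N ⊔ (R ⊔ X)),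
      (∀ q : ↥(R ⊔ X), η (Subgroup.inclusion le_sup_right q) = ((ε q : ↥(R ⊔ X)) : Ω)) ∧
      (∀ t : N, (t : Ω)⁻¹ * η (Subgroup.inclusion le_sup_left t) ∈ R) := by
  have hTS : T ≤ S := hT.1
  have hNS : N ≤ S := hNT.trans hTS
  have hRS : R ≤ S := hRN.trans hNS
  have hQS : R ⊔ X ≤ S := sup_le hRS hXS
  have hRQ : R ≤ R ⊔ X := le_sup_left
  have hcomm : ∀ t ∈ N, ∀ x ∈ X, t * x * t⁻¹ = x := by
    intro t ht x hx
    have := (Subgroup.mem_centralizer_iff.mp (hXN hx)) t ht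
    rw [this, mul_inv_cancel_right]
  have hXR : X ≤ Subgroup.normalizer (R : Set Ω) := by
    intro x hx
    refine mem_normalizer_of_forall (fun r hr => ?_) (fun r hr => ?_)
    · have := (Subgroup.mem_centralizer_iff.mp (hXN hx)) r (hRN hr)
      rw [← this, mul_inv_cancel_right]
      exact hr
    · have := (Subgroup.mem_centralizer_iff.mp (hXN hx)) r (hRN hr)
      rw [mul_assoc, this, inv_mul_cancel_left]
      exact hr
  have htX : ∀ t ∈ N, t ∈ Subgroup.normalizer (X : Set Ω) := by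
    intro t ht
    refine mem_normalizer_of_forall (fun x hx => ?_) (fun x hx => ?_)
    · rw [hcomm t ht x hx]
      exact hx
    · have := hcomm t ht x hx
      have e : t⁻¹ * x * t = x := by
        calc t⁻¹ * x * t = t⁻¹ * (t * x * t⁻¹) * t := by rw [this]
          _ = x := by group
      rw [e]
      exact hx
  have htQ : ∀ t ∈ N, t ∈ Subgroup.normalizer ((R ⊔ X : Subgroup Ω) : Set Ω) :=
    fun t ht => mem_normalizer_sup (hNR ht) (htX t ht)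
  -- the conjugation automorphisms by elements of `N` lie in `chainP`
  have hct : ∀ (t : Ω) (ht : t ∈ N), conjAut (R ⊔ X) t (htQ t ht) ∈ chainP F hRQ hNR := by
    intro t ht
    refine ⟨autInducedBy_le_autGroup F hQS (conjAut_mem_autInducedBy (hNS ht) _),
      ⟨t, ht, fun r => rfl⟩, fun q => ?_⟩
    exact inv_mul_conj_mem_of_sup (hNR ht) (hcomm t ht) hXR q q.2
  have hN_NK : N ≤ NK S (R ⊔ X) (stabK hRQ hNR) := by
    intro t ht
    exact ⟨hNS ht, conjAut (R ⊔ X) t (htQ t ht), (hct t ht).2.1, fun x => rfl⟩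
  have hεK : ε ∈ F.autGroup (R ⊔ X) ⊓ stabK hRQ hNR := by
    refine ⟨hε, 1, N.one_mem, fun r => ?_⟩
    rw [hεR _ r.2]
    simp
  -- transport to a fully normalized conjugate with the Sylow property
  obtain ⟨Q₀, e₀, he₀, hfn, hsyl⟩ := exists_iso_sylow hS F hF hQS (stabK hRQ hNR)
  have hQ₀S : Q₀ ≤ S := hfn.1
  haveI : Finite (MulAut Q₀) := finite_mulAut_of_le hQ₀S
  obtain ⟨-, -, hrec₀⟩ := saturated_fullyNormalized hS F hF hfn
  obtain ⟨χ, hχ, ψ, hψ, hψQ, hψN, hψc⟩ := exists_extension hS F e₀ he₀ hrec₀ hsyl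
  have hχiso : IsIso F χ := (isIso_iff_mem_autGroup F hQ₀S χ).mpr hχ.1
  have hf : IsIso F (e₀.trans χ) := he₀.trans hχiso
  have hKf : Kmap (e₀.trans χ) (stabK hRQ hNR) = Kmap e₀ (stabK hRQ hNR) := by
    rw [Kmap_trans, Kmap_of_mem hχ.2]
  have hA₀ : Kmap (e₀.trans χ) (F.autGroup (R ⊔ X) ⊓ stabK hRQ hNR) =
      F.autGroup Q₀ ⊓ Kmap e₀ (stabK hRQ hNR) := by
    rw [Kmap_inf, map_congr_autGroup hf, hKf]
  have hP₀ : Kmap (e₀.trans χ) (chainP F hRQ hNR) ≤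
      autInducedBy S Q₀ ⊓ Kmap e₀ (stabK hRQ hNR) := by
    apply le_of_isSylowIn_of_normal hsyl
    · rw [← hA₀]
      exact Subgroup.map_mono (chainP_le F hRQ hNR)
    · exact (chainP_isPGroup hS F hRQ hNR hRS hNS).map _
    · intro a ha l hl
      rw [← hA₀] at ha
      obtain ⟨α, hα, rfl⟩ := ha
      obtain ⟨β, hβ, rfl⟩ := hl
      refine ⟨α⁻¹ * β * α, chainP_normal F hRQ hNR hα hβ, ?_⟩
      rw [map_mul, map_mul, map_inv]
  -- the image of `N`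
  have hN_le : N ≤ NK S (R ⊔ X) (stabK hRQ hNR) ⊔ (R ⊔ X) := hN_NK.trans le_sup_left
  obtain ⟨ψN, hψNdef⟩ : ∃ ψN : N →* Ω, ψN = ψ.comp (Subgroup.inclusion hN_le) := ⟨_, rfl⟩
  have hψNx : ∀ t : N, ψN t = ψ (Subgroup.inclusion le_sup_left ⟨t, hN_NK t.2⟩) := by
    intro t
    rw [hψNdef]
    rfl
  have hGS : ψN.range ≤ S := by
    rintro _ ⟨t, rfl⟩
    rw [hψNx]
    exact apply_mem F hψ _
  have hGN : ψN.range ≤ Subgroup.normalizer (Q₀ : Set Ω) := by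
    rintro _ ⟨t, rfl⟩
    rw [hψNx]
    exact (NK_le_normalizerIn _ _ (hψN ⟨t, hN_NK t.2⟩)).2
  have hGP : ∀ (g : Ω) (hg : g ∈ ψN.range),
      conjAut Q₀ g (hGN hg) ∈ Kmap (e₀.trans χ) (chainP F hRQ hNR) := by
    rintro _ ⟨t, rfl⟩
    refine ⟨conjAut (R ⊔ X) t (htQ t t.2), hct t t.2, ?_⟩
    ext y
    have h1 := hψc ⟨t, hN_NK t.2⟩ (conjAut (R ⊔ X) t (htQ t t.2)) (fun x => rfl) y
    rw [conjAut_apply, hψNx]
    exact h1
  have hPn : ∀ π ∈ Kmap (e₀.trans χ) (chainP F hRQ hNR),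
      MulAut.congr (e₀.trans χ) ε * π * (MulAut.congr (e₀.trans χ) ε)⁻¹ ∈
        Kmap (e₀.trans χ) (chainP F hRQ hNR) := by
    rintro _ ⟨β, hβ, rfl⟩
    have h1 : (ε⁻¹)⁻¹ * β * ε⁻¹ ∈ chainP F hRQ hNR :=
      chainP_normal F hRQ hNR (Subgroup.inv_mem _ hεK) hβ
    rw [inv_inv] at h1
    refine ⟨ε * β * ε⁻¹, h1, ?_⟩
    rw [map_mul, map_mul, map_inv]
    rfl
  have hε₀ : MulAut.congr (e₀.trans χ) ε ∈ F.autGroup Q₀ := congr_mem_autGroup hf hε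
  obtain ⟨Ψ, hΨ, hΨe⟩ := exists_extend_of_conj_mem F hrec₀ hε₀ (hP₀.trans inf_le_left) hPn
    hGS hGN hGP
  -- the restriction of `ψ` to `N ⊔ (R ⊔ X)`
  have hM : N ⊔ (R ⊔ X) ≤ NK S (R ⊔ X) (stabK hRQ hNR) ⊔ (R ⊔ X) := sup_le_sup_right hN_NK _
  obtain ⟨ψ', hψ'def⟩ : ∃ ψ' : ↥(N ⊔ (R ⊔ X)) →* Ω, ψ' = ψ.comp (Subgroup.inclusion hM) :=
    ⟨_, rfl⟩
  have hψ' : ψ' ∈ F.Hom (N ⊔ (R ⊔ X)) := by
    rw [hψ'def]
    exact restrict_mem F hψ hM
  have hψ'N : ∀ t : N, ψ' (Subgroup.inclusion le_sup_left t) = ψN t := by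
    intro t
    rw [hψ'def, hψNdef]
    rfl
  have hψ'Q : ∀ q : ↥(R ⊔ X), ψ' (Subgroup.inclusion le_sup_right q) =
      (((e₀.trans χ) q : Q₀) : Ω) := by
    intro q
    rw [hψ'def]
    exact hψQ q
  have hψ'mem : ∀ z, ψ' z ∈ ψN.range ⊔ Q₀ := by
    intro z
    refine map_sup_mem ψ' _ (fun t => ?_) (fun q => ?_) z
    · rw [hψ'N]
      exact le_sup_left (a := ψN.range) ⟨t, rfl⟩
    · rw [hψ'Q]
      exact le_sup_right (a := ψN.range) ((e₀.trans χ) q).2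
  obtain ⟨Θ, hΘdef⟩ : ∃ Θ : ↥(N ⊔ (R ⊔ X)) →* Ω, Θ = Ψ.comp (ψ'.codRestrict _ hψ'mem) :=
    ⟨_, rfl⟩
  have hΘ : Θ ∈ F.Hom (N ⊔ (R ⊔ X)) := by
    rw [hΘdef]
    exact F.comp_mem hψ' hΨ hψ'mem
  -- values of `Θ` on `R ⊔ X`
  have hΘQ : ∀ q : ↥(R ⊔ X), Θ (Subgroup.inclusion le_sup_right q) =
      ψ' (Subgroup.inclusion le_sup_right (ε q)) := by
    intro q
    rw [hΘdef, hψ'Q]
    show Ψ ((ψ'.codRestrict _ hψ'mem) (Subgroup.inclusion le_sup_right q)) = _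
    have e1 : (ψ'.codRestrict _ hψ'mem) (Subgroup.inclusion le_sup_right q) =
        Subgroup.inclusion (le_sup_right : Q₀ ≤ ψN.range ⊔ Q₀) ((e₀.trans χ) q) :=
      Subtype.ext (hψ'Q q)
    rw [e1, hΨe]
    simp [congr_apply]
  have hΘR : ∀ (r : Ω) (hr : r ∈ R),
      Θ ⟨r, (le_sup_right : R ⊔ X ≤ N ⊔ (R ⊔ X)) (hRQ hr)⟩ =
        ψ' ⟨r, (le_sup_right : R ⊔ X ≤ N ⊔ (R ⊔ X)) (hRQ hr)⟩ := by
    intro r hr
    have h1 := hΘQ ⟨r, hRQ hr⟩
    rw [hεR ⟨r, hRQ hr⟩ hr] at h1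
    exact h1
  -- the image of `R`
  have hR_le : R ≤ N ⊔ (R ⊔ X) := hRQ.trans le_sup_right
  have hconjR : F.IsConj R (ψ'.comp (Subgroup.inclusion hR_le)).range :=
    ⟨_, restrict_mem F hψ' hR_le, rfl⟩
  have hcenR := hcen _ hconjR
  -- values of `Θ` on `N`
  have hΘN : ∀ t : N, ∃ z₀ : R, Θ (Subgroup.inclusion le_sup_left t) =
      ψ' (Subgroup.inclusion le_sup_left t * Subgroup.inclusion hR_le z₀) := by
    intro t
    have hgT : ψ' (Subgroup.inclusion le_sup_left t) ∈ T :=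
      hT.2 N hNT _ (restrict_mem F hψ' le_sup_left) t
    have hg'T : Θ (Subgroup.inclusion le_sup_left t) ∈ T :=
      hT.2 N hNT _ (restrict_mem F hΘ le_sup_left) t
    have hmem : (ψ' (Subgroup.inclusion le_sup_left t))⁻¹ * Θ (Subgroup.inclusion le_sup_left t) ∈
        centralizerIn T (ψ'.comp (Subgroup.inclusion hR_le)).range := by
      refine ⟨T.mul_mem (T.inv_mem hgT) hg'T, Subgroup.mem_centralizer_iff.mpr ?_⟩
      rintro _ ⟨r, rfl⟩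
      have hr' : (t : Ω) * r * (t : Ω)⁻¹ ∈ R := conj_mem_of_mem_normalizer (hNR t.2) r
      have e1 : (Subgroup.inclusion (le_sup_left : N ≤ N ⊔ (R ⊔ X)) t) *
          Subgroup.inclusion hR_le r * (Subgroup.inclusion (le_sup_left : N ≤ N ⊔ (R ⊔ X)) t)⁻¹ =
          ⟨(t : Ω) * r * (t : Ω)⁻¹, hR_le hr'⟩ := Subtype.ext rfl
      have h1 : ψ' (Subgroup.inclusion le_sup_left t) * ψ' (Subgroup.inclusion hR_le r) *
          (ψ' (Subgroup.inclusion le_sup_left t))⁻¹ = ψ' ⟨(t : Ω) * r * (t : Ω)⁻¹, hR_le hr'⟩ := by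
        rw [← map_inv, ← map_mul, ← map_mul, e1]
      have h2 : Θ (Subgroup.inclusion le_sup_left t) * Θ (Subgroup.inclusion hR_le r) *
          (Θ (Subgroup.inclusion le_sup_left t))⁻¹ = Θ ⟨(t : Ω) * r * (t : Ω)⁻¹, hR_le hr'⟩ := by
        rw [← map_inv, ← map_mul, ← map_mul, e1]
      have h3 : Θ (Subgroup.inclusion hR_le r) = ψ' (Subgroup.inclusion hR_le r) := hΘR r r.2
      have h4 : Θ ⟨(t : Ω) * r * (t : Ω)⁻¹, hR_le hr'⟩ = ψ' ⟨(t : Ω) * r * (t : Ω)⁻¹, hR_le hr'⟩ :=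
        hΘR _ hr'
      rw [h3, h4, ← h1] at h2
      show (ψ'.comp (Subgroup.inclusion hR_le)) r * _ = _ * (ψ'.comp (Subgroup.inclusion hR_le)) r
      show ψ' (Subgroup.inclusion hR_le r) * _ = _ * ψ' (Subgroup.inclusion hR_le r)
      have h5 : Θ (Subgroup.inclusion le_sup_left t) * ψ' (Subgroup.inclusion hR_le r) =
          ψ' (Subgroup.inclusion le_sup_left t) * ψ' (Subgroup.inclusion hR_le r) *
            (ψ' (Subgroup.inclusion le_sup_left t))⁻¹ * Θ (Subgroup.inclusion le_sup_left t) := by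
        rw [← h2]
        group
      rw [mul_assoc, h5]
      group
    obtain ⟨z₀, hz₀⟩ := hcenR hmem
    refine ⟨z₀, ?_⟩
    rw [map_mul]
    have : ψ' (Subgroup.inclusion hR_le z₀) = (ψ'.comp (Subgroup.inclusion hR_le)) z₀ := rfl
    rw [this, hz₀]
    group
  have hΘr : ∀ z, Θ z ∈ ψ'.range := by
    intro z
    refine map_sup_mem Θ _ (fun t => ?_) (fun q => ?_) z
    · obtain ⟨z₀, hz₀⟩ := hΘN t
      rw [hz₀]
      exact ⟨_, rfl⟩
    · rw [hΘQ]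
      exact ⟨_, rfl⟩
  obtain ⟨ι, hι, -, hι1, -⟩ := exists_inv F hψ' rfl
  refine ⟨ι.comp (Θ.codRestrict ψ'.range hΘr), F.comp_mem hΘ hι hΘr, fun q => ?_, fun t => ?_⟩
  · show ι ⟨Θ (Subgroup.inclusion le_sup_right q), _⟩ = _
    have h1 := hι1 (Subgroup.inclusion le_sup_right (ε q)) ⟨_, rfl⟩
    have h2 : ι ⟨Θ (Subgroup.inclusion le_sup_right q), hΘr _⟩ =
        ι ⟨ψ' (Subgroup.inclusion le_sup_right (ε q)), ⟨_, rfl⟩⟩ :=
      hom_congr_val ι _ _ (hΘQ q)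
    rw [h2, h1]
    rfl
  · obtain ⟨z₀, hz₀⟩ := hΘN t
    show (t : Ω)⁻¹ * ι ⟨Θ (Subgroup.inclusion le_sup_left t), _⟩ ∈ R
    have h1 := hι1 (Subgroup.inclusion le_sup_left t * Subgroup.inclusion hR_le z₀) ⟨_, rfl⟩
    have h2 : ι ⟨Θ (Subgroup.inclusion le_sup_left t), hΘr _⟩ =
        ι ⟨ψ' (Subgroup.inclusion le_sup_left t * Subgroup.inclusion hR_le z₀), ⟨_, rfl⟩⟩ :=
      hom_congr_val ι _ _ hz₀
    rw [h2, h1]
    show (t : Ω)⁻¹ * ((t : Ω) * (z₀ : Ω)) ∈ R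
    rw [inv_mul_cancel_left]
    exact z₀.2

end Cfsg.Agent.Lib.Helper26
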