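import Cfsg.Agent.Lib.Helper26.PrimeNormD

set_option autoImplicit false

namespace Cfsg.Agent.Lib.Helper26

open Cfsg Cfsg.FusionSystem

variable {Ω : Type*} [Group Ω] {S : Subgroup Ω}

set_option maxHeartbeats 1600000 in
/-- Core step: a `p'`-automorphism `ε` of `R ⊔ X` in `F`, trivial on `R`, extends to a
`p'`-automorphism of `N ⊔ X` in `F` trivial on `N`. -/
theorem exists_extend_trivial [Finite S] {p : ℕ} [Fact p.Prime] (hS : IsPGroup p S)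
    (F : FusionSystem S) (hF : F.IsSaturated p) {T : Subgroup Ω} (hT : F.StronglyClosed T)
    {R N X : Subgroup Ω} (hRN : R ≤ N) (hNT : N ≤ T)
    (hNR : N ≤ Subgroup.normalizer (R : Set Ω)) (hXS : X ≤ S)
    (hXN : X ≤ Subgroup.centralizer (N : Set Ω))
    (hcen : ∀ R' : Subgroup Ω, F.IsConj R R' → centralizerIn T R' ≤ R')
    (ε : MulAut ↥(R ⊔ X)) (hε : ε ∈ F.autGroup (R ⊔ X))
    (hεR : ∀ q : ↥(R ⊔ X), (q : Ω) ∈ R → ε q = q) (hεp : Nat.Coprime (orderOf ε) p) :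
    ∃ ε' : MulAut ↥(N ⊔ X), ε' ∈ F.autGroup (N ⊔ X) ∧ Nat.Coprime (orderOf ε') p ∧
      (∀ t : ↥(N ⊔ X), (t : Ω) ∈ N → ε' t = t) ∧
      (∀ q : ↥(R ⊔ X), ((ε' ⟨q, (sup_le_sup_right hRN X) q.2⟩ : ↥(N ⊔ X)) : Ω) =
        ((ε q : ↥(R ⊔ X)) : Ω)) := by
  have hp : p.Prime := Fact.out
  have hTS : T ≤ S := hT.1
  have hNS : N ≤ S := hNT.trans hTS
  have hRS : R ≤ S := hRN.trans hNS
  have hle : R ⊔ X ≤ N ⊔ X := sup_le_sup_right hRN X
  have hMS : N ⊔ X ≤ S := sup_le hNS hXS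
  haveI hfinM : Finite ↥(N ⊔ X) := finite_of_le hMS
  haveI hfinQ : Finite ↥(R ⊔ X) := finite_of_le (hle.trans hMS)
  obtain ⟨η, hη, hηQ, hηN⟩ := exists_extend_core hS F hF hT hRN hNT hNR hXS hXN hcen ε hε hεR
  have hMeq : N ⊔ (R ⊔ X) = N ⊔ X := by rw [← sup_assoc, sup_eq_left.mpr hRN]
  obtain ⟨η', hη', hη'e⟩ := hom_cast_eq F hMeq hη
  have hη'Q : ∀ q : ↥(R ⊔ X), η' ⟨q, hle q.2⟩ = ((ε q : ↥(R ⊔ X)) : Ω) := by
    intro q
    rw [hη'e q (le_sup_right (a := N) q.2) (hle q.2)]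
    exact hηQ q
  have hη'N : ∀ (t : Ω) (ht : t ∈ N), t⁻¹ * η' ⟨t, le_sup_left (a := N) ht⟩ ∈ R := by
    intro t ht
    rw [hη'e t (le_sup_left (a := N) ht) (le_sup_left (a := N) ht)]
    exact hηN ⟨t, ht⟩
  have hη'mem : ∀ z : ↥(N ⊔ X), η' z ∈ N ⊔ X := by
    intro z
    refine map_sup_mem η' _ (fun t => ?_) (fun x => ?_) z
    · have h1 := hη'N t t.2
      have h2 : η' (Subgroup.inclusion le_sup_left t) =
          (t : Ω) * ((t : Ω)⁻¹ * η' ⟨t, le_sup_left (a := N) t.2⟩) := by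
        rw [mul_inv_cancel_left]
        rfl
      rw [h2]
      exact le_sup_left (a := N) (N.mul_mem t.2 (hRN h1))
    · have h1 := hη'Q ⟨x, le_sup_right (a := R) x.2⟩
      have h2 : η' (Subgroup.inclusion le_sup_right x) =
          η' ⟨((⟨x, le_sup_right (a := R) x.2⟩ : ↥(R ⊔ X)) : Ω), hle (le_sup_right (a := R) x.2)⟩ := rfl
      rw [h2, h1]
      exact hle (ε _).2
  have hr := range_eq_of_apply_mem F hη' hη'mem
  obtain ⟨γ, hγiso, hγx⟩ := exists_iso_of_hom F hη' hr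
  have hγ : γ ∈ F.autGroup (N ⊔ X) := (isIso_iff_mem_autGroup F hMS γ).mp hγiso
  have hγQ : ∀ q : ↥(R ⊔ X), γ ⟨q, hle q.2⟩ = ⟨ε q, hle (ε q).2⟩ := by
    intro q
    apply Subtype.ext
    rw [hγx]
    exact hη'Q q
  have hγfix : ∀ z : ↥(N ⊔ X), (z : Ω) ∈ R → γ z = z := by
    intro z hz
    have h1 := hγQ ⟨z, le_sup_left (a := R) hz⟩
    rw [hεR ⟨z, le_sup_left (a := R) hz⟩ hz] at h1
    exact h1
  have hγN : ∀ z : ↥(N ⊔ X), (z : Ω) ∈ N → (z : Ω)⁻¹ * ((γ z : ↥(N ⊔ X)) : Ω) ∈ R := by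
    intro z hz
    rw [hγx]
    exact hη'N z hz
  -- the exponent
  have hpos : orderOf γ ≠ 0 := (orderOf_pos γ).ne'
  obtain ⟨a, b, hb, hab⟩ := Nat.exists_eq_pow_mul_and_not_dvd hpos p hp.ne_one
  obtain ⟨s, hs⟩ := hS.exists_card_eq
  have hcop : Nat.Coprime (Nat.card S * p ^ a) (orderOf ε) := by
    rw [hs, ← pow_add]
    exact Nat.Coprime.pow_left _ hεp.symm
  obtain ⟨k, hk1, hk2⟩ := exists_dvd_and_mod_eq_one hcop (orderOf_pos ε)
  have hSk : Nat.card S ∣ k := (dvd_mul_right _ _).trans hk1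
  have hak : p ^ a ∣ k := (dvd_mul_left _ _).trans hk1
  have hexp : ∀ w ∈ S, w ^ k = 1 := by
    intro w hw
    obtain ⟨c, rfl⟩ := hSk
    have : (⟨w, hw⟩ : S) ^ Nat.card S = 1 := pow_card_eq_one'
    have h2 : w ^ Nat.card S = 1 := congrArg Subtype.val this
    rw [pow_mul, h2, one_pow]
  refine ⟨γ ^ k, Subgroup.pow_mem _ hγ k, ?_, fun t ht => ?_, fun q => ?_⟩
  · have h1 : (γ ^ k) ^ b = 1 := by
      rw [← pow_mul]
      apply orderOf_dvd_iff_pow_eq_one.mp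
      rw [hab]
      exact mul_dvd_mul_right hak b
    have h2 : orderOf (γ ^ k) ∣ b := orderOf_dvd_of_pow_eq_one h1
    exact Nat.Coprime.coprime_dvd_left h2 ((Nat.Prime.coprime_iff_not_dvd hp).mpr hb).symm
  · rw [pow_apply_of_stabilizes R γ hγfix t (hγN t ht) k]
    have h1 : (t⁻¹ * γ t) ^ k = 1 := by
      apply Subtype.ext
      rw [Subgroup.coe_pow]
      exact hexp _ (hRS (hγN t ht))
    rw [h1, mul_one]
  · have hpow : ∀ (j : ℕ) (q : ↥(R ⊔ X)), (γ ^ j) ⟨q, hle q.2⟩ = ⟨(ε ^ j) q, hle ((ε ^ j) q).2⟩ := by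
      intro j
      induction j with
      | zero => intro q; rfl
      | succ j ih =>
        intro q
        rw [pow_succ, MulAut.mul_apply, hγQ q, ih (ε q), pow_succ, MulAut.mul_apply]
    rw [hpow k q, pow_eq_self_of_mod (pow_orderOf_eq_one ε) hk2]

end Cfsg.Agent.Lib.Helper26
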