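import Cfsg.Agent.Lib.Helper26.PrimeNormE

set_option autoImplicit false

namespace Cfsg.Agent.Lib.Helper26

open Cfsg Cfsg.FusionSystem

variable {Ω : Type*} [Group Ω] {S : Subgroup Ω}

/-- the property that all `F`-conjugates contain their centralizers in `T` passes to overgroups -/
theorem centralizerIn_le_of_le (F : FusionSystem S) {T R R' : Subgroup Ω}
    (hcen : ∀ R₁ : Subgroup Ω, F.IsConj R R₁ → centralizerIn T R₁ ≤ R₁) (hRR' : R ≤ R') :
    ∀ R₁ : Subgroup Ω, F.IsConj R' R₁ → centralizerIn T R₁ ≤ R₁ := by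
  rintro R₁ ⟨φ, hφ, rfl⟩
  have hconj : F.IsConj R (φ.comp (Subgroup.inclusion hRR')).range :=
    ⟨_, restrict_mem F hφ hRR', rfl⟩
  have h1 := hcen _ hconj
  have h2 : (φ.comp (Subgroup.inclusion hRR')).range ≤ φ.range := by
    rintro _ ⟨x, rfl⟩
    exact ⟨_, rfl⟩
  intro c hc
  apply h2
  apply h1
  exact ⟨hc.1, Subgroup.centralizer_le (by exact_mod_cast h2) hc.2⟩

theorem exists_extend_to_top_aux [Finite S] {p : ℕ} [Fact p.Prime] (hS : IsPGroup p S)
    (F : FusionSystem S) (hF : F.IsSaturated p) {T : Subgroup Ω} (hT : F.StronglyClosed T)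
    {X : Subgroup Ω} (hXS : X ≤ S) (hXT : X ≤ Subgroup.centralizer (T : Set Ω)) :
    ∀ (k : ℕ) (R : Subgroup Ω) (hRT : R ≤ T), Nat.card T - Nat.card R ≤ k →
      (∀ R₁ : Subgroup Ω, F.IsConj R R₁ → centralizerIn T R₁ ≤ R₁) →
      ∀ ε : MulAut ↥(R ⊔ X), ε ∈ F.autGroup (R ⊔ X) →
        (∀ q : ↥(R ⊔ X), (q : Ω) ∈ R → ε q = q) → Nat.Coprime (orderOf ε) p →
        ∃ κ : MulAut ↥(T ⊔ X), κ ∈ F.autGroup (T ⊔ X) ∧
          (∀ t : ↥(T ⊔ X), (t : Ω) ∈ T → κ t = t) ∧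
          ∀ q : ↥(R ⊔ X), ((κ ⟨q, (sup_le_sup_right hRT X) q.2⟩ : ↥(T ⊔ X)) : Ω) =
            ((ε q : ↥(R ⊔ X)) : Ω) := by
  have hTS : T ≤ S := hT.1
  haveI hfinT : Finite T := finite_of_le hTS
  have hTp : IsPGroup p T := hS.to_le hTS
  intro k
  induction k with
  | zero =>
    intro R hRT hk hcen ε hε hεR _
    have hcard : Nat.card T ≤ Nat.card R := by omega
    have hRe : R = T := Subgroup.eq_of_le_of_card_ge hRT hcard
    subst hRe
    exact ⟨ε, hε, hεR, fun q => rfl⟩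
  | succ k ih =>
    intro R hRT hk hcen ε hε hεR hεp
    by_cases hRe : R = T
    · subst hRe
      exact ⟨ε, hε, hεR, fun q => rfl⟩
    · have hlt := lt_normalizerIn hTp hRT hRe
      have hNT : normalizerIn T R ≤ T := inf_le_left
      have hNR : normalizerIn T R ≤ Subgroup.normalizer (R : Set Ω) := inf_le_right
      have hXN : X ≤ Subgroup.centralizer ((normalizerIn T R : Subgroup Ω) : Set Ω) :=
        hXT.trans (Subgroup.centralizer_le (by exact_mod_cast hNT))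
      obtain ⟨ε', hε', hε'p, hε'N, hε'Q⟩ :=
        exists_extend_trivial hS F hF hT hlt.le hNT hNR hXS hXN hcen ε hε hεR hεp
      haveI hfinN : Finite ↥(normalizerIn T R) := finite_of_le (hNT.trans hTS)
      have h1 : Nat.card R < Nat.card (normalizerIn T R) := card_lt_card_of_lt hlt
      have h2 : Nat.card (normalizerIn T R) ≤ Nat.card T := Subgroup.card_le_of_le hNT
      obtain ⟨κ, hκ, hκT, hκN⟩ := ih (normalizerIn T R) hNT (by omega)
        (centralizerIn_le_of_le F hcen hlt.le) ε' hε' hε'N hε'p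
      refine ⟨κ, hκ, hκT, fun q => ?_⟩
      have h3 := hκN ⟨q, (sup_le_sup_right hlt.le X) q.2⟩
      rw [hε'Q q] at h3
      exact h3

/-- a `p'`-automorphism of `R ⊔ X` in `F` trivial on `R` extends to an automorphism of `T ⊔ X` in `F`
trivial on `T`, for `R ≤ T` all of whose `F`-conjugates contain their centralizers in `T`, and `X`
centralizing `T` -/
theorem exists_extend_to_top [Finite S] {p : ℕ} [Fact p.Prime] (hS : IsPGroup p S)
    (F : FusionSystem S) (hF : F.IsSaturated p) {T : Subgroup Ω} (hT : F.StronglyClosed T)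
    {X : Subgroup Ω} (hXS : X ≤ S) (hXT : X ≤ Subgroup.centralizer (T : Set Ω))
    {R : Subgroup Ω} (hRT : R ≤ T)
    (hcen : ∀ R₁ : Subgroup Ω, F.IsConj R R₁ → centralizerIn T R₁ ≤ R₁)
    (ε : MulAut ↥(R ⊔ X)) (hε : ε ∈ F.autGroup (R ⊔ X))
    (hεR : ∀ q : ↥(R ⊔ X), (q : Ω) ∈ R → ε q = q) (hεp : Nat.Coprime (orderOf ε) p) :
    ∃ κ : MulAut ↥(T ⊔ X), κ ∈ F.autGroup (T ⊔ X) ∧
      (∀ t : ↥(T ⊔ X), (t : Ω) ∈ T → κ t = t) ∧
      ∀ q : ↥(R ⊔ X), ((κ ⟨q, (sup_le_sup_right hRT X) q.2⟩ : ↥(T ⊔ X)) : Ω) =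
        ((ε q : ↥(R ⊔ X)) : Ω) :=
  exists_extend_to_top_aux hS F hF hT hXS hXT _ R hRT le_rfl hcen ε hε hεR hεp

end Cfsg.Agent.Lib.Helper26
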