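import Cfsg.Agent.Lib.Helper26.PrimeNormF

set_option autoImplicit false

namespace Cfsg.Agent.Lib.Helper26

open Cfsg Cfsg.FusionSystem

variable {Ω : Type*} [Group Ω] {S : Subgroup Ω}

/-- `φ` extends to a map of `F` on `P ⊔ C_S(T)` moving each element of `C_S(T)` by an element of `T` -/
def HasCExt (F : FusionSystem S) (T : Subgroup Ω) (P : Subgroup Ω) (φ : P →* Ω) : Prop :=
  ∃ ψ ∈ F.Hom (P ⊔ centralizerIn S T),
    (∀ x : P, ψ (Subgroup.inclusion le_sup_left x) = φ x) ∧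
    ∀ c : centralizerIn S T, (c : Ω)⁻¹ * ψ (Subgroup.inclusion le_sup_right c) ∈ T

/-- for an extension as in `HasCExt` of a map of `E` with centric source, the elements of `C_S(T)` are moved
by elements of the image -/
theorem hasCExt_key (F : FusionSystem S) {T : Subgroup Ω} (E : FusionSystem T) {P : Subgroup Ω}
    {φ : P →* Ω} (hφ : φ ∈ E.Hom P) (hPc : E.IsCentric P)
    {ψ : ↥(P ⊔ centralizerIn S T) →* Ω}
    (hψP : ∀ x : P, ψ (Subgroup.inclusion le_sup_left x) = φ x)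
    (hψC : ∀ c : centralizerIn S T, (c : Ω)⁻¹ * ψ (Subgroup.inclusion le_sup_right c) ∈ T)
    (c : centralizerIn S T) :
    ∃ x₀ : P, (c : Ω)⁻¹ * ψ (Subgroup.inclusion le_sup_right c) = φ x₀ := by
  have hPT : P ≤ T := hPc.1
  have hcen := hPc.2 φ.range ⟨φ, hφ, rfl⟩
  have hmem : (c : Ω)⁻¹ * ψ (Subgroup.inclusion le_sup_right c) ∈ centralizerIn T φ.range := by
    refine ⟨hψC c, Subgroup.mem_centralizer_iff.mpr ?_⟩
    rintro _ ⟨x, rfl⟩
    have hcC := Subgroup.mem_centralizer_iff.mp c.2.2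
    have h1 : (Subgroup.inclusion (le_sup_right : centralizerIn S T ≤ P ⊔ centralizerIn S T) c) *
        Subgroup.inclusion le_sup_left x =
        Subgroup.inclusion le_sup_left x * Subgroup.inclusion le_sup_right c := by
      apply Subtype.ext
      exact (hcC x (hPT x.2)).symm
    have h2 := congrArg ψ h1
    rw [map_mul, map_mul, hψP] at h2
    have h3 : φ x * (c : Ω)⁻¹ = (c : Ω)⁻¹ * φ x := by
      have := hcC (φ x) ((E.le_of_mem hφ).2 x)
      calc φ x * (c : Ω)⁻¹ = (c : Ω)⁻¹ * ((c : Ω) * φ x) * (c : Ω)⁻¹ := by group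
        _ = (c : Ω)⁻¹ * (φ x * (c : Ω)) * (c : Ω)⁻¹ := by rw [this]
        _ = (c : Ω)⁻¹ * φ x := by group
    calc φ x * ((c : Ω)⁻¹ * ψ (Subgroup.inclusion le_sup_right c))
        = (φ x * (c : Ω)⁻¹) * ψ (Subgroup.inclusion le_sup_right c) := by group
      _ = (c : Ω)⁻¹ * (φ x * ψ (Subgroup.inclusion le_sup_right c)) := by rw [h3]; group
      _ = (c : Ω)⁻¹ * (ψ (Subgroup.inclusion le_sup_right c) * φ x) := by rw [h2]
      _ = (c : Ω)⁻¹ * ψ (Subgroup.inclusion le_sup_right c) * φ x := by group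
  obtain ⟨x₀, hx₀⟩ := hcen hmem
  exact ⟨x₀, hx₀.symm⟩

/-- the maps of `E` which, when their source is `E`-centric, extend as in `HasCExt` -/
def extSystem (F : FusionSystem S) {T : Subgroup Ω} (E : FusionSystem T) (hTS : T ≤ S) :
    FusionSystem T where
  Hom P := {φ | φ ∈ E.Hom P ∧ (E.IsCentric P → HasCExt F T P φ)}
  le_of_mem h := E.le_of_mem h.1
  injective_of_mem h := E.injective_of_mem h.1
  conj_mem := by
    intro P g hP hg
    refine ⟨E.conj_mem hP hg, fun _ => ⟨conjHom (P ⊔ centralizerIn S T) g,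
      F.conj_mem (sup_le (hP.trans hTS) inf_le_left) (hTS hg), fun x => rfl, fun c => ?_⟩⟩
    have h1 := (Subgroup.mem_centralizer_iff.mp c.2.2) g hg
    have h2 : (c : Ω)⁻¹ * conjHom (P ⊔ centralizerIn S T) g (Subgroup.inclusion le_sup_right c) = 1 := by
      show (c : Ω)⁻¹ * (g * (c : Ω) * g⁻¹) = 1
      rw [h1]
      group
    rw [h2]
    exact T.one_mem
  comp_mem := by
    intro P Q φ ψ hφ hψ h
    refine ⟨E.comp_mem hφ.1 hψ.1 h, fun hPc => ?_⟩
    have hQT : Q ≤ T := (E.le_of_mem hψ.1).1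
    have hrc : E.IsCentric φ.range := isCentric_of_isConj E hPc ⟨φ, hφ.1, rfl⟩
    have hrQ : φ.range ≤ Q := by
      rintro _ ⟨x, rfl⟩
      exact h x
    have hQc : E.IsCentric Q := Cfsg.Agent.Lib.Helper27.isCentric_of_le E hrc hrQ hQT
    obtain ⟨φ', hφ', hφ'P, hφ'C⟩ := hφ.2 hPc
    obtain ⟨ψ', hψ', hψ'Q, hψ'C⟩ := hψ.2 hQc
    have hkey := hasCExt_key F E hφ.1 hPc hφ'P hφ'C
    have hmem : ∀ z, φ' z ∈ Q ⊔ centralizerIn S T := by
      intro z
      refine map_sup_mem φ' _ (fun x => ?_) (fun c => ?_) z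
      · rw [hφ'P]
        exact le_sup_left (a := Q) (h x)
      · obtain ⟨x₀, hx₀⟩ := hkey c
        have e : φ' (Subgroup.inclusion le_sup_right c) = (c : Ω) * φ x₀ := by
          rw [← hx₀]
          group
        rw [e]
        exact Subgroup.mul_mem _ (le_sup_right (a := Q) c.2) (le_sup_left (a := Q) (h x₀))
    refine ⟨ψ'.comp (φ'.codRestrict _ hmem), F.comp_mem hφ' hψ' hmem, fun x => ?_, fun c => ?_⟩
    · show ψ' ⟨φ' (Subgroup.inclusion le_sup_left x), hmem _⟩ = ψ ⟨φ x, h x⟩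
      have e : (⟨φ' (Subgroup.inclusion le_sup_left x), hmem _⟩ : ↥(Q ⊔ centralizerIn S T)) =
          Subgroup.inclusion le_sup_left ⟨φ x, h x⟩ := Subtype.ext (hφ'P x)
      rw [e, hψ'Q]
    · obtain ⟨x₀, hx₀⟩ := hkey c
      have e : (⟨φ' (Subgroup.inclusion le_sup_right c), hmem _⟩ : ↥(Q ⊔ centralizerIn S T)) =
          Subgroup.inclusion le_sup_right c * Subgroup.inclusion le_sup_left ⟨φ x₀, h x₀⟩ := by
        apply Subtype.ext
        show φ' (Subgroup.inclusion le_sup_right c) = (c : Ω) * φ x₀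
        rw [← hx₀]
        group
      show (c : Ω)⁻¹ * ψ' ⟨φ' (Subgroup.inclusion le_sup_right c), hmem _⟩ ∈ T
      rw [e, map_mul, hψ'Q, ← mul_assoc]
      exact T.mul_mem (hψ'C c) ((E.le_of_mem hψ.1).2 _)
  inv_mem := by
    intro P φ hφ
    obtain ⟨ψ, hψ, hψx⟩ := E.inv_mem hφ.1
    refine ⟨ψ, ⟨hψ, fun hRc => ?_⟩, hψx⟩
    have hPc : E.IsCentric P := isCentric_of_isConj E hRc (isConj_symm E ⟨φ, hφ.1, rfl⟩)
    have hPT : P ≤ T := hPc.1
    obtain ⟨φ', hφ', hφ'P, hφ'C⟩ := hφ.2 hPc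
    have hkey := hasCExt_key F E hφ.1 hPc hφ'P hφ'C
    obtain ⟨ι, hι, -, hι1, -⟩ := exists_inv F hφ' rfl
    have hcx : ∀ c : centralizerIn S T, ∃ x₀ : P, (c : Ω) =
        φ' (Subgroup.inclusion le_sup_right c * (Subgroup.inclusion le_sup_left x₀)⁻¹) := by
      intro c
      obtain ⟨x₀, hx₀⟩ := hkey c
      refine ⟨x₀, ?_⟩
      rw [map_mul, map_inv, hφ'P, ← hx₀]
      group
    have hle : φ.range ⊔ centralizerIn S T ≤ φ'.range := by
      refine sup_le ?_ ?_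
      · rintro _ ⟨x, rfl⟩
        exact ⟨_, hφ'P x⟩
      · intro c hc
        obtain ⟨x₀, hx₀⟩ := hcx ⟨c, hc⟩
        exact ⟨_, hx₀.symm⟩
    refine ⟨ι.comp (Subgroup.inclusion hle), restrict_mem F hι hle, ?_, fun c => ?_⟩
    · rintro ⟨_, x, rfl⟩
      show ι ⟨φ x, _⟩ = ψ ⟨φ x, _⟩
      rw [hψx x]
      have h1 := hι1 (Subgroup.inclusion le_sup_left x) ⟨_, rfl⟩
      have h2 : ι ⟨φ x, hle (le_sup_left (a := φ.range) ⟨x, rfl⟩)⟩ =
          ι ⟨φ' (Subgroup.inclusion le_sup_left x), ⟨_, rfl⟩⟩ :=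
        hom_congr_val ι _ _ (hφ'P x).symm
      rw [h2, h1]
      rfl
    · obtain ⟨x₀, hx₀⟩ := hcx c
      show (c : Ω)⁻¹ * ι ⟨(c : Ω), _⟩ ∈ T
      have h1 := hι1 (Subgroup.inclusion le_sup_right c * (Subgroup.inclusion le_sup_left x₀)⁻¹)
        ⟨_, rfl⟩
      have h2 : ι ⟨(c : Ω), hle (le_sup_right (a := φ.range) c.2)⟩ =
          ι ⟨φ' (Subgroup.inclusion le_sup_right c * (Subgroup.inclusion le_sup_left x₀)⁻¹),
            ⟨_, rfl⟩⟩ := hom_congr_val ι _ _ hx₀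
      rw [h2, h1]
      show (c : Ω)⁻¹ * ((c : Ω) * (x₀ : Ω)⁻¹) ∈ T
      rw [inv_mul_cancel_left]
      exact T.inv_mem (hPT x₀.2)

theorem mem_extSystem_iff (F : FusionSystem S) {T : Subgroup Ω} (E : FusionSystem T) (hTS : T ≤ S)
    {P : Subgroup Ω} {φ : P →* Ω} :
    φ ∈ (extSystem F E hTS).Hom P ↔ φ ∈ E.Hom P ∧ (E.IsCentric P → HasCExt F T P φ) := Iff.rfl

theorem extSystem_le (F : FusionSystem S) {T : Subgroup Ω} (E : FusionSystem T) (hTS : T ≤ S) :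
    extSystem F E hTS ≤ E := fun _ _ h => h.1

end Cfsg.Agent.Lib.Helper26
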