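import Cfsg.Agent.Lib.Helper26.PrimeNormG
import Cfsg.Agent.Lib.Helper27.FusFullSub

set_option autoImplicit false

namespace Cfsg.Agent.Lib.Helper26

open Cfsg Cfsg.FusionSystem

variable {Ω : Type*} [Group Ω] {S : Subgroup Ω}

/-- the `F`-conjugates of a subgroup centric in `E` contain their centralizers in `T` -/
theorem centralizerIn_le_of_isConj_centric {F : FusionSystem S} {T : Subgroup Ω}
    (hT : F.StronglyClosed T) {E : FusionSystem T}
    (hEdec : ∀ (P : Subgroup Ω), P ≤ T → ∀ (φ : P →* Ω), φ ∈ F.Hom P → Dec F E P φ)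
    {R : Subgroup Ω} (hR : E.IsCentric R) :
    ∀ R₁ : Subgroup Ω, F.IsConj R R₁ → centralizerIn T R₁ ≤ R₁ := by
  have hTS : T ≤ S := hT.1
  have hc : (Cfsg.Agent.Lib.Helper27.fullSub F T hTS).IsCentric R :=
    isCentric_of_decT (Cfsg.Agent.Lib.Helper27.fullSub_isSubsystemOf F hTS) hEdec hR
  rintro R₁ ⟨φ, hφ, hr⟩
  exact hc.2 R₁ ⟨φ, ⟨hφ, hR.1, fun x => hT.2 R hR.1 φ hφ x⟩, hr⟩

/-- transport of conjugation by an element of `T` along a map of `F` defined on `R ⊔ C_S(T)` -/
theorem hasCExt_of_conj (F : FusionSystem S) {T : Subgroup Ω} (hT : F.StronglyClosed T)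
    {R : Subgroup Ω} (hRT : R ≤ T) {g' : ↥(R ⊔ centralizerIn S T) →* Ω}
    (hg' : g' ∈ F.Hom (R ⊔ centralizerIn S T)) {t : Ω} (ht : t ∈ T)
    (a : MulAut R)
    (ha : ∀ x : R, g' (Subgroup.inclusion le_sup_left (a x)) =
      t * g' (Subgroup.inclusion le_sup_left x) * t⁻¹)
    (hcen : centralizerIn T (g'.comp (Subgroup.inclusion le_sup_left)).range ≤
      (g'.comp (Subgroup.inclusion (le_sup_left : R ≤ R ⊔ centralizerIn S T))).range) :
    HasCExt F T R (R.subtype.comp a.toMonoidHom) := by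
  have hTS : T ≤ S := hT.1
  have hWS : g'.range ≤ S := range_le F hg'
  have hΛ₀ : conjHom g'.range t ∈ F.Hom g'.range := F.conj_mem hWS (hTS ht)
  have hg'r : ∀ z, g' z ∈ g'.range := fun z => ⟨z, rfl⟩
  obtain ⟨Λ, hΛdef⟩ : ∃ Λ : ↥(R ⊔ centralizerIn S T) →* Ω,
      Λ = (conjHom g'.range t).comp (g'.codRestrict g'.range hg'r) := ⟨_, rfl⟩
  have hΛ : Λ ∈ F.Hom (R ⊔ centralizerIn S T) := by
    rw [hΛdef]
    exact F.comp_mem hg' hΛ₀ hg'r
  have hΛx : ∀ z, Λ z = t * g' z * t⁻¹ := by
    intro z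
    rw [hΛdef]
    rfl
  have hΛR : ∀ x : R, Λ (Subgroup.inclusion le_sup_left x) =
      g' (Subgroup.inclusion le_sup_left (a x)) := by
    intro x
    rw [hΛx, ha]
  have hΛC : ∀ c : centralizerIn S T, ∃ x₁ : R, Λ (Subgroup.inclusion le_sup_right c) =
      g' (Subgroup.inclusion le_sup_right c * Subgroup.inclusion le_sup_left x₁) := by
    intro c
    have hwS : g' (Subgroup.inclusion le_sup_right c) ∈ S := apply_mem F hg' _
    -- `w` centralizes the image of `R`
    have hwC : ∀ x : R, g' (Subgroup.inclusion le_sup_right c) * g' (Subgroup.inclusion le_sup_left x) =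
        g' (Subgroup.inclusion le_sup_left x) * g' (Subgroup.inclusion le_sup_right c) := by
      intro x
      rw [← map_mul, ← map_mul]
      congr 1
      apply Subtype.ext
      exact ((Subgroup.mem_centralizer_iff.mp c.2.2) x (hRT x.2)).symm
    have hmem : (g' (Subgroup.inclusion le_sup_right c))⁻¹ *
        (t * g' (Subgroup.inclusion le_sup_right c) * t⁻¹) ∈
        centralizerIn T (g'.comp (Subgroup.inclusion le_sup_left)).range := by
      refine ⟨?_, Subgroup.mem_centralizer_iff.mpr ?_⟩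
      · have h1 : (g' (Subgroup.inclusion le_sup_right c))⁻¹ * t *
            ((g' (Subgroup.inclusion le_sup_right c))⁻¹)⁻¹ ∈ T :=
          conj_mem_of_stronglyClosed F hT (S.inv_mem hwS) ht
        have e : (g' (Subgroup.inclusion le_sup_right c))⁻¹ *
            (t * g' (Subgroup.inclusion le_sup_right c) * t⁻¹) =
            ((g' (Subgroup.inclusion le_sup_right c))⁻¹ * t *
              ((g' (Subgroup.inclusion le_sup_right c))⁻¹)⁻¹) * t⁻¹ := by group
        rw [e]
        exact T.mul_mem h1 (T.inv_mem ht)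
      · rintro _ ⟨x, rfl⟩
        show g' (Subgroup.inclusion le_sup_left x) * _ = _ * g' (Subgroup.inclusion le_sup_left x)
        -- write `g'(x) = t * g'(a⁻¹ x) * t⁻¹`
        have h1 := ha (a⁻¹ x)
        rw [MulAut.apply_inv_self] at h1
        have h2 := hwC (a⁻¹ x)
        have h3 := hwC x
        rw [h1] at h3 ⊢
        calc t * g' (Subgroup.inclusion le_sup_left (a⁻¹ x)) * t⁻¹ *
              ((g' (Subgroup.inclusion le_sup_right c))⁻¹ *
                (t * g' (Subgroup.inclusion le_sup_right c) * t⁻¹))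
            = (g' (Subgroup.inclusion le_sup_right c))⁻¹ *
              (g' (Subgroup.inclusion le_sup_right c) *
                (t * g' (Subgroup.inclusion le_sup_left (a⁻¹ x)) * t⁻¹)) *
              (g' (Subgroup.inclusion le_sup_right c))⁻¹ *
                (t * g' (Subgroup.inclusion le_sup_right c) * t⁻¹) := by group
          _ = (g' (Subgroup.inclusion le_sup_right c))⁻¹ *
              ((t * g' (Subgroup.inclusion le_sup_left (a⁻¹ x)) * t⁻¹) *
                g' (Subgroup.inclusion le_sup_right c)) *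
              (g' (Subgroup.inclusion le_sup_right c))⁻¹ *
                (t * g' (Subgroup.inclusion le_sup_right c) * t⁻¹) := by rw [h3]
          _ = (g' (Subgroup.inclusion le_sup_right c))⁻¹ *
              (t * (g' (Subgroup.inclusion le_sup_left (a⁻¹ x)) *
                g' (Subgroup.inclusion le_sup_right c)) * t⁻¹) := by group
          _ = (g' (Subgroup.inclusion le_sup_right c))⁻¹ *
              (t * (g' (Subgroup.inclusion le_sup_right c) *
                g' (Subgroup.inclusion le_sup_left (a⁻¹ x))) * t⁻¹) := by rw [h2]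
          _ = (g' (Subgroup.inclusion le_sup_right c))⁻¹ *
              (t * g' (Subgroup.inclusion le_sup_right c) * t⁻¹) *
              (t * g' (Subgroup.inclusion le_sup_left (a⁻¹ x)) * t⁻¹) := by group
    obtain ⟨x₁, hx₁⟩ := hcen hmem
    refine ⟨x₁, ?_⟩
    rw [hΛx, map_mul]
    have : g' (Subgroup.inclusion le_sup_left x₁) =
        (g'.comp (Subgroup.inclusion (le_sup_left : R ≤ R ⊔ centralizerIn S T))) x₁ := rfl
    rw [this, hx₁]
    group
  have hΛW : ∀ z, Λ z ∈ g'.range := by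
    intro z
    refine map_sup_mem Λ _ (fun x => ?_) (fun c => ?_) z
    · rw [hΛR]
      exact ⟨_, rfl⟩
    · obtain ⟨x₁, hx₁⟩ := hΛC c
      rw [hx₁]
      exact ⟨_, rfl⟩
  obtain ⟨ι, hι, -, hι1, -⟩ := exists_inv F hg' rfl
  refine ⟨ι.comp (Λ.codRestrict g'.range hΛW), F.comp_mem hΛ hι hΛW, fun x => ?_, fun c => ?_⟩
  · show ι ⟨Λ (Subgroup.inclusion le_sup_left x), _⟩ = ((a x : R) : Ω)
    have h1 := hι1 (Subgroup.inclusion le_sup_left (a x)) ⟨_, rfl⟩
    have h2 : ι ⟨Λ (Subgroup.inclusion le_sup_left x), hΛW _⟩ =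
        ι ⟨g' (Subgroup.inclusion le_sup_left (a x)), ⟨_, rfl⟩⟩ := hom_congr_val ι _ _ (hΛR x)
    rw [h2, h1]
    rfl
  · obtain ⟨x₁, hx₁⟩ := hΛC c
    show (c : Ω)⁻¹ * ι ⟨Λ (Subgroup.inclusion le_sup_right c), _⟩ ∈ T
    have h1 := hι1 (Subgroup.inclusion le_sup_right c * Subgroup.inclusion le_sup_left x₁) ⟨_, rfl⟩
    have h2 : ι ⟨Λ (Subgroup.inclusion le_sup_right c), hΛW _⟩ =
        ι ⟨g' (Subgroup.inclusion le_sup_right c * Subgroup.inclusion le_sup_left x₁), ⟨_, rfl⟩⟩ :=
      hom_congr_val ι _ _ hx₁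
    rw [h2, h1]
    show (c : Ω)⁻¹ * ((c : Ω) * (x₁ : Ω)) ∈ T
    rw [inv_mul_cancel_left]
    exact hRT x₁.2

end Cfsg.Agent.Lib.Helper26
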