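import Cfsg.Agent.Lib.Helper26.PrimeNormH

set_option autoImplicit false

namespace Cfsg.Agent.Lib.Helper26

open Cfsg Cfsg.FusionSystem

variable {Ω : Type*} [Group Ω] {S : Subgroup Ω}

set_option maxHeartbeats 1600000 in
/-- the system of extendable maps contains the `p`-elements of the `E`-automizers of `E`-centric subgroups -/
theorem hasCentricPP_extSystem [Finite S] {p : ℕ} [Fact p.Prime] (hS : IsPGroup p S)
    (F : FusionSystem S) (hF : F.IsSaturated p) {T : Subgroup Ω} (hT : F.StronglyClosed T)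
    (E : FusionSystem T) (hE : E.IsSaturated p) (hEF : E.IsSubsystemOf F)
    (hEdec : ∀ (P : Subgroup Ω), P ≤ T → ∀ (φ : P →* Ω), φ ∈ F.Hom P → Dec F E P φ) :
    HasCentricPP E p (extSystem F E hT.1) := by
  have hTS : T ≤ S := hT.1
  haveI hfinT : Finite T := finite_of_le hTS
  have hTp : IsPGroup p T := hS.to_le hTS
  rintro R hR a ⟨ha, k, hk⟩
  have hRT : R ≤ T := hR.1
  rw [SetLike.mem_coe, mem_autGroup_iff _ hRT]
  refine ⟨(mem_autGroup_iff E hRT).mp ha, fun _ => ?_⟩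
  -- the `E`-side: conjugate `a` into `Aut_T(Q)` for a fully `E`-normalized `Q`
  obtain ⟨Q, hRQ, hQn⟩ := exists_fullyNormalized_conj E hRT
  have hQT : Q ≤ T := hQn.1
  have hQS : Q ≤ S := hQT.trans hTS
  haveI hfinQ : Finite Q := finite_of_le hQS
  obtain ⟨e, he⟩ := exists_iso_of_isConj E hRQ
  obtain ⟨-, hfa, -⟩ := saturated_fullyNormalized hTp E hE hQn
  have hsyl := isSylowIn18_of_fullyAutomized E hfa
  have hb : MulAut.congr e a ∈ E.autGroup Q := congr_mem_autGroup he ha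
  have hbk : (MulAut.congr e a) ^ (p ^ k) = 1 := by
    rw [← map_pow, ← hk, pow_orderOf_eq_one, map_one]
  have hRp := isPGroup_zpowers_of_pow_eq_one hbk
  have hRle : Subgroup.zpowers (MulAut.congr e a) ≤ E.autGroup Q := by
    rw [Subgroup.zpowers_le]
    exact hb
  obtain ⟨γ, hγ, hle⟩ := hsyl.exists_conj_le hRle hRp
  have hc : γ * MulAut.congr e a * γ⁻¹ ∈ autInducedBy T Q :=
    hle (Cfsg.Agent.Lib.Helper18.conj_mem_conjSub (Subgroup.mem_zpowers _))
  have hf : IsIso E (e.trans γ) := he.trans ((isIso_iff_mem_autGroup E hQT γ).mpr hγ)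
  rw [← congr_trans_aut] at hc
  obtain ⟨t, ht, hte⟩ := mem_autInducedBy_iff.mp hc
  have htN : t ∈ Subgroup.normalizer (Q : Set Ω) := mem_normalizer_of_conj_aut hte
  have hfa' : ∀ x : R, (((e.trans γ) (a x) : Q) : Ω) = t * (((e.trans γ) x : Q) : Ω) * t⁻¹ := by
    intro x
    have h1 := hte ((e.trans γ) x)
    rw [congr_apply, MulEquiv.symm_apply_apply] at h1
    exact h1
  -- the `F`-side: move `Q` to a fully `F`-normalized conjugate
  obtain ⟨Q'', hQQ'', hfn''⟩ := exists_fullyNormalized_conj F hQS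
  obtain ⟨-, hfa'', hrec''⟩ := saturated_fullyNormalized hS F hF hfn''
  obtain ⟨ν⟩ := nonempty_normalizerHom hS F hfa'' hrec'' hQQ''
  have hfF : Q.subtype.comp (e.trans γ).toMonoidHom ∈ F.Hom R := hEF R hf
  obtain ⟨g₀, hg₀def⟩ : ∃ g₀ : R →* Ω, g₀ = (ν.restrictQ hQS).comp (e.trans γ).toMonoidHom :=
    ⟨_, rfl⟩
  have hg₀x : ∀ x : R, g₀ x =
      ν.φ ⟨(((e.trans γ) x : Q) : Ω), le_normalizerIn_self hQS ((e.trans γ) x).2⟩ := by
    intro x
    rw [hg₀def]
    rfl
  have hg₀ : g₀ ∈ F.Hom R := by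
    rw [hg₀def]
    exact mem_of_forall_eq F
      (F.comp_mem hfF (ν.restrictQ_mem hQS) (fun x => ((e.trans γ) x).2)) (fun x => rfl)
  have hg₀r : g₀.range = Q'' := by
    rw [← ν.restrictQ_range hQS, hg₀def]
    ext z
    constructor
    · rintro ⟨x, rfl⟩
      exact ⟨_, rfl⟩
    · rintro ⟨y, rfl⟩
      exact ⟨(e.trans γ).symm y, by simp⟩
  obtain ⟨g₁, hg₁, hg₁e⟩ := hrec''.2 R g₀ hg₀ hg₀r
  have hCR : centralizerIn S T ≤ centralizerIn S R :=
    inf_le_inf_left S (Subgroup.centralizer_le (by exact_mod_cast hRT))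
  have hle' : R ⊔ centralizerIn S T ≤ extender S R g₀ :=
    sup_le (le_extender F hg₀) (hCR.trans (centralizerIn_le_extender S R g₀))
  have hg'R : ∀ y : R, (g₁.comp (Subgroup.inclusion hle')) (Subgroup.inclusion le_sup_left y) = g₀ y :=
    fun y => hg₁e y y.2 _
  have hNTS : normalizerIn T Q ≤ normalizerIn S Q := inf_le_inf_right _ hTS
  have htT : ν.φ ⟨t, ⟨hTS ht, htN⟩⟩ ∈ T :=
    hT.2 (normalizerIn T Q) inf_le_left (ν.φ.comp (Subgroup.inclusion hNTS))
      (restrict_mem F ν.mem hNTS) ⟨t, ⟨ht, htN⟩⟩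
  refine hasCExt_of_conj F hT hRT (restrict_mem F hg₁ hle') htT a (fun x => ?_) ?_
  · rw [hg'R, hg'R, hg₀x, hg₀x, ← map_inv, ← map_mul, ← map_mul]
    congr 1
    apply Subtype.ext
    exact hfa' x
  · exact centralizerIn_le_of_isConj_centric hT hEdec hR _
      ⟨_, restrict_mem F (restrict_mem F hg₁ hle') le_sup_left, rfl⟩

end Cfsg.Agent.Lib.Helper26
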