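import Cfsg.Agent.Lib.Helper26.PrimeNormI
import Cfsg.Agent.Lib.Helper26.PPowNormal9

set_option autoImplicit false

namespace Cfsg.Agent.Lib.Helper26

open Cfsg Cfsg.FusionSystem

variable {Ω : Type*} [Group Ω] {S : Subgroup Ω}

/-- the inverse of an extension of `δ` extends `δ⁻¹` -/
theorem aut_inv_ext {T K : Subgroup Ω} (hTK : T ≤ K) (β : MulAut K) (δ : MulAut T)
    (hext : ∀ x : T, ((β ⟨x, hTK x.2⟩ : K) : Ω) = ((δ x : T) : Ω)) (x : T) :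
    ((β⁻¹ ⟨x, hTK x.2⟩ : K) : Ω) = ((δ⁻¹ x : T) : Ω) := by
  have h1 : β ⟨((δ⁻¹ x : T) : Ω), hTK (δ⁻¹ x).2⟩ = ⟨x, hTK x.2⟩ := by
    apply Subtype.ext
    rw [hext (δ⁻¹ x), MulAut.apply_inv_self]
  rw [← h1, MulAut.inv_apply_self]

/-- an automorphism of `K ≥ T` extending an automorphism of `T` preserves `C_S(T)` -/
theorem aut_apply_mem_centralizerIn {T K : Subgroup Ω} (hTK : T ≤ K) (hKS : K ≤ S) (β : MulAut K)
    (δ : MulAut T) (hext : ∀ x : T, ((β ⟨x, hTK x.2⟩ : K) : Ω) = ((δ x : T) : Ω)) (z : K)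
    (hz : (z : Ω) ∈ centralizerIn S T) : ((β z : K) : Ω) ∈ centralizerIn S T := by
  refine ⟨hKS (β z).2, Subgroup.mem_centralizer_iff.mpr ?_⟩
  intro t' ht'
  have h1 : t' = ((β ⟨((δ⁻¹ ⟨t', ht'⟩ : T) : Ω), hTK (δ⁻¹ ⟨t', ht'⟩).2⟩ : K) : Ω) := by
    rw [hext, MulAut.apply_inv_self]
  have h2 : (⟨((δ⁻¹ ⟨t', ht'⟩ : T) : Ω), hTK (δ⁻¹ ⟨t', ht'⟩).2⟩ : K) * z =
      z * ⟨((δ⁻¹ ⟨t', ht'⟩ : T) : Ω), hTK (δ⁻¹ ⟨t', ht'⟩).2⟩ := by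
    apply Subtype.ext
    exact (Subgroup.mem_centralizer_iff.mp hz.2) _ (δ⁻¹ ⟨t', ht'⟩).2
  have h3 := congrArg (fun y : K => ((β y : K) : Ω)) h2
  simp only [map_mul, Subgroup.coe_mul] at h3
  rw [← h1] at h3
  exact h3

/-- the extension condition for an automorphism `α` of `T` -/
def ExtCond (F : FusionSystem S) (T : Subgroup Ω) (α : MulAut T) : Prop :=
  ∃ β ∈ F.autGroup (T ⊔ centralizerIn S T),
    (∀ x : T, ((β (Subgroup.inclusion le_sup_left x) : ↥(T ⊔ centralizerIn S T)) : Ω) = ((α x : T) : Ω)) ∧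
    ∀ c : ↥(T ⊔ centralizerIn S T), (c : Ω) ∈ centralizerIn S T →
      (c : Ω)⁻¹ * ((β c : ↥(T ⊔ centralizerIn S T)) : Ω) ∈ T ⊓ Subgroup.centralizer (T : Set Ω)

end Cfsg.Agent.Lib.Helper26
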