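import Cfsg.Agent.Lib.Helper26.PrimeNormJ

set_option autoImplicit false

namespace Cfsg.Agent.Lib.Helper26

open Cfsg Cfsg.FusionSystem

variable {Ω : Type*} [Group Ω] {S : Subgroup Ω}

set_option maxHeartbeats 3200000 in
/-- a `p'`-automorphism `δ` of `T` in `F` whose restriction to an `E`-centric subgroup extends as in
`HasCExt` satisfies the extension condition -/
theorem extCond_of_hasCExt [Finite S] {p : ℕ} [Fact p.Prime] (hS : IsPGroup p S)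
    (F : FusionSystem S) (hF : F.IsSaturated p) {T : Subgroup Ω} (hT : F.StronglyClosed T)
    (E : FusionSystem T)
    (hEdec : ∀ (P : Subgroup Ω), P ≤ T → ∀ (φ : P →* Ω), φ ∈ F.Hom P → Dec F E P φ)
    {δ : MulAut T} (hδ : δ ∈ F.autGroup T) (hδp : Nat.Coprime (orderOf δ) p)
    {R : Subgroup Ω} (hR : E.IsCentric R)
    (hext : HasCExt F T R ((T.subtype.comp δ.toMonoidHom).comp (Subgroup.inclusion hR.1))) :
    ExtCond F T δ := by
  have hp : p.Prime := Fact.out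
  have hTS : T ≤ S := hT.1
  have hRT : R ≤ T := hR.1
  have hTK : T ≤ T ⊔ centralizerIn S T := le_sup_left
  have hCK : centralizerIn S T ≤ T ⊔ centralizerIn S T := le_sup_right
  have hCS : centralizerIn S T ≤ S := inf_le_left
  have hKS : T ⊔ centralizerIn S T ≤ S := sup_le hTS hCS
  have hQK : R ⊔ centralizerIn S T ≤ T ⊔ centralizerIn S T := sup_le_sup_right hRT _
  have hRQ : R ≤ R ⊔ centralizerIn S T := le_sup_left
  have hCQ : centralizerIn S T ≤ R ⊔ centralizerIn S T := le_sup_right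
  haveI hfinK : Finite ↥(T ⊔ centralizerIn S T) := finite_of_le hKS
  haveI hfinQ : Finite ↥(R ⊔ centralizerIn S T) := finite_of_le (hQK.trans hKS)
  -- a `p'`-extension `d` of `δ`
  obtain ⟨β₀, hβ₀, hβ₀x⟩ := exists_extend_aut_of_stronglyClosed hS F hF hT hδ
  obtain ⟨βc, hβcp, hβcx⟩ := exists_coprime_extension F hTK hKS hδp hβ₀ hβ₀x
  obtain ⟨d, hddef⟩ : ∃ d : MulAut ↥(T ⊔ centralizerIn S T), d = (βc : MulAut _) := ⟨_, rfl⟩
  have hd : d ∈ F.autGroup (T ⊔ centralizerIn S T) := by rw [hddef]; exact βc.2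
  have hdx : ∀ x : T, ((d ⟨x, hTK x.2⟩ : ↥(T ⊔ centralizerIn S T)) : Ω) = ((δ x : T) : Ω) := by
    rw [hddef]; exact hβcx
  have hdo : Nat.Coprime (orderOf d) p := by
    rw [hddef, Subgroup.orderOf_coe]; exact hβcp
  have hdix := aut_inv_ext hTK d δ hdx
  have hdiC : ∀ (c : Ω) (hc : c ∈ centralizerIn S T),
      ((d⁻¹ ⟨c, hCK hc⟩ : ↥(T ⊔ centralizerIn S T)) : Ω) ∈ centralizerIn S T :=
    fun c hc => aut_apply_mem_centralizerIn hTK hKS d⁻¹ δ⁻¹ hdix ⟨c, hCK hc⟩ hc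
  -- the extension `ψ` of `δ|_R`
  obtain ⟨ψ, hψ, hψR, hψC⟩ := hext
  have hψR' : ∀ x : R, ψ (Subgroup.inclusion le_sup_left x) = ((δ ⟨x, hRT x.2⟩ : T) : Ω) := hψR
  have hψK : ∀ z, ψ z ∈ T ⊔ centralizerIn S T := by
    intro z
    refine map_sup_mem ψ _ (fun x => ?_) (fun c => ?_) z
    · rw [hψR']
      exact hTK (δ _).2
    · have e : ψ (Subgroup.inclusion le_sup_right c) =
          (c : Ω) * ((c : Ω)⁻¹ * ψ (Subgroup.inclusion le_sup_right c)) := by group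
      rw [e]
      exact Subgroup.mul_mem _ (hCK c.2) (hTK (hψC c))
  have hdinv : (T ⊔ centralizerIn S T).subtype.comp (d⁻¹).toMonoidHom ∈
      F.Hom (T ⊔ centralizerIn S T) := (mem_autGroup_iff F hKS).mp (Subgroup.inv_mem _ hd)
  obtain ⟨ε₀, hε₀def⟩ : ∃ ε₀ : ↥(R ⊔ centralizerIn S T) →* Ω,
      ε₀ = ((T ⊔ centralizerIn S T).subtype.comp (d⁻¹).toMonoidHom).comp
        (ψ.codRestrict _ hψK) := ⟨_, rfl⟩
  have hε₀ : ε₀ ∈ F.Hom (R ⊔ centralizerIn S T) := by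
    rw [hε₀def]
    exact F.comp_mem hψ hdinv hψK
  have hε₀x : ∀ z, ε₀ z = ((d⁻¹ ⟨ψ z, hψK z⟩ : ↥(T ⊔ centralizerIn S T)) : Ω) := by
    intro z
    rw [hε₀def]
    rfl
  have hε₀R : ∀ x : R, ε₀ (Subgroup.inclusion le_sup_left x) = (x : Ω) := by
    intro x
    rw [hε₀x]
    have e : (⟨ψ (Subgroup.inclusion le_sup_left x), hψK _⟩ : ↥(T ⊔ centralizerIn S T)) =
        ⟨((δ ⟨x, hRT x.2⟩ : T) : Ω), hTK (δ ⟨x, hRT x.2⟩).2⟩ := Subtype.ext (hψR' x)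
    rw [e, hdix, MulAut.inv_apply_self]
  have hε₀C : ∀ c : centralizerIn S T, ∃ r : R, ε₀ (Subgroup.inclusion le_sup_right c) =
      ((d⁻¹ ⟨c, hCK c.2⟩ : ↥(T ⊔ centralizerIn S T)) : Ω) * (r : Ω) := by
    intro c
    have htc : (c : Ω)⁻¹ * ψ (Subgroup.inclusion le_sup_right c) ∈ T := hψC c
    have e : (⟨ψ (Subgroup.inclusion le_sup_right c), hψK _⟩ : ↥(T ⊔ centralizerIn S T)) =
        ⟨c, hCK c.2⟩ * ⟨(c : Ω)⁻¹ * ψ (Subgroup.inclusion le_sup_right c), hTK htc⟩ := by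
      apply Subtype.ext
      show _ = (c : Ω) * ((c : Ω)⁻¹ * ψ (Subgroup.inclusion le_sup_right c))
      group
    have h1 : ε₀ (Subgroup.inclusion le_sup_right c) =
        ((d⁻¹ ⟨c, hCK c.2⟩ : ↥(T ⊔ centralizerIn S T)) : Ω) *
          ((δ⁻¹ ⟨(c : Ω)⁻¹ * ψ (Subgroup.inclusion le_sup_right c), htc⟩ : T) : Ω) := by
      rw [hε₀x, e, map_mul, Subgroup.coe_mul, hdix ⟨_, htc⟩]
    -- the `T`-part centralizes `R`
    have hmem : ((δ⁻¹ ⟨(c : Ω)⁻¹ * ψ (Subgroup.inclusion le_sup_right c), htc⟩ : T) : Ω) ∈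
        centralizerIn T R := by
      refine ⟨(δ⁻¹ _).2, Subgroup.mem_centralizer_iff.mpr ?_⟩
      intro x hx
      have hc1 := hdiC c c.2
      have h2 : x * ((d⁻¹ ⟨c, hCK c.2⟩ : ↥(T ⊔ centralizerIn S T)) : Ω) =
          ((d⁻¹ ⟨c, hCK c.2⟩ : ↥(T ⊔ centralizerIn S T)) : Ω) * x :=
        (Subgroup.mem_centralizer_iff.mp hc1.2) x (hRT hx)
      have h3 : (Subgroup.inclusion hCQ c) * Subgroup.inclusion hRQ ⟨x, hx⟩ =
          Subgroup.inclusion hRQ ⟨x, hx⟩ * Subgroup.inclusion hCQ c := by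
        apply Subtype.ext
        exact ((Subgroup.mem_centralizer_iff.mp c.2.2) x (hRT hx)).symm
      have h4 := congrArg ε₀ h3
      rw [map_mul, map_mul, hε₀R ⟨x, hx⟩, h1] at h4
      have h5 : (x : Ω) * ((δ⁻¹ ⟨(c : Ω)⁻¹ * ψ (Subgroup.inclusion le_sup_right c), htc⟩ : T) : Ω) =
          ((d⁻¹ ⟨c, hCK c.2⟩ : ↥(T ⊔ centralizerIn S T)) : Ω)⁻¹ *
            (x * (((d⁻¹ ⟨c, hCK c.2⟩ : ↥(T ⊔ centralizerIn S T)) : Ω) *
              ((δ⁻¹ ⟨(c : Ω)⁻¹ * ψ (Subgroup.inclusion le_sup_right c), htc⟩ : T) : Ω))) := by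
        rw [← mul_assoc x, h2]
        group
      rw [h5, ← h4]
      group
    have hle := hR.2 R (isConj_refl E hRT) hmem
    exact ⟨⟨_, hle⟩, h1⟩
  have hε₀mem : ∀ z, ε₀ z ∈ R ⊔ centralizerIn S T := by
    intro z
    refine map_sup_mem ε₀ _ (fun x => ?_) (fun c => ?_) z
    · rw [hε₀R]
      exact hRQ x.2
    · obtain ⟨r, hr⟩ := hε₀C c
      rw [hr]
      exact Subgroup.mul_mem _ (hCQ (hdiC c c.2)) (hRQ r.2)
  have hr₀ := range_eq_of_apply_mem F hε₀ hε₀mem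
  obtain ⟨e₀, he₀iso, he₀x⟩ := exists_iso_of_hom F hε₀ hr₀
  have he₀ : e₀ ∈ F.autGroup (R ⊔ centralizerIn S T) :=
    (isIso_iff_mem_autGroup F (hQK.trans hKS) e₀).mp he₀iso
  have he₀R : ∀ q : ↥(R ⊔ centralizerIn S T), (q : Ω) ∈ R → e₀ q = q := by
    intro q hq
    apply Subtype.ext
    rw [he₀x]
    exact hε₀R ⟨q, hq⟩
  have he₀Rpow : ∀ (j : ℕ) (q : ↥(R ⊔ centralizerIn S T)), (q : Ω) ∈ R → (e₀ ^ j) q = q := by
    intro j q hq
    induction j with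
    | zero => rfl
    | succ j ih => rw [pow_succ, MulAut.mul_apply, he₀R q hq, ih]
  -- powers of `e₀` on `C_S(T)`
  have hpow : ∀ (j : ℕ) (c : centralizerIn S T), ∃ r : R,
      (((e₀ ^ j) (Subgroup.inclusion hCQ c) : ↥(R ⊔ centralizerIn S T)) : Ω) =
        (((d⁻¹ ^ j) ⟨c, hCK c.2⟩ : ↥(T ⊔ centralizerIn S T)) : Ω) * (r : Ω) := by
    intro j
    induction j with
    | zero =>
      intro c
      exact ⟨1, by simp⟩
    | succ j ih =>
      intro c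
      obtain ⟨r₁, hr₁⟩ := hε₀C c
      obtain ⟨r', hr'⟩ := ih ⟨_, hdiC c c.2⟩
      refine ⟨r' * r₁, ?_⟩
      have e1 : e₀ (Subgroup.inclusion hCQ c) =
          Subgroup.inclusion hCQ ⟨_, hdiC c c.2⟩ * Subgroup.inclusion hRQ r₁ := by
        apply Subtype.ext
        rw [he₀x]
        exact hr₁
      have e2 : (⟨((⟨_, hdiC c c.2⟩ : centralizerIn S T) : Ω), hCK (hdiC c c.2)⟩ :
          ↥(T ⊔ centralizerIn S T)) = d⁻¹ ⟨c, hCK c.2⟩ := Subtype.ext rfl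
      rw [pow_succ, MulAut.mul_apply, e1, map_mul, he₀Rpow j (Subgroup.inclusion hRQ r₁) r₁.2, Subgroup.coe_mul, hr', e2,
        pow_succ, MulAut.mul_apply]
      show _ * (r' : Ω) * (r₁ : Ω) = _ * ((r' : Ω) * (r₁ : Ω))
      rw [mul_assoc]
  -- the `p'`-part
  have hpos : orderOf e₀ ≠ 0 := (orderOf_pos e₀).ne'
  obtain ⟨a, b, hb, hab⟩ := Nat.exists_eq_pow_mul_and_not_dvd hpos p hp.ne_one
  have hcop : Nat.Coprime (p ^ a) (orderOf d) := Nat.Coprime.pow_left _ hdo.symm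
  obtain ⟨m, hm1, hm2⟩ := exists_dvd_and_mod_eq_one hcop (orderOf_pos d)
  have hεp : Nat.Coprime (orderOf (e₀ ^ m)) p := by
    have h1 : (e₀ ^ m) ^ b = 1 := by
      rw [← pow_mul]
      apply orderOf_dvd_iff_pow_eq_one.mp
      rw [hab]
      exact mul_dvd_mul_right hm1 b
    have h2 : orderOf (e₀ ^ m) ∣ b := orderOf_dvd_of_pow_eq_one h1
    exact Nat.Coprime.coprime_dvd_left h2 ((Nat.Prime.coprime_iff_not_dvd hp).mpr hb).symm
  have hdm : d⁻¹ ^ m = d⁻¹ := by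
    apply pow_eq_self_of_mod _ hm2
    rw [inv_pow, pow_orderOf_eq_one, inv_one]
  -- extend to `T ⊔ C_S(T)`
  have hcen := centralizerIn_le_of_isConj_centric hT hEdec hR
  have hCT : centralizerIn S T ≤ Subgroup.centralizer (T : Set Ω) := inf_le_right
  obtain ⟨κ, hκ, hκT, hκQ⟩ := exists_extend_to_top hS F hF hT hCS hCT hRT hcen (e₀ ^ m)
    (Subgroup.pow_mem _ he₀ m) (he₀Rpow m) hεp
  have hβx : ∀ x : T, (((d * κ) (Subgroup.inclusion le_sup_left x) : ↥(T ⊔ centralizerIn S T)) : Ω) =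
      ((δ x : T) : Ω) := by
    intro x
    rw [MulAut.mul_apply, hκT _ x.2]
    exact hdx x
  refine ⟨d * κ, Subgroup.mul_mem _ hd hκ, hβx, fun c hc => ?_⟩
  obtain ⟨r, hr⟩ := hpow m ⟨c, hc⟩
  rw [hdm] at hr
  have h1 := hκQ (Subgroup.inclusion hCQ ⟨c, hc⟩)
  have e1 : (⟨((Subgroup.inclusion hCQ ⟨(c : Ω), hc⟩ : ↥(R ⊔ centralizerIn S T)) : Ω),
      hQK (Subgroup.inclusion hCQ ⟨(c : Ω), hc⟩).2⟩ : ↥(T ⊔ centralizerIn S T)) = c := Subtype.ext rfl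
  rw [e1, hr] at h1
  have e2 : (⟨((⟨(c : Ω), hc⟩ : centralizerIn S T) : Ω), hCK hc⟩ : ↥(T ⊔ centralizerIn S T)) = c :=
    Subtype.ext rfl
  rw [e2] at h1
  have h2 : κ c = d⁻¹ c * ⟨r, hTK (hRT r.2)⟩ := Subtype.ext h1
  have h3 : (d * κ) c = c * d ⟨r, hTK (hRT r.2)⟩ := by
    rw [MulAut.mul_apply, h2, map_mul, MulAut.apply_inv_self]
  have h4 : (c : Ω)⁻¹ * (((d * κ) c : ↥(T ⊔ centralizerIn S T)) : Ω) =
      ((δ ⟨r, hRT r.2⟩ : T) : Ω) := by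
    rw [h3, Subgroup.coe_mul, inv_mul_cancel_left]
    exact hdx ⟨r, hRT r.2⟩
  refine ⟨by rw [h4]; exact (δ _).2, ?_⟩
  have h5 := aut_apply_mem_centralizerIn hTK hKS (d * κ) δ hβx c hc
  exact Subgroup.mul_mem _ (Subgroup.inv_mem _ hc.2) h5.2

end Cfsg.Agent.Lib.Helper26
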