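import Cfsg.Agent.Lib.Helper26.PrimeNormK

set_option autoImplicit false

namespace Cfsg.Agent.Lib.Helper26

open Cfsg Cfsg.FusionSystem

variable {Ω : Type*} [Group Ω] {S : Subgroup Ω}

/-- the extension condition, with the weaker requirement that elements of `C_S(T)` are moved by elements
of `T` -/
def ExtCondW (F : FusionSystem S) (T : Subgroup Ω) (α : MulAut T) : Prop :=
  ∃ β ∈ F.autGroup (T ⊔ centralizerIn S T),
    (∀ x : T, ((β ⟨x, (le_sup_left : T ≤ T ⊔ centralizerIn S T) x.2⟩ :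
      ↥(T ⊔ centralizerIn S T)) : Ω) = ((α x : T) : Ω)) ∧
    ∀ c : ↥(T ⊔ centralizerIn S T), (c : Ω) ∈ centralizerIn S T →
      (c : Ω)⁻¹ * ((β c : ↥(T ⊔ centralizerIn S T)) : Ω) ∈ T

theorem extCond_of_extCondW (F : FusionSystem S) {T : Subgroup Ω} (hTS : T ≤ S) {α : MulAut T}
    (h : ExtCondW F T α) : ExtCond F T α := by
  obtain ⟨β, hβ, hβx, hβc⟩ := h
  refine ⟨β, hβ, hβx, fun c hc => ⟨hβc c hc, ?_⟩⟩
  have h5 := aut_apply_mem_centralizerIn le_sup_left (sup_le hTS inf_le_left) β α hβx c hc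
  exact Subgroup.mul_mem _ (Subgroup.inv_mem _ hc.2) h5.2

theorem extCondW_of_extCond (F : FusionSystem S) {T : Subgroup Ω} {α : MulAut T}
    (h : ExtCond F T α) : ExtCondW F T α := by
  obtain ⟨β, hβ, hβx, hβc⟩ := h
  exact ⟨β, hβ, hβx, fun c hc => (hβc c hc).1⟩

theorem extCondW_one (F : FusionSystem S) (T : Subgroup Ω) : ExtCondW F T 1 :=
  ⟨1, Subgroup.one_mem _, fun _ => rfl, fun c _ => by simp [T.one_mem]⟩

theorem extCondW_mul (F : FusionSystem S) {T : Subgroup Ω} {α₁ α₂ : MulAut T}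
    (h₁ : ExtCondW F T α₁) (h₂ : ExtCondW F T α₂) : ExtCondW F T (α₁ * α₂) := by
  obtain ⟨β₁, hβ₁, hβ₁x, hβ₁c⟩ := h₁
  obtain ⟨β₂, hβ₂, hβ₂x, hβ₂c⟩ := h₂
  have hTK : T ≤ T ⊔ centralizerIn S T := le_sup_left
  refine ⟨β₁ * β₂, Subgroup.mul_mem _ hβ₁ hβ₂, fun x => ?_, fun c hc => ?_⟩
  · have e : β₂ ⟨x, hTK x.2⟩ = ⟨((α₂ x : T) : Ω), hTK (α₂ x).2⟩ := Subtype.ext (hβ₂x x)
    rw [MulAut.mul_apply, e, hβ₁x]
    rfl
  · have hz := hβ₂c c hc
    have e : β₂ c = c * ⟨(c : Ω)⁻¹ * ((β₂ c : ↥(T ⊔ centralizerIn S T)) : Ω), hTK hz⟩ := by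
      apply Subtype.ext
      show _ = (c : Ω) * ((c : Ω)⁻¹ * _)
      rw [mul_inv_cancel_left]
    rw [MulAut.mul_apply, e, map_mul, Subgroup.coe_mul, ← mul_assoc, hβ₁x ⟨_, hz⟩]
    exact T.mul_mem (hβ₁c c hc) (α₁ _).2

theorem extCondW_inv (F : FusionSystem S) {T : Subgroup Ω} {α : MulAut T}
    (h : ExtCondW F T α) : ExtCondW F T α⁻¹ := by
  obtain ⟨β, hβ, hβx, hβc⟩ := h
  have hTK : T ≤ T ⊔ centralizerIn S T := le_sup_left
  have hix := aut_inv_ext hTK β α hβx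
  refine ⟨β⁻¹, Subgroup.inv_mem _ hβ, hix, fun c hc => ?_⟩
  have hz := hβc c hc
  have e : β c = c * ⟨(c : Ω)⁻¹ * ((β c : ↥(T ⊔ centralizerIn S T)) : Ω), hTK hz⟩ := by
    apply Subtype.ext
    show _ = (c : Ω) * ((c : Ω)⁻¹ * _)
    rw [mul_inv_cancel_left]
  have h1 : c = β⁻¹ c * β⁻¹ ⟨(c : Ω)⁻¹ * ((β c : ↥(T ⊔ centralizerIn S T)) : Ω), hTK hz⟩ := by
    rw [← map_mul, ← e, MulAut.inv_apply_self]
  have h2 : ((β⁻¹ c : ↥(T ⊔ centralizerIn S T)) : Ω) =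
      (c : Ω) * ((α⁻¹ ⟨(c : Ω)⁻¹ * ((β c : ↥(T ⊔ centralizerIn S T)) : Ω), hz⟩ : T) : Ω)⁻¹ := by
    have h3 := congrArg (fun y : ↥(T ⊔ centralizerIn S T) => (y : Ω)) h1
    simp only [Subgroup.coe_mul] at h3
    rw [hix ⟨_, hz⟩] at h3
    rw [eq_mul_inv_iff_mul_eq]
    exact h3.symm
  rw [h2, inv_mul_cancel_left]
  exact T.inv_mem (α⁻¹ _).2

/-- the automorphisms of `T` in the system of extendable maps satisfy the extension condition -/
theorem extCondW_of_mem_extSystem [Finite S] (F : FusionSystem S) {T : Subgroup Ω} (E : FusionSystem T)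
    (hTS : T ≤ S) {α : MulAut T} (hα : α ∈ (extSystem F E hTS).autGroup T) : ExtCondW F T α := by
  haveI hfinT : Finite T := finite_of_le hTS
  have hTK : T ≤ T ⊔ centralizerIn S T := le_sup_left
  have hCK : centralizerIn S T ≤ T ⊔ centralizerIn S T := le_sup_right
  have hKS : T ⊔ centralizerIn S T ≤ S := sup_le hTS inf_le_left
  rw [mem_autGroup_iff _ le_rfl] at hα
  obtain ⟨ψ, hψ, hψT, hψC⟩ := hα.2 (isCentric_top E)
  have hψK : ∀ z, ψ z ∈ T ⊔ centralizerIn S T := by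
    intro z
    refine map_sup_mem ψ _ (fun x => ?_) (fun c => ?_) z
    · rw [hψT]
      exact hTK (α x).2
    · have e : ψ (Subgroup.inclusion le_sup_right c) =
          (c : Ω) * ((c : Ω)⁻¹ * ψ (Subgroup.inclusion le_sup_right c)) := by group
      rw [e]
      exact Subgroup.mul_mem _ (hCK c.2) (hTK (hψC c))
  have hr := range_eq_of_apply_mem F hψ hψK
  obtain ⟨β, hβiso, hβx⟩ := exists_iso_of_hom F hψ hr
  refine ⟨β, (isIso_iff_mem_autGroup F hKS β).mp hβiso, fun x => ?_, fun c hc => ?_⟩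
  · rw [hβx]
    exact hψT x
  · rw [hβx]
    exact hψC ⟨c, hc⟩

end Cfsg.Agent.Lib.Helper26
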