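import Cfsg.Agent.Lib.Helper26.PrimeNormL

set_option autoImplicit false

namespace Cfsg.Agent.Lib.Helper26

open Cfsg Cfsg.FusionSystem

variable {Ω : Type*} [Group Ω] {S : Subgroup Ω}

/-- if the restriction of `δ ∈ Aut_F(S)` to `R` lies in an `Aut_F(S)`-invariant system, so do the restrictions
of the powers of `δ` -/
theorem autRes_pow_mem {F E₀ : FusionSystem S} (hInv : InvCond F E₀)
    {δ : MulAut S} (hδ : δ ∈ F.autGroup S) {R : Subgroup Ω} (hRS : R ≤ S)
    (hres : (S.subtype.comp δ.toMonoidHom).comp (Subgroup.inclusion hRS) ∈ E₀.Hom R) (j : ℕ) :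
    (S.subtype.comp (δ ^ j).toMonoidHom).comp (Subgroup.inclusion hRS) ∈ E₀.Hom R := by
  induction j with
  | zero =>
    exact mem_of_forall_eq E₀ (subtype_mem E₀ hRS) (fun x => by simp)
  | succ j ih =>
    obtain ⟨χ, hχ, hχx⟩ := hInv R hRS _ hres (δ ^ j) (Subgroup.pow_mem _ hδ j)
    have h : ∀ x : R, ((S.subtype.comp (δ ^ j).toMonoidHom).comp (Subgroup.inclusion hRS)) x ∈
        (R.subgroupOf S).map (S.subtype.comp (δ ^ j).toMonoidHom) := fun x => mem_map_aut hRS (δ ^ j) x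
    have h2 := E₀.comp_mem ih hχ h
    refine mem_of_forall_eq E₀ h2 (fun x => ?_)
    have h3 := hχx x (δ ⟨x, hRS x.2⟩).2 (mem_map_aut hRS (δ ^ j) x)
    rw [pow_succ]
    exact h3.symm

/-- the generators of `Aut_E^0(T)` satisfy the extension condition -/
theorem extCondW_of_mem_autZeroSet [Finite S] {p : ℕ} [Fact p.Prime] (hS : IsPGroup p S)
    (F : FusionSystem S) (hF : F.IsSaturated p) {T : Subgroup Ω} (hT : F.StronglyClosed T)
    (E : FusionSystem T) (hE : E.IsSaturated p) (hEF : E.IsSubsystemOf F)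
    (hEdec : ∀ (P : Subgroup Ω), P ≤ T → ∀ (φ : P →* Ω), φ ∈ F.Hom P → Dec F E P φ)
    {δ : MulAut T} (hδ : δ ∈ autZeroSet E (ppCore E p)) : ExtCondW F T δ := by
  have hp : p.Prime := Fact.out
  have hTS : T ≤ S := hT.1
  haveI hfinT : Finite T := finite_of_le hTS
  obtain ⟨hδE, R, hR, hres⟩ := hδ
  have hcp := hasCentricPP_extSystem hS F hF hT E hE hEF hEdec
  have hle : ppCore E p ≤ extSystem F E hTS := ppCore_le_of E p hcp
  have hpos : orderOf δ ≠ 0 := (orderOf_pos δ).ne'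
  obtain ⟨a, b, hb, hab⟩ := Nat.exists_eq_pow_mul_and_not_dvd hpos p hp.ne_one
  have hbpos : 0 < b := Nat.pos_of_ne_zero (by rintro rfl; exact hb (dvd_zero p))
  have hpb : Nat.Coprime p b := (Nat.Prime.coprime_iff_not_dvd hp).mpr hb
  have hcop : Nat.Coprime (p ^ a) b := Nat.Coprime.pow_left a hpb
  obtain ⟨m₁, hm₁, hm₁b⟩ := exists_dvd_and_mod_eq_one hcop hbpos
  -- the `p'`-part
  have h1 : (δ ^ m₁) ^ b = 1 := by
    obtain ⟨c, rfl⟩ := hm₁
    rw [← pow_mul, mul_right_comm, ← hab, pow_mul, pow_orderOf_eq_one, one_pow]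
  have hord1 : Nat.Coprime (orderOf (δ ^ m₁)) p :=
    Nat.Coprime.coprime_dvd_left (orderOf_dvd_of_pow_eq_one h1) hpb.symm
  have hδm : δ ^ m₁ ∈ E.autGroup T := Subgroup.pow_mem _ hδE m₁
  have hδmF : δ ^ m₁ ∈ F.autGroup T := autGroup_mono_of_subsystem hEF T hδm
  have hresm := autRes_pow_mem (ppCore_invCond E p) hδE hR.1 hres m₁
  have hext : HasCExt F T R ((T.subtype.comp (δ ^ m₁).toMonoidHom).comp (Subgroup.inclusion hR.1)) :=
    ((mem_extSystem_iff F E hTS).mp (hle R hresm)).2 hR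
  have hW1 : ExtCondW F T (δ ^ m₁) :=
    extCondW_of_extCond F (extCond_of_hasCExt hS F hF hT E hEdec hδmF hord1 hR hext)
  -- the `p`-part
  have hg : (δ ^ p ^ a) ^ b = 1 := by
    rw [← pow_mul, ← hab, pow_orderOf_eq_one]
  have hgm : (δ ^ p ^ a) ^ m₁ = δ ^ p ^ a := pow_eq_self_of_mod hg hm₁b
  have hcomm : Commute δ (δ ^ m₁)⁻¹ := ((Commute.refl δ).pow_right m₁).inv_right
  have h2 : (δ * (δ ^ m₁)⁻¹) ^ p ^ a = 1 := by
    rw [hcomm.mul_pow, inv_pow, ← pow_mul, mul_comm, pow_mul, hgm, mul_inv_cancel]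
  obtain ⟨j, -, hj⟩ := (Nat.dvd_prime_pow hp).mp (orderOf_dvd_of_pow_eq_one h2)
  have hpp : δ * (δ ^ m₁)⁻¹ ∈ ppSet E p T :=
    ⟨Subgroup.mul_mem _ hδE (Subgroup.inv_mem _ hδm), j, hj⟩
  have hW2 : ExtCondW F T (δ * (δ ^ m₁)⁻¹) :=
    extCondW_of_mem_extSystem F E hTS (hcp T (isCentric_top E) hpp)
  have e : δ = δ * (δ ^ m₁)⁻¹ * δ ^ m₁ := by group
  rw [e]
  exact extCondW_mul F hW2 hW1

/-- the elements of `Aut_E^0(T)` satisfy the extension condition -/
theorem extCondW_of_mem_autZero [Finite S] {p : ℕ} [Fact p.Prime] (hS : IsPGroup p S)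
    (F : FusionSystem S) (hF : F.IsSaturated p) {T : Subgroup Ω} (hT : F.StronglyClosed T)
    (E : FusionSystem T) (hE : E.IsSaturated p) (hEF : E.IsSubsystemOf F)
    (hEdec : ∀ (P : Subgroup Ω), P ≤ T → ∀ (φ : P →* Ω), φ ∈ F.Hom P → Dec F E P φ)
    {δ : MulAut T} (hδ : δ ∈ autZero E (ppCore E p)) : ExtCondW F T δ := by
  refine Subgroup.closure_induction (p := fun δ _ => ExtCondW F T δ) ?_ ?_ ?_ ?_ hδ
  · intro x hx
    exact extCondW_of_mem_autZeroSet hS F hF hT E hE hEF hEdec hx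
  · exact extCondW_one F T
  · intro x y _ _ hx hy
    exact extCondW_mul F hx hy
  · intro x _ hx
    exact extCondW_inv F hx

/-- the automorphisms of `T` in the explicit model of `O^{p'}(E)` satisfy the extension condition -/
theorem extCond_of_mem_resSystem [Finite S] {p : ℕ} [Fact p.Prime] (hS : IsPGroup p S)
    (F : FusionSystem S) (hF : F.IsSaturated p) {T : Subgroup Ω} (hT : F.StronglyClosed T)
    (E : FusionSystem T) (hE : E.IsSaturated p) (hEF : E.IsSubsystemOf F)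
    (hEdec : ∀ (P : Subgroup Ω), P ≤ T → ∀ (φ : P →* Ω), φ ∈ F.Hom P → Dec F E P φ)
    (C : ResCtx E (ppCore E p)) {α : MulAut T} (hα : α ∈ (resSystem E (ppCore E p) C).autGroup T) :
    ExtCond F T α := by
  have hTS : T ≤ S := hT.1
  haveI hfinT : Finite T := finite_of_le hTS
  apply extCond_of_extCondW F hTS
  rw [mem_autGroup_iff _ le_rfl] at hα
  obtain ⟨-, α', hα', φ₀, hφ₀, e⟩ := hα
  have hcp := hasCentricPP_extSystem hS F hF hT E hE hEF hEdec
  have hle : ppCore E p ≤ extSystem F E hTS := ppCore_le_of E p hcp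
  have hφ₀T : ∀ x, φ₀ x ∈ T := ((ppCore E p).le_of_mem hφ₀).2
  have hr := range_eq_of_apply_mem (ppCore E p) hφ₀ hφ₀T
  obtain ⟨a₀, ha₀iso, ha₀x⟩ := exists_iso_of_hom (ppCore E p) hφ₀ hr
  have ha₀ : a₀ ∈ (ppCore E p).autGroup T := (isIso_iff_mem_autGroup (ppCore E p) le_rfl a₀).mp ha₀iso
  have hW0 : ExtCondW F T a₀ :=
    extCondW_of_mem_extSystem F E hTS (autGroup_mono_of_subsystem hle T ha₀)
  have hW' : ExtCondW F T α' := extCondW_of_mem_autZero hS F hF hT E hE hEF hEdec hα'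
  have e2 : α = α' * a₀ := by
    ext x
    rw [MulAut.mul_apply]
    have h1 := e x (hφ₀T x)
    have h2 : (⟨φ₀ x, hφ₀T x⟩ : T) = a₀ x := Subtype.ext (ha₀x x).symm
    rw [h2] at h1
    exact h1
  rw [e2]
  exact extCondW_mul F hW' hW0

end Cfsg.Agent.Lib.Helper26
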