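import Cfsg.Agent.Lib.Helper26.PrimeNormM

set_option autoImplicit false

namespace Cfsg.Agent.Lib.Helper26

open Cfsg Cfsg.FusionSystem

variable {Ω : Type*} [Group Ω] {S : Subgroup Ω}

theorem fusionSystem_eq_of_hom {E F : FusionSystem S} (h : ∀ P : Subgroup Ω, E.Hom P = F.Hom P) :
    E = F := by
  cases E
  cases F
  simp only [FusionSystem.mk.injEq]
  funext P
  exact h P

/-- the image of an `E`-centric subgroup under an element of `Aut_F(T)` is `E`-centric -/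
theorem isCentric_imgA {F : FusionSystem S} {T : Subgroup Ω} (hT : F.StronglyClosed T)
    {E : FusionSystem T} (hEF : E.IsSubsystemOf F)
    (hEdec : ∀ (P : Subgroup Ω), P ≤ T → ∀ (φ : P →* Ω), φ ∈ F.Hom P → Dec F E P φ)
    {R : Subgroup Ω} (hR : E.IsCentric R) {α : MulAut T} (hα : α ∈ F.autGroup T) :
    E.IsCentric (imgA α R) := by
  have hTS : T ≤ S := hT.1
  refine ⟨imgA_le α R, fun Q' hQ' => centralizerIn_le_of_isConj_centric hT hEdec hR Q' ?_⟩
  have h1 : F.IsConj R (imgA α R) := (eqA_isIso F hTS hα hR.1).isConj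
  have h2 : F.IsConj (imgA α R) Q' := by
    obtain ⟨ψ, hψ, hr⟩ := hQ'
    exact ⟨ψ, hEF _ hψ, hr⟩
  exact isConj_trans F h1 h2

/-- the `Aut_F(T)`-stable part of the hull contains the `p`-elements of the `E`-automizers of `E`-centric
subgroups -/
theorem hasCentricPP_invPart_ppHull {p : ℕ} {F : FusionSystem S} {T : Subgroup Ω}
    (hT : F.StronglyClosed T) {E : FusionSystem T} (hEF : E.IsSubsystemOf F) (hEInv : InvCond F E)
    (hEdec : ∀ (P : Subgroup Ω), P ≤ T → ∀ (φ : P →* Ω), φ ∈ F.Hom P → Dec F E P φ) :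
    HasCentricPP E p (invPart F (ppHull E p)) := by
  rintro R hR a ⟨ha, k, hk⟩
  have hRT : R ≤ T := hR.1
  rw [SetLike.mem_coe, mem_autGroup_iff _ hRT]
  refine ⟨(mem_autGroup_iff (ppHull E p) hRT).mp (hasCentricPP_ppHull E p R hR ⟨ha, k, hk⟩),
    fun α hα => ?_⟩
  have hdec : Dec F E R ((imgA α R).subtype.comp (eqA α hRT).toMonoidHom) :=
    ⟨α, hα, R.subtype, subtype_mem E hRT, fun x hx => rfl⟩
  have ha' : MulAut.congr (eqA α hRT) a ∈ E.autGroup (imgA α R) :=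
    congr_mem_autGroup_of_decT hEInv (imgA_le α R) (eqA α hRT) hdec ha
  have hc : E.IsCentric (imgA α R) := isCentric_imgA hT hEF hEdec hR hα
  have hpp : MulAut.congr (eqA α hRT) a ∈ ppSet E p (imgA α R) :=
    ⟨ha', k, by rw [← hk]; exact (MulAut.congr (eqA α hRT)).orderOf_eq a⟩
  have hH := hasCentricPP_ppHull E p (imgA α R) hc hpp
  refine ⟨_, (mem_autGroup_iff (ppHull E p) (imgA_le α R)).mp hH, ?_⟩
  intro x hx hφx hαx
  have h1 : (eqA α hRT).symm ⟨((α ⟨x, hx⟩ : T) : Ω), hαx⟩ = x := by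
    rw [MulEquiv.symm_apply_eq]
    exact Subtype.ext rfl
  change (((eqA α hRT) (a ((eqA α hRT).symm ⟨((α ⟨x, hx⟩ : T) : Ω), hαx⟩)) : imgA α R) : Ω) = _
  rw [h1, eqA_apply]
  rfl

theorem hasCentricPP_ppCore (F : FusionSystem S) (p : ℕ) : HasCentricPP F p (ppCore F p) := by
  intro R hR a ha
  exact ppGen_le_invSystem F (ppHull F p) p
    (closure_ppSet_le_of_hasCentricPP (hasCentricPP_ppHull F p)) hR (Subgroup.subset_closure ha)

/-- `O^{p'}_*(E)` is invariant under `Aut_F(T)` for `E` invariant in `F` -/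
theorem invCond_ppCore_of_invariant {p : ℕ} {F : FusionSystem S} {T : Subgroup Ω}
    (hT : F.StronglyClosed T) {E : FusionSystem T} (hEF : E.IsSubsystemOf F) (hEInv : InvCond F E)
    (hEdec : ∀ (P : Subgroup Ω), P ≤ T → ∀ (φ : P →* Ω), φ ∈ F.Hom P → Dec F E P φ) :
    InvCond F (ppCore E p) := by
  intro P hPT φ hφ α hα
  have hle1 : ppCore E p ≤ ppHull E p := ppCore_le_hull E p
  have hle2 : ppHull E p ≤ invPart F (ppHull E p) :=
    ppHull_le_of E p (hasCentricPP_invPart_ppHull hT hEF hEInv hEdec)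
  have hle3 : ppHull E p ≤ ppCore E p := ppHull_le_of E p (hasCentricPP_ppCore E p)
  obtain ⟨χ, hχ, hc⟩ := (hle2 P (hle1 P hφ)).2 α hα
  exact ⟨χ, hle3 _ hχ, fun x hφx hαx => hc x (hPT x.2) hφx hαx⟩

end Cfsg.Agent.Lib.Helper26
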