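import Cfsg.Agent.Lib.Helper26.PrimeNormN

set_option autoImplicit false

namespace Cfsg.Agent.Lib.Helper26

open Cfsg Cfsg.FusionSystem

variable {Ω : Type*} [Group Ω] {S : Subgroup Ω}

/-- `Aut_E(T)` is normalized by `Aut_F(T)` for `E` invariant in `F` -/
theorem conj_mem_autGroup_of_invCond {F : FusionSystem S} {T : Subgroup Ω} {E : FusionSystem T}
    (hEInv : InvCond F E) {δ : MulAut T} (hδ : δ ∈ E.autGroup T) {β : MulAut T}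
    (hβ : β ∈ F.autGroup T) : β * δ * β⁻¹ ∈ E.autGroup T := by
  obtain ⟨χ, hχ, hχx⟩ := hEInv T le_rfl (T.subtype.comp δ.toMonoidHom)
    ((mem_autGroup_iff E le_rfl).mp hδ) β hβ
  have himg : (T.subgroupOf T).map (T.subtype.comp β.toMonoidHom) = T := by
    ext y
    constructor
    · rintro ⟨x, -, rfl⟩
      exact (β x).2
    · intro hy
      refine ⟨β⁻¹ ⟨y, hy⟩, Subgroup.mem_subgroupOf.mpr (β⁻¹ ⟨y, hy⟩).2, ?_⟩
      show ((β (β⁻¹ ⟨y, hy⟩) : T) : Ω) = y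
      rw [MulAut.apply_inv_self]
  obtain ⟨χ', hχ', e'⟩ := hom_cast_eq E himg hχ
  rw [mem_autGroup_iff E le_rfl]
  refine mem_of_forall_eq E hχ' (fun y => ?_)
  have hy : ((β ⟨((β⁻¹ y : T) : Ω), (β⁻¹ y).2⟩ : T) : Ω) = (y : Ω) := by
    show ((β (β⁻¹ y) : T) : Ω) = y
    rw [MulAut.apply_inv_self]
  have hA : (y : Ω) ∈ (T.subgroupOf T).map (T.subtype.comp β.toMonoidHom) := by
    rw [himg]; exact y.2
  have h1 : χ' y = χ ⟨(y : Ω), hA⟩ := e' y hA y.2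
  have hA' : ((β ⟨((β⁻¹ y : T) : Ω), (β⁻¹ y).2⟩ : T) : Ω) ∈
      (T.subgroupOf T).map (T.subtype.comp β.toMonoidHom) := by
    rw [hy]; exact hA
  have h2 := hχx (β⁻¹ y) (δ (β⁻¹ y)).2 hA'
  have h3 : χ ⟨(y : Ω), hA⟩ = χ ⟨((β ⟨((β⁻¹ y : T) : Ω), (β⁻¹ y).2⟩ : T) : Ω), hA'⟩ :=
    hom_congr_val χ _ _ hy.symm
  rw [h1, h3, h2]
  rfl

/-- the generators of `Aut_E^0(T)` are permuted by `Aut_F(T)` -/
theorem conj_mem_autZeroSet {p : ℕ} {F : FusionSystem S} {T : Subgroup Ω}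
    (hT : F.StronglyClosed T) {E : FusionSystem T} (hEF : E.IsSubsystemOf F) (hEInv : InvCond F E)
    (hEdec : ∀ (P : Subgroup Ω), P ≤ T → ∀ (φ : P →* Ω), φ ∈ F.Hom P → Dec F E P φ)
    {δ : MulAut T} (hδ : δ ∈ autZeroSet E (ppCore E p)) {β : MulAut T}
    (hβ : β ∈ F.autGroup T) : β * δ * β⁻¹ ∈ autZeroSet E (ppCore E p) := by
  obtain ⟨hδE, R, hR, hres⟩ := hδ
  have hRT : R ≤ T := hR.1
  have hc : E.IsCentric (imgA β R) := isCentric_imgA hT hEF hEdec hR hβ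
  obtain ⟨χ, hχ, hχx⟩ := invCond_ppCore_of_invariant (p := p) hT hEF hEInv hEdec R hRT _ hres β hβ
  refine ⟨conj_mem_autGroup_of_invCond hEInv hδE hβ, imgA β R, hc, mem_of_forall_eq _ hχ ?_⟩
  rintro ⟨y, hy⟩
  obtain ⟨x, hx, rfl⟩ := mem_imgA.mp hy
  have h2 := hχx ⟨x, hx⟩ (δ ⟨x, hRT hx⟩).2 hy
  refine Eq.trans ?_ h2.symm
  show (((β * δ * β⁻¹) (β x) : T) : Ω) = _
  rw [MulAut.mul_apply, MulAut.mul_apply, MulAut.inv_apply_self]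
  rfl

/-- `Aut_E^0(T)` is normalized by `Aut_F(T)` -/
theorem conj_mem_autZero {p : ℕ} {F : FusionSystem S} {T : Subgroup Ω}
    (hT : F.StronglyClosed T) {E : FusionSystem T} (hEF : E.IsSubsystemOf F) (hEInv : InvCond F E)
    (hEdec : ∀ (P : Subgroup Ω), P ≤ T → ∀ (φ : P →* Ω), φ ∈ F.Hom P → Dec F E P φ)
    {δ : MulAut T} (hδ : δ ∈ autZero E (ppCore E p)) {β : MulAut T}
    (hβ : β ∈ F.autGroup T) : β * δ * β⁻¹ ∈ autZero E (ppCore E p) := by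
  have h : F.autGroup T ≤ Subgroup.normalizer (Subgroup.closure (autZeroSet E (ppCore E p)) : Set _) :=
    le_normalizer_closure_of_forall_conj_mem
      (fun b hb a ha => conj_mem_autZeroSet hT hEF hEInv hEdec ha hb)
  exact (Subgroup.mem_normalizer_iff.mp (h hβ) δ).mp hδ

/-- the explicit model of `O^{p'}(E)` is invariant under `Aut_F(T)` -/
theorem invCond_resSystem {p : ℕ} {F : FusionSystem S} {T : Subgroup Ω}
    (hT : F.StronglyClosed T) {E : FusionSystem T} (hEF : E.IsSubsystemOf F) (hEInv : InvCond F E)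
    (hEdec : ∀ (P : Subgroup Ω), P ≤ T → ∀ (φ : P →* Ω), φ ∈ F.Hom P → Dec F E P φ)
    (C : ResCtx E (ppCore E p)) : InvCond F (resSystem E (ppCore E p) C) := by
  intro P hPT φ hφ β hβ
  obtain ⟨hφE, α', hα', φ₀, hφ₀, e⟩ := hφ
  obtain ⟨χ, hχ, hχx⟩ := hEInv P hPT φ hφE β hβ
  obtain ⟨χ₀, hχ₀, hχ₀x⟩ := invCond_ppCore_of_invariant (p := p) hT hEF hEInv hEdec P hPT φ₀ hφ₀ β hβ
  have hφ₀T : ∀ x, φ₀ x ∈ T := ((ppCore E p).le_of_mem hφ₀).2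
  have hφT : ∀ x, φ x ∈ T := (E.le_of_mem hφE).2
  refine ⟨χ, ⟨hχ, β * α' * β⁻¹, conj_mem_autZero hT hEF hEInv hEdec hα' hβ, χ₀, hχ₀, ?_⟩, hχx⟩
  rintro ⟨y, hy⟩ hy0
  obtain ⟨x, hx, rfl⟩ := mem_imgA.mp hy
  have h1 := hχx ⟨x, hx⟩ (hφT _) hy
  have h2 := hχ₀x ⟨x, hx⟩ (hφ₀T _) hy
  have h3 : (⟨χ₀ ⟨((β x : T) : Ω), hy⟩, hy0⟩ : T) = β ⟨φ₀ ⟨x, hx⟩, hφ₀T _⟩ := Subtype.ext h2
  rw [h3, h1, MulAut.mul_apply, MulAut.mul_apply, MulAut.inv_apply_self]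
  have h4 : (⟨φ ⟨x, hx⟩, hφT _⟩ : T) = α' ⟨φ₀ ⟨x, hx⟩, hφ₀T _⟩ := Subtype.ext (e ⟨x, hx⟩ (hφ₀T _))
  rw [h4]

/-- the Frattini condition for the explicit model of `O^{p'}(E)` -/
theorem dec_resSystem [Finite S] {p : ℕ} [Fact p.Prime] (hS : IsPGroup p S)
    {F : FusionSystem S} {T : Subgroup Ω} (hTS : T ≤ S) {E : FusionSystem T} (hEs : E.IsSaturated p)
    (hEF : E.IsSubsystemOf F)
    (hEdec : ∀ (P : Subgroup Ω), P ≤ T → ∀ (φ : P →* Ω), φ ∈ F.Hom P → Dec F E P φ)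
    (C : ResCtx E (ppCore E p)) (P : Subgroup Ω) (hPT : P ≤ T) (φ : P →* Ω) (hφ : φ ∈ F.Hom P) :
    Dec F (resSystem E (ppCore E p) C) P φ := by
  haveI hfinT : Finite T := finite_of_le hTS
  have hT : IsPGroup p T := hS.to_le hTS
  obtain ⟨α, hα, φ₁, hφ₁, e₁⟩ := hEdec P hPT φ hφ
  obtain ⟨β, hβ, φ₀, hφ₀, e₀⟩ := dec_ppCore hT E hEs hφ₁
  have hβF : β ∈ F.autGroup T := autGroup_mono_of_subsystem hEF T hβ
  refine ⟨α * β, Subgroup.mul_mem _ hα hβF, φ₀, le_resSystem C P hφ₀, fun x hx => ?_⟩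
  have hφ₁T : φ₁ x ∈ T := (E.le_of_mem hφ₁).2 x
  rw [e₁ x hφ₁T, MulAut.mul_apply]
  congr 2
  exact Subtype.ext (e₀ x hx)

end Cfsg.Agent.Lib.Helper26
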