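import Cfsg.Agent.Lib.Helper26.PrimeNormO

set_option autoImplicit false

namespace Cfsg.Agent.Lib.Helper26

open Cfsg Cfsg.FusionSystem

variable {Ω : Type*} [Group Ω] {S : Subgroup Ω}

/-- the explicit model of `O^{p'}(F)` lies in every saturated subsystem of index prime to `p` -/
theorem resSystem_le_of_primeIndex [Finite S] {p : ℕ} [Fact p.Prime] (hS : IsPGroup p S)
    (F : FusionSystem S) (hF : F.IsSaturated p) (C : ResCtx F (ppCore F p))
    (D : FusionSystem S) (hDs : D.IsSaturated p) (hD : D.HasPrimeToPIndexIn F p) :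
    resSystem F (ppCore F p) C ≤ D := by
  obtain ⟨hDF, hDp⟩ := hD
  have hcp : HasCentricPP F p D := by
    intro R hR a ha
    apply hDp R hR.1
    rw [ppGen_eq]
    exact Subgroup.subset_closure ha
  have hE₀D : ppCore F p ≤ D := ppCore_le_of F p hcp
  have h𝔄D : autZero F (ppCore F p) ≤ D.autGroup S :=
    autZero_le_autGroup hS F hF (ppCore F p) D hDs hDF hE₀D
  intro P φ hφ
  obtain ⟨-, α, hα, φ₀, hφ₀, e⟩ := hφ
  have hαD : S.subtype.comp α.toMonoidHom ∈ D.Hom S := (mem_autGroup_iff D le_rfl).mp (h𝔄D hα)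
  have hφ₀S : ∀ x, φ₀ x ∈ S := ((ppCore F p).le_of_mem hφ₀).2
  exact mem_of_forall_eq D (D.comp_mem (hE₀D P hφ₀) hαD hφ₀S) (fun x => e x (hφ₀S x))

/-- `O^{p'}(F)` is the explicit model -/
theorem residual_eq_resSystem [Finite S] {p : ℕ} [Fact p.Prime] (hS : IsPGroup p S)
    (F : FusionSystem S) (hF : F.IsSaturated p) (C : ResCtx F (ppCore F p))
    (D : FusionSystem S) (hD : F.IsPPrimeResidual p D) : D = resSystem F (ppCore F p) C := by
  obtain ⟨h1, h2⟩ := resSystem_primeIndex hS F hF C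
  have h3 : D.IsSubsystemOf (resSystem F (ppCore F p) C) := hD.2.2 _ h1 h2
  have h4 := resSystem_le_of_primeIndex hS F hF C D hD.1 hD.2.1
  exact fusionSystem_eq_of_hom (fun P => Set.Subset.antisymm (h3 P) (h4 P))

/-- `O^{p'}(E)` is normal in `F` for `E` weakly normal in `F` -/
theorem residual_isNormalIn [Finite S] {p : ℕ} [Fact p.Prime] (hS : IsPGroup p S)
    (F : FusionSystem S) (hF : F.IsSaturated p) {T : Subgroup Ω} (E : FusionSystem T)
    (hE : E.IsWeaklyNormalIn F p) (D : FusionSystem T) (hD : E.IsPPrimeResidual p D) :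
    D.IsNormalIn F p := by
  obtain ⟨hEs, -, hEF, hTcl, hEInv, hEdec⟩ := hE
  have hTS : T ≤ S := hTcl.1
  haveI hfinT : Finite T := finite_of_le hTS
  have hT : IsPGroup p T := hS.to_le hTS
  have C := resCtx_ppCore hT E hEs
  obtain rfl := residual_eq_resSystem hT E hEs C D hD
  refine ⟨⟨hD.1, hF, fun P φ hφ => hEF P (resSystem_le C P hφ), hTcl,
    invCond_resSystem hTcl hEF hEInv hEdec C, dec_resSystem hS hTS hEs hEF hEdec C⟩, ?_⟩
  intro α hα
  exact extCond_of_mem_resSystem hS F hF hTcl E hEs hEF hEdec C hα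

end Cfsg.Agent.Lib.Helper26
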