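import Cfsg.Agent.Lib.Helper26.PrimeIdx3

set_option autoImplicit false

namespace Cfsg.Agent.Lib.Helper26

open Cfsg Cfsg.FusionSystem

variable {Ω : Type*} [Group Ω] {S : Subgroup Ω}

/-- the condition that a system contains all `p`-elements of the `F`-automizers of `F`-centric subgroups -/
def HasCentricPP (F : FusionSystem S) (p : ℕ) (D : FusionSystem S) : Prop :=
  ∀ R : Subgroup Ω, F.IsCentric R → ppSet F p R ⊆ D.autGroup R

/-- the smallest subsystem of `F` containing the `p`-elements of the automizers of centric subgroups -/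
def ppHull (F : FusionSystem S) (p : ℕ) : FusionSystem S where
  Hom P := {φ | φ ∈ F.Hom P ∧ ∀ D : FusionSystem S, HasCentricPP F p D → φ ∈ D.Hom P}
  le_of_mem h := F.le_of_mem h.1
  injective_of_mem h := F.injective_of_mem h.1
  conj_mem hP hg := ⟨F.conj_mem hP hg, fun D _ => D.conj_mem hP hg⟩
  comp_mem h1 h2 h := ⟨F.comp_mem h1.1 h2.1 h, fun D hD => D.comp_mem (h1.2 D hD) (h2.2 D hD) h⟩
  inv_mem := by
    intro P φ h
    obtain ⟨ψ, hψ, hψx⟩ := F.inv_mem h.1
    refine ⟨ψ, ⟨hψ, fun D hD => ?_⟩, hψx⟩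
    obtain ⟨ψ', hψ', hψ'x⟩ := D.inv_mem (h.2 D hD)
    refine mem_of_forall_eq D hψ' ?_
    rintro ⟨_, x, rfl⟩
    rw [hψx, hψ'x]

theorem ppHull_le (F : FusionSystem S) (p : ℕ) : ppHull F p ≤ F := fun _ _ h => h.1

theorem ppHull_le_of (F : FusionSystem S) (p : ℕ) {D : FusionSystem S} (hD : HasCentricPP F p D) :
    ppHull F p ≤ D := fun _ _ h => h.2 D hD

theorem hasCentricPP_ppHull (F : FusionSystem S) (p : ℕ) : HasCentricPP F p (ppHull F p) := by
  intro R hR a ha
  have hRS : R ≤ S := hR.1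
  rw [SetLike.mem_coe, mem_autGroup_iff _ hRS]
  refine ⟨(mem_autGroup_iff F hRS).mp ha.1, fun D hD => ?_⟩
  exact (mem_autGroup_iff D hRS).mp (hD R hR ha)

theorem closure_ppSet_le_of_hasCentricPP {F : FusionSystem S} {p : ℕ} {D : FusionSystem S}
    (hD : HasCentricPP F p D) (R : Subgroup Ω) (hR : F.IsCentric R) :
    Subgroup.closure (ppSet F p R) ≤ D.autGroup R :=
  (Subgroup.closure_le _).mpr (hD R hR)

/-- the `Aut_F(S)`-invariant part of the hull: the candidate for `O^{p'}_*(F)` -/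
def ppCore (F : FusionSystem S) (p : ℕ) : FusionSystem S := invSystem F (ppHull F p)

theorem ppCore_le (F : FusionSystem S) (p : ℕ) : ppCore F p ≤ F := invSystem_le F _

theorem ppCore_le_hull (F : FusionSystem S) (p : ℕ) : ppCore F p ≤ ppHull F p := invSystem_le' F _

theorem ppCore_le_of (F : FusionSystem S) (p : ℕ) {D : FusionSystem S} (hD : HasCentricPP F p D) :
    ppCore F p ≤ D := fun P φ h => ppHull_le_of F p hD P (ppCore_le_hull F p P h)

theorem ppCore_invCond (F : FusionSystem S) (p : ℕ) : InvCond F (ppCore F p) :=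
  invSystem_invCond F _

theorem closure_ppSet_le_ppCore [Finite S] {p : ℕ} [Fact p.Prime] (hS : IsPGroup p S)
    (F : FusionSystem S) (hF : F.IsSaturated p) {P : Subgroup Ω} (hPS : P ≤ S) :
    Subgroup.closure (ppSet F p P) ≤ (ppCore F p).autGroup P :=
  closure_ppSet_le_invSystem hS F hF (ppHull F p)
    (closure_ppSet_le_of_hasCentricPP (hasCentricPP_ppHull F p)) hPS

theorem dec_ppCore [Finite S] {p : ℕ} [Fact p.Prime] (hS : IsPGroup p S)
    (F : FusionSystem S) (hF : F.IsSaturated p) {P : Subgroup Ω} {φ : P →* Ω} (hφ : φ ∈ F.Hom P) :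
    Dec F (ppCore F p) P φ :=
  dec_congr (fun x => rfl)
    (decAll_of_centric_ppGen hS F hF (ppHull F p)
      (closure_ppSet_le_of_hasCentricPP (hasCentricPP_ppHull F p)) hφ P le_rfl (source_le F hφ))

end Cfsg.Agent.Lib.Helper26
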