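import Cfsg.Agent.Lib.Helper26.PrimeRes1

set_option autoImplicit false

namespace Cfsg.Agent.Lib.Helper26

open Cfsg Cfsg.FusionSystem

variable {Ω : Type*} [Group Ω] {S : Subgroup Ω}

/-- `φ = α ∘ φ₀` with `α` in the subgroup `𝔄` of `Aut(S)` and `φ₀` a map of `E` -/
def DecA (𝔄 : Subgroup (MulAut S)) (E : FusionSystem S) (P : Subgroup Ω) (φ : P →* Ω) : Prop :=
  ∃ α ∈ 𝔄, ∃ φ₀ ∈ E.Hom P, ∀ (x : P) (hx : φ₀ x ∈ S), φ x = ((α ⟨φ₀ x, hx⟩ : S) : Ω)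

theorem decA_congr {𝔄 : Subgroup (MulAut S)} {E : FusionSystem S} {P : Subgroup Ω}
    {φ φ' : P →* Ω} (h : ∀ x, φ' x = φ x) (hφ : DecA 𝔄 E P φ) : DecA 𝔄 E P φ' := by
  obtain ⟨α, hα, φ₀, hφ₀, e⟩ := hφ
  exact ⟨α, hα, φ₀, hφ₀, fun x hx => (h x).trans (e x hx)⟩

theorem decA_of_mem {𝔄 : Subgroup (MulAut S)} {E : FusionSystem S} {P : Subgroup Ω}
    {φ : P →* Ω} (hφ : φ ∈ E.Hom P) : DecA 𝔄 E P φ :=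
  ⟨1, Subgroup.one_mem _, φ, hφ, fun _ _ => rfl⟩

theorem decA_comp {F E : FusionSystem S} (hInv : InvCond F E) {𝔄 : Subgroup (MulAut S)}
    (h𝔄 : 𝔄 ≤ F.autGroup S)
    {P Q : Subgroup Ω} {φ : P →* Ω} {ψ : Q →* Ω} (hQT : Q ≤ S)
    (hφ : DecA 𝔄 E P φ) (hψ : DecA 𝔄 E Q ψ) (h : ∀ x, φ x ∈ Q) :
    DecA 𝔄 E P (ψ.comp (φ.codRestrict Q h)) := by
  obtain ⟨α₁, hα₁, φ₁, hφ₁, e₁⟩ := hφ
  obtain ⟨α₂, hα₂, φ₂, hφ₂, e₂⟩ := hψ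
  have hφ₁T : ∀ x, φ₁ x ∈ S := (E.le_of_mem hφ₁).2
  have hφ₂T : ∀ x, φ₂ x ∈ S := (E.le_of_mem hφ₂).2
  obtain ⟨χ, hχ, hχe⟩ := hInv Q hQT φ₂ hφ₂ α₁⁻¹ (h𝔄 (Subgroup.inv_mem _ hα₁))
  have hφ₁eq : ∀ x : P, φ₁ x = ((α₁⁻¹ ⟨φ x, hQT (h x)⟩ : S) : Ω) := by
    intro x
    have h1 : (⟨φ x, hQT (h x)⟩ : S) = α₁ ⟨φ₁ x, hφ₁T x⟩ := Subtype.ext (e₁ x (hφ₁T x))
    rw [h1, MulAut.inv_apply_self]
  have hR : ∀ x : P, φ₁ x ∈ (Q.subgroupOf S).map (S.subtype.comp α₁⁻¹.toMonoidHom) := by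
    intro x
    rw [hφ₁eq]
    exact mem_map_aut hQT α₁⁻¹ ⟨φ x, h x⟩
  refine ⟨α₂ * α₁, Subgroup.mul_mem _ hα₂ hα₁, χ.comp (φ₁.codRestrict _ hR),
    E.comp_mem hφ₁ hχ hR, fun x hx => ?_⟩
  have h2 : (φ₁.codRestrict _ hR) x =
      ⟨((α₁⁻¹ ⟨φ x, hQT (h x)⟩ : S) : Ω), mem_map_aut hQT α₁⁻¹ ⟨φ x, h x⟩⟩ :=
    Subtype.ext (hφ₁eq x)
  have h3 : (χ.comp (φ₁.codRestrict _ hR)) x = ((α₁⁻¹ ⟨φ₂ ⟨φ x, h x⟩, hφ₂T _⟩ : S) : Ω) := by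
    show χ ((φ₁.codRestrict _ hR) x) = _
    rw [h2]
    exact hχe ⟨φ x, h x⟩ (hφ₂T _) _
  have h4 : (⟨(χ.comp (φ₁.codRestrict _ hR)) x, hx⟩ : S) = α₁⁻¹ ⟨φ₂ ⟨φ x, h x⟩, hφ₂T _⟩ :=
    Subtype.ext h3
  rw [h4, MulAut.mul_apply, MulAut.apply_inv_self]
  exact e₂ ⟨φ x, h x⟩ (hφ₂T _)

theorem decA_inv {F E : FusionSystem S} (hInv : InvCond F E) {𝔄 : Subgroup (MulAut S)}
    (h𝔄 : 𝔄 ≤ F.autGroup S)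
    {P : Subgroup Ω} {φ : P →* Ω} (hPT : P ≤ S) (hφ : DecA 𝔄 E P φ) {R : Subgroup Ω} {ψ : R →* Ω}
    (h : ∀ y : R, ∃ x : P, φ x = (y : Ω) ∧ ψ y = (x : Ω)) : DecA 𝔄 E R ψ := by
  obtain ⟨α, hα, φ₀, hφ₀, e⟩ := hφ
  have hφ₀T : ∀ x, φ₀ x ∈ S := (E.le_of_mem hφ₀).2
  obtain ⟨ι₀, hι₀, hι₀x⟩ := E.inv_mem hφ₀
  have hrT : φ₀.range ≤ S := by
    rintro _ ⟨x, rfl⟩
    exact hφ₀T x
  obtain ⟨χ, hχ, hχe⟩ := hInv φ₀.range hrT ι₀ hι₀ α (h𝔄 hα)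
  have hRA : R ≤ (φ₀.range.subgroupOf S).map (S.subtype.comp α.toMonoidHom) := by
    intro y hy
    obtain ⟨x, hx, -⟩ := h ⟨y, hy⟩
    have : y = ((α ⟨φ₀ x, hφ₀T x⟩ : S) : Ω) := by
      rw [← e x (hφ₀T x)]
      exact hx.symm
    rw [this]
    exact mem_map_aut hrT α ⟨φ₀ x, ⟨x, rfl⟩⟩
  refine ⟨α⁻¹, Subgroup.inv_mem _ hα, χ.comp (Subgroup.inclusion hRA), restrict_mem E hχ hRA,
    fun y hy => ?_⟩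
  obtain ⟨x, hx, hψy⟩ := h y
  have h1 : (y : Ω) = ((α ⟨φ₀ x, hφ₀T x⟩ : S) : Ω) := by
    rw [← e x (hφ₀T x)]
    exact hx.symm
  have h2 : Subgroup.inclusion hRA y =
      ⟨((α ⟨φ₀ x, hφ₀T x⟩ : S) : Ω), mem_map_aut hrT α ⟨φ₀ x, ⟨x, rfl⟩⟩⟩ := Subtype.ext h1
  have hxT : (x : Ω) ∈ S := hPT x.2
  have h3 : (χ.comp (Subgroup.inclusion hRA)) y = ((α ⟨x, hxT⟩ : S) : Ω) := by
    show χ (Subgroup.inclusion hRA y) = _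
    rw [h2]
    have := hχe ⟨φ₀ x, ⟨x, rfl⟩⟩ (by rw [hι₀x]; exact hxT) (mem_map_aut hrT α ⟨φ₀ x, ⟨x, rfl⟩⟩)
    rw [this]
    congr 2
    exact Subtype.ext (hι₀x x)
  have h4 : (⟨(χ.comp (Subgroup.inclusion hRA)) y, hy⟩ : S) = α ⟨x, hxT⟩ := Subtype.ext h3
  rw [h4, MulAut.inv_apply_self, hψy]

/-- the maps `α ∘ φ₀` with `α ∈ 𝔄` and `φ₀` in `E` -/
def prodPred (F E : FusionSystem S) (hInv : InvCond F E) (𝔄 : Subgroup (MulAut S))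
    (h𝔄 : 𝔄 ≤ F.autGroup S) : GoodPred F where
  Good P φ := DecA 𝔄 E P φ
  conj := by
    intro P g hP hg
    exact decA_of_mem (E.conj_mem hP hg)
  comp := by
    intro P Q φ ψ _ hψ hgφ hgψ h
    exact decA_comp hInv h𝔄 (source_le F hψ) hgφ hgψ h
  inv := by
    intro P φ hφ hgφ ψ _ hψx
    refine decA_inv hInv h𝔄 (source_le F hφ) hgφ ?_
    rintro ⟨_, x, rfl⟩
    exact ⟨x, rfl, hψx x⟩

/-- the product system `𝔄 · E` -/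
def prodSystem (F E : FusionSystem S) (hInv : InvCond F E) (𝔄 : Subgroup (MulAut S))
    (h𝔄 : 𝔄 ≤ F.autGroup S) : FusionSystem S := (prodPred F E hInv 𝔄 h𝔄).system

theorem mem_prodSystem_iff {F E : FusionSystem S} {hInv : InvCond F E} {𝔄 : Subgroup (MulAut S)}
    {h𝔄 : 𝔄 ≤ F.autGroup S} {P : Subgroup Ω} {φ : P →* Ω} :
    φ ∈ (prodSystem F E hInv 𝔄 h𝔄).Hom P ↔ φ ∈ F.Hom P ∧ DecA 𝔄 E P φ := Iff.rfl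

theorem prodSystem_le (F E : FusionSystem S) (hInv : InvCond F E) (𝔄 : Subgroup (MulAut S))
    (h𝔄 : 𝔄 ≤ F.autGroup S) : prodSystem F E hInv 𝔄 h𝔄 ≤ F := fun _ _ h => h.1

theorem le_prodSystem (F E : FusionSystem S) (hEF : E ≤ F) (hInv : InvCond F E)
    (𝔄 : Subgroup (MulAut S)) (h𝔄 : 𝔄 ≤ F.autGroup S) : E ≤ prodSystem F E hInv 𝔄 h𝔄 :=
  fun P _ h => ⟨hEF P h, decA_of_mem h⟩

theorem le_autGroup_prodSystem (F E : FusionSystem S) (hInv : InvCond F E)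
    (𝔄 : Subgroup (MulAut S)) (h𝔄 : 𝔄 ≤ F.autGroup S) :
    𝔄 ≤ (prodSystem F E hInv 𝔄 h𝔄).autGroup S := by
  intro α hα
  rw [mem_autGroup_iff _ le_rfl]
  refine ⟨(mem_autGroup_iff F le_rfl).mp (h𝔄 hα), α, hα, S.subtype, subtype_mem E le_rfl, ?_⟩
  intro x hx
  rfl

end Cfsg.Agent.Lib.Helper26
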