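import Cfsg.Agent.Lib.Helper26.PrimeRes2
import Cfsg.Agent.Lib.Helper27.FusCentric2

set_option autoImplicit false

namespace Cfsg.Agent.Lib.Helper26

open Cfsg Cfsg.FusionSystem

variable {Ω : Type*} [Group Ω] {S : Subgroup Ω}

/-- the automorphisms in `Aut_F(S)` whose restriction to some `F`-centric subgroup is a map of `E₀` -/
def autZeroSet (F E₀ : FusionSystem S) : Set (MulAut S) :=
  {α | α ∈ F.autGroup S ∧ ∃ (P : Subgroup Ω) (hP : F.IsCentric P),
    (S.subtype.comp α.toMonoidHom).comp (Subgroup.inclusion hP.1) ∈ E₀.Hom P}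

/-- `Aut_F^0(S)` -/
def autZero (F E₀ : FusionSystem S) : Subgroup (MulAut S) := Subgroup.closure (autZeroSet F E₀)

theorem autZero_le (F E₀ : FusionSystem S) : autZero F E₀ ≤ F.autGroup S :=
  (Subgroup.closure_le _).mpr (fun _ h => h.1)

theorem mem_autZero_of_restrict {F E₀ : FusionSystem S} {α : MulAut S} (hα : α ∈ F.autGroup S)
    {P : Subgroup Ω} (hP : F.IsCentric P) {φ : P →* Ω} (hφ : φ ∈ E₀.Hom P)
    (h : ∀ x : P, φ x = ((α ⟨x, hP.1 x.2⟩ : S) : Ω)) : α ∈ autZero F E₀ := by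
  apply Subgroup.subset_closure
  refine ⟨hα, P, hP, mem_of_forall_eq E₀ hφ (fun x => ?_)⟩
  rw [h x]
  rfl

/-- `Aut_F^0(S)` lies in every saturated subsystem containing `E₀` -/
theorem autZero_le_autGroup [Finite S] {p : ℕ} [Fact p.Prime] (hS : IsPGroup p S)
    (F : FusionSystem S) (hF : F.IsSaturated p) (E₀ : FusionSystem S) (D : FusionSystem S)
    (hD : D.IsSaturated p) (hDF : D ≤ F) (hE₀D : E₀ ≤ D) : autZero F E₀ ≤ D.autGroup S := by
  refine (Subgroup.closure_le _).mpr ?_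
  rintro α ⟨hα, P, hP, hres⟩
  rw [SetLike.mem_coe, mem_autGroup_iff D le_rfl]
  exact Cfsg.Agent.Lib.Helper27.mem_of_restrict_centric hS F hF D hD hDF _ hP.1 le_rfl hP rfl
    ((mem_autGroup_iff F le_rfl).mp hα) (hE₀D P hres)

end Cfsg.Agent.Lib.Helper26
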