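import Cfsg.Agent.Lib.Helper26.PrimeRes3
import Cfsg.Agent.Lib.Helper26.PPowNormal2

set_option autoImplicit false

namespace Cfsg.Agent.Lib.Helper26

open Cfsg Cfsg.FusionSystem

variable {Ω : Type*} [Group Ω] {S : Subgroup Ω}

theorem autMap_normalizerIn_le (α : MulAut S) {Q : Subgroup Ω} (hQS : Q ≤ S) :
    autMap α (normalizerIn S Q) ≤ normalizerIn S (autMap α Q) := by
  intro y hy
  obtain ⟨n, rfl⟩ := (mem_autMap (inf_le_left : normalizerIn S Q ≤ S)).mp hy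
  have hnN : (n : Ω) ∈ Subgroup.normalizer (Q : Set Ω) := n.2.2
  refine ⟨(α _).2, mem_normalizer_of_forall ?_ ?_⟩
  · intro z hz
    obtain ⟨q, rfl⟩ := (mem_autMap hQS).mp hz
    have hc : (n : Ω) * q * (n : Ω)⁻¹ ∈ Q := conj_mem_of_mem_normalizer hnN q
    have e : ((α ⟨n, n.2.1⟩ : S) : Ω) * ((α ⟨q, hQS q.2⟩ : S) : Ω) * ((α ⟨n, n.2.1⟩ : S) : Ω)⁻¹ =
        ((α ⟨(n : Ω) * q * (n : Ω)⁻¹, hQS hc⟩ : S) : Ω) := by
      have : (⟨(n : Ω) * q * (n : Ω)⁻¹, hQS hc⟩ : S) = ⟨n, n.2.1⟩ * ⟨q, hQS q.2⟩ * (⟨n, n.2.1⟩ : S)⁻¹ :=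
        Subtype.ext rfl
      rw [this, map_mul, map_mul, map_inv]
      rfl
    rw [e]
    exact (mem_autMap hQS).mpr ⟨⟨_, hc⟩, rfl⟩
  · intro z hz
    obtain ⟨q, rfl⟩ := (mem_autMap hQS).mp hz
    have hc : (n : Ω)⁻¹ * q * (n : Ω) ∈ Q := conj_inv_mem_of_mem_normalizer hnN q
    have e : ((α ⟨n, n.2.1⟩ : S) : Ω)⁻¹ * ((α ⟨q, hQS q.2⟩ : S) : Ω) * ((α ⟨n, n.2.1⟩ : S) : Ω) =
        ((α ⟨(n : Ω)⁻¹ * q * (n : Ω), hQS hc⟩ : S) : Ω) := by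
      have : (⟨(n : Ω)⁻¹ * q * (n : Ω), hQS hc⟩ : S) = (⟨n, n.2.1⟩ : S)⁻¹ * ⟨q, hQS q.2⟩ * ⟨n, n.2.1⟩ :=
        Subtype.ext rfl
      rw [this, map_mul, map_mul, map_inv]
      rfl
    rw [e]
    exact (mem_autMap hQS).mpr ⟨⟨_, hc⟩, rfl⟩

theorem card_autMap (α : MulAut S) {P : Subgroup Ω} (hPS : P ≤ S) :
    Nat.card (autMap α P) = Nat.card P :=
  (Nat.card_congr (eqA α hPS).toEquiv).symm

theorem card_normalizerIn_autMap_le [Finite S] (α : MulAut S) {Q : Subgroup Ω} (hQS : Q ≤ S) :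
    Nat.card (normalizerIn S (autMap α Q)) ≤ Nat.card (normalizerIn S Q) := by
  have h1 := autMap_normalizerIn_le α⁻¹ (autMap_le α Q)
  rw [← autMap_mul α⁻¹ α hQS, inv_mul_cancel, autMap_one hQS] at h1
  have hfin : Finite ↥(normalizerIn S Q) := finite_of_le inf_le_left
  have h2 : Nat.card (autMap α⁻¹ (normalizerIn S (autMap α Q))) =
      Nat.card (normalizerIn S (autMap α Q)) := card_autMap α⁻¹ inf_le_left
  rw [← h2]
  exact Subgroup.card_le_of_le h1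

/-- if every map of `F` is an automorphism of `S` after a map of `E₁ ≤ E`, then fully `E`-normalized
subgroups are fully `F`-normalized -/
theorem fullyNormalized_of_dec [Finite S] {F E E₁ : FusionSystem S} (hE₁ : E₁ ≤ E)
    (hdec : ∀ (P : Subgroup Ω) (φ : P →* Ω), φ ∈ F.Hom P → Dec F E₁ P φ) {Q : Subgroup Ω}
    (hQ : E.IsFullyNormalized Q) : F.IsFullyNormalized Q := by
  refine ⟨hQ.1, ?_⟩
  rintro Q' ⟨φ, hφ, hr⟩
  obtain ⟨α, hα, φ₀, hφ₀, e⟩ := hdec Q φ hφ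
  have hφ₀S : ∀ x, φ₀ x ∈ S := (E₁.le_of_mem hφ₀).2
  have h1 := hQ.2 φ₀.range ⟨φ₀, hE₁ Q hφ₀, rfl⟩
  have hQ' : Q' = autMap α φ₀.range := by
    ext y
    rw [← hr, mem_autMap (range_le E₁ hφ₀)]
    constructor
    · rintro ⟨x, rfl⟩
      exact ⟨⟨φ₀ x, ⟨x, rfl⟩⟩, (e x (hφ₀S x)).symm⟩
    · rintro ⟨⟨_, x, rfl⟩, rfl⟩
      exact ⟨x, e x (hφ₀S x)⟩
  rw [hQ']
  exact (card_normalizerIn_autMap_le α (range_le E₁ hφ₀)).trans h1

theorem fullyAutomized_of_le [Finite S] {p : ℕ} [Fact p.Prime] {F E : FusionSystem S}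
    (hEF : E.IsSubsystemOf F) {Q : Subgroup Ω} (hfa : F.IsFullyAutomized p Q) :
    E.IsFullyAutomized p Q := by
  have hQS : Q ≤ S := hfa.1
  have hfinQ : Finite Q := finite_of_le hQS
  have h1 := isSylowIn18_of_fullyAutomized F hfa
  have h2 := h1.of_le (autInducedBy_le_autGroup E hQS) (autGroup_mono_of_subsystem hEF Q)
  exact ⟨hQS, h2.exists_sylow⟩

end Cfsg.Agent.Lib.Helper26
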