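import Cfsg.Agent.Lib.Helper26.PrimeRes4
import Cfsg.Agent.Lib.Helper26.SatCrit20

set_option autoImplicit false

namespace Cfsg.Agent.Lib.Helper26

open Cfsg Cfsg.FusionSystem

variable {Ω : Type*} [Group Ω] {S : Subgroup Ω}

/-- the hypotheses on `E₀ = O^{p'}_*(F)` used to build `O^{p'}(F)` -/
structure ResCtx (F E₀ : FusionSystem S) : Prop where
  hle : E₀ ≤ F
  hInv : InvCond F E₀
  hdec : ∀ (P : Subgroup Ω) (φ : P →* Ω), φ ∈ F.Hom P → Dec F E₀ P φ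
  hgen : ∀ D : FusionSystem S, (∀ P : Subgroup Ω, F.IsCentric P → E₀.Hom P ⊆ D.Hom P) → E₀ ≤ D

/-- the system `Aut_F^0(S) · E₀` -/
def resSystem (F E₀ : FusionSystem S) (C : ResCtx F E₀) : FusionSystem S :=
  prodSystem F E₀ C.hInv (autZero F E₀) (autZero_le F E₀)

theorem resSystem_le {F E₀ : FusionSystem S} (C : ResCtx F E₀) : resSystem F E₀ C ≤ F :=
  prodSystem_le F E₀ C.hInv _ _

theorem le_resSystem {F E₀ : FusionSystem S} (C : ResCtx F E₀) : E₀ ≤ resSystem F E₀ C :=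
  le_prodSystem F E₀ C.hle C.hInv _ _

theorem autZero_le_resSystem {F E₀ : FusionSystem S} (C : ResCtx F E₀) :
    autZero F E₀ ≤ (resSystem F E₀ C).autGroup S :=
  le_autGroup_prodSystem F E₀ C.hInv _ _

theorem isConj_of_le {E F : FusionSystem S} (h : E ≤ F) {P Q : Subgroup Ω} (hPQ : E.IsConj P Q) :
    F.IsConj P Q := by
  obtain ⟨φ, hφ, hr⟩ := hPQ
  exact ⟨φ, h P hφ, hr⟩

theorem isCentric_top [Finite S] (F : FusionSystem S) : F.IsCentric S := by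
  refine ⟨le_rfl, fun Q hQ => ?_⟩
  rw [isConj_top_eq F hQ]
  exact inf_le_left

theorem receptive_resSystem {F E₀ : FusionSystem S} (C : ResCtx F E₀) {Q : Subgroup Ω}
    (hQc : F.IsCentric Q) (hQr : F.IsReceptive Q) : (resSystem F E₀ C).IsReceptive Q := by
  refine ⟨hQc.1, fun R φ hφ hr => ?_⟩
  obtain ⟨hφF, γ, hγ, φ₀, hφ₀, eφ⟩ := hφ
  obtain ⟨ψ, hψ, hψe⟩ := hQr.2 R φ hφF hr
  refine ⟨ψ, ⟨hψ, ?_⟩, hψe⟩
  obtain ⟨β, hβ, ψ₀, hψ₀, eψ⟩ := C.hdec _ ψ hψ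
  have hRN : R ≤ extender S R φ := le_extender F hφF
  have hRS : R ≤ S := source_le F hφF
  have hφ₀S : ∀ x, φ₀ x ∈ S := (E₀.le_of_mem hφ₀).2
  have hψ₀S : ∀ x, ψ₀ x ∈ S := (E₀.le_of_mem hψ₀).2
  have hψ₀R : ψ₀.comp (Subgroup.inclusion hRN) ∈ E₀.Hom R := restrict_mem E₀ hψ₀ hRN
  obtain ⟨ι, hι, -, hι1, -⟩ := exists_inv E₀ hψ₀R rfl
  have hιR : ∀ z : (ψ₀.comp (Subgroup.inclusion hRN)).range, ι z ∈ R := by
    rintro ⟨_, x, rfl⟩
    rw [hι1 x ⟨x, rfl⟩]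
    exact x.2
  have hχ := E₀.comp_mem hι hφ₀ hιR
  have hRc : F.IsCentric R := isCentric_of_isConj F hQc (isConj_symm F ⟨φ, hφF, hr⟩)
  have hR'c : F.IsCentric (ψ₀.comp (Subgroup.inclusion hRN)).range :=
    isCentric_of_isConj F hRc ⟨_, C.hle R hψ₀R, rfl⟩
  have hγF : γ ∈ F.autGroup S := autZero_le F E₀ hγ
  have hδF : γ⁻¹ * β ∈ F.autGroup S := Subgroup.mul_mem _ (Subgroup.inv_mem _ hγF) hβ
  have hδ : γ⁻¹ * β ∈ autZero F E₀ := by
    refine mem_autZero_of_restrict hδF hR'c hχ ?_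
    rintro ⟨_, x, rfl⟩
    have e1 : (ι.codRestrict R hιR) ⟨(ψ₀.comp (Subgroup.inclusion hRN)) x, ⟨x, rfl⟩⟩ = x :=
      Subtype.ext (hι1 x ⟨x, rfl⟩)
    show φ₀ ((ι.codRestrict R hιR) ⟨(ψ₀.comp (Subgroup.inclusion hRN)) x, ⟨x, rfl⟩⟩) = _
    rw [e1, MulAut.mul_apply]
    have e2 : β ⟨ψ₀ (Subgroup.inclusion hRN x), hψ₀S _⟩ = γ ⟨φ₀ x, hφ₀S x⟩ := by
      apply Subtype.ext
      rw [← eψ (Subgroup.inclusion hRN x) (hψ₀S _), ← eφ x (hφ₀S x)]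
      exact hψe x x.2 (hRN x.2)
    have e3 : (⟨(ψ₀.comp (Subgroup.inclusion hRN)) x, hR'c.1 ⟨x, rfl⟩⟩ : S) =
        ⟨ψ₀ (Subgroup.inclusion hRN x), hψ₀S _⟩ := rfl
    rw [e3, e2, MulAut.inv_apply_self]
  have hβ0 : β ∈ autZero F E₀ := by
    have : β = γ * (γ⁻¹ * β) := by group
    rw [this]
    exact Subgroup.mul_mem _ hγ hδ
  exact ⟨β, hβ0, ψ₀, hψ₀, eψ⟩

theorem saturated_resSystem [Finite S] {p : ℕ} [Fact p.Prime] (hS : IsPGroup p S)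
    {F E₀ : FusionSystem S} (hF : F.IsSaturated p) (C : ResCtx F E₀) :
    (resSystem F E₀ C).IsSaturated p := by
  have hEF : resSystem F E₀ C ≤ F := resSystem_le C
  have hE₀E : E₀ ≤ resSystem F E₀ C := le_resSystem C
  have hcen : ∀ P, (resSystem F E₀ C).IsCentric P ↔ F.IsCentric P :=
    isCentric_iff_of_dec hEF hE₀E C.hdec
  refine saturated_of_family hS (resSystem F E₀ C) {P | F.IsCentric P} ?_ ?_ ?_ ?_
  · intro P hP Q hPQ
    exact isCentric_of_isConj F hP (isConj_of_le hEF hPQ)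
  · intro P hP
    obtain ⟨Q, hPQ, hQn⟩ := exists_fullyNormalized_conj (resSystem F E₀ C) hP.1
    have hQnF : F.IsFullyNormalized Q := fullyNormalized_of_dec hE₀E C.hdec hQn
    obtain ⟨-, hfa, hrec⟩ := saturated_fullyNormalized hS F hF hQnF
    have hQc : F.IsCentric Q := isCentric_of_isConj F hP (isConj_of_le hEF hPQ)
    exact ⟨Q, hPQ, fullyAutomized_of_le hEF hfa, receptive_resSystem C hQc hrec⟩
  · intro D hD
    have hE₀D : E₀ ≤ D := C.hgen D (fun P hP => (hE₀E P).trans (hD P hP))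
    intro P φ hφ
    obtain ⟨-, α, hα, φ₀, hφ₀, e⟩ := hφ
    have hαD : S.subtype.comp α.toMonoidHom ∈ D.Hom S :=
      hD S (isCentric_top F) ((mem_autGroup_iff _ le_rfl).mp (autZero_le_resSystem C hα))
    have hφ₀S : ∀ x, φ₀ x ∈ S := (E₀.le_of_mem hφ₀).2
    exact mem_of_forall_eq D (D.comp_mem (hE₀D P hφ₀) hαD hφ₀S) (fun x => e x (hφ₀S x))
  · intro P hPc hPn
    exact absurd ((hcen P).mp hPc) hPn

end Cfsg.Agent.Lib.Helper26
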