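import Cfsg.Agent.Lib.Helper26.PrimeRes5
import Cfsg.Prelude.Def_FusionComponents

set_option autoImplicit false

namespace Cfsg.Agent.Lib.Helper26

open Cfsg Cfsg.FusionSystem

variable {Ω : Type*} [Group Ω] {S : Subgroup Ω}

theorem resCtx_ppCore [Finite S] {p : ℕ} [Fact p.Prime] (hS : IsPGroup p S)
    (F : FusionSystem S) (hF : F.IsSaturated p) : ResCtx F (ppCore F p) where
  hle := ppCore_le F p
  hInv := ppCore_invCond F p
  hdec := fun _ _ hφ => dec_ppCore hS F hF hφ
  hgen := by
    intro D hD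
    apply ppCore_le_of F p
    intro R hR a ha
    have h1 : a ∈ (ppCore F p).autGroup R :=
      ppGen_le_invSystem F (ppHull F p) p
        (closure_ppSet_le_of_hasCentricPP (hasCentricPP_ppHull F p)) hR (Subgroup.subset_closure ha)
    rw [mem_autGroup_iff _ hR.1] at h1
    exact (mem_autGroup_iff D hR.1).mpr (hD R hR h1)

/-- existence of `O^{p'}(F)` -/
theorem exists_pPrimeResidual [Finite S] {p : ℕ} [Fact p.Prime] (hS : IsPGroup p S)
    (F : FusionSystem S) (hF : F.IsSaturated p) :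
    ∃ E : FusionSystem S, F.IsPPrimeResidual p E := by
  have C := resCtx_ppCore hS F hF
  refine ⟨resSystem F (ppCore F p) C, saturated_resSystem hS hF C, ⟨resSystem_le C, ?_⟩, ?_⟩
  · intro P hPS
    rw [ppGen_eq]
    exact (closure_ppSet_le_ppCore hS F hF hPS).trans
      (autGroup_mono_of_subsystem (le_resSystem C) P)
  · rintro D hDs ⟨hDF, hDp⟩
    have hcp : HasCentricPP F p D := by
      intro R hR a ha
      apply hDp R hR.1
      rw [ppGen_eq]
      exact Subgroup.subset_closure ha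
    have hE₀D : ppCore F p ≤ D := ppCore_le_of F p hcp
    have h𝔄D : autZero F (ppCore F p) ≤ D.autGroup S :=
      autZero_le_autGroup hS F hF (ppCore F p) D hDs hDF hE₀D
    intro P φ hφ
    obtain ⟨-, α, hα, φ₀, hφ₀, e⟩ := hφ
    have hαD : S.subtype.comp α.toMonoidHom ∈ D.Hom S := (mem_autGroup_iff D le_rfl).mp (h𝔄D hα)
    have hφ₀S : ∀ x, φ₀ x ∈ S := ((ppCore F p).le_of_mem hφ₀).2
    exact mem_of_forall_eq D (D.comp_mem (hE₀D P hφ₀) hαD hφ₀S) (fun x => e x (hφ₀S x))

end Cfsg.Agent.Lib.Helper26
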