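import Mathlib
import Cfsg.Prelude.Def_Blocks
import Cfsg.Prelude.Def_Local
import Cfsg.Agent.Lib.helper7.BlockIndep
import Cfsg.Agent.Lib.Helper11.GaloisConj
import Cfsg.Agent.Lib.helper2.GaloisTrace
import Cfsg.Agent.Lib.helper2.CharInt
import Cfsg.Agent.Lib.Helper25.CharOrth
import Cfsg.Agent.Lib.Helper25.PrincipalDefect

/-!
S4735: the sum `λ(G, x)` of `|χ(x)|²` over the principal block.  First part: Galois stability of
the principal block and integrality of `λ(G, x)`.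
-/

set_option autoImplicit false
set_option linter.style.haveILetI false
set_option linter.unusedSectionVars false
set_option linter.unusedVariables false

namespace Cfsg.Agent.Lib.Helper26

open scoped ComplexConjugate
open Cfsg.Agent.Lib.Helper25 Cfsg.Agent.Lib.Helper11 Cfsg.Agent.Lib.helper2
open Cfsg.Agent.Lib.helper7 Cfsg.Agent.Lib.Helper24

section

/-- the ring endomorphism of the algebraic integers induced by an automorphism of `ℂ` -/
noncomputable def plm_hom (τ : ℂ ≃+* ℂ) : Cfsg.AlgInt →+* Cfsg.AlgInt :=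
  ((τ : ℂ →+* ℂ).comp (algebraMap Cfsg.AlgInt ℂ)).codRestrict Cfsg.AlgInt
    (fun a => map_isIntegral_int (τ : ℂ →+* ℂ) a.2)

theorem plm_hom_coe (τ : ℂ ≃+* ℂ) (a : Cfsg.AlgInt) : ((plm_hom τ a : Cfsg.AlgInt) : ℂ) = τ (a : ℂ) :=
  rfl

theorem plm_hom_surjective (τ : ℂ ≃+* ℂ) : Function.Surjective (plm_hom τ) := by
  intro b
  refine ⟨⟨τ.symm (b : ℂ), map_isIntegral_int (τ.symm : ℂ →+* ℂ) b.2⟩, ?_⟩
  apply Subtype.ext
  rw [plm_hom_coe]
  exact τ.apply_symm_apply _

theorem plm_comap_modular (p : ℕ) {M : Ideal Cfsg.AlgInt} (hM : Cfsg.IsPModular p M)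
    (τ : ℂ ≃+* ℂ) : Cfsg.IsPModular p (M.comap (plm_hom τ)) := by
  haveI := hM.2.1
  refine ⟨hM.1, Ideal.comap_isMaximal_of_surjective (plm_hom τ) (plm_hom_surjective τ), ?_⟩
  rw [Ideal.mem_comap, map_natCast]
  exact hM.2.2

/-- the Galois conjugate of an irreducible character -/
noncomputable def plm_tr {G : Type*} [Group G] [Finite G] (τ : ℂ ≃+* ℂ)
    (χ : Cfsg.IrrCharacter G) : Cfsg.IrrCharacter G :=
  ⟨fun g => τ ((χ : G → ℂ) g), isIrrCharacter_ringAut τ χ.2⟩

theorem plm_tr_apply {G : Type*} [Group G] [Finite G] (τ : ℂ ≃+* ℂ) (χ : Cfsg.IrrCharacter G)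
    (g : G) : (plm_tr τ χ : G → ℂ) g = τ ((χ : G → ℂ) g) := rfl

theorem plm_tr_symm {G : Type*} [Group G] [Finite G] (τ : ℂ ≃+* ℂ) (χ : Cfsg.IrrCharacter G) :
    plm_tr τ.symm (plm_tr τ χ) = χ := by
  apply Subtype.ext
  funext g
  rw [plm_tr_apply, plm_tr_apply]
  exact τ.symm_apply_apply _

theorem plm_tr_symm' {G : Type*} [Group G] [Finite G] (τ : ℂ ≃+* ℂ) (χ : Cfsg.IrrCharacter G) :
    plm_tr τ (plm_tr τ.symm χ) = χ := by
  apply Subtype.ext
  funext g
  rw [plm_tr_apply, plm_tr_apply]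
  exact τ.apply_symm_apply _

/-- the principal block is stable under Galois conjugation -/
theorem plm_stable {G : Type*} [Group G] [Finite G] (p : ℕ) [hp : Fact p.Prime]
    (M : Ideal Cfsg.AlgInt) (hM : Cfsg.IsPModular p M) (τ : ℂ ≃+* ℂ)
    (χ : Cfsg.IrrCharacter G) (hχ : χ ∈ Cfsg.principalBlock M G) :
    plm_tr τ χ ∈ Cfsg.principalBlock M G := by
  have hPr := hM.2.1.isPrime
  have hM' := plm_comap_modular p hM τ
  have h0 : Cfsg.SameBlock M ((trivIrr G : Cfsg.IrrCharacter G) : G → ℂ) (χ : G → ℂ) := hχ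
  show Cfsg.SameBlock M (fun _ : G => (1 : ℂ)) (plm_tr τ χ : G → ℂ)
  intro g
  obtain ⟨r, hr, hrv⟩ := h7_block_indep hM hM' (trivIrr G) χ h0 g
  have h1 : Cfsg.centralChar (fun _ : G => (1 : ℂ)) g -
      Cfsg.centralChar (plm_tr τ χ : G → ℂ) g = ((plm_hom τ r : Cfsg.AlgInt) : ℂ) := by
    rw [plm_hom_coe, hrv, map_sub]
    unfold Cfsg.centralChar
    simp only [plm_tr_apply, trivIrr_apply, map_div₀, map_mul, map_natCast, map_one]
  rw [h1, h7_memLocalIdeal_algInt_iff hPr]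
  exact hr


/-- `λ(G, x ^ k) = λ(G, x)` for `k` prime to the group order -/
theorem plm_pow_invariant {G : Type*} [Group G] [Fintype G] [Fintype (Cfsg.IrrCharacter G)]
    (p : ℕ) [hp : Fact p.Prime] (M : Ideal Cfsg.AlgInt) (hM : Cfsg.IsPModular p M)
    [DecidablePred (· ∈ Cfsg.principalBlock M G)] (x : G) (k : ℕ)
    (hk : Nat.Coprime k (Nat.card G)) :
    ∑ χ : Cfsg.IrrCharacter G, (if χ ∈ Cfsg.principalBlock M G then
        (χ : G → ℂ) (x ^ k) * conj ((χ : G → ℂ) (x ^ k)) else 0) =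
      ∑ χ : Cfsg.IrrCharacter G, (if χ ∈ Cfsg.principalBlock M G then
        (χ : G → ℂ) x * conj ((χ : G → ℂ) x) else 0) := by
  obtain ⟨τ, hτ⟩ := exists_ringAut_pow (Nat.card G) k Nat.card_pos hk
  let e : Cfsg.IrrCharacter G ≃ Cfsg.IrrCharacter G :=
    { toFun := plm_tr τ
      invFun := plm_tr τ.symm
      left_inv := plm_tr_symm τ
      right_inv := plm_tr_symm' τ }
  have hmem : ∀ χ : Cfsg.IrrCharacter G,
      χ ∈ Cfsg.principalBlock M G ↔ e χ ∈ Cfsg.principalBlock M G := by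
    intro χ
    constructor
    · exact plm_stable p M hM τ χ
    · intro h
      have := plm_stable p M hM τ.symm _ h
      rw [show e χ = plm_tr τ χ from rfl, plm_tr_symm] at this
      exact this
  have hval : ∀ χ : Cfsg.IrrCharacter G, (e χ : G → ℂ) x = (χ : G → ℂ) (x ^ k) := by
    intro χ
    show τ ((χ : G → ℂ) x) = _
    exact ringAut_character_apply τ k hτ (isCharacter_of_irr χ) x
  symm
  rw [← Equiv.sum_comp e]
  refine Finset.sum_congr rfl fun χ _ => ?_
  by_cases h : χ ∈ Cfsg.principalBlock M G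
  · rw [if_pos h, if_pos ((hmem χ).mp h), hval]
  · rw [if_neg h, if_neg (fun h' => h ((hmem χ).mpr h'))]

/-- `λ(G, x)` is a rational integer -/
theorem plm_int {G : Type*} [Group G] [Fintype G] [Fintype (Cfsg.IrrCharacter G)]
    (p : ℕ) [hp : Fact p.Prime] (M : Ideal Cfsg.AlgInt) (hM : Cfsg.IsPModular p M)
    [DecidablePred (· ∈ Cfsg.principalBlock M G)] (x : G) :
    ∃ z : ℤ, ∑ χ : Cfsg.IrrCharacter G, (if χ ∈ Cfsg.principalBlock M G then
        (χ : G → ℂ) x * conj ((χ : G → ℂ) x) else 0) = (z : ℂ) := by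
  classical
  set N := Nat.card G with hN
  have hNpos : 0 < N := Nat.card_pos
  obtain ⟨ζ, hζ⟩ : ∃ ζ : ℂ, IsPrimitiveRoot ζ N := ⟨_, Complex.isPrimitiveRoot_exp N hNpos.ne'⟩
  choose f hf using fun χ : Cfsg.IrrCharacter G => gn_char_poly (isCharacter_of_irr χ) x ζ hζ
  choose g hg using fun χ : Cfsg.IrrCharacter G => gn_char_poly (isCharacter_of_irr χ) x⁻¹ ζ hζ
  set S : ℂ := ∑ χ : Cfsg.IrrCharacter G, (if χ ∈ Cfsg.principalBlock M G then
        (χ : G → ℂ) x * conj ((χ : G → ℂ) x) else 0) with hS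
  set F : Polynomial ℤ := ∑ χ : Cfsg.IrrCharacter G,
    (if χ ∈ Cfsg.principalBlock M G then f χ * g χ else 0) with hF
  have hFk : ∀ k : ℕ, Polynomial.aeval (ζ ^ k) F =
      ∑ χ : Cfsg.IrrCharacter G, (if χ ∈ Cfsg.principalBlock M G then
        (χ : G → ℂ) (x ^ k) * conj ((χ : G → ℂ) (x ^ k)) else 0) := by
    intro k
    rw [hF, map_sum]
    refine Finset.sum_congr rfl fun χ _ => ?_
    by_cases h : χ ∈ Cfsg.principalBlock M G
    · rw [if_pos h, if_pos h, map_mul, hf, hg, inv_pow, irr_inv]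
    · rw [if_neg h, if_neg h, map_zero]
  obtain ⟨q, hq⟩ := gt_sum_range N hNpos F ζ hζ
  have hterm : ∀ k ∈ (Finset.range N).filter (Nat.Coprime N),
      Polynomial.aeval (ζ ^ k) F = S := by
    intro k hk
    rw [Finset.mem_filter] at hk
    rw [hFk k]
    exact plm_pow_invariant p M hM x k hk.2.symm
  rw [Finset.sum_congr rfl hterm, Finset.sum_const, nsmul_eq_mul] at hq
  set c := ((Finset.range N).filter (Nat.Coprime N)).card with hc
  have hcpos : 0 < c := by
    rw [hc, Finset.card_pos]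
    by_cases h1 : N = 1
    · refine ⟨0, ?_⟩
      rw [Finset.mem_filter, Finset.mem_range, h1]
      exact ⟨Nat.one_pos, Nat.coprime_one_left 0⟩
    · refine ⟨1, ?_⟩
      rw [Finset.mem_filter, Finset.mem_range]
      exact ⟨by omega, Nat.coprime_one_right N⟩
  have hSq : S = (((q / (c : ℚ) : ℚ)) : ℂ) := by
    have hc0 : (c : ℂ) ≠ 0 := by exact_mod_cast hcpos.ne'
    push_cast
    rw [← hq]
    field_simp
  have hint : IsIntegral ℤ S := by
    rw [hS]
    refine IsIntegral.sum _ fun χ _ => ?_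
    by_cases h : χ ∈ Cfsg.principalBlock M G
    · rw [if_pos h, ← irr_inv]
      exact IsIntegral.mul (irr_integral χ x) (irr_integral χ x⁻¹)
    · rw [if_neg h]
      exact isIntegral_zero
  rw [hSq] at hint
  have hint' : IsIntegral ℤ (q / (c : ℚ) : ℚ) := by
    have h1 : ((q / (c : ℚ) : ℚ) : ℂ) = algebraMap ℚ ℂ (q / (c : ℚ)) := rfl
    rw [h1] at hint
    exact (isIntegral_algebraMap_iff (algebraMap ℚ ℂ).injective).mp hint
  obtain ⟨z, hz⟩ := IsIntegrallyClosed.isIntegral_iff.mp hint'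
  refine ⟨z, ?_⟩
  rw [hSq, ← hz]
  simp

end

end Cfsg.Agent.Lib.Helper26
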