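import Mathlib
import Cfsg.Prelude.Def_Blocks
import Cfsg.Prelude.Def_Local
import Cfsg.Prelude.Def_CaseTheorems
import Cfsg.Agent.Lib.Helper26.PrincipalLambda
import Cfsg.Agent.Lib.Helper24.QuotDefect2
import Cfsg.Agent.Lib.Helper24.FongPrincipal
import Cfsg.Agent.Lib.Helper25.InducedBlockPart
import Cfsg.Agent.Lib.helper7.Thompson
import Cfsg.Agent.S0967

/-!
S4735: the sum `λ(G, x)` of `|χ(x)|²` over the principal block, second part: passage to
`G / O_{p'}(G)` and the comparison with the order of the centralizer.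
-/

set_option autoImplicit false
set_option linter.style.haveILetI false
set_option linter.unusedSectionVars false
set_option linter.unusedVariables false

namespace Cfsg.Agent.Lib.Helper26

open scoped ComplexConjugate
open Cfsg.Agent.Lib.Helper25 Cfsg.Agent.Lib.Helper11 Cfsg.Agent.Lib.helper2
open Cfsg.Agent.Lib.helper7 Cfsg.Agent.Lib.Helper24

section

variable {G : Type*} [Group G]

theorem plm_finsum_eq {α : Type*} [Fintype α] {β : Type*} [AddCommMonoid β] (B : Set α)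
    [DecidablePred (· ∈ B)] (f : α → β) :
    ∑ᶠ a ∈ B, f a = ∑ a : α, if a ∈ B then f a else 0 := by
  rw [finsum_mem_def, finsum_eq_sum_of_fintype]
  refine Finset.sum_congr rfl fun a _ => ?_
  rw [Set.indicator_apply]

/-- first part of S4735 -/
theorem plm_part1 [Finite G] (p : ℕ) [hp : Fact p.Prime] (M : Ideal Cfsg.AlgInt)
    (hM : Cfsg.IsPModular p M) (x : G) :
    ∃ n : ℕ, 0 < n ∧ ∑ᶠ χ ∈ Cfsg.principalBlock M G, Complex.normSq ((χ : G → ℂ) x) = n := by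
  classical
  haveI : Fintype G := Fintype.ofFinite G
  haveI : Fintype (Cfsg.IrrCharacter G) := Fintype.ofFinite _
  have hPr := hM.2.1.isPrime
  obtain ⟨z, hz⟩ := plm_int p M hM x
  rw [plm_finsum_eq]
  set S : ℝ := ∑ χ : Cfsg.IrrCharacter G, (if χ ∈ Cfsg.principalBlock M G then
    Complex.normSq ((χ : G → ℂ) x) else 0) with hS
  have hSz : S = (z : ℝ) := by
    apply Complex.ofReal_injective
    rw [hS]
    push_cast
    rw [← hz]
    refine Finset.sum_congr rfl fun χ _ => ?_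
    by_cases h : χ ∈ Cfsg.principalBlock M G
    · rw [if_pos h, if_pos h, Complex.mul_conj]
    · rw [if_neg h, if_neg h, Complex.ofReal_zero]
  have hS1 : (1 : ℝ) ≤ S := by
    have h1 : trivIrr G ∈ Cfsg.principalBlock M G := h7_sameBlock_refl hPr _
    have h2 := Finset.single_le_sum (f := fun χ : Cfsg.IrrCharacter G =>
      if χ ∈ Cfsg.principalBlock M G then Complex.normSq ((χ : G → ℂ) x) else 0)
      (fun χ _ => by
        show (0 : ℝ) ≤ _
        split_ifs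
        · exact Complex.normSq_nonneg _
        · exact le_refl _) (Finset.mem_univ (trivIrr G))
    simp only [if_pos h1, trivIrr_apply, Complex.normSq_one] at h2
    exact h2
  have hz1 : (1 : ℤ) ≤ z := by
    rw [hSz] at hS1
    exact_mod_cast hS1
  refine ⟨z.toNat, by omega, ?_⟩
  rw [hSz]
  have : ((z.toNat : ℕ) : ℤ) = z := Int.toNat_of_nonneg (by omega)
  exact_mod_cast this.symm

/-- inflation maps the principal block of `G / O_{p'}(G)` bijectively onto that of `G` -/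
theorem plm_infl_image [Finite G] (p : ℕ) [hp : Fact p.Prime] (M : Ideal Cfsg.AlgInt)
    (hM : Cfsg.IsPModular p M) :
    qh_infl (Cfsg.pPrimeCore p G) '' Cfsg.principalBlock M (G ⧸ Cfsg.pPrimeCore p G) =
      Cfsg.principalBlock M G := by
  have hPr := hM.2.1.isPrime
  ext χ
  constructor
  · rintro ⟨ψ, hψ, rfl⟩
    exact fg_infl_sameBlock (Cfsg.pPrimeCore p G) hPr _ _ hψ
  · intro hχ
    have hcop : ¬ p ∣ Nat.card (Cfsg.pPrimeCore p G) := by
      have := Cfsg.Agent.Lib.Helper1.pPrimeCore_card_coprime (G := G) p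
      intro h
      exact (Nat.Prime.coprime_iff_not_dvd hp.out).mp this.symm h
    obtain ⟨ψ', hψ', hsame⟩ := Cfsg.Agent.S0967.result p M hM (Cfsg.pPrimeCore p G) hcop
      (trivIrr (G ⧸ Cfsg.pPrimeCore p G)) χ hχ
    refine ⟨ψ', hsame, ?_⟩
    apply Subtype.ext
    exact hψ'.symm

theorem plm_part2 [Finite G] (p : ℕ) [hp : Fact p.Prime] (M : Ideal Cfsg.AlgInt)
    (hM : Cfsg.IsPModular p M) {β : Type*} [AddCommMonoid β] (f : Cfsg.IrrCharacter G → β) :
    ∑ᶠ χ ∈ Cfsg.principalBlock M G, f χ =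
      ∑ᶠ ψ ∈ Cfsg.principalBlock M (G ⧸ Cfsg.pPrimeCore p G),
        f (qh_infl (Cfsg.pPrimeCore p G) ψ) := by
  rw [← plm_infl_image p M hM]
  exact finsum_mem_image ((qh_infl_injective (Cfsg.pPrimeCore p G)).injOn)


theorem plm_part3 [Finite G] (p : ℕ) [hp : Fact p.Prime] (M : Ideal Cfsg.AlgInt)
    (hM : Cfsg.IsPModular p M) (x : G) :
    ∑ᶠ χ ∈ Cfsg.principalBlock M G, Complex.normSq ((χ : G → ℂ) x) ≤
      (Nat.card ↥(Subgroup.centralizer
        ({(QuotientGroup.mk x : G ⧸ Cfsg.pPrimeCore p G)} : Set (G ⧸ Cfsg.pPrimeCore p G))) : ℝ) := by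
  classical
  haveI : Fintype (G ⧸ Cfsg.pPrimeCore p G) := Fintype.ofFinite _
  haveI : Fintype (Cfsg.IrrCharacter (G ⧸ Cfsg.pPrimeCore p G)) := Fintype.ofFinite _
  rw [plm_part2 p M hM (fun χ : Cfsg.IrrCharacter G => Complex.normSq ((χ : G → ℂ) x)), plm_finsum_eq]
  have h1 := irr_column_orthogonality (G := G ⧸ Cfsg.pPrimeCore p G) (QuotientGroup.mk x)
    (QuotientGroup.mk x)
  rw [if_pos (IsConj.refl _)] at h1
  have h2 : ∑ ψ : Cfsg.IrrCharacter (G ⧸ Cfsg.pPrimeCore p G),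
      Complex.normSq ((ψ : G ⧸ Cfsg.pPrimeCore p G → ℂ) (QuotientGroup.mk x)) =
      (Nat.card ↥(Subgroup.centralizer
        ({(QuotientGroup.mk x : G ⧸ Cfsg.pPrimeCore p G)} : Set (G ⧸ Cfsg.pPrimeCore p G))) : ℝ) := by
    apply Complex.ofReal_injective
    push_cast
    rw [← h1]
    refine Finset.sum_congr rfl fun ψ _ => ?_
    rw [Complex.mul_conj]
  rw [← h2]
  refine Finset.sum_le_sum fun ψ _ => ?_
  simp only [qh_infl_apply]
  split_ifs
  · exact le_refl _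
  · exact Complex.normSq_nonneg _

theorem plm_part4 [Finite G] (p : ℕ) [hp : Fact p.Prime] (M : Ideal Cfsg.AlgInt)
    (hM : Cfsg.IsPModular p M) :
    (∑ᶠ χ ∈ Cfsg.principalBlock M G, Cfsg.charDegree (χ : G → ℂ) ^ 2) =
        (Cfsg.pPrimeCore p G).index ↔
      ∀ B : Set (Cfsg.IrrCharacter (G ⧸ Cfsg.pPrimeCore p G)), Cfsg.IsPBlock M B →
        B = Cfsg.principalBlock M (G ⧸ Cfsg.pPrimeCore p G) := by
  classical
  haveI : Fintype (G ⧸ Cfsg.pPrimeCore p G) := Fintype.ofFinite _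
  haveI : Fintype (Cfsg.IrrCharacter (G ⧸ Cfsg.pPrimeCore p G)) := Fintype.ofFinite _
  have hPr := hM.2.1.isPrime
  rw [plm_part2 p M hM (fun χ : Cfsg.IrrCharacter G => Cfsg.charDegree (χ : G → ℂ) ^ 2), plm_finsum_eq]
  have hdeg : ∀ ψ : Cfsg.IrrCharacter (G ⧸ Cfsg.pPrimeCore p G),
      Cfsg.charDegree (qh_infl (Cfsg.pPrimeCore p G) ψ : G → ℂ) =
        Cfsg.charDegree (ψ : G ⧸ Cfsg.pPrimeCore p G → ℂ) := by
    intro ψ
    unfold Cfsg.charDegree
    rw [qh_infl_apply, QuotientGroup.mk_one]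
  have hfull : ∑ ψ : Cfsg.IrrCharacter (G ⧸ Cfsg.pPrimeCore p G),
      Cfsg.charDegree (ψ : G ⧸ Cfsg.pPrimeCore p G → ℂ) ^ 2 = (Cfsg.pPrimeCore p G).index := by
    rw [h7_sum_degree_sq, Subgroup.index_eq_card, Nat.card_eq_fintype_card]
  simp only [hdeg]
  rw [← hfull]
  constructor
  · intro heq B hB
    have hall : ∀ ψ : Cfsg.IrrCharacter (G ⧸ Cfsg.pPrimeCore p G),
        ψ ∈ Cfsg.principalBlock M (G ⧸ Cfsg.pPrimeCore p G) := by
      by_contra hcon
      rw [not_forall] at hcon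
      obtain ⟨ψ₀, hψ₀⟩ := hcon
      have hlt : (∑ ψ : Cfsg.IrrCharacter (G ⧸ Cfsg.pPrimeCore p G),
          if ψ ∈ Cfsg.principalBlock M (G ⧸ Cfsg.pPrimeCore p G) then
            Cfsg.charDegree (ψ : G ⧸ Cfsg.pPrimeCore p G → ℂ) ^ 2 else 0) <
          ∑ ψ : Cfsg.IrrCharacter (G ⧸ Cfsg.pPrimeCore p G),
            Cfsg.charDegree (ψ : G ⧸ Cfsg.pPrimeCore p G → ℂ) ^ 2 := by
        apply Finset.sum_lt_sum
        · intro ψ _
          split_ifs
          · exact le_refl _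
          · exact Nat.zero_le _
        · refine ⟨ψ₀, Finset.mem_univ _, ?_⟩
          rw [if_neg hψ₀]
          have := (h7_charDegree_props ψ₀).2.1
          positivity
      omega
    obtain ⟨ψ₀, rfl⟩ := hB
    exact (ib_blockOf_eq hPr ψ₀ (trivIrr _) (hall ψ₀)).symm
  · intro hall
    refine Finset.sum_congr rfl fun ψ _ => ?_
    have h1 : ψ ∈ Cfsg.blockOf M (ψ : G ⧸ Cfsg.pPrimeCore p G → ℂ) := h7_sameBlock_refl hPr _
    rw [hall _ ⟨ψ, rfl⟩] at h1
    rw [if_pos h1]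

/-- S4735 -/
theorem plm_main [Finite G] (p : ℕ) [hp : Fact p.Prime] (M : Ideal Cfsg.AlgInt)
    (hM : Cfsg.IsPModular p M) (x : G) :
    (∃ n : ℕ, 0 < n ∧
      ∑ᶠ χ ∈ Cfsg.principalBlock M G, Complex.normSq ((χ : G → ℂ) x) = n) ∧
    ∑ᶠ χ ∈ Cfsg.principalBlock M G, Complex.normSq ((χ : G → ℂ) x) =
      ∑ᶠ ψ ∈ Cfsg.principalBlock M (G ⧸ Cfsg.pPrimeCore p G),
        Complex.normSq ((ψ : G ⧸ Cfsg.pPrimeCore p G → ℂ) (QuotientGroup.mk x)) ∧
    ∑ᶠ χ ∈ Cfsg.principalBlock M G, Complex.normSq ((χ : G → ℂ) x) ≤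
      (Nat.card ↥(Subgroup.centralizer
        ({(QuotientGroup.mk x : G ⧸ Cfsg.pPrimeCore p G)} : Set (G ⧸ Cfsg.pPrimeCore p G))) : ℝ) ∧
    ((∑ᶠ χ ∈ Cfsg.principalBlock M G, Cfsg.charDegree (χ : G → ℂ) ^ 2) =
        (Cfsg.pPrimeCore p G).index ↔
      ∀ B : Set (Cfsg.IrrCharacter (G ⧸ Cfsg.pPrimeCore p G)), Cfsg.IsPBlock M B →
        B = Cfsg.principalBlock M (G ⧸ Cfsg.pPrimeCore p G)) :=
  ⟨plm_part1 p M hM x, plm_part2 p M hM (fun χ : Cfsg.IrrCharacter G => Complex.normSq ((χ : G → ℂ) x)),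
    plm_part3 p M hM x, plm_part4 p M hM⟩

end

end Cfsg.Agent.Lib.Helper26
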