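import Cfsg.Agent.Lib.Helper26.FusionSat3

set_option autoImplicit false

namespace Cfsg.Agent.Lib.Helper26

open Cfsg Cfsg.FusionSystem

section Transfer

variable {Ω : Type*} [Group Ω] {S : Subgroup Ω}

/-- The element `h` attached to an element `g` of the extender normalizes the image. -/
theorem extender_partner_mem_normalizer {R Q : Subgroup Ω} {φ : R →* Ω} (hr : φ.range = Q)
    {g h : Ω} (hgN : g ∈ Subgroup.normalizer (R : Set Ω))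
    (hgh : ∀ x : R, φ ⟨g * x * g⁻¹, conj_mem_of_mem_normalizer hgN x⟩ = h * φ x * h⁻¹) :
    h ∈ Subgroup.normalizer (Q : Set Ω) := by
  have hφQ : ∀ x : R, φ x ∈ Q := fun x => hr ▸ ⟨x, rfl⟩
  refine mem_normalizer_of_forall (fun y hy => ?_) (fun y hy => ?_)
  · obtain ⟨x, rfl⟩ : y ∈ φ.range := hr ▸ hy
    rw [← hgh x]
    exact hφQ _
  · obtain ⟨x, rfl⟩ : y ∈ φ.range := hr ▸ hy
    have hx' := conj_inv_mem_of_mem_normalizer hgN x
    have h1 := hgh ⟨_, hx'⟩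
    have h2 : (⟨g * ((⟨g⁻¹ * (x : Ω) * g, hx'⟩ : R) : Ω) * g⁻¹,
        conj_mem_of_mem_normalizer hgN _⟩ : R) = x := by
      apply Subtype.ext
      show g * (g⁻¹ * (x : Ω) * g) * g⁻¹ = x
      group
    rw [h2] at h1
    rw [h1]
    have h3 : h⁻¹ * (h * φ ⟨g⁻¹ * (x : Ω) * g, hx'⟩ * h⁻¹) * h =
        φ ⟨g⁻¹ * (x : Ω) * g, hx'⟩ := by group
    rw [h3]
    exact hφQ _

/-- Receptivity transfers backwards along a map of normalizers which is onto. -/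
theorem receptive_of_normalizerHom_surj (F : FusionSystem S) {Q Q' : Subgroup Ω} (hQS : Q ≤ S)
    (hQ' : F.IsReceptive Q') {ν : ↥(normalizerIn S Q) →* Ω} (hν : ν ∈ F.Hom (normalizerIn S Q))
    (hνQ : (Q.subgroupOf (normalizerIn S Q)).map ν = Q')
    (hνsurj : ∀ y ∈ normalizerIn S Q', ∃ g : ↥(normalizerIn S Q), ν g = y) : F.IsReceptive Q := by
  refine ⟨hQS, fun R φ hφ hr => ?_⟩
  have hφQ : ∀ x : R, φ x ∈ Q := fun x => hr ▸ ⟨x, rfl⟩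
  have hφN : ∀ x : R, φ x ∈ normalizerIn S Q := fun x => le_normalizerIn_self hQS (hφQ x)
  obtain ⟨φ', hφ'def⟩ : ∃ φ' : R →* Ω, φ' = ν.comp (φ.codRestrict _ hφN) := ⟨_, rfl⟩
  have hφ' : φ' ∈ F.Hom R := by rw [hφ'def]; exact F.comp_mem hφ hν hφN
  have hφ'x : ∀ x : R, φ' x = ν ⟨φ x, hφN x⟩ := by intro x; rw [hφ'def]; rfl
  have hφ'r : φ'.range = Q' := by
    ext y
    constructor
    · rintro ⟨x, rfl⟩
      rw [hφ'x, ← hνQ]
      exact ⟨_, Subgroup.mem_subgroupOf.mpr (hφQ x), rfl⟩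
    · intro hy
      rw [← hνQ] at hy
      obtain ⟨q, hq, rfl⟩ := hy
      have hq'' : (q : Ω) ∈ Q := Subgroup.mem_subgroupOf.mp hq
      have hq' : (q : Ω) ∈ φ.range := by rw [hr]; exact hq''
      obtain ⟨x, hx⟩ := hq'
      refine ⟨x, ?_⟩
      rw [hφ'x]
      congr 1
      exact Subtype.ext hx
  have hNN' : extender S R φ ≤ extender S R φ' := by
    intro g hg
    obtain ⟨hgS, hgN, h, hhS, hgh⟩ := mem_extender_iff.mp hg
    have hhN : h ∈ normalizerIn S Q := ⟨hhS, extender_partner_mem_normalizer hr hgN hgh⟩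
    refine mem_extender_iff.mpr ⟨hgS, hgN, ν ⟨h, hhN⟩, apply_mem F hν _, fun x => ?_⟩
    rw [hφ'x, hφ'x, ← map_inv, ← map_mul, ← map_mul]
    congr 1
    apply Subtype.ext
    exact hgh x
  obtain ⟨ψ', hψ', hψ'ext⟩ := hQ'.2 R φ' hφ' hφ'r
  have hRN' : R ≤ extender S R φ' := le_extender F hφ'
  have hψ'R : ∀ x : R, ψ' ⟨x, hRN' x.2⟩ = φ' x := fun x => hψ'ext x x.2 _
  have hconj : ∀ (g : ↥(extender S R φ')), ∀ y ∈ Q', ψ' g * y * (ψ' g)⁻¹ ∈ Q' := by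
    intro g y hy
    rw [← hφ'r] at hy ⊢
    obtain ⟨x, rfl⟩ := hy
    have hgN : (g : Ω) ∈ Subgroup.normalizer (R : Set Ω) := (extender_le_normalizerIn _ _ _ g.2).2
    have hx' := conj_mem_of_mem_normalizer hgN x
    refine ⟨⟨_, hx'⟩, ?_⟩
    rw [← hψ'R, ← hψ'R, ← map_inv, ← map_mul, ← map_mul]
    congr 1
  have hψ'N : ∀ g : ↥(extender S R φ'), ψ' g ∈ normalizerIn S Q' := by
    intro g
    refine ⟨apply_mem F hψ' g, mem_normalizer_of_forall (hconj g) (fun y hy => ?_)⟩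
    have := hconj g⁻¹ y hy
    rw [map_inv, inv_inv] at this
    exact this
  have hmem : ∀ g : ↥(extender S R φ), (ψ'.comp (Subgroup.inclusion hNN')) g ∈ ν.range := by
    intro g
    obtain ⟨n, hn⟩ := hνsurj _ (hψ'N (Subgroup.inclusion hNN' g))
    exact ⟨n, hn⟩
  obtain ⟨μ, hμ, -, hμν, -⟩ := exists_inv F hν rfl
  refine ⟨μ.comp ((ψ'.comp (Subgroup.inclusion hNN')).codRestrict ν.range hmem),
    F.comp_mem (restrict_mem F hψ' hNN') hμ hmem, fun x hxR hxN => ?_⟩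
  have h1 : ψ' ⟨x, hNN' hxN⟩ = ν ⟨φ ⟨x, hxR⟩, hφN _⟩ := by
    rw [hψ'ext x hxR, hφ'x]
  have h2 : μ ⟨ν ⟨φ ⟨x, hxR⟩, hφN _⟩, ⟨_, rfl⟩⟩ = φ ⟨x, hxR⟩ :=
    hμν ⟨φ ⟨x, hxR⟩, hφN _⟩ ⟨_, rfl⟩
  rw [← h2]
  show μ ⟨ψ' ⟨x, hNN' hxN⟩, _⟩ = _
  congr 1
  exact Subtype.ext h1

end Transfer

end Cfsg.Agent.Lib.Helper26
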