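import Cfsg.Agent.Lib.Helper26.ProdSat
import Cfsg.Agent.S5136

set_option autoImplicit false

namespace Cfsg.Agent.Lib.Helper26

open Cfsg Cfsg.FusionSystem
open Cfsg.Agent.S5136 (fst_mem snd_mem map_fst_range map_snd_range hom_of_eq)

section ProdBasics

variable {Ω₁ Ω₂ : Type*} [Group Ω₁] [Group Ω₂] {S₁ : Subgroup Ω₁} {S₂ : Subgroup Ω₂}

theorem map_fst_le {P : Subgroup (Ω₁ × Ω₂)} (hP : P ≤ S₁.prod S₂) :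
    P.map (MonoidHom.fst Ω₁ Ω₂) ≤ S₁ := by
  rintro _ ⟨x, hx, rfl⟩
  exact (hP hx).1

theorem map_snd_le {P : Subgroup (Ω₁ × Ω₂)} (hP : P ≤ S₁.prod S₂) :
    P.map (MonoidHom.snd Ω₁ Ω₂) ≤ S₂ := by
  rintro _ ⟨x, hx, rfl⟩
  exact (hP hx).2

theorem fst_mem_normalizer {Q : Subgroup (Ω₁ × Ω₂)} {g : Ω₁ × Ω₂}
    (hg : g ∈ Subgroup.normalizer (Q : Set (Ω₁ × Ω₂))) :
    g.1 ∈ Subgroup.normalizer ((Q.map (MonoidHom.fst Ω₁ Ω₂) : Subgroup Ω₁) : Set Ω₁) :=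
  Subgroup.le_normalizer_map (MonoidHom.fst Ω₁ Ω₂) ⟨g, hg, rfl⟩

theorem snd_mem_normalizer {Q : Subgroup (Ω₁ × Ω₂)} {g : Ω₁ × Ω₂}
    (hg : g ∈ Subgroup.normalizer (Q : Set (Ω₁ × Ω₂))) :
    g.2 ∈ Subgroup.normalizer ((Q.map (MonoidHom.snd Ω₁ Ω₂) : Subgroup Ω₂) : Set Ω₂) :=
  Subgroup.le_normalizer_map (MonoidHom.snd Ω₁ Ω₂) ⟨g, hg, rfl⟩

theorem map_fst_normalizerIn_le (Q : Subgroup (Ω₁ × Ω₂)) :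
    (normalizerIn (S₁.prod S₂) Q).map (MonoidHom.fst Ω₁ Ω₂) ≤
      normalizerIn S₁ (Q.map (MonoidHom.fst Ω₁ Ω₂)) := by
  rintro _ ⟨g, ⟨hgS, hgN⟩, rfl⟩
  exact ⟨hgS.1, fst_mem_normalizer hgN⟩

theorem map_snd_normalizerIn_le (Q : Subgroup (Ω₁ × Ω₂)) :
    (normalizerIn (S₁.prod S₂) Q).map (MonoidHom.snd Ω₁ Ω₂) ≤
      normalizerIn S₂ (Q.map (MonoidHom.snd Ω₁ Ω₂)) := by
  rintro _ ⟨g, ⟨hgS, hgN⟩, rfl⟩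
  exact ⟨hgS.2, snd_mem_normalizer hgN⟩

/-- The homomorphism `(x₁, x₂) ↦ (ψ₁ x₁, ψ₂ x₂)` on a subgroup `N` whose projections lie in the
sources of `ψ₁`, `ψ₂`. -/
def prodHom {N : Subgroup (Ω₁ × Ω₂)} {N₁ : Subgroup Ω₁} {N₂ : Subgroup Ω₂}
    (h₁ : N.map (MonoidHom.fst Ω₁ Ω₂) ≤ N₁) (h₂ : N.map (MonoidHom.snd Ω₁ Ω₂) ≤ N₂)
    (ψ₁ : N₁ →* Ω₁) (ψ₂ : N₂ →* Ω₂) : N →* Ω₁ × Ω₂ :=
  MonoidHom.prod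
    (ψ₁.comp ((Subgroup.inclusion h₁).comp ((MonoidHom.fst Ω₁ Ω₂).subgroupMap N)))
    (ψ₂.comp ((Subgroup.inclusion h₂).comp ((MonoidHom.snd Ω₁ Ω₂).subgroupMap N)))

theorem prodHom_apply {N : Subgroup (Ω₁ × Ω₂)} {N₁ : Subgroup Ω₁} {N₂ : Subgroup Ω₂}
    (h₁ : N.map (MonoidHom.fst Ω₁ Ω₂) ≤ N₁) (h₂ : N.map (MonoidHom.snd Ω₁ Ω₂) ≤ N₂)
    (ψ₁ : N₁ →* Ω₁) (ψ₂ : N₂ →* Ω₂) (x : N) :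
    prodHom h₁ h₂ ψ₁ ψ₂ x = (ψ₁ ⟨(x : Ω₁ × Ω₂).1, h₁ (fst_mem N x)⟩,
      ψ₂ ⟨(x : Ω₁ × Ω₂).2, h₂ (snd_mem N x)⟩) := rfl

theorem prodHom_mem {F₁ : FusionSystem S₁} {F₂ : FusionSystem S₂} {E : FusionSystem (S₁.prod S₂)}
    (hE : IsProductSystem F₁ F₂ E) {N : Subgroup (Ω₁ × Ω₂)} (hNS : N ≤ S₁.prod S₂)
    {N₁ : Subgroup Ω₁} {N₂ : Subgroup Ω₂}
    (h₁ : N.map (MonoidHom.fst Ω₁ Ω₂) ≤ N₁) (h₂ : N.map (MonoidHom.snd Ω₁ Ω₂) ≤ N₂)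
    {ψ₁ : N₁ →* Ω₁} (hψ₁ : ψ₁ ∈ F₁.Hom N₁) {ψ₂ : N₂ →* Ω₂} (hψ₂ : ψ₂ ∈ F₂.Hom N₂) :
    prodHom h₁ h₂ ψ₁ ψ₂ ∈ E.Hom N :=
  (hE N _).mpr ⟨hNS, ψ₁.comp (Subgroup.inclusion h₁), restrict_mem F₁ hψ₁ h₁,
    ψ₂.comp (Subgroup.inclusion h₂), restrict_mem F₂ hψ₂ h₂, fun _ _ _ => rfl⟩

theorem exists_components {F₁ : FusionSystem S₁} {F₂ : FusionSystem S₂}
    {E : FusionSystem (S₁.prod S₂)} (hE : IsProductSystem F₁ F₂ E) {R : Subgroup (Ω₁ × Ω₂)}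
    {φ : R →* Ω₁ × Ω₂} (hφ : φ ∈ E.Hom R) :
    ∃ φ₁ ∈ F₁.Hom (R.map (MonoidHom.fst Ω₁ Ω₂)), ∃ φ₂ ∈ F₂.Hom (R.map (MonoidHom.snd Ω₁ Ω₂)),
      ∀ x : R, φ x = (φ₁ ⟨(x : Ω₁ × Ω₂).1, fst_mem R x⟩, φ₂ ⟨(x : Ω₁ × Ω₂).2, snd_mem R x⟩) := by
  obtain ⟨-, φ₁, hφ₁, φ₂, hφ₂, h⟩ := (hE R φ).mp hφ
  exact ⟨φ₁, hφ₁, φ₂, hφ₂, fun x => h x _ _⟩

/-- Lemma R: a subgroup of `S₁ × S₂` with receptive projections is receptive in the product. -/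
theorem receptive_prod {F₁ : FusionSystem S₁} {F₂ : FusionSystem S₂}
    {E : FusionSystem (S₁.prod S₂)} (hE : IsProductSystem F₁ F₂ E) {Q : Subgroup (Ω₁ × Ω₂)}
    (hQS : Q ≤ S₁.prod S₂) (h₁ : F₁.IsReceptive (Q.map (MonoidHom.fst Ω₁ Ω₂)))
    (h₂ : F₂.IsReceptive (Q.map (MonoidHom.snd Ω₁ Ω₂))) : E.IsReceptive Q := by
  refine ⟨hQS, fun R φ hφ hr => ?_⟩
  obtain ⟨φ₁, hφ₁, φ₂, hφ₂, hφx⟩ := exists_components hE hφ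
  have hr₁ : φ₁.range = Q.map (MonoidHom.fst Ω₁ Ω₂) := by
    rw [← map_fst_range (φ := φ) (φ₁ := φ₁) (φ₂ := φ₂) (fun x _ _ => hφx x), hr]
  have hr₂ : φ₂.range = Q.map (MonoidHom.snd Ω₁ Ω₂) := by
    rw [← map_snd_range (φ := φ) (φ₁ := φ₁) (φ₂ := φ₂) (fun x _ _ => hφx x), hr]
  obtain ⟨ψ₁, hψ₁, hψ₁ext⟩ := h₁.2 _ φ₁ hφ₁ hr₁
  obtain ⟨ψ₂, hψ₂, hψ₂ext⟩ := h₂.2 _ φ₂ hφ₂ hr₂
  have hN₁ : (extender (S₁.prod S₂) R φ).map (MonoidHom.fst Ω₁ Ω₂) ≤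
      extender S₁ (R.map (MonoidHom.fst Ω₁ Ω₂)) φ₁ := by
    rintro _ ⟨g, hg, rfl⟩
    obtain ⟨hgS, hgN, h, hhS, hgh⟩ := mem_extender_iff.mp hg
    refine mem_extender_iff.mpr ⟨hgS.1, fst_mem_normalizer hgN, h.1, hhS.1, ?_⟩
    rintro ⟨_, x, hx, rfl⟩
    have h3 := hgh ⟨x, hx⟩
    rw [hφx, hφx] at h3
    exact congrArg Prod.fst h3
  have hN₂ : (extender (S₁.prod S₂) R φ).map (MonoidHom.snd Ω₁ Ω₂) ≤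
      extender S₂ (R.map (MonoidHom.snd Ω₁ Ω₂)) φ₂ := by
    rintro _ ⟨g, hg, rfl⟩
    obtain ⟨hgS, hgN, h, hhS, hgh⟩ := mem_extender_iff.mp hg
    refine mem_extender_iff.mpr ⟨hgS.2, snd_mem_normalizer hgN, h.2, hhS.2, ?_⟩
    rintro ⟨_, x, hx, rfl⟩
    have h3 := hgh ⟨x, hx⟩
    rw [hφx, hφx] at h3
    exact congrArg Prod.snd h3
  have hNS : extender (S₁.prod S₂) R φ ≤ S₁.prod S₂ :=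
    (extender_le_normalizerIn _ _ _).trans inf_le_left
  refine ⟨prodHom hN₁ hN₂ ψ₁ ψ₂, prodHom_mem hE hNS hN₁ hN₂ hψ₁ hψ₂, fun x hxR hxN => ?_⟩
  rw [prodHom_apply, hφx]
  apply Prod.ext
  · exact hψ₁ext x.1 (fst_mem R ⟨x, hxR⟩) _
  · exact hψ₂ext x.2 (snd_mem R ⟨x, hxR⟩) _

end ProdBasics

end Cfsg.Agent.Lib.Helper26
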