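import Cfsg.Agent.Lib.Helper26.ProdSat2

set_option autoImplicit false

namespace Cfsg.Agent.Lib.Helper26

open Cfsg Cfsg.FusionSystem
open Cfsg.Agent.S5136 (fst_mem snd_mem map_fst_range map_snd_range hom_of_eq)

section ProdReceptive

variable {Ω₁ Ω₂ : Type*} [Group Ω₁] [Group Ω₂] {S₁ : Subgroup Ω₁} {S₂ : Subgroup Ω₂}

/-- (II): in the product of two saturated systems every fully normalized subgroup is receptive. -/
theorem receptive_of_fullyNormalized_prod [Finite S₁] [Finite S₂] {p : ℕ} [Fact p.Prime]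
    (h₁ : IsPGroup p S₁) (h₂ : IsPGroup p S₂) (F₁ : FusionSystem S₁) (F₂ : FusionSystem S₂)
    (hF₁ : F₁.IsSaturated p) (hF₂ : F₂.IsSaturated p) (E : FusionSystem (S₁.prod S₂))
    (hE : IsProductSystem F₁ F₂ E) {Q : Subgroup (Ω₁ × Ω₂)} (hQ : E.IsFullyNormalized Q) :
    E.IsReceptive Q := by
  have hQS := hQ.1
  have hQ₁S : Q.map (MonoidHom.fst Ω₁ Ω₂) ≤ S₁ := map_fst_le hQS
  have hQ₂S : Q.map (MonoidHom.snd Ω₁ Ω₂) ≤ S₂ := map_snd_le hQS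
  obtain ⟨Q₁', hc₁, hfa₁, hrec₁⟩ := hF₁ _ hQ₁S
  obtain ⟨Q₂', hc₂, hfa₂, hrec₂⟩ := hF₂ _ hQ₂S
  obtain ⟨ν₁, hν₁, hν₁N, hν₁Q⟩ := exists_normalizer_hom h₁ F₁ hfa₁ hrec₁ hc₁
  obtain ⟨ν₂, hν₂, hν₂N, hν₂Q⟩ := exists_normalizer_hom h₂ F₂ hfa₂ hrec₂ hc₂
  have hN₁ := map_fst_normalizerIn_le (S₁ := S₁) (S₂ := S₂) Q
  have hN₂ := map_snd_normalizerIn_le (S₁ := S₁) (S₂ := S₂) Q
  have hNS : normalizerIn (S₁.prod S₂) Q ≤ S₁.prod S₂ := inf_le_left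
  obtain ⟨ν, hνdef⟩ : ∃ ν : ↥(normalizerIn (S₁.prod S₂) Q) →* Ω₁ × Ω₂,
      ν = prodHom hN₁ hN₂ ν₁ ν₂ := ⟨_, rfl⟩
  have hν : ν ∈ E.Hom (normalizerIn (S₁.prod S₂) Q) := by
    rw [hνdef]; exact prodHom_mem hE hNS hN₁ hN₂ hν₁ hν₂
  have hνx : ∀ x : ↥(normalizerIn (S₁.prod S₂) Q), ν x =
      (ν₁ ⟨(x : Ω₁ × Ω₂).1, hN₁ (fst_mem _ x)⟩, ν₂ ⟨(x : Ω₁ × Ω₂).2, hN₂ (snd_mem _ x)⟩) := by
    intro x; rw [hνdef]; rfl
  have hQN : Q ≤ normalizerIn (S₁.prod S₂) Q := le_normalizerIn_self hQS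
  obtain ⟨Q', hQ'def⟩ : ∃ Q', Q' = (Q.subgroupOf (normalizerIn (S₁.prod S₂) Q)).map ν :=
    ⟨_, rfl⟩
  have hQ'mem : ∀ q : Q, ν ⟨q, hQN q.2⟩ ∈ Q' := by
    intro q
    rw [hQ'def]
    exact ⟨_, Subgroup.mem_subgroupOf.mpr q.2, rfl⟩
  have hQ'ex : ∀ y ∈ Q', ∃ q : Q, ν ⟨q, hQN q.2⟩ = y := by
    intro y hy
    rw [hQ'def] at hy
    obtain ⟨n, hn, rfl⟩ := hy
    exact ⟨⟨n, Subgroup.mem_subgroupOf.mp hn⟩, rfl⟩
  have hQ'S : Q' ≤ S₁.prod S₂ := by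
    intro y hy
    obtain ⟨q, rfl⟩ := hQ'ex y hy
    exact apply_mem E hν _
  have hQ'₁ : Q'.map (MonoidHom.fst Ω₁ Ω₂) = Q₁' := by
    ext y
    constructor
    · rintro ⟨z, hz, rfl⟩
      obtain ⟨q, rfl⟩ := hQ'ex z hz
      rw [hνx, ← hν₁Q]
      exact ⟨_, Subgroup.mem_subgroupOf.mpr (fst_mem Q q), rfl⟩
    · intro hy
      rw [← hν₁Q] at hy
      obtain ⟨n, hn, rfl⟩ := hy
      obtain ⟨q, hq, hqn⟩ := Subgroup.mem_subgroupOf.mp hn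
      refine ⟨ν ⟨q, hQN hq⟩, hQ'mem ⟨q, hq⟩, ?_⟩
      rw [hνx]
      show ν₁ _ = ν₁ n
      congr 1
      exact Subtype.ext hqn
  have hQ'₂ : Q'.map (MonoidHom.snd Ω₁ Ω₂) = Q₂' := by
    ext y
    constructor
    · rintro ⟨z, hz, rfl⟩
      obtain ⟨q, rfl⟩ := hQ'ex z hz
      rw [hνx, ← hν₂Q]
      exact ⟨_, Subgroup.mem_subgroupOf.mpr (snd_mem Q q), rfl⟩
    · intro hy
      rw [← hν₂Q] at hy
      obtain ⟨n, hn, rfl⟩ := hy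
      obtain ⟨q, hq, hqn⟩ := Subgroup.mem_subgroupOf.mp hn
      refine ⟨ν ⟨q, hQN hq⟩, hQ'mem ⟨q, hq⟩, ?_⟩
      rw [hνx]
      show ν₂ _ = ν₂ n
      congr 1
      exact Subtype.ext hqn
  have hQ'rec : E.IsReceptive Q' := by
    apply receptive_prod hE hQ'S
    · rw [hQ'₁]; exact hrec₁
    · rw [hQ'₂]; exact hrec₂
  have hconj : ∀ (g : ↥(normalizerIn (S₁.prod S₂) Q)), ∀ y ∈ Q', ν g * y * (ν g)⁻¹ ∈ Q' := by
    intro g y hy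
    obtain ⟨q, rfl⟩ := hQ'ex y hy
    have hq' : (g : Ω₁ × Ω₂) * q * (g : Ω₁ × Ω₂)⁻¹ ∈ Q := conj_mem_of_mem_normalizer g.2.2 q
    have h3 : ν g * ν ⟨q, hQN q.2⟩ * (ν g)⁻¹ = ν ⟨_, hQN hq'⟩ := by
      rw [← map_inv, ← map_mul, ← map_mul]
      congr 1
    rw [h3]
    exact hQ'mem ⟨_, hq'⟩
  have hνN : ∀ g : ↥(normalizerIn (S₁.prod S₂) Q), ν g ∈ normalizerIn (S₁.prod S₂) Q' := by
    intro g
    refine ⟨apply_mem E hν g, mem_normalizer_of_forall (hconj g) (fun y hy => ?_)⟩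
    have := hconj g⁻¹ y hy
    rw [map_inv, inv_inv] at this
    exact this
  have hQQ' : E.IsConj Q Q' := by
    refine ⟨ν.comp (Subgroup.inclusion hQN), restrict_mem E hν hQN, ?_⟩
    ext y
    constructor
    · rintro ⟨q, rfl⟩
      exact hQ'mem q
    · intro hy
      obtain ⟨q, hq⟩ := hQ'ex y hy
      exact ⟨q, hq⟩
  have hcard := hQ.2 Q' hQQ'
  haveI : Finite ↥(S₁.prod S₂) := Finite.of_equiv _ (Subgroup.prodEquiv S₁ S₂).symm.toEquiv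
  haveI : Finite ↥(normalizerIn (S₁.prod S₂) Q') := finite_of_le inf_le_left
  let f : ↥(normalizerIn (S₁.prod S₂) Q) → ↥(normalizerIn (S₁.prod S₂) Q') :=
    fun g => ⟨ν g, hνN g⟩
  have hf : Function.Injective f := by
    intro a b hab
    exact E.injective_of_mem hν (congrArg Subtype.val hab)
  have hsurj : Function.Surjective f := (Function.Injective.bijective_of_nat_card_le hf hcard).2
  refine receptive_of_normalizerHom_surj E hQS hQ'rec hν hQ'def.symm (fun y hy => ?_)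
  obtain ⟨g, hg⟩ := hsurj ⟨y, hy⟩
  exact ⟨g, congrArg Subtype.val hg⟩

end ProdReceptive

end Cfsg.Agent.Lib.Helper26
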