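import Cfsg.Agent.Lib.Helper26.ProdSat3
import Cfsg.Agent.Lib.Helper26.KNorm2

set_option autoImplicit false

namespace Cfsg.Agent.Lib.Helper26

open Cfsg Cfsg.FusionSystem
open Cfsg.Agent.S5136 (fst_mem snd_mem map_fst_range map_snd_range hom_of_eq)

section GroupProd

variable {G₁ G₂ : Type*} [Group G₁] [Group G₂]

theorem isPGroup_prod {p : ℕ} {H₁ : Subgroup G₁} {H₂ : Subgroup G₂} (h₁ : IsPGroup p H₁)
    (h₂ : IsPGroup p H₂) : IsPGroup p ↥(H₁.prod H₂) := by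
  rintro ⟨⟨a, b⟩, ha, hb⟩
  obtain ⟨k₁, hk₁⟩ := h₁ ⟨a, ha⟩
  obtain ⟨k₂, hk₂⟩ := h₂ ⟨b, hb⟩
  have ha' : a ^ p ^ k₁ = 1 := by
    have := congrArg Subtype.val hk₁
    simpa using this
  have hb' : b ^ p ^ k₂ = 1 := by
    have := congrArg Subtype.val hk₂
    simpa using this
  refine ⟨k₁ + k₂, ?_⟩
  apply Subtype.ext
  show ((a, b) : G₁ × G₂) ^ p ^ (k₁ + k₂) = 1
  rw [Prod.pow_mk, pow_add]
  apply Prod.ext
  · show a ^ (p ^ k₁ * p ^ k₂) = 1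
    rw [pow_mul, ha', one_pow]
  · show b ^ (p ^ k₁ * p ^ k₂) = 1
    rw [mul_comm, pow_mul, hb', one_pow]

theorem IsSylowIn18.prod [Finite G₁] [Finite G₂] {p : ℕ} [Fact p.Prime]
    {R₁ A₁ : Subgroup G₁} {R₂ A₂ : Subgroup G₂} (h₁ : Helper18.IsSylowIn p R₁ A₁)
    (h₂ : Helper18.IsSylowIn p R₂ A₂) : Helper18.IsSylowIn p (R₁.prod R₂) (A₁.prod A₂) := by
  have hle : R₁.prod R₂ ≤ A₁.prod A₂ := Subgroup.prod_mono h₁.le h₂.le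
  refine ⟨hle, isPGroup_prod h₁.isPGroup h₂.isPGroup, fun hdvd => ?_⟩
  have e := Subgroup.relIndex_mul_index hle
  have e₁ := Subgroup.relIndex_mul_index h₁.le
  have e₂ := Subgroup.relIndex_mul_index h₂.le
  rw [Subgroup.index_prod, Subgroup.index_prod, ← e₁, ← e₂] at e
  have hne₁ : A₁.index ≠ 0 := Subgroup.index_ne_zero_of_finite
  have hne₂ : A₂.index ≠ 0 := Subgroup.index_ne_zero_of_finite
  have e' : (R₁.prod R₂).relIndex (A₁.prod A₂) * (A₁.index * A₂.index) =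
      (R₁.relIndex A₁ * R₂.relIndex A₂) * (A₁.index * A₂.index) := by
    rw [e]; ring
  have e'' := Nat.eq_of_mul_eq_mul_right (Nat.pos_of_ne_zero (mul_ne_zero hne₁ hne₂)) e'
  rw [e''] at hdvd
  rcases (Nat.Prime.dvd_mul (Fact.out : p.Prime)).mp hdvd with h | h
  · exact h₁.not_dvd h
  · exact h₂.not_dvd h

end GroupProd

section ProdTop

variable {Ω₁ Ω₂ : Type*} [Group Ω₁] [Group Ω₂] {S₁ : Subgroup Ω₁} {S₂ : Subgroup Ω₂}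

/-- The automorphism `α₁ × α₂` of `S₁ × S₂`. -/
def prodAut (α₁ : MulAut S₁) (α₂ : MulAut S₂) : MulAut ↥(S₁.prod S₂) :=
  (Subgroup.prodEquiv S₁ S₂).trans ((MulEquiv.prodCongr α₁ α₂).trans (Subgroup.prodEquiv S₁ S₂).symm)

theorem prodAut_apply (α₁ : MulAut S₁) (α₂ : MulAut S₂) (x : ↥(S₁.prod S₂)) :
    ((prodAut α₁ α₂ x : ↥(S₁.prod S₂)) : Ω₁ × Ω₂) =
      (((α₁ ⟨(x : Ω₁ × Ω₂).1, x.2.1⟩ : S₁) : Ω₁), ((α₂ ⟨(x : Ω₁ × Ω₂).2, x.2.2⟩ : S₂) : Ω₂)) := rfl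

/-- `(α₁, α₂) ↦ α₁ × α₂` as a homomorphism. -/
def prodAutHom (S₁ : Subgroup Ω₁) (S₂ : Subgroup Ω₂) :
    MulAut S₁ × MulAut S₂ →* MulAut ↥(S₁.prod S₂) where
  toFun a := prodAut a.1 a.2
  map_one' := by
    apply MulEquiv.ext
    intro x
    rfl
  map_mul' a b := by
    apply MulEquiv.ext
    intro x
    rfl

theorem prodAutHom_apply (a : MulAut S₁ × MulAut S₂) : prodAutHom S₁ S₂ a = prodAut a.1 a.2 := rfl

theorem prod_top_map_fst (S₁ : Subgroup Ω₁) (S₂ : Subgroup Ω₂) :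
    (S₁.prod S₂).map (MonoidHom.fst Ω₁ Ω₂) = S₁ := by
  apply le_antisymm (map_fst_le le_rfl)
  intro x hx
  exact ⟨(x, 1), ⟨hx, S₂.one_mem⟩, rfl⟩

theorem prod_top_map_snd (S₁ : Subgroup Ω₁) (S₂ : Subgroup Ω₂) :
    (S₁.prod S₂).map (MonoidHom.snd Ω₁ Ω₂) = S₂ := by
  apply le_antisymm (map_snd_le le_rfl)
  intro x hx
  exact ⟨(1, x), ⟨S₁.one_mem, hx⟩, rfl⟩

theorem map_prodAutHom_autGroup {F₁ : FusionSystem S₁} {F₂ : FusionSystem S₂}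
    {E : FusionSystem (S₁.prod S₂)} (hE : IsProductSystem F₁ F₂ E) :
    ((F₁.autGroup S₁).prod (F₂.autGroup S₂)).map (prodAutHom S₁ S₂) = E.autGroup (S₁.prod S₂) := by
  ext α
  rw [mem_autGroup_iff E le_rfl]
  constructor
  · rintro ⟨⟨α₁, α₂⟩, ⟨hα₁, hα₂⟩, rfl⟩
    have hα₁' : α₁ ∈ F₁.autGroup S₁ := hα₁
    have hα₂' : α₂ ∈ F₂.autGroup S₂ := hα₂
    rw [mem_autGroup_iff F₁ le_rfl] at hα₁'
    rw [mem_autGroup_iff F₂ le_rfl] at hα₂'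
    have h := prodHom_mem hE le_rfl (prod_top_map_fst S₁ S₂).le (prod_top_map_snd S₁ S₂).le
      hα₁' hα₂'
    exact mem_of_forall_eq E h (fun x => rfl)
  · intro hα
    obtain ⟨φ₁, hφ₁, φ₂, hφ₂, hφx⟩ := exists_components hE hα
    have e₁ := prod_top_map_fst S₁ S₂
    have e₂ := prod_top_map_snd S₁ S₂
    have hφ₁' : φ₁.comp (Subgroup.inclusion e₁.ge) ∈ F₁.Hom S₁ := restrict_mem F₁ hφ₁ e₁.ge
    have hφ₂' : φ₂.comp (Subgroup.inclusion e₂.ge) ∈ F₂.Hom S₂ := restrict_mem F₂ hφ₂ e₂.ge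
    have hαx : ∀ x : ↥(S₁.prod S₂), ((α x : ↥(S₁.prod S₂)) : Ω₁ × Ω₂) =
        (φ₁ ⟨(x : Ω₁ × Ω₂).1, fst_mem _ x⟩, φ₂ ⟨(x : Ω₁ × Ω₂).2, snd_mem _ x⟩) := hφx
    have hr₁ : (φ₁.comp (Subgroup.inclusion e₁.ge)).range = S₁ := by
      apply le_antisymm (range_le F₁ hφ₁')
      intro y hy
      have h1 := hαx (α⁻¹ ⟨(y, 1), ⟨hy, S₂.one_mem⟩⟩)
      rw [MulAut.apply_inv_self] at h1
      have h2 := congrArg Prod.fst h1
      refine ⟨⟨((α⁻¹ ⟨(y, 1), ⟨hy, S₂.one_mem⟩⟩ : ↥(S₁.prod S₂)) : Ω₁ × Ω₂).1,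
        (α⁻¹ ⟨(y, 1), ⟨hy, S₂.one_mem⟩⟩).2.1⟩, ?_⟩
      exact h2.symm
    have hr₂ : (φ₂.comp (Subgroup.inclusion e₂.ge)).range = S₂ := by
      apply le_antisymm (range_le F₂ hφ₂')
      intro y hy
      have h1 := hαx (α⁻¹ ⟨(1, y), ⟨S₁.one_mem, hy⟩⟩)
      rw [MulAut.apply_inv_self] at h1
      have h2 := congrArg Prod.snd h1
      refine ⟨⟨((α⁻¹ ⟨(1, y), ⟨S₁.one_mem, hy⟩⟩ : ↥(S₁.prod S₂)) : Ω₁ × Ω₂).2,
        (α⁻¹ ⟨(1, y), ⟨S₁.one_mem, hy⟩⟩).2.2⟩, ?_⟩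
      exact h2.symm
    refine ⟨(autOfHom F₁ hφ₁' hr₁, autOfHom F₂ hφ₂' hr₂),
      ⟨autOfHom_mem F₁ hφ₁' hr₁, autOfHom_mem F₂ hφ₂' hr₂⟩, ?_⟩
    apply MulEquiv.ext
    intro x
    rw [prodAutHom_apply]
    apply Subtype.ext
    rw [prodAut_apply, hαx]
    rfl

theorem map_prodAutHom_autInducedBy (S₁ : Subgroup Ω₁) (S₂ : Subgroup Ω₂) :
    ((autInducedBy S₁ S₁).prod (autInducedBy S₂ S₂)).map (prodAutHom S₁ S₂) =
      autInducedBy (S₁.prod S₂) (S₁.prod S₂) := by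
  ext α
  constructor
  · rintro ⟨⟨α₁, α₂⟩, ⟨hα₁, hα₂⟩, rfl⟩
    have hα₁' : α₁ ∈ autInducedBy S₁ S₁ := hα₁
    have hα₂' : α₂ ∈ autInducedBy S₂ S₂ := hα₂
    obtain ⟨g₁, hg₁, h1⟩ := mem_autInducedBy_iff.mp hα₁'
    obtain ⟨g₂, hg₂, h2⟩ := mem_autInducedBy_iff.mp hα₂'
    refine mem_autInducedBy_iff.mpr ⟨(g₁, g₂), ⟨hg₁, hg₂⟩, fun x => ?_⟩
    rw [prodAutHom_apply, prodAut_apply]
    exact Prod.ext (h1 _) (h2 _)
  · intro hα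
    obtain ⟨g, hg, h⟩ := mem_autInducedBy_iff.mp hα
    have hg₁ : g.1 ∈ Subgroup.normalizer ((S₁ : Subgroup Ω₁) : Set Ω₁) := Subgroup.le_normalizer hg.1
    have hg₂ : g.2 ∈ Subgroup.normalizer ((S₂ : Subgroup Ω₂) : Set Ω₂) := Subgroup.le_normalizer hg.2
    refine ⟨(conjAut S₁ g.1 hg₁, conjAut S₂ g.2 hg₂),
      ⟨conjAut_mem_autInducedBy hg.1 hg₁, conjAut_mem_autInducedBy hg.2 hg₂⟩, ?_⟩
    apply MulEquiv.ext
    intro x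
    rw [prodAutHom_apply]
    apply Subtype.ext
    rw [prodAut_apply, h x]
    rfl

/-- (I): `S₁ × S₂` is fully automized in the product of two saturated systems. -/
theorem top_fullyAutomized_prod [Finite S₁] [Finite S₂] {p : ℕ} [Fact p.Prime]
    (h₁ : IsPGroup p S₁) (h₂ : IsPGroup p S₂) (F₁ : FusionSystem S₁) (F₂ : FusionSystem S₂)
    (hF₁ : F₁.IsSaturated p) (hF₂ : F₂.IsSaturated p) (E : FusionSystem (S₁.prod S₂))
    (hE : IsProductSystem F₁ F₂ E) : E.IsFullyAutomized p (S₁.prod S₂) := by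
  have hfa₁ := (saturated_fullyNormalized h₁ F₁ hF₁ (top_fullyNormalized F₁)).2.1
  have hfa₂ := (saturated_fullyNormalized h₂ F₂ hF₂ (top_fullyNormalized F₂)).2.1
  have hs₁ := isSylowIn18_of_fullyAutomized F₁ hfa₁
  have hs₂ := isSylowIn18_of_fullyAutomized F₂ hfa₂
  haveI : Finite (MulAut S₁) := finite_mulAut_of_le (le_refl S₁)
  haveI : Finite (MulAut S₂) := finite_mulAut_of_le (le_refl S₂)
  have hs := IsSylowIn18.map (IsSylowIn18.prod hs₁ hs₂) (prodAutHom S₁ S₂)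
  rw [map_prodAutHom_autGroup hE, map_prodAutHom_autInducedBy] at hs
  exact ⟨le_rfl, hs.exists_sylow⟩

/-- The direct product of two saturated fusion systems is saturated. -/
theorem prod_saturated [Finite S₁] [Finite S₂] {p : ℕ} [Fact p.Prime]
    (h₁ : IsPGroup p S₁) (h₂ : IsPGroup p S₂) (F₁ : FusionSystem S₁) (F₂ : FusionSystem S₂)
    (hF₁ : F₁.IsSaturated p) (hF₂ : F₂.IsSaturated p) (E : FusionSystem (S₁.prod S₂))
    (hE : IsProductSystem F₁ F₂ E) : E.IsSaturated p := by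
  haveI : Finite ↥(S₁.prod S₂) := Finite.of_equiv _ (Subgroup.prodEquiv S₁ S₂).symm.toEquiv
  have hS : IsPGroup p ↥(S₁.prod S₂) := isPGroup_prod h₁ h₂
  rw [saturated_iff_top_automized_fn_receptive hS E]
  exact ⟨top_fullyAutomized_prod h₁ h₂ F₁ F₂ hF₁ hF₂ E hE,
    fun P hP => receptive_of_fullyNormalized_prod h₁ h₂ F₁ F₂ hF₁ hF₂ E hE hP⟩

end ProdTop

end Cfsg.Agent.Lib.Helper26
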