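import Cfsg.Agent.Lib.Helper26.RankOneNilp

set_option autoImplicit false

namespace Cfsg.Agent.Lib.Helper26

open Cfsg Cfsg.Agent.S5013 Cfsg.Agent.S5014

variable {X : Type*} [Group X] {V : Type*} [AddCommGroup V] [DistribMulAction X V]

/-- `δ_g v = g • v - v`. -/
def dl (g : X) (v : V) : V := g • v - v

theorem dl_def (g : X) (v : V) : dl g v = g • v - v := rfl

theorem smul_eq_add_dl (g : X) (v : V) : g • v = v + dl g v := by
  rw [dl_def]; abel

theorem dl_one (v : V) : dl (1 : X) v = 0 := by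
  rw [dl_def, one_smul, sub_self]

theorem dl_mul (g h : X) (v : V) : dl (g * h) v = dl g (h • v) + dl h v := by
  rw [dl_def, dl_def, dl_def, mul_smul]; abel

theorem dl_add (g : X) (u v : V) : dl g (u + v) = dl g u + dl g v := by
  rw [dl_def, dl_def, dl_def, smul_add]; abel

theorem dl_zero (g : X) : dl g (0 : V) = 0 := by
  rw [dl_def, smul_zero, sub_self]

theorem dl_neg (g : X) (v : V) : dl g (-v) = -dl g v := by
  rw [dl_def, dl_def, smul_neg]; abel

theorem dl_sub (g : X) (u v : V) : dl g (u - v) = dl g u - dl g v := by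
  rw [dl_def, dl_def, dl_def, smul_sub]; abel

theorem dl_nsmul (g : X) (n : ℕ) (v : V) : dl g (n • v) = n • dl g v := by
  induction n with
  | zero => rw [zero_smul, zero_smul, dl_zero]
  | succ n ih => rw [succ_nsmul, succ_nsmul, dl_add, ih]

theorem smul_dl (g h : X) (v : V) : g • dl h v = dl (g * h * g⁻¹) (g • v) := by
  rw [dl_def, dl_def, smul_sub, ← mul_smul, ← mul_smul, inv_mul_cancel_right]

theorem dl_eq_zero_iff (g : X) (v : V) : dl g v = 0 ↔ g • v = v := by
  rw [dl_def, sub_eq_zero]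

/-- `H` acts quadratically on `V`. -/
def Quad (V : Type*) [AddCommGroup V] [DistribMulAction X V] (H : Subgroup X) : Prop :=
  ∀ h ∈ H, ∀ h' ∈ H, ∀ v : V, h' • (h • v - v) = h • v - v

namespace Quad

variable {H : Subgroup X}

theorem dl_dl (hq : Quad V H) {h h' : X} (hh : h ∈ H) (hh' : h' ∈ H) (v : V) :
    dl h' (dl h v) = 0 := by
  rw [dl_eq_zero_iff]
  exact hq h hh h' hh' v

theorem dl_mul' (hq : Quad V H) {h h' : X} (hh : h ∈ H) (hh' : h' ∈ H) (v : V) :
    dl (h * h') v = dl h v + dl h' v := by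
  rw [dl_mul, smul_eq_add_dl h' v, dl_add, hq.dl_dl hh' hh, add_zero]

theorem dl_inv (hq : Quad V H) {h : X} (hh : h ∈ H) (v : V) : dl h⁻¹ v = -dl h v := by
  have h1 := hq.dl_mul' hh (H.inv_mem hh) v
  rw [mul_inv_cancel, dl_one] at h1
  exact eq_neg_of_add_eq_zero_right h1.symm

theorem dl_pow (hq : Quad V H) {h : X} (hh : h ∈ H) (n : ℕ) (v : V) :
    dl (h ^ n) v = n • dl h v := by
  induction n with
  | zero => rw [pow_zero, dl_one, zero_smul]
  | succ n ih => rw [pow_succ, hq.dl_mul' (H.pow_mem hh n) hh, ih, succ_nsmul]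

theorem conj (hq : Quad V H) (g : X) : Quad V (Cfsg.conjBy H g) := by
  intro h hh h' hh' v
  rw [mem_conjBy_iff] at hh hh'
  have h1 := hq _ hh _ hh' (g⁻¹ • v)
  have h2 := congrArg (fun u => g • u) h1
  simp only [smul_sub, ← mul_smul] at h2
  have e1 : g * (g⁻¹ * h' * g) * (g⁻¹ * h * g * g⁻¹) = h' * h := by group
  have e2 : g * (g⁻¹ * h' * g) * g⁻¹ = h' := by group
  have e3 : g * (g⁻¹ * h * g * g⁻¹) = h := by group
  have e4 : g * (g⁻¹ * h' * g * g⁻¹) = h' := by group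
  rw [smul_sub, ← mul_smul]
  simp only [mul_assoc] at h2 e1 e2 e3 e4 ⊢
  simpa [mul_assoc, e1, e2, e3, e4] using h2

/-- Elements of a quadratically acting subgroup commute, if the action is faithful. -/
theorem commute (hq : Quad V H) (hf : ∀ x : X, (∀ v : V, x • v = v) → x = 1) {h h' : X}
    (hh : h ∈ H) (hh' : h' ∈ H) : h * h' = h' * h := by
  have h1 : ∀ v : V, (h * h') • v = (h' * h) • v := by
    intro v
    rw [smul_eq_add_dl (h * h'), smul_eq_add_dl (h' * h), hq.dl_mul' hh hh', hq.dl_mul' hh' hh,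
      add_comm (dl h v)]
  have h2 : (h' * h)⁻¹ * (h * h') = 1 := by
    apply hf
    intro v
    rw [mul_smul, h1, ← mul_smul, inv_mul_cancel, one_smul]
  exact (inv_mul_eq_one.mp h2).symm

end Quad

/-- The basic relation for partners `a, b` (with `b⁻¹ A b = a⁻¹ B a`) in a pair of
quadratically acting subgroups: `δ_b = δ_b δ_a δ_b` on `[V, A]`. -/
theorem quad_partner_rel {A B : Subgroup X} (hA : Quad V A) (hB : Quad V B) {a b : X} (ha : a ∈ A)
    (hb : b ∈ B) (hab : Cfsg.conjBy A b⁻¹ = Cfsg.conjBy B a⁻¹) {a' : X} (ha' : a' ∈ A) (v : V) :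
    dl b (dl a' v) = dl b (dl a (dl b (dl a' v))) := by
  have h1 : b⁻¹ * a' * b ∈ Cfsg.conjBy A b⁻¹ := mem_conjBy_inv_of_mem ha' b
  rw [hab, mem_conjBy_iff, inv_inv] at h1
  -- b' := a * (b⁻¹ * a' * b) * a⁻¹ ∈ B
  have h2 : a • b⁻¹ • dl a' v = dl (a * (b⁻¹ * a' * b) * a⁻¹) (a • b⁻¹ • v) := by
    rw [smul_dl, smul_dl]
    congr 1
    group
  have h3 : dl b (a • b⁻¹ • dl a' v) = 0 := by
    rw [h2]
    exact hB.dl_dl h1 hb _
  have h4 : b⁻¹ • dl a' v = dl a' v - dl b (dl a' v) := by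
    rw [smul_eq_add_dl, hB.dl_inv hb]; abel
  have h5 : a • dl a' v = dl a' v := (dl_eq_zero_iff _ _).mp (hA.dl_dl ha' ha v)
  have h6 : a • b⁻¹ • dl a' v = dl a' v - dl b (dl a' v) - dl a (dl b (dl a' v)) := by
    rw [h4, smul_sub, h5, smul_eq_add_dl a (dl b (dl a' v))]; abel
  rw [h6, dl_sub, dl_sub, hB.dl_dl hb hb, sub_zero, sub_eq_zero] at h3
  exact h3

end Cfsg.Agent.Lib.Helper26
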