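import Mathlib
import Cfsg.Agent.Lib.Helper29.REEG5D

/-! REE row G5D: the verbatim `ReeAx.NV_basic` is in `Cfsg.Agent.Lib.Helper29.REEG5D` (helper29 landed the wrapper of
helper26's `reeg5d_core` first); this module only re-exports it by import, to keep a single declaration of the name. -/
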