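import Mathlib
import Cfsg.Agent.Lib.Helper18.REELA.Defs

/-! REE block LA, row LA18 (`la_cent_cyclic`, = helper7's LAD), helper26: core with the cited rows LA04 (`la_split`) and LA14
(`la_abs_cyclic`, instantiated at `V = Fin 7 → K`, `G = ↥C`) as hypotheses. -/

set_option autoImplicit false

namespace Cfsg.Agent.Lib.helper7.REE

open Matrix Polynomial

universe v

section finite

variable {K : Type v} [Field K] [Fintype K]

/-- LA18, core: `h04` is the statement of LA04 for `M`, `h14` the statement of LA14 for `f = laHom _ _ M`, `G = ↥C`. -/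
theorem reela18_core (M : GL (Fin 7) K)
    (C : Subgroup (GL (Fin 7) K)) [Finite C] (hC : ∀ c ∈ C, c * M = M * c)
    (hcop : (Nat.card C).Coprime (Fintype.card K - 1))
    (h04 : ∃ p : K[X], p.natDegree = 6 ∧ LaSplit (laHom (Fin 7) K M) p)
    (h14 : ∀ p : K[X], LaSplit (laHom (Fin 7) K M) p →
      ∀ ρ : ↥C →* Module.End K (Fin 7 → K), Function.Injective ρ →
      (∀ g, Commute (ρ g) (laHom (Fin 7) K M)) → (Nat.card ↥C).Coprime (Fintype.card K - 1) →
      IsCyclic ↥C ∧ ∀ g : ↥C, g ^ (Fintype.card K ^ p.natDegree - 1) = 1) :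
    IsCyclic C ∧ ∀ c ∈ C, c ^ (Fintype.card K ^ 6 - 1) = 1 := by
  obtain ⟨p, hp6, hs⟩ := h04
  have hinj : Function.Injective ((laHom (Fin 7) K).comp C.subtype) := by
    intro a b hab
    exact Subtype.ext (laHom_injective (Fin 7) K hab)
  have hcom : ∀ g : ↥C, Commute (((laHom (Fin 7) K).comp C.subtype) g) (laHom (Fin 7) K M) := by
    intro g
    show laHom (Fin 7) K (g : GL (Fin 7) K) * laHom (Fin 7) K M =
      laHom (Fin 7) K M * laHom (Fin 7) K (g : GL (Fin 7) K)
    rw [← map_mul, ← map_mul, hC g.1 g.2]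
  obtain ⟨hcyc, hexp⟩ := h14 p hs _ hinj hcom hcop
  refine ⟨hcyc, fun c hc => ?_⟩
  have := hexp ⟨c, hc⟩
  rw [hp6] at this
  have h2 := congrArg Subtype.val this
  simpa using h2

end finite

end Cfsg.Agent.Lib.helper7.REE
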