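import Mathlib
import Cfsg.Agent.Lib.helper8.RSM.Defs
import Cfsg.Agent.Lib.Helper28.RSMC5

/-! RSM row C2 (`x_inv`), helper26: inverses in `U`, from the explicit inverse `rsmc5_inv`. -/

set_option autoImplicit false

namespace Cfsg.Agent.Lib.helper8.RSM

universe u v w

variable {G : Type u} [Group G] {K : Type v} [Field K] [Fintype K] {m : ℕ}

/-- C2 [M]. Inverses: solve `x t u v * x (-t) u' v' = x 0 0 0` with `x_mul`, `x_inj` is not needed
(`((-t) ^ 3 ^ m) ^ 3 = -((t ^ 3 ^ m) ^ 3)`, odd exponents). -/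
theorem x_inv (RU : ReeU G K m) (t u v : K) :
    ∃ u' v' : K, (RU.x t u v)⁻¹ = RU.x (-t) u' v' :=
  ⟨_, _, rsmc5_inv RU t u v⟩

end Cfsg.Agent.Lib.helper8.RSM
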