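import Mathlib
import Cfsg.Agent.Lib.helper7.REE.Defs
import Cfsg.Agent.Lib.helper23.PCore
import Cfsg.Agent.S0009
import Cfsg.Agent.S0044

/-! RSS row F1 (`rss_fit`), helper26: a nontrivial solvable subgroup `S` has a nontrivial normal `p`-subgroup with `p` odd, or
`O_2(S) ≠ 1` is self-centralising in `S` (landed S0009 + S0044 in the group `↥S`). -/

set_option autoImplicit false

namespace Cfsg.Agent.Lib.helper7.REE

open Matrix Cfsg.Agent.Lib.helper8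

universe u v

/-- the image in `G` of a normal subgroup of `↥S` is normalised by `S` -/
theorem rssf1_map_normal {G : Type u} [Group G] (S : Subgroup G) (N : Subgroup ↥S) (hN : N.Normal) :
    ∀ s ∈ S, ∀ x ∈ N.map S.subtype, s * x * s⁻¹ ∈ N.map S.subtype := by
  intro s hs x hx
  obtain ⟨y, hy, rfl⟩ := hx
  exact ⟨⟨s, hs⟩ * y * ⟨s, hs⟩⁻¹, hN.conj_mem y hy ⟨s, hs⟩, rfl⟩

theorem rssf1_map_ne_bot {G : Type u} [Group G] (S : Subgroup G) (N : Subgroup ↥S) (hN : N ≠ ⊥) :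
    N.map S.subtype ≠ ⊥ := by
  intro h
  apply hN
  rw [eq_bot_iff]
  intro y hy
  have h1 : (y : G) ∈ N.map S.subtype := ⟨y, hy, rfl⟩
  rw [h, Subgroup.mem_bot] at h1
  rw [Subgroup.mem_bot]
  exact Subtype.ext h1

/-- F1 -/
theorem rss_fit {G : Type u} [Group G] [Finite G] (S : Subgroup G) (hS : Group.IsSolvable S) (hne : S ≠ ⊥) :
    (∃ p : ℕ, p.Prime ∧ p ≠ 2 ∧ ∃ Q : Subgroup G, Q ≤ S ∧ Q ≠ ⊥ ∧ IsPGroup p Q ∧
        ∀ s ∈ S, ∀ x ∈ Q, s * x * s⁻¹ ∈ Q) ∨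
    (∃ Q : Subgroup G, Q ≤ S ∧ Q ≠ ⊥ ∧ IsPGroup 2 Q ∧ (∀ s ∈ S, ∀ x ∈ Q, s * x * s⁻¹ ∈ Q) ∧
        ∀ s ∈ S, (∀ x ∈ Q, s * x = x * s) → s ∈ Q) := by
  by_cases hodd : ∃ p : ℕ, p.Prime ∧ p ≠ 2 ∧ Cfsg.pCore p ↥S ≠ ⊥
  · left
    obtain ⟨p, hp, hp2, hcore⟩ := hodd
    have : Fact p.Prime := ⟨hp⟩
    refine ⟨p, hp, hp2, (Cfsg.pCore p ↥S).map S.subtype, Subgroup.map_subtype_le _,
      rssf1_map_ne_bot S _ hcore, ?_, rssf1_map_normal S _ (Cfsg.Agent.Lib.helper23.pCore_normal p ↥S)⟩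
    exact (Cfsg.Agent.Lib.helper23.pCore_isPGroup p ↥S).map S.subtype
  · right
    push Not at hodd
    have hF : Cfsg.fittingSubgroup ↥S = Cfsg.pCore 2 ↥S := by
      rw [Cfsg.Agent.S0009.result]
      apply le_antisymm
      · refine iSup_le fun p => ?_
        by_cases h2 : (p : ℕ) = 2
        · rw [h2]
        · rw [hodd (p : ℕ) p.2 h2]
          exact bot_le
      · exact le_iSup (fun p : Nat.Primes => Cfsg.pCore (p : ℕ) ↥S) ⟨2, Nat.prime_two⟩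
    have hcent := Cfsg.Agent.S0044.result (G := ↥S)
    rw [hF] at hcent
    have hcore : Cfsg.pCore 2 ↥S ≠ ⊥ := by
      intro h
      rw [h] at hcent
      apply hne
      rw [eq_bot_iff]
      intro s hs
      have h1 : (⟨s, hs⟩ : ↥S) ∈ Subgroup.centralizer (((⊥ : Subgroup ↥S)) : Set ↥S) := by
        rw [Subgroup.mem_centralizer_iff]
        intro x hx
        have hx1 : x = 1 := hx
        rw [hx1, one_mul, mul_one]
      have h2 := hcent h1
      rw [Subgroup.mem_bot] at h2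
      rw [Subgroup.mem_bot]
      exact congrArg Subtype.val h2
    have : Fact (Nat.Prime 2) := ⟨Nat.prime_two⟩
    refine ⟨(Cfsg.pCore 2 ↥S).map S.subtype, Subgroup.map_subtype_le _,
      rssf1_map_ne_bot S _ hcore, (Cfsg.Agent.Lib.helper23.pCore_isPGroup 2 ↥S).map S.subtype,
      rssf1_map_normal S _ (Cfsg.Agent.Lib.helper23.pCore_normal 2 ↥S), ?_⟩
    intro s hs hcomm
    have h1 : (⟨s, hs⟩ : ↥S) ∈ Subgroup.centralizer ((Cfsg.pCore 2 ↥S : Subgroup ↥S) : Set ↥S) := by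
      rw [Subgroup.mem_centralizer_iff]
      intro x hx
      apply Subtype.ext
      have := hcomm (x : G) ⟨x, hx, rfl⟩
      exact this.symm
    exact ⟨⟨s, hs⟩, hcent h1, rfl⟩

end Cfsg.Agent.Lib.helper7.REE
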