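import Mathlib
import Cfsg.Prelude.Def_Blocks
import Cfsg.Agent.Lib.Helper26.MuraiExt
import Cfsg.Agent.Lib.Helper26.NormalCentProd
import Cfsg.Agent.Lib.helper7.Clifford
import Cfsg.Agent.S0887

set_option autoImplicit false
set_option linter.style.haveILetI false
set_option linter.unusedSectionVars false
set_option linter.unusedVariables false

namespace Cfsg.Agent.Lib.Helper26

open scoped ComplexConjugate
open Cfsg.Agent.Lib.Helper24 Cfsg.Agent.Lib.Helper25 Cfsg.Agent.Lib.helper7 Cfsg.Agent.Lib.helper2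
open Cfsg.Agent.Lib.Helper11

section reykey

variable {H : Type*} [Group H] [Fintype H]

/-- A character `Ψ` of `H` without linear constituents, a central subgroup `A` of `p`-power index
containing `g`: then `Ψ g` is `p` times an algebraic integer. -/
theorem rey_key (p : ℕ) [hp : Fact p.Prime] (g : H) (A : Subgroup H)
    (hA : A ≤ Subgroup.center H) (hgA : g ∈ A) (k : ℕ) (hidx : A.index = p ^ k)
    (Ψ : H → ℂ) (hΨ : Cfsg.IsCharacter H Ψ)
    (hno : ∀ Θ : Cfsg.IrrCharacter H, Cfsg.classInner Ψ (Θ : H → ℂ) ≠ 0 →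
      (Θ : H → ℂ) 1 ≠ 1) :
    ∃ a : ℂ, IsIntegral ℤ a ∧ Ψ g = (p : ℂ) * a := by
  classical
  haveI : Fintype (Cfsg.IrrCharacter H) := Fintype.ofFinite _
  obtain ⟨m, hm, hexp⟩ := isCharacter_expansion hΨ
  have hg : g ∈ Subgroup.center H := hA hgA
  have key : ∀ Θ : Cfsg.IrrCharacter H, ∃ a : ℂ, IsIntegral ℤ a ∧
      (m Θ : ℂ) * (Θ : H → ℂ) g = (p : ℂ) * a := by
    intro Θ
    by_cases hm0 : m Θ = 0
    · exact ⟨0, isIntegral_zero, by simp [hm0]⟩
    · obtain ⟨c, hcint, hc⟩ := mur_central_value Θ g hg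
      have hdvd : Cfsg.charDegree (Θ : H → ℂ) ∣ p ^ k := hidx ▸ mur_degree_dvd Θ A hA
      have hp_dvd : p ∣ Cfsg.charDegree (Θ : H → ℂ) := by
        by_contra hnd
        obtain ⟨j, hj, hdj⟩ := (Nat.dvd_prime_pow hp.out).mp hdvd
        have hj0 : j = 0 := by
          by_contra h
          apply hnd
          rw [hdj]
          exact dvd_pow_self p h
        rw [hj0, pow_zero] at hdj
        have hne0 : Cfsg.classInner Ψ (Θ : H → ℂ) ≠ 0 := by
          rw [hm Θ]; exact_mod_cast hm0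
        apply hno Θ hne0
        rw [← (charDegree_irr Θ).1, hdj, Nat.cast_one]
      obtain ⟨t, ht⟩ := hp_dvd
      refine ⟨(m Θ : ℂ) * c * (t : ℂ), ?_, ?_⟩
      · exact IsIntegral.mul (IsIntegral.mul (isIntegral_natCast (R := ℤ) (a := m Θ)) hcint)
          (isIntegral_natCast (R := ℤ) (a := t))
      · rw [hc, ← (charDegree_irr Θ).1, ht]
        push_cast
        ring
  choose a ha1 ha2 using key
  refine ⟨∑ Θ, a Θ, IsIntegral.sum _ (fun Θ _ => ha1 Θ), ?_⟩
  have hΨg : Ψ g = ∑ Θ : Cfsg.IrrCharacter H, (m Θ : ℂ) * (Θ : H → ℂ) g := by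
    conv_lhs => rw [hexp]
    simp [Finset.sum_apply]
  rw [hΨg, Finset.mul_sum]
  exact Finset.sum_congr rfl (fun Θ _ => ha2 Θ)

end reykey

section reyabel

/-- a finite group all of whose irreducible characters are linear is abelian -/
theorem rey_all_linear_comm {P : Type*} [Group P] [Finite P]
    (h : ∀ ζ : Cfsg.IrrCharacter P, (ζ : P → ℂ) 1 = 1) : ∀ a c : P, a * c = c * a := by
  classical
  haveI : Fintype P := Fintype.ofFinite _
  haveI : Fintype (Cfsg.IrrCharacter P) := Fintype.ofFinite _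
  intro a c
  set w : P := a * c * a⁻¹ * c⁻¹ with hw
  have hwc : w ∈ commutator P := by
    rw [commutator_def]
    exact Subgroup.commutator_mem_commutator (Subgroup.mem_top a) (Subgroup.mem_top c)
  have h1 : ∀ ζ : Cfsg.IrrCharacter P, (ζ : P → ℂ) w = 1 :=
    fun ζ => irr_linear_commutator ζ (h ζ) hwc
  have h2 := irr_column_orthogonality (G := P) w 1
  have h3 : ∑ χ : Cfsg.IrrCharacter P, (χ : P → ℂ) w * conj ((χ : P → ℂ) 1) =
      (Fintype.card (Cfsg.IrrCharacter P) : ℂ) := by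
    rw [Finset.sum_congr rfl (fun χ _ => by rw [h1 χ, h χ, map_one, mul_one]),
      Finset.sum_const, Finset.card_univ, nsmul_eq_mul, mul_one]
  rw [h3] at h2
  have h4 : IsConj (1 : P) w := by
    by_contra hcon
    rw [if_neg hcon] at h2
    have : (Fintype.card (Cfsg.IrrCharacter P) : ℂ) ≠ 0 := by
      have : Nonempty (Cfsg.IrrCharacter P) := ⟨trivIrr P⟩
      exact_mod_cast Fintype.card_ne_zero
    exact this h2
  have h5 : w = 1 := isConj_one_right.mp h4
  have h6 : a * c = w * (c * a) := by rw [hw]; group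
  rw [h6, h5, one_mul]

end reyabel

section reylin

variable {G : Type*} [Group G] [Fintype G]

/-- A character of height zero has a linear constituent on restriction to a defect group. -/
theorem rey_linear_const [Fintype (Cfsg.IrrCharacter G)] (p : ℕ) [hp : Fact p.Prime]
    (M : Ideal Cfsg.AlgInt) (hM : Cfsg.IsPModular p M) (χ₀ χ : Cfsg.IrrCharacter G)
    (hχ : χ ∈ Cfsg.blockOf M (χ₀ : G → ℂ))
    (h0 : Cfsg.blockHeight p (Cfsg.blockOf M (χ₀ : G → ℂ)) (χ : G → ℂ) = 0)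
    (P : Subgroup G) [Fintype P]
    (hP : Cfsg.IsDefectGroup p M (Cfsg.blockOf M (χ₀ : G → ℂ)) P) :
    ∃ μ : Cfsg.IrrCharacter P, (μ : P → ℂ) 1 = 1 ∧
      Cfsg.classInner (fun u : P => (χ : G → ℂ) u) (μ : P → ℂ) ≠ 0 := by
  classical
  have hMp := hM.2.1.isPrime
  obtain ⟨g, hg, Q, hQ⟩ := hP
  have hPp : IsPGroup p P := by
    rw [hQ]
    exact Q.isPGroup'.map _
  have hDg : ∀ u ∈ P, u * g = g * u := by
    intro u hu
    rw [hQ] at hu
    obtain ⟨q, _, rfl⟩ := Subgroup.mem_map.mp hu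
    exact Subgroup.mem_centralizer_singleton_iff.mp q.2
  have hnot := mur_value_not_mem p M hM χ₀ χ hχ h0 g hg
  have hcomm : ∀ u ∈ P, ∀ v ∈ Subgroup.zpowers g, u * v = v * u := by
    intro u hu v hv
    obtain ⟨n, rfl⟩ := Subgroup.mem_zpowers_iff.mp hv
    have h : Commute u g := hDg u hu
    exact h.zpow_right n
  let π : ↥P × ↥(Subgroup.zpowers g) →* G :=
    { toFun := fun x => (x.1 : G) * (x.2 : G)
      map_one' := by simp
      map_mul' := by
        intro x y
        have h := hcomm y.1 y.1.2 x.2 x.2.2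
        simp only [Prod.fst_mul, Prod.snd_mul, Subgroup.coe_mul]
        calc (x.1 : G) * y.1 * (x.2 * y.2) = x.1 * (y.1 * x.2) * y.2 := by group
          _ = x.1 * (x.2 * y.1) * y.2 := by rw [h]
          _ = x.1 * x.2 * (y.1 * y.2) := by group }
  have hπ : ∀ x : ↥P × ↥(Subgroup.zpowers g), π x = (x.1 : G) * (x.2 : G) := fun _ => rfl
  haveI : Fintype (↥P × ↥(Subgroup.zpowers g)) := Fintype.ofFinite _
  haveI : Fintype (Cfsg.IrrCharacter (↥P × ↥(Subgroup.zpowers g))) := Fintype.ofFinite _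
  let gK : ↥P × ↥(Subgroup.zpowers g) := (1, ⟨g, Subgroup.mem_zpowers g⟩)
  let A : Subgroup (↥P × ↥(Subgroup.zpowers g)) :=
    (MonoidHom.fst ↥P ↥(Subgroup.zpowers g)).ker
  have hA : A ≤ Subgroup.center (↥P × ↥(Subgroup.zpowers g)) := by
    intro a ha
    have ha1 : a.1 = 1 := ha
    rw [Subgroup.mem_center_iff]
    intro y
    apply Prod.ext
    · simp [ha1]
    · apply Subtype.ext
      simp only [Prod.snd_mul, Subgroup.coe_mul]
      obtain ⟨n1, hn1⟩ := Subgroup.mem_zpowers_iff.mp y.2.2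
      obtain ⟨n2, hn2⟩ := Subgroup.mem_zpowers_iff.mp a.2.2
      rw [← hn1, ← hn2]
      exact Commute.zpow_zpow_self g n1 n2
  have hgA : gK ∈ A := by
    show (MonoidHom.fst ↥P ↥(Subgroup.zpowers g)) gK = 1
    rfl
  obtain ⟨k, hk⟩ := IsPGroup.iff_card.mp hPp
  have hidx : A.index = p ^ k := by
    rw [Subgroup.index_ker, MonoidHom.range_eq_top.mpr (fun d => ⟨(d, 1), rfl⟩),
      Subgroup.card_top, hk]
  let Ψ : ↥P × ↥(Subgroup.zpowers g) → ℂ := fun x => (χ : G → ℂ) (π x)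
  have hΨ : Cfsg.IsCharacter (↥P × ↥(Subgroup.zpowers g)) Ψ :=
    isCharacter_comp_hom (isCharacter_of_irr χ) π
  let ι : ↥P →* ↥P × ↥(Subgroup.zpowers g) := MonoidHom.inl ↥P ↥(Subgroup.zpowers g)
  have hΨι : (fun u : P => (χ : G → ℂ) u) = fun u : P => Ψ (ι u) := by
    funext u
    show (χ : G → ℂ) u = (χ : G → ℂ) (π (ι u))
    rw [hπ]
    show (χ : G → ℂ) u = (χ : G → ℂ) ((u : G) * ((1 : ↥(Subgroup.zpowers g)) : G))
    rw [Subgroup.coe_one, mul_one]
  by_contra hcon
  push Not at hcon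
  obtain ⟨m, hm, hexp⟩ := isCharacter_expansion hΨ
  have hno : ∀ Θ : Cfsg.IrrCharacter (↥P × ↥(Subgroup.zpowers g)),
      Cfsg.classInner Ψ (Θ : ↥P × ↥(Subgroup.zpowers g) → ℂ) ≠ 0 →
      (Θ : ↥P × ↥(Subgroup.zpowers g) → ℂ) 1 ≠ 1 := by
    intro Θ hΘ h1
    have hdeg : Cfsg.charDegree (Θ : ↥P × ↥(Subgroup.zpowers g) → ℂ) = 1 := by
      have := (charDegree_irr Θ).1
      rw [h1] at this
      exact_mod_cast this
    obtain ⟨η, hη⟩ := afLin_surj Θ hdeg
    set μ : Cfsg.IrrCharacter P := afLin (η.comp ι) with hμ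
    have hμ1 : (μ : P → ℂ) 1 = 1 := by
      rw [hμ, afLin_apply, map_one, Units.val_one]
    have hzero := hcon μ hμ1
    have hnat : ∀ Θ' : Cfsg.IrrCharacter (↥P × ↥(Subgroup.zpowers g)), ∃ n : ℕ,
        Cfsg.classInner (fun u : P => (Θ' : ↥P × ↥(Subgroup.zpowers g) → ℂ) (ι u)) (μ : P → ℂ) =
          (n : ℂ) :=
      fun Θ' => classInner_character_nat (isCharacter_comp_hom (isCharacter_of_irr Θ') ι)
        (isCharacter_of_irr μ)
    choose n hn using hnat
    have hΘμ : (fun u : P => (Θ : ↥P × ↥(Subgroup.zpowers g) → ℂ) (ι u)) = (μ : P → ℂ) := by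
      funext u
      rw [← hη, afLin_apply, hμ, afLin_apply]
      rfl
    have hnΘ : n Θ = 1 := by
      have h2 := hn Θ
      rw [hΘμ, irr_classInner, if_pos rfl] at h2
      exact_mod_cast h2.symm
    have hmΘ : m Θ ≠ 0 := by
      intro h
      apply hΘ
      rw [hm Θ, h, Nat.cast_zero]
    have hsum : Cfsg.classInner (fun u : P => Ψ (ι u)) (μ : P → ℂ) =
        ((∑ Θ' : Cfsg.IrrCharacter (↥P × ↥(Subgroup.zpowers g)), m Θ' * n Θ' : ℕ) : ℂ) := by
      have h3 : (fun u : P => Ψ (ι u)) =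
          ∑ Θ' : Cfsg.IrrCharacter (↥P × ↥(Subgroup.zpowers g)),
            (m Θ' : ℂ) • (fun u : P => (Θ' : ↥P × ↥(Subgroup.zpowers g) → ℂ) (ι u)) := by
        funext u
        conv_lhs => rw [hexp]
        simp [Finset.sum_apply]
      rw [h3, classInner_sum_left]
      push_cast
      refine Finset.sum_congr rfl fun Θ' _ => ?_
      rw [classInner_smul_left, hn Θ']
    rw [hΨι, hsum] at hzero
    have hpos : 0 < ∑ Θ' : Cfsg.IrrCharacter (↥P × ↥(Subgroup.zpowers g)), m Θ' * n Θ' := by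
      calc 0 < m Θ * n Θ := by rw [hnΘ, mul_one]; exact Nat.pos_of_ne_zero hmΘ
        _ ≤ _ := Finset.single_le_sum (f := fun Θ' => m Θ' * n Θ')
            (fun _ _ => Nat.zero_le _) (Finset.mem_univ Θ)
    have : (∑ Θ' : Cfsg.IrrCharacter (↥P × ↥(Subgroup.zpowers g)), m Θ' * n Θ') = 0 := by
      exact_mod_cast hzero
    omega
  obtain ⟨a, ha, hag⟩ := rey_key p gK A hA hgA k hidx Ψ hΨ hno
  apply hnot
  have hχg : (χ : G → ℂ) g = (p : ℂ) * a := by
    rw [← hag]
    show (χ : G → ℂ) g = (χ : G → ℂ) (π gK)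
    rw [hπ]
    show (χ : G → ℂ) g = (χ : G → ℂ) (((1 : ↥P) : G) * g)
    rw [Subgroup.coe_one, one_mul]
  rw [hχg]
  exact h7_memLocalIdeal_mul_right hMp (h7_memLocalIdeal_p hM)
    (h7_memLocalRing_of_isIntegral hMp ha)

end reylin

section reymain

variable {G : Type*} [Group G]

/-- all heights zero implies the normal defect group is abelian -/
theorem rey_backward [Finite G] (p : ℕ) [hp : Fact p.Prime] (M : Ideal Cfsg.AlgInt)
    (hM : Cfsg.IsPModular p M) (B : Set (Cfsg.IrrCharacter G)) (hB : Cfsg.IsPBlock M B)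
    (P : Subgroup G) [hPn : P.Normal] (hP : Cfsg.IsDefectGroup p M B P)
    (h : ∀ χ ∈ B, Cfsg.blockHeight p B (χ : G → ℂ) = 0) :
    ∀ a ∈ P, ∀ c ∈ P, a * c = c * a := by
  classical
  haveI : Fintype G := Fintype.ofFinite _
  haveI : Fintype (Cfsg.IrrCharacter G) := Fintype.ofFinite _
  haveI : Fintype P := Fintype.ofFinite _
  have hPp : IsPGroup p P := by
    obtain ⟨g, hg, Q, hQ⟩ := hP
    rw [hQ]
    exact Q.isPGroup'.map _
  obtain ⟨χ₀, rfl⟩ := hB
  have hlin : ∀ ζ : Cfsg.IrrCharacter P, (ζ : P → ℂ) 1 = 1 := by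
    intro ζ
    obtain ⟨χ, hχB, hχζ⟩ := ncp_surj hM P hPp χ₀ ζ
    obtain ⟨μ, hμ1, hμ⟩ := rey_linear_const p M hM χ₀ χ hχB (h χ hχB) P hP
    obtain ⟨g, hg⟩ := h7_clifford_conj P (χ : G → ℂ) χ.2 (μ : P → ℂ) (ζ : P → ℂ) μ.2 ζ.2 hμ hχζ
    rw [hg, cj_apply]
    have : (⟨g * ((1 : P) : G) * g⁻¹, hPn.conj_mem (1 : P) (1 : P).2 g⟩ : P) = 1 := by
      apply Subtype.ext
      simp
    rw [this]
    exact hμ1
  have hc := rey_all_linear_comm hlin
  intro a ha c hc'
  exact congrArg Subtype.val (hc ⟨a, ha⟩ ⟨c, hc'⟩)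

/-- an abelian normal defect group forces all heights to be zero -/
theorem rey_forward [Finite G] (p : ℕ) [hp : Fact p.Prime] (M : Ideal Cfsg.AlgInt)
    (hM : Cfsg.IsPModular p M) (B : Set (Cfsg.IrrCharacter G)) (hB : Cfsg.IsPBlock M B)
    (P : Subgroup G) [hPn : P.Normal] (hP : Cfsg.IsDefectGroup p M B P)
    (hab : ∀ a ∈ P, ∀ c ∈ P, a * c = c * a) :
    ∀ χ ∈ B, Cfsg.blockHeight p B (χ : G → ℂ) = 0 := by
  classical
  haveI : Fintype G := Fintype.ofFinite _
  haveI : Fintype (Cfsg.IrrCharacter G) := Fintype.ofFinite _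
  haveI : Fintype P := Fintype.ofFinite _
  have hMp := hM.2.1.isPrime
  obtain ⟨χ₁, rfl⟩ := hB
  obtain ⟨g, hdc, hSyl⟩ := hP
  set C := Subgroup.centralizer ({g} : Set G) with hC
  obtain ⟨S, hS⟩ := hSyl
  have hPcard : Nat.card P = p ^ (Nat.card C).factorization p := by
    rw [hS, Subgroup.card_map_of_injective C.subtype_injective]
    exact Sylow.card_eq_multiplicity S
  have hcardG : Nat.card G = C.index * Nat.card C := (Subgroup.index_mul_card C).symm
  have hidx0 : C.index ≠ 0 := Subgroup.index_ne_zero_of_finite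
  have hC0 : Nat.card C ≠ 0 := Nat.card_pos.ne'
  have hfacG : (Nat.card G).factorization p =
      C.index.factorization p + (Nat.card C).factorization p := by
    rw [hcardG, Nat.factorization_mul hidx0 hC0]
    rfl
  have hlow : ∀ χ ∈ Cfsg.blockOf M (χ₁ : G → ℂ),
      C.index.factorization p ≤ (Cfsg.charDegree (χ : G → ℂ)).factorization p :=
    fun χ hχ => h7_defect_lower hM χ g (hdc.2.2 χ hχ)
  have hcardQ : P.index * Nat.card P = Nat.card G := Subgroup.index_mul_card P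
  have hQ0 : P.index ≠ 0 := Subgroup.index_ne_zero_of_finite
  have hP0 : Nat.card P ≠ 0 := Nat.card_pos.ne'
  have hfacQ : P.index.factorization p = C.index.factorization p := by
    have h1 : (Nat.card G).factorization p =
        P.index.factorization p + (Nat.card P).factorization p := by
      rw [← hcardQ, Nat.factorization_mul hQ0 hP0]
      rfl
    have h2 : (Nat.card P).factorization p = (Nat.card C).factorization p := by
      rw [hPcard, hp.out.factorization_pow, Finsupp.single_eq_same]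
    omega
  intro χ hχ
  -- upper bound for the degree of χ
  obtain ⟨ζ, hζ⟩ := ncp_exists_const P χ
  have hζ1 : (ζ : P → ℂ) 1 = ((1 : ℕ) : ℂ) := by
    letI : CommGroup P :=
      { (inferInstance : Group P) with
        mul_comm := fun a c => Subtype.ext (hab a a.2 c c.2) }
    rw [Nat.cast_one]
    exact irr_one_of_comm ζ
  have h887 := Cfsg.Agent.S0887.result P (χ : G → ℂ) χ.2 (ζ : P → ℂ) ζ.2 hζ
    (Cfsg.charDegree (χ : G → ℂ)) 1 (charDegree_irr χ).1.symm hζ1
  have hdvd : Cfsg.charDegree (χ : G → ℂ) ∣ P.index := by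
    have := h887.2
    rwa [Nat.div_one] at this
  have hc0 : Cfsg.charDegree (χ : G → ℂ) ≠ 0 := (charDegree_irr χ).2.ne'
  have hup : (Cfsg.charDegree (χ : G → ℂ)).factorization p ≤ P.index.factorization p :=
    (Nat.factorization_le_iff_dvd hc0 hQ0).mpr hdvd p
  unfold Cfsg.blockHeight
  apply Nat.sub_eq_zero_of_le
  apply le_csInf (Set.Nonempty.image _ ⟨χ, hχ⟩)
  rintro _ ⟨ψ, hψ, rfl⟩
  have := hlow ψ hψ
  show (Cfsg.charDegree (χ : G → ℂ)).factorization p ≤
    (Cfsg.charDegree (ψ : G → ℂ)).factorization p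
  omega

end reymain

end Cfsg.Agent.Lib.Helper26
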