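import Mathlib
import Cfsg.Prelude.Def_RootSubgroups
import Cfsg.Prelude.Def_QuasithinSetup
import Cfsg.Agent.Lib.helper17.Subn

set_option autoImplicit false

namespace Cfsg.Agent.Lib.Helper26.RootInv

variable {G : Type*} [Group G]

theorem ri_sq {D : Set G} (hD : Cfsg.IsRootInvolutionSet D) {d : G} (hd : d ∈ D) : d * d = 1 := by
  have h := hD.orderOf_eq d hd
  have h2 : d ^ orderOf d = 1 := pow_orderOf_eq_one d
  rw [h, pow_two] at h2
  exact h2

theorem ri_inv {D : Set G} (hD : Cfsg.IsRootInvolutionSet D) {d : G} (hd : d ∈ D) : d⁻¹ = d :=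
  inv_eq_of_mul_eq_one_left (ri_sq hD hd)

theorem ri_ne_one {D : Set G} (hD : Cfsg.IsRootInvolutionSet D) {d : G} (hd : d ∈ D) : d ≠ 1 := by
  intro h
  have h2 := hD.orderOf_eq d hd
  rw [h, orderOf_one] at h2
  exact absurd h2 (by norm_num)

/-- two involutions with product of odd order are conjugate by a power of the product -/
theorem ri_conj_of_odd {a b : G} (ha : a * a = 1) (hb : b * b = 1) (ho : Odd (orderOf (a * b))) :
    ∃ k : ℕ, b = (a * b) ^ k * a * ((a * b) ^ k)⁻¹ := by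
  obtain ⟨k, hk⟩ := ho
  refine ⟨k, ?_⟩
  have hainv : a⁻¹ = a := inv_eq_of_mul_eq_one_left ha
  have hbinv : b⁻¹ = b := inv_eq_of_mul_eq_one_left hb
  have h1 : a * (a * b) * a⁻¹ = (a * b)⁻¹ := by
    rw [mul_inv_rev, hainv, hbinv]
    calc a * (a * b) * a = (a * a) * b * a := by group
      _ = b * a := by rw [ha, one_mul]
  have h2 : a * (a * b) ^ k * a⁻¹ = ((a * b) ^ k)⁻¹ := by
    rw [← conj_pow, h1, inv_pow]
  have h3 : a * ((a * b) ^ k)⁻¹ = (a * b) ^ k * a := by
    have : a * (a * b) ^ k = ((a * b) ^ k)⁻¹ * a := by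
      calc a * (a * b) ^ k = a * (a * b) ^ k * a⁻¹ * a := by group
        _ = ((a * b) ^ k)⁻¹ * a := by rw [h2]
    calc a * ((a * b) ^ k)⁻¹ = (a * b) ^ k * (((a * b) ^ k)⁻¹ * a) * ((a * b) ^ k)⁻¹ := by group
      _ = (a * b) ^ k * (a * (a * b) ^ k) * ((a * b) ^ k)⁻¹ := by rw [this]
      _ = (a * b) ^ k * a := by group
  have h4 : (a * b) ^ (2 * k + 1) = 1 := by rw [← hk]; exact pow_orderOf_eq_one _
  have h5 : (a * b) ^ k * (a * b) ^ k = (a * b)⁻¹ := by
    apply eq_inv_of_mul_eq_one_left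
    rw [← pow_add, ← pow_succ, ← two_mul]
    exact h4
  calc b = (a * b)⁻¹ * a := by rw [mul_inv_rev, hainv, hbinv, mul_assoc, ha, mul_one]
    _ = (a * b) ^ k * (a * b) ^ k * a := by rw [h5]
    _ = (a * b) ^ k * a * ((a * b) ^ k)⁻¹ := by rw [mul_assoc, mul_assoc, ← h3]

theorem ri_oddAdj_conj {D : Set G} (hD : Cfsg.IsRootInvolutionSet D) {a b : G}
    (h : Cfsg.OddAdj D a b) : ∃ g : G, b = g * a * g⁻¹ := by
  obtain ⟨ha, hb, _, ho⟩ := h
  obtain ⟨k, hk⟩ := ri_conj_of_odd (ri_sq hD ha) (ri_sq hD hb) ho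
  exact ⟨_, hk⟩

/-- under connectivity of the odd graph, `D` is one conjugacy class -/
theorem ri_conj {D : Set G} (hD : Cfsg.IsRootInvolutionSet D)
    (hc : Cfsg.IsConnectedSet (Cfsg.OddAdj D) D) {a b : G} (ha : a ∈ D) (hb : b ∈ D) :
    ∃ g : G, b = g * a * g⁻¹ := by
  have h := hc a ha b hb
  induction h with
  | refl => exact ⟨1, by simp⟩
  | tail _ hbc ih =>
    obtain ⟨g, hg⟩ := ih hbc.1
    obtain ⟨g', hg'⟩ := ri_oddAdj_conj hD hbc
    exact ⟨g' * g, by rw [hg', hg]; group⟩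

/-- a normal subgroup meeting `D` contains `D` -/
theorem ri_subset_of_mem {D : Set G} (hD : Cfsg.IsRootInvolutionSet D)
    (hc : Cfsg.IsConnectedSet (Cfsg.OddAdj D) D) (N : Subgroup G) [hN : N.Normal] {d : G} (hd : d ∈ D)
    (hdN : d ∈ N) : D ⊆ N := by
  intro e he
  obtain ⟨g, hg⟩ := ri_conj hD hc hd he
  rw [hg]
  exact hN.conj_mem d hdN g

theorem ri_eq_top_of_mem {D : Set G} (hD : Cfsg.IsRootInvolutionSet D)
    (hc : Cfsg.IsConnectedSet (Cfsg.OddAdj D) D) (N : Subgroup G) [hN : N.Normal] {d : G} (hd : d ∈ D)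
    (hdN : d ∈ N) : N = ⊤ := by
  rw [eq_top_iff, ← hD.generates, Subgroup.closure_le]
  exact ri_subset_of_mem hD hc N hd hdN

/-- every member has a product partner -/
theorem ri_exists_partner {D : Set G} (hD : Cfsg.IsRootInvolutionSet D)
    (hc : Cfsg.IsConnectedSet (Cfsg.OddAdj D) D) (hDD : (D ∩ Cfsg.commutingProducts D).Nonempty)
    {d : G} (hd : d ∈ D) : ∃ e ∈ D, d * e = e * d ∧ d * e ∈ D := by
  obtain ⟨x, hxD, a, ha, b, hb, hab, _, hx⟩ := hDD
  obtain ⟨g, hg⟩ := ri_conj hD hc ha hd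
  refine ⟨g * b * g⁻¹, hD.conj_mem b hb g, ?_, ?_⟩
  · rw [hg]
    calc g * a * g⁻¹ * (g * b * g⁻¹) = g * (a * b) * g⁻¹ := by group
      _ = g * (b * a) * g⁻¹ := by rw [hab]
      _ = g * b * g⁻¹ * (g * a * g⁻¹) := by group
  · rw [hg]
    have : g * a * g⁻¹ * (g * b * g⁻¹) = g * (a * b) * g⁻¹ := by group
    rw [this, ← hx]
    exact hD.conj_mem x hxD g


/-- if `e, d, e*d ∈ D` commute and `N` is a normal subgroup missing `D`, then `e` commutes with every
`N`-conjugate of `d` -/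
theorem ri_comm_conj {D : Set G} (hD : Cfsg.IsRootInvolutionSet D) (N : Subgroup G) [hN : N.Normal]
    (hDN : ∀ d ∈ D, d ∉ N) {e d : G} (he : e ∈ D) (hd : d ∈ D) (_hed : e * d = d * e) (hedD : e * d ∈ D)
    {n : G} (hn : n ∈ N) : e * (n * d * n⁻¹) = (n * d * n⁻¹) * e := by
  have hd' : n * d * n⁻¹ ∈ D := hD.conj_mem d hd n
  have hpi : (QuotientGroup.mk' N) (e * (n * d * n⁻¹)) = (QuotientGroup.mk' N) (e * d) := by
    have h1 : (QuotientGroup.mk' N) n = 1 := by
      rw [QuotientGroup.mk'_apply, QuotientGroup.eq_one_iff]; exact hn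
    simp only [map_mul, map_inv, h1, one_mul, inv_one, mul_one]
  have hsq : (e * d) * (e * d) = 1 := ri_sq hD hedD
  rcases hD.pair e he (n * d * n⁻¹) hd' with h | h | ⟨h4, hm⟩
  · exact h
  · exfalso
    obtain ⟨k, hk⟩ := h
    have h1 : (e * (n * d * n⁻¹)) ^ (2 * k + 1) = 1 := by rw [← hk]; exact pow_orderOf_eq_one _
    have h2 : (QuotientGroup.mk' N) (e * d) ^ (2 * k + 1) = 1 := by
      rw [← hpi, ← map_pow, h1, map_one]
    have h3 : (e * d) ^ (2 * k + 1) = e * d := by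
      rw [pow_succ, pow_mul, pow_two, hsq, one_pow, one_mul]
    rw [← map_pow, h3, QuotientGroup.mk'_apply, QuotientGroup.eq_one_iff] at h2
    exact hDN _ hedD h2
  · exfalso
    have h2 : (QuotientGroup.mk' N) ((e * (n * d * n⁻¹)) ^ 2) = 1 := by
      rw [map_pow, hpi, ← map_pow, pow_two, hsq, map_one]
    rw [QuotientGroup.mk'_apply, QuotientGroup.eq_one_iff] at h2
    exact hDN _ hm h2

/-- every member of `D` commutes with its conjugates under a normal subgroup missing `D` -/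
theorem ri_comm_self_conj {D : Set G} (hD : Cfsg.IsRootInvolutionSet D)
    (hc : Cfsg.IsConnectedSet (Cfsg.OddAdj D) D) (hDD : (D ∩ Cfsg.commutingProducts D).Nonempty)
    (N : Subgroup G) [hN : N.Normal] (hDN : ∀ d ∈ D, d ∉ N) {d : G} (hd : d ∈ D)
    {n : G} (hn : n ∈ N) : d * (n * d * n⁻¹) = (n * d * n⁻¹) * d := by
  obtain ⟨e, he, hde, hdeD⟩ := ri_exists_partner hD hc hDD hd
  have hed : e * d = d * e := hde.symm
  have hedD : e * d ∈ D := by rw [hed]; exact hdeD
  have h1 := ri_comm_conj hD N hDN he hd hed hedD hn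
  have hdd : d * d = 1 := ri_sq hD hd
  have h2 : (e * d) * d = d * (e * d) := by rw [mul_assoc, hdd, mul_one, ← mul_assoc, ← hed, mul_assoc, hdd, mul_one]
  have h2' : (e * d) * d ∈ D := by rw [mul_assoc, hdd, mul_one]; exact he
  have h3 := ri_comm_conj hD N hDN hedD hd h2 h2' hn
  have hee : e * e = 1 := ri_sq hD he
  have key : ∀ y : G, e * y = y * e → (e * d) * y = y * (e * d) → d * y = y * d := by
    intro y h1 h3
    calc d * y = e * ((e * d) * y) := by rw [← mul_assoc, ← mul_assoc, hee, one_mul]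
      _ = e * (y * (e * d)) := by rw [h3]
      _ = (e * y) * (e * d) := by rw [mul_assoc]
      _ = (y * e) * (e * d) := by rw [h1]
      _ = y * d := by rw [mul_assoc, ← mul_assoc e e d, hee, one_mul]
  exact key _ h1 h3


/-- the commutator of `d ∈ D` with an element of a normal subgroup missing `D` lies in `O_2(G)` -/
theorem ri_comm_mem_pCore {D : Set G} (hD : Cfsg.IsRootInvolutionSet D)
    (hc : Cfsg.IsConnectedSet (Cfsg.OddAdj D) D) (hDD : (D ∩ Cfsg.commutingProducts D).Nonempty)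
    (N : Subgroup G) [hN : N.Normal] (hDN : ∀ d ∈ D, d ∉ N) {d : G} (hd : d ∈ D)
    {n : G} (hn : n ∈ N) : d * (n * d * n⁻¹) ∈ Cfsg.pCore 2 G := by
  set S : Set G := {x | ∃ m ∈ N, x = m * d * m⁻¹} with hS
  have hdd : d * d = 1 := ri_sq hD hd
  have hS_comm : ∀ x ∈ S, ∀ y ∈ S, x * y = y * x := by
    rintro x ⟨m, hm, rfl⟩ y ⟨m', hm', rfl⟩
    have h0 : m⁻¹ * m' ∈ N := N.mul_mem (N.inv_mem hm) hm'
    have h1 := ri_comm_self_conj hD hc hDD N hDN hd h0
    calc m * d * m⁻¹ * (m' * d * m'⁻¹)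
        = m * (d * ((m⁻¹ * m') * d * (m⁻¹ * m')⁻¹)) * m⁻¹ := by group
      _ = m * (((m⁻¹ * m') * d * (m⁻¹ * m')⁻¹) * d) * m⁻¹ := by rw [h1]
      _ = m' * d * m'⁻¹ * (m * d * m⁻¹) := by group
  have hS_sq : ∀ x ∈ S, x * x = 1 := by
    rintro x ⟨m, _, rfl⟩
    calc m * d * m⁻¹ * (m * d * m⁻¹) = m * (d * d) * m⁻¹ := by group
      _ = 1 := by rw [hdd]; group
  set A : Subgroup G := Subgroup.closure S with hA
  have hA1 : A ≤ Subgroup.centralizer S := by
    rw [hA, Subgroup.closure_le]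
    intro x hx
    rw [SetLike.mem_coe, Subgroup.mem_centralizer_iff]
    intro y hy
    exact hS_comm y hy x hx
  have hA2 : A ≤ Subgroup.centralizer (A : Set G) := by
    rw [hA, Subgroup.closure_le]
    intro x hx
    rw [SetLike.mem_coe, Subgroup.mem_centralizer_iff]
    intro y hy
    have := hA1 hy
    rw [Subgroup.mem_centralizer_iff] at this
    exact (this x hx).symm
  have hA_comm : ∀ x ∈ A, ∀ y ∈ A, x * y = y * x := by
    intro x hx y hy
    have := hA2 hy
    rw [Subgroup.mem_centralizer_iff] at this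
    exact this x hx
  have hA_sq : ∀ x ∈ A, x * x = 1 := by
    intro x hx
    induction hx using Subgroup.closure_induction with
    | mem x hx => exact hS_sq x hx
    | one => simp
    | mul x y hx hy ihx ihy =>
      have hc' := hA_comm x hx y hy
      calc x * y * (x * y) = x * (y * x) * y := by group
        _ = x * (x * y) * y := by rw [hc']
        _ = (x * x) * (y * y) := by group
        _ = 1 := by rw [ihx, ihy, one_mul]
    | inv x hx ihx =>
      calc x⁻¹ * x⁻¹ = (x * x)⁻¹ := by group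
        _ = 1 := by rw [ihx, inv_one]
  have hA_norm : ∀ g ∈ N, ∀ x ∈ A, g * x * g⁻¹ ∈ A := by
    intro g hg x hx
    induction hx using Subgroup.closure_induction with
    | mem x hx =>
      obtain ⟨m, hm, rfl⟩ := hx
      apply Subgroup.subset_closure
      exact ⟨g * m, N.mul_mem hg hm, by group⟩
    | one => simp
    | mul x y _ _ ihx ihy =>
      have : g * (x * y) * g⁻¹ = (g * x * g⁻¹) * (g * y * g⁻¹) := by group
      rw [this]; exact A.mul_mem ihx ihy
    | inv x _ ihx =>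
      have : g * x⁻¹ * g⁻¹ = (g * x * g⁻¹)⁻¹ := by group
      rw [this]; exact A.inv_mem ihx
  have hQp : IsPGroup 2 ↥(A ⊓ N) := by
    intro g
    refine ⟨1, ?_⟩
    apply Subtype.ext
    rw [pow_one, Subgroup.coe_pow, pow_two, Subgroup.coe_one]
    exact hA_sq _ g.2.1
  have hQsub : (A ⊓ N).IsSubnormal := by
    refine Subgroup.IsSubnormal.step (A ⊓ N) N inf_le_right (Subgroup.Normal.isSubnormal hN) ?_
    constructor
    intro x hx g
    rw [Subgroup.mem_subgroupOf] at hx ⊢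
    rw [Subgroup.coe_mul, Subgroup.coe_mul, Subgroup.coe_inv]
    exact ⟨hA_norm _ g.2 _ hx.1, N.mul_mem (N.mul_mem g.2 hx.2) (N.inv_mem g.2)⟩
  have hle := Cfsg.Agent.Lib.helper17.le_pCore_of_subnormal_isPGroup hQsub hQp
  apply hle
  refine ⟨?_, ?_⟩
  · apply A.mul_mem
    · apply Subgroup.subset_closure
      exact ⟨1, N.one_mem, by group⟩
    · apply Subgroup.subset_closure
      exact ⟨n, hn, rfl⟩
  · have h1 : d * (n * d * n⁻¹) = (d * n * d⁻¹) * n⁻¹ := by
      rw [ri_inv hD hd]; group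
    rw [h1]
    exact N.mul_mem (hN.conj_mem n hn d) (N.inv_mem hn)

/-- a normal subgroup missing `D` lies in `O_{2,Z}(G)` -/
theorem ri_le_twoZCore {D : Set G} (hD : Cfsg.IsRootInvolutionSet D)
    (hc : Cfsg.IsConnectedSet (Cfsg.OddAdj D) D) (hDD : (D ∩ Cfsg.commutingProducts D).Nonempty)
    (N : Subgroup G) [hN : N.Normal] (hDN : ∀ d ∈ D, d ∉ N) : N ≤ Cfsg.twoZCore G := by
  intro n hn
  unfold Cfsg.twoZCore
  rw [Subgroup.mem_comap, Subgroup.mem_center_iff]
  have hnorm : (Cfsg.pCore 2 G).Normal := Cfsg.Agent.Lib.helper17.pCore_normal 2 G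
  set π := QuotientGroup.mk' (Cfsg.pCore 2 G) with hπ
  have hC : (⊤ : Subgroup G) ≤ (Subgroup.centralizer {π n}).comap π := by
    rw [← hD.generates, Subgroup.closure_le]
    intro d hd
    rw [SetLike.mem_coe, Subgroup.mem_comap, Subgroup.mem_centralizer_iff]
    intro h hh
    rw [Set.mem_singleton_iff] at hh
    rw [hh, ← map_mul, ← map_mul, hπ, QuotientGroup.mk'_apply, QuotientGroup.mk'_apply, QuotientGroup.eq]
    have h1 := ri_comm_mem_pCore hD hc hDD N hDN hd (N.inv_mem hn)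
    have h2 : (n * d)⁻¹ * (d * n) = d * (n⁻¹ * d * n⁻¹⁻¹) := by
      rw [mul_inv_rev, ri_inv hD hd]; group
    rw [h2]; exact h1
  intro g
  obtain ⟨g0, rfl⟩ := QuotientGroup.mk'_surjective (Cfsg.pCore 2 G) g
  have := hC (Subgroup.mem_top g0)
  rw [Subgroup.mem_comap, Subgroup.mem_centralizer_iff] at this
  exact (this (π n) rfl).symm


/-- there is an odd edge at some member when `D` has two different members -/
theorem ri_exists_odd {D : Set G}
    (hc : Cfsg.IsConnectedSet (Cfsg.OddAdj D) D) {a b : G} (ha : a ∈ D) (hb : b ∈ D) (hab : a ≠ b) :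
    ∃ c, Cfsg.OddAdj D a c := by
  rcases Relation.ReflTransGen.cases_head (hc a ha b hb) with h | ⟨c, h, _⟩
  · exact absurd h hab
  · exact ⟨c, h⟩

/-- the product of two members of `D` with odd product lying in `O_{2,Z}(G)` is trivial -/
theorem ri_odd_twoZCore {D : Set G} (hD : Cfsg.IsRootInvolutionSet D) {a c : G}
    (h : Cfsg.OddAdj D a c) (ha : a ∈ Cfsg.twoZCore G) : False := by
  obtain ⟨haD, hcD, hne, k, hk⟩ := h
  have hnorm : (Cfsg.pCore 2 G).Normal := Cfsg.Agent.Lib.helper17.pCore_normal 2 G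
  unfold Cfsg.twoZCore at ha
  rw [Subgroup.mem_comap, Subgroup.mem_center_iff] at ha
  set π := QuotientGroup.mk' (Cfsg.pCore 2 G) with hπ
  have h1 : π (a * c) * π (a * c) = 1 := by
    have hc1 := ha (π c)
    calc π (a * c) * π (a * c) = π a * (π c * π a) * π c := by simp only [map_mul, mul_assoc]
      _ = π a * (π a * π c) * π c := by rw [hc1]
      _ = π (a * a) * π (c * c) := by simp only [map_mul, mul_assoc]
      _ = 1 := by rw [ri_sq hD haD, ri_sq hD hcD, map_one, one_mul]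
  have h2 : (a * c) ^ (2 * k + 1) = 1 := by rw [← hk]; exact pow_orderOf_eq_one _
  have h3 : π (a * c) ^ (2 * k + 1) = π (a * c) := by
    rw [pow_succ, pow_mul, pow_two, h1, one_pow, one_mul]
  have h4 : π (a * c) = 1 := by rw [← h3, ← map_pow, h2, map_one]
  rw [hπ, QuotientGroup.mk'_apply, QuotientGroup.eq_one_iff] at h4
  obtain ⟨j, hj⟩ := (Cfsg.Agent.Lib.helper17.pCore_isPGroup 2 G) ⟨a * c, h4⟩
  have hj' : (a * c) ^ 2 ^ j = 1 := by
    have := congrArg Subtype.val hj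
    simpa using this
  have h5 : orderOf (a * c) ∣ 2 ^ j := orderOf_dvd_of_pow_eq_one hj'
  have h6 : orderOf (a * c) = 1 := by
    have hcop : Nat.Coprime (orderOf (a * c)) (2 ^ j) := by
      rw [hk]
      apply Nat.Coprime.pow_right
      rw [Nat.coprime_comm, Nat.coprime_two_left]
      exact ⟨k, rfl⟩
    exact hcop.eq_one_of_dvd h5
  rw [orderOf_eq_one_iff] at h6
  apply hne
  have : c = a⁻¹ := eq_inv_of_mul_eq_one_right h6
  rw [this, ri_inv hD haD]


theorem ri_two_members {D : Set G} (hD : Cfsg.IsRootInvolutionSet D)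
    (hDD : (D ∩ Cfsg.commutingProducts D).Nonempty) :
    ∃ a ∈ D, ∃ b ∈ D, a ≠ b ∧ a * b = b * a ∧ a * b ∈ D := by
  obtain ⟨x, hxD, a, ha, b, hb, hab, hne, hx⟩ := hDD
  refine ⟨a, ha, b, hb, ?_, hab, hx ▸ hxD⟩
  intro h
  apply hne
  rw [← h]
  exact ri_sq hD ha

theorem ri_not_mem_twoZCore {D : Set G} (hD : Cfsg.IsRootInvolutionSet D)
    (hc : Cfsg.IsConnectedSet (Cfsg.OddAdj D) D) (hDD : (D ∩ Cfsg.commutingProducts D).Nonempty) :
    ∀ d ∈ D, d ∉ Cfsg.twoZCore G := by
  intro d hd hdZ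
  obtain ⟨a, ha, b, hb, hne, _, _⟩ := ri_two_members hD hDD
  have hsub := ri_subset_of_mem hD hc (Cfsg.twoZCore G) hd hdZ
  obtain ⟨c, hcadj⟩ := ri_exists_odd hc ha hb hne
  exact ri_odd_twoZCore hD hcadj (hsub ha)

theorem ri_simple [Finite G] {D : Set G} (hD : Cfsg.IsRootInvolutionSet D)
    (hc : Cfsg.IsConnectedSet (Cfsg.OddAdj D) D) (hDD : (D ∩ Cfsg.commutingProducts D).Nonempty) :
    IsSimpleGroup (G ⧸ Cfsg.twoZCore G) := by
  have hnot := ri_not_mem_twoZCore hD hc hDD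
  obtain ⟨a, ha, _⟩ := ri_two_members hD hDD
  have : Nontrivial (G ⧸ Cfsg.twoZCore G) := by
    refine ⟨⟨(a : G ⧸ Cfsg.twoZCore G), 1, ?_⟩⟩
    intro h
    rw [QuotientGroup.eq_one_iff] at h
    exact hnot a ha h
  refine ⟨?_⟩
  intro H hH
  set K : Subgroup G := H.comap (QuotientGroup.mk' (Cfsg.twoZCore G)) with hK
  have hKn : K.Normal := Subgroup.Normal.comap hH _
  have hHK : H = K.map (QuotientGroup.mk' (Cfsg.twoZCore G)) := by
    rw [hK, Subgroup.map_comap_eq_self_of_surjective (QuotientGroup.mk'_surjective _)]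
  by_cases hex : ∃ d ∈ D, d ∈ K
  · obtain ⟨d, hd, hdK⟩ := hex
    right
    have := ri_eq_top_of_mem hD hc K hd hdK
    rw [hHK, this, ← MonoidHom.range_eq_map, MonoidHom.range_eq_top]
    exact QuotientGroup.mk'_surjective _
  · left
    push Not at hex
    have hle := ri_le_twoZCore hD hc hDD K hex
    rw [hHK, eq_bot_iff]
    rintro x ⟨k, hk, rfl⟩
    rw [Subgroup.mem_bot, QuotientGroup.mk'_apply, QuotientGroup.eq_one_iff]
    exact hle hk

theorem ri_radical [Finite G] {D : Set G} (hD : Cfsg.IsRootInvolutionSet D)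
    (hc : Cfsg.IsConnectedSet (Cfsg.OddAdj D) D) (hDD : (D ∩ Cfsg.commutingProducts D).Nonempty) :
    Cfsg.solvableRadical G = Cfsg.twoZCore G := by
  have hnot := ri_not_mem_twoZCore hD hc hDD
  have hsimple := ri_simple hD hc hDD
  have hnorm : (Cfsg.pCore 2 G).Normal := Cfsg.Agent.Lib.helper17.pCore_normal 2 G
  apply le_antisymm
  · unfold Cfsg.solvableRadical
    apply sSup_le
    rintro N ⟨hN, hNs⟩
    have := hN
    apply ri_le_twoZCore hD hc hDD N
    intro d hd hdN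
    have htop := ri_eq_top_of_mem hD hc N hd hdN
    -- G is solvable
    have hGs : Group.IsSolvable G := by
      rw [htop] at hNs
      exact Group.isSolvable_of_surjective (f := (⊤ : Subgroup G).subtype) (fun x => ⟨⟨x, trivial⟩, rfl⟩)
    have : Group.IsSolvable (G ⧸ Cfsg.twoZCore G) := inferInstance
    have hcomm : ∀ x y : G ⧸ Cfsg.twoZCore G, x * y = y * x :=
      (IsSimpleGroup.comm_iff_isSolvable.mpr inferInstance)
    obtain ⟨a, ha, b, hb, hne, hab, habD⟩ := ri_two_members hD hDD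
    obtain ⟨g, hg⟩ := ri_conj hD hc ha hb
    have h1 : (QuotientGroup.mk' (Cfsg.twoZCore G)) (a * b) = 1 := by
      have hb' : (QuotientGroup.mk' (Cfsg.twoZCore G)) b = (QuotientGroup.mk' (Cfsg.twoZCore G)) a := by
        rw [hg, map_mul, map_mul, hcomm _ ((QuotientGroup.mk' (Cfsg.twoZCore G)) a), mul_assoc, ← map_mul,
          mul_inv_cancel, map_one, mul_one]
      rw [map_mul, hb', ← map_mul, ri_sq hD ha, map_one]
    rw [QuotientGroup.mk'_apply, QuotientGroup.eq_one_iff] at h1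
    exact hnot _ habD h1
  · unfold Cfsg.solvableRadical
    apply le_sSup
    refine ⟨Cfsg.twoZCore_normal G, ?_⟩
    have hOZ : Cfsg.pCore 2 G ≤ Cfsg.twoZCore G := by
      intro x hx
      unfold Cfsg.twoZCore
      rw [Subgroup.mem_comap, QuotientGroup.mk'_apply, (QuotientGroup.eq_one_iff x).mpr hx]
      exact Subgroup.one_mem _
    have : Fact (Nat.Prime 2) := ⟨Nat.prime_two⟩
    have hOs : Group.IsSolvable ↥(Cfsg.pCore 2 G) := by
      have := (Cfsg.Agent.Lib.helper17.pCore_isPGroup 2 G).isNilpotent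
      infer_instance
    let g : ↥(Cfsg.twoZCore G) →* ↥(Subgroup.center (G ⧸ Cfsg.pCore 2 G)) :=
      ((QuotientGroup.mk' (Cfsg.pCore 2 G)).comp (Cfsg.twoZCore G).subtype).codRestrict
        (Subgroup.center (G ⧸ Cfsg.pCore 2 G)) (fun z => by
          have := z.2
          unfold Cfsg.twoZCore at this
          rw [Subgroup.mem_comap] at this
          exact this)
    have hCs : Group.IsSolvable ↥(Subgroup.center (G ⧸ Cfsg.pCore 2 G)) :=
      Group.isSolvable_of_comm (fun a b => Subtype.ext (Subgroup.mem_center_iff.mp b.2 a.1))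
    refine Group.isSolvable_of_ker_le_range (Subgroup.inclusion hOZ) g ?_
    intro z hz
    rw [MonoidHom.mem_ker] at hz
    have hz' : (QuotientGroup.mk' (Cfsg.pCore 2 G)) (z : G) = 1 := by
      have h2 : ((g z : Subgroup.center (G ⧸ Cfsg.pCore 2 G)) : G ⧸ Cfsg.pCore 2 G) = 1 := by
        rw [hz]; rfl
      exact h2
    rw [QuotientGroup.mk'_apply, QuotientGroup.eq_one_iff] at hz'
    exact ⟨⟨z, hz'⟩, Subtype.ext rfl⟩

end Cfsg.Agent.Lib.Helper26.RootInv
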