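import Cfsg.Agent.Lib.Helper26.ChainAux
import Cfsg.Agent.Lib.Helper19.Dihedral
import Cfsg.Agent.Lib.Helper1.Cores

set_option autoImplicit false

namespace Cfsg.Agent.Lib.Helper26

open Cfsg Cfsg.Agent.S5013

variable {G : Type*} [Group G] {D : Set G}

theorem ri_sq (hD : Cfsg.IsRootInvolutionSet D) {d : G} (hd : d ∈ D) : d * d = 1 := by
  have := pow_orderOf_eq_one d
  rw [hD.orderOf_eq d hd, pow_two] at this
  exact this

theorem ri_inv (hD : Cfsg.IsRootInvolutionSet D) {d : G} (hd : d ∈ D) : d⁻¹ = d :=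
  inv_eq_of_mul_eq_one_left (ri_sq hD hd)

theorem ri_ne_one (hD : Cfsg.IsRootInvolutionSet D) {d : G} (hd : d ∈ D) : d ≠ 1 := by
  rintro rfl
  have := hD.orderOf_eq 1 hd
  rw [orderOf_one] at this
  exact absurd this (by norm_num)

theorem ri_conj (hD : Cfsg.IsRootInvolutionSet D) {d c : G} (hd : d ∈ D) (hc : c ∈ D) :
    c * d * c ∈ D := by
  have := hD.conj_mem d hd c
  rw [ri_inv hD hc] at this
  exact this

theorem eq_one_of_odd_of_pow_two_pow {x : G} (ho : Odd (orderOf x)) {k : ℕ}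
    (h : x ^ (2 ^ k) = 1) : x = 1 := by
  have h1 : orderOf x ∣ 2 ^ k := orderOf_dvd_of_pow_eq_one h
  have h2 : (orderOf x).Coprime (2 ^ k) := (Nat.Coprime.pow_left k ho.coprime_two_left).symm
  exact orderOf_eq_one_iff.mp (Nat.Coprime.eq_one_of_dvd h2 h1)

theorem eq_one_of_odd_of_pow_four {x : G} (ho : Odd (orderOf x)) (h : x ^ 4 = 1) : x = 1 :=
  eq_one_of_odd_of_pow_two_pow ho (k := 2) h

theorem sq_eq_one_of_comm {p q : G} (hp : p * p = 1) (hq : q * q = 1) (h : p * q = q * p) :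
    (p * q) ^ 2 = 1 := by
  rw [pow_two]
  calc p * q * (p * q) = p * (q * p) * q := by group
    _ = p * (p * q) * q := by rw [h]
    _ = (p * p) * (q * q) := by group
    _ = 1 := by rw [hp, hq, one_mul]

/-- `(u v)⁴ = 1` unless `u v` has odd order `≠ 1`. -/
theorem pow_four_of_pair (hD : Cfsg.IsRootInvolutionSet D) {u v : G} (hu : u ∈ D) (hv : v ∈ D)
    (hno : Odd (orderOf (u * v)) → u * v = 1) : (u * v) ^ 4 = 1 := by
  rcases hD.pair u hu v hv with h | h | h
  · have h1 := sq_eq_one_of_comm (ri_sq hD hu) (ri_sq hD hv) h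
    have : (u * v) ^ 4 = ((u * v) ^ 2) ^ 2 := by rw [← pow_mul]
    rw [this, h1, one_pow]
  · rw [hno h, one_pow]
  · rw [← h.1, pow_orderOf_eq_one]

theorem orderOf_mul_comm' (a b : G) : orderOf (a * b) = orderOf (b * a) := by
  have h := MulEquiv.orderOf_eq (MulAut.conj b) (a * b)
  have e : (MulAut.conj b) (a * b) = b * a := by
    rw [MulAut.conj_apply]; group
  rw [e] at h
  exact h.symm

theorem oddAdj_symm {a b : G} (h : Cfsg.OddAdj D a b) : Cfsg.OddAdj D b a :=
  ⟨h.2.1, h.1, h.2.2.1.symm, by rw [orderOf_mul_comm']; exact h.2.2.2⟩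

theorem oddAdj_conj (hD : Cfsg.IsRootInvolutionSet D) {a b : G} (h : Cfsg.OddAdj D a b) (g : G) :
    Cfsg.OddAdj D (g * a * g⁻¹) (g * b * g⁻¹) := by
  refine ⟨hD.conj_mem a h.1 g, hD.conj_mem b h.2.1 g, ?_, ?_⟩
  · intro he
    apply h.2.2.1
    have : a = g⁻¹ * (g * a * g⁻¹) * g := by group
    rw [this, he]; group
  · have e : g * a * g⁻¹ * (g * b * g⁻¹) = (MulAut.conj g) (a * b) := by
      rw [MulAut.conj_apply]; group
    rw [e, MulEquiv.orderOf_eq]
    exact h.2.2.2

/-- If an involution `s ≠ 1` commutes with `u, v ∈ D`, `s u ∈ D` and `u v` has odd order,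
then `u v = 1`. -/
theorem mul_eq_one_of_odd_of_central (hD : Cfsg.IsRootInvolutionSet D) {u v s : G} (hv : v ∈ D)
    (hs : s * s = 1) (hs1 : s ≠ 1) (hsu : s * u = u * s) (hsv : s * v = v * s) (hsuD : s * u ∈ D)
    (ho : Odd (orderOf (u * v))) : u * v = 1 := by
  have hc : Commute s (u * v) := by
    show s * (u * v) = u * v * s
    rw [← mul_assoc, hsu, mul_assoc, hsv, mul_assoc]
  have e : s * u * v = s * (u * v) := mul_assoc _ _ _
  have hs2 : s ^ 2 = 1 := by rw [pow_two, hs]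
  have hs4 : s ^ 4 = 1 := by
    have : s ^ 4 = (s ^ 2) ^ 2 := by rw [← pow_mul]
    rw [this, hs2, one_pow]
  rcases hD.pair (s * u) hsuD v hv with h | h | h
  · have h1 := sq_eq_one_of_comm (ri_sq hD hsuD) (ri_sq hD hv) h
    rw [e, hc.mul_pow, hs2, one_mul] at h1
    exact eq_one_of_odd_of_pow_two_pow ho (k := 1) h1
  · exfalso
    rw [e] at h
    obtain ⟨k, hk⟩ := h
    have h1 : (s * (u * v)) ^ (2 * k + 1) = 1 := by rw [← hk, pow_orderOf_eq_one]
    rw [hc.mul_pow] at h1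
    have h2 : s ^ (2 * k + 1) = s := by rw [pow_succ, pow_mul, hs2, one_pow, one_mul]
    rw [h2] at h1
    -- (u v)^(2k+1) = s⁻¹
    have h3 : (u * v) ^ (2 * k + 1) = s := by
      have : (u * v) ^ (2 * k + 1) = s⁻¹ := eq_inv_of_mul_eq_one_right h1
      rw [this]
      exact inv_eq_of_mul_eq_one_left hs
    have h4 : (u * v) ^ ((2 * k + 1) * 2) = 1 := by rw [pow_mul, h3, hs2]
    have h5 : orderOf (u * v) ∣ (2 * k + 1) * 2 := orderOf_dvd_of_pow_eq_one h4
    have h6 : orderOf (u * v) ∣ 2 * k + 1 :=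
      (Nat.Coprime.dvd_mul_right ho.coprime_two_right).mp h5
    have h7 : (u * v) ^ (2 * k + 1) = 1 := orderOf_dvd_iff_pow_eq_one.mp h6
    exact hs1 (h3.symm.trans h7)
  · have h1 : (s * (u * v)) ^ 4 = 1 := by rw [← e, ← h.1, pow_orderOf_eq_one]
    rw [hc.mul_pow, hs4, one_mul] at h1
    exact eq_one_of_odd_of_pow_four ho h1

theorem commWith_zpowers {x y : G} (h : x * y = y * x) :
    CommWith (Subgroup.zpowers x) (Subgroup.zpowers y) := by
  rintro _ ⟨m, rfl⟩ _ ⟨n, rfl⟩
  exact (Commute.zpow_zpow (show Commute x y from h) m n).eq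

theorem conjBy_zpowers (x g : G) :
    Cfsg.conjBy (Subgroup.zpowers x) g = Subgroup.zpowers (g * x * g⁻¹) := by
  show (Subgroup.zpowers x).map (MulAut.conj g).toMonoidHom = _
  rw [MonoidHom.map_zpowers]
  rfl

theorem isPGroup_two_zpowers {c : G} (hc : c * c = 1) : IsPGroup 2 ↥(Subgroup.zpowers c) := by
  rintro ⟨g, hg⟩
  refine ⟨1, Subtype.ext ?_⟩
  obtain ⟨i, rfl⟩ := Subgroup.mem_zpowers_iff.mp hg
  show (c ^ i) ^ (2 ^ 1) = 1
  rw [pow_one, ← zpow_natCast, ← zpow_mul, mul_comm, zpow_mul, zpow_natCast, pow_two, hc, one_zpow]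

/-- Chain lemma for root involutions: `t, e` commuting with `t e ∈ D`, and `(t c)⁴ = (e c)⁴ = 1`;
then `⟨t, c, e⟩` is a 2-group. -/
theorem two_group_of_chain (hD : Cfsg.IsRootInvolutionSet D) {t c e : G} (ht : t ∈ D) (hc : c ∈ D)
    (he : e ∈ D) (hte : t * e = e * t) (hteD : t * e ∈ D) (h4t : (t * c) ^ 4 = 1)
    (h4e : (e * c) ^ 4 = 1) :
    ∃ K : Subgroup G, IsPGroup 2 ↥K ∧ t ∈ K ∧ c ∈ K ∧ e ∈ K := by
  have ht2 := ri_sq hD ht
  have hc2 := ri_sq hD hc
  have he2 := ri_sq hD he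
  have hcinv := ri_inv hD hc
  have hu₁ : c * e * c ∈ D := ri_conj hD he hc
  have hu₂ : c * t * c ∈ D := ri_conj hD ht hc
  -- `e` commutes with `c e c`, `t` commutes with `c t c`
  have comm_of_pow4 : ∀ x : G, x * x = 1 → (x * c) ^ 4 = 1 → x * (c * x * c) = (c * x * c) * x := by
    intro x hx h4
    have h1 : x * (c * x * c) = (x * c) ^ 2 := by rw [pow_two]; group
    have h2 : (c * x * c) * x = ((x * c) ^ 2)⁻¹ := by
      rw [eq_inv_iff_mul_eq_one, h1.symm]
      calc c * x * c * x * (x * (c * x * c)) = c * x * c * (x * x) * c * x * c := by group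
        _ = c * x * (c * c) * x * c := by rw [hx]; group
        _ = c * (x * x) * c := by rw [hc2]; group
        _ = 1 := by rw [hx, mul_one, hc2]
    have h3 : ((x * c) ^ 2)⁻¹ = (x * c) ^ 2 := by
      rw [inv_eq_iff_mul_eq_one, ← pow_add]
      exact h4
    rw [h1, h2, h3]
  have hee := comm_of_pow4 e he2 h4e
  have htt := comm_of_pow4 t ht2 h4t
  have hX4 : (t * (c * e * c)) ^ 4 = 1 := by
    apply pow_four_of_pair hD ht hu₁
    intro ho
    have hs : e * t ∈ D := by rw [← hte]; exact hteD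
    exact mul_eq_one_of_odd_of_central hD hu₁ he2 (ri_ne_one hD he) hte.symm hee hs ho
  have hY4 : (e * (c * t * c)) ^ 4 = 1 := by
    apply pow_four_of_pair hD he hu₂
    intro ho
    exact mul_eq_one_of_odd_of_central hD hu₂ ht2 (ri_ne_one hD ht) hte htt hteD ho
  have hX : IsPGroup 2 ↥(Subgroup.zpowers t ⊔ Subgroup.zpowers (c * e * c)) :=
    Cfsg.Agent.Lib.Helper19.isPGroup_two_of_involutions t (c * e * c) ht2 (ri_sq hD hu₁) 2 hX4
  have hY : IsPGroup 2 ↥(Subgroup.zpowers e ⊔ Subgroup.zpowers (c * t * c)) :=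
    Cfsg.Agent.Lib.Helper19.isPGroup_two_of_involutions e (c * t * c) he2 (ri_sq hD hu₂) 2 hY4
  -- X and Y commute
  have h12 : (c * e * c) * (c * t * c) = (c * t * c) * (c * e * c) := by
    calc (c * e * c) * (c * t * c) = c * e * (c * c) * t * c := by group
      _ = c * (e * t) * c := by rw [hc2]; group
      _ = c * (t * e) * c := by rw [hte]
      _ = c * t * (c * c) * e * c := by rw [hc2]; group
      _ = (c * t * c) * (c * e * c) := by group
  have hXY : CommWith (Subgroup.zpowers t ⊔ Subgroup.zpowers (c * e * c))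
      (Subgroup.zpowers e ⊔ Subgroup.zpowers (c * t * c)) :=
    CommWith.sup_left
      (CommWith.sup_right (commWith_zpowers hte) (commWith_zpowers htt))
      (CommWith.sup_right (commWith_zpowers hee.symm) (commWith_zpowers h12))
  have hM : IsPGroup 2 ↥((Subgroup.zpowers t ⊔ Subgroup.zpowers (c * e * c)) ⊔
      (Subgroup.zpowers e ⊔ Subgroup.zpowers (c * t * c))) :=
    IsPGroup.to_sup_of_normal_right' hX hY
      (le_trans (commWith_iff_le_centralizer.mp hXY) (Subgroup.centralizer_le_normalizer _))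
  have hcM : Cfsg.conjBy ((Subgroup.zpowers t ⊔ Subgroup.zpowers (c * e * c)) ⊔
      (Subgroup.zpowers e ⊔ Subgroup.zpowers (c * t * c))) c =
      (Subgroup.zpowers t ⊔ Subgroup.zpowers (c * e * c)) ⊔
      (Subgroup.zpowers e ⊔ Subgroup.zpowers (c * t * c)) := by
    rw [conjBy_sup, conjBy_sup, conjBy_sup, conjBy_zpowers, conjBy_zpowers, conjBy_zpowers,
      conjBy_zpowers, hcinv]
    have e1 : c * (c * e * c) * c = e := by
      calc c * (c * e * c) * c = (c * c) * e * (c * c) := by group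
        _ = e := by rw [hc2, one_mul, mul_one]
    have e2 : c * (c * t * c) * c = t := by
      calc c * (c * t * c) * c = (c * c) * t * (c * c) := by group
        _ = t := by rw [hc2, one_mul, mul_one]
    rw [e1, e2, sup_comm (Subgroup.zpowers (c * t * c)) (Subgroup.zpowers e),
      sup_comm (Subgroup.zpowers (c * e * c)) (Subgroup.zpowers t), sup_comm]
  have hcN : Subgroup.zpowers c ≤ Subgroup.normalizer
      ((((Subgroup.zpowers t ⊔ Subgroup.zpowers (c * e * c)) ⊔
      (Subgroup.zpowers e ⊔ Subgroup.zpowers (c * t * c)) : Subgroup G)) : Set G) := by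
    rw [Subgroup.zpowers_le]
    exact mem_normalizer_of_conjBy_eq hcM
  refine ⟨_, IsPGroup.to_sup_of_normal_left' hM (isPGroup_two_zpowers hc2) hcN, ?_, ?_, ?_⟩
  · exact Subgroup.mem_sup_left (Subgroup.mem_sup_left (Subgroup.mem_sup_left
      (Subgroup.mem_zpowers t)))
  · exact Subgroup.mem_sup_right (Subgroup.mem_zpowers c)
  · exact Subgroup.mem_sup_left (Subgroup.mem_sup_right (Subgroup.mem_sup_left
      (Subgroup.mem_zpowers e)))

end Cfsg.Agent.Lib.Helper26
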