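import Cfsg.Agent.Lib.Helper26.SroPerfect

set_option autoImplicit false
set_option linter.style.haveILetI false
set_option linter.unusedSectionVars false
set_option linter.unusedVariables false

namespace Cfsg.Agent.Lib.Helper26

open Cfsg Cfsg.Agent.S5013 Cfsg.Agent.S5014
open scoped commutatorElement

variable {G : Type*} [Group G]

theorem exists_pr_right {A B : Subgroup G} (h : Cfsg.IsRankOnePair A B) {b : G} (hb : b ∈ B)
    (hb1 : b ≠ 1) : ∃ a, Pr A B a b := by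
  obtain ⟨a, ⟨ha, ha1, he⟩, -⟩ := (Cfsg.Agent.S5013.result h).2.1 b hb hb1
  exact ⟨a, ha, ha1, hb, hb1, he⟩

/-- `n_c n_e⁻¹` lies in the diagonal subgroup. -/
theorem Pr.nn_mem_diag {A B : Subgroup G} (H : SRO A B) {c β e ε : G} (hc : Pr A B c β)
    (he : Pr A B e ε) :
    (c * β⁻¹ * c) * (e * ε⁻¹ * e)⁻¹ ∈ Cfsg.rankOneDiagonal A B := by
  rw [mem_diag_iff]
  refine ⟨(A ⊔ B).mul_mem (Pr.n_mem_sup hc) ((A ⊔ B).inv_mem (Pr.n_mem_sup he)), ?_, ?_⟩
  · rw [← conjBy_conjBy, Pr.conjBy_A_n_inv H he, Pr.conjBy_B_n H hc]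
  · rw [← conjBy_conjBy, Pr.conjBy_B_n_inv he, Pr.conjBy_A_n hc]

theorem conj_eq_of_fixed {nc nx y : G} (hz : (nc * nx⁻¹) * y * (nc * nx⁻¹)⁻¹ = y) :
    nc⁻¹ * y * nc = nx⁻¹ * y * nx := by
  have hz' : (nc * nx⁻¹)⁻¹ * y * (nc * nx⁻¹) = y := by
    calc (nc * nx⁻¹)⁻¹ * y * (nc * nx⁻¹)
        = (nc * nx⁻¹)⁻¹ * ((nc * nx⁻¹) * y * (nc * nx⁻¹)⁻¹) * (nc * nx⁻¹) := by rw [hz]
      _ = y := by group
  have e : nc⁻¹ * y * nc = nx⁻¹ * ((nc * nx⁻¹)⁻¹ * y * (nc * nx⁻¹)) * nx := by group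
  rw [e, hz']

/-- If `A` has at least four elements then the diagonal subgroup moves some element of `A`. -/
theorem sro_exists_moved {A B : Subgroup G} (H : SRO A B) {x c₁ c₂ : G} (hx : x ∈ A) (hx1 : x ≠ 1)
    (hc₁ : c₁ ∈ A) (hc₂ : c₂ ∈ A) (h11 : c₁ ≠ 1) (h21 : c₂ ≠ 1) (h1x : x * c₁ ≠ 1)
    (h2x : x * c₂ ≠ 1) (h12 : c₁ ≠ c₂) :
    ∃ h ∈ Cfsg.rankOneDiagonal A B, ∃ a ∈ A, h * a * h⁻¹ ≠ a := by
  by_contra hcon
  have hfix : ∀ h ∈ Cfsg.rankOneDiagonal A B, ∀ a ∈ A, h * a * h⁻¹ = a := by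
    intro h hh a ha
    by_contra hne
    exact hcon ⟨h, hh, a, ha, hne⟩
  have hfixB : ∀ h ∈ Cfsg.rankOneDiagonal A B, ∀ b ∈ B, h * b * h⁻¹ = b := by
    intro h hh b hb
    by_cases hb1 : b = 1
    · rw [hb1]
      group
    · obtain ⟨a, hp⟩ := exists_pr_right H.h hb hb1
      have hp' := Pr.conj_diag hp hh
      rw [hfix h hh a hp.1] at hp'
      exact Pr.unique_right H.h hp' hp
  obtain ⟨ξ, hξ⟩ := exists_pr H.h hx hx1
  -- partner formula
  have hpart : ∀ y η : G, Pr A B y η →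
      η = (x * ξ⁻¹ * x)⁻¹ * y⁻¹ * (x * ξ⁻¹ * x) := by
    intro y η hy
    have hz := Pr.nn_mem_diag H hy hξ
    have h1 := conj_eq_of_fixed (hfix _ hz y hy.1)
    rw [Pr.n_conj_a H hy] at h1
    have h2 : η = ((x * ξ⁻¹ * x)⁻¹ * y * (x * ξ⁻¹ * x))⁻¹ := by
      rw [← h1, inv_inv]
    rw [h2]
    group
  have key : ∀ c : G, c ∈ A → c ≠ 1 → x * c ≠ 1 → x⁻¹ * c⁻¹ = x := by
    intro c hc hc1 hxc1
    obtain ⟨β, hβ⟩ := exists_pr H.h hc hc1
    obtain ⟨βxc, hβxc⟩ := exists_pr H.h (A.mul_mem hx hc) hxc1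
    have hs := Pr.shift H hβ hξ hβxc
    have hz := Pr.nn_mem_diag H hβ hξ
    have h1 := conj_eq_of_fixed (hfixB _ hz ξ hξ.2.2.1)
    rw [Pr.n_conj_b H hξ] at h1
    rw [h1] at hs
    have h2 : βxc * β⁻¹ = ξ := by
      have e1 := hpart _ _ hβxc
      have e2 := hpart _ _ hβ
      have e3 := hpart _ _ hξ
      have hcomm : c * x = x * c := H.cA c hc x hx
      have e : (x * ξ⁻¹ * x)⁻¹ * (x * c)⁻¹ * (x * ξ⁻¹ * x) *
          ((x * ξ⁻¹ * x)⁻¹ * c⁻¹ * (x * ξ⁻¹ * x))⁻¹ =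
          (x * ξ⁻¹ * x)⁻¹ * ((x * c)⁻¹ * c) * (x * ξ⁻¹ * x) := by group
      have e4 : (x * c)⁻¹ * c = x⁻¹ := by
        rw [← hcomm]
        group
      rw [e1, e2, e, e4]
      exact e3.symm
    rw [h2] at hs
    exact Pr.unique_left H.h hs hξ
  have k1 := key c₁ hc₁ h11 h1x
  have k2 := key c₂ hc₂ h21 h2x
  apply h12
  have e1 : c₁⁻¹ = x * x := by
    calc c₁⁻¹ = x * (x⁻¹ * c₁⁻¹) := by group
      _ = x * x := by rw [k1]
  have e2 : c₂⁻¹ = x * x := by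
    calc c₂⁻¹ = x * (x⁻¹ * c₂⁻¹) := by group
      _ = x * x := by rw [k2]
  exact inv_injective (e1.trans e2.symm)

theorem exists_three_of_card {A : Subgroup G} (h : 3 < ENat.card A) :
    ∃ u v w : G, u ∈ A ∧ v ∈ A ∧ w ∈ A ∧ u ≠ 1 ∧ v ≠ 1 ∧ w ≠ 1 ∧ u ≠ v ∧ u ≠ w ∧ v ≠ w := by
  have h0 : ENat.card A = (A : Set G).encard := rfl
  rw [h0] at h
  have h1 : ((A : Set G) \ {1}).encard + 1 = (A : Set G).encard :=
    Set.encard_sdiff_singleton_add_one A.one_mem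
  have h2 : (3 : ℕ∞) ≤ ((A : Set G) \ {1}).encard := by
    have h3 : (3 : ℕ∞) + 1 ≤ (A : Set G).encard := Order.add_one_le_of_lt h
    rw [← h1, add_comm (3 : ℕ∞) 1, add_comm _ (1 : ℕ∞)] at h3
    exact (ENat.addLECancellable_of_ne_top ENat.one_ne_top) h3
  obtain ⟨t, hts, ht⟩ := Set.exists_subset_encard_eq h2
  obtain ⟨u, v, w, huv, huw, hvw, rfl⟩ := Set.encard_eq_three.mp ht
  have hu := hts (show u ∈ ({u, v, w} : Set G) by simp)
  have hv := hts (show v ∈ ({u, v, w} : Set G) by simp)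
  have hw := hts (show w ∈ ({u, v, w} : Set G) by simp)
  exact ⟨u, v, w, hu.1, hv.1, hw.1, hu.2, hv.2, hw.2, huv, huw, hvw⟩

/-- If `A` has more than three elements then `⁅A, H⁆ = A`. -/
theorem sro_comm_eq {A B : Subgroup G} (H : SRO A B) (hcard : 3 < ENat.card A) :
    ⁅A, Cfsg.rankOneDiagonal A B⁆ = A := by
  apply le_antisymm
  · rw [Subgroup.commutator_le]
    intro a ha h hh
    rw [commutatorElement_def]
    have h2 := (mem_diag_iff.mp hh).2.1
    have h3 := mem_conjBy_of_mem (A.inv_mem ha) h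
    rw [h2] at h3
    have e : a * h * a⁻¹ * h⁻¹ = a * (h * a⁻¹ * h⁻¹) := by group
    rw [e]
    exact A.mul_mem ha h3
  · obtain ⟨u, v, w, hu, hv, hw, hu1, hv1, hw1, huv, huw, hvw⟩ := exists_three_of_card hcard
    -- choose x = u and two of u, v, w different from u⁻¹
    have hex : ∃ c₁ c₂ : G, c₁ ∈ A ∧ c₂ ∈ A ∧ c₁ ≠ 1 ∧ c₂ ≠ 1 ∧ u * c₁ ≠ 1 ∧ u * c₂ ≠ 1 ∧
        c₁ ≠ c₂ := by
      by_cases h1 : u * v = 1
      · have hw' : u * w ≠ 1 := by
          intro h2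
          exact hvw (mul_left_cancel (h1.trans h2.symm))
        have hu' : u * u ≠ 1 := by
          intro h2
          exact huv (mul_left_cancel (h2.trans h1.symm))
        exact ⟨w, u, hw, hu, hw1, hu1, hw', hu', huw.symm⟩
      · by_cases h2 : u * w = 1
        · have hu' : u * u ≠ 1 := by
            intro h3
            exact huw (mul_left_cancel (h3.trans h2.symm))
          exact ⟨v, u, hv, hu, hv1, hu1, h1, hu', huv.symm⟩
        · exact ⟨v, w, hv, hw, hv1, hw1, h1, h2, hvw⟩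
    obtain ⟨c₁, c₂, hc₁, hc₂, h11, h21, h1x, h2x, h12⟩ := hex
    obtain ⟨h, hh, a', ha', hne⟩ := sro_exists_moved H hu hu1 hc₁ hc₂ h11 h21 h1x h2x h12
    have ha'C := mem_comm_of_moved H ha' hh hne
    intro a ha
    by_cases hfix : h * a * h⁻¹ = a
    · have hne2 : h * (a' * a) * h⁻¹ ≠ a' * a := by
        intro h2
        apply hne
        have e : h * (a' * a) * h⁻¹ = (h * a' * h⁻¹) * (h * a * h⁻¹) := by group
        rw [e, hfix] at h2
        exact mul_right_cancel h2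
      have h3 := mem_comm_of_moved H (A.mul_mem ha' ha) hh hne2
      have h4 := Subgroup.mul_mem _ (Subgroup.inv_mem _ ha'C) h3
      rw [inv_mul_cancel_left] at h4
      exact h4
    · exact mem_comm_of_moved H ha hh hfix

/-- A special rank one group with abelian unipotent subgroups of order more than three is
perfect. -/
theorem sro_perfect {X : Type*} [Group X] {A B : Subgroup X} (hX : Cfsg.IsRankOneGroup X A B)
    (H : SRO A B) (hcard : 3 < ENat.card A) : commutator X = ⊤ := by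
  have hA : A ≤ commutator X := by
    have h1 := sro_comm_eq H hcard
    rw [commutator_def]
    calc A = ⁅A, Cfsg.rankOneDiagonal A B⁆ := h1.symm
      _ ≤ ⁅(⊤ : Subgroup X), ⊤⁆ := Subgroup.commutator_mono le_top le_top
  have hB : B ≤ commutator X := by
    obtain ⟨a, ha, ha1⟩ := ne_bot_left H.h
    obtain ⟨b, hp⟩ := exists_pr H.h ha ha1
    intro y hy
    rw [← Pr.conjBy_A_n hp, mem_conjBy_iff] at hy
    have h1 := hA hy
    have h2 := (inferInstance : (commutator X).Normal).conj_mem _ h1 (a * b⁻¹ * a)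
    have e : a * b⁻¹ * a * ((a * b⁻¹ * a)⁻¹ * y * (a * b⁻¹ * a)) * (a * b⁻¹ * a)⁻¹ = y := by group
    rw [e] at h2
    exact h2
  rw [eq_top_iff, ← hX.1]
  exact sup_le hA hB

theorem sro_quasisimple {X : Type*} [Group X] {A B : Subgroup X}
    (hX : Cfsg.IsRankOneGroup X A B) (H : SRO A B) (hcard : 3 < ENat.card A) :
    Cfsg.IsQuasisimple ↥(commutator X) := by
  have hp := sro_perfect hX H hcard
  have hperf : Group.IsPerfect X := Group.isPerfect_def.mpr hp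
  have hq : Cfsg.IsQuasisimple X := (Cfsg.Agent.S5017.result hX).2 hperf
  have e : ↥(commutator X) ≃* X := (MulEquiv.subgroupCongr hp).trans Subgroup.topEquiv
  exact Cfsg.Agent.Lib.Helper9.isQuasisimple_of_mulEquiv e.symm hq

end Cfsg.Agent.Lib.Helper26
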