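import Cfsg.Agent.S5035
import Cfsg.Agent.Lib.Helper26.SroPerfect2

set_option autoImplicit false
set_option linter.style.haveILetI false
set_option linter.unusedSectionVars false
set_option linter.unusedVariables false

namespace Cfsg.Agent.Lib.Helper26

open Cfsg Cfsg.Agent.S5013 Cfsg.Agent.S5014 Cfsg.Agent.S5035
open scoped commutatorElement

variable {G : Type*} [Group G] {S : Set (Subgroup G)}

theorem diag_le_sup (A B : Subgroup G) : Cfsg.rankOneDiagonal A B ≤ A ⊔ B := by
  intro h hh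
  exact (mem_diag_iff.mp hh).1

/-- For a special rank one pair in `S` with more than three elements, `A` lies in the commutator
subgroup of `A ⊔ B`. -/
theorem rq_le_comm (hS : Cfsg.IsRootSubgroupSet S) {A B : Subgroup G} (hA : A ∈ S) (hB : B ∈ S)
    (hs : Cfsg.IsSpecialRankOnePair A B) (hcard : 3 < ENat.card A) :
    A ≤ ⁅A ⊔ B, A ⊔ B⁆ := by
  have H : SRO A B := ⟨hs.1, fun a b hp => hs.2 a hp.1 hp.2.1 b hp.2.2.1 hp.2.2.2.1 hp.2.2.2.2,
    commOn_of_mem hS hA, commOn_of_mem hS hB⟩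
  calc A = ⁅A, Cfsg.rankOneDiagonal A B⁆ := (sro_comm_eq H hcard).symm
    _ ≤ ⁅A ⊔ B, A ⊔ B⁆ := Subgroup.commutator_mono le_sup_left (diag_le_sup A B)

theorem rq_comm_le_ker {H' : Type*} [Group H'] (f : G →* H') (Y : Subgroup G)
    (hc : CommOn (Y.map f)) : ⁅Y, Y⁆ ≤ f.ker := by
  rw [← Subgroup.map_eq_bot_iff, Subgroup.map_commutator]
  exact commutator_eq_bot_of_commWith hc

theorem rq_exists_partner (hS : Cfsg.IsRootSubgroupSet S) (h2 : ∃ A ∈ S, ∃ B ∈ S, A ≠ B)
    (h1 : Cfsg.IsConnectedFamily (Cfsg.FAdj S) S) {A : Subgroup G} (hA : A ∈ S) :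
    ∃ B ∈ S, Cfsg.IsRankOnePair A B := by
  obtain ⟨A', hA', B', hB', hne⟩ := h2
  have hex : ∃ C ∈ S, C ≠ A := by
    by_cases h : A' = A
    · exact ⟨B', hB', fun e => hne (h.trans e.symm)⟩
    · exact ⟨A', hA', h⟩
  obtain ⟨C, hC, hCA⟩ := hex
  have hpath := h1 A hA C hC
  rcases Relation.ReflTransGen.cases_head hpath with h | ⟨B, hAB, -⟩
  · exact absurd h.symm hCA
  · exact ⟨B, hAB.2.1, hAB.2.2⟩

/-- The main step: a noncentral normal subgroup contains a member of `S`. -/
theorem rq_exists_le (hS : Cfsg.IsRootSubgroupSet S) (h2 : ∃ A ∈ S, ∃ B ∈ S, A ≠ B)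
    (h1 : Cfsg.IsConnectedFamily (Cfsg.FAdj S) S)
    (h2' : ∀ A ∈ S, ∀ C ∈ S, A ≠ C → Cfsg.centralizingMembers S A ≠ Cfsg.centralizingMembers S C)
    (h3 : Cfsg.IsDegenerateRootSet S → ∀ A ∈ S, 3 < ENat.card A)
    (h4 : ∀ A ∈ S, ∀ B ∈ Cfsg.rankOnePartners S A, Cfsg.IsSpecialRankOnePair A B)
    (N : Subgroup G) [hN : N.Normal] (hNZ : ¬ N ≤ Subgroup.center G) : ∃ A ∈ S, A ≤ N := by
  by_contra hno
  have hno' : ∀ A ∈ S, ¬ A ≤ N := fun A hA hle => hno ⟨A, hA, hle⟩
  obtain ⟨f, hf⟩ : ∃ f : G →* G ⧸ N, f.ker = N := ⟨QuotientGroup.mk' N, QuotientGroup.ker_mk' N⟩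
  have hconj := ((Cfsg.Agent.S5032.result hS h2).mp h1).1
  -- F1
  have F1 : ∀ A ∈ S, ∀ B ∈ S, Cfsg.RootCommutatorCase S A B →
      CommWith (A.map f) (B.map f) → False := by
    intro A hA B hB hcc hcw
    apply hno' _ hcc.1
    rw [← hf, ← Subgroup.map_eq_bot_iff, Subgroup.map_commutator]
    exact commutator_eq_bot_of_commWith hcw
  -- F2
  have F2 : ∀ A B : Subgroup G, Cfsg.IsRankOnePair A B → CommWith (A.map f) (B.map f) →
      A.map f = B.map f := by
    intro A B hp hcw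
    by_contra hne
    exact rankOne_not_commute (rankOne_map f hp hne) hcw
  -- F3
  have F3 : ∀ A ∈ S, ∀ B ∈ S, Cfsg.IsRankOnePair A B → A.map f = B.map f →
      ENat.card A ≤ 3 := by
    intro A hA B hB hp he
    by_contra hc
    have hc' : 3 < ENat.card A := not_le.mp hc
    apply hno' A hA
    have hs := h4 A hA B ⟨hB, hp⟩
    have hcomm : CommOn ((A ⊔ B).map f) := by
      rw [Subgroup.map_sup, ← he, sup_idem]
      have cA := commOn_of_mem hS hA
      rintro _ ⟨x, hx, rfl⟩ _ ⟨y, hy, rfl⟩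
      rw [← map_mul, ← map_mul, cA x hx y hy]
    rw [← hf]
    exact (rq_le_comm hS hA hB hs hc').trans (rq_comm_le_ker f _ hcomm)
  -- images of commuting pairs commute
  have Fc : ∀ A B : Subgroup G, CommWith A B → CommWith (A.map f) (B.map f) := by
    intro A B h
    rintro _ ⟨x, hx, rfl⟩ _ ⟨y, hy, rfl⟩
    rw [← map_mul, ← map_mul, h x hx y hy]
  -- Step 1
  have step1 : ∃ A ∈ S, ∃ n ∈ N, Cfsg.conjBy A n ≠ A := by
    by_contra hcon
    have hnorm : ∀ A ∈ S, ∀ n ∈ N, Cfsg.conjBy A n = A := by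
      intro A hA n hn
      by_contra hne
      exact hcon ⟨A, hA, n, hn, hne⟩
    apply hNZ
    intro n hn
    rw [Subgroup.mem_center_iff]
    have hall : ∀ A ∈ S, A ≤ Subgroup.centralizer ({n} : Set G) := by
      intro A hA a ha
      rw [Subgroup.mem_centralizer_iff]
      intro m hm
      rw [Set.mem_singleton_iff] at hm
      subst hm
      by_contra hne
      -- a₀ = a⁻¹ * (m a m⁻¹) ∈ A ∩ N, nontrivial
      have h5 : m * a * m⁻¹ ∈ A := by
        have := mem_conjBy_of_mem ha m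
        rw [hnorm A hA m hn] at this
        exact this
      have h6 : a⁻¹ * (m * a * m⁻¹) ∈ A := A.mul_mem (A.inv_mem ha) h5
      have h7 : a⁻¹ * (m * a * m⁻¹) ∈ N := by
        have e : a⁻¹ * (m * a * m⁻¹) = (a⁻¹ * m * a⁻¹⁻¹) * m⁻¹ := by group
        rw [e]
        exact N.mul_mem (hN.conj_mem m hn a⁻¹) (N.inv_mem hn)
      have h8 : a⁻¹ * (m * a * m⁻¹) ≠ 1 := by
        intro e
        apply hne
        have e2 : m * a * m⁻¹ = a := by
          calc m * a * m⁻¹ = a * (a⁻¹ * (m * a * m⁻¹)) := by group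
            _ = a := by rw [e, mul_one]
        calc m * a = (m * a * m⁻¹) * m := by group
          _ = a * m := by rw [e2]
      obtain ⟨B, hB, hp⟩ := rq_exists_partner hS h2 h1 hA
      have h9 : a⁻¹ * (m * a * m⁻¹) ∈ A ⊓ Subgroup.normalizer (B : Set G) :=
        ⟨h6, mem_normalizer_of_conjBy_eq (hnorm B hB _ h7)⟩
      rw [(Cfsg.Agent.S5013.result hp).2.2.1, Subgroup.mem_bot] at h9
      exact h8 h9
    have htop : (⊤ : Subgroup G) ≤ Subgroup.centralizer ({n} : Set G) := by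
      rw [← hS.generates]
      exact iSup₂_le hall
    intro g
    have := Subgroup.mem_centralizer_iff.mp (htop (Subgroup.mem_top g)) n rfl
    exact this.symm
  obtain ⟨A, hA, n, hn, hne⟩ := step1
  have hE : Cfsg.conjBy A n ∈ S := hS.conj_mem A hA n
  have hfn : f n = 1 := by
    have : n ∈ f.ker := by rw [hf]; exact hn
    exact this
  have hEA : (Cfsg.conjBy A n).map f = A.map f := by
    rw [map_conjBy, hfn, conjBy_one]
  -- Step 2: a rank one pair with equal images
  have step2 : ∃ C ∈ S, ∃ E ∈ S, Cfsg.IsRankOnePair C E ∧ C.map f = E.map f := by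
    have cAimg : CommWith (A.map f) (A.map f) := Fc A A (commOn_of_mem hS hA)
    rcases hS.pair A hA _ hE with h | h | h
    · -- commuting
      have hne2 := h2' A hA _ hE (Ne.symm hne)
      have hex : ∃ D, (D ∈ Cfsg.centralizingMembers S A ∧
            D ∉ Cfsg.centralizingMembers S (Cfsg.conjBy A n)) ∨
          (D ∈ Cfsg.centralizingMembers S (Cfsg.conjBy A n) ∧
            D ∉ Cfsg.centralizingMembers S A) := by
        by_contra hcon
        apply hne2
        ext D
        constructor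
        · intro hD
          by_contra hD'
          exact hcon ⟨D, Or.inl ⟨hD, hD'⟩⟩
        · intro hD
          by_contra hD'
          exact hcon ⟨D, Or.inr ⟨hD, hD'⟩⟩
      obtain ⟨D, hD | hD⟩ := hex
      · obtain ⟨⟨hDS, hDA⟩, hDE⟩ := hD
        have hDAc : CommWith D A := commWith_iff_le_centralizer.mpr hDA
        have himg : CommWith (D.map f) ((Cfsg.conjBy A n).map f) := by
          rw [hEA]
          exact Fc D A hDAc
        rcases hS.pair D hDS _ hE with h' | h' | h'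
        · exfalso
          apply hDE
          exact ⟨hDS, commWith_iff_le_centralizer.mp (commWith_of_commutator_eq_bot h')⟩
        · exact ⟨D, hDS, _, hE, h', F2 _ _ h' himg⟩
        · exact absurd himg (F1 D hDS _ hE h')
      · obtain ⟨⟨hDS, hDE⟩, hDA⟩ := hD
        have hDEc : CommWith D (Cfsg.conjBy A n) := commWith_iff_le_centralizer.mpr hDE
        have himg : CommWith (D.map f) (A.map f) := by
          rw [← hEA]
          exact Fc D _ hDEc
        rcases hS.pair D hDS A hA with h' | h' | h'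
        · exfalso
          apply hDA
          exact ⟨hDS, commWith_iff_le_centralizer.mp (commWith_of_commutator_eq_bot h')⟩
        · exact ⟨D, hDS, A, hA, h', F2 _ _ h' himg⟩
        · exact absurd himg (F1 D hDS A hA h')
    · exact ⟨A, hA, _, hE, h, hEA.symm⟩
    · exfalso
      apply F1 A hA _ hE h
      rw [hEA]
      exact cAimg
  obtain ⟨C, hC, E, hE', hp, himg⟩ := step2
  -- Step 3
  have hsmall := F3 C hC E hE' hp himg
  have hnd : ¬ Cfsg.IsDegenerateRootSet S := by
    intro hd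
    exact absurd (h3 hd C hC) (not_lt.mpr hsmall)
  have hex : ∃ P₀ ∈ S, ∃ Q₀ ∈ S, Cfsg.RootCommutatorCase S P₀ Q₀ := by
    by_contra hcon
    apply hnd
    intro P hP Q hQ hcc
    exact hcon ⟨P, hP, Q, hQ, hcc⟩
  obtain ⟨P₀, hP₀, Q₀, hQ₀, hcc⟩ := hex
  obtain ⟨g, hg⟩ := hconj.2 _ hcc.1 E hE'
  have hPQ : ⁅Cfsg.conjBy P₀ g, Cfsg.conjBy Q₀ g⁆ = E := by
    rw [← conjBy_commutator, ← hg]
  have hP : Cfsg.conjBy P₀ g ∈ S := hS.conj_mem P₀ hP₀ g
  have hQ : Cfsg.conjBy Q₀ g ∈ S := hS.conj_mem Q₀ hQ₀ g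
  have hcent : CommWith E (Cfsg.conjBy P₀ g ⊔ Cfsg.conjBy Q₀ g) := by
    rw [hg, ← conjBy_sup]
    apply commWith_conjBy
    intro c hc x hx
    exact hcc.2.1 c hc x hx
  have hcentP : CommWith E (Cfsg.conjBy P₀ g) := hcent.mono le_rfl le_sup_left
  have hcentQ : CommWith E (Cfsg.conjBy Q₀ g) := hcent.mono le_rfl le_sup_right
  have hEne : E.map f ≠ ⊥ := by
    intro e
    apply hno' E hE'
    rw [← hf, ← Subgroup.map_eq_bot_iff]
    exact e
  have key : ∀ R ∈ S, CommWith E R → (R = Cfsg.conjBy P₀ g ∨ R = Cfsg.conjBy Q₀ g) →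
      CommWith C R := by
    intro R hR hER hRcase
    have himgR : CommWith (C.map f) (R.map f) := by
      rw [himg]
      exact Fc E R hER
    rcases hS.pair C hC R hR with h' | h' | h'
    · exact commWith_of_commutator_eq_bot h'
    · exfalso
      have e1 := F2 _ _ h' himgR
      -- R̄ = Ē, so P̄ and Q̄ commute
      have hRE : R.map f = E.map f := e1.symm.trans himg
      apply hEne
      rw [← hPQ, Subgroup.map_commutator]
      apply commutator_eq_bot_of_commWith
      rcases hRcase with rfl | rfl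
      · rw [hRE]
        exact Fc E _ hcentQ
      · rw [hRE]
        exact (Fc E _ hcentP).symm
    · exact absurd himgR (F1 C hC R hR h')
  have hCP := key _ hP hcentP (Or.inl rfl)
  have hCQ := key _ hQ hcentQ (Or.inr rfl)
  have hCE : CommWith C E := by
    have h5 : CommWith C (Cfsg.conjBy P₀ g ⊔ Cfsg.conjBy Q₀ g) := CommWith.sup_right hCP hCQ
    refine h5.mono le_rfl ?_
    rw [← hPQ]
    rw [Subgroup.commutator_le]
    intro x hx y hy
    rw [commutatorElement_def]
    have hx' : x ∈ Cfsg.conjBy P₀ g ⊔ Cfsg.conjBy Q₀ g := Subgroup.mem_sup_left hx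
    have hy' : y ∈ Cfsg.conjBy P₀ g ⊔ Cfsg.conjBy Q₀ g := Subgroup.mem_sup_right hy
    exact Subgroup.mul_mem _ (Subgroup.mul_mem _ (Subgroup.mul_mem _ hx' hy')
      (Subgroup.inv_mem _ hx')) (Subgroup.inv_mem _ hy')
  exact rankOne_not_commute hp hCE

end Cfsg.Agent.Lib.Helper26
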