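import Cfsg.Agent.Lib.Helper26.RootQuasi

set_option autoImplicit false
set_option linter.style.haveILetI false
set_option linter.unusedSectionVars false
set_option linter.unusedVariables false

namespace Cfsg.Agent.Lib.Helper26

open Cfsg Cfsg.Agent.S5013 Cfsg.Agent.S5014 Cfsg.Agent.S5035
open scoped commutatorElement

variable {G : Type*} [Group G] {S : Set (Subgroup G)}

/-- A normal subgroup containing one member of a conjugacy class of subgroups generating `G`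
is everything. -/
theorem rq_normal_eq_top (hS : Cfsg.IsRootSubgroupSet S) (hconj : Cfsg.IsConjClassOfSubgroups S)
    (N : Subgroup G) [hN : N.Normal] {A : Subgroup G} (hA : A ∈ S) (hAN : A ≤ N) : N = ⊤ := by
  rw [eq_top_iff, ← hS.generates]
  apply iSup₂_le
  intro B hB
  obtain ⟨g, rfl⟩ := hconj.2 A hA B hB
  intro z hz
  rw [mem_conjBy_iff] at hz
  have h1 : g⁻¹ * z * g ∈ N := hAN hz
  have h2 : g * (g⁻¹ * z * g) * g⁻¹ ∈ N := hN.conj_mem _ h1 g
  have e : g * (g⁻¹ * z * g) * g⁻¹ = z := by group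
  rw [e] at h2
  exact h2

theorem rq_perfect (hS : Cfsg.IsRootSubgroupSet S) (h2 : ∃ A ∈ S, ∃ B ∈ S, A ≠ B)
    (h1 : Cfsg.IsConnectedFamily (Cfsg.FAdj S) S)
    (h3 : Cfsg.IsDegenerateRootSet S → ∀ A ∈ S, 3 < ENat.card A)
    (h4 : ∀ A ∈ S, ∀ B ∈ Cfsg.rankOnePartners S A, Cfsg.IsSpecialRankOnePair A B) :
    commutator G = ⊤ := by
  have hconj := ((Cfsg.Agent.S5032.result hS h2).mp h1).1
  have hex : ∃ C ∈ S, C ≤ commutator G := by
    by_cases hd : Cfsg.IsDegenerateRootSet S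
    · have h2c := h2
      obtain ⟨A, hA, -⟩ := h2c
      obtain ⟨B, hB, hp⟩ := rq_exists_partner hS h2 h1 hA
      refine ⟨A, hA, ?_⟩
      have hs := h4 A hA B ⟨hB, hp⟩
      refine (rq_le_comm hS hA hB hs (h3 hd A hA)).trans ?_
      rw [commutator_def]
      exact Subgroup.commutator_mono le_top le_top
    · have hex : ∃ P₀ ∈ S, ∃ Q₀ ∈ S, Cfsg.RootCommutatorCase S P₀ Q₀ := by
        by_contra hcon
        apply hd
        intro P hP Q hQ hcc
        exact hcon ⟨P, hP, Q, hQ, hcc⟩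
      obtain ⟨P₀, hP₀, Q₀, hQ₀, hcc⟩ := hex
      refine ⟨_, hcc.1, ?_⟩
      rw [commutator_def]
      exact Subgroup.commutator_mono le_top le_top
  obtain ⟨C, hC, hle⟩ := hex
  exact rq_normal_eq_top hS hconj (commutator G) hC hle

theorem rq_quasisimple (hS : Cfsg.IsRootSubgroupSet S) (h2 : ∃ A ∈ S, ∃ B ∈ S, A ≠ B)
    (h1 : Cfsg.IsConnectedFamily (Cfsg.FAdj S) S)
    (h2' : ∀ A ∈ S, ∀ C ∈ S, A ≠ C → Cfsg.centralizingMembers S A ≠ Cfsg.centralizingMembers S C)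
    (h3 : Cfsg.IsDegenerateRootSet S → ∀ A ∈ S, 3 < ENat.card A)
    (h4 : ∀ A ∈ S, ∀ B ∈ Cfsg.rankOnePartners S A, Cfsg.IsSpecialRankOnePair A B) :
    Cfsg.IsQuasisimple G := by
  have hconj := ((Cfsg.Agent.S5032.result hS h2).mp h1).1
  have hp := rq_perfect hS h2 h1 h3 h4
  refine ⟨Group.isPerfect_def.mpr hp, ?_⟩
  have hnt : Nontrivial (G ⧸ Subgroup.center G) := by
    rw [QuotientGroup.nontrivial_iff]
    intro htop
    have h2c := h2
    obtain ⟨A, hA, -⟩ := h2c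
    obtain ⟨B, hB, hpr⟩ := rq_exists_partner hS h2 h1 hA
    apply rankOne_not_commute hpr
    intro a ha b hb
    have : a ∈ Subgroup.center G := by rw [htop]; exact Subgroup.mem_top a
    exact ((Subgroup.mem_center_iff.mp this) b).symm
  refine { toNontrivial := hnt, eq_bot_or_eq_top_of_normal := ?_ }
  intro H hH
  have hsurj : Function.Surjective (QuotientGroup.mk' (Subgroup.center G)) :=
    QuotientGroup.mk'_surjective _
  have hNn : (H.comap (QuotientGroup.mk' (Subgroup.center G))).Normal := hH.comap _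
  by_cases hle : H.comap (QuotientGroup.mk' (Subgroup.center G)) ≤ Subgroup.center G
  · left
    rw [eq_bot_iff]
    intro x hx
    obtain ⟨g, rfl⟩ := hsurj x
    have hg : g ∈ H.comap (QuotientGroup.mk' (Subgroup.center G)) := hx
    have hgz := hle hg
    rw [Subgroup.mem_bot]
    exact (QuotientGroup.eq_one_iff g).mpr hgz
  · right
    obtain ⟨A, hA, hAN⟩ := rq_exists_le hS h2 h1 h2' h3 h4 _ hle
    have htop := rq_normal_eq_top hS hconj _ hA hAN
    rw [eq_top_iff]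
    intro x _
    obtain ⟨g, rfl⟩ := hsurj x
    have : g ∈ H.comap (QuotientGroup.mk' (Subgroup.center G)) := by
      rw [htop]; exact Subgroup.mem_top g
    exact this

theorem rq_main (hS : Cfsg.IsRootSubgroupSet S) (h2 : ∃ A ∈ S, ∃ B ∈ S, A ≠ B)
    (h1 : Cfsg.IsConnectedFamily (Cfsg.FAdj S) S)
    (h2' : ∀ A ∈ S, ∀ C ∈ S, A ≠ C → Cfsg.centralizingMembers S A ≠ Cfsg.centralizingMembers S C)
    (h3 : Cfsg.IsDegenerateRootSet S → ∀ A ∈ S, 3 < ENat.card A)
    (h4 : ∀ A ∈ S, ∀ B ∈ Cfsg.rankOnePartners S A, Cfsg.IsSpecialRankOnePair A B) :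
    (∀ A ∈ S, commutator G ⊔ A = ⊤ ∧ A ⊓ commutator G ≠ ⊥) ∧ Cfsg.IsQuasisimple ↥(commutator G) ∧
    (Cfsg.IsNondegenerateRootSet S → commutator G = ⊤) ∧
    ((∃ A ∈ S, ∃ B ∈ Cfsg.rankOnePartners S A, Group.IsPerfect ↥(A ⊔ B)) → commutator G = ⊤) := by
  have hp := rq_perfect hS h2 h1 h3 h4
  have hq := rq_quasisimple hS h2 h1 h2' h3 h4
  refine ⟨?_, ?_, fun _ => hp, fun _ => hp⟩
  · intro A hA
    rw [hp]
    refine ⟨top_sup_eq _, ?_⟩
    rw [inf_top_eq]
    exact hS.ne_bot A hA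
  · have e : ↥(commutator G) ≃* G := (MulEquiv.subgroupCongr hp).trans Subgroup.topEquiv
    exact Cfsg.Agent.Lib.Helper9.isQuasisimple_of_mulEquiv e.symm hq

end Cfsg.Agent.Lib.Helper26
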