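import Mathlib
import Cfsg.Prelude.Def_Transfer
import Cfsg.Agent.Lib.Helper5.S1906.Defs

set_option autoImplicit false

namespace Cfsg.Agent.Lib.Helper5.S1906

open scoped IsMulCommutative

section Gl

variable {G : Type*} [Group G] [Finite G] (hG : ∀ H : Subgroup G, H.index ≠ 2) (P : Sylow 2 G)
  {X0 : Subgroup G} {c z : G}

include hG in
/-- G5 -/
theorem hom_two_trivial {Q : Type*} [Group Q] [Finite Q] (hQ : IsPGroup 2 Q) (φ : G →* Q) (g : G) :
    φ g = 1 := by
  classical
  haveI : Fact (Nat.Prime 2) := ⟨Nat.prime_two⟩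
  set R := φ.range with hR
  have hRp : IsPGroup 2 R := hQ.to_subgroup R
  obtain ⟨k, hk⟩ := IsPGroup.iff_card.1 hRp
  rcases Nat.eq_zero_or_pos k with rfl | hkpos
  · rw [pow_zero] at hk
    have hsub : Subsingleton R := (Nat.card_eq_one_iff_unique.1 hk).1
    have : (⟨φ g, ⟨g, rfl⟩⟩ : R) = 1 := Subsingleton.elim _ _
    exact congrArg Subtype.val this
  · exfalso
    obtain ⟨t, rfl⟩ : ∃ t, k = t + 1 := ⟨k - 1, by omega⟩
    have hdvd : 2 ^ t ∣ Nat.card R := by rw [hk]; exact pow_dvd_pow 2 (by omega)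
    obtain ⟨K, hKcard⟩ := Sylow.exists_subgroup_card_pow_prime 2 hdvd
    have hKidx : K.index = 2 := by
      have h1 := K.index_mul_card
      rw [hKcard, hk, pow_succ] at h1
      have hpos : 0 < 2 ^ t := by positivity
      exact Nat.eq_of_mul_eq_mul_right hpos (by rw [h1, mul_comm])
    have hsurj : Function.Surjective φ.rangeRestrict := φ.rangeRestrict_surjective
    have := Subgroup.index_comap_of_surjective K hsurj
    exact hG _ (this.trans hKidx)

end Gl

end Cfsg.Agent.Lib.Helper5.S1906
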