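import Mathlib
import Cfsg.Prelude.Def_Transfer
import Cfsg.Agent.Lib.Helper5.S1906.Defs
import Cfsg.Agent.S1243

set_option autoImplicit false

namespace Cfsg.Agent.Lib.Helper5.S1906

open scoped IsMulCommutative

section Gl

variable {G : Type*} [Group G] [Finite G] (hG : ∀ H : Subgroup G, H.index ≠ 2) (P : Sylow 2 G)
  {X0 : Subgroup G} {c z : G}

/-- G9 -/
theorem control (h : Ctx (P : Subgroup G) X0 c z) (hw : Cfsg.IsWeaklyClosed X0 (P : Subgroup G))
    (x : G) (hx : x ∈ X0) (g : G) (hg : g * x * g⁻¹ ∈ X0) :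
    ∃ n ∈ Subgroup.normalizer (X0 : Set G), n * x * n⁻¹ = g * x * g⁻¹ := by
  haveI : Fact (Nat.Prime 2) := ⟨Nat.prime_two⟩
  have hcen : ∀ y ∈ X0, y ∈ Subgroup.centralizer (X0 : Set G) := by
    intro y hy
    rw [Subgroup.mem_centralizer_iff]
    intro a ha
    exact h.ab a ha y hy
  exact Cfsg.Agent.S1243.result P X0 hw x g (hcen x hx) (hcen _ hg)

end Gl

end Cfsg.Agent.Lib.Helper5.S1906
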