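import Mathlib
import Cfsg.Agent.Lib.Helper5.S1906.Defs
import Cfsg.Agent.Lib.Helper1.Nilp

set_option autoImplicit false

namespace Cfsg.Agent.Lib.Helper5.S1906

open scoped IsMulCommutative

section L

/-- L1 -/
theorem exists_central_comm_invol {H : Type*} [Group H] [Finite H] (hH : IsPGroup 2 H)
    (hna : ∃ a b : H, a * b ≠ b * a) :
    ∃ c : H, c ∈ commutator H ∧ (∀ x : H, x * c = c * x) ∧ c * c = 1 ∧ c ≠ 1 := by
  classical
  haveI : Fact (Nat.Prime 2) := ⟨Nat.prime_two⟩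
  haveI : Group.IsNilpotent H := hH.isNilpotent
  obtain ⟨a, b, hab⟩ := hna
  have hne : commutator H ≠ ⊥ := by
    intro hbot
    apply hab
    have hmem : a * b * a⁻¹ * b⁻¹ ∈ commutator H := by
      rw [commutator_def]
      have := Subgroup.commutator_mem_commutator (Subgroup.mem_top a) (Subgroup.mem_top b)
      rw [commutatorElement_def] at this
      exact this
    rw [hbot, Subgroup.mem_bot] at hmem
    have : a * b = (a * b * a⁻¹ * b⁻¹) * (b * a) := by group
    rw [this, hmem, one_mul]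
  have hmeet := Cfsg.Agent.Lib.Helper1.normal_inf_center_ne_bot (commutator H) hne
  obtain ⟨⟨w, hwmem⟩, hw1⟩ := (Subgroup.ne_bot_iff_exists_ne_one).1 hmeet
  have hw1' : w ≠ 1 := fun h => hw1 (Subtype.ext h)
  -- order of w is 2^k, k ≥ 1
  obtain ⟨k, hk⟩ := (IsPGroup.iff_orderOf.1 hH) w
  have hk1 : k ≠ 0 := by
    rintro rfl
    rw [pow_zero, orderOf_eq_one_iff] at hk
    exact hw1' hk
  obtain ⟨t, rfl⟩ : ∃ t, k = t + 1 := ⟨k - 1, by omega⟩
  set c := w ^ (2 ^ t) with hc
  have hcmem : c ∈ commutator H ⊓ Subgroup.center H := Subgroup.pow_mem _ hwmem _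
  refine ⟨c, hcmem.1, ?_, ?_, ?_⟩
  · intro x
    exact (Subgroup.mem_center_iff.1 hcmem.2 x)
  · rw [hc, ← pow_add, ← two_mul, ← pow_succ', ← hk]
    exact pow_orderOf_eq_one w
  · intro h1
    have : orderOf w ∣ 2 ^ t := orderOf_dvd_of_pow_eq_one h1
    rw [hk] at this
    have := Nat.le_of_dvd (by positivity) this
    have h2 : 2 ^ t < 2 ^ (t + 1) := Nat.pow_lt_pow_right (by norm_num) (by omega)
    omega

end L

end Cfsg.Agent.Lib.Helper5.S1906
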