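import Mathlib
import Cfsg.Agent.Lib.helper3.S5953.Defs2
import Cfsg.Prelude.Def_LieClassical
import Cfsg.Agent.Lib.Helper26.S5953N2
import Cfsg.Agent.Lib.Helper26.S5953N45
import Cfsg.Agent.Lib.Helper16.S5953N9
import Cfsg.Agent.Lib.Helper20.S5953N3core
import Cfsg.Agent.Lib.Helper20.S5953A3
import Cfsg.Agent.Lib.Helper27.S5953T5
import Cfsg.Agent.Lib.Lead.S5953S1
import Cfsg.Agent.Lib.helper23.S5953A2

/-!
# S5953 row N10 (helper26): `maxel` — an isometry `≠ 1` of order `r` of `Fin n → F` whose fixed space has dimension `n % c`: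
`n / c` copies of the Cauchy element of the standard `c`-space (N2, fixed-point-free by N3 = helper20's core + T5 + S1) and the identity on the rest
(N4, N5), reindexed to `Fin n` (N9).
-/

set_option autoImplicit false

namespace Cfsg.Agent.Lib.helper3.S5953

open Polynomial Module

/-- `cc i` is positive for `i > 0` -/
theorem s5953n10_cc_pos (i : ℕ) (hi : 0 < i) : 0 < cc i := by
  unfold cc
  split_ifs <;> omega

/-- N10 [M] MAXEL: an isometry `≠ 1` of `Fin n → F` of order `r` whose fixed space has dimension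
`n mod c` (`n / c` copies of the element of N2/N3, N4, N5, N9). -/
theorem maxel {F : Type*} [Field F] [Fintype F] {p : ℕ} [Fact p.Prime] [CharP F p] {q : ℕ}
    (hF : Fintype.card F = q ^ 2) (r : ℕ) [Fact r.Prime] (hrp : r ≠ p) (hr2 : r ≠ 2) (n c : ℕ)
    (hc : c = cc (orderOf (q : ZMod r))) (hcn : c ≤ n) :
    ∃ y : Module.End F (Fin n → F), HCtx q r 1 y ∧ y ≠ 1 ∧
      finrank F (fixS y) = n % c := by
  classical
  have hrP : r.Prime := Fact.out
  have hq : ¬ r ∣ q := r_not_dvd_q hF r hrp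
  have hq0 : (q : ZMod r) ≠ 0 := by
    rw [Ne, ZMod.natCast_eq_zero_iff]
    exact hq
  have hipos : 0 < orderOf (q : ZMod r) := by
    rw [orderOf_pos_iff]
    exact isOfFinOrder_iff_pow_eq_one.mpr ⟨r - 1, by have := hrP.two_le; omega,
      ZMod.pow_card_sub_one_eq_one hq0⟩
  have hc1 : 1 ≤ c := by
    rw [hc]
    exact s5953n10_cc_pos _ hipos
  have hord : orderOf (-(q : ZMod r)) = c := by
    rw [hc]
    exact ord_neg q r hr2 hq
  have hdvd : (-(q : ZMod r)) ^ c = 1 := by
    rw [← hord]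
    exact pow_orderOf_eq_one _
  obtain ⟨y0, hy0, hy01⟩ := cauchy hF r c hc1 hdvd
  have hfpf : fixS y0 = ⊥ :=
    (s5953n3_core hF r hrp hr2 c hc y0 hy0 hy01 (split hF hrp hy0)
      (fun N hN hNnd hNc hN0 => nsd hF hrp hr2 hy0 N hN hNnd hNc hN0)).1
  -- the block sum
  set A : ℕ := n / c with hA
  set k : ℕ := n % c with hk
  have hA1 : 1 ≤ A := Nat.div_pos hcn (by omega)
  let y' : Module.End F (BIdx A (Fin c) (Fin k) → F) := bsumX (Fin k) (fun _ : Fin A => y0)
  have hy' : HCtx q r 1 y' := s5953n4_core (Or.inl rfl) one_ne_zero _ (fun _ => hy0)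
  obtain ⟨hfix', hne'⟩ := bsum_fix (ω := Fin k) (fun _ : Fin A => y0) (fun _ => hfpf)
  have hne'' : y' ≠ 1 := hne' hA1 ⟨⟨0, by omega⟩⟩
  have hcard : Fintype.card (BIdx A (Fin c) (Fin k)) = Fintype.card (Fin n) := by
    rw [Fintype.card_sum, Fintype.card_prod, Fintype.card_fin, Fintype.card_fin, Fintype.card_fin,
      Fintype.card_fin, hA, hk, mul_comm]
    exact Nat.div_add_mod n c
  let e : BIdx A (Fin c) (Fin k) ≃ Fin n := Fintype.equivOfCardEq hcard
  obtain ⟨h1, h2, h3, -⟩ := transport e y' hy'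
  refine ⟨reX e y', h1, ?_, ?_⟩
  · intro h
    apply hne''
    have h4 := (h3 1).mp (by rw [one_smul]; exact h)
    rw [one_smul] at h4
    exact h4
  · rw [h2]
    show finrank F (fixS (bsumX (Fin k) (fun _ : Fin A => y0))) = k
    rw [hfix', Fintype.card_fin]

end Cfsg.Agent.Lib.helper3.S5953
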