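import Mathlib
import Cfsg.Agent.Lib.Helper19.S5954.Defs
import Cfsg.Agent.Lib.Lead.Unitary
import Cfsg.Agent.Lib.helper6.HermGram

/-!
# S5954 part C (count), row C1 (helper26): `nd_count_dvd`
the span map from orthonormal `m`-frames of `F^n` onto the non-degenerate `m`-spaces has fibres `≃ ONFrame F q m m`
(hermitian twin of Helper11/S5956C1).
-/

set_option autoImplicit false

namespace Cfsg.Agent.Lib.Helper19.S5954

open Module
open Cfsg.Agent.Lib.Lead

variable {F : Type*} [Field F]

/-- additivity of `hermForm` in the first variable over finite sums -/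
theorem s5954c1_sum_left {n q : ℕ} {ι : Type*} (s : Finset ι) (g : ι → (Fin n → F)) (v : Fin n → F) :
    Cfsg.hermForm n F q (∑ i ∈ s, g i) v = ∑ i ∈ s, Cfsg.hermForm n F q (g i) v := by
  simp only [Cfsg.hermForm, Finset.sum_apply, Finset.sum_mul]
  exact Finset.sum_comm

theorem s5954c1_smul_left {n q : ℕ} (c : F) (u v : Fin n → F) :
    Cfsg.hermForm n F q (c • u) v = c * Cfsg.hermForm n F q u v := by
  simp only [Cfsg.hermForm, Pi.smul_apply, smul_eq_mul, mul_assoc, Finset.mul_sum]

/-- pairing a combination of frame vectors with a frame vector -/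
theorem s5954c1_pair {n m q : ℕ} (f : Fin m → (Fin n → F))
    (hf : ∀ a b, Cfsg.hermForm n F q (f a) (f b) = if a = b then 1 else 0) (c : Fin m → F) (b : Fin m) :
    Cfsg.hermForm n F q (∑ i, c i • f i) (f b) = c b := by
  classical
  rw [s5954c1_sum_left]
  simp only [s5954c1_smul_left, hf, mul_ite, mul_one, mul_zero, Finset.sum_ite_eq', Finset.mem_univ,
    if_true]

/-- an orthonormal frame is linearly independent -/
theorem s5954c1_li {n m q : ℕ} (f : Fin m → (Fin n → F))
    (hf : ∀ a b, Cfsg.hermForm n F q (f a) (f b) = if a = b then 1 else 0) : LinearIndependent F f := by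
  rw [Fintype.linearIndependent_iff]
  intro c hc i
  have := s5954c1_pair f hf c i
  rw [hc] at this
  rw [← this]
  simp [Cfsg.hermForm]

/-- the span of an orthonormal `m`-frame is a non-degenerate `m`-space -/
theorem s5954c1_span {n m q : ℕ} (f : Fin m → (Fin n → F))
    (hf : ∀ a b, Cfsg.hermForm n F q (f a) (f b) = if a = b then 1 else 0) :
    Module.finrank F ↥(Submodule.span F (Set.range f)) = m ∧
      ∀ u ∈ Submodule.span F (Set.range f), u ≠ 0 →
        ∃ v ∈ Submodule.span F (Set.range f), Cfsg.hermForm n F q u v ≠ 0 := by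
  constructor
  · rw [finrank_span_eq_card (s5954c1_li f hf), Fintype.card_fin]
  · intro u hu hu0
    rw [← Fintype.range_linearCombination, LinearMap.mem_range] at hu
    obtain ⟨c, rfl⟩ := hu
    rw [Fintype.linearCombination_apply] at hu0 ⊢
    have hc : ∃ i, c i ≠ 0 := by
      by_contra hcon
      push Not at hcon
      apply hu0
      apply Finset.sum_eq_zero
      intro i _
      rw [hcon i, zero_smul]
    obtain ⟨i, hi⟩ := hc
    refine ⟨f i, Submodule.subset_span ⟨i, rfl⟩, ?_⟩
    rw [s5954c1_pair f hf c i]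
    exact hi

/-- the span map -/
noncomputable def s5954c1_sigma (n m q : ℕ) (f : ONFrame F q m n) : NDm n m q F :=
  ⟨Submodule.span F (Set.range f.1), (s5954c1_span f.1 f.2).1, (s5954c1_span f.1 f.2).2⟩

/-- an isometric parametrisation of a non-degenerate `m`-space by the standard `m`-space -/
theorem s5954c1_param [Fintype F] {n m q : ℕ} (hF : Fintype.card F = q ^ 2) (W : NDm n m q F) :
    ∃ φ : (Fin m → F) →ₗ[F] (Fin n → F), LinearMap.range φ = W.1 ∧
      ∀ x y, Cfsg.hermForm n F q (φ x) (φ y) = Cfsg.hermForm m F q x y := by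
  classical
  have hWnd : ∀ u ∈ W.1, (∀ v ∈ W.1, Cfsg.hermForm n F q u v = 0) → u = 0 := by
    intro u hu hz
    by_contra hne
    obtain ⟨v, hv, hv0⟩ := W.2.2 u hu hne
    exact hv0 (hz v hv)
  obtain ⟨b, hli, hspan, horth⟩ := Cfsg.Agent.Lib.helper6.HF.exists_orthonormal hF W.1 hWnd
  have hm : Module.finrank F W.1 = m := W.2.1
  obtain ⟨b', hb'⟩ : ∃ b' : Fin m → (Fin n → F), Submodule.span F (Set.range b') = W.1 ∧
      ∀ i j, Cfsg.hermForm n F q (b' i) (b' j) = if i = j then 1 else 0 := by
    revert b
    rw [hm]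
    intro b _ hspan horth
    exact ⟨b, hspan, horth⟩
  obtain ⟨hspan', horth'⟩ := hb'
  refine ⟨Fintype.linearCombination F b', ?_, ?_⟩
  · rw [Fintype.range_linearCombination, hspan']
  · intro x y
    rw [Fintype.linearCombination_apply, Fintype.linearCombination_apply, s5954c1_sum_left]
    simp only [s5954c1_smul_left]
    -- right expansion
    have hR : ∀ i, Cfsg.hermForm n F q (b' i) (∑ j, y j • b' j) = y i ^ q := by
      intro i
      obtain ⟨σ, hσ⟩ := exists_frob hF
      have hσσ := frob_frob hF σ hσ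
      rw [herm_symm σ hσ hσσ, s5954c1_pair b' horth' y i, hσ]
    simp only [hR]
    rfl

/-- an isometric map from the standard space is injective -/
theorem s5954c1_param_inj {n m q : ℕ} (hq : q ≠ 0) (φ : (Fin m → F) →ₗ[F] (Fin n → F))
    (hφ : ∀ x y, Cfsg.hermForm n F q (φ x) (φ y) = Cfsg.hermForm m F q x y) :
    Function.Injective φ := by
  classical
  rw [← LinearMap.ker_eq_bot, LinearMap.ker_eq_bot']
  intro x hx
  funext j
  have h1 := hφ x (Pi.single j 1)
  rw [hx] at h1
  have h2 : Cfsg.hermForm n F q (0 : Fin n → F) (φ (Pi.single j 1)) = 0 := by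
    simp [Cfsg.hermForm]
  have h3 : Cfsg.hermForm m F q x (Pi.single j 1) = x j := by
    unfold Cfsg.hermForm
    rw [Finset.sum_eq_single j]
    · simp
    · intro b _ hb
      rw [Pi.single_eq_of_ne hb, zero_pow hq, mul_zero]
    · intro h; exact absurd (Finset.mem_univ j) h
  rw [h2, h3] at h1
  rw [← h1]; rfl

/-- the fibre of the span map over `W` is in bijection with the full frames of the standard `m`-space -/
theorem s5954c1_fibre [Fintype F] {n m q : ℕ} (hF : Fintype.card F = q ^ 2) (W : NDm n m q F) :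
    Nonempty ({f : ONFrame F q m n // s5954c1_sigma n m q f = W} ≃ ONFrame F q m m) := by
  classical
  have hq : q ≠ 0 := by
    rintro rfl
    have := Fintype.card_pos (α := F)
    rw [hF] at this
    simp at this
  obtain ⟨φ, hr, hφ⟩ := s5954c1_param hF W
  have hinj := s5954c1_param_inj hq φ hφ
  have hpre : ∀ v ∈ W.1, ∃ x, φ x = v := by
    intro v hv
    rw [← hr] at hv
    exact hv
  have hmem : ∀ (f : {f : ONFrame F q m n // s5954c1_sigma n m q f = W}) (i : Fin m),
      f.1.1 i ∈ W.1 := by
    intro f i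
    have h1 : (s5954c1_sigma n m q f.1).1 = W.1 := congrArg Subtype.val f.2
    rw [← h1]
    exact Submodule.subset_span ⟨i, rfl⟩
  let pre : {f : ONFrame F q m n // s5954c1_sigma n m q f = W} → Fin m → (Fin m → F) :=
    fun f i => (hpre _ (hmem f i)).choose
  have hE : ∀ f i, φ (pre f i) = f.1.1 i := fun f i => (hpre _ (hmem f i)).choose_spec
  refine ⟨
    { toFun := fun f => ⟨pre f, ?_⟩
      invFun := fun g => ⟨⟨fun i => φ (g.1 i), ?_⟩, ?_⟩
      left_inv := ?_
      right_inv := ?_ }⟩
  · intro a b
    rw [← hφ, hE, hE]; exact f.1.2 a b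
  · intro a b
    rw [hφ]; exact g.2 a b
  · apply Subtype.ext
    show Submodule.span F (Set.range (fun i => φ (g.1 i))) = W.1
    have hfr : ∀ a b, Cfsg.hermForm n F q (φ (g.1 a)) (φ (g.1 b)) = if a = b then 1 else 0 := by
      intro a b
      rw [hφ]; exact g.2 a b
    apply Submodule.eq_of_le_of_finrank_eq
    · rw [Submodule.span_le]
      rintro _ ⟨i, rfl⟩
      rw [← hr]
      exact LinearMap.mem_range_self φ _
    · rw [(s5954c1_span _ hfr).1, W.2.1]
  · intro f
    apply Subtype.ext
    apply Subtype.ext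
    funext i
    exact hE f i
  · intro g
    apply Subtype.ext
    funext i
    apply hinj
    exact hE _ i

/-- C1 [M-L] NDCOUNT: `#Ω` divides the number of orthonormal `m`-frames (`Lead.card_frames`). -/
theorem nd_count_dvd [Fintype F] {q : ℕ} (hF : Fintype.card F = q ^ 2) (n m : ℕ) (hmn : m ≤ n) :
    Nat.card (NDm n m q F) ∣ ∏ j ∈ Finset.range m, (hermAB q (n - j)).2 := by
  classical
  rw [← card_frames (F := F) hF hmn]
  have hfin : Finite (NDm n m q F) := inferInstance
  let _ : Fintype (NDm n m q F) := Fintype.ofFinite _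
  rw [Nat.card_congr (Equiv.sigmaFiberEquiv (s5954c1_sigma (F := F) n m q)).symm, Nat.card_sigma]
  have : ∀ W : NDm n m q F,
      Nat.card {f : ONFrame F q m n // s5954c1_sigma n m q f = W} = Nat.card (ONFrame F q m m) := by
    intro W
    obtain ⟨e⟩ := s5954c1_fibre hF W
    exact Nat.card_congr e
  simp only [this]
  rw [Finset.sum_const, smul_eq_mul, Finset.card_univ, ← Nat.card_eq_fintype_card]
  exact Dvd.intro _ rfl

end Cfsg.Agent.Lib.Helper19.S5954
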