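import Mathlib
import Cfsg.Agent.Lib.Helper19.S5954.Defs
import Cfsg.Agent.Lib.helper3.S5953.Defs
import Cfsg.Agent.Lib.Helper26.S5954C1

/-!
# S5954 part C (count), row C2 (helper26): `nd_count_prime`
a prime `r ≠ p`, `r > 2`, dividing the number of non-degenerate `m`-spaces has `c = ord_r(-q) ∣ n - j` for some `j < m`.
Also the arithmetic `orderOf (-a) = cc (orderOf a)` in a field of characteristic `≠ 2`.
-/

set_option autoImplicit false

namespace Cfsg.Agent.Lib.Helper19.S5954

open Module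
open Cfsg.Agent.Lib.Lead
open Cfsg.Agent.Lib.helper3.S5953 (cc)

/-- `ord(-a) = cc (ord a)` in a field with `2 ≠ 0` -/
theorem s5954c2_orderOf_neg {K : Type*} [Field K] (h2 : (2 : K) ≠ 0) (a : K) (hpos : 0 < orderOf a) :
    orderOf (-a) = cc (orderOf a) := by
  have hneg1 : orderOf (-1 : K) = 2 := by
    rw [orderOf_neg_one, if_neg]
    intro hc
    have : CharP K 2 := by
      have := ringChar.charP K
      rwa [hc] at this
    exact h2 (CharP.cast_eq_zero K 2)
  set i := orderOf a with hi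
  rcases Nat.even_or_odd i with he | ho
  · obtain ⟨h, hh⟩ := he
    have hh' : i = 2 * h := by omega
    have hh0 : 0 < h := by omega
    have hsq : (a ^ h) ^ 2 = 1 := by
      rw [← pow_mul, mul_comm, ← hh', hi, pow_orderOf_eq_one]
    have hne : a ^ h ≠ 1 := by
      intro hc
      have := orderOf_dvd_of_pow_eq_one hc
      rw [← hi] at this
      have := Nat.le_of_dvd hh0 this
      omega
    have hah : a ^ h = -1 := by
      have : (a ^ h - 1) * (a ^ h + 1) = 0 := by
        have : (a ^ h - 1) * (a ^ h + 1) = (a ^ h) ^ 2 - 1 := by ring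
        rw [this, hsq, sub_self]
      rcases mul_eq_zero.mp this with h1 | h1
      · exact absurd (sub_eq_zero.mp h1) hne
      · exact eq_neg_of_add_eq_zero_left h1
    have hna : -a = a ^ (h + 1) := by
      rw [pow_succ, hah]; ring
    rw [hna, orderOf_pow' a (by omega), ← hi]
    unfold cc
    rcases Nat.even_or_odd h with hhe | hho
    · obtain ⟨t, ht⟩ := hhe
      have h4 : i % 4 = 0 := by omega
      rw [if_pos h4]
      have hcop : Nat.Coprime i (h + 1) := by
        rw [hh']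
        apply Nat.Coprime.mul_left
        · rw [Nat.coprime_two_left]
          exact ⟨t, by omega⟩
        · exact (Nat.coprime_self_add_right).mpr (Nat.coprime_one_right h)
      rw [hcop.gcd_eq_one, Nat.div_one]
    · obtain ⟨t, ht⟩ := hho
      have h4 : i % 4 ≠ 0 := by omega
      have h42 : i % 4 = 2 := by omega
      rw [if_neg h4, if_pos h42]
      have hg : Nat.gcd i (h + 1) = 2 := by
        have e1 : i = 2 * h := hh'
        have e2 : h + 1 = 2 * (t + 1) := by omega
        rw [e1, e2, Nat.gcd_mul_left]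
        have : Nat.Coprime h (t + 1) := by
          have h3 : Nat.Coprime h (h + 1) := (Nat.coprime_self_add_right).mpr (Nat.coprime_one_right h)
          rw [e2] at h3
          exact Nat.Coprime.coprime_mul_left_right h3
        rw [this.gcd_eq_one]
      rw [hg]
  · have h4 : i % 4 ≠ 0 := by
      obtain ⟨t, ht⟩ := ho; omega
    have h42 : i % 4 ≠ 2 := by
      obtain ⟨t, ht⟩ := ho; omega
    unfold cc
    rw [if_neg h4, if_neg h42]
    have hcomm : Commute (-1 : K) a := Commute.all _ _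
    have hcop : (orderOf (-1 : K)).Coprime (orderOf a) := by
      rw [hneg1, Nat.coprime_two_left]; exact ho
    have := hcomm.orderOf_mul_eq_mul_orderOf_of_coprime hcop
    rw [hneg1, neg_one_mul] at this
    exact this

variable {F : Type*} [Field F]

/-- `q` is a unit modulo a prime `r ≠ p` -/
theorem s5954c2_q_ne_zero [Fintype F] {p : ℕ} [Fact p.Prime] [CharP F p] {q : ℕ}
    (hF : Fintype.card F = q ^ 2) (r : ℕ) [Fact r.Prime] (hrp : r ≠ p) : (q : ZMod r) ≠ 0 := by
  have hrP : r.Prime := Fact.out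
  have hpP : p.Prime := Fact.out
  intro h0
  have h1 : r ∣ q := (ZMod.natCast_eq_zero_iff q r).mp h0
  obtain ⟨e, _, he⟩ := FiniteField.card F p
  have h2 : r ∣ p ^ (e : ℕ) := by
    rw [← he, hF]
    exact dvd_pow h1 (by norm_num)
  have h3 := hrP.dvd_of_dvd_pow h2
  exact hrp ((Nat.prime_dvd_prime_iff_eq hrP hpP).mp h3)

/-- `r ∣ B_k` forces `(-q)^k = 1` modulo `r` -/
theorem s5954c2_pow_of_dvd {q : ℕ} (hq2 : 2 ≤ q) (r : ℕ) [Fact r.Prime] (hq0 : (q : ZMod r) ≠ 0) (k : ℕ)
    (hd : r ∣ (hermAB q k).2) : (-(q : ZMod r)) ^ k = 1 := by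
  have h1 := (hermAB_closed q hq2 k).2
  have h2 : ((hermAB q k).2 : ZMod r) = 0 := (ZMod.natCast_eq_zero_iff _ r).mpr hd
  have h3 := congrArg (Int.cast : ℤ → ZMod r) h1
  push_cast at h3
  rw [h2, mul_zero] at h3
  have h4 : (q : ZMod r) ^ k * ((q : ZMod r) ^ k - (-1) ^ k) = 0 := by
    rw [h3]; ring
  have h5 : (q : ZMod r) ^ k - (-1) ^ k = 0 := by
    rcases mul_eq_zero.mp h4 with h | h
    · exact absurd h (pow_ne_zero _ hq0)
    · exact h
  rw [neg_pow, sub_eq_zero.mp h5, ← mul_pow]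
  simp

/-- C2 [S-M] NDPRIME: a prime divisor `r ≠ p`, `r > 2`, of `#Ω` has `c ∣ n - j` for some `j < m`. -/
theorem nd_count_prime [Fintype F] {p : ℕ} [Fact p.Prime] [CharP F p] {q : ℕ}
    (hF : Fintype.card F = q ^ 2) (n m : ℕ) (hmn : m ≤ n) (r : ℕ) [Fact r.Prime] (hrp : r ≠ p)
    (hr2 : 2 < r) (hr : r ∣ Nat.card (NDm n m q F)) (i : ℕ) (hi : i = orderOf (q : ZMod r)) :
    ∃ j : ℕ, j < m ∧ cc i ∣ n - j := by
  have hrP : r.Prime := Fact.out
  have hq2 : 2 ≤ q := by
    have h1 : 1 < Fintype.card F := Fintype.one_lt_card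
    rw [hF] at h1
    by_contra hcon
    have : q ≤ 1 := by omega
    have : q ^ 2 ≤ 1 := by
      calc q ^ 2 ≤ 1 ^ 2 := Nat.pow_le_pow_left this 2
        _ = 1 := one_pow 2
    omega
  have hq0 := s5954c2_q_ne_zero hF r hrp
  have hdvd := dvd_trans hr (nd_count_dvd (F := F) hF n m hmn)
  obtain ⟨j, hj, hjd⟩ := (Prime.dvd_finsetProd_iff hrP.prime _).mp hdvd
  refine ⟨j, Finset.mem_range.mp hj, ?_⟩
  have h1 := s5954c2_pow_of_dvd hq2 r hq0 (n - j) hjd
  have h2 := orderOf_dvd_of_pow_eq_one h1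
  have h20 : (2 : ZMod r) ≠ 0 := by
    intro h
    have h3 : ((2 : ℕ) : ZMod r) = 0 := by exact_mod_cast h
    have := Nat.le_of_dvd (by norm_num) ((ZMod.natCast_eq_zero_iff 2 r).mp h3)
    omega
  have hpos : 0 < orderOf (q : ZMod r) := by
    rw [orderOf_pos_iff]
    exact isOfFinOrder_iff_pow_eq_one.mpr ⟨r - 1, by have := hrP.two_le; omega,
      ZMod.pow_card_sub_one_eq_one hq0⟩
  rw [s5954c2_orderOf_neg h20 _ hpos, ← hi] at h2
  exact h2

end Cfsg.Agent.Lib.Helper19.S5954
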