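import Mathlib
import Cfsg.Agent.Lib.Helper19.S5954.Defs
import Cfsg.Agent.Lib.helper3.S5953.Defs
import Cfsg.Agent.Lib.Helper24.S5954TINb

/-!
# S5954 row TBAD (helper26): `t_bad`, the bad element for `r = 2` (the `r = 2` instance of helper24's monomial matrix `s5954tin_M`).
-/

set_option autoImplicit false
set_option linter.unusedVariables false
set_option linter.unusedSectionVars false

namespace Cfsg.Agent.Lib.Helper19.S5954

open Polynomial Module Cfsg.Agent.Lib.Helper13.S5955

variable {F : Type*} [Field F] {V : Type*} [AddCommGroup V] [Module F V]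

/-- the translation by `1` on `ZMod 2` is a transposition -/
theorem s5954tbad_sign_two : Equiv.Perm.sign (Equiv.subRight (1 : ZMod 2)) = -1 := by
  have h : (Equiv.subRight (1 : ZMod 2)) = Equiv.swap (0 : ZMod 2) 1 := by
    apply Equiv.ext
    intro a
    fin_cases a <;> rfl
  rw [h, Equiv.Perm.sign_swap]
  decide

theorem s5954tbad_sign (k : ℕ) : Equiv.Perm.sign (s5954tin_sh 2 k).symm = (-1) ^ k := by
  have h : (s5954tin_sh 2 k).symm = Equiv.prodCongrLeft (fun _ : Fin k => Equiv.subRight (1 : ZMod 2)) := by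
    apply Equiv.ext
    intro p
    rfl
  rw [h, Equiv.Perm.sign_prodCongrLeft]
  simp only [s5954tbad_sign_two, Finset.prod_const, Finset.card_univ, Fintype.card_fin]

theorem s5954tbad_det (k : ℕ) (z : F) : (s5954tin_M 2 k z).det = (-z) ^ k := by
  classical
  unfold s5954tin_M
  rw [Matrix.det_permute, s5954tbad_sign, Matrix.det_diagonal, Fintype.prod_prod_type]
  simp only [s5954tin_d]
  have h : ∀ a : ZMod 2, (∏ _y : Fin k, (if a = 0 then z else (1 : F))) =
      if a = 0 then z ^ k else 1 := by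
    intro a
    rw [Finset.prod_const, Finset.card_univ, Fintype.card_fin]
    split_ifs
    · rfl
    · exact one_pow _
  simp only [h]
  rw [Finset.prod_ite_eq' Finset.univ (0 : ZMod 2) (fun _ => z ^ k)]
  simp only [Finset.mem_univ, if_true]
  rw [neg_pow z k]
  push_cast
  ring

/-- TBAD [M-L] -/
theorem t_bad {q : ℕ} (n : ℕ) (hn2 : 2 ≤ n) (hn : Even n) (z : F) (hz : z ^ (q + 1) = 1) (hdet : (-z) ^ (n / 2) = 1) :
    ∃ x : Matrix.SpecialLinearGroup (Fin n) F, x ∈ Cfsg.SU n F q ∧
      ((x ^ 2 : Matrix.SpecialLinearGroup (Fin n) F) : Matrix (Fin n) (Fin n) F) = z • (1 : Matrix (Fin n) (Fin n) F) ∧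
      ∀ c : F, (x : Matrix (Fin n) (Fin n) F) ≠ c • (1 : Matrix (Fin n) (Fin n) F) := by
  classical
  obtain ⟨k, hk⟩ := hn
  have hk2 : n / 2 = k := by omega
  have hk1 : 1 ≤ k := by omega
  rw [hk2] at hdet
  have hz0 : z ≠ 0 := by
    intro h0
    rw [h0, zero_pow (by omega)] at hz
    exact zero_ne_one hz
  have hcard : Fintype.card (ZMod 2 × Fin k) = Fintype.card (Fin n) := by
    rw [Fintype.card_prod, ZMod.card, Fintype.card_fin, Fintype.card_fin]
    omega
  let e : ZMod 2 × Fin k ≃ Fin n := Fintype.equivOfCardEq hcard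
  set X : Matrix (Fin n) (Fin n) F := Matrix.reindexAlgEquiv F F e (s5954tin_M 2 k z) with hX
  have hXdet : X.det = 1 := by
    rw [hX, Matrix.det_reindexAlgEquiv, s5954tbad_det, hdet]
  have hXsq : X ^ 2 = z • 1 := by
    rw [hX, ← map_pow, s5954tin_M_pow, map_smul, map_one]
  have hmv : ∀ w : Fin n → F, X.mulVec w = (s5954tin_M 2 k z).mulVec (w ∘ e) ∘ e.symm := by
    intro w
    rw [hX, Matrix.coe_reindexAlgEquiv, Matrix.reindex_apply, Matrix.submatrix_mulVec_equiv]
    rfl
  have hpres : ∀ u v : Fin n → F,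
      Cfsg.hermForm n F q (X.mulVec u) (X.mulVec v) = Cfsg.hermForm n F q u v := by
    intro u v
    unfold Cfsg.hermForm
    rw [hmv, hmv]
    have hL : ∑ i, (((s5954tin_M 2 k z).mulVec (u ∘ e)) ∘ e.symm) i *
        ((((s5954tin_M 2 k z).mulVec (v ∘ e)) ∘ e.symm) i) ^ q =
        ∑ p, ((s5954tin_M 2 k z).mulVec (u ∘ e)) p * (((s5954tin_M 2 k z).mulVec (v ∘ e)) p) ^ q :=
      Equiv.sum_comp e.symm (fun p => ((s5954tin_M 2 k z).mulVec (u ∘ e)) p *
        (((s5954tin_M 2 k z).mulVec (v ∘ e)) p) ^ q)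
    have hR : ∑ i, u i * v i ^ q = ∑ p, (u ∘ e) p * ((v ∘ e) p) ^ q :=
      (Equiv.sum_comp e (fun i => u i * v i ^ q)).symm
    rw [hL, hR]
    exact s5954tin_M_herm 2 k q z hz (u ∘ e) (v ∘ e)
  obtain ⟨x, hx⟩ : ∃ x : Matrix.SpecialLinearGroup (Fin n) F,
      (x : Matrix (Fin n) (Fin n) F) = X := ⟨⟨X, hXdet⟩, rfl⟩
  refine ⟨x, ?_, ?_, ?_⟩
  · apply Cfsg.Agent.Lib.helper3.S5953.mem_su_of_pres
    intro u v
    rw [hx, Matrix.toLin'_apply, Matrix.toLin'_apply]
    exact hpres u v
  · rw [Matrix.SpecialLinearGroup.coe_pow, hx]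
    exact hXsq
  · intro c hc
    rw [hx] at hc
    -- evaluate at the basis vector `e (0, j)`, coordinate `e (1, j)`
    let j : Fin k := ⟨0, by omega⟩
    let w : Fin n → F := Pi.single (e (0, j)) 1
    have h1 := congrFun (hmv w) (e (1, j))
    rw [hc, Matrix.smul_mulVec, Matrix.one_mulVec] at h1
    simp only [Pi.smul_apply, Function.comp_apply, Equiv.symm_apply_apply, smul_eq_mul] at h1
    rw [s5954tin_M_mulVec] at h1
    have h10 : ((1 : ZMod 2) - 1, j) = ((0 : ZMod 2), j) := by simp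
    simp only [h10, Function.comp_apply] at h1
    have hne : e (1, j) ≠ e (0, j) := by
      intro h
      have := e.injective h
      have h2 : (1 : ZMod 2) = 0 := congrArg Prod.fst this
      exact absurd h2 (by decide)
    have hw1 : w (e (1, j)) = 0 := by
      show (Pi.single (e (0, j)) (1 : F) : Fin n → F) (e (1, j)) = 0
      rw [Pi.single_eq_of_ne hne]
    have hw0 : w (e (0, j)) = 1 := by
      show (Pi.single (e (0, j)) (1 : F) : Fin n → F) (e (0, j)) = 1
      rw [Pi.single_eq_same]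
    rw [hw1, hw0, mul_zero, mul_one] at h1
    have h2 : s5954tin_d 2 k z ((0 : ZMod 2), j) = z := by
      simp [s5954tin_d]
    rw [h2] at h1
    exact hz0 h1.symm

end Cfsg.Agent.Lib.Helper19.S5954
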