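import Mathlib
import Cfsg.Agent.Lib.Helper19.S5954.Defs
import Cfsg.Agent.Lib.Helper19.S5954.DefsTop
import Cfsg.Agent.Lib.helper3.S5953.Defs
import Cfsg.Agent.Lib.Lead.Unitary
import Cfsg.Agent.Lib.Helper10.S5954USTD
import Cfsg.Agent.Lib.Helper26.S5954C2

/-!
# S5954 row TON (helper26), CORE: `r` odd, `r ∤ q + 1`, necessity.
The conclusion of `top_odd_nec` from two statements of part O as hypotheses: NECDIM (the dimension of an invariant nondegenerate subspace is
`w0 + c t`, `w0 ≤ dim fixS`) and MAX (an isometry of order `r` of the standard space with `dim fixS = n % c`).  The count (part C) and the bridge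
from abstract isometries to elements of `SU` (determinant one since `gcd(r, q + 1) = 1`; not scalar) are proved here.
-/

set_option autoImplicit false
set_option linter.unusedVariables false

namespace Cfsg.Agent.Lib.Helper19.S5954

open Module Cfsg.Agent.Lib.Helper13.S5955
open Cfsg.Agent.Lib.helper3.S5953 (cc)

/-- the arithmetic end of TON -/
theorem s5954ton_arith (c n m j w0 t : ℕ) (hc : 0 < c) (hj : j < m) (hjn : c ∣ n - j) (hmn : m ≤ n)
    (hm : m = w0 + c * t) (hw : w0 ≤ n % c) : c ≤ m ∧ m % c ≤ n % c := by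
  have hnc : n % c < c := Nat.mod_lt n hc
  have hmc : m % c = w0 := by
    rw [hm, Nat.add_mul_mod_self_left, Nat.mod_eq_of_lt (by omega)]
  have h2 : m % c ≤ n % c := by rw [hmc]; exact hw
  refine ⟨?_, h2⟩
  by_contra hcon
  push Not at hcon
  rw [Nat.mod_eq_of_lt hcon] at h2
  obtain ⟨k, hk⟩ := hjn
  have hn : n = j + c * k := by omega
  have : n % c = j := by
    rw [hn, Nat.add_mul_mod_self_left, Nat.mod_eq_of_lt (by omega)]
  omega

/-- `cc i` is positive for `i > 0` -/
theorem s5954ton_cc_pos (i : ℕ) (hi : 0 < i) : 0 < cc i := by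
  unfold cc
  split_ifs <;> omega

variable {F : Type*} [Field F] [Fintype F] {p : ℕ} [Fact p.Prime] [CharP F p] {q : ℕ}

/-- `i ≠ 2` and `r` odd: `r` is prime to `q + 1` -/
theorem s5954ton_coprime (r : ℕ) [Fact r.Prime] (hr2 : 2 < r) (hi2 : orderOf (q : ZMod r) ≠ 2) :
    Nat.Coprime r (q + 1) := by
  have hrP : r.Prime := Fact.out
  rw [Nat.Prime.coprime_iff_not_dvd hrP]
  intro hd
  apply hi2
  have h1 : ((q + 1 : ℕ) : ZMod r) = 0 := (ZMod.natCast_eq_zero_iff _ r).mpr hd
  have h2 : (q : ZMod r) = -1 := by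
    push_cast at h1
    exact eq_neg_of_add_eq_zero_left h1
  rw [h2, orderOf_neg_one, if_neg]
  rw [ZMod.ringChar_zmod_n]
  omega

/-- the realisation of an abstract isometry of order `r` as a non-scalar element of `SU` -/
theorem s5954ton_real (hq : Fintype.card F = q ^ 2) (r : ℕ) (hcop : Nat.Coprime r (q + 1)) (n : ℕ)
    (σ : F →+* F) (hσ : ∀ a, σ a = a ^ q) (y : Module.End F (Fin n → F))
    (hy : HCtx r σ (stdH n σ) y) (hy1 : y ≠ 1) :
    ∃ x : Matrix.SpecialLinearGroup (Fin n) F, x ∈ Cfsg.SU n F q ∧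
      Matrix.toLin' (x : Matrix (Fin n) (Fin n) F) = y ∧
      ((x ^ r : Matrix.SpecialLinearGroup (Fin n) F) : Matrix (Fin n) (Fin n) F) =
        (1 : F) • (1 : Matrix (Fin n) (Fin n) F) ∧
      ∀ z : F, (x : Matrix (Fin n) (Fin n) F) ≠ z • (1 : Matrix (Fin n) (Fin n) F) := by
  classical
  have hstd : ∀ u v : Fin n → F, stdH n σ u v = Cfsg.hermForm n F q v u :=
    fun u v => Cfsg.Agent.Lib.helper6.HF.hB_apply σ hσ u v
  set X : Matrix (Fin n) (Fin n) F := LinearMap.toMatrix' y with hX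
  have hXy : Matrix.toLin' X = y := by rw [hX, Matrix.toLin'_toMatrix']
  have hpres : ∀ u v : Fin n → F,
      Cfsg.hermForm n F q (X.mulVec u) (X.mulVec v) = Cfsg.hermForm n F q u v := by
    intro u v
    have h1 := hy.pres v u
    rw [hstd, hstd] at h1
    rw [← Matrix.toLin'_apply, ← Matrix.toLin'_apply, hXy]
    exact h1
  have hXr : X ^ r = 1 := by
    have h1 : Matrix.toLin' (X ^ r) = Matrix.toLin' (1 : Matrix (Fin n) (Fin n) F) := by
      rw [Matrix.toLin'_pow, hXy, hy.pow, Matrix.toLin'_one]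
      rfl
    exact Matrix.toLin'.injective h1
  have hdet : X.det = 1 := by
    have h1 := (Cfsg.Agent.Lib.Lead.preserves_iff σ hσ X).mp hpres
    have h2 := congrArg Matrix.det h1
    rw [Matrix.det_mul, Matrix.det_transpose, Matrix.det_one] at h2
    have h3 : (X.map σ).det = σ X.det := by
      rw [RingHom.map_det]; rfl
    rw [h3, hσ, ← pow_succ'] at h2
    have h4 : X.det ^ r = 1 := by
      rw [← Matrix.det_pow, hXr, Matrix.det_one]
    have h5 := orderOf_dvd_of_pow_eq_one h2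
    have h6 := orderOf_dvd_of_pow_eq_one h4
    have h7 := Nat.dvd_gcd h6 h5
    rw [hcop.gcd_eq_one, Nat.dvd_one] at h7
    exact orderOf_eq_one_iff.mp h7
  obtain ⟨x, hx⟩ : ∃ x : Matrix.SpecialLinearGroup (Fin n) F,
      (x : Matrix (Fin n) (Fin n) F) = X := ⟨⟨X, hdet⟩, rfl⟩
  refine ⟨x, ?_, by rw [hx]; exact hXy, ?_, ?_⟩
  · apply Cfsg.Agent.Lib.helper3.S5953.mem_su_of_pres
    intro u v
    rw [hx, Matrix.toLin'_apply, Matrix.toLin'_apply]
    exact hpres u v
  · rw [one_smul, Matrix.SpecialLinearGroup.coe_pow, hx]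
    exact hXr
  · intro z hz
    have hz' : X = z • (1 : Matrix (Fin n) (Fin n) F) := by rw [← hx]; exact hz
    apply hy1
    have hyz : y = z • (1 : Module.End F (Fin n → F)) := by
      rw [← hXy, hz', map_smul, Matrix.toLin'_one]
      rfl
    -- a vector moved by `y`
    obtain ⟨v, hv⟩ : ∃ v, y v ≠ v := by
      by_contra hcon
      push Not at hcon
      exact hy1 (LinearMap.ext hcon)
    have hv0 : v ≠ 0 := by
      rintro rfl
      exact hv (map_zero y)
    obtain ⟨v', hv'⟩ : ∃ v', stdH n σ v v' ≠ 0 := by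
      by_contra hcon
      push Not at hcon
      exact hv0 (hy.nd v hcon)
    have h1 := hy.pres v v'
    rw [hyz] at h1
    simp only [LinearMap.smul_apply, Module.End.one_apply, LinearMap.map_smulₛₗ, map_smul, smul_eq_mul] at h1
    have h2 : σ z * z = 1 := by
      have : (σ z * z - 1) * stdH n σ v v' = 0 := by
        rw [sub_mul, one_mul, sub_eq_zero, mul_comm (σ z) z, mul_assoc]
        exact h1
      rcases mul_eq_zero.mp this with h | h
      · exact sub_eq_zero.mp h
      · exact absurd h hv'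
    have h3 : z ^ (q + 1) = 1 := by
      rw [pow_succ', ← hσ, mul_comm]; exact h2
    have h4 : z ^ r = 1 := by
      have h5 := hy.pow
      rw [hyz, smul_pow, one_pow] at h5
      have h6 := congrArg (fun f : Module.End F (Fin n → F) => f v) h5
      simp only [LinearMap.smul_apply, Module.End.one_apply] at h6
      have h7 : (z ^ r - 1) • v = 0 := by rw [sub_smul, one_smul, h6, sub_self]
      rcases smul_eq_zero.mp h7 with h | h
      · exact sub_eq_zero.mp h
      · exact absurd h hv0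
    have h5 := orderOf_dvd_of_pow_eq_one h3
    have h6 := orderOf_dvd_of_pow_eq_one h4
    have h7 := Nat.dvd_gcd h6 h5
    rw [hcop.gcd_eq_one, Nat.dvd_one] at h7
    rw [hyz, orderOf_eq_one_iff.mp h7, one_smul]

/-- TON core -/
theorem s5954ton_core (hq : Fintype.card F = q ^ 2) (r : ℕ) [Fact r.Prime] (hrp : r ≠ p) (hr2 : 2 < r)
    (i : ℕ) (hi : i = orderOf (q : ZMod r)) (hi2 : i ≠ 2) (n m : ℕ) (hn : 3 ≤ n) (hm : 1 ≤ m)
    (hmn : 2 * m < n)
    (hnec : ∀ (σ : F →+* F) (y : Module.End F (Fin n → F)), HCtx r σ (stdH n σ) y →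
      ∀ W : Submodule F (Fin n → F), SInv y W → HND (stdH n σ) W →
        ∃ w0 t : ℕ, finrank F W = w0 + cc i * t ∧ w0 ≤ finrank F (fixS y))
    (hmax : cc i ≤ n → ∀ σ : F →+* F, (∀ a, σ a = a ^ q) →
      ∃ y : Module.End F (Fin n → F), HCtx r σ (stdH n σ) y ∧ y ≠ 1 ∧
        finrank F (fixS y) = n % cc i)
    (hrΩ : r ∣ Nat.card (NDm n m q F))
    (h : ∀ x : Matrix.SpecialLinearGroup (Fin n) F, x ∈ Cfsg.SU n F q →
      (∃ z : F, ((x ^ r : Matrix.SpecialLinearGroup (Fin n) F) : Matrix (Fin n) (Fin n) F) =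
        z • (1 : Matrix (Fin n) (Fin n) F)) →
      (∀ z : F, (x : Matrix (Fin n) (Fin n) F) ≠ z • (1 : Matrix (Fin n) (Fin n) F)) →
      Fixes n m q (x : Matrix (Fin n) (Fin n) F)) :
    cc i ≤ m ∧ m % cc i ≤ n % cc i := by
  classical
  have hrP : r.Prime := Fact.out
  obtain ⟨σ, hσ⟩ := Cfsg.Agent.Lib.Lead.exists_frob hq
  have hσσ := Cfsg.Agent.Lib.Lead.frob_frob hq σ hσ
  have hstd : ∀ u v : Fin n → F, stdH n σ u v = Cfsg.hermForm n F q v u :=
    fun u v => Cfsg.Agent.Lib.helper6.HF.hB_apply σ hσ u v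
  -- the count
  obtain ⟨j, hjm, hjd⟩ := nd_count_prime hq n m (by omega) r hrp hr2 hrΩ i hi
  have hq0 := s5954c2_q_ne_zero hq r hrp
  have hipos : 0 < i := by
    rw [hi, orderOf_pos_iff]
    exact isOfFinOrder_iff_pow_eq_one.mpr ⟨r - 1, by have := hrP.two_le; omega,
      ZMod.pow_card_sub_one_eq_one hq0⟩
  have hcpos : 0 < cc i := s5954ton_cc_pos i hipos
  have hcn : cc i ≤ n := by
    have h1 : 0 < n - j := by omega
    have := Nat.le_of_dvd h1 hjd
    omega
  have hcop : Nat.Coprime r (q + 1) := s5954ton_coprime r hr2 (by rw [← hi]; exact hi2)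
  -- the bad element
  obtain ⟨y, hy, hy1, hfix⟩ := hmax hcn σ hσ
  obtain ⟨x, hxSU, hxy, hxr, hxns⟩ := s5954ton_real hq r hcop n σ hσ y hy hy1
  obtain ⟨W, hWdim, hWnd, hWinv⟩ := h x hxSU ⟨1, hxr⟩ hxns
  have hWinv' : SInv y W := by
    intro v hv
    apply hWinv
    rw [hxy]
    exact Submodule.mem_map_of_mem hv
  have hWnd' : HND (stdH n σ) W := by
    intro u hu hz
    by_contra hne
    obtain ⟨v, hv, hv0⟩ := hWnd u hu hne
    apply hv0
    have h1 := hz v hv
    rw [hstd] at h1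
    rw [Cfsg.Agent.Lib.Lead.herm_symm σ hσ hσσ, h1, map_zero]
  obtain ⟨w0, t, hWd, hw0⟩ := hnec σ y hy W hWinv' hWnd'
  rw [hWdim] at hWd
  rw [hfix] at hw0
  exact s5954ton_arith (cc i) n m j w0 t hcpos hjm hjd (by omega) hWd hw0

end Cfsg.Agent.Lib.Helper19.S5954
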