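import Mathlib
import Cfsg.Agent.Lib.Helper19.S5954.Defs
import Cfsg.Agent.Lib.Helper19.S5954.DefsTop
import Cfsg.Agent.Lib.Helper19.S5954.X
import Cfsg.Agent.Lib.Helper19.S5954OBR
import Cfsg.Agent.Lib.helper3.S5953.Defs
import Cfsg.Agent.Lib.Helper26.S5954TONcore
import Cfsg.Agent.Lib.Helper26.S5953N10

/-!
# S5954 row TON (helper26), CORE in helper3's concrete context: the conclusion of `top_odd_nec` from the statement of ONECDIM (`o_nec_dim`)
as the only hypothesis (MAX = S5953 N10 `maxel`, the count = part C, the bridges = OBR / OFIX / `s5954ton_real`).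
-/

set_option autoImplicit false
set_option linter.unusedVariables false

namespace Cfsg.Agent.Lib.Helper19.S5954

open Polynomial Module Cfsg.Agent.Lib.helper3
open Cfsg.Agent.Lib.helper3.S5953 (cc bb hermI fixS cycS HInv)

variable {F : Type*} [Field F] [Fintype F] {p : ℕ} [Fact p.Prime] [CharP F p] {q : ℕ}

theorem s5954ton_core2 (hq : Fintype.card F = q ^ 2) (r : ℕ) [Fact r.Prime] (hrp : r ≠ p) (hr2 : 2 < r)
    (i : ℕ) (hi : i = orderOf (q : ZMod r)) (hi2 : i ≠ 2) (n m : ℕ) (hn : 3 ≤ n) (hm : 1 ≤ m)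
    (hmn : 2 * m < n)
    (hnec : ∀ y : Module.End F (Fin n → F), S5953.HCtx q r 1 y →
      ∀ W : Submodule F (Fin n → F), HInv y W → S5953.HND q W →
        ∃ w0 t : ℕ, finrank F W = w0 + cc (orderOf (q : ZMod r)) * t ∧ w0 ≤ finrank F (fixS y))
    (hrΩ : r ∣ Nat.card (NDm n m q F)) (h : AllFix F n m q r) :
    cc i ≤ m ∧ m % cc i ≤ n % cc i := by
  classical
  have hrP : r.Prime := Fact.out
  obtain ⟨σ, hσ, hσσ, hne⟩ := x_frob hq
  -- the count
  obtain ⟨j, hjm, hjd⟩ := nd_count_prime hq n m (by omega) r hrp hr2 hrΩ i hi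
  have hq0 := s5954c2_q_ne_zero hq r hrp
  have hipos : 0 < i := by
    rw [hi, orderOf_pos_iff]
    exact isOfFinOrder_iff_pow_eq_one.mpr ⟨r - 1, by have := hrP.two_le; omega,
      ZMod.pow_card_sub_one_eq_one hq0⟩
  have hcpos : 0 < cc i := s5954ton_cc_pos i hipos
  have hcn : cc i ≤ n := by
    have h1 : 0 < n - j := by omega
    have := Nat.le_of_dvd h1 hjd
    omega
  have hcop : Nat.Coprime r (q + 1) := s5954ton_coprime r hr2 (by rw [← hi]; exact hi2)
  -- the bad element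
  obtain ⟨y, hy, hy1, hfix⟩ := S5953.maxel hq r hrp (ne_of_gt hr2) n (cc i) (by rw [hi]) hcn
  have hy' : HCtx r σ (stdH n σ) y := (o_bridge σ hσ hσσ hne n r y).1.mpr hy
  obtain ⟨x, hxSU, hxy, hxr, hxns⟩ := s5954ton_real hq r hcop n σ hσ y hy' hy1
  have hfx := h x hxSU ⟨1, hxr⟩ hxns
  obtain ⟨W, hWinv, hWnd, hWdim⟩ := (o_fixes n m q (x : Matrix (Fin n) (Fin n) F)).mp hfx
  rw [hxy] at hWinv
  obtain ⟨w0, t, hWd, hw0⟩ := hnec y hy W hWinv hWnd
  rw [hWdim, ← hi] at hWd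
  rw [hfix] at hw0
  exact s5954ton_arith (cc i) n m j w0 t hcpos hjm hjd (by omega) hWd hw0

end Cfsg.Agent.Lib.Helper19.S5954
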