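import Mathlib
import Cfsg.Agent.Lib.Helper19.S5954.DefsTop
import Cfsg.Agent.Lib.helper3.S5953.Defs
import Cfsg.Agent.Lib.Helper26.S5954TONcore2
import Cfsg.Agent.Lib.Helper27.S5954ONECDIM

/-!
# S5954 row TON (helper26): `top_odd_nec`, VERBATIM (= `s5954ton_core2` + helper27's ONECDIM `o_nec_dim`).
-/

set_option autoImplicit false
set_option linter.unusedVariables false
set_option linter.unusedSectionVars false

namespace Cfsg.Agent.Lib.Helper19.S5954

open Cfsg.Agent.Lib.helper3.S5953 (cc)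

variable {F : Type*} [Field F] [Fintype F] {p : ℕ} [Fact p.Prime] [CharP F p] {q : ℕ}

/-- TON [M] (r odd, `r ∤ q + 1`, necessity; parts O + C). -/
theorem top_odd_nec (hq : Fintype.card F = q ^ 2) (r : ℕ) [Fact r.Prime] (hrp : r ≠ p) (hr2 : 2 < r)
    (i : ℕ) (hi : i = orderOf (q : ZMod r)) (hi2 : i ≠ 2) (n m : ℕ) (hn : 3 ≤ n) (hm : 1 ≤ m) (hmn : 2 * m < n)
    (hrΩ : r ∣ Nat.card (NDm n m q F)) (h : AllFix F n m q r) : cc i ≤ m ∧ m % cc i ≤ n % cc i :=
  s5954ton_core2 hq r hrp hr2 i hi hi2 n m hn hm hmn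
    (fun y hy W hW hWnd => o_nec_dim hq hrp (ne_of_gt hr2) hy W hW hWnd) hrΩ h

end Cfsg.Agent.Lib.Helper19.S5954
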