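import Mathlib
import Cfsg.Agent.Lib.Helper19.S5954.Defs

set_option autoImplicit false
set_option linter.unusedVariables false
set_option linter.unusedSectionVars false

namespace Cfsg.Agent.Lib.Helper19.S5954

open Polynomial Module Cfsg.Agent.Lib.Helper13.S5955 Cfsg.Agent.Lib.helper14.JTa Cfsg.Agent.Lib.Helper11.S5956U

variable {F : Type*} [Field F] {V : Type*} [AddCommGroup V] [Module F V]

theorem s5954uadj_mul_inv {r : ℕ} (hr : 0 < r) {x : Module.End F V} (hx : x ^ r = 1) :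
    x * x ^ (r - 1) = 1 := by
  rw [← pow_succ', Nat.sub_add_cancel hr, hx]

theorem s5954uadj_one {r : ℕ} (hr : 0 < r) {σ : F →+* F} {B : V →ₛₗ[σ] V →ₗ[F] F} {x : Module.End F V}
    (h : HCtx r σ B x) (u v : V) : B (x u) v = B u ((x ^ (r - 1)) v) := by
  have h1 : x * x ^ (r - 1) = 1 := s5954uadj_mul_inv hr h.pow
  have h2 : v = x ((x ^ (r - 1)) v) := by
    rw [← Module.End.mul_apply, h1, Module.End.one_apply]
  conv_lhs => rw [h2]
  exact h.pres _ _

theorem s5954uadj_step {r : ℕ} (hr : 0 < r) {σ : F →+* F} {B : V →ₛₗ[σ] V →ₗ[F] F} {x : Module.End F V}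
    (h : HCtx r σ B x) (u v : V) : B ((x - 1) u) v = - B u ((x - 1) ((x ^ (r - 1)) v)) := by
  have h1 : x * x ^ (r - 1) = 1 := s5954uadj_mul_inv hr h.pow
  have h3 : (x - 1) ((x ^ (r - 1)) v) = v - (x ^ (r - 1)) v := by
    rw [← Module.End.mul_apply, sub_mul, h1, one_mul]; simp
  rw [h3, LinearMap.sub_apply, map_sub, LinearMap.sub_apply, s5954uadj_one hr h]
  simp

/-- UADJ -/
theorem h_adj_pow {r : ℕ} (hr : 0 < r) {σ : F →+* F} {B : V →ₛₗ[σ] V →ₗ[F] F} {x : Module.End F V}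
    (h : HCtx r σ B x) (a : ℕ) (u v : V) :
    B (((x - 1) ^ a) u) v = (-1) ^ a * B u (((x - 1) ^ a) (((x ^ (r - 1)) ^ a) v)) := by
  induction a generalizing u v with
  | zero => simp
  | succ a ih =>
    have hc : Commute (x - 1) (x ^ (r - 1)) :=
      ((Commute.refl x).sub_left (Commute.one_left x)).pow_right _
    have e1 : ((x - 1) ^ (a + 1)) u = ((x - 1) ^ a) ((x - 1) u) := by
      rw [pow_succ, Module.End.mul_apply]
    rw [e1, ih, s5954uadj_step hr h]
    have e2 : (x - 1) ((x ^ (r - 1)) (((x - 1) ^ a) (((x ^ (r - 1)) ^ a) v)))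
        = ((x - 1) ^ (a + 1)) (((x ^ (r - 1)) ^ (a + 1)) v) := by
      simp only [← Module.End.mul_apply]
      congr 1
      have hc2 : Commute (x ^ (r - 1)) ((x - 1) ^ a) := (hc.pow_left a).symm
      calc (x - 1) * (x ^ (r - 1) * ((x - 1) ^ a * (x ^ (r - 1)) ^ a))
          = (x - 1) * ((x ^ (r - 1) * (x - 1) ^ a) * (x ^ (r - 1)) ^ a) := by rw [mul_assoc]
        _ = (x - 1) * (((x - 1) ^ a * x ^ (r - 1)) * (x ^ (r - 1)) ^ a) := by rw [hc2.eq]
        _ = ((x - 1) * (x - 1) ^ a) * (x ^ (r - 1) * (x ^ (r - 1)) ^ a) := by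
            simp only [mul_assoc]
        _ = (x - 1) ^ (a + 1) * (x ^ (r - 1)) ^ (a + 1) := by rw [← pow_succ', ← pow_succ']
    rw [e2, pow_succ]
    ring

end Cfsg.Agent.Lib.Helper19.S5954
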