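import Mathlib

set_option autoImplicit false
set_option linter.unusedVariables false
set_option linter.unusedSectionVars false
set_option linter.style.haveILetI false

namespace Cfsg.Agent.Lib.helper8.SFO

open Matrix Polynomial

/-- LAM [S]: an element of order `r` in `F^*`. -/
theorem exists_lambda {F : Type*} [Field F] [Fintype F] {q : ℕ} (hq : Fintype.card F = q) (r : ℕ)
    [Fact r.Prime] (h : r ∣ q - 1) : ∃ l : F, l ^ r = 1 ∧ l ≠ 1 := by
  classical
  have hcard : Fintype.card Fˣ = q - 1 := by
    rw [Fintype.card_units, hq]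
  have h' : r ∣ Fintype.card Fˣ := by rw [hcard]; exact h
  obtain ⟨x, hx⟩ := exists_prime_orderOf_dvd_card r h'
  refine ⟨(x : F), ?_, ?_⟩
  · have : x ^ r = 1 := by rw [← hx]; exact pow_orderOf_eq_one x
    have h2 : ((x ^ r : Fˣ) : F) = 1 := by rw [this]; rfl
    simpa using h2
  · intro h1
    have : x = 1 := Units.ext h1
    rw [this, orderOf_one] at hx
    exact (Fact.out : r.Prime).one_lt.ne hx

end Cfsg.Agent.Lib.helper8.SFO
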