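import Mathlib
import Cfsg.Agent.Lib.Helper29.S5981.DefsC
import Cfsg.Agent.Lib.Helper26.SFOLAM
import Cfsg.Agent.Lib.Helper26.SFONTHROOT

set_option autoImplicit false
set_option linter.unusedVariables false
set_option linter.unusedSectionVars false

namespace Cfsg.Agent.Lib.Helper29.S5981

open scoped MatrixGroups Matrix

variable {F : Type*} [Field F]

variable [Fintype F]

/-- C1. -/
theorem diagBad_val {q : ℕ} (hq : Fintype.card F = q) (n : ℕ) (hn : 3 ≤ n) (r : ℕ) [Fact r.Prime] (hr2 : r ≠ 2)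
    (h1 : r ∣ q - 1) (hv : padicValNat r n < padicValNat r (q - 1)) : DiagBad F n r := by
  classical
  have hr : r.Prime := Fact.out
  obtain ⟨ω, hω, hω1⟩ := Cfsg.Agent.Lib.helper8.SFO.exists_lambda hq r h1
  have hord : orderOf ω = r := orderOf_eq_prime hω hω1
  have hω0 : ω ≠ 0 := by
    intro h0; rw [h0, zero_pow hr.ne_zero] at hω; exact zero_ne_one hω
  have hω2 : ω ^ 2 ≠ 1 := by
    intro h2
    have : r ∣ 2 := by rw [← hord]; exact orderOf_dvd_of_pow_eq_one h2
    exact hr2 ((Nat.prime_dvd_prime_iff_eq hr Nat.prime_two).1 this)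
  obtain ⟨μ, hμ0, hμ⟩ := Cfsg.Agent.Lib.helper8.SFO.exists_nth_root hq n r (by omega) hv ω⁻¹
    (by rw [inv_pow, hω, inv_one])
  set j0 : Fin n := ⟨0, by omega⟩ with hj0
  set d : Fin n → F := fun j => μ * (if j = j0 then ω else 1) with hd
  have hd0 : d j0 = μ * ω := by simp [hd]
  have hd1 : ∀ j, j ≠ j0 → d j = μ := fun j hj => by simp [hd, hj]
  refine ⟨d, ?_, ?_, ⟨μ ^ r, ?_⟩, ?_, ?_⟩
  · intro j
    by_cases hj : j = j0
    · rw [hj, hd0]; exact mul_ne_zero hμ0 hω0
    · rw [hd1 j hj]; exact hμ0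
  · simp only [hd]
    rw [Finset.prod_mul_distrib, Finset.prod_const, Finset.card_univ, Fintype.card_fin, hμ,
      Finset.prod_ite_eq' Finset.univ j0 (fun _ => ω)]
    simp [hω0]
  · intro j
    by_cases hj : j = j0
    · rw [hj, hd0, mul_pow, hω, mul_one]
    · rw [hd1 j hj]
  · refine ⟨j0, ⟨1, by omega⟩, ?_⟩
    rw [hd0, hd1 ⟨1, by omega⟩ (by intro h; have := congrArg Fin.val h; simp [hj0] at this)]
    intro h
    apply hω1
    have : μ * ω = μ * 1 := by rw [h, mul_one]
    exact mul_left_cancel₀ hμ0 this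
  · rintro ⟨c, σ, hσ⟩
    have hμ2 : μ * μ ≠ 0 := mul_ne_zero hμ0 hμ0
    have hc : c = μ * μ := by
      set j1 : Fin n := ⟨1, by omega⟩ with hj1
      set j2 : Fin n := ⟨2, by omega⟩ with hj2
      have hj1ne : j1 ≠ j0 := by intro h; have := congrArg Fin.val h; simp [hj0, hj1] at this
      have hj2ne : j2 ≠ j0 := by intro h; have := congrArg Fin.val h; simp [hj0, hj2] at this
      have hj12 : j1 ≠ j2 := by intro h; have := congrArg Fin.val h; simp [hj1, hj2] at this
      by_cases hs1 : σ j1 = j0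
      · have hs2 : σ j2 ≠ j0 := by
          intro hs2; exact hj12 (σ.injective (hs1.trans hs2.symm))
        rw [← hσ j2, hd1 j2 hj2ne, hd1 _ hs2]
      · rw [← hσ j1, hd1 j1 hj1ne, hd1 _ hs1]
    have h0 := hσ j0
    rw [hc, hd0] at h0
    by_cases hk : σ j0 = j0
    · rw [hk, hd0] at h0
      apply hω2
      have : (μ * μ) * ω ^ 2 = (μ * μ) * 1 := by linear_combination h0
      exact mul_left_cancel₀ hμ2 this
    · rw [hd1 _ hk] at h0
      apply hω1
      have : (μ * μ) * ω = (μ * μ) * 1 := by linear_combination h0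
      exact mul_left_cancel₀ hμ2 this

end Cfsg.Agent.Lib.Helper29.S5981
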