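import Mathlib
import Cfsg.Agent.Lib.Helper29.S5981.DefsC
import Cfsg.Agent.Lib.Helper26.SFOLAM

set_option autoImplicit false
set_option linter.unusedVariables false
set_option linter.unusedSectionVars false

namespace Cfsg.Agent.Lib.Helper29.S5981

open scoped MatrixGroups Matrix

variable {F : Type*} [Field F]

/-- product over `Fin n` of a function of the value which is `1` from `3` on. -/
theorem s5981c2_prod3 {n : ℕ} (hn : 3 ≤ n) (e : ℕ → F) (he : ∀ i, 3 ≤ i → e i = 1) :
    ∏ j : Fin n, e j.val = e 0 * e 1 * e 2 := by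
  rw [Fin.prod_univ_eq_prod_range (fun i => e i) n]
  obtain ⟨k, rfl⟩ : ∃ k, n = 3 + k := ⟨n - 3, by omega⟩
  rw [Finset.prod_range_add, Finset.prod_range_succ, Finset.prod_range_succ, Finset.prod_range_one]
  rw [Finset.prod_eq_one (fun x _ => he (3 + x) (by omega)), mul_one]

/-- with `n ≥ 6`: either some index `≥ 3` goes to an index `≥ 3`, or both `0` and `2` are images of indices `≥ 3`. -/
theorem s5981c2_pigeon {n : ℕ} (hn : 6 ≤ n) (σ : Equiv.Perm (Fin n)) :
    (∃ j : Fin n, 3 ≤ j.val ∧ 3 ≤ (σ j).val) ∨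
      ((∃ j : Fin n, 3 ≤ j.val ∧ (σ j).val = 0) ∧ ∃ j : Fin n, 3 ≤ j.val ∧ (σ j).val = 2) := by
  by_cases hall : ∃ j : Fin n, 3 ≤ j.val ∧ 3 ≤ (σ j).val
  · exact Or.inl hall
  right
  push Not at hall
  let f : Fin 3 → Fin 3 := fun k => ⟨(σ ⟨3 + k.val, by omega⟩).val, hall _ (by simp)⟩
  have hinj : Function.Injective f := by
    intro x y hf
    have h1 : (σ ⟨3 + x.val, by omega⟩).val = (σ ⟨3 + y.val, by omega⟩).val := by
      have := congrArg Fin.val hf; exact this
    have h2 := σ.injective (Fin.ext h1)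
    have h3 := congrArg Fin.val h2
    simp only at h3
    exact Fin.ext (by omega)
  have hsurj : Function.Surjective f := Finite.injective_iff_surjective.1 hinj
  obtain ⟨k0, hk0⟩ := hsurj 0
  obtain ⟨k2, hk2⟩ := hsurj 2
  refine ⟨⟨⟨3 + k0.val, by omega⟩, by simp, ?_⟩, ⟨⟨3 + k2.val, by omega⟩, by simp, ?_⟩⟩
  · have := congrArg Fin.val hk0; exact this
  · have := congrArg Fin.val hk2; exact this

variable [Fintype F]

/-- C2. -/
theorem diagBad_five {q : ℕ} (hq : Fintype.card F = q) (n : ℕ) (hn : 6 ≤ n) (r : ℕ) [Fact r.Prime] (hr5 : 5 ≤ r)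
    (h1 : r ∣ q - 1) : DiagBad F n r := by
  classical
  have hr : r.Prime := Fact.out
  obtain ⟨ω, hω, hω1⟩ := Cfsg.Agent.Lib.helper8.SFO.exists_lambda hq r h1
  have hord : orderOf ω = r := orderOf_eq_prime hω hω1
  have hω0 : ω ≠ 0 := by
    intro h0; rw [h0, zero_pow hr.ne_zero] at hω; exact zero_ne_one hω
  have hω2 : ω ^ 2 ≠ 1 := by
    intro h2
    have : r ∣ 2 := by rw [← hord]; exact orderOf_dvd_of_pow_eq_one h2
    have := Nat.le_of_dvd (by norm_num) this
    omega
  have hω3 : ω ^ 3 ≠ 1 := by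
    intro h3
    have : r ∣ 3 := by rw [← hord]; exact orderOf_dvd_of_pow_eq_one h3
    have := Nat.le_of_dvd (by norm_num) this
    omega
  have hω20 : ω ^ 2 ≠ 0 := pow_ne_zero _ hω0
  set e : ℕ → F := fun i => if i < 2 then ω else if i = 2 then (ω ^ 2)⁻¹ else 1 with he
  have he3 : ∀ i, 3 ≤ i → e i = 1 := fun i hi => by
    simp only [he]; rw [if_neg (by omega), if_neg (by omega)]
  have helt : ∀ i, i < 2 → e i = ω := fun i hi => by simp only [he]; rw [if_pos hi]
  have he2 : e 2 = (ω ^ 2)⁻¹ := by simp [he]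
  have hvals : ∀ i, e i = ω ∨ e i = (ω ^ 2)⁻¹ ∨ e i = 1 := by
    intro i
    by_cases h2 : i < 2
    · exact Or.inl (helt i h2)
    · by_cases h3 : i = 2
      · right; left; rw [h3]; exact he2
      · right; right; exact he3 i (by omega)
  refine ⟨fun j => e j.val, ?_, ?_, ⟨1, ?_⟩, ?_, ?_⟩
  · intro j
    beta_reduce
    rcases hvals j.val with h | h | h <;> rw [h]
    · exact hω0
    · exact inv_ne_zero hω20
    · exact one_ne_zero
  · rw [s5981c2_prod3 (by omega) e he3, helt 0 (by omega), helt 1 (by omega), he2]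
    rw [← sq]; exact mul_inv_cancel₀ hω20
  · intro j
    beta_reduce
    rcases hvals j.val with h | h | h <;> rw [h]
    · exact hω
    · rw [inv_pow, ← pow_mul, mul_comm, pow_mul, hω, one_pow, inv_one]
    · exact one_pow _
  · refine ⟨⟨0, by omega⟩, ⟨3, by omega⟩, ?_⟩
    beta_reduce
    rw [helt 0 (by omega), he3 3 (by omega)]; exact hω1
  · rintro ⟨c, σ, hσ'⟩
    have hσ : ∀ j, e j.val * e (σ j).val = c := hσ'
    have hc : c = 1 := by
      rcases s5981c2_pigeon hn σ with ⟨j, hj, hσj⟩ | ⟨⟨j, hj, hσj⟩, ⟨k, hk, hσk⟩⟩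
      · rw [← hσ j, he3 _ hj, he3 _ hσj, mul_one]
      · exfalso
        have e1 := hσ j
        have e2 := hσ k
        rw [he3 _ hj, hσj, helt 0 (by omega), one_mul] at e1
        rw [he3 _ hk, hσk, he2, one_mul] at e2
        apply hω3
        have : ω = (ω ^ 2)⁻¹ := e1.trans e2.symm
        calc ω ^ 3 = ω * ω ^ 2 := by ring
          _ = (ω ^ 2)⁻¹ * ω ^ 2 := by rw [← this]
          _ = 1 := inv_mul_cancel₀ hω20
    have h0 := hσ ⟨0, by omega⟩
    rw [hc, helt 0 (by omega)] at h0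
    rcases hvals (σ ⟨0, by omega⟩).val with h | h | h <;> rw [h] at h0
    · exact hω2 (by rw [sq]; exact h0)
    · apply hω1
      have : ω * (ω ^ 2)⁻¹ * ω ^ 2 = ω := by rw [mul_assoc, inv_mul_cancel₀ hω20, mul_one]
      rw [h0, one_mul, sq] at this
      have h3 : ω * ω = ω * 1 := by rw [mul_one]; exact this
      exact mul_left_cancel₀ hω0 h3
    · rw [mul_one] at h0; exact hω1 h0

end Cfsg.Agent.Lib.Helper29.S5981
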