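import Mathlib
import Cfsg.Agent.Lib.Helper29.S5981.DefsC
import Cfsg.Agent.Lib.Helper26.SFOLAM
import Cfsg.Agent.Lib.Helper26.S5981C2

set_option autoImplicit false
set_option linter.unusedVariables false
set_option linter.unusedSectionVars false

namespace Cfsg.Agent.Lib.Helper29.S5981

open scoped MatrixGroups Matrix

variable {F : Type*} [Field F]

/-- pigeonhole: a permutation of `Fin n` cannot map `3, 4, 5, 6` into `{0, 1, 2}`. -/
theorem s5981c3_pigeon {n : ℕ} (hn : 7 ≤ n) (σ : Equiv.Perm (Fin n)) :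
    ∃ j : Fin n, 3 ≤ j.val ∧ 3 ≤ (σ j).val := by
  by_contra hall
  push Not at hall
  let f : Fin 4 → Fin 3 := fun k => ⟨(σ ⟨3 + k.val, by omega⟩).val, hall _ (by simp)⟩
  obtain ⟨x, y, hxy, hf⟩ := Fintype.exists_ne_map_eq_of_card_lt f (by simp)
  apply hxy
  have h1 : (σ ⟨3 + x.val, by omega⟩).val = (σ ⟨3 + y.val, by omega⟩).val := by
    have := congrArg Fin.val hf; exact this
  have h2 := σ.injective (Fin.ext h1)
  have h3 := congrArg Fin.val h2
  simp only at h3
  exact Fin.ext (by omega)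

variable [Fintype F]

/-- C3. -/
theorem diagBad_three {q : ℕ} (hq : Fintype.card F = q) (n : ℕ) (hn : 7 ≤ n)
    (h1 : 3 ∣ q - 1) : DiagBad F n 3 := by
  classical
  obtain ⟨ω, hω, hω1⟩ := Cfsg.Agent.Lib.helper8.SFO.exists_lambda hq 3 h1
  have hω0 : ω ≠ 0 := by
    intro h0; rw [h0] at hω; simp at hω
  set e : ℕ → F := fun i => if i < 3 then ω else 1 with he
  have he3 : ∀ i, 3 ≤ i → e i = 1 := fun i hi => by simp only [he]; rw [if_neg (by omega)]
  have helt : ∀ i, i < 3 → e i = ω := fun i hi => by simp only [he]; rw [if_pos hi]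
  refine ⟨fun j => e j.val, ?_, ?_, ⟨1, ?_⟩, ?_, ?_⟩
  · intro j
    beta_reduce
    by_cases hj : j.val < 3
    · rw [helt _ hj]; exact hω0
    · rw [he3 _ (by omega)]; exact one_ne_zero
  · rw [s5981c2_prod3 (by omega) e he3, helt 0 (by omega), helt 1 (by omega), helt 2 (by omega)]
    rw [← hω]; ring
  · intro j
    beta_reduce
    by_cases hj : j.val < 3
    · rw [helt _ hj]; exact hω
    · rw [he3 _ (by omega)]; exact one_pow _
  · refine ⟨⟨0, by omega⟩, ⟨3, by omega⟩, ?_⟩
    beta_reduce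
    rw [helt 0 (by omega), he3 3 (by omega)]; exact hω1
  · rintro ⟨c, σ, hσ'⟩
    have hσ : ∀ j, e j.val * e (σ j).val = c := hσ'
    obtain ⟨j, hj, hσj⟩ := s5981c3_pigeon hn σ
    have hc : c = 1 := by
      rw [← hσ j, he3 _ hj, he3 _ hσj, mul_one]
    have h0 := hσ ⟨0, by omega⟩
    rw [hc, helt 0 (by omega)] at h0
    by_cases hk : (σ ⟨0, by omega⟩).val < 3
    · rw [helt _ hk] at h0
      apply hω1
      calc ω = ω * (ω * ω) * (ω * ω) := by rw [h0, mul_one, mul_one]
        _ = ω ^ 3 * (ω * ω) := by ring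
        _ = 1 := by rw [hω, h0, mul_one]
    · rw [he3 _ (by omega), mul_one] at h0
      exact hω1 h0

end Cfsg.Agent.Lib.Helper29.S5981
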