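import Mathlib
import Cfsg.Agent.Lib.Helper29.S5981.DefsD

set_option autoImplicit false
set_option linter.unusedVariables false
set_option linter.unusedSectionVars false

namespace Cfsg.Agent.Lib.Helper29.S5981

open scoped MatrixGroups Matrix

variable {F : Type*} [Field F]

theorem s5981d3_mem_iso {κ : Type} [Fintype κ] [DecidableEq κ] (Q' : (κ → F) → F) (g : GL κ F) :
    g ∈ Cfsg.isometryGroup F Q' ↔ ∀ u, Q' ((g : Matrix κ κ F) *ᵥ u) = Q' u := by
  constructor
  · intro h u; exact h u u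
  · intro h u v; exact h u

/-- transport of `GL` along a linear equivalence. -/
noncomputable def s5981d3_conj {ι κ : Type} [Fintype ι] [DecidableEq ι] [Fintype κ] [DecidableEq κ]
    (Φ : (κ → F) ≃ₗ[F] (ι → F)) : GL ι F ≃* GL κ F :=
  Matrix.GeneralLinearGroup.toLin.trans
    ((LinearMap.GeneralLinearGroup.congrLinearEquiv Φ.symm).trans Matrix.GeneralLinearGroup.toLin.symm)

theorem s5981d3_conj_mulVec {ι κ : Type} [Fintype ι] [DecidableEq ι] [Fintype κ] [DecidableEq κ]
    (Φ : (κ → F) ≃ₗ[F] (ι → F)) (g : GL ι F) (v : κ → F) :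
    ((s5981d3_conj Φ g : GL κ F) : Matrix κ κ F) *ᵥ v = Φ.symm ((g : Matrix ι ι F) *ᵥ (Φ v)) := by
  have h1 : Matrix.GeneralLinearGroup.toLin (s5981d3_conj Φ g) =
      LinearMap.GeneralLinearGroup.congrLinearEquiv Φ.symm (Matrix.GeneralLinearGroup.toLin g) := by
    simp [s5981d3_conj]
  have h2 := congrArg (fun G : LinearMap.GeneralLinearGroup F (κ → F) => (G : (κ → F) →ₗ[F] (κ → F)) v) h1
  simp only [Matrix.GeneralLinearGroup.coe_toLin, Matrix.mulVecLin_apply] at h2
  rw [h2]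
  simp [LinearMap.GeneralLinearGroup.congrLinearEquiv_apply]

variable [Fintype F]

/-- D3 (first statement). -/
theorem iso_card_congr {ι κ : Type} [Fintype ι] [DecidableEq ι] [Fintype κ] [DecidableEq κ]
    (Q : (ι → F) → F) (Q' : (κ → F) → F) (Φ : (κ → F) ≃ₗ[F] (ι → F)) (h : ∀ v, Q (Φ v) = Q' v) :
    Nat.card (Cfsg.isometryGroup F Q) = Nat.card (Cfsg.isometryGroup F Q') := by
  apply Nat.card_congr
  refine Equiv.subtypeEquiv (s5981d3_conj Φ).toEquiv (fun g => ?_)
  change g ∈ Cfsg.isometryGroup F Q ↔ (s5981d3_conj Φ g) ∈ Cfsg.isometryGroup F Q'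
  rw [s5981d3_mem_iso, s5981d3_mem_iso]
  constructor
  · intro hg u
    rw [s5981d3_conj_mulVec, ← h, LinearEquiv.apply_symm_apply, hg, h]
  · intro hg u
    have := hg (Φ.symm u)
    rw [s5981d3_conj_mulVec, ← h, LinearEquiv.apply_symm_apply, LinearEquiv.apply_symm_apply, ← h,
      LinearEquiv.apply_symm_apply] at this
    exact this

/-- D3 (second statement). -/
theorem iso_smul_eq {κ : Type} [Fintype κ] [DecidableEq κ] (Q' : (κ → F) → F) (c : F) (hc : c ≠ 0) :
    Cfsg.isometryGroup F (fun v => c * Q' v) = Cfsg.isometryGroup F Q' := by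
  ext g
  rw [s5981d3_mem_iso, s5981d3_mem_iso]
  constructor
  · intro hg u; exact mul_left_cancel₀ hc (hg u)
  · intro hg u; show c * Q' _ = c * Q' u; rw [hg u]

end Cfsg.Agent.Lib.Helper29.S5981
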