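import Mathlib
import Cfsg.Agent.Lib.Helper29.S5981.DefsD

set_option autoImplicit false
set_option linter.unusedVariables false
set_option linter.unusedSectionVars false

namespace Cfsg.Agent.Lib.Helper29.S5981

open scoped MatrixGroups Matrix

variable {F : Type*} [Field F]

/-- the polar form of `Q` as a Mathlib bilinear form. -/
noncomputable def s5981d4_bf {ι : Type} [Fintype ι] [DecidableEq ι] (Q : (ι → F) → F)
    (hQ : Cfsg.Geo.IsNondegenerateQuadraticForm Q) : LinearMap.BilinForm F (ι → F) :=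
  LinearMap.mk₂ F (QuadraticMap.polar Q) hQ.polar_bilinear.add_left hQ.polar_bilinear.smul_left
    hQ.polar_bilinear.add_right hQ.polar_bilinear.smul_right

theorem s5981d4_bf_apply {ι : Type} [Fintype ι] [DecidableEq ι] (Q : (ι → F) → F)
    (hQ : Cfsg.Geo.IsNondegenerateQuadraticForm Q) (u v : ι → F) :
    s5981d4_bf Q hQ u v = QuadraticMap.polar Q u v := rfl

/-- the Gram matrix of the polar form is invertible. -/
theorem s5981d4_gram_det {ι : Type} [Fintype ι] [DecidableEq ι] (Q : (ι → F) → F)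
    (hQ : Cfsg.Geo.IsNondegenerateQuadraticForm Q) :
    (LinearMap.BilinForm.toMatrix' (s5981d4_bf Q hQ)).det ≠ 0 := by
  intro h0
  obtain ⟨v, hv, hMv⟩ := Matrix.exists_mulVec_eq_zero_iff.2 h0
  obtain ⟨⟨x, hx⟩, _⟩ := hQ.nondegenerate v hv
  apply hx
  rw [← s5981d4_bf_apply Q hQ, ← Matrix.toBilin'_toMatrix' (s5981d4_bf Q hQ), Matrix.toBilin'_apply', hMv,
    dotProduct_zero]

/-- an isometry of `Q` has determinant `± 1`. -/
theorem s5981d4_det_sq {ι : Type} [Fintype ι] [DecidableEq ι] (Q : (ι → F) → F)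
    (hQ : Cfsg.Geo.IsNondegenerateQuadraticForm Q) (g : GL ι F) (hg : g ∈ Cfsg.isometryGroup F Q) :
    (g : Matrix ι ι F).det ^ 2 = 1 := by
  have hgQ : ∀ u, Q ((g : Matrix ι ι F) *ᵥ u) = Q u := fun u => hg u u
  have hcomp : (s5981d4_bf Q hQ).comp (Matrix.toLin' (g : Matrix ι ι F)) (Matrix.toLin' (g : Matrix ι ι F)) =
      s5981d4_bf Q hQ := by
    apply LinearMap.ext; intro u; apply LinearMap.ext; intro v
    simp only [LinearMap.BilinForm.comp_apply, Matrix.toLin'_apply, s5981d4_bf_apply, QuadraticMap.polar]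
    rw [← Matrix.mulVec_add, hgQ, hgQ, hgQ]
  have hmat := congrArg LinearMap.BilinForm.toMatrix' hcomp
  rw [LinearMap.BilinForm.toMatrix'_comp, LinearMap.toMatrix'_toLin'] at hmat
  have hdet := congrArg Matrix.det hmat
  rw [Matrix.det_mul, Matrix.det_mul, Matrix.det_transpose] at hdet
  have hM := s5981d4_gram_det Q hQ
  have : ((g : Matrix ι ι F).det ^ 2) * (LinearMap.BilinForm.toMatrix' (s5981d4_bf Q hQ)).det =
      1 * (LinearMap.BilinForm.toMatrix' (s5981d4_bf Q hQ)).det := by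
    linear_combination hdet
  exact mul_right_cancel₀ hM this

theorem s5981d4_iso_le_sim {ι : Type} [Fintype ι] [DecidableEq ι] (Q : (ι → F) → F) :
    Cfsg.isometryGroup F Q ≤ Cfsg.Geo.quadSimilarityGroup Q := by
  intro g hg
  exact ⟨1, fun v => by rw [Units.val_one, one_mul]; exact hg v v⟩

/-- `|O(Q) : SO(Q)|` divides `2`. -/
theorem s5981d4_relIndex_dvd_two {ι : Type} [Fintype ι] [DecidableEq ι] (Q : (ι → F) → F)
    (hQ : Cfsg.Geo.IsNondegenerateQuadraticForm Q) :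
    (Cfsg.Geo.specialLinear ι F).relIndex (Cfsg.isometryGroup F Q) ∣ 2 := by
  set O := Cfsg.isometryGroup F Q with hO
  let φ : O →* Fˣ := (Matrix.GeneralLinearGroup.det : GL ι F →* Fˣ).comp O.subtype
  have hker : φ.ker = (Cfsg.Geo.specialLinear ι F).subgroupOf O := by
    ext g
    simp only [MonoidHom.mem_ker, Subgroup.mem_subgroupOf, Cfsg.Geo.specialLinear]
    rfl
  unfold Subgroup.relIndex
  rw [← hker, Subgroup.index_ker]
  have hrange : φ.range ≤ Subgroup.zpowers (-1 : Fˣ) := by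
    rintro _ ⟨g, rfl⟩
    have h1 := s5981d4_det_sq Q hQ g.1 g.2
    have h2 : ((φ g : Fˣ) : F) = (g.1 : Matrix ι ι F).det := rfl
    have h3 : ((φ g : Fˣ) : F) = 1 ∨ ((φ g : Fˣ) : F) = -1 := by
      rw [h2]; rw [sq] at h1; exact mul_self_eq_one_iff.1 h1
    rcases h3 with h3 | h3
    · have : φ g = 1 := Units.ext h3
      rw [this]; exact one_mem _
    · have : φ g = -1 := Units.ext (by rw [h3]; rfl)
      rw [this]; exact Subgroup.mem_zpowers _
  have h4 : Nat.card φ.range ∣ Nat.card (Subgroup.zpowers (-1 : Fˣ)) := Subgroup.card_dvd_of_le hrange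
  have h5 : Nat.card (Subgroup.zpowers (-1 : Fˣ)) ∣ 2 := by
    rw [Nat.card_zpowers]
    apply orderOf_dvd_of_pow_eq_one
    simp
  exact h4.trans h5

variable [Fintype F]

/-- D4 : Lagrange. -/
theorem lagrange {q : ℕ} (hq : Fintype.card F = q) (hodd : Odd q) (n : ℕ) (Q : (Fin n → F) → F)
    (hQ : Cfsg.Geo.IsNondegenerateQuadraticForm Q) (r : ℕ)
    (hΩ : r ∣ (Cfsg.Geo.quadSimilarityGroup Q).relIndex (Cfsg.Geo.specialLinear (Fin n) F)) :
    r * Nat.card (Cfsg.isometryGroup F Q) ∣ 2 * Nat.card (Cfsg.Geo.specialLinear (Fin n) F) := by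
  set SL := Cfsg.Geo.specialLinear (Fin n) F with hSL
  set Sim := Cfsg.Geo.quadSimilarityGroup Q with hSim
  set O := Cfsg.isometryGroup F Q with hO
  have hOS : O ≤ Sim := s5981d4_iso_le_sim Q
  -- |SL| = |Sim ⊓ SL| * [SL : Sim ⊓ SL]
  have h1 : Nat.card (Sim ⊓ SL : Subgroup (GL (Fin n) F)) * Sim.relIndex SL = Nat.card SL := by
    rw [← Subgroup.inf_relIndex_right Sim SL, ← Subgroup.relIndex_bot_left (H := (Sim ⊓ SL)),
      ← Subgroup.relIndex_bot_left (H := SL)]
    exact Subgroup.relIndex_mul_relIndex ⊥ (Sim ⊓ SL) SL bot_le inf_le_right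
  have h2 : Nat.card (O ⊓ SL : Subgroup (GL (Fin n) F)) ∣ Nat.card (Sim ⊓ SL : Subgroup (GL (Fin n) F)) :=
    Subgroup.card_dvd_of_le (inf_le_inf_right SL hOS)
  have h3 : Nat.card (O ⊓ SL : Subgroup (GL (Fin n) F)) * SL.relIndex O = Nat.card O := by
    rw [inf_comm O SL, ← Subgroup.inf_relIndex_right SL O, ← Subgroup.relIndex_bot_left (H := (SL ⊓ O)),
      ← Subgroup.relIndex_bot_left (H := O)]
    exact Subgroup.relIndex_mul_relIndex ⊥ (SL ⊓ O) O bot_le inf_le_right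
  have h4 : SL.relIndex O ∣ 2 := s5981d4_relIndex_dvd_two Q hQ
  rw [← h3, ← h1]
  have h5 := mul_dvd_mul h4 (mul_dvd_mul h2 hΩ)
  have e1 : r * (Nat.card (O ⊓ SL : Subgroup (GL (Fin n) F)) * SL.relIndex O) =
      SL.relIndex O * (Nat.card (O ⊓ SL : Subgroup (GL (Fin n) F)) * r) := by ring
  rw [e1]; exact h5

end Cfsg.Agent.Lib.Helper29.S5981
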