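import Mathlib

set_option autoImplicit false
set_option linter.unusedVariables false
set_option linter.unusedSectionVars false

namespace Cfsg.Agent.Lib.Helper29.S5981

open scoped MatrixGroups Matrix

/-- split a product over `1 .. 2m` into even and odd arguments. -/
theorem s5981d6_split_even {M : Type*} [CommMonoid M] (f : ℕ → M) (m : ℕ) :
    ∏ i ∈ Finset.range (2 * m), f (i + 1) =
      (∏ i ∈ Finset.range m, f (2 * (i + 1))) * ∏ i ∈ Finset.range m, f (2 * i + 1) := by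
  induction m with
  | zero => simp
  | succ k ih =>
    have : 2 * (k + 1) = 2 * k + 1 + 1 := by ring
    rw [this, Finset.prod_range_succ, Finset.prod_range_succ, ih, Finset.prod_range_succ,
      Finset.prod_range_succ]
    have e1 : 2 * k + 1 + 1 = 2 * (k + 1) := by ring
    rw [e1]
    simp only [mul_assoc, mul_comm, mul_left_comm]

/-- split a product over `1 .. 2m+1` into even and odd arguments. -/
theorem s5981d6_split_odd {M : Type*} [CommMonoid M] (f : ℕ → M) (m : ℕ) :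
    ∏ i ∈ Finset.range (2 * m + 1), f (i + 1) =
      (∏ i ∈ Finset.range m, f (2 * (i + 1))) * ∏ i ∈ Finset.range (m + 1), f (2 * i + 1) := by
  rw [Finset.prod_range_succ, s5981d6_split_even, Finset.prod_range_succ (fun i => f (2 * i + 1)), mul_assoc]

theorem s5981d6_pos (q : ℕ) (hq : 2 ≤ q) (j : ℕ) (hj : 1 ≤ j) : 0 < q ^ j - 1 := by
  have : 2 ^ j ≤ q ^ j := Nat.pow_le_pow_left hq j
  have h2 : 2 ≤ 2 ^ j := by
    calc 2 = 2 ^ 1 := rfl
      _ ≤ 2 ^ j := Nat.pow_le_pow_right (by norm_num) hj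
  omega

theorem s5981d6_prod_even_pos (q : ℕ) (hq : 2 ≤ q) (m : ℕ) :
    0 < ∏ i ∈ Finset.range m, (q ^ (2 * (i + 1)) - 1) :=
  Finset.prod_pos (fun i _ => s5981d6_pos q hq _ (by omega))

/-- `r` does not divide the product over the odd exponents. -/
theorem s5981d6_not_dvd_odd (q r : ℕ) (hr : r.Prime) (hodd_ndvd : ∀ j, Odd j → ¬ r ∣ q ^ j - 1)
    (m : ℕ) : ¬ r ∣ ∏ i ∈ Finset.range m, (q ^ (2 * i + 1) - 1) := by
  intro h
  obtain ⟨i, _, hi⟩ := (Prime.dvd_finset_prod_iff hr.prime _).1 h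
  exact hodd_ndvd (2 * i + 1) ⟨i, rfl⟩ hi

/-- D6. -/
theorem arith_odd (q r m : ℕ) (hq : 2 ≤ q) (hr : r.Prime) (hrq : ¬ r ∣ q)
    (hodd_ndvd : ∀ j, Odd j → ¬ r ∣ q ^ j - 1)
    (h : r * (2 * q ^ (m ^ 2) * ∏ i ∈ Finset.range m, (q ^ (2 * (i + 1)) - 1)) * (q - 1) ∣
      2 * (q ^ (∑ i ∈ Finset.range (2 * m + 1), i) * ∏ i ∈ Finset.range (2 * m + 1), (q ^ (i + 1) - 1))) :
    False := by
  rw [s5981d6_split_odd (fun j => q ^ j - 1) m] at h
  set E := ∏ i ∈ Finset.range m, (q ^ (2 * (i + 1)) - 1) with hE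
  set O := ∏ i ∈ Finset.range (m + 1), (q ^ (2 * i + 1) - 1) with hO
  set S := ∑ i ∈ Finset.range (2 * m + 1), i with hS
  have hEpos : 0 < E := s5981d6_prod_even_pos q hq m
  have h' : (2 * E) * (r * (q ^ (m ^ 2) * (q - 1))) ∣ (2 * E) * (q ^ S * O) := by
    have e1 : (2 * E) * (r * (q ^ (m ^ 2) * (q - 1))) = r * (2 * q ^ (m ^ 2) * E) * (q - 1) := by ring
    have e2 : (2 * E) * (q ^ S * O) = 2 * (q ^ S * (E * O)) := by ring
    rw [e1, e2]; exact h
  have h2 := Nat.dvd_of_mul_dvd_mul_left (by positivity) h'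
  have h3 : r ∣ q ^ S * O := (Dvd.intro _ rfl).trans h2
  rcases (Nat.Prime.dvd_mul hr).1 h3 with h4 | h4
  · exact hrq (hr.dvd_of_dvd_pow h4)
  · exact s5981d6_not_dvd_odd q r hr hodd_ndvd _ h4

end Cfsg.Agent.Lib.Helper29.S5981
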