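import Mathlib
import Cfsg.Agent.Lib.Helper26.S5981D6

set_option autoImplicit false
set_option linter.unusedVariables false
set_option linter.unusedSectionVars false

namespace Cfsg.Agent.Lib.Helper29.S5981

open scoped MatrixGroups Matrix

theorem s5981d7_factor (q m : ℕ) (hq : 2 ≤ q) : q ^ (2 * m) - 1 = (q ^ m - 1) * (q ^ m + 1) := by
  have h1 : 1 ≤ q ^ m := Nat.one_le_pow _ _ (by omega)
  obtain ⟨t, ht⟩ : ∃ t, q ^ m = t + 1 := ⟨q ^ m - 1, by omega⟩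
  have : q ^ (2 * m) = (q ^ m) ^ 2 := by rw [mul_comm, pow_mul]
  rw [this, ht]
  simp only [Nat.add_sub_cancel]
  have : (t + 1) ^ 2 = t * (t + 1 + 1) + 1 := by ring
  rw [this, Nat.add_sub_cancel]

/-- D7. -/
theorem arith_plus (q r m : ℕ) (hq : 2 ≤ q) (hm : 1 ≤ m) (hr : r.Prime) (hrq : ¬ r ∣ q)
    (hodd_ndvd : ∀ j, Odd j → ¬ r ∣ q ^ j - 1)
    (h : r * (2 * q ^ (m * (m - 1)) * (q ^ m - 1) * ∏ i ∈ Finset.range (m - 1), (q ^ (2 * (i + 1)) - 1)) * (q - 1) ∣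
      2 * (q ^ (∑ i ∈ Finset.range (2 * m), i) * ∏ i ∈ Finset.range (2 * m), (q ^ (i + 1) - 1))) :
    r ∣ q ^ m + 1 := by
  obtain ⟨k, rfl⟩ : ∃ k, m = k + 1 := ⟨m - 1, by omega⟩
  rw [s5981d6_split_even (fun j => q ^ j - 1) (k + 1)] at h
  simp only [Nat.add_sub_cancel] at h
  rw [Finset.prod_range_succ (fun i => q ^ (2 * (i + 1)) - 1) k, s5981d7_factor q (k + 1) hq] at h
  set E := ∏ i ∈ Finset.range k, (q ^ (2 * (i + 1)) - 1) with hE
  set O := ∏ i ∈ Finset.range (k + 1), (q ^ (2 * i + 1) - 1) with hO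
  set S := ∑ i ∈ Finset.range (2 * (k + 1)), i with hS
  have hEpos : 0 < E := s5981d6_prod_even_pos q hq k
  have hApos : 0 < q ^ (k + 1) - 1 := s5981d6_pos q hq _ (by omega)
  have h' : (2 * E * (q ^ (k + 1) - 1)) * (r * (q ^ ((k + 1) * k) * (q - 1))) ∣
      (2 * E * (q ^ (k + 1) - 1)) * (q ^ S * ((q ^ (k + 1) + 1) * O)) := by
    have e1 : (2 * E * (q ^ (k + 1) - 1)) * (r * (q ^ ((k + 1) * k) * (q - 1))) =
        r * (2 * q ^ ((k + 1) * k) * (q ^ (k + 1) - 1) * E) * (q - 1) := by ring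
    have e2 : (2 * E * (q ^ (k + 1) - 1)) * (q ^ S * ((q ^ (k + 1) + 1) * O)) =
        2 * (q ^ S * (E * ((q ^ (k + 1) - 1) * (q ^ (k + 1) + 1)) * O)) := by ring
    rw [e1, e2]; exact h
  have h2 := Nat.dvd_of_mul_dvd_mul_left (by positivity) h'
  have h3 : r ∣ q ^ S * ((q ^ (k + 1) + 1) * O) := (Dvd.intro _ rfl).trans h2
  rcases (Nat.Prime.dvd_mul hr).1 h3 with h4 | h4
  · exact absurd (hr.dvd_of_dvd_pow h4) hrq
  · rcases (Nat.Prime.dvd_mul hr).1 h4 with h5 | h5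
    · exact h5
    · exact absurd h5 (s5981d6_not_dvd_odd q r hr hodd_ndvd _)

end Cfsg.Agent.Lib.Helper29.S5981
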