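import Mathlib
import Cfsg.Agent.Lib.Helper29.S5981.DefsD
import Cfsg.Agent.Lib.Helper16.ZeroCount

set_option autoImplicit false
set_option linter.unusedVariables false
set_option linter.unusedSectionVars false

namespace Cfsg.Agent.Lib.Helper29.S5981

open scoped MatrixGroups Matrix

variable {F : Type*} [Field F]

variable [Fintype F]

/-- D9 (plus type). -/
theorem count_plus {q : ℕ} (hq : Fintype.card F = q) (m : ℕ) (hm : 1 ≤ m) :
    Nat.card {v : Fin m ⊕ Fin m → F // Cfsg.quadFormPlus m F v = 0} + q ^ (m - 1) = q ^ (2 * m - 1) + q ^ m := by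
  classical
  obtain ⟨k, rfl⟩ : ∃ k, m = k + 1 := ⟨m - 1, by omega⟩
  have hq1 : 1 ≤ q := by rw [← hq]; exact Fintype.card_pos
  have hP := Cfsg.Agent.Lib.Helper16.zeros_plus (F := F) (k + 1) (W := Fin 0 → F) (fun _ => 0)
  have hP1 : Fintype.card {p : (Fin (k + 1) ⊕ Fin (k + 1) → F) × (Fin 0 → F) // Cfsg.quadFormPlus (k + 1) F p.1 + 0 = 0} =
      Fintype.card {v : Fin (k + 1) ⊕ Fin (k + 1) → F // Cfsg.quadFormPlus (k + 1) F v = 0} := by
    apply Fintype.card_congr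
    apply (Equiv.prodUnique (Fin (k + 1) ⊕ Fin (k + 1) → F) (Fin 0 → F)).subtypeEquiv
    intro p
    simp
  have hP2 : Fintype.card {w : Fin 0 → F // (0 : F) = 0} = 1 := by
    rw [Fintype.card_subtype]
    simp
  rw [hP1, hP2] at hP
  simp only [Fintype.card_pi, Finset.prod_const, Finset.card_univ, Fintype.card_fin, Nat.cast_pow, Nat.cast_one,
    mul_one, pow_zero, one_mul] at hP
  rw [hq] at hP
  rw [Nat.card_eq_fintype_card]
  set N := Fintype.card {v : Fin (k + 1) ⊕ Fin (k + 1) → F // Cfsg.quadFormPlus (k + 1) F v = 0} with hN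
  simp only [Nat.add_sub_cancel]
  have e1 : 2 * (k + 1) - 1 = 2 * k + 1 := by omega
  rw [e1]
  have hqz : (q : ℤ) ≠ 0 := by exact_mod_cast (by omega : q ≠ 0)
  have : (q : ℤ) * ((N : ℤ) + (q : ℤ) ^ k) = (q : ℤ) * ((q : ℤ) ^ (2 * k + 1) + (q : ℤ) ^ (k + 1)) := by
    have e2 : (q : ℤ) ^ (2 * (k + 1)) = (q : ℤ) * (q : ℤ) ^ (2 * k + 1) := by ring
    have e3 : (q : ℤ) ^ (k + 1 + 1) = (q : ℤ) * (q : ℤ) ^ (k + 1) := by ring
    have e4 : (q : ℤ) ^ (k + 1) = (q : ℤ) * (q : ℤ) ^ k := by ring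
    linear_combination hP + e2 + e3 - e4
  have h2 := mul_left_cancel₀ hqz this
  exact_mod_cast h2

/-- D9 (minus type). -/
theorem count_minus {q : ℕ} (hq : Fintype.card F = q) (m : ℕ) (hm : 1 ≤ m) (ζ : F) (hζ : ∀ t : F, t ^ 2 + t + ζ ≠ 0) :
    Nat.card {v : (Fin (m - 1) ⊕ Fin (m - 1)) ⊕ Fin 2 → F // Cfsg.quadFormMinus (m - 1) F 1 ζ v = 0} + q ^ m =
      q ^ (2 * m - 1) + q ^ (m - 1) := by
  classical
  obtain ⟨k, rfl⟩ : ∃ k, m = k + 1 := ⟨m - 1, by omega⟩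
  simp only [Nat.add_sub_cancel]
  have hq1 : 1 ≤ q := by rw [← hq]; exact Fintype.card_pos
  set f : (Fin 2 → F) → F := fun z => z 0 ^ 2 + 1 * z 0 * z 1 + ζ * z 1 ^ 2 with hf
  have hM := Cfsg.Agent.Lib.Helper16.zeros_plus (F := F) k (W := Fin 2 → F) f
  have hM1 : Fintype.card {p : (Fin k ⊕ Fin k → F) × (Fin 2 → F) // Cfsg.quadFormPlus k F p.1 + f p.2 = 0} =
      Fintype.card {u : (Fin k ⊕ Fin k) ⊕ Fin 2 → F // Cfsg.quadFormMinus k F 1 ζ u = 0} := by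
    apply Fintype.card_congr
    apply (Equiv.sumArrowEquivProdArrow (Fin k ⊕ Fin k) (Fin 2) F).symm.subtypeEquiv
    intro p
    rfl
  have hM2 : Fintype.card {z : Fin 2 → F // f z = 0} = 1 := by
    rw [Fintype.card_eq_one_iff]
    refine ⟨⟨0, by simp [hf]⟩, ?_⟩
    rintro ⟨z, hz⟩
    apply Subtype.ext
    show z = 0
    have h1 : z 1 = 0 := by
      by_contra hne
      apply hζ (z 0 / z 1)
      have : (z 0 / z 1) ^ 2 + z 0 / z 1 + ζ = f z / (z 1) ^ 2 := by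
        rw [hf]
        field_simp
      rw [this, hz, zero_div]
    have h0 : z 0 = 0 := by
      rw [hf] at hz
      simp only [h1] at hz
      have : z 0 ^ 2 = 0 := by linear_combination hz
      exact pow_eq_zero_iff (two_ne_zero) |>.mp this
    funext j
    fin_cases j
    · exact h0
    · exact h1
  rw [hM1, hM2] at hM
  simp only [Fintype.card_pi, Finset.prod_const, Finset.card_univ, Fintype.card_fin, Nat.cast_pow, Nat.cast_one,
    mul_one, pow_zero, one_mul] at hM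
  rw [hq] at hM
  rw [Nat.card_eq_fintype_card]
  set N := Fintype.card {u : (Fin k ⊕ Fin k) ⊕ Fin 2 → F // Cfsg.quadFormMinus k F 1 ζ u = 0} with hN
  have e1 : 2 * (k + 1) - 1 = 2 * k + 1 := by omega
  rw [e1]
  have hqz : (q : ℤ) ≠ 0 := by exact_mod_cast (by omega : q ≠ 0)
  have : (q : ℤ) * ((N : ℤ) + (q : ℤ) ^ (k + 1)) = (q : ℤ) * ((q : ℤ) ^ (2 * k + 1) + (q : ℤ) ^ k) := by
    have e2 : (q : ℤ) ^ 2 * (q : ℤ) ^ (2 * k) = (q : ℤ) * (q : ℤ) ^ (2 * k + 1) := by ring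
    have e3 : (q : ℤ) ^ 2 * (q : ℤ) ^ k = (q : ℤ) * (q : ℤ) ^ (k + 1) := by ring
    have e4 : (q : ℤ) ^ (k + 1) = (q : ℤ) * (q : ℤ) ^ k := by ring
    linear_combination hM + e2 - e3 - e4
  have h2 := mul_left_cancel₀ hqz this
  exact_mod_cast h2

end Cfsg.Agent.Lib.Helper29.S5981
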