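import Mathlib

set_option autoImplicit false
set_option linter.unusedVariables false
set_option linter.unusedSectionVars false

namespace Cfsg.Agent.Lib.Helper29.S5981

open scoped MatrixGroups Matrix
open Polynomial

/-- the 15 fixed-point/pairing patterns on `Fin 5`. -/
def s5981f3_pats : List (Fin 5 × (Fin 5 → Fin 5)) :=
  [(0, ![0, 2, 1, 4, 3]),
   (0, ![0, 3, 4, 1, 2]),
   (0, ![0, 4, 3, 2, 1]),
   (1, ![2, 1, 0, 4, 3]),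
   (1, ![3, 1, 4, 0, 2]),
   (1, ![4, 1, 3, 2, 0]),
   (2, ![1, 0, 2, 4, 3]),
   (2, ![3, 4, 2, 0, 1]),
   (2, ![4, 3, 2, 1, 0]),
   (3, ![1, 0, 4, 3, 2]),
   (3, ![2, 4, 0, 3, 1]),
   (3, ![4, 2, 1, 3, 0]),
   (4, ![1, 0, 3, 2, 4]),
   (4, ![2, 3, 0, 1, 4]),
   (4, ![3, 2, 1, 0, 4])]

set_option maxRecDepth 100000 in
theorem s5981f3_five : ∀ a0 a1 a2 a3 a4 : ZMod 5, a0 + a1 + a2 + a3 + a4 = 0 →
    ∃ t ∈ s5981f3_pats, (∀ x, t.2 (t.2 x) = x) ∧ (∀ x, t.2 x = x ↔ x = t.1) ∧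
      ∀ x, (![a0, a1, a2, a3, a4] : Fin 5 → ZMod 5) x + (![a0, a1, a2, a3, a4] : Fin 5 → ZMod 5) (t.2 x) =
        2 * (![a0, a1, a2, a3, a4] : Fin 5 → ZMod 5) t.1 := by
  decide

/-- F3, `r = 3`. -/
theorem f_comb3 (a : Fin 3 → ZMod 3) (ha : ∑ j, a j = 0) :
    ∃ (j0 : Fin 3) (σ : Equiv.Perm (Fin 3)), (∀ j, σ (σ j) = j) ∧ (∀ j, σ j = j ↔ j = j0) ∧
      ∀ j, a j + a (σ j) = 2 * a j0 := by
  rw [Fin.sum_univ_three] at ha
  refine ⟨0, Equiv.swap 1 2, by decide, by decide, ?_⟩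
  have h2 : (2 : ZMod 3) = -1 := by decide
  have h12 : a 1 + a 2 = 2 * a 0 := by
    rw [h2]; linear_combination ha
  intro j
  fin_cases j
  · show a 0 + a ((Equiv.swap (1 : Fin 3) 2) 0) = 2 * a 0
    have : (Equiv.swap (1 : Fin 3) 2) 0 = 0 := by decide
    rw [this]; ring
  · show a 1 + a ((Equiv.swap (1 : Fin 3) 2) 1) = 2 * a 0
    rw [Equiv.swap_apply_left]; exact h12
  · show a 2 + a ((Equiv.swap (1 : Fin 3) 2) 2) = 2 * a 0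
    rw [Equiv.swap_apply_right, add_comm]; exact h12

/-- F3, `r = 5`. -/
theorem f_comb5 (a : Fin 5 → ZMod 5) (ha : ∑ j, a j = 0) :
    ∃ (j0 : Fin 5) (σ : Equiv.Perm (Fin 5)), (∀ j, σ (σ j) = j) ∧ (∀ j, σ j = j ↔ j = j0) ∧
      ∀ j, a j + a (σ j) = 2 * a j0 := by
  rw [Fin.sum_univ_five] at ha
  obtain ⟨t, _, h1, h2, h3⟩ := s5981f3_five (a 0) (a 1) (a 2) (a 3) (a 4) ha
  have hav : (![a 0, a 1, a 2, a 3, a 4] : Fin 5 → ZMod 5) = a := by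
    funext j; fin_cases j <;> rfl
  rw [hav] at h3
  exact ⟨t.1, Function.Involutive.toPerm t.2 h1, h1, h2, h3⟩

end Cfsg.Agent.Lib.Helper29.S5981
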