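import Cfsg.Agent.Lib.helper7.SAP.Defs

/-!
Project SAP row GL12 (second writer helper26): the S-case of the gluing theorem, core on the
statements of GL7 `glue_tau_zx`, BASE4 `base_a_mem`, TR2 `index_two_bound`, GL10 `glue_card`,
`glue_psi_zx`, PERM3 `closure_zh`, PERM6 `sign_th`.
-/

namespace Cfsg.Agent.Lib.helper7.SAP

open Equiv

universe u

section glue
variable {p k l : ℕ} {G : Type u} [Group G]

/-- a subgroup of `Perm α` which contains the alternating group and an odd permutation is `⊤` -/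
theorem sapgl12_top_of_odd {α : Type*} [DecidableEq α] [Fintype α] (K : Subgroup (Perm α))
    (hA : alternatingGroup α ≤ K) (t : Perm α) (ht : t ∈ K) (hodd : Perm.sign t = -1) :
    K = ⊤ := by
  rw [eq_top_iff]
  intro σ _
  rcases Int.units_eq_one_or (Perm.sign σ) with h | h
  · exact hA (Perm.mem_alternatingGroup.2 h)
  · have h1 : σ * t⁻¹ ∈ K := by
      apply hA
      rw [Perm.mem_alternatingGroup, map_mul, map_inv, h, hodd]
      decide
    have : σ = (σ * t⁻¹) * t := by group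
    rw [this]
    exact K.mul_mem h1 ht

theorem sapgl12_card_Pt (p k : ℕ) [NeZero p] : Nat.card (Perm (Pt p k)) = (p + k + 2).factorial := by
  rw [Nat.card_perm]
  congr 1
  unfold Pt
  rw [Nat.card_sum, Nat.card_sum, Nat.card_zmod, Nat.card_fin, Nat.card_fin]
  ring

/-- GL12 core. -/
theorem sapgl12_core [Fact p.Prime] (H : GlueHyp p k l G) (W : G)
    (hW : W ∈ Subgroup.closure (Set.range (zx H.a H.z H.τ l : Ix p k → G)))
    (hkill : H.τ ^ 2 = W) (heven : Even (l + k))
    (hgen : Subgroup.closure ({H.a, H.z, H.τ} : Set G) = ⊤)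
    (hGL7 : ∀ y : Ix p k, H.τ * zx H.a H.z H.τ l y * H.τ⁻¹ = zx H.a H.z H.τ l (tauI p k l y))
    (hB4 : H.a ∈ Subgroup.closure (Set.range (zo H.a H.z : ZMod p → G)))
    (hTR2 : ∀ (N : Subgroup G) [Finite N] (t : G), (∀ x ∈ N, t * x * t⁻¹ ∈ N) → t ^ 2 ∈ N →
        N ⊔ Subgroup.zpowers t = ⊤ → Finite G ∧ Nat.card G ≤ 2 * Nat.card N)
    (hcard : Finite (Subgroup.closure (Set.range (zx H.a H.z H.τ l : Ix p k → G))) ∧
      2 * Nat.card (Subgroup.closure (Set.range (zx H.a H.z H.τ l : Ix p k → G))) ≤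
        (p + k + 2).factorial)
    (hψzx : ∀ y : Ix p k, H.ψ (zx H.a H.z H.τ l y) = zh y)
    (hcl : Subgroup.closure (Set.range (zh : Ix p k → Perm (Pt p k))) = alternatingGroup (Pt p k))
    (hsign : Perm.sign (th p k l) = (-1) ^ (l + k + 1)) :
    Function.Bijective H.ψ := by
  have : NeZero p := ⟨(Fact.out : p.Prime).ne_zero⟩
  set N : Subgroup G := Subgroup.closure (Set.range (zx H.a H.z H.τ l : Ix p k → G)) with hN
  have : Finite N := hcard.1
  -- τ normalises N
  have hn : ∀ x ∈ N, H.τ * x * H.τ⁻¹ ∈ N := by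
    intro x hx
    induction hx using Subgroup.closure_induction with
    | mem x hx =>
      obtain ⟨y, rfl⟩ := hx
      rw [hGL7 y]
      exact Subgroup.subset_closure ⟨_, rfl⟩
    | one => simp
    | mul x y _ _ ihx ihy =>
      have : H.τ * (x * y) * H.τ⁻¹ = (H.τ * x * H.τ⁻¹) * (H.τ * y * H.τ⁻¹) := by group
      rw [this]; exact N.mul_mem ihx ihy
    | inv x _ ihx =>
      have : H.τ * x⁻¹ * H.τ⁻¹ = (H.τ * x * H.τ⁻¹)⁻¹ := by group
      rw [this]; exact N.inv_mem ihx
  have ht : H.τ ^ 2 ∈ N := by rw [hkill]; exact hW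
  have hzo : ∀ x : ZMod p, zo H.a H.z x ∈ N := fun x =>
    Subgroup.subset_closure ⟨Sum.inl x, rfl⟩
  have hz : H.z ∈ N := by
    have := hzo 0
    simpa [zo] using this
  have ha : H.a ∈ N := by
    have hle : Subgroup.closure (Set.range (zo H.a H.z : ZMod p → G)) ≤ N := by
      rw [Subgroup.closure_le]
      rintro _ ⟨x, rfl⟩
      exact hzo x
    exact hle hB4
  have hsup : N ⊔ Subgroup.zpowers H.τ = ⊤ := by
    rw [eq_top_iff, ← hgen, Subgroup.closure_le]
    intro x hx
    simp only [Set.mem_insert_iff, Set.mem_singleton_iff] at hx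
    rcases hx with rfl | rfl | rfl
    · exact (le_sup_left : N ≤ N ⊔ Subgroup.zpowers H.τ) ha
    · exact (le_sup_left : N ≤ N ⊔ Subgroup.zpowers H.τ) hz
    · exact (le_sup_right : Subgroup.zpowers H.τ ≤ N ⊔ Subgroup.zpowers H.τ)
        (Subgroup.mem_zpowers _)
  obtain ⟨hfin, hle⟩ := hTR2 N H.τ hn ht hsup
  have : Finite G := hfin
  -- surjectivity
  have hA : alternatingGroup (Pt p k) ≤ H.ψ.range := by
    rw [← hcl, Subgroup.closure_le]
    rintro _ ⟨y, rfl⟩
    exact ⟨_, hψzx y⟩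
  have hth : th p k l ∈ H.ψ.range := ⟨H.τ, H.hψτ⟩
  have hodd : Perm.sign (th p k l) = -1 := by
    rw [hsign]
    exact Odd.neg_one_pow heven.add_one
  have htop : H.ψ.range = ⊤ := sapgl12_top_of_odd _ hA _ hth hodd
  have hsurj : Function.Surjective H.ψ := MonoidHom.range_eq_top.1 htop
  refine hsurj.bijective_of_nat_card_le ?_
  rw [sapgl12_card_Pt]
  exact le_trans hle hcard.2

end glue

end Cfsg.Agent.Lib.helper7.SAP
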