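import Cfsg.Agent.Lib.helper7.SAP.Defs
import Cfsg.Agent.Lib.helper23.SAPGL1
import Cfsg.Agent.Lib.Helper25.SAPGL2
import Cfsg.Agent.Lib.helper8.SAPPERM5
import Cfsg.Agent.Lib.helper2.SAPGL4
import Cfsg.Agent.Lib.Helper12.SAPGL3core
import Cfsg.Agent.Lib.Helper20.SAPGL5core
import Cfsg.Agent.Lib.Helper13.SAPGL7core
import Cfsg.Agent.Lib.Helper12.SAPGL9core
import Cfsg.Agent.Lib.Helper29.SAPGL10core
import Cfsg.Agent.Lib.Helper29.SAPGL11core
import Cfsg.Agent.Lib.Helper26.SAPGL12h26core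
import Cfsg.Agent.Lib.Helper21.SAPBASE3
import Cfsg.Agent.Lib.Helper21.SAPBASE4
import Cfsg.Agent.Lib.Helper13.SAPGL8
import Cfsg.Agent.Lib.helper4.SAPCAR3
import Cfsg.Agent.Lib.Helper22.SAPPRES3
import Cfsg.Agent.Lib.Helper13.SAPPERM3
import Cfsg.Agent.Lib.Helper10.SAPTR2
import Cfsg.Agent.Lib.helper6.SAPPERM6

/-!
Project SAP: EXPRESS ASSEMBLY of the GL block (GL3, GL5, GL6, GL7, GL9, GL10, GL11, GL12) from the
landed cores, under own names `sapglx_h26_*` with the EXACT Skel statements (so that PRES7 / PRES8 do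
not wait for the chain of verbatim wrappers).
-/

namespace Cfsg.Agent.Lib.helper7.SAP

open Equiv

universe u

section glue
variable {p k l : ℕ} {G : Type u} [Group G]

/-- GL3 (spare) -/
theorem sapglx_h26_glue_nu_act [Fact p.Prime] (H : GlueHyp p k l G) (x : ZMod p) :
    H.ν * zo H.a H.z x * H.ν⁻¹ = (zo H.a H.z (nuI p l x)) ^ (sgn l) := by
  have : NeZero p := ⟨(Fact.out : p.Prime).ne_zero⟩
  exact sapgl3_core H (fun x => glue_psi_zo H x) (glue_injOn_old H)
    (fun x => nh_conj_zh p k l H.hlp (le_trans (Nat.le_add_left 1 k) H.hkl) x) x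

/-- GL5 (spare) -/
theorem sapglx_h26_glue_theta_act [Fact p.Prime] (H : GlueHyp p k l G) (x : ZMod p)
    (hx : x ≠ (l : ZMod p)) :
    (H.ν⁻¹ * H.τ) * zo H.a H.z x * (H.ν⁻¹ * H.τ)⁻¹ = (zo H.a H.z x) ^ (sgn l) :=
  sapgl5_core H (fun x => sapglx_h26_glue_nu_act H x) (fun x => glue_beta'_act H x) x hx

/-- GL6 (spare) -/
theorem sapglx_h26_glue_tau_old [Fact p.Prime] (H : GlueHyp p k l G) (x : ZMod p)
    (hx : x ≠ (l : ZMod p)) :
    H.τ * zo H.a H.z x * H.τ⁻¹ = zo H.a H.z (nuI p l x) :=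
  sapgl6_core H (fun x => sapglx_h26_glue_nu_act H x)
    (fun x hx => sapglx_h26_glue_theta_act H x hx) x hx

/-- GL7 (spare) -/
theorem sapglx_h26_glue_tau_zx [Fact p.Prime] (H : GlueHyp p k l G) (y : Ix p k) :
    H.τ * zx H.a H.z H.τ l y * H.τ⁻¹ = zx H.a H.z H.τ l (tauI p k l y) :=
  sapgl7_core H (fun x hx => sapglx_h26_glue_tau_old H x hx) y

/-- GL9 (spare) -/
theorem sapglx_h26_glue_carRel [Fact p.Prime] (H : GlueHyp p k l G) :
    CarRel (zx H.a H.z H.τ l : Ix p k → G) := by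
  have : NeZero p := ⟨(Fact.out : p.Prime).ne_zero⟩
  exact sapgl9_core H.a H.z H.τ (base_carRel H.toBaseHyp) (fun y => sapglx_h26_glue_tau_zx H y)
    (tauI_injective H.hkl H.hlp) (fun y y' => tauI_cover H.hkl H.hlp y y')

/-- GL10 (spares) -/
theorem sapglx_h26_glue_card [Fact p.Prime] (H : GlueHyp p k l G) :
    Finite (Subgroup.closure (Set.range (zx H.a H.z H.τ l : Ix p k → G))) ∧
    2 * Nat.card (Subgroup.closure (Set.range (zx H.a H.z H.τ l : Ix p k → G))) ≤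
      (p + k + 2).factorial := by
  have : NeZero p := ⟨(Fact.out : p.Prime).ne_zero⟩
  exact sapgl10_card_core H (car_card_le (zx H.a H.z H.τ l) (sapglx_h26_glue_carRel H))

theorem sapglx_h26_glue_psi_zx [Fact p.Prime] (H : GlueHyp p k l G) (y : Ix p k) :
    H.ψ (zx H.a H.z H.τ l y) = zh y := by
  have : NeZero p := ⟨(Fact.out : p.Prime).ne_zero⟩
  exact sapgl10_psi_zx_core H
    (fun y => zx_perm p k l H.hlp (le_trans (Nat.le_add_left 1 k) H.hkl) y) y

theorem sapglx_h26_glue_injOn [Fact p.Prime] (H : GlueHyp p k l G) :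
    Set.InjOn H.ψ (Subgroup.closure (Set.range (zx H.a H.z H.τ l : Ix p k → G)) : Set G) := by
  have : NeZero p := ⟨(Fact.out : p.Prime).ne_zero⟩
  exact sapgl10_injOn_core H (sapglx_h26_glue_card H) (fun y => sapglx_h26_glue_psi_zx H y)
    (closure_zh p k)

/-- GL11 (spare): the A-case. -/
theorem sapglx_h26_glue_final_A [Fact p.Prime] (hp : 3 ≤ p) (H : GlueHyp p k l G) (W : G)
    (hW : W ∈ Subgroup.closure (Set.range (zx H.a H.z H.τ l : Ix p k → G)))
    (hkill : H.τ = W)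
    (hgen : Subgroup.closure ({H.a, H.z, H.τ} : Set G) = ⊤) :
    Function.Injective H.ψ ∧ H.ψ.range = alternatingGroup (Pt p k) := by
  have : NeZero p := ⟨(Fact.out : p.Prime).ne_zero⟩
  exact sapgl11_core H W (base_a_mem hp H.toBaseHyp) (fun y => sapglx_h26_glue_psi_zx H y)
    (sapglx_h26_glue_injOn H) (closure_zh p k) hW hkill hgen

/-- GL12 (spare): the S-case. -/
theorem sapglx_h26_glue_final_S [Fact p.Prime] (hp : 3 ≤ p) (H : GlueHyp p k l G) (W : G)
    (hW : W ∈ Subgroup.closure (Set.range (zx H.a H.z H.τ l : Ix p k → G)))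
    (hkill : H.τ ^ 2 = W) (heven : Even (l + k))
    (hgen : Subgroup.closure ({H.a, H.z, H.τ} : Set G) = ⊤) :
    Function.Bijective H.ψ := by
  have : NeZero p := ⟨(Fact.out : p.Prime).ne_zero⟩
  have h2 : 2 ≤ l + k := by
    have := H.hkl
    obtain ⟨m, hm⟩ := heven
    omega
  exact sapgl12_core H W hW hkill heven hgen (fun y => sapglx_h26_glue_tau_zx H y)
    (base_a_mem hp H.toBaseHyp)
    (fun N _ t hn ht hg => index_two_bound N t hn ht hg)
    (sapglx_h26_glue_card H) (fun y => sapglx_h26_glue_psi_zx H y) (closure_zh p k)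
    (sign_th p k l H.hlp h2)

end glue

end Cfsg.Agent.Lib.helper7.SAP
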