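import Mathlib
import Cfsg.Agent.Lib.helper4.ElemClassB
import Cfsg.Agent.Lib.helper4.M24Rigid
import Cfsg.Agent.Lib.Helper26.SB.Defs

set_option autoImplicit false

namespace Cfsg.Agent.Lib.Helper26.SB

open Cfsg Cfsg.Agent.Lib.helper4 Cfsg.Agent.Lib.Helper12.Golay
open scoped Pointwise

/-- The pointwise stabiliser in `M24` of the fixed points of `t`. -/
def la_Q (t : Equiv.Perm GolayPt) : Subgroup (Equiv.Perm GolayPt) where
  carrier := {q | q ∈ M24 ∧ ∀ p, t p = p → q p = p}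
  mul_mem' := by
    rintro a b ⟨ha, ha'⟩ ⟨hb, hb'⟩
    refine ⟨M24.mul_mem ha hb, fun p hp => ?_⟩
    rw [Equiv.Perm.mul_apply, hb' p hp, ha' p hp]
  one_mem' := ⟨M24.one_mem, fun _ _ => rfl⟩
  inv_mem' := by
    rintro a ⟨ha, ha'⟩
    refine ⟨M24.inv_mem ha, fun p hp => ?_⟩
    rw [Equiv.Perm.inv_eq_iff_eq, ha' p hp]

theorem la_mem_Q {t q : Equiv.Perm GolayPt} :
    q ∈ la_Q t ↔ q ∈ M24 ∧ ∀ p, t p = p → q p = p := Iff.rfl

theorem la_conj_mem {t q u : Equiv.Perm GolayPt} (hq : q ∈ la_Q t) (hu : u ∈ M24) :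
    u * q * u⁻¹ ∈ la_Q (u * t * u⁻¹) := by
  obtain ⟨hq1, hq2⟩ := hq
  refine ⟨M24.mul_mem (M24.mul_mem hu hq1) (M24.inv_mem hu), fun p hp => ?_⟩
  have h1 : t (u⁻¹ p) = u⁻¹ p := by
    have := congrArg (fun x => u⁻¹ x) hp
    simpa [Equiv.Perm.mul_apply] using this
  rw [Equiv.Perm.mul_apply, Equiv.Perm.mul_apply, hq2 _ h1]
  simp

theorem la_fperm_pt {L : List ℕ} (hv : ValidT L) {i : ℕ} (hi : i < 24) :
    fperm L (pt i) = pt (L.getD i 0) := by
  rw [fperm_apply hv]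
  unfold tblFun
  rw [idx_pt hi]

/-- The standard involution with eight fixed points `0, 12, 14, 16, 17, 18, 22, 23`. -/
def la_T0 : List ℕ :=
  [0, 2, 1, 5, 13, 3, 10, 15, 11, 21, 6, 8, 12, 4, 14, 7, 16, 17, 18, 20, 19, 9, 22, 23]

/-- The 16 tables of the pointwise stabiliser of the octad `0, 12, 14, 16, 17, 18, 22, 23`. -/
def la_Q16 : List (List ℕ) :=
  K5L.filter fun L => L.getD 18 0 == 18 && L.getD 22 0 == 22 && L.getD 23 0 == 23

set_option maxRecDepth 100000 in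
theorem la_checks : okK la_T0 = true ∧ la_T0 ∈ la_Q16 ∧ (∀ L ∈ la_Q16, okK L = true) ∧
    (∀ L ∈ la_Q16, compTbl L L = List.range 24) ∧
    (∀ L ∈ la_Q16, ∀ i < 24, la_T0.getD i 0 = i → L.getD i 0 = i) ∧
    (∀ r < 24, la_T0.getD r 0 ≠ r → ∃ L ∈ la_Q16, L.getD 1 0 = r) ∧
    (∀ i < 24, la_T0.getD i 0 = i → i = 0 ∨ i = 12 ∨ i = 14 ∨ i = 16 ∨ i = 17 ∨ i = 18 ∨
      i = 22 ∨ i = 23) ∧ compTbl la_T0 la_T0 = List.range 24 ∧ la_T0 ≠ List.range 24 := by
  decide +kernel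

theorem la_T0_valid : ValidT la_T0 := okK_valid la_checks.1

theorem la_t0_mem : fperm la_T0 ∈ M24 := fperm_mem la_checks.1

theorem la_t0_fixed {p : GolayPt} (hp : fperm la_T0 p = p) :
    la_T0.getD (idx p) 0 = idx p := by
  rw [← pt_idx p, la_fperm_pt la_T0_valid (idx_lt p)] at hp
  exact pt_injOn (getD_lt_of_valid la_T0_valid.2.1 _) (idx_lt p) hp

theorem la_fperm_mem_Q {L : List ℕ} (hL : L ∈ la_Q16) : fperm L ∈ la_Q (fperm la_T0) := by
  have hok := la_checks.2.2.1 L hL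
  refine ⟨fperm_mem hok, fun p hp => ?_⟩
  have h1 := la_checks.2.2.2.2.1 L hL (idx p) (idx_lt p) (la_t0_fixed hp)
  rw [← pt_idx p, la_fperm_pt (okK_valid hok) (idx_lt p), h1]

theorem la_tbl_mem {q : Equiv.Perm GolayPt} (hq : q ∈ la_Q (fperm la_T0)) : tblOf q ∈ la_Q16 := by
  obtain ⟨hq1, hq2⟩ := hq
  have hfix : ∀ i < 24, la_T0.getD i 0 = i → q (pt i) = pt i := by
    intro i hi h
    apply hq2
    rw [la_fperm_pt la_T0_valid hi, h]
  have hK : q ∈ Cfsg.Agent.Lib.helper3.Kfix 5 := by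
    rw [Cfsg.Agent.Lib.helper3.mem_Kfix]
    refine ⟨hq1, fun j hj => ?_⟩
    rw [bpt_eq hj]
    interval_cases j
    · exact hfix 0 (by norm_num) (by decide)
    · exact hfix 12 (by norm_num) (by decide)
    · exact hfix 14 (by norm_num) (by decide)
    · exact hfix 16 (by norm_num) (by decide)
    · exact hfix 17 (by norm_num) (by decide)
  unfold la_Q16
  rw [List.mem_filter]
  refine ⟨tblOf_mem_K5L hK, ?_⟩
  have h18 : (tblOf q).getD 18 0 = 18 := by
    rw [tblOf_getD q (by norm_num), hfix 18 (by norm_num) (by decide), idx_pt (by norm_num)]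
  have h22 : (tblOf q).getD 22 0 = 22 := by
    rw [tblOf_getD q (by norm_num), hfix 22 (by norm_num) (by decide), idx_pt (by norm_num)]
  have h23 : (tblOf q).getD 23 0 = 23 := by
    rw [tblOf_getD q (by norm_num), hfix 23 (by norm_num) (by decide), idx_pt (by norm_num)]
  rw [h18, h22, h23]
  rfl

theorem la_std_sq {q : Equiv.Perm GolayPt} (hq : q ∈ la_Q (fperm la_T0)) : q * q = 1 := by
  apply tblOf_injective
  rw [tblOf_mul, la_checks.2.2.2.1 _ (la_tbl_mem hq), tblOf_one]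

theorem la_std_comm {a b : Equiv.Perm GolayPt} (ha : a ∈ la_Q (fperm la_T0))
    (hb : b ∈ la_Q (fperm la_T0)) : a * b = b * a := by
  have h1 := la_std_sq ha
  have h2 := la_std_sq hb
  have h3 := la_std_sq ((la_Q (fperm la_T0)).mul_mem ha hb)
  calc a * b = a * (a * b * (a * b)) * b := by rw [h3, mul_one]
    _ = (a * a) * b * a * (b * b) := by group
    _ = b * a := by rw [h1, h2, one_mul, mul_one]

theorem la_std_cent {y : Equiv.Perm GolayPt} (hy : y ∈ M24)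
    (hc : ∀ q ∈ la_Q (fperm la_T0), y * q = q * y) : y ∈ la_Q (fperm la_T0) := by
  have ht0Q : fperm la_T0 ∈ la_Q (fperm la_T0) := la_fperm_mem_Q la_checks.2.1
  have hyt := hc _ ht0Q
  -- the image of the moved point `1` is moved
  have hmoved : la_T0.getD (idx (y (pt 1))) 0 ≠ idx (y (pt 1)) := by
    intro h
    have h1 : fperm la_T0 (y (pt 1)) = y (pt 1) := by
      rw [← pt_idx (y (pt 1)), la_fperm_pt la_T0_valid (idx_lt _), h]
    have h2 : fperm la_T0 (y (pt 1)) = y (fperm la_T0 (pt 1)) := by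
      have := congrArg (fun f : Equiv.Perm GolayPt => f (pt 1)) hyt
      simpa [Equiv.Perm.mul_apply] using this.symm
    rw [h2] at h1
    have h3 := y.injective h1
    rw [la_fperm_pt la_T0_valid (by norm_num)] at h3
    have := pt_injOn (by decide) (by norm_num) h3
    revert this
    decide
  obtain ⟨L0, hL0, hL01⟩ := la_checks.2.2.2.2.2.1 _ (idx_lt _) hmoved
  have hq0 := la_fperm_mem_Q hL0
  have hq0v := okK_valid (la_checks.2.2.1 L0 hL0)
  -- `z = q0⁻¹ y` fixes the moved points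
  have hz1 : ((fperm L0)⁻¹ * y) (pt 1) = pt 1 := by
    rw [Equiv.Perm.mul_apply, Equiv.Perm.inv_eq_iff_eq, la_fperm_pt hq0v (by norm_num), hL01, pt_idx]
  have hzc : ∀ q ∈ la_Q (fperm la_T0), ((fperm L0)⁻¹ * y) * q = q * ((fperm L0)⁻¹ * y) := by
    intro q hq
    have e1 := hc q hq
    have e2 := la_std_comm hq0 hq
    have e3 : (fperm L0)⁻¹ * q = q * (fperm L0)⁻¹ := by
      rw [inv_mul_eq_iff_eq_mul, ← mul_assoc, e2, mul_assoc, mul_inv_cancel, mul_one]
    rw [mul_assoc, e1, ← mul_assoc, e3, mul_assoc]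
  have hzfix : ∀ r < 24, la_T0.getD r 0 ≠ r → ((fperm L0)⁻¹ * y) (pt r) = pt r := by
    intro r hr hne
    obtain ⟨L, hL, hL1⟩ := la_checks.2.2.2.2.2.1 r hr hne
    have hv := okK_valid (la_checks.2.2.1 L hL)
    have e : pt r = fperm L (pt 1) := by rw [la_fperm_pt hv (by norm_num), hL1]
    rw [e]
    have := congrArg (fun f : Equiv.Perm GolayPt => f (pt 1)) (hzc _ (la_fperm_mem_Q hL))
    simp only [Equiv.Perm.mul_apply] at this
    rw [Equiv.Perm.mul_apply] at hz1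
    rw [Equiv.Perm.mul_apply, this, hz1]
  have hz : (fperm L0)⁻¹ * y = 1 := by
    refine M24_rigid (M24.mul_mem (M24.inv_mem hq0.1) hy)
      ({pt 1, pt 2, pt 3, pt 4, pt 5, pt 6, pt 7, pt 8, pt 9} : Finset GolayPt) (by decide) ?_
    intro p hp
    simp only [Finset.mem_insert, Finset.mem_singleton] at hp
    rcases hp with rfl | rfl | rfl | rfl | rfl | rfl | rfl | rfl | rfl
    · exact hzfix 1 (by norm_num) (by decide)
    · exact hzfix 2 (by norm_num) (by decide)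
    · exact hzfix 3 (by norm_num) (by decide)
    · exact hzfix 4 (by norm_num) (by decide)
    · exact hzfix 5 (by norm_num) (by decide)
    · exact hzfix 6 (by norm_num) (by decide)
    · exact hzfix 7 (by norm_num) (by decide)
    · exact hzfix 8 (by norm_num) (by decide)
    · exact hzfix 9 (by norm_num) (by decide)
  have : y = fperm L0 := by
    rw [inv_mul_eq_one] at hz
    exact hz.symm
  rw [this]
  exact hq0

/-- LA: involutions of `M24` with a fixed point (class `2A`): the pointwise stabiliser `Q ≅ 2^4` of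
the fixed octad is normalised by the centralizer and self-centralizing. -/
theorem local2A (t : Equiv.Perm GolayPt) (ht : t ∈ M24) (h2 : t * t = 1) (h1 : t ≠ 1)
    (hf : ∃ p, t p = p) :
    ∃ Q : Subgroup (Equiv.Perm GolayPt), Q ≤ M24 ∧ (∀ q ∈ Q, ∀ p, t p = p → q p = p) ∧
      (∀ q ∈ Q, q * q = 1) ∧
      (∀ g ∈ M24, g * t = t * g → ∀ q ∈ Q, g * q * g⁻¹ ∈ Q) ∧
      (∀ y ∈ M24, y * t = t * y → (∀ q ∈ Q, y * q = q * y) → y ∈ Q) := by
  -- conjugate `t` to the standard involution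
  have ht2 : t ^ 2 = 1 := by rw [pow_two]; exact h2
  obtain ⟨-, w1, hw1, e1⟩ := class2A ht ht2 h1 hf
  have h02 : fperm la_T0 ^ 2 = 1 := by
    rw [pow_two]
    apply tblOf_injective
    rw [tblOf_mul, tblOf_fperm la_T0_valid, la_checks.2.2.2.2.2.2.2.1, tblOf_one]
  have h01 : fperm la_T0 ≠ 1 := by
    intro h
    have := congrArg tblOf h
    rw [tblOf_fperm la_T0_valid, tblOf_one] at this
    exact la_checks.2.2.2.2.2.2.2.2 this
  have h0f : ∃ p, fperm la_T0 p = p :=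
    ⟨pt 0, by rw [la_fperm_pt la_T0_valid (by norm_num)]; rfl⟩
  obtain ⟨-, w0, hw0, e0⟩ := class2A la_t0_mem h02 h01 h0f
  -- `t = u t0 u⁻¹`
  obtain ⟨u, hu, hut⟩ : ∃ u ∈ M24, u * fperm la_T0 * u⁻¹ = t := by
    refine ⟨w1⁻¹ * w0, M24.mul_mem (M24.inv_mem hw1) hw0, ?_⟩
    calc w1⁻¹ * w0 * fperm la_T0 * (w1⁻¹ * w0)⁻¹ = w1⁻¹ * (w0 * fperm la_T0 * w0⁻¹) * w1 := by
          group
      _ = w1⁻¹ * (w1 * t * w1⁻¹) * w1 := by rw [e0, e1]
      _ = t := by group
  have hut' : u⁻¹ * t * u⁻¹⁻¹ = fperm la_T0 := by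
    rw [← hut]
    group
  refine ⟨la_Q t, fun q hq => hq.1, fun q hq => hq.2, ?_, ?_, ?_⟩
  · intro q hq
    have h := la_conj_mem hq (M24.inv_mem hu)
    rw [hut'] at h
    have h' := la_std_sq h
    calc q * q = u * (u⁻¹ * q * u⁻¹⁻¹ * (u⁻¹ * q * u⁻¹⁻¹)) * u⁻¹ := by group
      _ = 1 := by rw [h']; group
  · rintro g hg hgt q ⟨hq1, hq2⟩
    refine ⟨M24.mul_mem (M24.mul_mem hg hq1) (M24.inv_mem hg), fun p hp => ?_⟩
    have hgt' : t (g⁻¹ p) = g⁻¹ p := by
      have e : g⁻¹ * t = t * g⁻¹ := by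
        rw [inv_mul_eq_iff_eq_mul, ← mul_assoc, hgt, mul_assoc, mul_inv_cancel, mul_one]
      have := congrArg (fun f : Equiv.Perm GolayPt => f p) e
      simp only [Equiv.Perm.mul_apply] at this
      rw [← this, hp]
    rw [Equiv.Perm.mul_apply, Equiv.Perm.mul_apply, hq2 _ hgt']
    simp
  · intro y hy _ hc
    have hy' : u⁻¹ * y * u⁻¹⁻¹ ∈ la_Q (fperm la_T0) := by
      apply la_std_cent (M24.mul_mem (M24.mul_mem (M24.inv_mem hu) hy) (M24.inv_mem (M24.inv_mem hu)))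
      intro q0 hq0
      have hq := la_conj_mem hq0 hu
      rw [hut] at hq
      have e := hc _ hq
      calc u⁻¹ * y * u⁻¹⁻¹ * q0 = u⁻¹ * (y * (u * q0 * u⁻¹)) * u := by group
        _ = u⁻¹ * (u * q0 * u⁻¹ * y) * u := by rw [e]
        _ = q0 * (u⁻¹ * y * u⁻¹⁻¹) := by group
    have h := la_conj_mem hy' hu
    rw [hut] at h
    have e : u * (u⁻¹ * y * u⁻¹⁻¹) * u⁻¹ = y := by group
    rwa [e] at h

end Cfsg.Agent.Lib.Helper26.SB
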