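import Mathlib
import Cfsg.Agent.Lib.Helper26.SBC22

set_option autoImplicit false

namespace Cfsg.Agent.Lib.Helper26.SB

open Cfsg Cfsg.Agent.Lib.helper4 Cfsg.Agent.Lib.Helper12.Golay
open scoped Pointwise

theorem c22_mem_M22_iff (g : Equiv.Perm GolayPt) :
    g ∈ Cfsg.Spor.M22 ↔ g ∈ M24 ∧ g none = none ∧ g (some 0) = some 0 := by
  unfold Cfsg.Spor.M22 Cfsg.Spor.M23
  rw [Subgroup.mem_inf, Subgroup.mem_inf, MulAction.mem_stabilizer_iff,
    MulAction.mem_stabilizer_iff, and_assoc]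
  rfl

theorem c22_fperm_range : fperm (List.range 24) = 1 :=
  (eq_fperm_of_tblOf (by decide) tblOf_one).symm

theorem c22_fperm_pt {L : List ℕ} (hv : ValidT L) {i : ℕ} (hi : i < 24) :
    fperm L (pt i) = pt (L.getD i 0) := by
  rw [fperm_apply hv]
  unfold tblFun
  rw [idx_pt hi]

theorem c22_fam_complete : ∀ q < 24, q ∉ [0, 12, 16, 17] → ∃ Hc ∈ c22_fam,
    Hc.1.getD 0 0 = 0 ∧ Hc.1.getD 12 0 = 12 ∧ Hc.1.getD 14 0 = 16 ∧ Hc.1.getD 16 0 = 17 ∧
      Hc.1.getD 17 0 = q := by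
  decide

theorem c22_reps_valid : ∀ i < 7, ValidT (reps22.getD i []) ∧ reps22.getD i [] ∈ reps22 := by
  decide

theorem c22_K5L_getD {K : List ℕ} (hK : K ∈ K5L) : ∃ n < 48, K5L.getD n [] = K := by
  obtain ⟨n, hn, e⟩ := List.mem_iff_getElem.mp hK
  have h48 : K5L.length = 48 := by decide
  refine ⟨n, by omega, ?_⟩
  rw [List.getD_eq_getElem _ _ hn, e]

/-- Even powers of `g` fix `x` when `g (g x) = x`. -/
theorem c22_even_pow_fix {g : Equiv.Perm GolayPt} {x : GolayPt} (h : g (g x) = x) (k : ℕ) :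
    (g ^ (2 * k)) x = x := by
  induction k with
  | zero => simp
  | succ k ih =>
    rw [Nat.mul_succ, pow_add, Equiv.Perm.mul_apply, pow_two, Equiv.Perm.mul_apply, h, ih]

theorem c22_no_two_cycle {g : Equiv.Perm GolayPt} (hp : g ^ 239085 = 1) {x : GolayPt}
    (h : g (g x) = x) : g x = x := by
  have h1 : (g ^ (2 * 119542 + 1)) x = g x := by
    rw [pow_succ, Equiv.Perm.mul_apply]
    exact c22_even_pow_fix (x := g x) (by rw [h]) 119542
  have e : 2 * 119542 + 1 = 239085 := by norm_num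
  rw [e, hp] at h1
  exact h1.symm

/-- The conclusion extracted from the certificate. -/
theorem c22_cert {g' : Equiv.Perm GolayPt} (hg' : g' ∈ M24) (hp : g' ^ 239085 = 1)
    {Hc : List ℕ × List (ℕ × List ℕ)} (hHc : Hc ∈ c22_fam)
    (hag : ∀ j < 5, g' (pt (b5 j)) = pt (Hc.1.getD (b5 j) 0)) :
    ∃ v ∈ M24, v (pt 0) = pt 23 ∧ v (pt 12) = pt 0 ∧ ∃ R ∈ reps22, v * g' * v⁻¹ = fperm R := by
  have h1 := c22_check_all Hc hHc
  unfold c22_checkH at h1
  rw [Bool.and_eq_true] at h1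
  obtain ⟨hok, h2⟩ := h1
  obtain ⟨K, hK, e⟩ := enum5 hg' hok hag
  obtain ⟨n, hn, hKn⟩ := c22_K5L_getD hK
  rw [List.all_eq_true] at h2
  have h3 := h2 n (List.mem_range.mpr hn)
  rw [forceList_eq, hKn, ← e, c22_oddT_of_pow hp] at h3
  simp only [Bool.not_true, Bool.false_or, Bool.and_eq_true, beq_iff_eq] at h3
  obtain ⟨⟨⟨⟨hi, hVok⟩, hV0⟩, hV12⟩, hconj⟩ := h3
  have hi' : (Hc.2.getD n (0, [])).1 < 7 := by
    rw [Nat.blt_eq] at hi
    exact hi
  set V := (Hc.2.getD n (0, [])).2 with hV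
  set i := (Hc.2.getD n (0, [])).1 with hidef
  obtain ⟨hRv, hRm⟩ := c22_reps_valid i hi'
  have hVv := okK_valid hVok
  refine ⟨fperm V, fperm_mem hVok, ?_, ?_, reps22.getD i [], hRm, ?_⟩
  · rw [c22_fperm_pt hVv (by norm_num), hV0]
  · rw [c22_fperm_pt hVv (by norm_num), hV12]
  · have : fperm V * g' = fperm (reps22.getD i []) * fperm V := by
      apply tblOf_injective
      rw [tblOf_mul, tblOf_mul, tblOf_fperm hVv, tblOf_fperm hRv, hconj]
    rw [this]
    group

/-- C22: every element of odd order of `M22` is `M22`-conjugate to one of the 7 representatives. -/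
theorem class22 (g : Equiv.Perm GolayPt) (hg : g ∈ Cfsg.Spor.M22) (ho : ¬ 2 ∣ orderOf g) :
    ∃ w ∈ Cfsg.Spor.M22, ∃ R ∈ reps22, w * g * w⁻¹ = fperm R := by
  by_cases h1 : g = 1
  · subst h1
    refine ⟨1, Subgroup.one_mem _, List.range 24, by decide, ?_⟩
    rw [c22_fperm_range]
    group
  obtain ⟨hg24, hgn, hg0⟩ := (c22_mem_M22_iff g).mp hg
  have hp := c22_odd_pow hg24 ho
  obtain ⟨x, hx⟩ : ∃ x, g x ≠ x := by
    by_contra hall
    push Not at hall
    exact h1 (Equiv.ext hall)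
  -- the three points
  have d01 : x ≠ g x := fun h => hx h.symm
  have d12 : g x ≠ g (g x) := fun h => hx (g.injective h).symm
  have d02 : x ≠ g (g x) := fun h => hx (c22_no_two_cycle hp h.symm)
  have hxn : x ≠ none := fun h => hx (by rw [h, hgn])
  have hx0 : x ≠ some 0 := fun h => hx (by rw [h, hg0])
  have hx1n : g x ≠ none := fun h => hxn (g.injective (by rw [h, hgn]))
  have hx10 : g x ≠ some 0 := fun h => hx0 (g.injective (by rw [h, hg0]))
  have hx2n : g (g x) ≠ none := fun h => hx1n (g.injective (by rw [h, hgn]))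
  have hx20 : g (g x) ≠ some 0 := fun h => hx10 (g.injective (by rw [h, hg0]))
  have hnd : [none, some 0, x, g x, g (g x)].Nodup := by
    simp only [List.nodup_cons, List.mem_cons, List.not_mem_nil, or_false, not_or,
      List.nodup_nil, and_true]
    exact ⟨⟨by simp, Ne.symm hxn, Ne.symm hx1n, Ne.symm hx2n⟩,
      ⟨Ne.symm hx0, Ne.symm hx10, Ne.symm hx20⟩, ⟨d01, d02⟩, d12, not_false⟩
  obtain ⟨k, hk, hkx, hg', hact⟩ := conj_base hg24 (emb5 none (some 0) x (g x) (g (g x)) hnd)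
  have k0 : k none = pt 0 := hkx 0
  have k1 : k (some 0) = pt 12 := hkx 1
  have k2 : k x = pt 14 := hkx 2
  have k3 : k (g x) = pt 16 := hkx 3
  have k4 : k (g (g x)) = pt 17 := hkx 4
  have a0 : (k * g * k⁻¹) (pt 0) = pt 0 := by
    have := hact 0
    show (k * g * k⁻¹) (pt 0) = pt 0
    rw [show pt (b5 (0 : Fin 5)) = pt 0 from rfl] at this
    rw [this]
    show k (g none) = pt 0
    rw [hgn, k0]
  have a1 : (k * g * k⁻¹) (pt 12) = pt 12 := by
    have := hact 1
    rw [show pt (b5 (1 : Fin 5)) = pt 12 from rfl] at this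
    rw [this]
    show k (g (some 0)) = pt 12
    rw [hg0, k1]
  have a2 : (k * g * k⁻¹) (pt 14) = pt 16 := by
    have := hact 2
    rw [show pt (b5 (2 : Fin 5)) = pt 14 from rfl] at this
    rw [this]
    exact k3
  have a3 : (k * g * k⁻¹) (pt 16) = pt 17 := by
    have := hact 3
    rw [show pt (b5 (3 : Fin 5)) = pt 16 from rfl] at this
    rw [this]
    exact k4
  have a4 : (k * g * k⁻¹) (pt 17) = k (g (g (g x))) := by
    have := hact 4
    rw [show pt (b5 (4 : Fin 5)) = pt 17 from rfl] at this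
    rw [this]
    rfl
  -- the image of the fifth base point
  have hq : idx (k (g (g (g x)))) ∉ [0, 12, 16, 17] := by
    have inj : ∀ {a : GolayPt} {m : ℕ}, m < 24 → k a = pt m → idx (k (g (g (g x)))) = m →
        g (g (g x)) = a := by
      intro a m hm ha h
      apply k.injective
      rw [ha, ← h, pt_idx]
    simp only [List.mem_cons, List.not_mem_nil, or_false, not_or]
    refine ⟨fun h => ?_, fun h => ?_, fun h => ?_, fun h => ?_⟩
    · exact hx2n (g.injective (by rw [inj (by norm_num) k0 h, hgn]))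
    · exact hx20 (g.injective (by rw [inj (by norm_num) k1 h, hg0]))
    · exact d02 (g.injective (inj (by norm_num) k3 h)).symm
    · exact d12 (g.injective (inj (by norm_num) k4 h)).symm
  obtain ⟨Hc, hHc, c0, c1, c2, c3, c4⟩ := c22_fam_complete _ (idx_lt _) hq
  have hp' : (k * g * k⁻¹) ^ 239085 = 1 := conj_pow_eq_one hp k
  obtain ⟨v, hv, hv0, hv12, R, hR, e⟩ := c22_cert hg' hp' hHc (by
    intro j hj
    interval_cases j
    · show (k * g * k⁻¹) (pt 0) = pt (Hc.1.getD 0 0)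
      rw [a0, c0]
    · show (k * g * k⁻¹) (pt 12) = pt (Hc.1.getD 12 0)
      rw [a1, c1]
    · show (k * g * k⁻¹) (pt 14) = pt (Hc.1.getD 14 0)
      rw [a2, c2]
    · show (k * g * k⁻¹) (pt 16) = pt (Hc.1.getD 16 0)
      rw [a3, c3]
    · show (k * g * k⁻¹) (pt 17) = pt (Hc.1.getD 17 0)
      rw [a4, c4, pt_idx])
  refine ⟨v * k, ?_, R, hR, conj_conj e⟩
  rw [c22_mem_M22_iff]
  refine ⟨M24.mul_mem hv hk, ?_, ?_⟩
  · rw [Equiv.Perm.mul_apply, k0, hv0]
    rfl
  · rw [Equiv.Perm.mul_apply, k1, hv12]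
    rfl

end Cfsg.Agent.Lib.Helper26.SB
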