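import Mathlib

set_option autoImplicit false
set_option linter.unusedVariables false
set_option linter.unusedSectionVars false
set_option linter.style.haveILetI false

namespace Cfsg.Agent.Lib.helper8.SFO

open Matrix Polynomial

/-- FIXF0 [S-M]: `F₀` is the set of fixed points of `a ↦ a ^ q₀`. -/
theorem mem_F0_iff {F : Type*} [Field F] [Fintype F] (F₀ : Subfield F) (q₀ : ℕ)
    (hF₀ : Nat.card ↥F₀ = q₀) (a : F) : a ∈ F₀ ↔ a ^ q₀ = a := by
  classical
  haveI : Fintype ↥F₀ := Fintype.ofFinite _
  have hcard : Fintype.card ↥F₀ = q₀ := by rw [← hF₀, Nat.card_eq_fintype_card]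
  have hfwd : ∀ b : F, b ∈ F₀ → b ^ q₀ = b := by
    intro b hb
    have := FiniteField.pow_card (⟨b, hb⟩ : ↥F₀)
    rw [hcard] at this
    have h2 := congrArg (Subtype.val) this
    simpa using h2
  refine ⟨hfwd a, fun ha => ?_⟩
  -- roots of X^q₀ - X
  have hq1 : 1 < q₀ := by
    rw [← hcard]; exact Fintype.one_lt_card
  set P : F[X] := X ^ q₀ - X with hP
  have hdeg : P.natDegree = q₀ := FiniteField.X_pow_card_sub_X_natDegree_eq F hq1
  have hP0 : P ≠ 0 := FiniteField.X_pow_card_sub_X_ne_zero F hq1
  -- the image of F₀ in F as a finset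
  set S : Finset F := (Finset.univ : Finset ↥F₀).map ⟨Subtype.val, Subtype.val_injective⟩ with hS
  have hScard : S.card = q₀ := by rw [hS, Finset.card_map, Finset.card_univ, hcard]
  have hSsub : S ⊆ P.roots.toFinset := by
    intro b hb
    rw [hS, Finset.mem_map] at hb
    obtain ⟨c, _, rfl⟩ := hb
    rw [Multiset.mem_toFinset, mem_roots hP0, IsRoot.def, hP]
    simp only [eval_sub, eval_pow, eval_X]
    have := hfwd c.1 c.2
    simp only [Function.Embedding.coeFn_mk]
    rw [this, sub_self]
  have hle : P.roots.toFinset.card ≤ q₀ := by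
    calc P.roots.toFinset.card ≤ Multiset.card P.roots := Multiset.toFinset_card_le _
      _ ≤ P.natDegree := card_roots' P
      _ = q₀ := hdeg
  have hEq : S = P.roots.toFinset := by
    apply Finset.eq_of_subset_of_card_le hSsub
    rw [hScard]; exact hle
  have ha' : a ∈ P.roots.toFinset := by
    rw [Multiset.mem_toFinset, mem_roots hP0, IsRoot.def, hP]
    simp only [eval_sub, eval_pow, eval_X]
    rw [ha, sub_self]
  rw [← hEq, hS, Finset.mem_map] at ha'
  obtain ⟨c, _, rfl⟩ := ha'
  exact c.2

end Cfsg.Agent.Lib.helper8.SFO
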