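import Mathlib

set_option autoImplicit false
set_option linter.unusedVariables false
set_option linter.unusedSectionVars false
set_option linter.style.haveILetI false

namespace Cfsg.Agent.Lib.helper8.SFO

open Matrix Polynomial

/-- FROBCHAR [M]. -/
theorem charpoly_frob {K : Type*} [Field K] {p : ℕ} [Fact p.Prime] [CharP K p] {m : Type*}
    [Fintype m] [DecidableEq m] (M : Matrix m m K) (j : ℕ) :
    (M.map (fun a => a ^ (p ^ j))).charpoly = (M ^ (p ^ j)).charpoly := by
  classical
  cases (isEmpty_or_nonempty m).symm
  · haveI : ExpChar K p := ExpChar.prime (Fact.out)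
    have h1 : (M.map (fun a => a ^ (p ^ j))) = M.map (iterateFrobenius K p j) := by
      ext a b; simp [iterateFrobenius_def]
    rw [h1, Matrix.charpoly_map]
    apply Polynomial.expand_injective (R := K) (n := p ^ j) (Nat.pow_pos (Fact.out : p.Prime).pos)
    rw [← Polynomial.map_expand, Polynomial.map_iterateFrobenius_expand]
    unfold Matrix.charpoly
    rw [AlgHom.map_det, ← coe_detMonoidHom, ← (detMonoidHom : Matrix m m K[X] →* K[X]).map_pow]
    apply congr_arg det
    refine matPolyEquiv.injective ?_
    rw [map_pow, matPolyEquiv_charmatrix, sub_pow_char_pow_of_commute, ← C_pow]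
    · exact (id (matPolyEquiv_eq_X_pow_sub_C (p ^ j) M) :).symm
    · exact (C M).commute_X
  · exact congr_arg _ (Subsingleton.elim _ _)

end Cfsg.Agent.Lib.helper8.SFO
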