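import Mathlib
import Cfsg.Agent.Lib.Helper26.SFOFIXF0
import Cfsg.Agent.Lib.Helper26.SFOFROBCHAR

set_option autoImplicit false
set_option linter.unusedVariables false
set_option linter.unusedSectionVars false
set_option linter.style.haveILetI false

namespace Cfsg.Agent.Lib.helper8.SFO

open Matrix Polynomial

/-- `q₀ = |F₀|` is a power of the characteristic. -/
theorem sfocharrat_q0 {F : Type*} [Field F] [Fintype F] {p : ℕ} [Fact p.Prime] [CharP F p]
    (F₀ : Subfield F) (q₀ : ℕ) (hF₀ : Nat.card ↥F₀ = q₀) : ∃ j : ℕ, q₀ = p ^ j := by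
  classical
  haveI : Fintype ↥F₀ := Fintype.ofFinite _
  haveI : CharP ↥F₀ p := by
    have : CharP (↥F₀.toSubring) p := inferInstance
    exact this
  obtain ⟨j, _, hj⟩ := FiniteField.card (↥F₀) p
  exact ⟨j, by rw [← hF₀, Nat.card_eq_fintype_card, hj]⟩

/-- a polynomial whose coefficients are fixed by `a ↦ a ^ q₀` is defined over `F₀`. -/
theorem sfocharrat_lift {F : Type*} [Field F] [Fintype F] (F₀ : Subfield F) (q₀ : ℕ)
    (hF₀ : Nat.card ↥F₀ = q₀) (P : F[X]) (h : ∀ i, (P.coeff i) ^ q₀ = P.coeff i) :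
    ∃ c₀ : Polynomial ↥F₀, P = c₀.map F₀.subtype := by
  have : P ∈ Polynomial.lifts F₀.subtype := by
    rw [Polynomial.lifts_iff_coeff_lifts]
    intro i
    have hi : P.coeff i ∈ F₀ := (mem_F0_iff F₀ q₀ hF₀ _).2 (h i)
    exact ⟨⟨P.coeff i, hi⟩, rfl⟩
  obtain ⟨c₀, hc₀⟩ := (Polynomial.mem_lifts _).1 this
  exact ⟨c₀, hc₀.symm⟩

/-- CHARRAT [M]. -/
theorem charpoly_rat {F : Type*} [Field F] [Fintype F] {p : ℕ} [Fact p.Prime] [CharP F p] {q : ℕ}
    (hq : Fintype.card F = q) (F₀ : Subfield F) (q₀ r : ℕ) [Fact r.Prime] (hF₀ : Nat.card ↥F₀ = q₀)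
    (hqk : q = q₀ ^ r) {n : ℕ} (y : Matrix (Fin n) (Fin n) F) (hy : y ^ r = 1) :
    ∃ c₀ : Polynomial ↥F₀, y.charpoly = c₀.map F₀.subtype := by
  classical
  have hr : r.Prime := Fact.out
  obtain ⟨j, hj⟩ := sfocharrat_q0 (p := p) F₀ q₀ hF₀
  haveI : ExpChar F p := ExpChar.prime (Fact.out)
  -- q ≡ q₀ mod r, q₀ ≤ q
  have hmod : q ≡ q₀ [MOD r] := by
    rw [← ZMod.natCast_eq_natCast_iff, hqk]
    push_cast
    exact ZMod.pow_card _
  have hq0pos : 0 < q₀ := by rw [hj]; exact Nat.pow_pos (Fact.out : p.Prime).pos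
  have hle : q₀ ≤ q := by
    rw [hqk]
    calc q₀ = q₀ ^ 1 := (pow_one _).symm
      _ ≤ q₀ ^ r := Nat.pow_le_pow_right hq0pos hr.one_lt.le
  obtain ⟨t, ht⟩ : ∃ t, q = q₀ + r * t := by
    have := (Nat.modEq_iff_dvd' hle).1 hmod.symm
    obtain ⟨t, ht⟩ := this
    exact ⟨t, by omega⟩
  have hyq : y ^ q = y ^ q₀ := by
    rw [ht, pow_add, pow_mul, hy, one_pow, mul_one]
  have h1 : (y.map (fun a => a ^ (p ^ j))) = y.map (iterateFrobenius F p j) := by
    ext a b; simp [iterateFrobenius_def]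
  have h2 := charpoly_frob (p := p) y j
  rw [h1, Matrix.charpoly_map, ← hj, ← hyq, ← hq, FiniteField.Matrix.charpoly_pow_card] at h2
  apply sfocharrat_lift F₀ q₀ hF₀
  intro i
  have := congrArg (fun P => P.coeff i) h2
  simp only [Polynomial.coeff_map, iterateFrobenius_def] at this
  rw [hj]; exact this

end Cfsg.Agent.Lib.helper8.SFO
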