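import Mathlib

set_option autoImplicit false
set_option linter.unusedVariables false
set_option linter.unusedSectionVars false
set_option linter.style.haveILetI false

namespace Cfsg.Agent.Lib.helper8.SFO

open Matrix Polynomial

/-- COMB1 [M]. -/
theorem comb_one {F : Type*} [Field F] [DecidableEq F] (n q₀ : ℕ) (hn3 : 3 ≤ n) (l : F) (hl1 : l ≠ 1)
    (hlq : l ^ q₀ ≠ l) (ν₀ : F) (hν₀ : ν₀ ≠ 0) (ν : F) (hν : ν ≠ 0) :
    ¬ ∀ b : F,
      (Finset.univ.filter (fun i : Fin n => ν * (if i.val = 0 then ν₀⁻¹ * l else ν₀⁻¹) = b)).card =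
      (Finset.univ.filter (fun i : Fin n => ν * (if i.val = 0 then ν₀⁻¹ * l else ν₀⁻¹) = b ^ q₀)).card := by
  intro H
  set β : F := ν * ν₀⁻¹ with hβ
  have hβ0 : β ≠ 0 := mul_ne_zero hν (inv_ne_zero hν₀)
  set a : Fin n → F := fun i => ν * (if i.val = 0 then ν₀⁻¹ * l else ν₀⁻¹) with ha
  have ha0 : ∀ i : Fin n, i.val = 0 → a i = β * l := by
    intro i hi; simp only [ha, hi, if_true, hβ]; ring
  have ha1 : ∀ i : Fin n, i.val ≠ 0 → a i = β := by
    intro i hi; simp only [ha, hi, if_false, hβ]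
  have hne : β * l ≠ β := by
    intro h
    apply hl1
    have : β * l = β * 1 := by rw [h, mul_one]
    exact mul_left_cancel₀ hβ0 this
  set f : F → ℕ := fun b => (Finset.univ.filter (fun i : Fin n => a i = b)).card with hf
  have H' : ∀ b, f b = f (b ^ q₀) := H
  -- facts
  have h1 : ∀ c, 2 ≤ f c → c = β := by
    intro c hc
    have : 1 < (Finset.univ.filter (fun i : Fin n => a i = c)).card := hc
    obtain ⟨i, hi, k, hk, hik⟩ := Finset.one_lt_card.1 this
    rw [Finset.mem_filter] at hi hk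
    by_cases hi0 : i.val = 0
    · have hk0 : k.val ≠ 0 := by
        intro hk0; apply hik; exact Fin.ext (by omega)
      rw [← hk.2, ha1 k hk0]
    · rw [← hi.2, ha1 i hi0]
  have h2 : ∀ c, 1 ≤ f c → c = β ∨ c = β * l := by
    intro c hc
    have : 0 < (Finset.univ.filter (fun i : Fin n => a i = c)).card := hc
    obtain ⟨i, hi⟩ := Finset.card_pos.1 this
    rw [Finset.mem_filter] at hi
    by_cases hi0 : i.val = 0
    · right; rw [← hi.2, ha0 i hi0]
    · left; rw [← hi.2, ha1 i hi0]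
  have h3 : 2 ≤ f β := by
    have : 1 < (Finset.univ.filter (fun i : Fin n => a i = β)).card := by
      rw [Finset.one_lt_card]
      refine ⟨⟨1, by omega⟩, ?_, ⟨2, by omega⟩, ?_, ?_⟩
      · rw [Finset.mem_filter]; exact ⟨Finset.mem_univ _, ha1 _ (by simp)⟩
      · rw [Finset.mem_filter]; exact ⟨Finset.mem_univ _, ha1 _ (by simp)⟩
      · intro h; have := congrArg Fin.val h; simp at this
    exact this
  have h4 : 1 ≤ f (β * l) := by
    have : 0 < (Finset.univ.filter (fun i : Fin n => a i = β * l)).card := by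
      rw [Finset.card_pos]
      exact ⟨⟨0, by omega⟩, by rw [Finset.mem_filter]; exact ⟨Finset.mem_univ _, ha0 _ rfl⟩⟩
    exact this
  have hβq : β ^ q₀ = β := h1 _ (by rw [← H' β]; exact h3)
  have hβlq : (β * l) ^ q₀ = β * l := by
    rcases h2 _ (by rw [← H' (β * l)]; exact h4) with h | h
    · exfalso
      have : 2 ≤ f (β * l) := by rw [H' (β * l), h]; exact h3
      exact hne (h1 _ this)
    · exact h
  apply hlq
  rw [mul_pow, hβq] at hβlq
  exact mul_left_cancel₀ hβ0 hβlq

end Cfsg.Agent.Lib.helper8.SFO
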