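import Mathlib

set_option autoImplicit false
set_option linter.unusedVariables false
set_option linter.unusedSectionVars false
set_option linter.style.haveILetI false

namespace Cfsg.Agent.Lib.helper8.SFO

open Matrix Polynomial

/-- COMB2 [S-M]. -/
theorem comb_two {F : Type*} [Field F] [DecidableEq F] (q₀ : ℕ) (l : F) (hl0 : l ≠ 0)
    (hlq1 : l ^ (2 * q₀) ≠ 1)
    (hlq2 : l ^ (2 * q₀) ≠ l ^ 2 ∧ l ^ (2 * q₀) ≠ (l ^ 2)⁻¹) (ν : F) (hν : ν ≠ 0) :
    ¬ ∀ b : F,
      (Finset.univ.filter (fun i : Fin 2 => ν * (if i.val = 0 then l else l⁻¹) = b)).card =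
      (Finset.univ.filter (fun i : Fin 2 => ν * (if i.val = 0 then l else l⁻¹) = b ^ q₀)).card := by
  intro H
  set a : Fin 2 → F := fun i => ν * (if i.val = 0 then l else l⁻¹) with ha
  have ha0 : a 0 = ν * l := by simp [ha]
  have ha1 : a 1 = ν * l⁻¹ := by simp [ha]
  set f : F → ℕ := fun b => (Finset.univ.filter (fun i : Fin 2 => a i = b)).card with hf
  have H' : ∀ b, f b = f (b ^ q₀) := H
  have h2 : ∀ c, 1 ≤ f c → c = ν * l ∨ c = ν * l⁻¹ := by
    intro c hc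
    have : 0 < (Finset.univ.filter (fun i : Fin 2 => a i = c)).card := hc
    obtain ⟨i, hi⟩ := Finset.card_pos.1 this
    rw [Finset.mem_filter] at hi
    fin_cases i
    · left; rw [← hi.2]; exact ha0
    · right; rw [← hi.2]; exact ha1
  have h4 : ∀ i : Fin 2, 1 ≤ f (a i) := by
    intro i
    have : 0 < (Finset.univ.filter (fun k : Fin 2 => a k = a i)).card := by
      rw [Finset.card_pos]
      exact ⟨i, by rw [Finset.mem_filter]; exact ⟨Finset.mem_univ _, rfl⟩⟩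
    exact this
  have hA := h2 _ (by rw [← H' (a 0)]; exact h4 0)
  have hB := h2 _ (by rw [← H' (a 1)]; exact h4 1)
  rw [ha0] at hA
  rw [ha1] at hB
  have hνq : ν ^ q₀ ≠ 0 := pow_ne_zero _ hν
  have hlq0 : l ^ q₀ ≠ 0 := pow_ne_zero _ hl0
  have hratio : (ν * l) ^ q₀ = l ^ (2 * q₀) * (ν * l⁻¹) ^ q₀ := by
    rw [mul_pow, mul_pow, inv_pow, mul_comm 2 q₀, pow_mul]
    field_simp
  rcases hA with hA | hA <;> rcases hB with hB | hB
  · -- both ν l : ratio 1
    apply hlq1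
    rw [hA, hB] at hratio
    have h0 : ν * l ≠ 0 := mul_ne_zero hν hl0
    have : (1 : F) * (ν * l) = l ^ (2 * q₀) * (ν * l) := by rw [one_mul]; exact hratio
    exact (mul_right_cancel₀ h0 this).symm
  · -- (ν l, ν l⁻¹) : ratio l^2
    apply hlq2.1
    rw [hA, hB] at hratio
    have h0 : ν * l⁻¹ ≠ 0 := mul_ne_zero hν (inv_ne_zero hl0)
    have : l ^ 2 * (ν * l⁻¹) = l ^ (2 * q₀) * (ν * l⁻¹) := by
      rw [← hratio]; field_simp
    exact (mul_right_cancel₀ h0 this).symm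
  · -- (ν l⁻¹, ν l) : ratio l^-2
    apply hlq2.2
    rw [hA, hB] at hratio
    have h0 : ν * l ≠ 0 := mul_ne_zero hν hl0
    have : (l ^ 2)⁻¹ * (ν * l) = l ^ (2 * q₀) * (ν * l) := by
      rw [← hratio]; field_simp
    exact (mul_right_cancel₀ h0 this).symm
  · apply hlq1
    rw [hA, hB] at hratio
    have h0 : ν * l⁻¹ ≠ 0 := mul_ne_zero hν (inv_ne_zero hl0)
    have : (1 : F) * (ν * l⁻¹) = l ^ (2 * q₀) * (ν * l⁻¹) := by rw [one_mul]; exact hratio
    exact (mul_right_cancel₀ h0 this).symm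

end Cfsg.Agent.Lib.helper8.SFO
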