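import Mathlib

set_option autoImplicit false
set_option linter.unusedVariables false
set_option linter.unusedSectionVars false
set_option linter.style.haveILetI false

namespace Cfsg.Agent.Lib.helper8.SFO

open Matrix Polynomial

/-- COMB4 [M]. -/
theorem comb_four {F : Type*} [Field F] [DecidableEq F] (n q₀ r : ℕ) [Fact r.Prime] (hr2 : r ≠ 2)
    (hn6 : 6 ≤ n) (hn3 : r = 3 → 7 ≤ n) (l : F) (hl : l ^ r = 1) (hl1 : l ≠ 1) (hlq : l ^ q₀ ≠ l)
    (ν : F) (hν : ν ≠ 0) :
    ¬ ∀ b : F,
      (Finset.univ.filter (fun i : Fin n =>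
        ν * (if i.val < 2 then l else if i.val = 2 then (l ^ 2)⁻¹ else 1) = b)).card =
      (Finset.univ.filter (fun i : Fin n =>
        ν * (if i.val < 2 then l else if i.val = 2 then (l ^ 2)⁻¹ else 1) = b ^ q₀)).card := by
  intro H
  have hr : r.Prime := Fact.out
  have hl0 : l ≠ 0 := by
    intro h0; rw [h0, zero_pow hr.ne_zero] at hl; exact zero_ne_one hl
  set a : Fin n → F := fun i => ν * (if i.val < 2 then l else if i.val = 2 then (l ^ 2)⁻¹ else 1) with ha
  have ha0 : ∀ i : Fin n, i.val < 2 → a i = ν * l := by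
    intro i hi; simp only [ha, hi, if_true]
  have ha2 : ∀ i : Fin n, i.val = 2 → a i = ν * (l ^ 2)⁻¹ := by
    intro i hi; simp only [ha, hi]; simp
  have ha3 : ∀ i : Fin n, 3 ≤ i.val → a i = ν := by
    intro i hi
    have h1 : ¬ i.val < 2 := by omega
    have h2 : ¬ i.val = 2 := by omega
    simp only [ha, h1, h2, if_false, mul_one]
  set f : F → ℕ := fun b => (Finset.univ.filter (fun i : Fin n => a i = b)).card with hf
  have H' : ∀ b, f b = f (b ^ q₀) := H
  have hord : orderOf l = r := orderOf_eq_prime hl hl1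
  have hE : l ^ 3 = 1 → r = 3 := by
    intro h3
    have : r ∣ 3 := by rw [← hord]; exact orderOf_dvd_of_pow_eq_one h3
    exact (Nat.prime_dvd_prime_iff_eq hr Nat.prime_three).1 this
  have hl2 : l ^ 2 ≠ 1 := by
    intro h2
    have : r ∣ 2 := by rw [← hord]; exact orderOf_dvd_of_pow_eq_one h2
    exact hr2 ((Nat.prime_dvd_prime_iff_eq hr Nat.prime_two).1 this)
  have hνl : ν * l ≠ ν := by
    intro h
    apply hl1
    have : ν * l = ν * 1 := by rw [h, mul_one]
    exact mul_left_cancel₀ hν this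
  -- small index set
  have hS3 : ∀ s : Finset (Fin n), (∀ i ∈ s, i.val < 3) → s.card ≤ 3 := by
    intro s hs
    have : s.card ≤ (Finset.range 3).card := by
      apply Finset.card_le_card_of_injOn (fun i => i.val)
      · intro i hi; simpa using hs i hi
      · intro i _ k _ hik; exact Fin.ext hik
    simpa using this
  have hsmall : ∀ c, c ≠ ν → ∀ i ∈ Finset.univ.filter (fun i : Fin n => a i = c), i.val < 3 := by
    intro c hc i hi
    rw [Finset.mem_filter] at hi
    by_contra h3
    exact hc (by rw [← hi.2, ha3 i (by omega)])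
  have hB1 : ∀ c, c ≠ ν → f c ≤ 3 := fun c hc => hS3 _ (hsmall c hc)
  have hB2 : ∀ c, c ≠ ν → 3 ≤ f c → l ^ 3 = 1 := by
    intro c hc h3
    have : 2 < (Finset.univ.filter (fun i : Fin n => a i = c)).card := h3
    obtain ⟨i, hi, j, hj, k, hk, hij, hik, hjk⟩ := Finset.two_lt_card.1 this
    have hi3 := hsmall c hc i hi
    have hj3 := hsmall c hc j hj
    have hk3 := hsmall c hc k hk
    rw [Finset.mem_filter] at hi hj hk
    have hij' : i.val ≠ j.val := fun h => hij (Fin.ext h)
    have hik' : i.val ≠ k.val := fun h => hik (Fin.ext h)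
    have hjk' : j.val ≠ k.val := fun h => hjk (Fin.ext h)
    have e1 : c = ν * (l ^ 2)⁻¹ := by
      have : i.val = 2 ∨ j.val = 2 ∨ k.val = 2 := by omega
      rcases this with h | h | h
      · rw [← hi.2, ha2 _ h]
      · rw [← hj.2, ha2 _ h]
      · rw [← hk.2, ha2 _ h]
    have e2 : c = ν * l := by
      have : i.val < 2 ∨ j.val < 2 ∨ k.val < 2 := by omega
      rcases this with h | h | h
      · rw [← hi.2, ha0 _ h]
      · rw [← hj.2, ha0 _ h]
      · rw [← hk.2, ha0 _ h]
    have e3 : l = (l ^ 2)⁻¹ := mul_left_cancel₀ hν (e2.symm.trans e1)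
    have hl20 : l ^ 2 ≠ 0 := pow_ne_zero _ hl0
    calc l ^ 3 = l * l ^ 2 := by ring
      _ = (l ^ 2)⁻¹ * l ^ 2 := by rw [← e3]
      _ = 1 := inv_mul_cancel₀ hl20
  have hC : n - 3 ≤ f ν := by
    have h1 := Finset.card_filter_add_card_filter_not (s := (Finset.univ : Finset (Fin n)))
      (fun i : Fin n => i.val < 3)
    rw [Finset.card_univ, Fintype.card_fin] at h1
    have h2 : (Finset.univ.filter (fun i : Fin n => i.val < 3)).card ≤ 3 :=
      hS3 _ (fun i hi => by simpa using hi)
    have h3 : (Finset.univ.filter (fun i : Fin n => ¬ i.val < 3)).card ≤ f ν := by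
      apply Finset.card_le_card
      intro i hi
      rw [Finset.mem_filter] at hi ⊢
      exact ⟨Finset.mem_univ _, ha3 i (by omega)⟩
    omega
  have hD : 2 ≤ f (ν * l) := by
    have : 1 < (Finset.univ.filter (fun i : Fin n => a i = ν * l)).card := by
      rw [Finset.one_lt_card]
      refine ⟨⟨0, by omega⟩, ?_, ⟨1, by omega⟩, ?_, ?_⟩
      · rw [Finset.mem_filter]; exact ⟨Finset.mem_univ _, ha0 _ (by simp)⟩
      · rw [Finset.mem_filter]; exact ⟨Finset.mem_univ _, ha0 _ (by simp)⟩
      · intro h; have := congrArg Fin.val h; simp at this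
    exact this
  have hA : ∀ c, 2 ≤ f c → c = ν ∨ c = ν * l := by
    intro c hc
    by_cases hcν : c = ν
    · exact Or.inl hcν
    right
    have : 1 < (Finset.univ.filter (fun i : Fin n => a i = c)).card := hc
    obtain ⟨i, hi, k, hk, hik⟩ := Finset.one_lt_card.1 this
    have hi3 := hsmall c hcν i hi
    have hk3 := hsmall c hcν k hk
    rw [Finset.mem_filter] at hi hk
    have hik' : i.val ≠ k.val := fun h => hik (Fin.ext h)
    have : i.val < 2 ∨ k.val < 2 := by omega
    rcases this with h | h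
    · rw [← hi.2, ha0 _ h]
    · rw [← hk.2, ha0 _ h]
  -- Claim 1
  have hνq : ν ^ q₀ = ν := by
    by_contra hne
    have h1 : n - 3 ≤ f (ν ^ q₀) := by rw [← H' ν]; exact hC
    have h2 := hB1 _ hne
    have h3 := hB2 _ hne (by omega)
    have := hn3 (hE h3)
    omega
  -- Claim 2
  have hνlq : (ν * l) ^ q₀ = ν * l := by
    rcases hA _ (by rw [← H' (ν * l)]; exact hD) with h | h
    · exfalso
      have h1 : n - 3 ≤ f (ν * l) := by rw [H' (ν * l), h]; exact hC
      have h2 := hB1 _ hνl
      have h3 := hB2 _ hνl (by omega)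
      have := hn3 (hE h3)
      omega
    · exact h
  apply hlq
  rw [mul_pow, hνq] at hνlq
  exact mul_left_cancel₀ hν hνlq

end Cfsg.Agent.Lib.helper8.SFO
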