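import Mathlib

set_option autoImplicit false
set_option linter.unusedVariables false
set_option linter.unusedSectionVars false
set_option linter.style.haveILetI false

namespace Cfsg.Agent.Lib.helper8.SFO

open Matrix Polynomial

theorem sfoord_dvd_iff (r a : ℕ) (ha : 1 ≤ a) : r ∣ a - 1 ↔ (a : ZMod r) = 1 := by
  rw [← Nat.modEq_iff_dvd' ha]
  have : ((1 : ℕ) : ZMod r) = 1 := Nat.cast_one
  rw [← this, ZMod.natCast_eq_natCast_iff]
  exact ⟨fun h => h.symm, fun h => h.symm⟩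

/-- ORD [S-M]: pure arithmetic. -/
theorem ord_min (q q₀ k n r : ℕ) [Fact r.Prime] (hq0 : 2 ≤ q₀) (hqk : q = q₀ ^ k)
    (h : ∃ i, 2 ≤ i ∧ i ≤ n ∧ r ∣ q ^ i - 1 ∧ ¬ r ∣ q₀ ^ i - 1) :
    ∃ e, 1 ≤ e ∧ e ≤ n ∧ r ∣ q ^ e - 1 ∧ (∀ m, 0 < m → m < e → ¬ r ∣ q ^ m - 1) ∧
      ∀ j, 1 ≤ j → j ≤ e → ¬ r ∣ q₀ ^ j - 1 := by
  classical
  obtain ⟨i, hi2, hin, hri, hri0⟩ := h
  have hq0pos : ∀ m, 1 ≤ q₀ ^ m := fun m => Nat.one_le_pow _ _ (by omega)
  have hqpos : ∀ m, 1 ≤ q ^ m := fun m => by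
    rw [hqk]; exact Nat.one_le_pow _ _ (Nat.pow_pos (by omega))
  have hQ : (q : ZMod r) = (q₀ : ZMod r) ^ k := by rw [hqk]; push_cast; rfl
  have key : ∀ m, r ∣ q ^ m - 1 ↔ (q : ZMod r) ^ m = 1 := fun m => by
    rw [sfoord_dvd_iff r _ (hqpos m)]; push_cast; rfl
  have key0 : ∀ m, r ∣ q₀ ^ m - 1 ↔ (q₀ : ZMod r) ^ m = 1 := fun m => by
    rw [sfoord_dvd_iff r _ (hq0pos m)]; push_cast; rfl
  have hex : ∃ e, 1 ≤ e ∧ (q : ZMod r) ^ e = 1 := ⟨i, by omega, (key i).1 hri⟩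
  set e := Nat.find hex with he
  have he1 : 1 ≤ e := (Nat.find_spec hex).1
  have heq : (q : ZMod r) ^ e = 1 := (Nat.find_spec hex).2
  have hmin : ∀ m, 0 < m → m < e → (q : ZMod r) ^ m ≠ 1 := by
    intro m hm hme hm1
    exact Nat.find_min hex hme ⟨hm, hm1⟩
  have hei : e ≤ i := Nat.find_min' hex ⟨by omega, (key i).1 hri⟩
  -- e ∣ i
  have hdiv : e ∣ i := by
    have hi : (q : ZMod r) ^ i = 1 := (key i).1 hri
    have hdm := Nat.div_add_mod i e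
    have hs : i % e < e := Nat.mod_lt _ he1
    have : (q : ZMod r) ^ (i % e) = 1 := by
      have h3 : (q : ZMod r) ^ i = ((q : ZMod r) ^ e) ^ (i / e) * (q : ZMod r) ^ (i % e) := by
        rw [← pow_mul, ← pow_add, hdm]
      rw [heq, one_pow, one_mul] at h3
      rw [← h3, hi]
    by_contra hnd
    have hpos : 0 < i % e := Nat.pos_of_ne_zero (fun h0 => hnd (Nat.dvd_of_mod_eq_zero h0))
    exact hmin _ hpos hs this
  refine ⟨e, he1, by omega, (key e).2 heq, fun m hm hme hd => hmin m hm hme ((key m).1 hd), ?_⟩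
  intro j hj1 hje hd
  have hj : (q₀ : ZMod r) ^ j = 1 := (key0 j).1 hd
  have hqj : (q : ZMod r) ^ j = 1 := by
    rw [hQ, ← pow_mul, mul_comm, pow_mul, hj, one_pow]
  have hje' : j = e := by
    by_contra hne
    exact hmin j (by omega) (by omega) hqj
  subst hje'
  apply hri0
  rw [key0]
  obtain ⟨t, ht⟩ := hdiv
  rw [ht, pow_mul, hj, one_pow]

end Cfsg.Agent.Lib.helper8.SFO
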