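import Mathlib
import Cfsg.Agent.Lib.Helper26.SFOORD

set_option autoImplicit false
set_option linter.unusedVariables false
set_option linter.unusedSectionVars false
set_option linter.style.haveILetI false

namespace Cfsg.Agent.Lib.helper8.SFO

open Matrix Polynomial

/-- EXCARITH [S-M]: pure arithmetic for the exceptional case. -/
theorem exc_arith (r k q₀ : ℕ) [Fact r.Prime] (hr : r = 3 ∨ r = 5) (hk : k.Prime) (hq0 : 2 ≤ q₀)
    (h1 : ¬ r ∣ q₀ - 1) (h2 : r ∣ q₀ ^ k - 1) (hv : padicValNat r (q₀ ^ k - 1) ≤ 1) :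
    k = 2 ∧ padicValNat r (q₀ + 1) = 1 := by
  classical
  have hrp : r.Prime := Fact.out
  have hq0pos : ∀ m, 1 ≤ q₀ ^ m := fun m => Nat.one_le_pow _ _ (by omega)
  have hQ1 : (q₀ : ZMod r) ≠ 1 := by
    intro h; apply h1; rw [sfoord_dvd_iff r _ (by omega)]; exact h
  have hQk : (q₀ : ZMod r) ^ k = 1 := by
    have := (sfoord_dvd_iff r _ (hq0pos k)).1 h2
    push_cast at this; exact this
  haveI : Fact k.Prime := ⟨hk⟩
  have hord : orderOf (q₀ : ZMod r) = k := orderOf_eq_prime hQk hQ1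
  have hQ0 : (q₀ : ZMod r) ≠ 0 := by
    intro h0
    rw [h0, zero_pow hk.ne_zero] at hQk
    exact zero_ne_one hQk
  have hdvd : k ∣ r - 1 := by
    rw [← hord]
    exact orderOf_dvd_of_pow_eq_one (ZMod.pow_card_sub_one_eq_one hQ0)
  have hk2 : k = 2 := by
    rcases hr with rfl | rfl
    · have : k ≤ 2 := Nat.le_of_dvd (by norm_num) hdvd
      have := hk.two_le
      omega
    · have hk4 : k ∣ 2 ^ 2 := by simpa using hdvd
      have := (Nat.Prime.dvd_of_dvd_pow hk hk4)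
      exact (Nat.prime_dvd_prime_iff_eq hk Nat.prime_two).1 this
  refine ⟨hk2, ?_⟩
  subst hk2
  have hfac : q₀ ^ 2 - 1 = (q₀ - 1) * (q₀ + 1) := by
    obtain ⟨t, rfl⟩ : ∃ t, q₀ = t + 1 := ⟨q₀ - 1, by omega⟩
    simp only [Nat.add_sub_cancel]
    have : (t + 1) ^ 2 = t * (t + 1 + 1) + 1 := by ring
    rw [this, Nat.add_sub_cancel]
  rw [hfac] at h2 hv
  have hd : r ∣ q₀ + 1 := by
    rcases (Nat.Prime.dvd_mul hrp).1 h2 with h | h
    · exact absurd h h1
    · exact h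
  have hne1 : q₀ - 1 ≠ 0 := by omega
  have hne2 : q₀ + 1 ≠ 0 := by omega
  rw [padicValNat.mul hne1 hne2] at hv
  have h0 : padicValNat r (q₀ - 1) = 0 := padicValNat.eq_zero_of_not_dvd h1
  have hge : 1 ≤ padicValNat r (q₀ + 1) := one_le_padicValNat_of_dvd hne2 hd
  omega

end Cfsg.Agent.Lib.helper8.SFO
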