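import Mathlib

set_option autoImplicit false
set_option linter.unusedVariables false
set_option linter.unusedSectionVars false
set_option linter.style.haveILetI false

namespace Cfsg.Agent.Lib.helper8.SFO

open Matrix Polynomial

set_option maxRecDepth 100000 in
theorem sfoexccomb_three : ∀ c0 c1 c2 : ZMod 3, c0 + c1 + c2 = 0 →
    ∃ s : ZMod 3, ∀ a : ZMod 3,
      ((if c0 + s = a then 1 else 0) + (if c1 + s = a then 1 else 0) + (if c2 + s = a then 1 else 0) : ℕ) =
      ((if c0 + s = -a then 1 else 0) + (if c1 + s = -a then 1 else 0) + (if c2 + s = -a then 1 else 0) : ℕ) := by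
  decide

set_option maxRecDepth 100000 in
theorem sfoexccomb_five : ∀ c0 c1 c2 c3 c4 : ZMod 5, c0 + c1 + c2 + c3 + c4 = 0 →
    ∃ s : ZMod 5, ∀ a : ZMod 5,
      ((if c0 + s = a then 1 else 0) + (if c1 + s = a then 1 else 0) + (if c2 + s = a then 1 else 0)
        + (if c3 + s = a then 1 else 0) + (if c4 + s = a then 1 else 0) : ℕ) =
      ((if c0 + s = -a then 1 else 0) + (if c1 + s = -a then 1 else 0) + (if c2 + s = -a then 1 else 0)
        + (if c3 + s = -a then 1 else 0) + (if c4 + s = -a then 1 else 0) : ℕ) := by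
  decide

/-- EXCCOMB [M]. -/
theorem exc_comb (r : ℕ) (hr : r = 3 ∨ r = 5) (c : Fin r → ZMod r) (hc : ∑ i, c i = 0) :
    ∃ s : ZMod r, ∀ a : ZMod r,
      (Finset.univ.filter (fun i => c i + s = a)).card =
        (Finset.univ.filter (fun i => c i + s = -a)).card := by
  rcases hr with rfl | rfl
  · obtain ⟨s, hs⟩ := sfoexccomb_three (c 0) (c 1) (c 2)
      (by rw [Fin.sum_univ_three] at hc; exact hc)
    refine ⟨s, fun a => ?_⟩
    rw [Finset.card_filter, Finset.card_filter, Fin.sum_univ_three, Fin.sum_univ_three]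
    exact hs a
  · obtain ⟨s, hs⟩ := sfoexccomb_five (c 0) (c 1) (c 2) (c 3) (c 4)
      (by rw [Fin.sum_univ_five] at hc; exact hc)
    refine ⟨s, fun a => ?_⟩
    rw [Finset.card_filter, Finset.card_filter, Fin.sum_univ_five, Fin.sum_univ_five]
    exact hs a

end Cfsg.Agent.Lib.helper8.SFO
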