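import Mathlib

set_option autoImplicit false
set_option linter.unusedVariables false
set_option linter.unusedSectionVars false
set_option linter.style.haveILetI false

namespace Cfsg.Agent.Lib.helper8.SFO

open Matrix Polynomial

/-- FROB0 [S-M]: `a ↦ a ^ q₀` is a ring endomorphism of `F`. -/
theorem exists_frob0 {F : Type*} [Field F] [Fintype F] (F₀ : Subfield F) (q₀ : ℕ)
    (hF₀ : Nat.card ↥F₀ = q₀) : ∃ φ : F →+* F, ∀ a, φ a = a ^ q₀ := by
  classical
  haveI : Fintype ↥F₀ := Fintype.ofFinite _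
  obtain ⟨p, hp⟩ := CharP.exists F
  haveI : CharP F p := hp
  haveI : Fact p.Prime := ⟨CharP.char_is_prime F p⟩
  haveI : CharP ↥F₀ p := by
    have : CharP (↥F₀.toSubring) p := inferInstance
    exact this
  obtain ⟨j, _, hj⟩ := FiniteField.card (↥F₀) p
  have hq0 : q₀ = p ^ (j : ℕ) := by
    rw [← hF₀, Nat.card_eq_fintype_card, hj]
  haveI : ExpChar F p := ExpChar.prime (Fact.out)
  refine ⟨iterateFrobenius F p j, fun a => ?_⟩
  rw [iterateFrobenius_def, hq0]

end Cfsg.Agent.Lib.helper8.SFO
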