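import Mathlib
import Cfsg.Agent.Lib.Helper26.SFOFROB0
import Cfsg.Agent.Lib.Helper26.SFOCHARRAT

set_option autoImplicit false
set_option linter.unusedVariables false
set_option linter.unusedSectionVars false
set_option linter.style.haveILetI false

namespace Cfsg.Agent.Lib.helper8.SFO

open Matrix Polynomial

/-- products over a family depend only on the counting function. -/
theorem sfoexcrat_prod_neg {R : Type*} [CommMonoid R] {r : ℕ} [NeZero r] {n : ℕ} (c : Fin n → ZMod r)
    (hsym : ∀ a : ZMod r, (Finset.univ.filter (fun i => c i = a)).card =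
      (Finset.univ.filter (fun i => c i = -a)).card) (g : ZMod r → R) :
    ∏ i, g (- c i) = ∏ i, g (c i) := by
  classical
  have h1 : ∀ h : ZMod r → R, ∏ i, h (c i) =
      ∏ a : ZMod r, h a ^ (Finset.univ.filter (fun i => c i = a)).card := by
    intro h
    rw [← Finset.prod_fiberwise (Finset.univ : Finset (Fin n)) c (fun i => h (c i))]
    apply Finset.prod_congr rfl
    intro a _
    rw [Finset.prod_congr rfl (fun i hi => by rw [(Finset.mem_filter.1 hi).2] : ∀ i ∈ Finset.univ.filter (fun i => c i = a), h (c i) = h a)]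
    rw [Finset.prod_const]
  rw [h1 (fun a => g (-a)), h1 g]
  rw [← Equiv.prod_comp (Equiv.neg (ZMod r)) (fun a => g a ^ (Finset.univ.filter (fun i => c i = a)).card)]
  apply Finset.prod_congr rfl
  intro a _
  simp only [Equiv.neg_apply]
  rw [hsym a]

/-- EXCRAT [M]. -/
theorem exc_rat {F : Type*} [Field F] [Fintype F] (F₀ : Subfield F) (q₀ : ℕ) (hF₀ : Nat.card ↥F₀ = q₀)
    (r : ℕ) [Fact r.Prime] (l : F) (hl : l ^ r = 1) (hlq : l ^ q₀ = l⁻¹) {n : ℕ} (c : Fin n → ZMod r)
    (hsym : ∀ a : ZMod r, (Finset.univ.filter (fun i => c i = a)).card =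
      (Finset.univ.filter (fun i => c i = -a)).card) :
    ∃ c₀ : Polynomial ↥F₀,
      (Matrix.diagonal (fun i => l ^ (c i).val) : Matrix (Fin n) (Fin n) F).charpoly =
        c₀.map F₀.subtype := by
  classical
  have hr : r.Prime := Fact.out
  haveI : NeZero r := ⟨hr.ne_zero⟩
  obtain ⟨φ, hφ⟩ := exists_frob0 F₀ q₀ hF₀
  have hl0 : l ≠ 0 := by
    intro h0; rw [h0, zero_pow hr.ne_zero] at hl; exact zero_ne_one hl
  -- (l^(c.val))^q₀ = l^((-c).val)
  have hneg : ∀ a : ZMod r, (l ^ a.val) ^ q₀ = l ^ (-a).val := by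
    intro a
    rw [← pow_mul, mul_comm, pow_mul, hlq, inv_pow]
    rw [inv_eq_iff_eq_inv, eq_comm, inv_eq_iff_eq_inv, eq_comm]
    symm
    apply eq_inv_of_mul_eq_one_left
    rw [← pow_add]
    have hdvd : r ∣ (-a).val + a.val := by
      rw [← ZMod.natCast_eq_zero_iff]
      push_cast
      rw [ZMod.natCast_zmod_val, ZMod.natCast_zmod_val]; ring
    obtain ⟨t, ht⟩ := hdvd
    rw [ht, pow_mul, hl, one_pow]
  rw [Matrix.charpoly_diagonal]
  apply sfocharrat_lift F₀ q₀ hF₀
  intro i
  have hmap : (∏ k, (X - C (l ^ (c k).val)) : F[X]).map φ = ∏ k, (X - C (l ^ (c k).val)) := by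
    rw [Polynomial.map_prod]
    have : ∀ k, ((X - C (l ^ (c k).val) : F[X])).map φ = X - C (l ^ (- c k).val) := by
      intro k
      rw [Polynomial.map_sub, Polynomial.map_X, Polynomial.map_C, hφ, hneg]
    rw [Finset.prod_congr rfl (fun k _ => this k)]
    exact sfoexcrat_prod_neg c hsym (fun a => (X - C (l ^ a.val) : F[X]))
  have := congrArg (fun P => P.coeff i) hmap
  simp only [Polynomial.coeff_map, hφ] at this
  exact this

end Cfsg.Agent.Lib.helper8.SFO
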