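import Mathlib

set_option autoImplicit false
set_option linter.unusedVariables false
set_option linter.unusedSectionVars false
set_option linter.style.haveILetI false

namespace Cfsg.Agent.Lib.helper8.SFO

open Matrix Polynomial

/-- POWSURJ [S]: if `r ∤ q - 1` every element of `F` is an `r`-th power. -/
theorem pow_surj {F : Type*} [Field F] [Fintype F] {q : ℕ} (hq : Fintype.card F = q) (r : ℕ)
    [Fact r.Prime] (h : ¬ r ∣ q - 1) (z : F) : ∃ b : F, b ^ r = z := by
  classical
  have hr : r.Prime := Fact.out
  by_cases hz : z = 0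
  · exact ⟨0, by rw [hz, zero_pow hr.ne_zero]⟩
  · have hcard : Nat.card Fˣ = q - 1 := by
      rw [Nat.card_eq_fintype_card, Fintype.card_units, hq]
    have hcop : (Nat.card Fˣ).Coprime r := by
      rw [hcard]
      exact ((Nat.Prime.coprime_iff_not_dvd hr).2 h).symm
    obtain ⟨b, hb⟩ := (powCoprime hcop).surjective (Units.mk0 z hz)
    refine ⟨(b : F), ?_⟩
    have : ((b ^ r : Fˣ) : F) = z := by
      have h3 : b ^ r = Units.mk0 z hz := by simpa [powCoprime] using hb
      rw [h3]; rfl
    simpa using this

end Cfsg.Agent.Lib.helper8.SFO
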