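import Mathlib
import Cfsg.Agent.Lib.helper8.SFOTYPEB
import Cfsg.Agent.Lib.Helper26.SFOPOWSURJ
import Cfsg.Agent.Lib.Helper26.SFOCYCARITH
import Cfsg.Agent.Lib.Helper26.SFOCHARRAT

set_option autoImplicit false
set_option linter.unusedVariables false
set_option linter.unusedSectionVars false
set_option linter.style.haveILetI false

namespace Cfsg.Agent.Lib.helper8.SFO

open Matrix Polynomial

/-- the scalar `z` with `x ^ r = z • 1`, `det x = 1`, is nonzero (`n ≥ 1`). -/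
theorem sfosufk_z_ne {F : Type*} [Field F] {n : ℕ} (hn : 1 ≤ n) (r : ℕ)
    (x : Matrix.SpecialLinearGroup (Fin n) F) (z : F)
    (hx : ((x ^ r : Matrix.SpecialLinearGroup (Fin n) F) : Matrix (Fin n) (Fin n) F) =
      z • (1 : Matrix (Fin n) (Fin n) F)) : z ≠ 0 := by
  intro h0
  have h1 : ((x ^ r : Matrix.SpecialLinearGroup (Fin n) F) : Matrix (Fin n) (Fin n) F).det = 1 :=
    (x ^ r).2
  haveI : Nonempty (Fin n) := ⟨⟨0, by omega⟩⟩
  rw [hx, h0, zero_smul, Matrix.det_zero] at h1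
  exact zero_ne_one h1

/-- scaling by an `r`-th root of `z⁻¹`. -/
theorem sfosufk_scale {F : Type*} [Field F] {n : ℕ} (r : ℕ)
    (x : Matrix.SpecialLinearGroup (Fin n) F) (z μ : F) (hz : z ≠ 0) (hμ : μ ^ r = z)
    (hx : ((x ^ r : Matrix.SpecialLinearGroup (Fin n) F) : Matrix (Fin n) (Fin n) F) =
      z • (1 : Matrix (Fin n) (Fin n) F)) :
    (μ⁻¹ • (x : Matrix (Fin n) (Fin n) F)) ^ r = 1 := by
  have hxr : (x : Matrix (Fin n) (Fin n) F) ^ r = z • (1 : Matrix (Fin n) (Fin n) F) := by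
    rw [← hx]; simp
  rw [_root_.smul_pow, hxr, smul_smul, inv_pow, hμ, inv_mul_cancel₀ hz, one_smul]

/-- SUFK [M]. -/
theorem suff_k {F : Type*} [Field F] [Fintype F] {p : ℕ} [Fact p.Prime] [CharP F p] {q : ℕ}
    (hq : Fintype.card F = q) (n : ℕ) (hn : 2 ≤ n) (F₀ : Subfield F) (q₀ r : ℕ) [Fact r.Prime]
    (hr2 : r ≠ 2) (hF₀ : Nat.card ↥F₀ = q₀) (hqk : q = q₀ ^ r)
    (hgapk : r ∣ q₀ - 1 → padicValNat r n ≤ padicValNat r (q - 1))
    (x : Matrix.SpecialLinearGroup (Fin n) F) (z : F)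
    (hx : ((x ^ r : Matrix.SpecialLinearGroup (Fin n) F) : Matrix (Fin n) (Fin n) F) =
      z • (1 : Matrix (Fin n) (Fin n) F)) :
    ∃ (ν : F) (c₀ : Polynomial ↥F₀), ν ≠ 0 ∧ (ν • (x : Matrix (Fin n) (Fin n) F)) ^ r = 1 ∧
      (ν • (x : Matrix (Fin n) (Fin n) F)).charpoly = c₀.map F₀.subtype := by
  classical
  have hr : r.Prime := Fact.out
  have hz0 : z ≠ 0 := sfosufk_z_ne (by omega) r x z hx
  have hxr : (x : Matrix (Fin n) (Fin n) F) ^ r = z • (1 : Matrix (Fin n) (Fin n) F) := by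
    rw [← hx]; simp
  -- z is an r-th power
  have hpow : ∃ b : F, b ^ r = z := by
    by_cases hdiv : r ∣ q - 1
    · by_contra hno
      push Not at hno
      -- r ∣ q₀ - 1
      have hq0pos : 1 ≤ q₀ := by
        rcases Nat.eq_zero_or_pos q₀ with h0 | h0
        · exfalso
          rw [h0, zero_pow hr.ne_zero] at hqk
          have : 1 < Fintype.card F := Fintype.one_lt_card
          omega
        · exact h0
      have hqpos : 1 ≤ q := by rw [hqk]; exact Nat.one_le_pow _ _ hq0pos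
      have hd0 : r ∣ q₀ - 1 := by
        rw [← Nat.modEq_iff_dvd' hq0pos]
        have h1 : (1 : ℕ) ≡ q [MOD r] := (Nat.modEq_iff_dvd' hqpos).2 hdiv
        have h2 : q ≡ q₀ [MOD r] := by
          rw [← ZMod.natCast_eq_natCast_iff, hqk]
          push_cast
          exact ZMod.pow_card _
        exact h1.trans h2
      have hv := hgapk hd0
      obtain ⟨hrn, hzn⟩ := typeB r hr2 (x : Matrix (Fin n) (Fin n) F) x.2 z hxr hno
      obtain ⟨b, hb⟩ := cyc_arith hq n r (by omega) z hz0 hrn hzn hv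
      exact hno b hb
    · exact pow_surj hq r hdiv z
  obtain ⟨μ, hμ⟩ := hpow
  have hμ0 : μ ≠ 0 := by
    rintro rfl
    rw [zero_pow hr.ne_zero] at hμ
    exact hz0 hμ.symm
  have hy := sfosufk_scale r x z μ hz0 hμ hx
  obtain ⟨c₀, hc₀⟩ := charpoly_rat (p := p) hq F₀ q₀ r hF₀ hqk _ hy
  exact ⟨μ⁻¹, c₀, inv_ne_zero hμ0, hy, hc₀⟩

end Cfsg.Agent.Lib.helper8.SFO
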