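import Mathlib
import Cfsg.Agent.Lib.helper8.SFOTYPEB
import Cfsg.Agent.Lib.Helper26.SFOLAM
import Cfsg.Agent.Lib.Helper26.SFOEXCCOMB
import Cfsg.Agent.Lib.Helper26.SFOEXCRAT
import Cfsg.Agent.Lib.Helper26.SFOSUFK
import Cfsg.Agent.Lib.helper6.SFODIAG

set_option autoImplicit false
set_option linter.unusedVariables false
set_option linter.unusedSectionVars false
set_option linter.style.haveILetI false

namespace Cfsg.Agent.Lib.helper8.SFO

open Matrix Polynomial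

/-- arithmetic of the exceptional case. -/
theorem sfosufexc_arith (q q₀ r : ℕ) (hr : r.Prime) (hr2 : r ≠ 2) (hqk : q = q₀ ^ 2)
    (hv : padicValNat r (q₀ + 1) = 1) :
    r ∣ q₀ + 1 ∧ ∃ m, q - 1 = r * m ∧ ¬ r ∣ m := by
  haveI : Fact r.Prime := ⟨hr⟩
  have hd : r ∣ q₀ + 1 := dvd_of_one_le_padicValNat (by omega)
  have hq0 : 2 ≤ q₀ := by
    have := Nat.le_of_dvd (by omega) hd
    have := hr.two_le
    omega
  have h1 : ¬ r ∣ q₀ - 1 := by
    intro h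
    have h2 : r ∣ (q₀ + 1) - (q₀ - 1) := Nat.dvd_sub hd h
    have h3 : (q₀ + 1) - (q₀ - 1) = 2 := by omega
    rw [h3] at h2
    exact hr2 ((Nat.prime_dvd_prime_iff_eq hr Nat.prime_two).1 h2)
  have hfac : q - 1 = (q₀ - 1) * (q₀ + 1) := by
    rw [hqk]
    obtain ⟨t, rfl⟩ : ∃ t, q₀ = t + 1 := ⟨q₀ - 1, by omega⟩
    simp only [Nat.add_sub_cancel]
    have : (t + 1) ^ 2 = t * (t + 1 + 1) + 1 := by ring
    rw [this, Nat.add_sub_cancel]
  refine ⟨hd, ?_⟩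
  obtain ⟨m', hm'⟩ := hd
  refine ⟨(q₀ - 1) * m', by rw [hfac, hm']; ring, ?_⟩
  intro hdm
  rcases (Nat.Prime.dvd_mul hr).1 hdm with h | h
  · exact h1 h
  · -- r ∣ m' → r^2 ∣ q₀ + 1 → padicVal ≥ 2
    obtain ⟨m'', rfl⟩ := h
    have h2 : r ^ 2 ∣ q₀ + 1 := ⟨m'', by rw [hm']; ring⟩
    have := (padicValNat_dvd_iff_le (p := r) (by omega : q₀ + 1 ≠ 0)).1 h2
    omega

theorem sfosufexc_pow_mod {F : Type*} [Monoid F] (l : F) (r : ℕ) (hl : l ^ r = 1) (k : ℕ) :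
    l ^ (k % r) = l ^ k := by
  conv_rhs => rw [← Nat.div_add_mod k r, pow_add, pow_mul, hl, one_pow, one_mul]

/-- SUFEXC core: with the statement of DIAG as a hypothesis. -/
theorem sfosufexc_core {F : Type*} [Field F] [Fintype F] {p : ℕ} [Fact p.Prime] [CharP F p] {q : ℕ}
    (hq : Fintype.card F = q) (n : ℕ) (F₀ : Subfield F) (q₀ r : ℕ) [Fact r.Prime]
    (hF₀ : Nat.card ↥F₀ = q₀) (hqk : q = q₀ ^ 2) (hrp : r ≠ p) (hrn : r = n) (hn35 : n = 3 ∨ n = 5)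
    (hv : padicValNat r (q₀ + 1) = 1)
    (hdiag : ∀ (l : F), l ^ r = 1 → l ≠ 1 → ∀ y : Matrix (Fin n) (Fin n) F, y ^ r = 1 →
      ∃ (g : GL (Fin n) F) (c : Fin n → ZMod r),
      (g : Matrix (Fin n) (Fin n) F) * y * ((g⁻¹ : GL (Fin n) F) : Matrix (Fin n) (Fin n) F) =
        Matrix.diagonal (fun i => l ^ (c i).val))
    (x : Matrix.SpecialLinearGroup (Fin n) F) (z : F)
    (hx : ((x ^ r : Matrix.SpecialLinearGroup (Fin n) F) : Matrix (Fin n) (Fin n) F) =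
      z • (1 : Matrix (Fin n) (Fin n) F)) :
    ∃ (ν : F) (c₀ : Polynomial ↥F₀), ν ≠ 0 ∧ (ν • (x : Matrix (Fin n) (Fin n) F)) ^ r = 1 ∧
      (ν • (x : Matrix (Fin n) (Fin n) F)).charpoly = c₀.map F₀.subtype := by
  classical
  subst hrn
  have hr : r.Prime := Fact.out
  haveI : NeZero r := ⟨hr.ne_zero⟩
  have hr2 : r ≠ 2 := by rcases hn35 with h | h <;> omega
  obtain ⟨hd, m, hm, hrm⟩ := sfosufexc_arith q q₀ r hr hr2 hqk hv
  have hz0 : z ≠ 0 := sfosufk_z_ne hr.one_lt.le r x z hx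
  have hxr : (x : Matrix (Fin r) (Fin r) F) ^ r = z • (1 : Matrix (Fin r) (Fin r) F) := by
    rw [← hx]; simp
  -- z is an r-th power
  have hpow : ∃ b : F, b ^ r = z := by
    by_contra hno
    push Not at hno
    obtain ⟨_, hzn⟩ := typeB r hr2 (x : Matrix (Fin r) (Fin r) F) x.2 z hxr hno
    rw [Nat.div_self hr.pos, pow_one] at hzn
    exact hno 1 (by rw [one_pow, hzn])
  obtain ⟨μ, hμ⟩ := hpow
  have hμ0 : μ ≠ 0 := by
    rintro rfl
    rw [zero_pow hr.ne_zero] at hμ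
    exact hz0 hμ.symm
  have hy := sfosufk_scale r x z μ hz0 hμ hx
  set y : Matrix (Fin r) (Fin r) F := μ⁻¹ • (x : Matrix (Fin r) (Fin r) F) with hydef
  -- l
  have hrq : r ∣ q - 1 := ⟨m, hm⟩
  obtain ⟨l, hl, hl1⟩ := exists_lambda hq r hrq
  have hord : orderOf l = r := orderOf_eq_prime hl hl1
  have hl0 : l ≠ 0 := by
    intro h0; rw [h0, zero_pow hr.ne_zero] at hl; exact zero_ne_one hl
  have hlq : l ^ q₀ = l⁻¹ := by
    apply eq_inv_of_mul_eq_one_left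
    rw [← pow_succ]
    obtain ⟨t, ht⟩ := hd
    rw [ht, pow_mul, hl, one_pow]
  obtain ⟨g, c, hg⟩ := hdiag l hl hl1 y hy
  -- determinant
  have hdety : y.det = (μ⁻¹) ^ r := by
    rw [hydef, Matrix.det_smul, Fintype.card_fin, x.2, mul_one]
  have hdetd : y.det = l ^ (∑ i, (c i).val) := by
    have h1 : ((g : Matrix (Fin r) (Fin r) F) * y * ((g⁻¹ : GL (Fin r) F) : Matrix (Fin r) (Fin r) F)).det = y.det := by
      rw [Matrix.det_mul, Matrix.det_mul, mul_comm, ← mul_assoc, ← Matrix.det_mul]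
      have : ((g⁻¹ : GL (Fin r) F) : Matrix (Fin r) (Fin r) F) * (g : Matrix (Fin r) (Fin r) F) = 1 := by
        rw [← Units.val_mul, inv_mul_cancel]; rfl
      rw [this, Matrix.det_one, one_mul]
    rw [← h1, hg, Matrix.det_diagonal, Finset.prod_pow_eq_pow_sum]
  have hsum : ∑ i, c i = 0 := by
    have h1 : (l ^ (∑ i, (c i).val)) ^ m = 1 := by
      rw [← hdetd, hdety, ← pow_mul, ← hm, ← hq]
      exact FiniteField.pow_card_sub_one_eq_one _ (inv_ne_zero hμ0)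
    rw [← pow_mul] at h1
    have h2 : r ∣ (∑ i, (c i).val) * m := by
      have h2' := orderOf_dvd_of_pow_eq_one h1
      rw [hord] at h2'; exact h2'
    have h3 : r ∣ ∑ i, (c i).val := by
      rcases (Nat.Prime.dvd_mul hr).1 h2 with h | h
      · exact h
      · exact absurd h hrm
    have h4 : ((∑ i, (c i).val : ℕ) : ZMod r) = 0 := (ZMod.natCast_eq_zero_iff _ _).2 h3
    rw [Nat.cast_sum] at h4
    rw [← h4]
    apply Finset.sum_congr rfl
    intro i _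
    rw [ZMod.natCast_zmod_val]
  obtain ⟨s, hs⟩ := exc_comb r hn35 c hsum
  -- the scaling
  have hνx : (l ^ s.val * μ⁻¹) • (x : Matrix (Fin r) (Fin r) F) = l ^ s.val • y := by
    rw [hydef, mul_smul]
  have hconj : (g : Matrix (Fin r) (Fin r) F) * (l ^ s.val • y) * ((g⁻¹ : GL (Fin r) F) : Matrix (Fin r) (Fin r) F)
      = Matrix.diagonal (fun i => l ^ (c i + s).val) := by
    rw [Matrix.mul_smul, Matrix.smul_mul, hg, ← Matrix.diagonal_smul]
    congr 1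
    funext i
    simp only [Pi.smul_apply, smul_eq_mul]
    rw [← pow_add, ZMod.val_add, sfosufexc_pow_mod l r hl, add_comm]
  obtain ⟨c₀, hc₀⟩ := exc_rat F₀ q₀ hF₀ r l hl hlq (fun i => c i + s) hs
  refine ⟨l ^ s.val * μ⁻¹, c₀, mul_ne_zero (pow_ne_zero _ hl0) (inv_ne_zero hμ0), ?_, ?_⟩
  · rw [hνx, _root_.smul_pow, hy, ← pow_mul, mul_comm, pow_mul, hl, one_pow, one_smul]
  · have hinv : ((g⁻¹ : GL (Fin r) F) : Matrix (Fin r) (Fin r) F) = (g : Matrix (Fin r) (Fin r) F)⁻¹ :=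
      Matrix.coe_units_inv g
    rw [hνx, ← Matrix.charpoly_units_conj g (l ^ s.val • y), ← hinv, hconj, hc₀]

/-- SUFEXC [M-L]. -/
theorem suff_exc {F : Type*} [Field F] [Fintype F] {p : ℕ} [Fact p.Prime] [CharP F p] {q : ℕ}
    (hq : Fintype.card F = q) (n : ℕ) (F₀ : Subfield F) (q₀ r : ℕ) [Fact r.Prime]
    (hF₀ : Nat.card ↥F₀ = q₀) (hqk : q = q₀ ^ 2) (hrp : r ≠ p) (hrn : r = n) (hn35 : n = 3 ∨ n = 5)
    (hv : padicValNat r (q₀ + 1) = 1)
    (x : Matrix.SpecialLinearGroup (Fin n) F) (z : F)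
    (hx : ((x ^ r : Matrix.SpecialLinearGroup (Fin n) F) : Matrix (Fin n) (Fin n) F) =
      z • (1 : Matrix (Fin n) (Fin n) F)) :
    ∃ (ν : F) (c₀ : Polynomial ↥F₀), ν ≠ 0 ∧ (ν • (x : Matrix (Fin n) (Fin n) F)) ^ r = 1 ∧
      (ν • (x : Matrix (Fin n) (Fin n) F)).charpoly = c₀.map F₀.subtype := by
  have hrF : (r : F) ≠ 0 := by
    intro h0
    have h1 : p ∣ r := (CharP.cast_eq_zero_iff F p r).1 h0
    exact hrp ((Nat.prime_dvd_prime_iff_eq (Fact.out : p.Prime) (Fact.out : r.Prime)).1 h1).symm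
  exact sfosufexc_core (p := p) hq n F₀ q₀ r hF₀ hqk hrp hrn hn35 hv
    (fun l hl hl1 y hy => diag_of_pow r hrF l hl hl1 y hy) x z hx

end Cfsg.Agent.Lib.helper8.SFO
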