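import Mathlib

set_option autoImplicit false

/-!
The flag `V j = span (1, α, …, α^(j-1))` inside a finite dimensional field extension `L = k[α]`.
-/

namespace Cfsg.Agent.Lib.Helper26.SLGen

open Module

variable {k L : Type*} [Field k] [Field L] [Algebra k L]

/-- the span of the first `j` powers of `α` -/
def flagV (k : Type*) {L : Type*} [Field k] [Field L] [Algebra k L] (α : L) (j : ℕ) : Submodule k L :=
  Submodule.span k ((fun i : ℕ => α ^ i) '' Set.Iio j)

theorem flagV_mono (α : L) {i j : ℕ} (h : i ≤ j) : flagV k α i ≤ flagV k α j :=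
  Submodule.span_mono (Set.image_mono (Set.Iio_subset_Iio h))

theorem flagV_zero (α : L) : flagV k α 0 = ⊥ := by
  unfold flagV
  rw [show Set.Iio (0 : ℕ) = ∅ from by ext x; simp]
  simp

theorem pow_mem_flagV (α : L) {i j : ℕ} (h : i < j) : α ^ i ∈ flagV k α j :=
  Submodule.subset_span ⟨i, h, rfl⟩

theorem flagV_succ (α : L) (j : ℕ) :
    flagV k α (j + 1) = Submodule.span k {α ^ j} ⊔ flagV k α j := by
  unfold flagV
  have : Set.Iio (j + 1) = insert j (Set.Iio j) := by
    ext x
    simp only [Set.mem_Iio, Set.mem_insert_iff]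
    omega
  rw [this, Set.image_insert_eq, Submodule.span_insert]

theorem mem_flagV_succ (α : L) (j : ℕ) (x : L) :
    x ∈ flagV k α (j + 1) ↔ ∃ c : k, x - c • α ^ j ∈ flagV k α j := by
  rw [flagV_succ, Submodule.mem_sup]
  constructor
  · rintro ⟨y, hy, z, hz, rfl⟩
    obtain ⟨c, rfl⟩ := Submodule.mem_span_singleton.mp hy
    exact ⟨c, by simpa using hz⟩
  · rintro ⟨c, hc⟩
    exact ⟨c • α ^ j, Submodule.mem_span_singleton.mpr ⟨c, rfl⟩, _, hc, by ring⟩

theorem mul_mem_flagV (α : L) (j : ℕ) {x : L} (hx : x ∈ flagV k α j) : α * x ∈ flagV k α (j + 1) := by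
  unfold flagV at hx
  induction hx using Submodule.span_induction with
  | mem y hy =>
    obtain ⟨i, hi, rfl⟩ := hy
    have : α * α ^ i = α ^ (i + 1) := by ring
    simp only [this]
    exact pow_mem_flagV α (by simp only [Set.mem_Iio] at hi; omega)
  | zero => simp
  | add y z _ _ hy hz => rw [mul_add]; exact Submodule.add_mem _ hy hz
  | smul c y _ hy => rw [mul_smul_comm]; exact Submodule.smul_mem _ c hy

theorem finrank_flagV_le [FiniteDimensional k L] (α : L) (j : ℕ) : finrank k (flagV k α j) ≤ j := by
  classical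
  unfold flagV
  have h1 : ((fun i : ℕ => α ^ i) '' Set.Iio j) = ((Finset.range j).image (fun i : ℕ => α ^ i) : Finset L) := by
    ext x
    simp
  rw [h1]
  calc finrank k (Submodule.span k ((Finset.range j).image (fun i : ℕ => α ^ i) : Set L))
      ≤ ((Finset.range j).image (fun i : ℕ => α ^ i)).card := finrank_span_finset_le_card _
    _ ≤ (Finset.range j).card := Finset.card_image_le
    _ = j := Finset.card_range j

/-- if `α^j` already lies in `V j` then `V j` is everything -/
theorem flagV_eq_top_of_pow_mem (α : L) (hgen : Algebra.adjoin k {α} = ⊤) {j : ℕ}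
    (h : α ^ j ∈ flagV k α j) : flagV k α j = ⊤ := by
  have hj : 1 ≤ j := by
    rcases Nat.eq_zero_or_pos j with h0 | h0
    · subst h0
      rw [flagV_zero, pow_zero] at h
      simp at h
    · exact h0
  have hstab : ∀ x ∈ flagV k α j, α * x ∈ flagV k α j := by
    intro x hx
    have h1 := mul_mem_flagV (k := k) α j hx
    rw [flagV_succ] at h1
    obtain ⟨y, hy, z, hz, hyz⟩ := Submodule.mem_sup.mp h1
    obtain ⟨c, rfl⟩ := Submodule.mem_span_singleton.mp hy
    rw [← hyz]
    exact Submodule.add_mem _ (Submodule.smul_mem _ c h) hz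
  have hpow : ∀ i : ℕ, α ^ i ∈ flagV k α j := by
    intro i
    induction i with
    | zero => exact pow_mem_flagV α hj
    | succ i ih =>
      have := hstab _ ih
      rwa [show α * α ^ i = α ^ (i + 1) from by ring] at this
  rw [eq_top_iff]
  intro x _
  have hx : x ∈ Algebra.adjoin k {α} := by rw [hgen]; trivial
  rw [Algebra.adjoin_singleton_eq_range_aeval] at hx
  obtain ⟨p, rfl⟩ := hx
  change Polynomial.aeval α p ∈ flagV k α j
  rw [Polynomial.aeval_eq_sum_range]
  apply Submodule.sum_mem
  intro i _
  exact Submodule.smul_mem _ _ (hpow i)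

theorem pow_not_mem_flagV [FiniteDimensional k L] (α : L) (hgen : Algebra.adjoin k {α} = ⊤) {j : ℕ}
    (hj : j < finrank k L) : α ^ j ∉ flagV k α j := by
  intro h
  have h1 := flagV_eq_top_of_pow_mem α hgen h
  have h2 := finrank_flagV_le (k := k) α j
  rw [h1, finrank_top] at h2
  omega

theorem finrank_flagV [FiniteDimensional k L] (α : L) (hgen : Algebra.adjoin k {α} = ⊤) {j : ℕ}
    (hj : j ≤ finrank k L) : finrank k (flagV k α j) = j := by
  induction j with
  | zero => rw [flagV_zero]; simp
  | succ j ih =>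
    have ih' := ih (by omega)
    have hnot := pow_not_mem_flagV α hgen (show j < finrank k L by omega)
    have hne : α ^ j ≠ 0 := by
      intro h0
      apply hnot
      rw [h0]
      exact Submodule.zero_mem _
    have hdisj : Submodule.span k {α ^ j} ⊓ flagV k α j = ⊥ := by
      rw [eq_bot_iff]
      intro x hx
      obtain ⟨hx1, hx2⟩ := Submodule.mem_inf.mp hx
      obtain ⟨c, rfl⟩ := Submodule.mem_span_singleton.mp hx1
      by_cases hc : c = 0
      · simp [hc]
      · exfalso
        apply hnot
        have := Submodule.smul_mem _ c⁻¹ hx2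
        rwa [smul_smul, inv_mul_cancel₀ hc, one_smul] at this
    have := Submodule.finrank_sup_add_finrank_inf_eq (Submodule.span k {α ^ j}) (flagV k α j)
    rw [hdisj, finrank_bot, add_zero, finrank_span_singleton hne, ih', ← flagV_succ] at this
    omega

theorem flagV_top [FiniteDimensional k L] (α : L) (hgen : Algebra.adjoin k {α} = ⊤) :
    flagV k α (finrank k L) = ⊤ :=
  Submodule.eq_top_of_finrank_eq (finrank_flagV α hgen le_rfl)

/-- multiplication by `α` strictly raises the level below the top -/
theorem flagV_of_mul_mem [FiniteDimensional k L] (α : L) (hgen : Algebra.adjoin k {α} = ⊤) {m : ℕ}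
    (hm : m + 1 < finrank k L) {y : L} (hy : y ∈ flagV k α (m + 1))
    (hy2 : α * y ∈ flagV k α (m + 1)) : y ∈ flagV k α m := by
  obtain ⟨c, hc⟩ := (mem_flagV_succ α m y).mp hy
  by_cases hc0 : c = 0
  · simpa [hc0] using hc
  · exfalso
    apply pow_not_mem_flagV α hgen hm
    have h1 := mul_mem_flagV (k := k) α m hc
    have h2 : α * (y - c • α ^ m) = α * y - c • α ^ (m + 1) := by
      rw [mul_sub, mul_smul_comm]; ring_nf
    rw [h2] at h1
    have h3 : c • α ^ (m + 1) ∈ flagV k α (m + 1) := by
      have := Submodule.sub_mem _ hy2 h1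
      simpa using this
    have := Submodule.smul_mem _ c⁻¹ h3
    rwa [smul_smul, inv_mul_cancel₀ hc0, one_smul] at this

/-- the powers `1, α, …, α^(n-1)` are linearly independent -/
theorem linearIndependent_pow_fin [FiniteDimensional k L] (α : L) (hgen : Algebra.adjoin k {α} = ⊤) :
    LinearIndependent k (fun i : Fin (finrank k L) => α ^ (i : ℕ)) := by
  apply linearIndependent_of_top_le_span_of_card_eq_finrank
  · rw [← flagV_top α hgen]
    unfold flagV
    apply Submodule.span_mono
    rintro x ⟨i, hi, rfl⟩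
    exact ⟨⟨i, hi⟩, rfl⟩
  · simp

end Cfsg.Agent.Lib.Helper26.SLGen
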