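import Mathlib
import Cfsg.Agent.Lib.Helper26.SLGenFlag

set_option autoImplicit false

/-!
Complementarity conditions `V ⊕ μ W = L` are "open along lines", and consequently finitely many
such conditions can be satisfied simultaneously over an infinite field.
-/

namespace Cfsg.Agent.Lib.Helper26.SLGen

open Module

variable {k L : Type*} [Field k] [Field L] [Algebra k L]

/-- the image `μ W` of a subspace under multiplication by `μ` -/
def mulSub (k : Type*) {L : Type*} [Field k] [Field L] [Algebra k L] (μ : L) (W : Submodule k L) :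
    Submodule k L :=
  W.map (LinearMap.mulLeft k μ)

theorem mem_mulSub {μ : L} {W : Submodule k L} {x : L} : x ∈ mulSub k μ W ↔ ∃ w ∈ W, μ * w = x :=
  Submodule.mem_map

theorem mul_mem_mulSub (μ : L) {W : Submodule k L} {w : L} (hw : w ∈ W) : μ * w ∈ mulSub k μ W :=
  mem_mulSub.mpr ⟨w, hw, rfl⟩

theorem mulSub_mono (μ : L) {W W' : Submodule k L} (h : W ≤ W') : mulSub k μ W ≤ mulSub k μ W' :=
  Submodule.map_mono h

theorem mulSub_bot (μ : L) : mulSub k μ (⊥ : Submodule k L) = ⊥ := Submodule.map_bot _

/-- multiplication by a nonzero element as a linear equivalence -/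
def mulEquiv (k : Type*) {L : Type*} [Field k] [Field L] [Algebra k L] (μ : L) (hμ : μ ≠ 0) : L ≃ₗ[k] L :=
  LinearEquiv.ofLinear (LinearMap.mulLeft k μ) (LinearMap.mulLeft k μ⁻¹)
    (by ext x; simp [hμ]) (by ext x; simp [hμ])

theorem finrank_mulSub {μ : L} (hμ : μ ≠ 0) (W : Submodule k L) :
    finrank k (mulSub k μ W) = finrank k W := by
  have : mulSub k μ W = W.map (mulEquiv k μ hμ : L →ₗ[k] L) := rfl
  rw [this]
  exact LinearEquiv.finrank_map_eq _ _

/-- the main "open along lines" lemma -/
theorem line_finite [FiniteDimensional k L] {V W : Submodule k L} {μ : L} (hμ : μ ≠ 0) (v : L)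
    (h : IsCompl V (mulSub k μ W)) :
    {s : k | ¬ (μ + s • v ≠ 0 ∧ IsCompl V (mulSub k (μ + s • v) W))}.Finite := by
  classical
  let P := mulSub k μ W
  let π : L →ₗ[k] P := P.projectionOnto V h.symm
  have hker : ∀ x ∈ V, π x = 0 := by
    intro x hx
    have : x ∈ LinearMap.ker π := by
      rw [Submodule.ker_projectionOnto]; exact hx
    exact this
  let T : Module.End k L :=
    (LinearMap.mulLeft k μ⁻¹) ∘ₗ P.subtype ∘ₗ π ∘ₗ (LinearMap.mulLeft k v)
  have hdim := Submodule.finrank_add_eq_of_isCompl h
  rw [finrank_mulSub hμ] at hdim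
  have hsub : {s : k | ¬ (μ + s • v ≠ 0 ∧ IsCompl V (mulSub k (μ + s • v) W))} ⊆
      {s : k | μ + s • v = 0} ∪ (fun s : k => -s⁻¹) ⁻¹' {e | T.HasEigenvalue e} := by
    intro s hs
    simp only [Set.mem_ofPred_eq] at hs
    by_cases hm : μ + s • v = 0
    · left; exact hm
    right
    have hnc : ¬ IsCompl V (mulSub k (μ + s • v) W) := fun hc => hs ⟨hm, hc⟩
    rw [Submodule.isCompl_iff_disjoint _ _ (by rw [finrank_mulSub hm, hdim]),
      Submodule.disjoint_def] at hnc
    push Not at hnc
    obtain ⟨x, hxV, hxW, hx0⟩ := hnc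
    obtain ⟨w, hwW, rfl⟩ := mem_mulSub.mp hxW
    have hw0 : w ≠ 0 := by
      intro h0; apply hx0; rw [h0, mul_zero]
    have h1 := hker _ hxV
    have h2 : (μ + s • v) * w = μ * w + s • (v * w) := by
      rw [add_mul, smul_mul_assoc]
    rw [h2, map_add, map_smul] at h1
    have h3 : π (μ * w) = ⟨μ * w, mul_mem_mulSub μ hwW⟩ :=
      Submodule.projectionOnto_apply_left h.symm ⟨μ * w, mul_mem_mulSub μ hwW⟩
    rw [h3] at h1
    have h4 : μ * w + s • ((π (v * w) : P) : L) = 0 := by
      have := congrArg (fun z : P => (z : L)) h1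
      simpa using this
    have hs0 : s ≠ 0 := by
      intro h0
      rw [h0, zero_smul, add_zero] at h4
      rcases mul_eq_zero.mp h4 with h5 | h5
      · exact hμ h5
      · exact hw0 h5
    have hT : T w = (-s⁻¹) • w := by
      change μ⁻¹ * ((π (v * w) : P) : L) = (-s⁻¹) • w
      have h5 : ((π (v * w) : P) : L) = (-s⁻¹) • (μ * w) := by
        have h6 : s • ((π (v * w) : P) : L) = -(μ * w) := by
          rw [eq_neg_iff_add_eq_zero, add_comm]; exact h4
        calc ((π (v * w) : P) : L) = s⁻¹ • (s • ((π (v * w) : P) : L)) := by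
              rw [smul_smul, inv_mul_cancel₀ hs0, one_smul]
          _ = (-s⁻¹) • (μ * w) := by rw [h6, neg_smul, smul_neg]
      rw [h5, mul_smul_comm, ← mul_assoc, inv_mul_cancel₀ hμ, one_mul]
    change T.HasEigenvalue (-s⁻¹)
    exact Module.End.hasEigenvalue_of_hasEigenvector ⟨Module.End.mem_eigenspace_iff.mpr hT, hw0⟩
  apply Set.Finite.subset _ hsub
  apply Set.Finite.union
  · apply Set.Subsingleton.finite
    intro s1 hs1 s2 hs2
    simp only [Set.mem_ofPred_eq] at hs1 hs2
    have hv : v ≠ 0 := by
      intro h0; rw [h0, smul_zero, add_zero] at hs1; exact hμ hs1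
    have : (s1 - s2) • v = 0 := by
      rw [sub_smul]
      have e1 : s1 • v = -μ := by rw [eq_neg_iff_add_eq_zero, add_comm]; exact hs1
      have e2 : s2 • v = -μ := by rw [eq_neg_iff_add_eq_zero, add_comm]; exact hs2
      rw [e1, e2, sub_self]
    rcases smul_eq_zero.mp this with h5 | h5
    · exact sub_eq_zero.mp h5
    · exact absurd h5 hv
  · apply Set.Finite.preimage
    · apply Set.injOn_of_injective
      exact neg_injective.comp inv_injective
    · exact Module.End.finite_hasEigenvalue T

/-- finitely many satisfiable line-open conditions are simultaneously satisfiable over an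
infinite field -/
theorem exists_common_of_line [Infinite k] {ι : Type*} (S : Finset ι) (C : ι → L → Prop)
    (hline : ∀ i ∈ S, ∀ μ v : L, C i μ → {t : k | ¬ C i (μ + t • v)}.Finite)
    (hwit : ∀ i ∈ S, ∃ w, C i w) : ∃ μ, ∀ i ∈ S, C i μ := by
  classical
  induction S using Finset.induction_on with
  | empty => exact ⟨0, by simp⟩
  | insert a S' ha ih =>
    obtain ⟨μ0, hμ0⟩ := ih (fun i hi => hline i (Finset.mem_insert_of_mem hi))
      (fun i hi => hwit i (Finset.mem_insert_of_mem hi))
    obtain ⟨w, hw⟩ := hwit a (Finset.mem_insert_self a S')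
    have hfin1 : (⋃ i ∈ (S' : Set ι), {t : k | ¬ C i (μ0 + t • (w - μ0))}).Finite := by
      apply Set.Finite.biUnion S'.finite_toSet
      intro i hi
      exact hline i (Finset.mem_insert_of_mem hi) μ0 (w - μ0) (hμ0 i hi)
    have hfin2 : {t : k | ¬ C a (μ0 + t • (w - μ0))}.Finite := by
      have h1 := hline a (Finset.mem_insert_self a S') w (w - μ0) hw
      have h2 : {t : k | ¬ C a (μ0 + t • (w - μ0))} =
          (fun t : k => t - 1) ⁻¹' {t : k | ¬ C a (w + t • (w - μ0))} := by
        ext t
        simp only [Set.mem_ofPred_eq, Set.mem_preimage]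
        have : w + (t - 1) • (w - μ0) = μ0 + t • (w - μ0) := by
          rw [sub_smul, one_smul]; abel
        rw [this]
      rw [h2]
      apply Set.Finite.preimage _ h1
      apply Set.injOn_of_injective
      exact sub_left_injective
    obtain ⟨t, ht⟩ := (hfin1.union hfin2).exists_notMem
    refine ⟨μ0 + t • (w - μ0), ?_⟩
    intro i hi
    rcases Finset.mem_insert.mp hi with rfl | hi'
    · by_contra hc
      exact ht (Or.inr hc)
    · by_contra hc
      apply ht
      left
      simp only [Set.mem_iUnion]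
      exact ⟨i, hi', hc⟩

end Cfsg.Agent.Lib.Helper26.SLGen
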