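import Mathlib
import Cfsg.Agent.Lib.Helper26.SLGenFlag
import Cfsg.Agent.Lib.Helper26.SLGenLine

set_option autoImplicit false

/-!
Generic elements `μ` of `L = k[α]`: all the Padé-type complementarity conditions hold.
-/

namespace Cfsg.Agent.Lib.Helper26.SLGen

open Module

variable {k L : Type*} [Field k] [Field L] [Algebra k L]

/-- `μ` is generic: `V j ⊕ μ V (n-j) = L = V j ⊕ α μ V (n-j)` for `1 ≤ j ≤ n-1` -/
def goodMu (k : Type*) {L : Type*} [Field k] [Field L] [Algebra k L] (α : L) (n : ℕ) (μ : L) : Prop :=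
  μ ≠ 0 ∧ ∀ j ∈ Finset.Icc 1 (n - 1),
    IsCompl (flagV k α j) (mulSub k μ (flagV k α (n - j))) ∧
    IsCompl (flagV k α j) (mulSub k (α * μ) (flagV k α (n - j)))

theorem goodMu.ne_zero {α : L} {n : ℕ} {μ : L} (h : goodMu k α n μ) : μ ≠ 0 := h.1

theorem goodMu.isCompl1 {α : L} {n : ℕ} {μ : L} (h : goodMu k α n μ) {j m : ℕ} (hj : 1 ≤ j)
    (hm : 1 ≤ m) (hjm : j + m = n) : IsCompl (flagV k α j) (mulSub k μ (flagV k α m)) := by
  have := (h.2 j (Finset.mem_Icc.mpr ⟨hj, by omega⟩)).1
  rwa [show n - j = m by omega] at this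

theorem goodMu.isCompl2 {α : L} {n : ℕ} {μ : L} (h : goodMu k α n μ) {j m : ℕ} (hj : 1 ≤ j)
    (hm : 1 ≤ m) (hjm : j + m = n) : IsCompl (flagV k α j) (mulSub k (α * μ) (flagV k α m)) := by
  have := (h.2 j (Finset.mem_Icc.mpr ⟨hj, by omega⟩)).2
  rwa [show n - j = m by omega] at this

theorem line_ne_zero_finite {μ : L} (hμ : μ ≠ 0) (v : L) : {s : k | μ + s • v = 0}.Finite := by
  apply Set.Subsingleton.finite
  intro s1 hs1 s2 hs2
  simp only [Set.mem_ofPred_eq] at hs1 hs2
  have hv : v ≠ 0 := by
    intro h0; rw [h0, smul_zero, add_zero] at hs1; exact hμ hs1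
  have : (s1 - s2) • v = 0 := by
    rw [sub_smul]
    have e1 : s1 • v = -μ := by rw [eq_neg_iff_add_eq_zero, add_comm]; exact hs1
    have e2 : s2 • v = -μ := by rw [eq_neg_iff_add_eq_zero, add_comm]; exact hs2
    rw [e1, e2, sub_self]
  rcases smul_eq_zero.mp this with h5 | h5
  · exact sub_eq_zero.mp h5
  · exact absurd h5 hv

theorem goodMu_line [FiniteDimensional k L] {α : L} (hα : α ≠ 0) {n : ℕ} {μ : L}
    (h : goodMu k α n μ) (v : L) : {t : k | ¬ goodMu k α n (μ + t • v)}.Finite := by
  classical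
  have hμ := h.1
  have hsub : {t : k | ¬ goodMu k α n (μ + t • v)} ⊆ {s : k | μ + s • v = 0} ∪
      ⋃ j ∈ ((Finset.Icc 1 (n - 1) : Finset ℕ) : Set ℕ),
        ({s : k | ¬ (μ + s • v ≠ 0 ∧
            IsCompl (flagV k α j) (mulSub k (μ + s • v) (flagV k α (n - j))))} ∪
         {s : k | ¬ (α * μ + s • (α * v) ≠ 0 ∧
            IsCompl (flagV k α j) (mulSub k (α * μ + s • (α * v)) (flagV k α (n - j))))}) := by
    intro t ht
    simp only [Set.mem_ofPred_eq] at ht
    by_contra hc
    apply ht
    simp only [Set.mem_union, Set.mem_ofPred_eq, Set.mem_iUnion, not_or, not_exists, not_not] at hc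
    obtain ⟨h0, h1⟩ := hc
    refine ⟨h0, fun j hj => ?_⟩
    have := h1 j (by exact_mod_cast hj)
    refine ⟨this.1.2, ?_⟩
    have e : α * (μ + t • v) = α * μ + t • (α * v) := by rw [mul_add, mul_smul_comm]
    rw [e]
    exact this.2.2
  apply Set.Finite.subset _ hsub
  apply Set.Finite.union (line_ne_zero_finite hμ v)
  apply Set.Finite.biUnion (Finset.finite_toSet _)
  intro j hj
  have hj' : j ∈ Finset.Icc 1 (n - 1) := by exact_mod_cast hj
  apply Set.Finite.union
  · exact line_finite hμ v (h.2 j hj').1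
  · exact line_finite (mul_ne_zero hα hμ) (α * v) (h.2 j hj').2

/-- the explicit witness for a single complementarity condition -/
theorem isCompl_flagV_pow [FiniteDimensional k L] (α : L) (hα : α ≠ 0)
    (hgen : Algebra.adjoin k {α} = ⊤) {j m : ℕ} (hjm : j + m = finrank k L) :
    IsCompl (flagV k α j) (mulSub k (α ^ j) (flagV k α m)) := by
  have hp : α ^ j ≠ 0 := pow_ne_zero j hα
  rw [Submodule.isCompl_iff_disjoint _ _ (by
    rw [finrank_mulSub hp, finrank_flagV α hgen (by omega), finrank_flagV α hgen (by omega)]; omega)]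
  have hli := linearIndependent_pow_fin α hgen
  have e1 : flagV k α j = Submodule.span k
      ((fun i : Fin (finrank k L) => α ^ (i : ℕ)) '' {i | (i : ℕ) < j}) := by
    unfold flagV
    congr 1
    ext x
    constructor
    · rintro ⟨i, hi, rfl⟩
      simp only [Set.mem_Iio] at hi
      exact ⟨⟨i, by omega⟩, hi, rfl⟩
    · rintro ⟨i, hi, rfl⟩
      exact ⟨i, hi, rfl⟩
  have e2 : mulSub k (α ^ j) (flagV k α m) = Submodule.span k
      ((fun i : Fin (finrank k L) => α ^ (i : ℕ)) '' {i | j ≤ (i : ℕ)}) := by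
    unfold mulSub flagV
    rw [Submodule.map_span]
    congr 1
    ext x
    constructor
    · rintro ⟨y, ⟨i, hi, rfl⟩, rfl⟩
      simp only [Set.mem_Iio] at hi
      refine ⟨⟨j + i, by omega⟩, by simp, ?_⟩
      simp [pow_add]
    · rintro ⟨i, hi, rfl⟩
      simp only [Set.mem_ofPred_eq] at hi
      refine ⟨α ^ ((i : ℕ) - j), ⟨(i : ℕ) - j, ?_, rfl⟩, ?_⟩
      · simp only [Set.mem_Iio]
        have := i.2
        omega
      · simp only [LinearMap.mulLeft_apply]
        rw [← pow_add]
        congr 1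
        omega
  rw [e1, e2]
  apply hli.disjoint_span_image
  rw [Set.disjoint_left]
  intro i hi1 hi2
  simp only [Set.mem_ofPred_eq] at hi1 hi2
  omega

/-- over an infinite field generic elements exist -/
theorem exists_goodMu [Infinite k] [FiniteDimensional k L] (α : L) (hα : α ≠ 0)
    (hgen : Algebra.adjoin k {α} = ⊤) : ∃ μ, goodMu k α (finrank k L) μ := by
  classical
  set n := finrank k L with hn
  by_cases hn1 : n ≤ 1
  · refine ⟨1, one_ne_zero, ?_⟩
    intro j hj
    rw [Finset.mem_Icc] at hj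
    omega
  push Not at hn1
  let C : ℕ × Bool → L → Prop := fun p μ =>
    μ ≠ 0 ∧ IsCompl (flagV k α p.1) (mulSub k ((if p.2 then α else 1) * μ) (flagV k α (n - p.1)))
  have key := exists_common_of_line (k := k) ((Finset.Icc 1 (n - 1)) ×ˢ (Finset.univ : Finset Bool)) C
    (by
      rintro ⟨j, b⟩ hjb μ v ⟨hμ, hc⟩
      have hc0 : (if b then α else 1) ≠ 0 := by
        split_ifs
        · exact hα
        · exact one_ne_zero
      have h1 := line_finite (mul_ne_zero hc0 hμ) ((if b then α else 1) * v) hc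
      apply Set.Finite.subset h1
      intro t ht
      simp only [Set.mem_ofPred_eq] at ht ⊢
      intro hh
      apply ht
      have e : (if b then α else 1) * (μ + t • v) =
          (if b then α else 1) * μ + t • ((if b then α else 1) * v) := by
        rw [mul_add, mul_smul_comm]
      refine ⟨?_, ?_⟩
      · intro h0
        apply hh.1
        rw [h0, mul_zero] at e
        exact e.symm
      · change IsCompl (flagV k α j) (mulSub k ((if b then α else 1) * (μ + t • v)) (flagV k α (n - j)))
        rw [e]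
        exact hh.2)
    (by
      rintro ⟨j, b⟩ hjb
      rw [Finset.mem_product, Finset.mem_Icc] at hjb
      obtain ⟨⟨hj1, hj2⟩, -⟩ := hjb
      have hw := isCompl_flagV_pow α hα hgen (show j + (n - j) = finrank k L by omega)
      cases b with
      | false =>
        refine ⟨α ^ j, pow_ne_zero j hα, ?_⟩
        change IsCompl (flagV k α j) (mulSub k ((if false = true then α else 1) * α ^ j) (flagV k α (n - j)))
        simpa using hw
      | true =>
        refine ⟨α ^ (j - 1), pow_ne_zero _ hα, ?_⟩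
        change IsCompl (flagV k α j) (mulSub k ((if true = true then α else 1) * α ^ (j - 1)) (flagV k α (n - j)))
        have e : α * α ^ (j - 1) = α ^ j := by
          rw [← pow_succ']; congr 1; omega
        simpa [e] using hw)
  obtain ⟨μ, hμ⟩ := key
  have h1 := hμ (1, false) (by simp [Finset.mem_product, Finset.mem_Icc]; omega)
  refine ⟨μ, h1.1, ?_⟩
  intro j hj
  have ha := hμ (j, false) (by simp [Finset.mem_product]; exact Finset.mem_Icc.mp hj)
  have hb := hμ (j, true) (by simp [Finset.mem_product]; exact Finset.mem_Icc.mp hj)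
  refine ⟨?_, ?_⟩
  · have := ha.2
    simpa [C] using this
  · have := hb.2
    simpa [C] using this

end Cfsg.Agent.Lib.Helper26.SLGen
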