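import Mathlib
import Cfsg.Agent.Lib.helper6.SL2Conc
import Cfsg.Agent.Lib.helper6.SL2Gen

set_option autoImplicit false

/-!
The subgroup of `SL₂(L)` generated by the upper unitriangular matrices with entries in `k`
and the lower unitriangular matrices with entries in `k α`: basic group theoretic facts.
-/

namespace Cfsg.Agent.Lib.Helper26.SLGen

open Matrix Cfsg.Agent.Lib.helper6.SL2Conc Cfsg.Agent.Lib.helper6.SL2Gen
open scoped MatrixGroups

variable {k L : Type*} [Field k] [Field L] [Algebra k L]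

/-- the generating set -/
def genSet (k : Type*) {L : Type*} [Field k] [Field L] [Algebra k L] (α : L) : Set SL(2,L) :=
  {g | ∃ c : k, g = xu (algebraMap k L c)} ∪ {g | ∃ c : k, g = yl (algebraMap k L c * α)}

/-- the generated subgroup -/
def XG (k : Type*) {L : Type*} [Field k] [Field L] [Algebra k L] (α : L) : Subgroup SL(2,L) :=
  Subgroup.closure (genSet k α)

theorem xu_mem_XG (α : L) (c : k) : xu (algebraMap k L c) ∈ XG k α :=
  Subgroup.subset_closure (Or.inl ⟨c, rfl⟩)

theorem yl_mem_XG (α : L) (c : k) : yl (algebraMap k L c * α) ∈ XG k α :=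
  Subgroup.subset_closure (Or.inr ⟨c, rfl⟩)

/-- parameters of upper unitriangular matrices inside the group -/
def RU (k : Type*) {L : Type*} [Field k] [Field L] [Algebra k L] (α : L) : AddSubgroup L where
  carrier := {t | xu t ∈ XG k α}
  zero_mem' := by
    change xu (0 : L) ∈ XG k α
    rw [xu_zero]; exact Subgroup.one_mem _
  add_mem' := by
    intro a b ha hb
    change xu (a + b) ∈ XG k α
    rw [xu_add]; exact Subgroup.mul_mem _ ha hb
  neg_mem' := by
    intro a ha
    change xu (-a) ∈ XG k α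
    rw [xu_neg]; exact Subgroup.inv_mem _ ha

/-- parameters of lower unitriangular matrices inside the group -/
def RL (k : Type*) {L : Type*} [Field k] [Field L] [Algebra k L] (α : L) : AddSubgroup L where
  carrier := {t | yl t ∈ XG k α}
  zero_mem' := by
    change yl (0 : L) ∈ XG k α
    rw [yl_zero]; exact Subgroup.one_mem _
  add_mem' := by
    intro a b ha hb
    change yl (a + b) ∈ XG k α
    rw [yl_add]; exact Subgroup.mul_mem _ ha hb
  neg_mem' := by
    intro a ha
    change yl (-a) ∈ XG k α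
    rw [yl_neg]; exact Subgroup.inv_mem _ ha

theorem mem_RU {α : L} {t : L} : t ∈ RU k α ↔ xu t ∈ XG k α := Iff.rfl
theorem mem_RL {α : L} {t : L} : t ∈ RL k α ↔ yl t ∈ XG k α := Iff.rfl

theorem one_mem_RU (α : L) : (1 : L) ∈ RU k α := by
  rw [mem_RU]
  have := xu_mem_XG (k := k) α 1
  rwa [map_one] at this

theorem alpha_mem_RL (α : L) : α ∈ RL k α := by
  rw [mem_RL]
  have := yl_mem_XG (k := k) α 1
  rwa [map_one, one_mul] at this

/-- the diagonal matrix `diag(c, c⁻¹)` -/
def hd (c : L) (hc : c ≠ 0) : SL(2,L) := ⟨!![c, 0; 0, c⁻¹], by simp [Matrix.det_fin_two, hc]⟩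

theorem hd00 (c : L) (hc : c ≠ 0) : (hd c hc) 0 0 = c := rfl
theorem hd01 (c : L) (hc : c ≠ 0) : (hd c hc) 0 1 = 0 := rfl
theorem hd10 (c : L) (hc : c ≠ 0) : (hd c hc) 1 0 = 0 := rfl
theorem hd11 (c : L) (hc : c ≠ 0) : (hd c hc) 1 1 = c⁻¹ := rfl

theorem hd_conj_xu (c : L) (hc : c ≠ 0) (t : L) :
    hd c hc * xu t * (hd c hc)⁻¹ = xu (c ^ 2 * t) := by
  apply sl_ext
  · rw [mul_apply00, mul_apply00, mul_apply01, inv_apply00, inv_apply10, hd00, hd01, hd10, hd11]
    simp [hc]
  · rw [mul_apply01, mul_apply00, mul_apply01, inv_apply01, inv_apply11, hd00, hd01]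
    simp; ring
  · rw [mul_apply10, mul_apply10, mul_apply11, inv_apply00, inv_apply10, hd10, hd11]
    simp
  · rw [mul_apply11, mul_apply10, mul_apply11, inv_apply01, inv_apply11, hd00, hd01, hd10, hd11]
    simp [hc]

theorem hd_conj_yl (c : L) (hc : c ≠ 0) (t : L) :
    hd c hc * yl t * (hd c hc)⁻¹ = yl ((c⁻¹) ^ 2 * t) := by
  apply sl_ext
  · rw [mul_apply00, mul_apply00, mul_apply01, inv_apply00, inv_apply10, hd00, hd01, hd10, hd11]
    simp [hc]
  · rw [mul_apply01, mul_apply00, mul_apply01, inv_apply01, inv_apply11, hd00, hd01]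
    simp
  · rw [mul_apply10, mul_apply10, mul_apply11, inv_apply00, inv_apply10, hd10, hd11]
    simp; ring
  · rw [mul_apply11, mul_apply10, mul_apply11, inv_apply01, inv_apply11, hd00, hd01, hd10, hd11]
    simp [hc]

/-- the torus over `k` normalizes the group -/
theorem hd_conj_mem (α : L) (c : k) (hc : algebraMap k L c ≠ 0) {g : SL(2,L)} (hg : g ∈ XG k α) :
    hd (algebraMap k L c) hc * g * (hd (algebraMap k L c) hc)⁻¹ ∈ XG k α := by
  unfold XG at hg
  induction hg using Subgroup.closure_induction with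
  | mem x hx =>
    rcases hx with ⟨a, rfl⟩ | ⟨a, rfl⟩
    · rw [hd_conj_xu, ← map_pow, ← map_mul]
      exact xu_mem_XG α _
    · rw [hd_conj_yl, ← map_inv₀, ← map_pow, ← mul_assoc, ← map_mul]
      exact yl_mem_XG α _
  | one => simp
  | mul x y _ _ hx hy =>
    have : hd (algebraMap k L c) hc * (x * y) * (hd (algebraMap k L c) hc)⁻¹ =
        (hd (algebraMap k L c) hc * x * (hd (algebraMap k L c) hc)⁻¹) *
        (hd (algebraMap k L c) hc * y * (hd (algebraMap k L c) hc)⁻¹) := by group
    rw [this]; exact Subgroup.mul_mem _ hx hy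
  | inv x _ hx =>
    have : hd (algebraMap k L c) hc * x⁻¹ * (hd (algebraMap k L c) hc)⁻¹ =
        (hd (algebraMap k L c) hc * x * (hd (algebraMap k L c) hc)⁻¹)⁻¹ := by group
    rw [this]; exact Subgroup.inv_mem _ hx

theorem sq_mul_mem_RU (α : L) (c : k) {t : L} (ht : t ∈ RU k α) :
    (algebraMap k L c) ^ 2 * t ∈ RU k α := by
  by_cases hc : algebraMap k L c = 0
  · rw [hc]; simp
  · rw [mem_RU, ← hd_conj_xu _ hc]
    exact hd_conj_mem α c hc ht

theorem sq_mul_mem_RL (α : L) (c : k) {t : L} (ht : t ∈ RL k α) :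
    (algebraMap k L c) ^ 2 * t ∈ RL k α := by
  by_cases hc : c = 0
  · rw [hc]; simp
  · have hc' : algebraMap k L c⁻¹ ≠ 0 := by
      rw [map_ne_zero]; exact inv_ne_zero hc
    rw [mem_RL]
    have := hd_conj_mem α c⁻¹ hc' ht
    rw [hd_conj_yl] at this
    rwa [map_inv₀, inv_inv] at this

/-- the multiplicative stabilizer of an additive subgroup -/
def stabR (A : AddSubgroup L) : Subring L where
  carrier := {x | ∀ t ∈ A, x * t ∈ A}
  mul_mem' := by
    intro a b ha hb t ht
    rw [mul_assoc]; exact ha _ (hb _ ht)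
  one_mem' := by intro t ht; simpa using ht
  add_mem' := by
    intro a b ha hb t ht
    rw [add_mul]; exact A.add_mem (ha _ ht) (hb _ ht)
  zero_mem' := by intro t _; simp
  neg_mem' := by
    intro a ha t ht
    rw [neg_mul]; exact A.neg_mem (ha _ ht)

theorem mem_stabR {A : AddSubgroup L} {x : L} : x ∈ stabR A ↔ ∀ t ∈ A, x * t ∈ A := Iff.rfl

/-- if squares of `k` stabilize `A` then all of `k` does (characteristic not two) -/
theorem algebraMap_mem_stabR (h2 : (2 : k) ≠ 0) {A : AddSubgroup L}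
    (hA : ∀ c : k, ∀ t ∈ A, (algebraMap k L c) ^ 2 * t ∈ A) (c : k) :
    algebraMap k L c ∈ stabR A := by
  intro t ht
  have h1 := hA ((c + 1) / 2) t ht
  have h3 := hA ((c - 1) / 2) t ht
  have h4 := A.sub_mem h1 h3
  have e : algebraMap k L c * t =
      algebraMap k L ((c + 1) / 2) ^ 2 * t - algebraMap k L ((c - 1) / 2) ^ 2 * t := by
    rw [← sub_mul, ← map_pow, ← map_pow, ← map_sub]
    congr 2
    field_simp
    ring
  rw [e]; exact h4

theorem algebraMap_mem_stabR_RU (h2 : (2 : k) ≠ 0) (α : L) (c : k) :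
    algebraMap k L c ∈ stabR (RU k α) :=
  algebraMap_mem_stabR h2 (fun c _ ht => sq_mul_mem_RU α c ht) c

theorem algebraMap_mem_stabR_RL (h2 : (2 : k) ≠ 0) (α : L) (c : k) :
    algebraMap k L c ∈ stabR (RL k α) :=
  algebraMap_mem_stabR h2 (fun c _ ht => sq_mul_mem_RL α c ht) c

/-- a stabilizer containing `k` and `α` is everything -/
theorem stabR_eq_top {A : AddSubgroup L} {α : L} (hgen : Algebra.adjoin k {α} = ⊤)
    (hk : ∀ c : k, algebraMap k L c ∈ stabR A) (hα : α ∈ stabR A) : stabR A = ⊤ := by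
  let S : Subalgebra k L := { (stabR A).toSubsemiring with algebraMap_mem' := hk }
  have h1 : Algebra.adjoin k {α} ≤ S := by
    apply Algebra.adjoin_le
    intro x hx
    rw [Set.mem_singleton_iff] at hx
    subst hx
    exact hα
  rw [eq_top_iff]
  intro x _
  have : x ∈ S := h1 (by rw [hgen]; trivial)
  exact this

/-- an element of the group with vanishing upper left entry swaps the two parameter groups -/
theorem swap_mem (α : L) {g : SL(2,L)} (hg : g ∈ XG k α) (h00 : g 0 0 = 0) (t : L) :
    t ∈ RU k α ↔ (g 1 0) ^ 2 * t ∈ RL k α := by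
  have hd := sl_det g
  rw [h00, zero_mul, zero_sub] at hd
  have hc : g 1 0 ≠ 0 := by
    intro h; rw [h, mul_zero, neg_zero] at hd; exact zero_ne_one hd
  have e1 : g * xu t * g⁻¹ = yl (-((g 1 0) ^ 2 * t)) := by
    apply sl_ext
    · rw [mul_apply00, mul_apply00, mul_apply01, inv_apply00, inv_apply10]
      simp only [xu00, xu01, xu10, xu11, yl00, h00]
      linear_combination hd
    · rw [mul_apply01, mul_apply00, mul_apply01, inv_apply01, inv_apply11]
      simp only [xu00, xu01, xu10, xu11, yl01, h00]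
      ring
    · rw [mul_apply10, mul_apply10, mul_apply11, inv_apply00, inv_apply10]
      simp only [xu00, xu01, xu10, xu11, yl10]
      ring
    · rw [mul_apply11, mul_apply10, mul_apply11, inv_apply01, inv_apply11]
      simp only [xu00, xu01, xu10, xu11, yl11, h00]
      linear_combination hd
  have e2 : g⁻¹ * yl ((g 1 0) ^ 2 * t) * g = xu (-t) := by
    apply sl_ext
    · rw [mul_apply00, mul_apply00, mul_apply01, inv_apply00, inv_apply01]
      simp only [yl00, yl01, yl10, yl11, xu00, h00]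
      linear_combination hd
    · rw [mul_apply01, mul_apply00, mul_apply01, inv_apply00, inv_apply01]
      simp only [yl00, yl01, yl10, yl11, xu01]
      linear_combination (t * g 0 1 * g 1 0 - t) * hd
    · rw [mul_apply10, mul_apply10, mul_apply11, inv_apply10, inv_apply11]
      simp only [yl00, yl01, yl10, yl11, xu10, h00]
      ring
    · rw [mul_apply11, mul_apply10, mul_apply11, inv_apply10, inv_apply11]
      simp only [yl00, yl01, yl10, yl11, xu11, h00]
      linear_combination hd
  constructor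
  · intro ht
    have := Subgroup.mul_mem _ (Subgroup.mul_mem _ hg (mem_RU.mp ht)) (Subgroup.inv_mem _ hg)
    rw [e1] at this
    have h := (RL k α).neg_mem (mem_RL.mpr this)
    rwa [neg_neg] at h
  · intro ht
    have := Subgroup.mul_mem _ (Subgroup.mul_mem _ (Subgroup.inv_mem _ hg) (mem_RL.mp ht)) hg
    rw [e2] at this
    have h := (RU k α).neg_mem (mem_RU.mpr this)
    rwa [neg_neg] at h

theorem XG_eq_top_of_stab (α : L) (hα : α ≠ 0) (hR : stabR (RU k α) = ⊤) (hS : stabR (RL k α) = ⊤) :
    XG k α = ⊤ := by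
  apply top_of_xu_yl
  · intro t
    have h1 : t ∈ stabR (RU k α) := by rw [hR]; trivial
    have := h1 1 (one_mem_RU α)
    rwa [mul_one] at this
  · intro t
    have h1 : t / α ∈ stabR (RL k α) := by rw [hS]; trivial
    have := h1 α (alpha_mem_RL α)
    rwa [div_mul_cancel₀ _ hα] at this

theorem XG_eq_top_of_stab_swap (α : L) (hR : stabR (RU k α) = ⊤) {g : SL(2,L)}
    (hg : g ∈ XG k α) (h00 : g 0 0 = 0) : XG k α = ⊤ := by
  have hd := sl_det g
  rw [h00, zero_mul, zero_sub] at hd
  have hc : g 1 0 ≠ 0 := by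
    intro h; rw [h, mul_zero, neg_zero] at hd; exact zero_ne_one hd
  have hRU : ∀ t : L, t ∈ RU k α := by
    intro t
    have h1 : t ∈ stabR (RU k α) := by rw [hR]; trivial
    have := h1 1 (one_mem_RU α)
    rwa [mul_one] at this
  apply top_of_xu_yl
  · intro t; exact hRU t
  · intro t
    have := (swap_mem α hg h00 (t / (g 1 0) ^ 2)).mp (hRU _)
    rwa [mul_div_cancel₀ _ (pow_ne_zero 2 hc)] at this

end Cfsg.Agent.Lib.Helper26.SLGen
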