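import Mathlib
import Cfsg.Agent.Lib.Helper26.SLGenGroup
import Cfsg.Agent.Lib.Helper26.SLGenFlag
import Cfsg.Agent.Lib.Helper26.SLGenLine
import Cfsg.Agent.Lib.Helper26.SLGenGood

set_option autoImplicit false

/-!
The chain of Padé approximants of a generic element `μ`, and the resulting group element.
-/

namespace Cfsg.Agent.Lib.Helper26.SLGen

open Module Matrix Cfsg.Agent.Lib.helper6.SL2Conc Cfsg.Agent.Lib.helper6.SL2Gen
open scoped MatrixGroups

variable {k L : Type*} [Field k] [Field L] [Algebra k L]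

/-- the action of `SL₂(L)` on pairs -/
def act (g : SL(2,L)) (p : L × L) : L × L :=
  (g 0 0 * p.1 + g 0 1 * p.2, g 1 0 * p.1 + g 1 1 * p.2)

theorem act_mul (g h : SL(2,L)) (p : L × L) : act (g * h) p = act g (act h p) := by
  unfold act
  rw [mul_apply00, mul_apply01, mul_apply10, mul_apply11]
  ext
  · simp only; ring
  · simp only; ring

theorem act_xu (t : L) (p : L × L) : act (xu t) p = (p.1 + t * p.2, p.2) := by
  unfold act
  simp only [xu00, xu01, xu10, xu11]
  ext
  · simp only; ring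
  · simp only; ring

theorem act_yl (s : L) (p : L × L) : act (yl s) p = (p.1, s * p.1 + p.2) := by
  unfold act
  simp only [yl00, yl01, yl10, yl11]
  ext
  · simp only; ring
  · simp only; ring

/-- `x ≡ α^j mod V j` and `x ∈ μ V m` -/
def isPp (k : Type*) {L : Type*} [Field k] [Field L] [Algebra k L] (α μ : L) (j m : ℕ) (x : L) : Prop :=
  x - α ^ j ∈ flagV k α j ∧ x ∈ mulSub k μ (flagV k α m)

/-- `x ≡ α^j mod V j` and `x ∈ α μ V m` -/
def isP (k : Type*) {L : Type*} [Field k] [Field L] [Algebra k L] (α μ : L) (j m : ℕ) (x : L) : Prop :=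
  x - α ^ j ∈ flagV k α j ∧ x ∈ mulSub k (α * μ) (flagV k α m)

theorem ne_zero_of_congr [FiniteDimensional k L] {α : L} (hgen : Algebra.adjoin k {α} = ⊤) {j : ℕ}
    (hj : j < finrank k L) {x : L} (hx : x - α ^ j ∈ flagV k α j) : x ≠ 0 := by
  intro h0
  apply pow_not_mem_flagV α hgen hj
  rw [h0, zero_sub] at hx
  have := Submodule.neg_mem _ hx
  rwa [neg_neg] at this

theorem mem_succ_of_congr {α : L} {j : ℕ} {x : L} (hx : x - α ^ j ∈ flagV k α j) :
    x ∈ flagV k α (j + 1) := by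
  have h1 : x = (x - α ^ j) + α ^ j := by ring
  rw [h1]
  exact Submodule.add_mem _ (flagV_mono α (Nat.le_succ j) hx) (pow_mem_flagV α (Nat.lt_succ_self j))

section chain

variable [FiniteDimensional k L] {α μ : L} {n : ℕ}

theorem mem_mulSub_top (hgen : Algebra.adjoin k {α} = ⊤) (hn : finrank k L = n) {c : L} (hc : c ≠ 0)
    (x : L) : x ∈ mulSub k c (flagV k α n) := by
  rw [← hn, flagV_top α hgen]
  exact mem_mulSub.mpr ⟨c⁻¹ * x, trivial, by rw [← mul_assoc, mul_inv_cancel₀ hc, one_mul]⟩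

theorem isPp_zero_one (hgen : Algebra.adjoin k {α} = ⊤) (hn : finrank k L = n) (hμ : μ ≠ 0) :
    isPp k α μ 0 n 1 :=
  ⟨by simp, mem_mulSub_top hgen hn hμ 1⟩

theorem isP_zero_one (hgen : Algebra.adjoin k {α} = ⊤) (hn : finrank k L = n) (hα : α ≠ 0)
    (hμ : μ ≠ 0) : isP k α μ 0 n 1 :=
  ⟨by simp, mem_mulSub_top hgen hn (mul_ne_zero hα hμ) 1⟩

theorem isPp_zero_eq {m : ℕ} {x : L} (h : isPp k α μ 0 m x) : x = 1 := by
  have := h.1
  rw [flagV_zero, Submodule.mem_bot, pow_zero, sub_eq_zero] at this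
  exact this

theorem exists_isPp (hgood : goodMu k α n μ) {j m : ℕ} (hj : 1 ≤ j) (hm : 1 ≤ m) (hjm : j + m = n) :
    ∃ x, isPp k α μ j m x := by
  have hc := hgood.isCompl1 hj hm hjm
  have : α ^ j ∈ flagV k α j ⊔ mulSub k μ (flagV k α m) := by rw [hc.sup_eq_top]; trivial
  obtain ⟨v, hv, y, hy, hvy⟩ := Submodule.mem_sup.mp this
  refine ⟨y, ?_, hy⟩
  have : y - α ^ j = -v := by rw [← hvy]; ring
  rw [this]
  exact Submodule.neg_mem _ hv

theorem exists_isP (hgood : goodMu k α n μ) {j m : ℕ} (hj : 1 ≤ j) (hm : 1 ≤ m) (hjm : j + m = n) :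
    ∃ x, isP k α μ j m x := by
  have hc := hgood.isCompl2 hj hm hjm
  have : α ^ j ∈ flagV k α j ⊔ mulSub k (α * μ) (flagV k α m) := by rw [hc.sup_eq_top]; trivial
  obtain ⟨v, hv, y, hy, hvy⟩ := Submodule.mem_sup.mp this
  refine ⟨y, ?_, hy⟩
  have : y - α ^ j = -v := by rw [← hvy]; ring
  rw [this]
  exact Submodule.neg_mem _ hv

theorem exists_isPp' (hgen : Algebra.adjoin k {α} = ⊤) (hn : finrank k L = n)
    (hgood : goodMu k α n μ) {j m : ℕ} (hm : 1 ≤ m) (hjm : j + m = n) :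
    ∃ x, isPp k α μ j m x := by
  rcases Nat.eq_zero_or_pos j with h0 | h0
  · subst h0
    rw [zero_add] at hjm
    subst hjm
    exact ⟨1, isPp_zero_one hgen hn hgood.ne_zero⟩
  · exact exists_isPp hgood h0 hm hjm

theorem uniq' (hgood : goodMu k α n μ) {i m' : ℕ} (him : i + m' = n) (hm' : 1 ≤ m') {d y' : L}
    (hd1 : d ∈ flagV k α (i + 1)) (hd2 : d ∈ mulSub k μ (flagV k α m'))
    (hy : isPp k α μ i m' y') : ∃ c : k, d = c • y' := by
  obtain ⟨c, hc⟩ := (mem_flagV_succ α i d).mp hd1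
  refine ⟨c, ?_⟩
  have hz1 : d - c • y' ∈ flagV k α i := by
    have : d - c • y' = (d - c • α ^ i) - c • (y' - α ^ i) := by rw [smul_sub]; ring
    rw [this]
    exact Submodule.sub_mem _ hc (Submodule.smul_mem _ c hy.1)
  have hz2 : d - c • y' ∈ mulSub k μ (flagV k α m') :=
    Submodule.sub_mem _ hd2 (Submodule.smul_mem _ c hy.2)
  have hz : d - c • y' = 0 := by
    rcases Nat.eq_zero_or_pos i with h0 | h0
    · subst h0
      rw [flagV_zero, Submodule.mem_bot] at hz1
      exact hz1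
    · have hc := hgood.isCompl1 h0 hm' him
      exact (Submodule.disjoint_def.mp hc.disjoint) _ hz1 hz2
  exact sub_eq_zero.mp hz

theorem uniq (hgood : goodMu k α n μ) {i m' : ℕ} (him : i + m' = n) (hm' : 1 ≤ m') {d y : L}
    (hd1 : d ∈ flagV k α (i + 1)) (hd2 : d ∈ mulSub k (α * μ) (flagV k α m'))
    (hy : isP k α μ i m' y) : ∃ c : k, d = c • y := by
  obtain ⟨c, hc⟩ := (mem_flagV_succ α i d).mp hd1
  refine ⟨c, ?_⟩
  have hz1 : d - c • y ∈ flagV k α i := by
    have : d - c • y = (d - c • α ^ i) - c • (y - α ^ i) := by rw [smul_sub]; ring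
    rw [this]
    exact Submodule.sub_mem _ hc (Submodule.smul_mem _ c hy.1)
  have hz2 : d - c • y ∈ mulSub k (α * μ) (flagV k α m') :=
    Submodule.sub_mem _ hd2 (Submodule.smul_mem _ c hy.2)
  have hz : d - c • y = 0 := by
    rcases Nat.eq_zero_or_pos i with h0 | h0
    · subst h0
      rw [flagV_zero, Submodule.mem_bot] at hz1
      exact hz1
    · have hc := hgood.isCompl2 h0 hm' him
      exact (Submodule.disjoint_def.mp hc.disjoint) _ hz1 hz2
  exact sub_eq_zero.mp hz

theorem rel1 (hgen : Algebra.adjoin k {α} = ⊤) (hn : finrank k L = n) (hgood : goodMu k α n μ)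
    {i m : ℕ} (him : i + 1 + m = n) (hm : 1 ≤ m) {x' x y' : L}
    (hx' : isPp k α μ (i + 1) m x') (hx : isP k α μ (i + 1) m x) (hy' : isPp k α μ i (m + 1) y') :
    ∃ q : k, q ≠ 0 ∧ x' - x = q • y' := by
  have hμ := hgood.ne_zero
  have hd1 : x' - x ∈ flagV k α (i + 1) := by
    have : x' - x = (x' - α ^ (i + 1)) - (x - α ^ (i + 1)) := by ring
    rw [this]
    exact Submodule.sub_mem _ hx'.1 hx.1
  have hd2 : x' - x ∈ mulSub k μ (flagV k α (m + 1)) := by
    apply Submodule.sub_mem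
    · exact mulSub_mono μ (flagV_mono α (Nat.le_succ m)) hx'.2
    · obtain ⟨r, hr, hrx⟩ := mem_mulSub.mp hx.2
      rw [← hrx, mul_assoc, mul_left_comm]
      exact mul_mem_mulSub μ (mul_mem_flagV α m hr)
  obtain ⟨q, hq⟩ := uniq' hgood (show i + (m + 1) = n by omega) (by omega) hd1 hd2 hy'
  refine ⟨q, ?_, hq⟩
  intro hq0
  rw [hq0, zero_smul, sub_eq_zero] at hq
  obtain ⟨a, ha, hax⟩ := mem_mulSub.mp hx'.2
  obtain ⟨b, hb, hbx⟩ := mem_mulSub.mp hx.2
  have hab : a = α * b := by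
    have : μ * a = μ * (α * b) := by rw [hax, hq, ← hbx]; ring
    exact mul_left_cancel₀ hμ this
  obtain ⟨m0, rfl⟩ : ∃ m0, m = m0 + 1 := ⟨m - 1, by omega⟩
  have hb0 : b ∈ flagV k α m0 :=
    flagV_of_mul_mem α hgen (by omega) hb (hab ▸ ha)
  have hxne : x ≠ 0 := ne_zero_of_congr hgen (by omega) hx.1
  apply hxne
  have hx2 : x ∈ flagV k α (i + 1 + 1) := mem_succ_of_congr hx.1
  have hx3 : x ∈ mulSub k (α * μ) (flagV k α m0) := by
    rw [← hbx]; exact mul_mem_mulSub _ hb0
  rcases Nat.eq_zero_or_pos m0 with h0 | h0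
  · subst h0
    rw [flagV_zero, mulSub_bot, Submodule.mem_bot] at hx3
    exact hx3
  · have hc := hgood.isCompl2 (show 1 ≤ i + 1 + 1 by omega) h0 (by omega)
    exact (Submodule.disjoint_def.mp hc.disjoint) _ hx2 hx3

theorem rel2 (hgen : Algebra.adjoin k {α} = ⊤) (hn : finrank k L = n) (hα : α ≠ 0)
    (hgood : goodMu k α n μ) {j m : ℕ} (hjm : j + 1 + m = n) {z x' x : L}
    (hz : isP k α μ (j + 1) m z) (hx' : isPp k α μ j (m + 1) x') (hx : isP k α μ j (m + 1) x) :
    ∃ e : k, e ≠ 0 ∧ z - α * x' = e • x := by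
  have hd1 : z - α * x' ∈ flagV k α (j + 1) := by
    have : z - α * x' = (z - α ^ (j + 1)) - α * (x' - α ^ j) := by ring
    rw [this]
    exact Submodule.sub_mem _ hz.1 (mul_mem_flagV α j hx'.1)
  have hd2 : z - α * x' ∈ mulSub k (α * μ) (flagV k α (m + 1)) := by
    apply Submodule.sub_mem
    · exact mulSub_mono _ (flagV_mono α (Nat.le_succ m)) hz.2
    · obtain ⟨r, hr, hrx⟩ := mem_mulSub.mp hx'.2
      rw [← hrx, ← mul_assoc]
      exact mul_mem_mulSub _ hr
  obtain ⟨e, he⟩ := uniq hgood (show j + (m + 1) = n by omega) (by omega) hd1 hd2 hx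
  refine ⟨e, ?_, he⟩
  intro he0
  rw [he0, zero_smul, sub_eq_zero] at he
  obtain ⟨b, hb, hbz⟩ := mem_mulSub.mp hz.2
  have hxb : x' = μ * b := by
    have : α * x' = α * (μ * b) := by rw [← he, ← hbz]; ring
    exact mul_left_cancel₀ hα this
  have hxne : x' ≠ 0 := ne_zero_of_congr hgen (by omega) hx'.1
  apply hxne
  have hx2 : x' ∈ flagV k α (j + 1) := mem_succ_of_congr hx'.1
  have hx3 : x' ∈ mulSub k μ (flagV k α m) := by
    rw [hxb]; exact mul_mem_mulSub _ hb
  rcases Nat.eq_zero_or_pos m with h0 | h0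
  · subst h0
    rw [flagV_zero, mulSub_bot, Submodule.mem_bot] at hx3
    exact hx3
  · have hc := hgood.isCompl1 (show 1 ≤ j + 1 by omega) h0 (by omega)
    exact (Submodule.disjoint_def.mp hc.disjoint) _ hx2 hx3

theorem chain (hgen : Algebra.adjoin k {α} = ⊤) (hn : finrank k L = n) (hα : α ≠ 0)
    (hgood : goodMu k α n μ) (j : ℕ) : ∀ m : ℕ, j + 1 + m = n → ∀ x' z : L,
    isPp k α μ j (m + 1) x' → isP k α μ (j + 1) m z → ∀ s t : k, s ≠ 0 → t ≠ 0 →
    ∃ g ∈ XG k α, ∃ s0 t0 : k, s0 ≠ 0 ∧ t0 ≠ 0 ∧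
      act g (s • x', t • z) = (algebraMap k L s0, algebraMap k L t0) := by
  induction j with
  | zero =>
    intro m hm x' z hx' hz s t hs ht
    have hx1 := isPp_zero_eq hx'
    subst hx1
    have hP : isP k α μ 0 (m + 1) 1 := by
      have := isP_zero_one (k := k) hgen hn hα hgood.ne_zero
      rwa [show n = m + 1 by omega] at this
    obtain ⟨e, he0, he⟩ := rel2 hgen hn hα hgood hm hz hx' hP
    have hz' : z = α + algebraMap k L e := by
      have : z = (z - α * 1) + α := by ring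
      rw [this, he, Algebra.smul_def]; ring
    refine ⟨yl (algebraMap k L (-t / s) * α), yl_mem_XG α _, s, t * e, hs, mul_ne_zero ht he0, ?_⟩
    rw [act_yl]
    have hs' : algebraMap k L s ≠ 0 := by rwa [map_ne_zero]
    ext
    · simp [Algebra.smul_def]
    · simp only [Algebra.smul_def, hz', map_div₀, map_neg, map_mul]
      field_simp
      ring
  | succ j ih =>
    intro m hm x' z hx' hz s t hs ht
    obtain ⟨x, hx⟩ := exists_isP hgood (show 1 ≤ j + 1 by omega) (show 1 ≤ m + 1 by omega)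
      (show j + 1 + (m + 1) = n by omega)
    obtain ⟨e, he0, he⟩ := rel2 hgen hn hα hgood hm hz hx' hx
    obtain ⟨y', hy'⟩ := exists_isPp' hgen hn hgood (show 1 ≤ m + 1 + 1 by omega)
      (show j + (m + 1 + 1) = n by omega)
    obtain ⟨q, hq0, hq⟩ := rel1 hgen hn hgood (show j + 1 + (m + 1) = n by omega) (by omega) hx' hx hy'
    obtain ⟨g3, hg3, s0, t0, hs0, ht0, hact⟩ := ih (m + 1) (by omega) y' x hy' hx (s * q) (t * e)
      (mul_ne_zero hs hq0) (mul_ne_zero ht he0)
    refine ⟨g3 * xu (algebraMap k L (-s / (t * e))) * yl (algebraMap k L (-t / s) * α), ?_,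
      s0, t0, hs0, ht0, ?_⟩
    · exact Subgroup.mul_mem _ (Subgroup.mul_mem _ hg3 (xu_mem_XG α _)) (yl_mem_XG α _)
    · rw [act_mul, act_mul, ← hact]
      congr 1
      rw [act_yl, act_xu]
      have hs' : algebraMap k L s ≠ 0 := by rwa [map_ne_zero]
      have ht' : algebraMap k L t ≠ 0 := by rwa [map_ne_zero]
      have he' : algebraMap k L e ≠ 0 := by rwa [map_ne_zero]
      have hz' : z = α * x' + algebraMap k L e * x := by
        have : z = (z - α * x') + α * x' := by ring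
        rw [this, he, Algebra.smul_def]; ring
      have hx'' : x' = x + algebraMap k L q * y' := by
        have : x' = (x' - x) + x := by ring
        rw [this, hq, Algebra.smul_def]; ring
      have h2 : algebraMap k L (-t / s) * α * (s • x') + t • z = (t * e) • x := by
        simp only [Algebra.smul_def, hz', map_div₀, map_neg, map_mul]
        field_simp
        ring
      ext
      · simp only [h2]
        simp only [Algebra.smul_def, map_div₀, map_neg, map_mul]
        rw [hx'']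
        field_simp
        ring
      · simp only [h2]

/-- a generic `μ` yields an element of the group with vanishing upper left entry and lower left
entry in `k* μ⁻¹` -/
theorem exists_swap_of_good (hgen : Algebra.adjoin k {α} = ⊤) (hn : finrank k L = n) (hα : α ≠ 0)
    (hgood : goodMu k α n μ) :
    ∃ g ∈ XG k α, g 0 0 = 0 ∧ ∃ c : k, c ≠ 0 ∧ g 1 0 * μ = algebraMap k L c := by
  have hnpos : 0 < n := by rw [← hn]; exact finrank_pos
  obtain ⟨x', hx'⟩ := exists_isPp' hgen hn hgood (show 1 ≤ 1 by omega)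
    (show (n - 1) + 1 = n by omega)
  have hz : isP k α μ (n - 1 + 1) 0 0 := by
    refine ⟨?_, Submodule.zero_mem _⟩
    rw [show n - 1 + 1 = n by omega, ← hn, flagV_top α hgen]
    trivial
  obtain ⟨g, hg, s0, t0, hs0, ht0, hact⟩ := chain hgen hn hα hgood (n - 1) 0 (by omega) x' 0 hx' hz
    1 1 one_ne_zero one_ne_zero
  simp only [act, one_smul, mul_zero, add_zero, Prod.mk.injEq] at hact
  obtain ⟨h1, h2⟩ := hact
  have hx0 : x' ≠ 0 := ne_zero_of_congr hgen (by omega) hx'.1
  obtain ⟨r, hr, hrx⟩ := mem_mulSub.mp hx'.2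
  have hr' : r ∈ flagV k α 1 := hr
  rw [show (1 : ℕ) = 0 + 1 from rfl, mem_flagV_succ] at hr'
  obtain ⟨c0, hc0⟩ := hr'
  rw [flagV_zero, Submodule.mem_bot, pow_zero, sub_eq_zero] at hc0
  have hc0' : r = algebraMap k L c0 := by rw [hc0, Algebra.smul_def, mul_one]
  have hc0ne : c0 ≠ 0 := by
    intro h; apply hx0; rw [← hrx, hc0', h, map_zero, mul_zero]
  have ht0' : algebraMap k L t0 ≠ 0 := by rwa [map_ne_zero]
  refine ⟨xu (algebraMap k L (-s0 / t0)) * g, Subgroup.mul_mem _ (xu_mem_XG α _) hg, ?_,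
    t0 / c0, div_ne_zero ht0 hc0ne, ?_⟩
  · rw [mul_apply00]
    simp only [xu00, xu01]
    have : (1 * g 0 0 + algebraMap k L (-s0 / t0) * g 1 0) * x' = 0 := by
      rw [add_mul, one_mul, h1, mul_assoc, h2, map_div₀, map_neg]
      field_simp
      ring
    rcases mul_eq_zero.mp this with h | h
    · exact h
    · exact absurd h hx0
  · rw [mul_apply10]
    simp only [xu10, xu11, zero_mul, one_mul, zero_add]
    have hc0'' : algebraMap k L c0 ≠ 0 := by rwa [map_ne_zero]
    rw [map_div₀, eq_div_iff hc0'', ← h2, ← hrx, hc0']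
    ring

end chain

end Cfsg.Agent.Lib.Helper26.SLGen
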