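import Mathlib
import Cfsg.Agent.Lib.Helper26.SLGenChain
import Cfsg.Agent.Lib.helper6.Dickson801

set_option autoImplicit false

/-!
`⟨xu(c), yl(c α) : c ∈ k⟩ = SL₂(k[α])`: the infinite case through generic Padé chains,
the finite case through Dickson's generation lemma.
-/

namespace Cfsg.Agent.Lib.Helper26.SLGen

open Module Matrix Cfsg.Agent.Lib.helper6.SL2Conc Cfsg.Agent.Lib.helper6.SL2Gen
open scoped MatrixGroups

variable {k L : Type*} [Field k] [Field L] [Algebra k L]

theorem stab_of_good_pair [FiniteDimensional k L] {α : L} {n : ℕ}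
    (hgen : Algebra.adjoin k {α} = ⊤) (hn : finrank k L = n) (hα : α ≠ 0) {μ μ' : L}
    (h : goodMu k α n μ) (h' : goodMu k α n μ') : (μ' / μ) ^ 2 ∈ stabR (RU k α) := by
  obtain ⟨g, hg, g00, c, hc, hgc⟩ := exists_swap_of_good hgen hn hα h
  obtain ⟨g', hg', g00', c', hc', hgc'⟩ := exists_swap_of_good hgen hn hα h'
  have hμ := h.ne_zero
  have hμ' := h'.ne_zero
  have e1 : g 1 0 = algebraMap k L c / μ := by rw [eq_div_iff hμ]; exact hgc
  have e2 : g' 1 0 = algebraMap k L c' / μ' := by rw [eq_div_iff hμ']; exact hgc'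
  intro t ht
  rw [swap_mem α hg' g00']
  have h1 := (swap_mem α hg g00 t).mp ht
  have h2 := sq_mul_mem_RL α (c' / c) h1
  have hcL : algebraMap k L c ≠ 0 := by rwa [map_ne_zero]
  have e : g' 1 0 ^ 2 * ((μ' / μ) ^ 2 * t) = algebraMap k L (c' / c) ^ 2 * (g 1 0 ^ 2 * t) := by
    rw [e1, e2, map_div₀]
    field_simp
  rw [e]; exact h2

theorem XG_eq_top_infinite [Infinite k] [FiniteDimensional k L] (h2 : (2 : k) ≠ 0) {α : L}
    (hgen : Algebra.adjoin k {α} = ⊤) (hα : α ≠ 0) : XG k α = ⊤ := by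
  obtain ⟨μ, hμ⟩ := exists_goodMu α hα hgen
  obtain ⟨g, hg, h00, -⟩ := exists_swap_of_good hgen rfl hα hμ
  apply XG_eq_top_of_stab_swap α _ hg h00
  rw [eq_top_iff]
  intro w _
  have hfin := goodMu_line hα hμ (w * μ)
  obtain ⟨s1, hs1⟩ := (hfin.union (Set.finite_singleton (0 : k))).exists_notMem
  obtain ⟨s2, hs2⟩ :=
    ((hfin.union (Set.finite_singleton (0 : k))).union (Set.finite_singleton s1)).exists_notMem
  simp only [Set.mem_union, Set.mem_ofPred_eq, Set.mem_singleton_iff, not_or, not_not] at hs1 hs2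
  obtain ⟨hg1, hs10⟩ := hs1
  obtain ⟨⟨hg2, hs20⟩, hs21⟩ := hs2
  have hμ0 := hμ.ne_zero
  have key : ∀ s : k, goodMu k α (finrank k L) (μ + s • (w * μ)) →
      (1 + algebraMap k L s * w) ^ 2 ∈ stabR (RU k α) := by
    intro s hs
    have := stab_of_good_pair hgen rfl hα hμ hs
    have e : (μ + s • (w * μ)) / μ = 1 + algebraMap k L s * w := by
      rw [Algebra.smul_def]; field_simp
    rwa [e] at this
  have k1 := key s1 hg1
  have k2 := key s2 hg2
  set S := stabR (RU k α) with hS
  have hk : ∀ c : k, algebraMap k L c ∈ S := algebraMap_mem_stabR_RU h2 α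
  set a1 := algebraMap k L s1 with ha1
  set a2 := algebraMap k L s2 with ha2
  have hE1 : (1 + a1 * w) ^ 2 - 1 ∈ S := S.sub_mem k1 S.one_mem
  have hE2 : (1 + a2 * w) ^ 2 - 1 ∈ S := S.sub_mem k2 S.one_mem
  have hcomb : a2 ^ 2 * ((1 + a1 * w) ^ 2 - 1) - a1 ^ 2 * ((1 + a2 * w) ^ 2 - 1) ∈ S :=
    S.sub_mem (S.mul_mem (S.pow_mem (hk s2) 2) hE1) (S.mul_mem (S.pow_mem (hk s1) 2) hE2)
  have hden : (2 * s1 * s2 * (s2 - s1) : k) ≠ 0 := by
    apply mul_ne_zero (mul_ne_zero (mul_ne_zero h2 hs10) hs20)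
    exact sub_ne_zero.mpr hs21
  have hκ := hk ((2 * s1 * s2 * (s2 - s1))⁻¹)
  have hfinal := S.mul_mem hκ hcomb
  have hdenL : algebraMap k L (2 * s1 * s2 * (s2 - s1)) ≠ 0 := by rwa [map_ne_zero]
  have e : algebraMap k L ((2 * s1 * s2 * (s2 - s1))⁻¹) *
      (a2 ^ 2 * ((1 + a1 * w) ^ 2 - 1) - a1 ^ 2 * ((1 + a2 * w) ^ 2 - 1)) = w := by
    rw [map_inv₀, inv_mul_eq_iff_eq_mul₀ hdenL]
    simp only [map_mul, map_sub, map_ofNat, ← ha1, ← ha2]
    ring
  rwa [e] at hfinal

theorem weyl_conj_yl_aux (n : SL(2,L)) (n00 : n 0 0 = 0) (n01 : n 0 1 = 1) (n10 : n 1 0 = -1)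
    (n11 : n 1 1 = 0) (b : L) : n * yl b * n⁻¹ = xu (-b) := by
  apply sl_ext
  · rw [mul_apply00, mul_apply00, mul_apply01, inv_apply00, inv_apply10, n00, n01, n10, n11]; simp
  · rw [mul_apply01, mul_apply00, mul_apply01, inv_apply01, inv_apply11, n00, n01]; simp
  · rw [mul_apply10, mul_apply10, mul_apply11, inv_apply00, inv_apply10, n10, n11]; simp
  · rw [mul_apply11, mul_apply10, mul_apply11, inv_apply01, inv_apply11, n00, n01, n10, n11]; simp

/-- conjugation of a lower unitriangular matrix by the Weyl element -/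
theorem weyl_conj_yl (b : L) :
    (xu (1 : L) * yl (-1) * xu 1) * yl b * (xu (1 : L) * yl (-1) * xu 1)⁻¹ = xu (-b) := by
  obtain ⟨n00, n01, n10, n11⟩ := weyl_entries (F := L)
  exact weyl_conj_yl_aux _ n00 n01 n10 n11 b

theorem nt_entries (t : L) (ht : t ≠ 0) :
    (xu t * yl (-t⁻¹) * xu t : SL(2,L)) 0 0 = 0 ∧ (xu t * yl (-t⁻¹) * xu t : SL(2,L)) 0 1 = t ∧
    (xu t * yl (-t⁻¹) * xu t : SL(2,L)) 1 0 = -t⁻¹ ∧ (xu t * yl (-t⁻¹) * xu t : SL(2,L)) 1 1 = 0 := by
  refine ⟨?_, ?_, ?_, ?_⟩
  · rw [mul_apply00, mul_apply00, mul_apply01]; simp [ht]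
  · rw [mul_apply01, mul_apply00, mul_apply01]; simp [ht]
  · rw [mul_apply10, mul_apply10, mul_apply11]; simp
  · rw [mul_apply11, mul_apply10, mul_apply11]; simp [ht]

theorem hd_eq_aux (t : L) (ht : t ≠ 0) (m n : SL(2,L)) (m00 : m 0 0 = 0) (m01 : m 0 1 = t)
    (m10 : m 1 0 = -t⁻¹) (m11 : m 1 1 = 0) (n00 : n 0 0 = 0) (n01 : n 0 1 = 1) (n10 : n 1 0 = -1)
    (n11 : n 1 1 = 0) : hd t ht = m * n⁻¹ := by
  apply sl_ext
  · rw [mul_apply00, inv_apply00, inv_apply10, m00, m01, n10, n11, hd00]; simp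
  · rw [mul_apply01, inv_apply01, inv_apply11, m00, m01, n00, n01, hd01]; simp
  · rw [mul_apply10, inv_apply00, inv_apply10, m10, m11, n10, n11, hd10]; simp
  · rw [mul_apply11, inv_apply01, inv_apply11, m10, m11, n00, n01, hd11]; simp

theorem hd_eq (t : L) (ht : t ≠ 0) :
    hd t ht = xu t * yl (-t⁻¹) * xu t * (xu (1 : L) * yl (-1) * xu 1)⁻¹ := by
  obtain ⟨n00, n01, n10, n11⟩ := weyl_entries (F := L)
  obtain ⟨m00, m01, m10, m11⟩ := nt_entries t ht
  exact hd_eq_aux t ht _ _ m00 m01 m10 m11 n00 n01 n10 n11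

theorem map_xu {F : Type*} [Field F] (f : F →+* L) (t : F) :
    Matrix.SpecialLinearGroup.map f (xu t) = xu (f t) := by
  apply sl_ext <;> simp [Matrix.SpecialLinearGroup.map_apply_coe, RingHom.mapMatrix_apply]

theorem map_yl {F : Type*} [Field F] (f : F →+* L) (t : F) :
    Matrix.SpecialLinearGroup.map f (yl t) = yl (f t) := by
  apply sl_ext <;> simp [Matrix.SpecialLinearGroup.map_apply_coe, RingHom.mapMatrix_apply]

theorem closure_subtype_eq_top (lam : L) (F : Subfield L) (hF : F = Subfield.closure ({lam} : Set L))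
    (lam' : F) (hlam' : (lam' : L) = lam) : Subfield.closure ({lam'} : Set F) = ⊤ := by
  subst hF
  rw [eq_top_iff]
  intro x _
  have h1 : Subfield.closure ({lam} : Set L) ≤
      (Subfield.closure ({lam'} : Set (Subfield.closure ({lam} : Set L)))).map
        (Subfield.closure ({lam} : Set L)).subtype := by
    apply Subfield.closure_le.mpr
    intro y hy
    rw [Set.mem_singleton_iff] at hy
    subst hy
    exact ⟨lam', Subfield.subset_closure (Set.mem_singleton _), hlam'⟩
  obtain ⟨y, hy, hyx⟩ := h1 x.2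
  have : y = x := Subtype.ext hyx
  rw [← this]; exact hy

theorem XG_eq_top_finite [Finite k] [FiniteDimensional k L] (h2 : (2 : k) ≠ 0)
    (h3 : Nat.card k ≠ 3) {α : L} (hgen : Algebra.adjoin k {α} = ⊤) (hα : α ≠ 0) :
    XG k α = ⊤ := by
  classical
  haveI : Finite L := Module.finite_of_finite k
  have h2L : (2 : L) ≠ 0 := by
    have h : algebraMap k L 2 ≠ 0 := by rwa [map_ne_zero]
    rwa [map_ofNat] at h
  -- choose a scalar making `c α` non-exceptional
  obtain ⟨c0, hc0, hexc⟩ : ∃ c0 : k, c0 ≠ 0 ∧ (algebraMap k L c0 * α) ^ 2 ≠ -1 := by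
    by_cases hα2 : α ^ 2 = -1
    · have hex : ∃ c0 : k, c0 ≠ 0 ∧ c0 ≠ 1 ∧ c0 ≠ -1 := by
        by_contra hne
        push Not at hne
        apply h3
        haveI : Fintype k := Fintype.ofFinite k
        rw [Nat.card_eq_fintype_card]
        have h01 : (0 : k) ≠ 1 := zero_ne_one
        have h1m : (1 : k) ≠ -1 := by
          intro h
          apply h2
          have : (1 : k) + 1 = 0 := by nth_rw 2 [h]; ring
          rw [← this]; norm_num
        have h0m : (0 : k) ≠ -1 := by
          intro h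
          have : (1 : k) = 0 := by
            have := congrArg (fun x => -x) h
            simpa using this.symm
          exact one_ne_zero this
        have hsub : (Finset.univ : Finset k) ⊆ {0, 1, -1} := by
          intro c _
          simp only [Finset.mem_insert, Finset.mem_singleton]
          by_cases hc : c = 0
          · left; exact hc
          · by_cases hc1 : c = 1
            · right; left; exact hc1
            · right; right; exact hne c hc hc1
        have hcard : ({0, 1, -1} : Finset k).card = 3 := by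
          rw [Finset.card_insert_of_notMem, Finset.card_insert_of_notMem, Finset.card_singleton]
          · simpa using h1m
          · simp only [Finset.mem_insert, Finset.mem_singleton, not_or]
            exact ⟨h01, h0m⟩
        have hle : Fintype.card k ≤ 3 := by
          rw [← hcard, ← Finset.card_univ]; exact Finset.card_le_card hsub
        have hge : 3 ≤ Fintype.card k := by
          rw [← hcard, ← Finset.card_univ]; exact Finset.card_le_card (Finset.subset_univ _)
        omega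
      obtain ⟨c0, hc0, hc1, hcm⟩ := hex
      refine ⟨c0, hc0, ?_⟩
      intro h
      rw [mul_pow, hα2, mul_neg, mul_one, neg_inj, ← map_pow] at h
      have h' : c0 ^ 2 = 1 := by
        apply (algebraMap k L).injective
        rw [h, map_one]
      have : (c0 - 1) * (c0 + 1) = 0 := by ring_nf; rw [h']; ring
      rcases mul_eq_zero.mp this with h5 | h5
      · exact hc1 (sub_eq_zero.mp h5)
      · exact hcm (eq_neg_of_add_eq_zero_left h5)
    · exact ⟨1, one_ne_zero, by simpa using hα2⟩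
  set lam : L := algebraMap k L c0 * α with hlam
  have hc0L : algebraMap k L c0 ≠ 0 := by rwa [map_ne_zero]
  have hlam0 : lam ≠ 0 := mul_ne_zero hc0L hα
  set F : Subfield L := Subfield.closure ({lam} : Set L) with hF
  set lam' : F := ⟨lam, Subfield.subset_closure (Set.mem_singleton lam)⟩ with hlam'
  haveI : Fintype F := Fintype.ofFinite F
  have hdick := Cfsg.Agent.Lib.helper6.Dickson801.dickson_gen (F := F)
    (by
      intro h
      apply h2L
      rw [← map_ofNat F.subtype 2, h, map_zero])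
    lam'
    (by
      intro h
      apply hlam0
      have h' := Subtype.ext_iff.mp h
      exact h')
    (closure_subtype_eq_top lam F hF lam' rfl)
  have htop : Subgroup.closure ({yl (1 : F), xu lam'} : Set SL(2,F)) = ⊤ := by
    rcases hdick with h | h
    · exact h.1
    · exfalso
      apply hexc
      have h' := Subtype.ext_iff.mp h.2.1
      simpa using h'
  -- transfer to `SL₂(L)`
  let φ : SL(2,F) →* SL(2,L) := Matrix.SpecialLinearGroup.map F.subtype
  obtain ⟨w, hw⟩ : ∃ w : SL(2,L), w = xu (1 : L) * yl (-1) * xu 1 := ⟨_, rfl⟩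
  have hwx : ∀ a : L, w * xu a * w⁻¹ = yl (-a) := by
    intro a; rw [hw]; exact weyl_conj a
  have hwy : ∀ b : L, w * yl b * w⁻¹ = xu (-b) := by
    intro b; rw [hw]; exact weyl_conj_yl b
  have hgenD : ∀ h : SL(2,F), w⁻¹ * φ h * w ∈ XG k α := by
    intro h
    have hh : h ∈ Subgroup.closure ({yl (1 : F), xu lam'} : Set SL(2,F)) := by rw [htop]; trivial
    induction hh using Subgroup.closure_induction with
    | mem x hx =>
      rcases hx with rfl | hx
      · have e : φ (yl (1 : F)) = yl (1 : L) := by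
          change Matrix.SpecialLinearGroup.map F.subtype (yl (1 : F)) = _
          rw [map_yl]; simp
        rw [e]
        have e2 : w⁻¹ * yl (1 : L) * w = xu (-1) := by
          have := hwx (-1)
          rw [neg_neg] at this
          rw [← this]; group
        rw [e2]
        have := xu_mem_XG (k := k) α (-1)
        simpa using this
      · rw [Set.mem_singleton_iff] at hx
        subst hx
        have e : φ (xu lam') = xu lam := by
          change Matrix.SpecialLinearGroup.map F.subtype (xu lam') = _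
          rw [map_xu]; rfl
        rw [e]
        have e2 : w⁻¹ * xu lam * w = yl (-lam) := by
          have := hwy (-lam)
          rw [neg_neg] at this
          rw [← this]; group
        rw [e2, yl_neg]
        exact Subgroup.inv_mem _ (yl_mem_XG α c0)
    | one => simp
    | mul x y _ _ hx hy =>
      have : w⁻¹ * φ (x * y) * w = (w⁻¹ * φ x * w) * (w⁻¹ * φ y * w) := by
        rw [map_mul]; group
      rw [this]; exact Subgroup.mul_mem _ hx hy
    | inv x _ hx =>
      have : w⁻¹ * φ x⁻¹ * w = (w⁻¹ * φ x * w)⁻¹ := by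
        rw [map_inv]; group
      rw [this]; exact Subgroup.inv_mem _ hx
  have hFU : ∀ t : L, t ∈ F → t ∈ RU k α := by
    intro t ht
    have h1 := hgenD (yl (⟨-t, F.neg_mem ht⟩ : F))
    have e : φ (yl (⟨-t, F.neg_mem ht⟩ : F)) = yl (-t) := by
      change Matrix.SpecialLinearGroup.map F.subtype (yl _) = _
      rw [map_yl]; rfl
    rw [e] at h1
    have e2 : w⁻¹ * yl (-t) * w = xu t := by
      have := hwx t
      rw [← this]; group
    rwa [e2] at h1
  have hFL : ∀ t : L, t ∈ F → t ∈ RL k α := by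
    intro t ht
    have h1 := hgenD (xu (⟨-t, F.neg_mem ht⟩ : F))
    have e : φ (xu (⟨-t, F.neg_mem ht⟩ : F)) = xu (-t) := by
      change Matrix.SpecialLinearGroup.map F.subtype (xu _) = _
      rw [map_xu]; rfl
    rw [e] at h1
    have e2 : w⁻¹ * xu (-t) * w = yl t := by
      have := hwy t
      rw [← this]; group
    rwa [e2] at h1
  have hhd : ∀ t : L, t ∈ F → ∀ ht : t ≠ 0, hd t ht ∈ XG k α := by
    intro t ht ht0
    rw [hd_eq]
    refine Subgroup.mul_mem _ (Subgroup.mul_mem _ (Subgroup.mul_mem _ (hFU t ht) ?_) (hFU t ht)) ?_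
    · exact hFL _ (F.neg_mem (F.inv_mem ht))
    · apply Subgroup.inv_mem
      exact Subgroup.mul_mem _ (Subgroup.mul_mem _ (hFU 1 F.one_mem) (hFL _ (F.neg_mem F.one_mem)))
        (hFU 1 F.one_mem)
  have hsqU : ∀ t : L, t ∈ F → ∀ r ∈ RU k α, t ^ 2 * r ∈ RU k α := by
    intro t ht r hr
    by_cases ht0 : t = 0
    · rw [ht0]; simp
    · rw [mem_RU, ← hd_conj_xu t ht0]
      exact Subgroup.mul_mem _ (Subgroup.mul_mem _ (hhd t ht ht0) hr) (Subgroup.inv_mem _ (hhd t ht ht0))
  have hsqL : ∀ t : L, t ∈ F → ∀ r ∈ RL k α, t ^ 2 * r ∈ RL k α := by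
    intro t ht r hr
    by_cases ht0 : t = 0
    · rw [ht0]; simp
    · have hti : t⁻¹ ≠ 0 := inv_ne_zero ht0
      have := Subgroup.mul_mem _ (Subgroup.mul_mem _ (hhd t⁻¹ (F.inv_mem ht) hti) hr)
        (Subgroup.inv_mem _ (hhd t⁻¹ (F.inv_mem ht) hti))
      rw [hd_conj_yl, inv_inv] at this
      exact this
  have h2F : (2 : L) ∈ F := by
    have : (2 : L) = 1 + 1 := by norm_num
    rw [this]; exact F.add_mem F.one_mem F.one_mem
  have hstab : ∀ A : AddSubgroup L, (∀ t : L, t ∈ F → ∀ r ∈ A, t ^ 2 * r ∈ A) →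
      ∀ t : L, t ∈ F → t ∈ stabR A := by
    intro A hA t ht r hr
    have ha : (t + 1) / 2 ∈ F := F.div_mem (F.add_mem ht F.one_mem) h2F
    have hb : (t - 1) / 2 ∈ F := F.div_mem (F.sub_mem ht F.one_mem) h2F
    have := A.sub_mem (hA _ ha r hr) (hA _ hb r hr)
    have e : t * r = ((t + 1) / 2) ^ 2 * r - ((t - 1) / 2) ^ 2 * r := by
      field_simp
      ring
    rw [e]; exact this
  have hlamF : lam ∈ F := Subfield.subset_closure (Set.mem_singleton lam)
  have hαe : α = algebraMap k L c0⁻¹ * lam := by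
    rw [hlam, map_inv₀, ← mul_assoc, inv_mul_cancel₀ hc0L, one_mul]
  apply XG_eq_top_of_stab α hα
  · apply stabR_eq_top hgen (algebraMap_mem_stabR_RU h2 α)
    have := (stabR (RU k α)).mul_mem (algebraMap_mem_stabR_RU h2 α c0⁻¹) (hstab _ hsqU lam hlamF)
    rwa [← hαe] at this
  · apply stabR_eq_top hgen (algebraMap_mem_stabR_RL h2 α)
    have := (stabR (RL k α)).mul_mem (algebraMap_mem_stabR_RL h2 α c0⁻¹) (hstab _ hsqL lam hlamF)
    rwa [← hαe] at this

/-- the main theorem in abstract form -/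
theorem XG_eq_top [FiniteDimensional k L] (hk2 : ringChar k ≠ 2) (hk3 : Nat.card k ≠ 3) {α : L}
    (hgen : Algebra.adjoin k {α} = ⊤) (hα : α ≠ 0) : XG k α = ⊤ := by
  have h2 : (2 : k) ≠ 0 := Ring.two_ne_zero hk2
  rcases finite_or_infinite k with hfin | hinf
  · exact XG_eq_top_finite h2 hk3 hgen hα
  · exact XG_eq_top_infinite h2 hgen hα

end Cfsg.Agent.Lib.Helper26.SLGen
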