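import Mathlib
import Cfsg.Agent.Lib.Helper26.SLGenMain

set_option autoImplicit false

/-!
Transfer of the generation theorem to matrices over an ambient field `K ⊇ k(α)`.
-/

namespace Cfsg.Agent.Lib.Helper26.SLGen

open Module Matrix Cfsg.Agent.Lib.helper6.SL2Conc Cfsg.Agent.Lib.helper6.SL2Gen
open scoped MatrixGroups

theorem map_entry {F K : Type*} [Field F] [Field K] (f : F →+* K) (g : SL(2,F)) (i j : Fin 2) :
    (Matrix.SpecialLinearGroup.map f g) i j = f (g i j) := by
  rw [Matrix.SpecialLinearGroup.map_apply_coe, RingHom.mapMatrix_apply, Matrix.map_apply]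

theorem sl_generated_adjoin {k K : Type*} [Field k] [Field K] [Algebra k K] (hk2 : ringChar k ≠ 2)
    (hk3 : Nat.card k ≠ 3) (α : K) (hα : IsAlgebraic k α) (hα0 : α ≠ 0) :
    (Subgroup.closure ({g : Matrix.SpecialLinearGroup (Fin 2) K | ∃ c : k,
        (g : Matrix (Fin 2) (Fin 2) K) = !![1, algebraMap k K c; 0, 1]} ∪
        {g : Matrix.SpecialLinearGroup (Fin 2) K | ∃ c : k,
        (g : Matrix (Fin 2) (Fin 2) K) = !![1, 0; algebraMap k K c * α, 1]}) :
      Set (Matrix.SpecialLinearGroup (Fin 2) K)) =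
    {g : Matrix.SpecialLinearGroup (Fin 2) K | ∀ i j : Fin 2,
      (g : Matrix (Fin 2) (Fin 2) K) i j ∈ IntermediateField.adjoin k ({α} : Set K)} := by
  classical
  have hint : IsIntegral k α := hα.isIntegral
  set E : IntermediateField k K := IntermediateField.adjoin k ({α} : Set K) with hE
  haveI : FiniteDimensional k E := IntermediateField.adjoin.finiteDimensional hint
  set gen : E := IntermediateField.AdjoinSimple.gen k α with hgen
  have hgenc : (gen : K) = α := IntermediateField.AdjoinSimple.coe_gen k α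
  have hadj : Algebra.adjoin k {gen} = ⊤ := by
    have := (IntermediateField.adjoin.powerBasis hint).adjoin_gen_eq_top
    rwa [IntermediateField.adjoin.powerBasis_gen] at this
  have hgen0 : gen ≠ 0 := by
    intro h
    apply hα0
    rw [← hgenc, h]; rfl
  have htop := XG_eq_top hk2 hk3 hadj hgen0
  let f : E →+* K := algebraMap E K
  have hf : ∀ x : E, f x = (x : K) := fun _ => rfl
  let φ : SL(2,E) →* SL(2,K) := Matrix.SpecialLinearGroup.map f
  have hφ : ∀ (g : SL(2,E)) (i j : Fin 2), (φ g) i j = ((g i j : E) : K) := fun g i j => map_entry f g i j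
  have hset : ({g : Matrix.SpecialLinearGroup (Fin 2) K | ∃ c : k,
        (g : Matrix (Fin 2) (Fin 2) K) = !![1, algebraMap k K c; 0, 1]} ∪
        {g : Matrix.SpecialLinearGroup (Fin 2) K | ∃ c : k,
        (g : Matrix (Fin 2) (Fin 2) K) = !![1, 0; algebraMap k K c * α, 1]}) = φ '' genSet k gen := by
    ext g
    constructor
    · rintro (⟨c, hc⟩ | ⟨c, hc⟩)
      · refine ⟨xu (algebraMap k E c), Or.inl ⟨c, rfl⟩, ?_⟩
        apply Matrix.SpecialLinearGroup.ext
        intro i j
        rw [hφ, hc]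
        fin_cases i <;> fin_cases j <;> simp [xu] <;> rfl
      · refine ⟨yl (algebraMap k E c * gen), Or.inr ⟨c, rfl⟩, ?_⟩
        apply Matrix.SpecialLinearGroup.ext
        intro i j
        rw [hφ, hc]
        fin_cases i <;> fin_cases j <;> simp [yl, hgenc] <;> rfl
    · rintro ⟨h, (⟨c, rfl⟩ | ⟨c, rfl⟩), rfl⟩
      · left
        refine ⟨c, ?_⟩
        ext i j
        rw [hφ]
        fin_cases i <;> fin_cases j <;> simp [xu] <;> rfl
      · right
        refine ⟨c, ?_⟩
        ext i j
        rw [hφ]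
        fin_cases i <;> fin_cases j <;> simp [yl, hgenc] <;> rfl
  rw [hset, ← MonoidHom.map_closure]
  have : Subgroup.closure (genSet k gen) = ⊤ := htop
  rw [this]
  ext g
  simp only [Subgroup.coe_map, Subgroup.coe_top, Set.image_univ, Set.mem_range, Set.mem_ofPred_eq]
  constructor
  · rintro ⟨h, rfl⟩ i j
    rw [hφ]
    exact (h i j).2
  · intro hg
    have hdet : Matrix.det (Matrix.of fun i j : Fin 2 => (⟨g i j, hg i j⟩ : E)) = 1 := by
      have h1 := g.2
      rw [Matrix.det_fin_two] at h1 ⊢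
      apply Subtype.ext
      simpa using h1
    refine ⟨⟨Matrix.of fun i j : Fin 2 => (⟨g i j, hg i j⟩ : E), hdet⟩, ?_⟩
    apply Matrix.SpecialLinearGroup.ext
    intro i j
    exact hφ ⟨Matrix.of fun i j : Fin 2 => (⟨g i j, hg i j⟩ : E), hdet⟩ i j

end Cfsg.Agent.Lib.Helper26.SLGen
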