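import Mathlib
import Cfsg.Agent.Lib.Helper26.SLRoot

set_option autoImplicit false

/-!
# Transvections in characteristic two as root involutions
-/

namespace Cfsg.Agent.Lib.Helper26

open Matrix

section SL2

variable {F : Type*} [Field F]

theorem sl2_sq (M : Matrix.SpecialLinearGroup (Fin 2) F) :
    M.1 * M.1 = (M.1 0 0 + M.1 1 1) • M.1 - 1 := by
  have hdet : M.1 0 0 * M.1 1 1 - M.1 0 1 * M.1 1 0 = 1 := by
    have := M.2
    rwa [Matrix.det_fin_two] at this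
  ext i j
  fin_cases i <;> fin_cases j <;>
    simp [Matrix.mul_apply, Fin.sum_univ_two] <;>
    first | linear_combination hdet | linear_combination (-1 : F) * hdet | ring

theorem sl2_pow_form (M : Matrix.SpecialLinearGroup (Fin 2) F) (n : ℕ) :
    ∃ α β : F, (M ^ n).1 = α • M.1 + β • (1 : Matrix (Fin 2) (Fin 2) F) := by
  induction n with
  | zero => exact ⟨0, 1, by simp⟩
  | succ n ih =>
    obtain ⟨α, β, h⟩ := ih
    refine ⟨α * (M.1 0 0 + M.1 1 1) + β, -α, ?_⟩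
    rw [pow_succ, Matrix.SpecialLinearGroup.coe_mul, h, Matrix.add_mul, Matrix.smul_mul,
      Matrix.smul_mul, Matrix.one_mul, sl2_sq]
    module

/-- In characteristic two, an element of `SL₂` with distinct diagonal entries has no
even-order phenomenon: `M ^ (2 j) = 1` forces `M ^ j = 1`. -/
theorem sl2_pow_eq_one_of_sq [CharP F 2] {M : Matrix.SpecialLinearGroup (Fin 2) F}
    (hM : M.1 0 0 ≠ M.1 1 1) {j : ℕ} (h : M ^ (2 * j) = 1) : M ^ j = 1 := by
  obtain ⟨α, β, hN⟩ := sl2_pow_form M j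
  have hsq : M ^ j * M ^ j = 1 := by rw [← pow_add, ← two_mul, h]
  have hinv : (M ^ j)⁻¹ = M ^ j := inv_eq_of_mul_eq_one_left hsq
  have h00 : (M ^ j).1 0 0 = (M ^ j).1 1 1 := by
    have h1 := congrArg (fun N : Matrix.SpecialLinearGroup (Fin 2) F => N.1 0 0) hinv
    simp only [Matrix.SpecialLinearGroup.SL2_inv_expl] at h1
    simpa using h1.symm
  rw [hN] at h00
  simp only [Matrix.add_apply, Matrix.smul_apply, Matrix.one_apply_eq, smul_eq_mul, mul_one,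
    add_left_inj] at h00
  have hα : α = 0 := by
    have : α * (M.1 0 0 - M.1 1 1) = 0 := by rw [mul_sub, h00, sub_self]
    rcases mul_eq_zero.mp this with h0 | h0
    · exact h0
    · exact absurd (sub_eq_zero.mp h0) hM
  rw [hα, zero_smul, zero_add] at hN
  have hdet : β * β = 1 := by
    have := (M ^ j).2
    rw [hN, Matrix.det_fin_two] at this
    simpa using this
  have hβ : β = 1 := by
    have h2 : (β + 1) * (β + 1) = 0 := by
      have h11 : (1 : F) + 1 = 0 := CharTwo.add_self_eq_zero 1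
      linear_combination hdet + (β + 1) * h11
    have := mul_self_eq_zero.mp h2
    have h3 := CharTwo.add_eq_zero.mp this
    exact h3
  apply Subtype.ext
  rw [hN, hβ, one_smul]
  rfl

theorem sl2_odd_orderOf [Fintype F] [CharP F 2] {M : Matrix.SpecialLinearGroup (Fin 2) F}
    (hM : M.1 0 0 ≠ M.1 1 1) : Odd (orderOf M) := by
  rw [← Nat.not_even_iff_odd]
  rintro ⟨j, hj⟩
  have hpos : 0 < orderOf M := orderOf_pos M
  have h1 : M ^ (2 * j) = 1 := by
    rw [two_mul, ← hj]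
    exact pow_orderOf_eq_one M
  have h2 := sl2_pow_eq_one_of_sq hM h1
  have h3 := orderOf_dvd_of_pow_eq_one h2
  have := Nat.le_of_dvd (by omega) h3
  omega

theorem sl2_UL_coe (r : F) :
    ((Cfsg.Agent.S5016.U 1 * Cfsg.Agent.S5016.L r : Matrix.SpecialLinearGroup (Fin 2) F) :
      Matrix (Fin 2) (Fin 2) F) = !![1 + r, 1; r, 1] := by
  rw [Matrix.SpecialLinearGroup.coe_mul, Cfsg.Agent.S5016.U_coe, Cfsg.Agent.S5016.L_coe]
  ext i j
  fin_cases i <;> fin_cases j <;> simp [Matrix.mul_apply, Fin.sum_univ_two]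

theorem sl2_UL_odd [Fintype F] [CharP F 2] {r : F} (hr : r ≠ 0) :
    Odd (orderOf (Cfsg.Agent.S5016.U 1 * Cfsg.Agent.S5016.L r :
      Matrix.SpecialLinearGroup (Fin 2) F)) := by
  apply sl2_odd_orderOf
  rw [sl2_UL_coe]
  simpa using hr

theorem sl2_UL_cube [CharP F 2] :
    (Cfsg.Agent.S5016.U 1 * Cfsg.Agent.S5016.L 1 : Matrix.SpecialLinearGroup (Fin 2) F) ^ 3 = 1 := by
  have h11 : (1 : F) + 1 = 0 := CharTwo.add_self_eq_zero 1
  apply Subtype.ext
  rw [Matrix.SpecialLinearGroup.coe_pow, sl2_UL_coe, h11]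
  ext i j
  fin_cases i <;> fin_cases j <;>
    simp [pow_succ, Matrix.mul_apply, Fin.sum_univ_two, h11]

end SL2

section Dihedral

/-- Two involutions whose product has odd order are conjugate. -/
theorem conj_of_odd_orderOf {G : Type*} [Group G] {a b : G} (ha : a * a = 1) (hb : b * b = 1)
    (hodd : Odd (orderOf (a * b))) : ∃ g : G, b = g * a * g⁻¹ := by
  obtain ⟨j, hj⟩ := hodd
  have hab : (a * b) * (b * a) = 1 := by
    calc (a * b) * (b * a) = a * (b * b) * a := by group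
      _ = 1 := by rw [hb, mul_one, ha]
  have hba : b * a = (a * b)⁻¹ := (inv_eq_of_mul_eq_one_right hab).symm
  have hpow : (b * a) ^ (2 * j + 1) = 1 := by
    rw [hba, inv_pow, ← hj, pow_orderOf_eq_one, inv_one]
  have hbinv : b⁻¹ = b := inv_eq_of_mul_eq_one_left hb
  have h3 : b * (b * a) ^ j * b = (a * b) ^ j := by
    have : b * (b * a) * b⁻¹ = a * b := by
      calc b * (b * a) * b⁻¹ = (b * b) * a * b⁻¹ := by group
        _ = a * b := by rw [hb, one_mul, hbinv]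
    rw [← this, conj_pow, hbinv]
  have h1 : (a * b) ^ j * (b * a) ^ j = 1 := by
    rw [hba, inv_pow, mul_inv_cancel]
  have h2 : (b * a) ^ (j + 1) * (b * a) ^ j = 1 := by
    rw [← pow_add]
    have : j + 1 + j = 2 * j + 1 := by ring
    rw [this, hpow]
  have h4 : (a * b) ^ j = (b * a) ^ (j + 1) := mul_right_cancel (h1.trans h2.symm)
  refine ⟨(b * a) ^ j * b, ?_⟩
  have h5 : b * ((b * a) ^ j * b) = (b * a) ^ j * b * a := by
    rw [← mul_assoc, h3, h4, pow_succ]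
    group
  calc b = b * ((b * a) ^ j * b) * ((b * a) ^ j * b)⁻¹ := by group
    _ = (b * a) ^ j * b * a * ((b * a) ^ j * b)⁻¹ := by rw [h5]

end Dihedral

section SLD

variable {ι k : Type*} [Fintype ι] [DecidableEq ι] [Field k]

/-- The set of all transvections `x ↦ x + (φ ⬝ᵥ x) v` attached to flags. -/
def slD (ι k : Type*) [Fintype ι] [DecidableEq ι] [Field k] :
    Set (Matrix.SpecialLinearGroup ι k) :=
  {t | ∃ v φ : ι → k, v ≠ 0 ∧ φ ≠ 0 ∧ φ ⬝ᵥ v = 0 ∧ t = slT v φ 1}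

theorem slT_smul_left {v φ : ι → k} (h : φ ⬝ᵥ v = 0) (c : k) : slT v φ c = slT (c • v) φ 1 := by
  have := slT_smul h c 1 1
  rw [one_smul, mul_one, mul_one] at this
  exact this.symm

theorem slT_mem_slD {v φ : ι → k} (hv : v ≠ 0) (hφ : φ ≠ 0) (h : φ ⬝ᵥ v = 0) {c : k}
    (hc : c ≠ 0) : slT v φ c ∈ slD ι k := by
  refine ⟨c • v, φ, smul_ne_zero hc hv, hφ, ?_, slT_smul_left h c⟩
  rw [dotProduct_smul, h, smul_zero]

theorem slD_conj_mem {t : Matrix.SpecialLinearGroup ι k} (ht : t ∈ slD ι k)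
    (g : Matrix.SpecialLinearGroup ι k) : g * t * g⁻¹ ∈ slD ι k := by
  obtain ⟨v, φ, hv, hφ, h, rfl⟩ := ht
  refine ⟨g.1 *ᵥ v, φ ᵥ* g⁻¹.1, sl_mulVec_ne_zero g hv, sl_vecMul_ne_zero g⁻¹ hφ, ?_,
    slT_conj g v φ 1⟩
  rw [sl_flag_conj, h]

theorem slD_eq_conj [Nontrivial ι] {i j : ι} (hij : i ≠ j) :
    {t : Matrix.SpecialLinearGroup ι k | ∃ c : k, c ≠ 0 ∧
      ∃ g : Matrix.SpecialLinearGroup ι k,
        ((g⁻¹ * t * g : Matrix.SpecialLinearGroup ι k) : Matrix ι ι k) =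
          Matrix.transvection i j c} = slD ι k := by
  have hf : (Pi.single j 1 : ι → k) ⬝ᵥ (Pi.single i 1) = 0 := by
    rw [sl_single_dot, if_neg hij.symm]
  have h0 : slRoot (Pi.single i 1) (Pi.single j 1) ∈ slSigma ι k :=
    slRoot_mem_slSigma (sl_single_ne_zero i) (sl_single_ne_zero j) hf
  ext t
  constructor
  · rintro ⟨c, hc, g, hg⟩
    have hg' : g⁻¹ * t * g = slT (Pi.single i 1) (Pi.single j 1) c := by
      rw [← sl_transvection_eq hij]
      exact Subtype.ext hg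
    have ht : t = g * slT (Pi.single i 1) (Pi.single j 1) c * g⁻¹ := by
      rw [← hg']
      group
    rw [ht]
    exact slD_conj_mem (slT_mem_slD (sl_single_ne_zero i) (sl_single_ne_zero j) hf hc) g
  · rintro ⟨v, φ, hv, hφ, h, rfl⟩
    obtain ⟨g, hg⟩ := slSigma_class.2.2 _ h0 _ (slRoot_mem_slSigma hv hφ h)
    rw [conjBy_slRoot] at hg
    have hmem : slT v φ 1 ∈ slRoot (g.1 *ᵥ Pi.single i 1) ((Pi.single j 1 : ι → k) ᵥ* g⁻¹.1) :=
      hg ▸ slT_mem_slRoot v φ 1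
    obtain ⟨c, hc⟩ := hmem
    rw [← slT_conj] at hc
    have hc0 : c ≠ 0 := by
      rintro rfl
      rw [slT_zero, mul_one, mul_inv_cancel] at hc
      exact one_ne_zero ((slT_eq_one_iff h hv hφ).mp hc)
    refine ⟨c, hc0, g, ?_⟩
    rw [hc]
    have : g⁻¹ * (g * slT (Pi.single i 1) (Pi.single j 1) c * g⁻¹) * g =
        slT (Pi.single i 1) (Pi.single j 1) c := by group
    rw [this, ← sl_transvection_eq hij]
    rfl

section CharTwo

variable [CharP k 2]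

theorem slT_mul_self (v φ : ι → k) (c : k) : slT v φ c * slT v φ c = 1 := by
  rw [slT_mul, CharTwo.add_self_eq_zero, slT_zero]

theorem slD_orderOf {t : Matrix.SpecialLinearGroup ι k} (ht : t ∈ slD ι k) : orderOf t = 2 := by
  obtain ⟨v, φ, hv, hφ, h, rfl⟩ := ht
  haveI : Fact (Nat.Prime 2) := ⟨Nat.prime_two⟩
  apply orderOf_eq_prime
  · rw [pow_two, slT_mul_self]
  · intro h1
    exact one_ne_zero ((slT_eq_one_iff h hv hφ).mp h1)

omit [CharP k 2] in
theorem slD_closure [Nontrivial ι] : Subgroup.closure (slD ι k) = ⊤ := by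
  rw [eq_top_iff, ← Cfsg.Agent.Lib.Lead.SL_closure_transvections, Subgroup.closure_le]
  rintro _ ⟨i, j, hij, c, rfl⟩
  have hf : (Pi.single j 1 : ι → k) ⬝ᵥ (Pi.single i 1) = 0 := by
    rw [sl_single_dot, if_neg hij.symm]
  rw [sl_transvection_eq]
  by_cases hc : c = 0
  · rw [hc, slT_zero]
    exact Subgroup.one_mem _
  · exact Subgroup.subset_closure
      (slT_mem_slD (sl_single_ne_zero i) (sl_single_ne_zero j) hf hc)

/-- The order four case. -/
theorem slD_order_four {v φ w ψ : ι → k} (hv : φ ⬝ᵥ v = 0) (hw : ψ ⬝ᵥ w = 0)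
    (h1 : φ ⬝ᵥ w = 0) (h2 : ψ ⬝ᵥ v ≠ 0) (hφ0 : φ ≠ 0) (hw0 : w ≠ 0) :
    (orderOf (slT v φ 1 * slT w ψ 1) = 4 ∧ (slT v φ 1 * slT w ψ 1) ^ 2 ∈ slD ι k) ∧
    (orderOf (slT w ψ 1 * slT v φ 1) = 4 ∧ (slT w ψ 1 * slT v φ 1) ^ 2 ∈ slD ι k) := by
  have hrel := slT_mul_eq hv hw h1 (1 : k) 1
  rw [one_mul, one_mul] at hrel
  set a := slT v φ 1 with ha
  set b := slT w ψ 1 with hb
  set z := slT w φ (-(ψ ⬝ᵥ v)) with hz
  have haa : a * a = 1 := slT_mul_self v φ 1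
  have hbb : b * b = 1 := slT_mul_self w ψ 1
  have hzz : z * z = 1 := slT_mul_self w φ _
  have hzD : z ∈ slD ι k := slT_mem_slD hw0 hφ0 h1 (neg_ne_zero.mpr h2)
  have hz1 : z ≠ 1 := by
    intro h
    exact neg_ne_zero.mpr h2 ((slT_eq_one_iff h1 hw0 hφ0).mp h)
  have hab2 : (a * b) ^ 2 = z := by
    calc (a * b) ^ 2 = (a * b) * a * b := by rw [pow_two]; group
      _ = z * (b * a) * a * b := by rw [hrel]
      _ = z * b * (a * a) * b := by group
      _ = z := by rw [haa, mul_one, mul_assoc, hbb, mul_one]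
  have hrel' : b * a = z * (a * b) := by
    rw [hrel, ← mul_assoc, hzz, one_mul]
  have hba2 : (b * a) ^ 2 = z := by
    calc (b * a) ^ 2 = (b * a) * b * a := by rw [pow_two]; group
      _ = z * (a * b) * b * a := by rw [hrel']
      _ = z * a * (b * b) * a := by group
      _ = z := by rw [hbb, mul_one, mul_assoc, haa, mul_one]
  haveI : Fact (Nat.Prime 2) := ⟨Nat.prime_two⟩
  have key : ∀ x : Matrix.SpecialLinearGroup ι k, x ^ 2 = z → orderOf x = 4 := by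
    intro x hx
    have : orderOf x = 2 ^ (1 + 1) := by
      apply orderOf_eq_prime_pow
      · rw [pow_one, hx]
        exact hz1
      · have : (2 : ℕ) ^ (1 + 1) = 2 * 2 := by norm_num
        rw [this, pow_mul, hx, pow_two, hzz]
    rw [this]
    norm_num
  exact ⟨⟨key _ hab2, hab2 ▸ hzD⟩, ⟨key _ hba2, hba2 ▸ hzD⟩⟩

omit [CharP k 2] in
/-- The rank one case: the product of two opposite transvections has the order of an element
`U 1 * L r` of `SL₂(k)`, `r ≠ 0`. -/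
theorem slD_opp_orderOf {v φ w ψ : ι → k} (hv : φ ⬝ᵥ v = 0) (hw : ψ ⬝ᵥ w = 0)
    (h1 : φ ⬝ᵥ w ≠ 0) (h2 : ψ ⬝ᵥ v ≠ 0) :
    ∃ r : k, r ≠ 0 ∧ orderOf (slT v φ 1 * slT w ψ 1) =
      orderOf (Cfsg.Agent.S5016.U 1 * Cfsg.Agent.S5016.L r :
        Matrix.SpecialLinearGroup (Fin 2) k) := by
  have hw' : ((ψ ⬝ᵥ v)⁻¹ • ψ) ⬝ᵥ ((φ ⬝ᵥ w)⁻¹ • w) = 0 := by
    rw [smul_dotProduct, dotProduct_smul, hw, smul_zero, smul_zero]
  have h1' : φ ⬝ᵥ ((φ ⬝ᵥ w)⁻¹ • w) = 1 := by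
    rw [dotProduct_smul, smul_eq_mul, inv_mul_cancel₀ h1]
  have h2' : ((ψ ⬝ᵥ v)⁻¹ • ψ) ⬝ᵥ v = 1 := by
    rw [smul_dotProduct, smul_eq_mul, inv_mul_cancel₀ h2]
  have hb : slT w ψ 1 = slT ((φ ⬝ᵥ w)⁻¹ • w) ((ψ ⬝ᵥ v)⁻¹ • ψ) ((φ ⬝ᵥ w) * (ψ ⬝ᵥ v)) := by
    rw [slT_smul hw]
    congr 1
    field_simp
  refine ⟨(φ ⬝ᵥ w) * (ψ ⬝ᵥ v), mul_ne_zero h1 h2, ?_⟩
  rw [hb, ← slRho_U hv hw' h1' h2', ← slRho_L hv hw' h1' h2', ← map_mul,
    orderOf_injective _ (slRho_injective hv hw' h1' h2')]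

end CharTwo

section Main

variable [Fintype k] [CharP k 2]

theorem slD_opp_odd {v φ w ψ : ι → k} (hv : φ ⬝ᵥ v = 0) (hw : ψ ⬝ᵥ w = 0)
    (h1 : φ ⬝ᵥ w ≠ 0) (h2 : ψ ⬝ᵥ v ≠ 0) : Odd (orderOf (slT v φ 1 * slT w ψ 1)) := by
  obtain ⟨r, hr, he⟩ := slD_opp_orderOf hv hw h1 h2
  rw [he]
  exact sl2_UL_odd hr

theorem slD_rootInvolutionSet [Nontrivial ι] : Cfsg.IsRootInvolutionSet (slD ι k) := by
  refine ⟨fun d hd => slD_orderOf hd, slD_closure, fun d hd g => slD_conj_mem hd g, ?_⟩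
  rintro _ ⟨v, φ, hv, hφ, h, rfl⟩ _ ⟨w, ψ, hw, hψ, h', rfl⟩
  by_cases h1 : φ ⬝ᵥ w = 0
  · by_cases h2 : ψ ⬝ᵥ v = 0
    · exact Or.inl (slT_comm h h' h1 h2 1 1)
    · exact Or.inr (Or.inr (slD_order_four h h' h1 h2 hφ hw).1)
  · by_cases h2 : ψ ⬝ᵥ v = 0
    · exact Or.inr (Or.inr (slD_order_four h' h h2 h1 hψ hv).2)
    · exact Or.inr (Or.inl (slD_opp_odd h h' h1 h2))

theorem slD_class [Nontrivial ι] : Cfsg.IsRootInvolutionClass (slD ι k) := by
  refine ⟨slD_rootInvolutionSet, ?_, ?_⟩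
  · obtain ⟨i, j, hij⟩ := exists_pair_ne ι
    have hf : (Pi.single j 1 : ι → k) ⬝ᵥ (Pi.single i 1) = 0 := by
      rw [sl_single_dot, if_neg hij.symm]
    exact ⟨_, slT_mem_slD (sl_single_ne_zero i) (sl_single_ne_zero j) hf one_ne_zero⟩
  · rintro _ ⟨v, φ, hv, hφ, h, rfl⟩ _ ⟨w, ψ, hw, hψ, h', rfl⟩
    obtain ⟨u, χ, hu, hχ, hχu, h1, h2, h3, h4⟩ := exists_common_opposite hv hφ h hw hψ h'
    obtain ⟨g₁, hg₁⟩ := conj_of_odd_orderOf (slT_mul_self v φ 1) (slT_mul_self u χ 1)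
      (slD_opp_odd h hχu h1 h2)
    obtain ⟨g₂, hg₂⟩ := conj_of_odd_orderOf (slT_mul_self u χ 1) (slT_mul_self w ψ 1)
      (slD_opp_odd hχu h' h4 h3)
    refine ⟨g₂ * g₁, ?_⟩
    rw [hg₂, hg₁]
    group

theorem slD_threeFour [Nontrivial ι] (hcard : Fintype.card k = 2) :
    Cfsg.IsThreeFourPlusTranspositionSet (slD ι k) := by
  refine ⟨slD_rootInvolutionSet, ?_⟩
  have hone : ∀ r : k, r ≠ 0 → r = 1 := by
    intro r hr
    classical
    have hu : Fintype.card kˣ = 1 := by rw [Fintype.card_units, hcard]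
    have hsub : Subsingleton kˣ := Fintype.card_le_one_iff_subsingleton.mp hu.le
    have := congrArg Units.val (Subsingleton.elim (Units.mk0 r hr) 1)
    simpa using this
  rintro _ ⟨v, φ, hv, hφ, h, rfl⟩ _ ⟨w, ψ, hw, hψ, h', rfl⟩ hodd
  by_cases h1 : φ ⬝ᵥ w = 0
  · by_cases h2 : ψ ⬝ᵥ v = 0
    · left
      have hc := slT_comm h h' h1 h2 (1 : k) 1
      have hsq : (slT v φ 1 * slT w ψ 1) ^ 2 = 1 := by
        calc (slT v φ 1 * slT w ψ 1) ^ 2
            = slT v φ 1 * (slT w ψ 1 * slT v φ 1) * slT w ψ 1 := by rw [pow_two]; group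
          _ = (slT v φ 1 * slT v φ 1) * (slT w ψ 1 * slT w ψ 1) := by rw [← hc]; group
          _ = 1 := by rw [slT_mul_self, slT_mul_self, one_mul]
      have hdvd := orderOf_dvd_of_pow_eq_one hsq
      rcases (Nat.dvd_prime Nat.prime_two).mp hdvd with h0 | h0
      · exact h0
      · rw [h0] at hodd
        exact absurd hodd (by decide)
    · exfalso
      rw [(slD_order_four h h' h1 h2 hφ hw).1.1] at hodd
      exact absurd hodd (by decide)
  · by_cases h2 : ψ ⬝ᵥ v = 0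
    · exfalso
      rw [(slD_order_four h' h h2 h1 hψ hv).2.1] at hodd
      exact absurd hodd (by decide)
    · obtain ⟨r, hr, he⟩ := slD_opp_orderOf h h' h1 h2
      rw [hone r hr] at he
      rw [he]
      have hdvd := orderOf_dvd_of_pow_eq_one (sl2_UL_cube (F := k))
      exact (Nat.dvd_prime Nat.prime_three).mp hdvd

end Main

end SLD

end Cfsg.Agent.Lib.Helper26
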