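import Cfsg.Agent.Lib.Helper1.SLK.Defs
import Cfsg.Agent.Lib.Helper26.SLKA6core
import Cfsg.Agent.Lib.Helper22.SLKA4
import Cfsg.Agent.Lib.Helper22.SLKA5

set_option autoImplicit false

namespace Cfsg.Agent.Lib.Helper1.SLK

open Polynomial
open Cfsg.Agent.Lib.Helper29.GLK

universe u

theorem det_eq_tdet {F : Type u} [Field F] [DecidableEq F] {n : ℕ}
    (x : Matrix.GeneralLinearGroup (Fin n) F) (G : ℕ → F[X]) (h : IsInv x G) :
    (x : Matrix (Fin n) (Fin n) F).det = tdet (fun i : Fin n => G i) :=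
  slka6_core x (fun p e hp Φ => det_decomp x p e hp Φ)
    (fun p e G hp he hG => tdet_regroup p e G hp he hG) G h

end Cfsg.Agent.Lib.Helper1.SLK
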