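import Mathlib
import Cfsg.Agent.Lib.Helper1.SLN.Defs
import Cfsg.Agent.Lib.Helper21.PresQuot

/-!
Project SLN (designer helper1) row F3: presentation of a quotient of a free product `A ∗ B` by the normal
closure of a finite set: `|RA| + |RB| + |S|` relators on `a + b` generators.
(Mathlib's `PresentedGroup.coprodPresentations` + helper21's `PresQuot.quot_rels` +
`PresentedGroup.equivPresentedGroup`.)
-/

set_option autoImplicit false

namespace Cfsg.Agent.Lib.Helper1.SLN

open Matrix Equiv
open Cfsg.Agent.Lib.helper17.SLP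

universe u v

section FF

/-- F3 [M-L] (Mathlib only)  Presentation of a quotient of a free product. -/
theorem amal_pres {A : Type u} {B : Type v} [Group A] [Group B] {a b : ℕ}
    (RA : Finset (FreeGroup (Fin a))) (RB : Finset (FreeGroup (Fin b)))
    (eA : PresentedGroup (↑RA : Set (FreeGroup (Fin a))) ≃* A)
    (eB : PresentedGroup (↑RB : Set (FreeGroup (Fin b))) ≃* B)
    (S : Finset (Monoid.Coprod A B)) :
    ∃ rels : Finset (FreeGroup (Fin (a + b))), rels.card ≤ RA.card + RB.card + S.card ∧
      Nonempty (PresentedGroup (↑rels : Set (FreeGroup (Fin (a + b)))) ≃*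
        Monoid.Coprod A B ⧸ Subgroup.normalClosure (↑S : Set (Monoid.Coprod A B))) := by
  classical
  set R0 : Set (FreeGroup (Fin a ⊕ Fin b)) :=
    FreeGroup.map Sum.inl '' (↑RA : Set (FreeGroup (Fin a))) ∪
      FreeGroup.map Sum.inr '' (↑RB : Set (FreeGroup (Fin b))) with hR0
  let e0 : PresentedGroup R0 ≃* Monoid.Coprod A B :=
    (PresentedGroup.coprodPresentations (↑RA : Set (FreeGroup (Fin a)))
      (↑RB : Set (FreeGroup (Fin b)))).trans (MulEquiv.coprodCongr eA eB)
  -- words for the elements of `S`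
  have hw : ∀ x : Monoid.Coprod A B, ∃ w : FreeGroup (Fin a ⊕ Fin b),
      e0 (PresentedGroup.mk R0 w) = x := by
    intro x
    obtain ⟨w, hw⟩ := PresentedGroup.mk_surjective R0 (e0.symm x)
    exact ⟨w, by rw [hw, e0.apply_symm_apply]⟩
  choose w hw using hw
  set W : Finset (FreeGroup (Fin a ⊕ Fin b)) := S.image w with hW
  have himg : (fun x => e0 (PresentedGroup.mk R0 x)) '' (↑W : Set (FreeGroup (Fin a ⊕ Fin b))) =
      (↑S : Set (Monoid.Coprod A B)) := by
    ext x
    simp only [hW, Finset.coe_image, Set.mem_image, Finset.mem_coe]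
    constructor
    · rintro ⟨_, ⟨y, hy, rfl⟩, rfl⟩
      rw [hw]; exact hy
    · intro hx
      exact ⟨w x, ⟨x, hx, rfl⟩, hw x⟩
  obtain ⟨e', _⟩ := Cfsg.Agent.Lib.Helper21.PresQuot.quot_rels R0
    (↑W : Set (FreeGroup (Fin a ⊕ Fin b))) e0
    (Subgroup.normalClosure (↑S : Set (Monoid.Coprod A B))) (by rw [himg])
  -- reindexing
  let e1 := PresentedGroup.equivPresentedGroup (R0 ∪ (↑W : Set (FreeGroup (Fin a ⊕ Fin b))))
    (finSumFinEquiv (m := a) (n := b))
  set rels : Finset (FreeGroup (Fin (a + b))) :=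
    ((RA.image (FreeGroup.map Sum.inl) ∪ RB.image (FreeGroup.map Sum.inr)) ∪ W).image
      (FreeGroup.freeGroupCongr (finSumFinEquiv (m := a) (n := b))) with hrels
  have hcoe : (↑rels : Set (FreeGroup (Fin (a + b)))) =
      FreeGroup.freeGroupCongr (finSumFinEquiv (m := a) (n := b)) ''
        (R0 ∪ (↑W : Set (FreeGroup (Fin a ⊕ Fin b)))) := by
    rw [hrels, Finset.coe_image, Finset.coe_union, Finset.coe_union, Finset.coe_image,
      Finset.coe_image]
  refine ⟨rels, ?_, ⟨?_⟩⟩
  · calc rels.card ≤ ((RA.image (FreeGroup.map Sum.inl) ∪ RB.image (FreeGroup.map Sum.inr)) ∪ W).card :=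
          Finset.card_image_le
      _ ≤ (RA.image (FreeGroup.map Sum.inl) ∪ RB.image (FreeGroup.map Sum.inr)).card + W.card :=
          Finset.card_union_le _ _
      _ ≤ (RA.image (FreeGroup.map Sum.inl)).card + (RB.image (FreeGroup.map Sum.inr)).card +
            W.card := Nat.add_le_add_right (Finset.card_union_le _ _) _
      _ ≤ RA.card + RB.card + S.card :=
          Nat.add_le_add (Nat.add_le_add Finset.card_image_le Finset.card_image_le)
            Finset.card_image_le
  · rw [hcoe]
    exact e1.symm.trans e'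

end FF

end Cfsg.Agent.Lib.Helper1.SLN
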