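import Mathlib
import Cfsg.Agent.Lib.Helper1.SLN.Defs

/-!
Project SLN (designer helper1) row F4 (core): `SL_(M+4)(F)` has a presentation on `kT + 4` generators with
`|RT| + |RL| + 19` relators; the statements of F1 `glue_of_list`, F2 `glueList_model`, F3 `amal_pres`,
G8 `glue_hom`, MG7 `genM` are hypotheses.
-/

set_option autoImplicit false

namespace Cfsg.Agent.Lib.Helper1.SLN

open Matrix Equiv
open Cfsg.Agent.Lib.helper17.SLP

universe u v

section FF

variable {F : Type u} [Field F]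

/-- F4 core. -/
theorem slnf4_core [Fintype F] (M : ℕ) {kT : ℕ} (RT : Finset (FreeGroup (Fin kT)))
    (RL : Finset (FreeGroup (Fin 4)))
    (τ₁ τ₂ : alternatingGroup (Fin (M + 4)))
    (hτ : Subgroup.closure ({τ₁, τ₂} : Set (alternatingGroup (Fin (M + 4)))) = stab01 M)
    (hF1 : ∀ (ζ : Fˣ), (∀ y : Fˣ, y ∈ Subgroup.zpowers ζ) →
      ∀ (Z : List (alternatingGroup (Fin (M + 4)))),
      Subgroup.closure {τ | τ ∈ Z} = stab01 M →
      ∀ {G : Type u} [Group G] (α : alternatingGroup (Fin (M + 4)) →* G)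
        (β : Matrix.SpecialLinearGroup (Fin 3) F →* G),
        (∀ x ∈ glueList (F := F) M ζ Z, Monoid.Coprod.lift α β x = 1) → Glue M α β)
    (hF2 : ∀ (ζ : Fˣ) (Z : List (alternatingGroup (Fin (M + 4)))),
      (∀ τ ∈ Z, τ ∈ stab01 M) →
      ∀ x ∈ glueList (F := F) M ζ Z,
        Monoid.Coprod.lift (alphaM (F := F) (n := M + 4)) (betaM M) x = 1)
    (hF3 : ∀ S : Finset (Monoid.Coprod (alternatingGroup (Fin (M + 4)))
        (Matrix.SpecialLinearGroup (Fin 3) F)),
      ∃ rels : Finset (FreeGroup (Fin (kT + 4))), rels.card ≤ RT.card + RL.card + S.card ∧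
        Nonempty (PresentedGroup (↑rels : Set (FreeGroup (Fin (kT + 4)))) ≃*
          Monoid.Coprod (alternatingGroup (Fin (M + 4))) (Matrix.SpecialLinearGroup (Fin 3) F) ⧸
            Subgroup.normalClosure (↑S : Set (Monoid.Coprod (alternatingGroup (Fin (M + 4)))
              (Matrix.SpecialLinearGroup (Fin 3) F)))))
    (hG8 : ∀ {G : Type u} [Group G] (α : alternatingGroup (Fin (M + 4)) →* G)
        (β : Matrix.SpecialLinearGroup (Fin 3) F →* G), Glue M α β →
        Subgroup.closure (Set.range α ∪ Set.range β) = ⊤ →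
        ∃ Φ : Matrix.SpecialLinearGroup (Fin (M + 4)) F →* G, Function.Surjective Φ)
    (hMG7 : Subgroup.closure (Set.range (alphaM (F := F) (n := M + 4)) ∪
      Set.range (betaM (F := F) M)) = ⊤) :
    ∃ rels : Finset (FreeGroup (Fin (kT + 4))), rels.card ≤ RT.card + RL.card + 19 ∧
      Nonempty (PresentedGroup (↑rels : Set (FreeGroup (Fin (kT + 4)))) ≃*
        Matrix.SpecialLinearGroup (Fin (M + 4)) F) := by
  classical
  obtain ⟨ζ, hζ⟩ := IsCyclic.exists_generator (α := Fˣ)
  set Z : List (alternatingGroup (Fin (M + 4))) := [τ₁, τ₂] with hZdef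
  have hZset : {τ | τ ∈ Z} = ({τ₁, τ₂} : Set (alternatingGroup (Fin (M + 4)))) := by
    ext τ
    simp [hZdef]
  have hZ : Subgroup.closure {τ | τ ∈ Z} = stab01 M := by rw [hZset]; exact hτ
  have hZmem : ∀ τ ∈ Z, τ ∈ stab01 M := by
    intro τ hτZ
    rw [← hZ]
    exact Subgroup.subset_closure hτZ
  set S : Finset (Monoid.Coprod (alternatingGroup (Fin (M + 4)))
      (Matrix.SpecialLinearGroup (Fin 3) F)) := (glueList (F := F) M ζ Z).toFinset with hS
  have hScard : S.card ≤ 19 := by
    refine le_trans (List.toFinset_card_le _) ?_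
    rw [glueList_length]
    simp [hZdef]
  set N : Subgroup (Monoid.Coprod (alternatingGroup (Fin (M + 4)))
      (Matrix.SpecialLinearGroup (Fin 3) F)) := Subgroup.normalClosure (↑S : Set _) with hN
  -- the glued group
  let α : alternatingGroup (Fin (M + 4)) →* _ ⧸ N := (QuotientGroup.mk' N).comp Monoid.Coprod.inl
  let β : Matrix.SpecialLinearGroup (Fin 3) F →* _ ⧸ N := (QuotientGroup.mk' N).comp Monoid.Coprod.inr
  have hlift : Monoid.Coprod.lift α β = QuotientGroup.mk' N := by
    apply Monoid.Coprod.hom_ext <;> rfl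
  have hglue : Glue M α β := by
    apply hF1 ζ hζ Z hZ α β
    intro x hx
    rw [hlift]
    apply (QuotientGroup.eq_one_iff _).2
    apply Subgroup.subset_normalClosure
    rw [hS]
    simpa using hx
  have hgen : Subgroup.closure (Set.range α ∪ Set.range β) = ⊤ := by
    have h1 := Monoid.Coprod.range_eq (QuotientGroup.mk' N)
    rw [MonoidHom.range_eq_top.2 (QuotientGroup.mk'_surjective N)] at h1
    rw [Subgroup.closure_union, ← MonoidHom.coe_range, ← MonoidHom.coe_range, Subgroup.closure_eq,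
      Subgroup.closure_eq]
    exact h1.symm
  obtain ⟨Φ, hΦ⟩ := hG8 α β hglue hgen
  have : Finite (_ ⧸ N) := Finite.of_surjective Φ hΦ
  have hcard : Nat.card (_ ⧸ N) ≤ Nat.card (Matrix.SpecialLinearGroup (Fin (M + 4)) F) :=
    Nat.card_le_card_of_surjective Φ hΦ
  -- the map back
  have hker : N ≤ (Monoid.Coprod.lift (alphaM (F := F) (n := M + 4)) (betaM M)).ker := by
    rw [hN]
    apply Subgroup.normalClosure_le_normal
    intro x hx
    rw [hS] at hx
    have hx' : x ∈ glueList (F := F) M ζ Z := by simpa using hx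
    exact MonoidHom.mem_ker.2 (hF2 ζ Z hZmem x hx')
  let ψ : _ ⧸ N →* Matrix.SpecialLinearGroup (Fin (M + 4)) F :=
    QuotientGroup.lift N (Monoid.Coprod.lift (alphaM (F := F) (n := M + 4)) (betaM M)) hker
  have hψsurj : Function.Surjective ψ := by
    rw [← MonoidHom.range_eq_top, eq_top_iff, ← hMG7, Subgroup.closure_le]
    rintro x (⟨σ, rfl⟩ | ⟨A, rfl⟩)
    · refine ⟨QuotientGroup.mk' N (Monoid.Coprod.inl σ), ?_⟩
      show Monoid.Coprod.lift (alphaM (F := F) (n := M + 4)) (betaM M) (Monoid.Coprod.inl σ) =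
        alphaM σ
      rw [Monoid.Coprod.lift_apply_inl]
    · refine ⟨QuotientGroup.mk' N (Monoid.Coprod.inr A), ?_⟩
      show Monoid.Coprod.lift (alphaM (F := F) (n := M + 4)) (betaM M) (Monoid.Coprod.inr A) =
        betaM M A
      rw [Monoid.Coprod.lift_apply_inr]
  have hψ : Function.Bijective ψ := hψsurj.bijective_of_nat_card_le hcard
  obtain ⟨rels, hrc, ⟨e⟩⟩ := hF3 S
  refine ⟨rels, le_trans hrc (by omega), ⟨e.trans (MulEquiv.ofBijective ψ hψ)⟩⟩

end FF

end Cfsg.Agent.Lib.Helper1.SLN
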