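import Mathlib
import Cfsg.Agent.Lib.Helper1.SLN.Defs
import Cfsg.Agent.Lib.Helper26.SLNF4core
import Cfsg.Agent.Lib.Helper26.SLNF3
import Cfsg.Agent.Lib.helper23.SL7F1
import Cfsg.Agent.Lib.helper23.SL7F2core
import Cfsg.Agent.Lib.Helper11.SLNMG6
import Cfsg.Agent.Lib.Helper11.SLNMG3
import Cfsg.Agent.Lib.Helper12.SL7S1
import Cfsg.Agent.Lib.Helper29.SL7G5
import Cfsg.Agent.Lib.Helper22.SL7G7

/-!
Project SL7 (designer helper1) row F4 (verbatim, EXPRESS): `sln_pres`.  Does not wait for the verbatim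
F2 `glueList_model` (= helper23's `slnf2_core` at helper11's `glueM`) nor for G8 `glue_hom`
(own-name copy `slnf4_glue_hom` with the exact Skel statement, on S1 `st_hom`, G5 `gX_sys`, G7 `gX_gen`).
-/

set_option autoImplicit false

namespace Cfsg.Agent.Lib.Helper1.SLN

open Matrix Equiv
open Cfsg.Agent.Lib.helper17.SLP

universe u v

section G

variable {F : Type u} [Field F] {G : Type v} [Group G]

/-- own-name copy of G8 `glue_hom` (exact Skel statement). -/
theorem slnf4_glue_hom [Finite F] (M : ℕ) (α : alternatingGroup (Fin (M + 4)) →* G)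
    (β : Matrix.SpecialLinearGroup (Fin 3) F →* G) (H : Glue M α β)
    (hgen : Subgroup.closure (Set.range α ∪ Set.range β) = ⊤) :
    ∃ Φ : Matrix.SpecialLinearGroup (Fin (M + 4)) F →* G, Function.Surjective Φ := by
  obtain ⟨Φ, hΦ⟩ := st_hom (n := M + 4) (by omega) (gX M α β) (gX_sys M α β H)
  refine ⟨Φ, ?_⟩
  rw [← MonoidHom.range_eq_top, eq_top_iff, ← hgen]
  refine le_trans (gX_gen M α β H) ?_
  rw [Subgroup.closure_le]
  rintro _ ⟨i, j, t, hij, rfl⟩
  exact ⟨_, hΦ i j hij t⟩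

end G

section FF

variable {F : Type u} [Field F]

/-- own-name copy of F2 `glueList_model` (exact Skel statement). -/
theorem slnf4_glueList_model (M : ℕ) (ζ : Fˣ) (Z : List (alternatingGroup (Fin (M + 4))))
    (hZ : ∀ τ ∈ Z, τ ∈ stab01 M) :
    ∀ x ∈ glueList (F := F) M ζ Z,
      Monoid.Coprod.lift (alphaM (F := F) (n := M + 4)) (betaM M) x = 1 :=
  slnf2_core M ζ Z hZ alphaM (betaM M) (glueM M)

/-- F4 [M-L]  deps F1 F2 F3 G8 MG7.  `ζ` a generator of `Fˣ`, `Z := [τ₁, τ₂]`, `S := (glueList M ζ Z).toFinset` (`≤ 19` elements, `glueList_length`), `Q := T ∗ L ⧸ normalClosure S`,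
`α := mk.comp inl`, `β := mk.comp inr`: `Glue` by F1, generation by `Monoid.Coprod.closure_range_inl_union_inr`; G8: `Φ : SL_(M+4)(F) → Q` onto, so `Q` is finite of order `≤ |SL|`.
`ψ : Q → SL_(M+4)(F)` := `QuotientGroup.lift` of `Monoid.Coprod.lift alphaM (betaM M)` (F2), onto by MG7: bijective.  F3 with `RT RL S`. -/
theorem sln_pres [Fintype F] (M : ℕ) {kT : ℕ} (RT : Finset (FreeGroup (Fin kT)))
    (eT : PresentedGroup (↑RT : Set (FreeGroup (Fin kT))) ≃* alternatingGroup (Fin (M + 4)))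
    (RL : Finset (FreeGroup (Fin 4)))
    (eL : PresentedGroup (↑RL : Set (FreeGroup (Fin 4))) ≃* Matrix.SpecialLinearGroup (Fin 3) F)
    (τ₁ τ₂ : alternatingGroup (Fin (M + 4)))
    (hτ : Subgroup.closure ({τ₁, τ₂} : Set (alternatingGroup (Fin (M + 4)))) = stab01 M) :
    ∃ rels : Finset (FreeGroup (Fin (kT + 4))), rels.card ≤ RT.card + RL.card + 19 ∧
      Nonempty (PresentedGroup (↑rels : Set (FreeGroup (Fin (kT + 4)))) ≃*
        Matrix.SpecialLinearGroup (Fin (M + 4)) F) :=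
  slnf4_core M RT RL τ₁ τ₂ hτ
    (fun ζ hζ Z hZ _ _ α β h => glue_of_list M ζ hζ Z hZ α β h)
    (fun ζ Z hZ x hx => slnf4_glueList_model M ζ Z hZ x hx)
    (fun S => amal_pres RT RL eT eL S)
    (fun α β H hgen => slnf4_glue_hom M α β H hgen)
    (genM M)

end FF

end Cfsg.Agent.Lib.Helper1.SLN
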