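import Mathlib
import Cfsg.Prelude.Def_Classical
import Cfsg.Prelude.Def_KGroupFacts
import Cfsg.Agent.Lib.helper3.SPB.Defs

/-!
# Project SPB (designer helper3; S2094), row T0b `restrict_genB`, VERBATIM (helper26).
The restriction of a `SysB` to the subgroup generated by its root elements generates (port of `spng2_restrict_gen`, `Helper1/SPNG2core.lean`).
-/

set_option autoImplicit false

namespace Cfsg.Agent.Lib.helper3.SPB

open Cfsg.Agent.Lib.helper15.St2 Cfsg.Agent.Lib.helper3.STC Cfsg.Agent.Lib.Lead.STD Cfsg.Agent.Lib.Lead.STB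
  Cfsg.Agent.Lib.Lead.SPN Cfsg.Agent.Lib.Helper16 Cfsg.Agent.Lib.Helper12.OMB

universe u v w

section T

/-- T0b [S-M]  the restriction of a `SysB` to the subgroup generated by its root elements generates (model: `spng2_restrict_gen` of `Helper1/SPNG2core.lean`). -/
theorem restrict_genB {K : Type*} [Field K] {ι : Type*} {G : Type*} [Group G] (P : SysB K ι G)
    (hL : ∀ a b t, P.x a b t ∈ P.XQ (fun _ _ => True) (fun _ => True)) (hLs : ∀ a t, P.xs a t ∈ P.XQ (fun _ _ => True) (fun _ => True)) :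
    (P.restrict (P.XQ (fun _ _ => True) (fun _ => True)) hL hLs).XQ (fun _ _ => True) (fun _ => True) = ⊤ := by
  rw [eq_top_iff]
  rintro ⟨x, hx⟩ -
  have hmap : P.XQ (fun _ _ => True) (fun _ => True) ≤
      ((P.restrict (P.XQ (fun _ _ => True) (fun _ => True)) hL hLs).XQ (fun _ _ => True) (fun _ => True)).map
        (P.XQ (fun _ _ => True) (fun _ => True)).subtype := by
    conv_lhs => unfold SysB.XQ
    rw [Subgroup.closure_le]
    rintro _ (⟨a, b, t, hab, hab', -, rfl⟩ | ⟨a, t, -, rfl⟩)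
    · refine ⟨(P.restrict (P.XQ (fun _ _ => True) (fun _ => True)) hL hLs).x a b t, ?_, rfl⟩
      exact Subgroup.subset_closure (Or.inl ⟨a, b, t, hab, hab', trivial, rfl⟩)
    · refine ⟨(P.restrict (P.XQ (fun _ _ => True) (fun _ => True)) hL hLs).xs a t, ?_, rfl⟩
      exact Subgroup.subset_closure (Or.inr ⟨a, t, trivial, rfl⟩)
  obtain ⟨x', hx', hxx⟩ := hmap hx
  have : x' = ⟨x, hx⟩ := Subtype.ext hxx
  rw [← this]
  exact hx'

end T

end Cfsg.Agent.Lib.helper3.SPB
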