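import Mathlib
import Cfsg.Prelude.Def_GeometricClasses
import Cfsg.Agent.Lib.Helper27.ASC.Defs
import Cfsg.Agent.S0269
import Cfsg.Agent.S0270

/-!
# Project SPX, piece COVER (helper26): a maximal subgroup of `Sp_2m` does not cover `PSp_2m`
-/

set_option autoImplicit false
set_option linter.unusedVariables false
set_option linter.unusedSectionVars false

namespace Cfsg.Agent.Lib.helper6.SPX

open Cfsg Cfsg.Geo Cfsg.Agent.Lib.Helper27.ASC
open scoped MatrixGroups Matrix Kronecker commutatorElement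

variable {m : ℕ} {F : Type*} [Field F] [Fintype F]

/-- a maximal subgroup of a perfect subgroup `S` of `GL` does not cover `S` modulo scalars (generic form of
`Cfsg.Agent.Lib.helper7.LXCOVER.max_not_cover`) -/
theorem spxcover_generic {ι : Type} [Fintype ι] [DecidableEq ι] {S H : Subgroup (GL ι F)}
    (hperf : ⁅S, S⁆ = S) (hH : IsMaximalIn S H) : H ⊔ (scalars ι F ⊓ S) ≠ S := by
  intro heq
  have hcen : ∀ z ∈ scalars ι F, ∀ g : GL ι F, z * g = g * z := by
    intro z hz g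
    rw [mem_scalars_iff] at hz
    obtain ⟨c, hc⟩ := hz
    apply Units.ext
    rw [Units.val_mul, Units.val_mul, hc]
    simp
  have hdec : ∀ x ∈ S, ∃ h ∈ H, ∃ z ∈ scalars ι F, x = h * z := by
    intro x hx
    rw [← heq] at hx
    have hnorm : (scalars ι F ⊓ S).Normal := by
      constructor
      intro z hz g
      have : g * z * g⁻¹ = z := by
        rw [← hcen z hz.1 g, mul_assoc, mul_inv_cancel, mul_one]
      rw [this]
      exact hz
    rw [Subgroup.mem_sup_of_normal_right] at hx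
    obtain ⟨h, hh, z, hz, rfl⟩ := hx
    exact ⟨h, hh, z, hz.1, rfl⟩
  have hle : ⁅S, S⁆ ≤ H := by
    rw [Subgroup.commutator_le]
    intro x hx y hy
    obtain ⟨h, hh, z, hz, rfl⟩ := hdec x hx
    obtain ⟨h', hh', z', hz', rfl⟩ := hdec y hy
    have : ⁅h * z, h' * z'⁆ = ⁅h, h'⁆ := by
      rw [commutatorElement_def, commutatorElement_def]
      have e1 : (h * z)⁻¹ = h⁻¹ * z⁻¹ := by
        rw [mul_inv_rev]
        exact hcen z⁻¹ (inv_mem hz) h⁻¹
      have e2 : (h' * z')⁻¹ = h'⁻¹ * z'⁻¹ := by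
        rw [mul_inv_rev]
        exact hcen z'⁻¹ (inv_mem hz') h'⁻¹
      rw [e1, e2]
      calc h * z * (h' * z') * (h⁻¹ * z⁻¹) * (h'⁻¹ * z'⁻¹)
          = h * (z * h') * (z' * h⁻¹) * (z⁻¹ * h'⁻¹) * z'⁻¹ := by group
        _ = h * (h' * z) * (h⁻¹ * z') * (h'⁻¹ * z⁻¹) * z'⁻¹ := by
            rw [hcen z hz h', hcen z' hz' h⁻¹, hcen z⁻¹ (inv_mem hz) h'⁻¹]
        _ = h * h' * (z * h⁻¹) * (z' * h'⁻¹) * z⁻¹ * z'⁻¹ := by group
        _ = h * h' * (h⁻¹ * z) * (h'⁻¹ * z') * z⁻¹ * z'⁻¹ := by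
            rw [hcen z hz h⁻¹, hcen z' hz' h'⁻¹]
        _ = h * h' * h⁻¹ * (z * h'⁻¹) * z' * z⁻¹ * z'⁻¹ := by group
        _ = h * h' * h⁻¹ * (h'⁻¹ * z) * z' * z⁻¹ * z'⁻¹ := by rw [hcen z hz h'⁻¹]
        _ = h * h' * h⁻¹ * h'⁻¹ * (z * z') * z⁻¹ * z'⁻¹ := by group
        _ = h * h' * h⁻¹ * h'⁻¹ * (z' * z) * z⁻¹ * z'⁻¹ := by rw [hcen z hz z']
        _ = h * h' * h⁻¹ * h'⁻¹ := by group
    rw [this]
    rw [commutatorElement_def]
    exact H.mul_mem (H.mul_mem (H.mul_mem hh hh') (H.inv_mem hh)) (H.inv_mem hh')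
  rw [hperf] at hle
  exact absurd hle (not_le_of_gt hH.1)

/-- `Sp_2m` inside `GL` is perfect -/
theorem spxcover_perfect (h : 3 ≤ m ∨ (m = 2 ∧ 3 ≤ Fintype.card F)) :
    ⁅spGL m F, spGL m F⁆ = spGL m F := by
  have h1 : commutator (Matrix.symplecticGroup (Fin m) F) = ⊤ :=
    Cfsg.Agent.S0269.result m (by rcases h with h | h; exact Or.inl h; exact Or.inr (Or.inl h))
  have hsurj : Function.Surjective (Cfsg.Agent.S0270.toSpGL (m := m) (F := F)) :=
    fun A => ⟨Cfsg.Agent.S0270.ofSpGL A, Cfsg.Agent.S0270.toSpGL_ofSpGL A⟩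
  have h2 : commutator ↥(spGL m F) = ⊤ := by
    have := congrArg (Subgroup.map (Cfsg.Agent.S0270.toSpGL (m := m) (F := F))) h1
    rw [commutator_def, Subgroup.map_commutator, Subgroup.map_top_of_surjective _ hsurj] at this
    rw [commutator_def]
    exact this
  have h3 := congrArg (Subgroup.map (spGL m F).subtype) h2
  rw [commutator_def, Subgroup.map_commutator, ← MonoidHom.range_eq_map, Subgroup.range_subtype] at h3
  exact h3

/-- COVER -/
theorem sp_max_not_cover (h : 3 ≤ m ∨ (m = 2 ∧ 3 ≤ Fintype.card F))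
    {H : Subgroup (GL (Fin m ⊕ Fin m) F)} (hH : IsMaximalIn (spGL m F) H) :
    H ⊔ (scalars (Fin m ⊕ Fin m) F ⊓ spGL m F) ≠ spGL m F :=
  spxcover_generic (spxcover_perfect h) hH

end Cfsg.Agent.Lib.helper6.SPX
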