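import Mathlib
import Cfsg.Prelude.Def_GeometricClasses
import Cfsg.Agent.Lib.Helper27.ASC.Defs
import Cfsg.Agent.Lib.helper6.Symp
import Cfsg.Agent.S5646

/-!
# Project SPX, piece PR1 (helper26): `Sp_2m` is irreducible
-/

set_option autoImplicit false
set_option linter.unusedVariables false
set_option linter.unusedSectionVars false

namespace Cfsg.Agent.Lib.helper6.SPX

open Cfsg Cfsg.Geo Cfsg.Agent.Lib.Helper27.ASC
open scoped MatrixGroups Matrix Kronecker

variable {m : ℕ} {F : Type*} [Field F] [Fintype F]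

/-- PR1 -/
theorem pr_sp_subspace (W : Submodule F (Fin m ⊕ Fin m → F)) (h0 : W ≠ ⊥) (h1 : W ≠ ⊤) :
    ¬ spGL m F ≤ subspaceStabilizer W := by
  intro hle
  apply h1
  obtain ⟨w, hwW, hw0⟩ := (Submodule.ne_bot_iff W).mp h0
  -- every `v` with `f(w, v) ≠ 0` lies in `W`
  have key : ∀ v : Fin m ⊕ Fin m → F, sympForm m F w v ≠ 0 → v ∈ W := by
    intro v hv
    obtain ⟨g, hg, hgSp⟩ := Cfsg.Agent.S5646.tsGL v (1 : F)
    have h2 := (Cfsg.Agent.S5646.mem_stabW_iff W g).mp (hle hgSp) w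
    have h3 := h2.mp hwW
    rw [Cfsg.Agent.S5646.ts_apply g v 1 hg w, one_mul] at h3
    have h4 : sympForm m F w v • v ∈ W := by
      have := W.sub_mem h3 hwW
      simpa using this
    have h5 := W.smul_mem (sympForm m F w v)⁻¹ h4
    rwa [smul_smul, inv_mul_cancel₀ hv, one_smul] at h5
  obtain ⟨v₀, hv₀⟩ := Cfsg.Agent.Lib.helper6.sympForm_nondeg m w hw0
  have hv₀W := key v₀ hv₀
  rw [eq_top_iff]
  intro x _
  by_cases hx : sympForm m F w x = 0
  · have h2 : sympForm m F w (x + v₀) ≠ 0 := by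
      rw [Cfsg.Agent.Lib.helper6.sympForm_add_right, hx, zero_add]
      exact hv₀
    have h3 := key _ h2
    have := W.sub_mem h3 hv₀W
    simpa using this
  · exact key x hx

end Cfsg.Agent.Lib.helper6.SPX
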