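import Mathlib
import Cfsg.Prelude.Def_LieTypeChar
import Cfsg.Prelude.Def_ChevStructure
import Cfsg.Agent.Lib.helper14.SQD.Defs

/-!
Project SQD = S4625 (helper14), row P5 = FAM2 `good2_psp`: the core, with the statements of the rows
X10, X13, X14, G5, P2, P3, P4a, P4b as hypotheses (helper26).  Row P1 is proved inline (`sqdp5_symm_stable`).
-/

set_option autoImplicit false

namespace Cfsg.Agent.Lib.helper14.SQD

open Cfsg Cfsg.Lie Matrix

universe u v

/-- the inclusion of the symplectic group into `GL` is injective -/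
theorem sqdp5_spToGL_injective (m : ℕ) (R : Type u) [CommRing R] :
    Function.Injective (spToGL m R) := by
  intro g h hgh
  apply Subtype.ext
  have := congrArg (fun x : GL (Fin m ⊕ Fin m) R => (x : Matrix (Fin m ⊕ Fin m) (Fin m ⊕ Fin m) R)) hgh
  simpa [spToGL_coe] using this

/-- own copy of row P1 -/
theorem sqdp5_symm_stable (k : ℕ) (R : Type u) [CommRing R] (A S : Matrix (Fin k) (Fin k) R)
    (hS : S ∈ symmAdd k R) : A * S * tadj (RingHom.id R) A ∈ symmAdd k R := by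
  have hS' : Sᵀ = S := hS
  show (A * S * tadj (RingHom.id R) A)ᵀ = A * S * tadj (RingHom.id R) A
  have e : tadj (RingHom.id R) A = Aᵀ := by
    unfold tadj
    ext i j
    simp
  rw [e, Matrix.transpose_mul, Matrix.transpose_mul, Matrix.transpose_transpose, hS', mul_assoc]

theorem sqdp5_arith (m : ℕ) : m * (m + 1) / 2 + m * (m - 1) / 2 = m ^ 2 := by
  obtain ⟨a, ha⟩ := Nat.even_mul_succ_self m
  obtain ⟨b, hb⟩ := Nat.even_mul_pred_self m
  have h1 : m * (m + 1) / 2 = a := by omega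
  have h2 : m * (m - 1) / 2 = b := by omega
  rw [h1, h2]
  rcases m with _ | k
  · simp at ha hb
    omega
  · have e1 : (k + 1) * (k + 1 + 1) = a + a := ha
    have e2 : (k + 1) * (k + 1 - 1) = b + b := hb
    have e3 : k + 1 - 1 = k := by omega
    rw [e3] at e2
    nlinarith

/-- FAM2, core: the rows X10, X13, X14, G5, P2, P3, P4a, P4b as hypotheses. -/
theorem good2_psp_core {F : Type} [Field F] [Fintype F] [CharP F 2] (m : ℕ) (hm : 2 ≤ m)
    (hX10 : ∀ (N : Subgroup ↥(Matrix.symplecticGroup (Fin m) F)) [N.Normal]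
      (U : Subgroup ↥(Matrix.symplecticGroup (Fin m) F)) (k r : ℕ), IsPGroup 2 U → 2 ^ k ≤ Nat.card U →
      U ⊓ N = ⊥ → Nat.card (↥(Matrix.symplecticGroup (Fin m) F) ⧸ N) = 2 ^ k * r → ¬ 2 ∣ r → SqD U →
      Good2 (↥(Matrix.symplecticGroup (Fin m) F) ⧸ N))
    (hX13 : ∀ K : Subgroup (GL (Fin m ⊕ Fin m) F), K ≤ (spToGL m F).range → SqD K →
      SqD (K.comap (spToGL m F)))
    (hX14 : ∀ K : Subgroup (GL (Fin m ⊕ Fin m) F), K ≤ (spToGL m F).range →
      Nat.card (K.comap (spToGL m F)) = Nat.card K)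
    (hG5 : (∀ A : Matrix (Fin m) (Fin m) F, IsUUT A → ∀ S ∈ symmAdd m F,
        A * S * tadj (RingHom.id F) A ∈ symmAdd m F) →
      IsPGroup 2 ↥(sgGrp (RingHom.id F) (symmAdd m F)) ∧
        Nat.card (symmAdd m F) * Fintype.card F ^ (m * (m - 1) / 2) ≤
          Nat.card ↥(sgGrp (RingHom.id F) (symmAdd m F)) ∧
        SqD (sgGrp (RingHom.id F) (symmAdd m F)))
    (hP2 : Nat.card (symmAdd m F) = Fintype.card F ^ (m * (m + 1) / 2))
    (hP3 : sgGrp (RingHom.id F) (symmAdd m F) ≤ (spToGL m F).range)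
    (hP4a : Subgroup.center ↥(Matrix.symplecticGroup (Fin m) F) = ⊥)
    (hP4b : ∀ f : ℕ, Fintype.card F = 2 ^ f →
      ∃ r, Nat.card (PSp m F) = 2 ^ (f * m ^ 2) * r ∧ ¬ 2 ∣ r) :
    Good2 (PSp m F) := by
  obtain ⟨f, -, hf⟩ := FiniteField.card F 2
  obtain ⟨r, hr, hro⟩ := hP4b f hf
  obtain ⟨hp, hcard, hsq⟩ := hG5 (fun A _ S hS => sqdp5_symm_stable m F A S hS)
  refine hX10 (Subgroup.center ↥(Matrix.symplecticGroup (Fin m) F)) (spU m F) (f * m ^ 2) r
    ?_ ?_ ?_ hr hro ?_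
  · exact hp.comap_of_injective (spToGL m F) (sqdp5_spToGL_injective m F)
  · have h1 : Nat.card (spU m F) = Nat.card ↥(sgGrp (RingHom.id F) (symmAdd m F)) := hX14 _ hP3
    rw [h1]
    refine le_trans (le_of_eq ?_) hcard
    rw [hP2, ← pow_add, sqdp5_arith, hf, ← pow_mul]
  · rw [hP4a, inf_bot_eq]
  · exact hX13 _ hP3 hsq

end Cfsg.Agent.Lib.helper14.SQD
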