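import Mathlib
import Cfsg.Prelude.Def_LieTypeChar
import Cfsg.Prelude.Def_ChevStructure
import Cfsg.Agent.Lib.helper14.SQD.Defs
import Cfsg.Agent.Lib.Helper26.SQDP5core
import Cfsg.Agent.Lib.Helper1.SQDX4
import Cfsg.Agent.Lib.Helper18.SQDX2
import Cfsg.Agent.Lib.Helper13.SQDG5
import Cfsg.Agent.Lib.Lead.SQDP1
import Cfsg.Agent.Lib.Lead.SQDP3
import Cfsg.Agent.Lib.Helper22.SQDP4

/-!
Project SQD = S4625 (helper14), row P5 = FAM2 `good2_psp`, verbatim (helper26).
-/

set_option autoImplicit false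

namespace Cfsg.Agent.Lib.helper14.SQD

open Cfsg Cfsg.Lie Matrix

universe u v

/-- FAM2 (block P). -/
theorem good2_psp {F : Type} [Field F] [Fintype F] [CharP F 2] (m : ℕ) (hm : 2 ≤ m) :
    Good2 (PSp m F) :=
  good2_psp_core m hm (fun N _ U k r => good2_quot_card N U k r)
    (fun K => sqd_comap _ (sqdp5_spToGL_injective m F) K)
    (fun K => card_comap _ (sqdp5_spToGL_injective m F) K)
    (sgGrp_good _ _) (card_symm m) (sg_le_range_sp m F) (sp_center_bot m (by omega))
    (fun f hF => card_psp_two_part f hF m (by omega))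

end Cfsg.Agent.Lib.helper14.SQD
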