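import Mathlib
import Cfsg.Prelude.Def_LieTypeChar
import Cfsg.Prelude.Def_ChevStructure
import Cfsg.Agent.Lib.helper14.SQD.Defs
import Cfsg.Agent.Lib.helper3.SuzukiSylow
import Cfsg.Agent.Lib.helper3.SuzukiLieIso

/-!
Project SQD = S4625 (helper14), row S1 = FAM9 `good2_sz` (helper26).  Self-contained: own copy
`sqds1_good2_of_equiv` of the transfer through an isomorphism (row X4).
-/

set_option autoImplicit false

namespace Cfsg.Agent.Lib.helper14.SQD

open Cfsg Cfsg.Lie Matrix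

universe u v

/-- `SqD` passes to images (own copy of row X2) -/
theorem sqds1_sqd_map {G : Type u} {H : Type v} [Group G] [Group H] (f : G →* H) (U : Subgroup G)
    (h : SqD U) : SqD (U.map f) := by
  intro x hx
  obtain ⟨y, hy, rfl⟩ := hx
  rw [← Subgroup.map_commutator, ← map_pow]
  exact Subgroup.mem_map_of_mem f (h y hy)

/-- transfer of `Good2` through an isomorphism (own copy of row X4, in the other direction) -/
theorem sqds1_good2_of_equiv {G : Type u} {H : Type v} [Group G] [Group H] (e : G ≃* H)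
    (h : Good2 G) : Good2 H := by
  obtain ⟨U, hp, hi, hS⟩ := h
  refine ⟨U.map e.toMonoidHom, hp.map _, ?_, sqds1_sqd_map _ U hS⟩
  rw [Subgroup.index_map_of_bijective e.bijective]
  exact hi

/-- the group of translations of helper3's Suzuki group has its squares in its derived subgroup -/
theorem sqds1_sqd_Qs {F : Type} [Field F] [Fintype F] (m : ℕ) (hm : 1 ≤ m)
    (hF : Fintype.card F = 2 ^ (2 * m + 1)) : SqD (Cfsg.Agent.Lib.helper3.Qs hF) := by
  intro x hx
  have hmap : Subgroup.map (Cfsg.Agent.Lib.helper3.Qs hF).subtype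
      (commutator (Cfsg.Agent.Lib.helper3.Qs hF)) =
      ⁅Cfsg.Agent.Lib.helper3.Qs hF, Cfsg.Agent.Lib.helper3.Qs hF⁆ := by
    rw [commutator_def, Subgroup.map_commutator, ← MonoidHom.range_eq_map, Subgroup.range_subtype]
  rw [← hmap]
  obtain ⟨a, b, hab⟩ := Cfsg.Agent.Lib.helper3.qT_surj hF ⟨x, hx⟩
  refine ⟨(⟨x, hx⟩ : Cfsg.Agent.Lib.helper3.Qs hF) ^ 2, ?_, rfl⟩
  rw [hab, Cfsg.Agent.Lib.helper3.qT_sq]
  show _ ∈ commutator (Cfsg.Agent.Lib.helper3.Qs hF)
  rw [← Cfsg.Agent.Lib.helper3.center_eq_commutator_Qs hF hm]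
  exact (Cfsg.Agent.Lib.helper3.center_Qs hF hm _).2 ⟨_, rfl⟩

/-- FAM9 (block S). -/
theorem good2_sz {F : Type} [Field F] [Fintype F] (m : ℕ) (hm : 1 ≤ m)
    (hF : Fintype.card F = 2 ^ (2 * m + 1)) : Good2 (Lie.Sz F (2 ^ (m + 1))) := by
  apply sqds1_good2_of_equiv (Cfsg.Agent.Lib.helper3.szLieEquiv hF hm)
  have := Cfsg.Agent.Lib.helper3.finite_Sz hF hm
  have : Fact (Nat.Prime 2) := ⟨Nat.prime_two⟩
  refine ⟨Cfsg.Agent.Lib.helper3.Qs hF, ?_, ?_, sqds1_sqd_Qs m hm hF⟩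
  · rw [← Cfsg.Agent.Lib.helper3.coe_QsSylow hF hm]
    exact (Cfsg.Agent.Lib.helper3.QsSylow hF hm).isPGroup'
  · rw [← Cfsg.Agent.Lib.helper3.coe_QsSylow hF hm]
    exact (Cfsg.Agent.Lib.helper3.QsSylow hF hm).not_dvd_index

end Cfsg.Agent.Lib.helper14.SQD
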