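import Mathlib
import Cfsg.Prelude.Def_LieTypeChar
import Cfsg.Agent.Lib.helper14.SQD.Defs
import Cfsg.Agent.Lib.helper14.SQD.DefsU
import Cfsg.Agent.Lib.Helper1.SQDX4
import Cfsg.Agent.Lib.Helper18.SQDX2

/-!
Project SQD = S4625 (helper14), row UE11 `good2_psu_even`: the core, with the statements of the rows
UF3, UE3, UE5, UE6, UE7, UE9, UE10, G5 as hypotheses (helper26).  X10, X13, X14 are cited.
-/

set_option autoImplicit false

namespace Cfsg.Agent.Lib.helper14.SQD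

open Cfsg Cfsg.Lie Matrix

universe u v

theorem sqdue11_arith (k : ℕ) : (k + k) * (k + k - 1) / 2 = k ^ 2 + 2 * (k * (k - 1) / 2) := by
  obtain ⟨b, hb⟩ := Nat.even_mul_pred_self k
  have h2 : k * (k - 1) / 2 = b := by omega
  rw [h2]
  rcases k with _ | j
  · simp at hb ⊢
    omega
  · have e3 : j + 1 - 1 = j := by omega
    rw [e3] at hb
    have e4 : j + 1 + (j + 1) - 1 = 2 * j + 1 := by omega
    rw [e4]
    have e5 : (j + 1 + (j + 1)) * (2 * j + 1) = 2 * ((j + 1) ^ 2 + 2 * b) := by nlinarith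
    rw [e5, Nat.mul_div_cancel_left _ (by norm_num : 0 < 2)]

section UE
variable {F : Type} [Field F] [Fintype F] [CharP F 2] (e : ℕ) {k : ℕ}

/-- UE11, core. -/
theorem good2_psu_even_core (hF : Fintype.card F = (2 ^ e) ^ 2) (k : ℕ) (hk : 1 ≤ k)
    (hUF3 : ∃ a : F, a ^ 2 ^ e + a = 1)
    (hUE3 : ∀ a : F, Function.Injective (psiE (k := k) (F := F) (2 ^ e) a))
    (hUE5 : ∀ A S : Matrix (Fin k) (Fin k) F, S ∈ hermAdd k (frobE F e) →
      A * S * tadj (frobE F e) A ∈ hermAdd k (frobE F e))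
    (hUE6 : (2 ^ e) ^ (k ^ 2) ≤ Nat.card (hermAdd k (frobE F e)))
    (hUE7 : ∀ a : F, a ^ 2 ^ e + a = 1 →
      sgGrp (frobE F e) (hermAdd k (frobE F e)) ≤ (psiE (k := k) (F := F) (2 ^ e) a).range)
    (hUE9 : ∀ a : F, a ^ 2 ^ e + a = 1 → ∀ z : GL (Fin k ⊕ Fin k) F,
      z ∈ sgGrp (frobE F e) (hermAdd k (frobE F e)) →
      (∀ h ∈ (psiE (k := k) (F := F) (2 ^ e) a).range, h * z = z * h) → z = 1)
    (hUE10 : ∀ n : ℕ, 2 ≤ n →
      ∃ r, Nat.card (PSU n F (2 ^ e)) = 2 ^ (e * (n * (n - 1) / 2)) * r ∧ ¬ 2 ∣ r)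
    (hG5 : (∀ A : Matrix (Fin k) (Fin k) F, IsUUT A → ∀ S ∈ hermAdd k (frobE F e),
        A * S * tadj (frobE F e) A ∈ hermAdd k (frobE F e)) →
      IsPGroup 2 ↥(sgGrp (frobE F e) (hermAdd k (frobE F e))) ∧
        Nat.card (hermAdd k (frobE F e)) * Fintype.card F ^ (k * (k - 1) / 2) ≤
          Nat.card ↥(sgGrp (frobE F e) (hermAdd k (frobE F e))) ∧
        SqD (sgGrp (frobE F e) (hermAdd k (frobE F e)))) :
    Good2 (PSU (k + k) F (2 ^ e)) := by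
  obtain ⟨a, ha⟩ := hUF3
  have hinj := hUE3 a
  have hKr := hUE7 a ha
  obtain ⟨hp, hcard, hsq⟩ := hG5 (fun A _ S hS => hUE5 A S hS)
  obtain ⟨r, hM, hr⟩ := hUE10 (k + k) (by omega)
  refine good2_quot_card (Subgroup.center ↥(SU (k + k) F (2 ^ e)))
    ((sgGrp (frobE F e) (hermAdd k (frobE F e))).comap (psiE (k := k) (F := F) (2 ^ e) a))
    (e * ((k + k) * (k + k - 1) / 2)) r ?_ ?_ ?_ hM hr ?_
  · exact hp.comap_of_injective _ hinj
  · rw [card_comap _ hinj _ hKr]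
    refine le_trans ?_ hcard
    rw [hF]
    refine le_trans (le_of_eq ?_) (Nat.mul_le_mul_right _ hUE6)
    rw [sqdue11_arith, pow_mul, ← pow_mul (2 ^ e) 2, pow_add]
  · rw [eq_bot_iff]
    intro z hz
    rw [Subgroup.mem_bot]
    apply hinj
    rw [map_one]
    apply hUE9 a ha _ hz.1
    rintro h ⟨g, rfl⟩
    rw [← map_mul, ← map_mul, (Subgroup.mem_center_iff.1 hz.2 g)]
  · exact sqd_comap _ hinj _ hKr hsq

end UE

end Cfsg.Agent.Lib.helper14.SQD
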