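import Mathlib
import Cfsg.Prelude.Def_LieTypeChar
import Cfsg.Agent.Lib.helper14.SQD.Defs
import Cfsg.Agent.Lib.helper14.SQD.DefsU
import Cfsg.Agent.Lib.Helper26.SQDUE11core
import Cfsg.Agent.Lib.Helper18.SQDUF
import Cfsg.Agent.Lib.Helper10.SQDUE3
import Cfsg.Agent.Lib.Helper18.SQDUE5
import Cfsg.Agent.Lib.Helper18.SQDUE6
import Cfsg.Agent.Lib.Helper28.SQDUE7
import Cfsg.Agent.Lib.Helper13.SQDUE9
import Cfsg.Agent.Lib.Helper28.SQDUE10
import Cfsg.Agent.Lib.Helper13.SQDG5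

/-!
Project SQD = S4625 (helper14), row UE11 `good2_psu_even`, verbatim (helper26).
-/

set_option autoImplicit false

namespace Cfsg.Agent.Lib.helper14.SQD

open Cfsg Cfsg.Lie Matrix

universe u v

section UE
variable {F : Type} [Field F] [Fintype F] [CharP F 2] (e : ℕ) {k : ℕ}

/-- UE11 [M]. -/
theorem good2_psu_even (hF : Fintype.card F = (2 ^ e) ^ 2) (k : ℕ) (hk : 1 ≤ k) :
    Good2 (PSU (k + k) F (2 ^ e)) :=
  good2_psu_even_core e hF k hk (exists_trace_one e hF) (psiE_injective e) (herm_stable e hF)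
    (card_herm_ge e hF) (sgE_le_range e hF) (sgE_center e hF) (card_psu_two_part e hF)
    (sgGrp_good _ _)

end UE

end Cfsg.Agent.Lib.helper14.SQD
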