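import Mathlib
import Cfsg.Agent.Lib.helper15.St2
import Cfsg.Agent.Lib.helper7.StA
import Cfsg.Agent.Lib.helper7.StC
import Cfsg.Agent.Lib.helper7.StE
import Cfsg.Agent.Lib.helper3.STC.Defs
import Cfsg.Agent.Lib.helper3.STC.Defs2
import Cfsg.Agent.Lib.helper3.STC.Defs3
import Cfsg.Agent.Lib.Helper26.STCN1
import Cfsg.Agent.Lib.Helper12.STCN2

/-!
STC row F3: the easy root elements on the big cell (`lemA_Y`, `lemA_Y'`, `lemA_L`).
Cites the landed rows N1 (`Helper26.STCN1`) and N2 (`Helper12.STCN2`).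
-/

set_option autoImplicit false

namespace Cfsg.Agent.Lib.helper3.STC

open Cfsg.Agent.Lib.helper15.St2 Cfsg.Agent.Lib.helper7.St

namespace SysC

variable {K : Type*} [Field K] {ι : Type*} {G : Type*} [Group G] (S : SysC K ι G)

section F
variable [DecidableEq ι] (o : ι ⊕ ι)

/-- F3 [S]  the easy root elements on the big cell (model: the last part of `Sys.lemA`). -/
theorem lemA_Y {a : ι ⊕ ι} (ha : a ≠ o) (t : K) {y p : G} (hy : y ∈ S.Yg o) (hp : p ∈ S.Phat o) :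
    S.x a o t * (y * p) ∈ S.cell0 o :=
  ⟨S.x a o t * y, (S.Yg o).mul_mem (S.x_mem_Yg o ha t) hy, p, hp, (mul_assoc _ _ _).symm⟩

theorem lemA_Y' {b : ι ⊕ ι} (hb : b ≠ ng o) (t : K) {y p : G} (hy : y ∈ S.Yg o) (hp : p ∈ S.Phat o) :
    S.x (ng o) b t * (y * p) ∈ S.cell0 o :=
  ⟨S.x (ng o) b t * y, (S.Yg o).mul_mem (S.x_mem_Yg' o hb t) hy, p, hp, (mul_assoc _ _ _).symm⟩

/-- `L`-type: `x a b t * (y * p) = cj (x a b t) y * (x a b t * p)`, N2 `x_cj_mem_Yg`, N1 `x_mem_Pg`. -/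
theorem lemA_L {a b : ι ⊕ ι} (hab : a ≠ b) (ha : a ≠ o) (ha' : a ≠ ng o) (hb : b ≠ o) (hb' : b ≠ ng o) (t : K) {y p : G}
    (hy : y ∈ S.Yg o) (hp : p ∈ S.Phat o) : S.x a b t * (y * p) ∈ S.cell0 o := by
  refine ⟨cj (S.x a b t) y, S.x_cj_mem_Yg o hab ha ha' hb hb' t y hy, S.x a b t * p,
    (S.Phat o).mul_mem (S.Pg_le_Phat o (S.x_mem_Pg o hab hb ha' t)) hp, ?_⟩
  unfold cj
  group

end F

end SysC

end Cfsg.Agent.Lib.helper3.STC
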