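import Mathlib
import Cfsg.Agent.Lib.helper15.St2
import Cfsg.Agent.Lib.helper7.StA
import Cfsg.Agent.Lib.helper7.StC
import Cfsg.Agent.Lib.helper7.StE
import Cfsg.Agent.Lib.helper3.STC.Defs
import Cfsg.Agent.Lib.helper3.STC.Defs2
import Cfsg.Agent.Lib.helper3.STC.Defs3
import Cfsg.Agent.Lib.helper3.STC.Sub

/-!
STC row K3 (core): the main theorem `SysC.Rep.injective`, with the statement of row K2 (`ker_trivial_aux`) as a hypothesis.
-/

set_option autoImplicit false

namespace Cfsg.Agent.Lib.helper3.STC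

open Cfsg.Agent.Lib.helper15.St2 Cfsg.Agent.Lib.helper7.St Matrix

universe v w

/-- K3 core: `hK2` is the statement of K2 `ker_trivial_aux` (at the universes `v`, `w`). -/
theorem stck3_core {K : Type*} [Field K] [Finite K] {l : Type*} [Fintype l] [DecidableEq l]
    (hK2 : ∀ (m : ℕ) (ι : Type v) [Finite ι] (G : Type w) [Group G] (S : SysC K ι G) (R : S.Rep l),
      Nat.card ι = m → S.XQ (fun _ _ => True) = ⊤ → ∀ g, R.φ g = 1 → g = 1)
    {ι : Type v} [Finite ι]
    {G : Type w} [Group G] {S : SysC K ι G} (R : S.Rep l) (hgen : S.XQ (fun _ _ => True) = ⊤) :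
    Function.Injective R.φ := by
  rw [injective_iff_map_eq_one]
  exact hK2 (Nat.card ι) ι G S R rfl hgen

end Cfsg.Agent.Lib.helper3.STC
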