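import Mathlib
import Cfsg.Agent.Lib.helper15.St2
import Cfsg.Agent.Lib.helper7.StA
import Cfsg.Agent.Lib.helper7.StC
import Cfsg.Agent.Lib.helper7.StE
import Cfsg.Agent.Lib.helper3.STC.Defs
import Cfsg.Agent.Lib.helper3.STC.Defs2
import Cfsg.Agent.Lib.helper3.STC.Defs3
import Cfsg.Agent.Lib.helper3.STC.Sub
import Cfsg.Agent.Lib.Helper21.STCM.Vec
import Cfsg.Agent.Lib.Helper26.STCK3core
import Cfsg.Agent.Lib.Helper12.STCK2

/-!
STC (designer helper3) row K3, VERBATIM: the main theorem `SysC.Rep.injective` = `stck3_core` on helper12's K2 `ker_trivial_aux`.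
-/

set_option autoImplicit false

namespace Cfsg.Agent.Lib.helper3.STC

open Cfsg.Agent.Lib.helper15.St2 Cfsg.Agent.Lib.helper7.St Matrix

universe v w

open SysC

/-- K3 [S]  **the main theorem of STC**: a representation of a generated Steinberg system of type `C` over a finite field is injective. -/
theorem SysC.Rep.injective {K : Type*} [Field K] [Finite K] {l : Type*} [Fintype l] [DecidableEq l] {ι : Type v} [Finite ι]
    {G : Type w} [Group G] {S : SysC K ι G} (R : S.Rep l) (hgen : S.XQ (fun _ _ => True) = ⊤) :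
    Function.Injective R.φ :=
  stck3_core (fun m ι _ G _ S R => ker_trivial_aux m ι G S R) R hgen

end Cfsg.Agent.Lib.helper3.STC
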