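import Mathlib
import Cfsg.Agent.Lib.helper17.STM.Defs
import Cfsg.Agent.Lib.helper17.STM.Defs2
import Cfsg.Agent.Lib.Helper26.STMH6core
import Cfsg.Agent.Lib.Helper20.STMH2

/-!
# Project STM (designer helper17; S2099), row H6 `hs_neg_one_eq`, VERBATIM (helper26): wrapper of `stmh6_core` on H4 `hs_eq_hh` (`Helper20.STMH2`).
-/

set_option autoImplicit false
set_option linter.unusedSectionVars false

namespace Cfsg.Agent.Lib.helper17.STM

open Cfsg.Agent.Lib.helper15.St2 Cfsg.Agent.Lib.helper3.STC Cfsg.Agent.Lib.Lead.STD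

universe v w

namespace SysM

variable {F : Type*} [Field F] {A B : F} [Fact (∀ r : F, r ^ 2 ≠ -B + A * r)] {ι : Type*} {G : Type*} [Group G] (S : SysM F A B ι G)

variable [DecidableEq ι]

section H
variable [Finite F]

/-- H6 [S-M]  model STB H6: the spin element does not depend on the index. -/
theorem hs_neg_one_eq {a b : ι ⊕ ι} (hab : a ≠ b) (hab' : a ≠ ng b) : S.hs a (-1) = S.hs b (-1) :=
  S.stmh6_core (fun hab hab' t ht => S.hs_eq_hh hab hab' t ht) hab hab'

end H

end SysM

end Cfsg.Agent.Lib.helper17.STM
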