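import Mathlib
import Cfsg.Agent.Lib.Helper19.SU5.Defs
import Cfsg.Agent.Lib.Helper5.SU5F8

/-!
# Project SU5 (designer helper19; S2291 odd case), row F9 `su3_rank1U`, VERBATIM (helper26).
Rank one Bruhat decomposition in `SU₃`: `w XpU ξ w⁻¹ = XmU η` (F8, `η = act (-κ⁻¹) ξ`, `η.c ≠ 0`) and, for `η = (v, c)` with `c ≠ 0`,
`XmU η = XpU (v / star c, c⁻¹) * HU ((κ star c)⁻¹) * w * XpU (v / c, c⁻¹)` (a `3 × 3` matrix identity: extra `su5f9_mat`).
-/

set_option autoImplicit false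
set_option linter.unusedSectionVars false
set_option linter.unusedSimpArgs false

namespace Cfsg.Agent.Lib.Helper19.SU5

open Cfsg.Agent.Lib.helper17.SLP Cfsg.Agent.Lib.helper3.SP4 Cfsg.Agent.Lib.Helper22.SU4
open Cfsg.Agent.Lib.Helper27.STU (Lam XpM XmM XpS XmS SUm XpU XmU)

universe u v

section F

variable {F : Type u} {K : Type u} [Field F] [Field K] [StarRing F] {D : Tw F K}

/-- the matrix identity behind F9, over a field, all entries explicit. -/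
theorem su5f9_mat (k v sv c sc : F) (hk : k ≠ 0) (hc : c ≠ 0) (hsc : sc ≠ 0) (h : c + sc + v * sv = 0) :
    (!![1, v / sc, c⁻¹; 0, 1, -(sv / c); 0, 0, 1] : Matrix (Fin 3) (Fin 3) F) *
        !![(k * sc)⁻¹, 0, 0; 0, (-(k * c))⁻¹ / (k * sc)⁻¹, 0; 0, 0, ((-(k * c))⁻¹)⁻¹] *
        !![0, 0, k; 0, 1, 0; -k⁻¹, 0, 0] * !![1, v / c, c⁻¹; 0, 1, -(sv / sc); 0, 0, 1] =
      !![1, 0, 0; -sv, 1, 0; c, v, 1] := by
  ext i j
  fin_cases i <;> fin_cases j <;>
    simp [Matrix.mul_apply, Fin.sum_univ_three] <;>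
    field_simp <;>
    first
      | ring1
      | linear_combination h
      | linear_combination (-1 : F) * h

/-- the decomposition of `XmU η`, `η.c ≠ 0`. -/
theorem su5f9_XmU (P : RO D) (hk : P.kap ≠ 0) (η : Lam F True) (hc : η.c ≠ 0) :
    ∃ (α β : Lam F True) (r : Fˣ), XmU η = XpU α * P.HU r * WU (Lam.tr (P.ζ : F)) * XpU β := by
  have hs := su5f8_star_kap P
  have hW := su5f8_mat_WU P hk
  have hsc : star η.c ≠ 0 := fun h => hc (by simpa using congrArg star h)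
  have hr : (P.kap * star η.c)⁻¹ ≠ 0 := inv_ne_zero (mul_ne_zero hk hsc)
  refine ⟨Lam.act (-1) (Lam.mu (Lam.bar η)), (Lam.mu η)⁻¹, Units.mk0 _ hr, ?_⟩
  apply Cfsg.Agent.Lib.Helper27.STU.SUm.mat_injective
  rw [Cfsg.Agent.Lib.Helper27.STU.SUm.mat_mul, Cfsg.Agent.Lib.Helper27.STU.SUm.mat_mul,
    Cfsg.Agent.Lib.Helper27.STU.SUm.mat_mul, hW, P.HU_mat,
    Cfsg.Agent.Lib.Helper27.STU.SUm.mat_XpU, Cfsg.Agent.Lib.Helper27.STU.SUm.mat_XpU,
    Cfsg.Agent.Lib.Helper27.STU.SUm.mat_XmU]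
  have e := su5f9_mat P.kap η.v (star η.v) η.c (star η.c) hk hc hsc η.h
  have e1 : star ((Units.mk0 _ hr : Fˣ) : F) = (-(P.kap * η.c))⁻¹ := by
    rw [Units.val_mk0, star_inv₀, star_mul', star_star, hs]
    congr 1
    ring
  rw [e1, Units.val_mk0]
  have ea : XpM (Lam.act (-1) (Lam.mu (Lam.bar η))) =
      !![1, η.v / star η.c, (η.c)⁻¹; 0, 1, -(star η.v / η.c); 0, 0, 1] := by
    unfold XpM
    simp only [Lam.act_v, Lam.act_c, Lam.mu_v, Lam.mu_c, Lam.bar_v, Lam.bar_c, star_star, star_neg, star_one,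
      star_div₀, star_mul']
    congr 3 <;> ring_nf
  have eb : XpM (Lam.mu η)⁻¹ = !![1, η.v / η.c, (η.c)⁻¹; 0, 1, -(star η.v / star η.c); 0, 0, 1] := by
    unfold XpM
    simp only [Lam.mu_v, Lam.mu_c, Lam.inv_v, Lam.inv_c, star_star, star_neg, star_div₀, star_inv₀]
    congr 3 <;> ring_nf
  rw [ea, eb, e]
  rfl

/-- F9 [M]  rank one Bruhat decomposition in `SU₃`: for `ξ ≠ 1` (so `ξ.c ≠ 0`, STU `Lam.eq_one_of_c`) `w XpU ξ w⁻¹ = XmU η` (F8) with `η.c ≠ 0`, and `XmU η = XpU α * (WU η') * XpU β` with `η = mu η'`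
(`WU η' = XpU η' * XmU (mu η') * XpU (nu η')`; `η' := mu`-preimage, cf. STU H8 `lu_l`), `WU η' = HU r * w` with `r = η'.c / κ` (matrices: `WM_eq` twice, `P.HU_mat`). -/
theorem su3_rank1U [Fintype F] [Fintype K] (hFK : Fintype.card F = Fintype.card K ^ 2) (P : RO D) (ξ : Lam F True)
    (hξ : ξ ≠ 1) :
    ∃ (α β : Lam F True) (r : Fˣ), WU (Lam.tr (P.ζ : F)) * XpU ξ * (WU (Lam.tr (P.ζ : F)))⁻¹ =
      XpU α * P.HU r * WU (Lam.tr (P.ζ : F)) * XpU β := by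
  have hk := su5f8_kap_ne hFK P
  have hs := su5f8_star_kap P
  have hc : ξ.c ≠ 0 := by
    intro h
    apply hξ
    have h1 := ξ.h
    rw [h, star_zero, add_zero, zero_add] at h1
    have hv : ξ.v = 0 := by
      rcases mul_eq_zero.1 h1 with h' | h'
      · exact h'
      · exact star_eq_zero.1 h'
    exact Lam.ext hv h
  rw [(wu_conjU hFK P).2.2.1 ξ]
  apply su5f9_XmU P hk
  rw [Lam.act_c]
  have hk' : star (-(P.kap)⁻¹) ≠ 0 := by
    rw [star_neg, star_inv₀, hs]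
    exact neg_ne_zero.2 (inv_ne_zero (neg_ne_zero.2 hk))
  exact mul_ne_zero (mul_ne_zero (neg_ne_zero.2 (inv_ne_zero hk)) hk') hc

end F

end Cfsg.Agent.Lib.Helper19.SU5
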