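import Cfsg.Agent.Lib.Helper26.KNorm2

set_option autoImplicit false

namespace Cfsg.Agent.Lib.Helper26

open Cfsg Cfsg.FusionSystem

variable {Ω : Type*} [Group Ω] {S : Subgroup Ω}

/-- the conjugacy class of `Q` has a fully automized receptive member -/
def HasFar (F : FusionSystem S) (p : ℕ) (Q : Subgroup Ω) : Prop :=
  ∃ P, F.IsConj Q P ∧ F.IsFullyAutomized p P ∧ F.IsReceptive P

theorem HasFar.le {F : FusionSystem S} {p : ℕ} {Q : Subgroup Ω} (h : HasFar F p Q) : Q ≤ S := by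
  obtain ⟨P, hQP, -, -⟩ := h
  exact isConj_le_left F hQP

theorem HasFar.of_isConj {F : FusionSystem S} {p : ℕ} {Q Q' : Subgroup Ω} (h : HasFar F p Q)
    (hQQ' : F.IsConj Q Q') : HasFar F p Q' := by
  obtain ⟨P, hQP, h1, h2⟩ := h
  exact ⟨P, isConj_trans F (isConj_symm F hQQ') hQP, h1, h2⟩

/-- (P1), local version. -/
theorem exists_iso_sylow_loc [Finite S] {p : ℕ} [Fact p.Prime] (hS : IsPGroup p S)
    (F : FusionSystem S) {Q : Subgroup Ω} (hQ : HasFar F p Q) (K : Subgroup (MulAut Q)) :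
    ∃ (Q₀ : Subgroup Ω) (e₀ : Q ≃* Q₀), IsIso F e₀ ∧ F.IsFullyAutomized p Q₀ ∧
      F.IsReceptive Q₀ ∧
      Helper18.IsSylowIn p (autInducedBy S Q₀ ⊓ Kmap e₀ K) (F.autGroup Q₀ ⊓ Kmap e₀ K) := by
  obtain ⟨Q₁, hQQ₁, hfa, hrec⟩ := hQ
  obtain ⟨e₁, he₁⟩ := exists_iso_of_isConj F hQQ₁
  have hQ₁S : Q₁ ≤ S := hfa.1
  haveI : Finite (MulAut Q₁) := finite_mulAut_of_le hQ₁S
  have hR := isSylowIn18_of_fullyAutomized F hfa
  obtain ⟨χ, hχ, -, hsyl⟩ := exists_conj_inf_isSylowIn (B := ⊥) hR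
    (inf_le_left : F.autGroup Q₁ ⊓ Kmap e₁ K ≤ F.autGroup Q₁) bot_le IsPGroup.of_bot
  have hχiso : IsIso F χ := (isIso_iff_mem_autGroup F hQ₁S χ).mpr hχ
  refine ⟨Q₁, e₁.trans χ, he₁.trans hχiso, hfa, hrec, ?_⟩
  have h1 : Helper18.conjSub χ (F.autGroup Q₁ ⊓ Kmap e₁ K) =
      F.autGroup Q₁ ⊓ Kmap (e₁.trans χ) K := by
    rw [Kmap_trans, ← Kmap_aut_eq_conjSub, Kmap_inf, map_congr_autGroup hχiso]
  rw [h1] at hsyl
  have h2 : autInducedBy S Q₁ ⊓ (F.autGroup Q₁ ⊓ Kmap (e₁.trans χ) K) =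
      autInducedBy S Q₁ ⊓ Kmap (e₁.trans χ) K := by
    rw [← inf_assoc, inf_of_le_left (autInducedBy_le_autGroup F hQ₁S)]
  rw [h2] at hsyl
  exact hsyl

/-- (P3), local version. -/
theorem fullyKNormalized_imp_loc [Finite S] {p : ℕ} [Fact p.Prime] (hS : IsPGroup p S)
    (F : FusionSystem S) {Q : Subgroup Ω} (hQ : HasFar F p Q) {K : Subgroup (MulAut Q)}
    (h : FullyKNormalized F Q K) :
    F.IsFullyCentralized Q ∧
      Helper18.IsSylowIn p (autInducedBy S Q ⊓ K) (F.autGroup Q ⊓ K) := by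
  have hQS := h.1
  obtain ⟨Q₀, e₀, he₀, -, hrec₀, hsyl⟩ := exists_iso_sylow_loc hS F hQ K
  have hfc₀ := fullyCentralized_of_receptive F hrec₀
  obtain ⟨χ, hχ, ψ, hψ, hψQ, hψN, hψc⟩ := exists_extension hS F e₀ he₀ hrec₀ hsyl
  have hQ₀S : Q₀ ≤ S := he₀.target_le
  haveI : Finite (MulAut Q₀) := finite_mulAut_of_le hQ₀S
  let f : NK S Q K → NK S Q₀ (Kmap e₀ K) :=
    fun g => ⟨ψ (Subgroup.inclusion le_sup_left g), hψN g⟩
  have hf_inj : Function.Injective f := by
    intro a b hab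
    have h1 : ψ (Subgroup.inclusion le_sup_left a) = ψ (Subgroup.inclusion le_sup_left b) :=
      congrArg Subtype.val hab
    have h2 := F.injective_of_mem hψ h1
    exact Subgroup.inclusion_injective _ h2
  haveI hfin : Finite (NK S Q₀ (Kmap e₀ K)) := finite_of_le (NK_le _ _)
  have hf_surj : Function.Surjective f :=
    (Function.Injective.bijective_of_nat_card_le hf_inj (h.2 Q₀ e₀ he₀)).2
  have hcongr_inj : Function.Injective (MulAut.congr (e₀.trans χ)) :=
    (MulAut.congr (e₀.trans χ)).injective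
  refine ⟨⟨hQS, fun Q' hQQ' => ?_⟩, ?_⟩
  · have h1 : Nat.card (centralizerIn S Q') ≤ Nat.card (centralizerIn S Q₀) :=
      hfc₀.2 Q' (isConj_trans F (isConj_symm F he₀.isConj) hQQ')
    refine h1.trans ?_
    have hmem : ∀ c : centralizerIn S Q₀,
        ((Function.surjInv hf_surj ⟨c.1, centralizerIn_le_NK Q₀ _ c.2⟩ : NK S Q K) : Ω) ∈
          centralizerIn S Q := by
      intro c
      obtain ⟨g, hgdef⟩ : ∃ g, g = Function.surjInv hf_surj ⟨c.1, centralizerIn_le_NK Q₀ _ c.2⟩ :=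
        ⟨_, rfl⟩
      rw [← hgdef]
      have hfg : f g = ⟨c.1, centralizerIn_le_NK Q₀ _ c.2⟩ := by
        rw [hgdef]; exact Function.surjInv_eq hf_surj _
      have hψg : ψ (Subgroup.inclusion le_sup_left g) = c.1 := congrArg Subtype.val hfg
      obtain ⟨hg, κ, hκ, hκe⟩ := g.2
      have hc := hψc g κ hκe
      have hcC : (c : Ω) ∈ Subgroup.centralizer (Q₀ : Set Ω) := c.2.2
      rw [Subgroup.mem_centralizer_iff] at hcC
      have h2 : MulAut.congr (e₀.trans χ) κ = 1 := by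
        ext y
        rw [hc y, hψg, MulAut.one_apply, ← hcC y y.2]
        group
      have h3 : κ = 1 := by
        apply hcongr_inj
        rw [h2, map_one]
      refine ⟨hg, ?_⟩
      show (g : Ω) ∈ Subgroup.centralizer (Q : Set Ω)
      rw [Subgroup.mem_centralizer_iff]
      intro x hx
      have h4 := hκe ⟨x, hx⟩
      rw [h3, MulAut.one_apply] at h4
      calc x * (g : Ω) = ((g : Ω) * x * (g : Ω)⁻¹) * g := by rw [← h4]
        _ = g * x := by group
    haveI : Finite (centralizerIn S Q) := finite_of_le inf_le_left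
    refine Nat.card_le_card_of_injective
      (fun c : centralizerIn S Q₀ => (⟨_, hmem c⟩ : centralizerIn S Q)) ?_
    intro c c' hcc'
    have h5 : (Function.surjInv hf_surj ⟨c.1, centralizerIn_le_NK Q₀ _ c.2⟩ : NK S Q K) =
        Function.surjInv hf_surj ⟨c'.1, centralizerIn_le_NK Q₀ _ c'.2⟩ :=
      Subtype.ext (congrArg (fun z : centralizerIn S Q => (z : Ω)) hcc')
    have h6 := congrArg f h5
    rw [Function.surjInv_eq hf_surj, Function.surjInv_eq hf_surj] at h6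
    exact Subtype.ext (congrArg (fun z : NK S Q₀ (Kmap e₀ K) => (z : Ω)) h6)
  · have hAmap : (F.autGroup Q ⊓ K).map (MulAut.congr (e₀.trans χ)).toMonoidHom =
        F.autGroup Q₀ ⊓ Kmap e₀ K := by
      have hχiso : IsIso F χ := (isIso_iff_mem_autGroup F hQ₀S χ).mpr hχ.1
      show Kmap (e₀.trans χ) (F.autGroup Q ⊓ K) = _
      rw [Kmap_inf, map_congr_autGroup (he₀.trans hχiso), Kmap_trans, Kmap_of_mem hχ.2]
    have hUle : autInducedBy S Q ⊓ K ≤ F.autGroup Q ⊓ K :=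
      inf_le_inf_right K (autInducedBy_le_autGroup F hQS)
    have hUmap : (autInducedBy S Q ⊓ K).map (MulAut.congr (e₀.trans χ)).toMonoidHom =
        autInducedBy S Q₀ ⊓ Kmap e₀ K := by
      apply hsyl.eq_of_le
      · rw [← hAmap]
        exact Subgroup.map_mono hUle
      · exact ((isPGroup_autInducedBy hS Q).to_le inf_le_left).map _
      · rintro β ⟨hβ1, hβ2⟩
        obtain ⟨hh, hhS, hhe⟩ := mem_autInducedBy_iff.mp hβ1
        have hhN : hh ∈ NK S Q₀ (Kmap e₀ K) := ⟨hhS, β, hβ2, hhe⟩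
        obtain ⟨g, hg⟩ := hf_surj ⟨hh, hhN⟩
        have hψg : ψ (Subgroup.inclusion le_sup_left g) = hh := congrArg Subtype.val hg
        obtain ⟨hgS, κ, hκ, hκe⟩ := g.2
        refine ⟨κ, ⟨mem_autInducedBy_iff.mpr ⟨g, hgS, hκe⟩, hκ⟩, ?_⟩
        ext y
        show ((MulAut.congr (e₀.trans χ) κ y : Q₀) : Ω) = β y
        rw [hψc g κ hκe y, hψg, hhe y]
    apply IsSylowIn18.of_map_injective (MulAut.congr (e₀.trans χ)).toMonoidHom hcongr_inj hUle
    rw [hAmap, hUmap]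
    exact hsyl

/-- a fully `K`-normalized subgroup in a class with a fully automized receptive member is
receptive -/
theorem receptive_of_fullyKNormalized_loc [Finite S] {p : ℕ} [Fact p.Prime] (hS : IsPGroup p S)
    (F : FusionSystem S) {Q : Subgroup Ω} (hQ : HasFar F p Q) {K : Subgroup (MulAut Q)}
    (h : FullyKNormalized F Q K) : F.IsReceptive Q := by
  obtain ⟨hfc, -⟩ := fullyKNormalized_imp_loc hS F hQ h
  obtain ⟨P, hQP, h₁, h₂⟩ := hQ
  exact receptive_of_fullyCentralized hS F h₁ h₂ hQP hfc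

end Cfsg.Agent.Lib.Helper26
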