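import Cfsg.Agent.Lib.Helper26.SatCrit9

set_option autoImplicit false

namespace Cfsg.Agent.Lib.Helper26

open Cfsg Cfsg.FusionSystem

variable {Ω : Type*} [Group Ω] {S : Subgroup Ω}

/-- the automorphisms of `P ≤ R` which are restrictions of elements of `𝔄 ≤ Aut(R)` -/
def resImage {P R : Subgroup Ω} (hPR : P ≤ R) (𝔄 : Subgroup (MulAut R)) : Subgroup (MulAut P) where
  carrier := {α | ∃ a ∈ 𝔄, ∀ x : P, ((a (Subgroup.inclusion hPR x) : R) : Ω) = ((α x : P) : Ω)}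
  one_mem' := ⟨1, 𝔄.one_mem, fun x => rfl⟩
  mul_mem' := by
    rintro α α' ⟨a, ha, hα⟩ ⟨a', ha', hα'⟩
    refine ⟨a * a', 𝔄.mul_mem ha ha', fun x => ?_⟩
    rw [MulAut.mul_apply, MulAut.mul_apply]
    have h1 : a' (Subgroup.inclusion hPR x) = Subgroup.inclusion hPR (α' x) := Subtype.ext (hα' x)
    rw [h1, hα]
  inv_mem' := by
    rintro α ⟨a, ha, hα⟩
    refine ⟨a⁻¹, 𝔄.inv_mem ha, fun x => ?_⟩
    have h1 : a (Subgroup.inclusion hPR (α⁻¹ x)) = Subgroup.inclusion hPR x := by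
      apply Subtype.ext
      rw [hα]
      simp
    have h2 : a⁻¹ (Subgroup.inclusion hPR x) = Subgroup.inclusion hPR (α⁻¹ x) := by
      rw [← h1]
      simp
    rw [h2]
    rfl

theorem mem_resImage_iff {P R : Subgroup Ω} {hPR : P ≤ R} {𝔄 : Subgroup (MulAut R)}
    {α : MulAut P} : α ∈ resImage hPR 𝔄 ↔
      ∃ a ∈ 𝔄, ∀ x : P, ((a (Subgroup.inclusion hPR x) : R) : Ω) = ((α x : P) : Ω) := Iff.rfl

/-- restrictions of automorphisms in the system are in the system -/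
theorem resImage_autGroup_le (F : FusionSystem S) {P R : Subgroup Ω} (hPR : P ≤ R) (hRS : R ≤ S) :
    resImage hPR (F.autGroup R) ≤ F.autGroup P := by
  rintro α ⟨a, ha, hα⟩
  have h1 : R.subtype.comp a.toMonoidHom ∈ F.Hom R := (mem_autGroup_iff F hRS).mp ha
  rw [mem_autGroup_iff F (hPR.trans hRS)]
  exact mem_of_forall_eq F (restrict_mem F h1 hPR) (fun x => (hα x).symm)

/-- The data for the lifting argument: `B` is a subgroup of `Aut_F(Ph)` normalized by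
`Aut_F(Ph)`, and `Q = N_S^B(Ph)` contains `Ph`. -/
structure LiftCtx (F : FusionSystem S) (Ph Q : Subgroup Ω) (B : Subgroup (MulAut Ph)) : Prop where
  hBA : B ≤ F.autGroup Ph
  hBn : F.autGroup Ph ≤ Subgroup.normalizer (B : Set (MulAut Ph))
  hQ : Q = NK S Ph B
  hPhQ : Ph ≤ Q

namespace LiftCtx

variable {F : FusionSystem S} {Ph Q : Subgroup Ω} {B : Subgroup (MulAut Ph)}

theorem hQS (L : LiftCtx F Ph Q B) : Q ≤ S := by
  rw [L.hQ]
  exact NK_le _ _

theorem hQN (L : LiftCtx F Ph Q B) : Q ≤ normalizerIn S Ph := by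
  rw [L.hQ]
  exact NK_le_normalizerIn _ _

theorem hPhS (L : LiftCtx F Ph Q B) : Ph ≤ S := L.hPhQ.trans L.hQS

/-- `Kmap` by an automorphism in the system fixes `B` -/
theorem Kmap_eq (L : LiftCtx F Ph Q B) {α : MulAut Ph} (hα : α ∈ F.autGroup Ph) :
    Kmap α B = B := by
  have hn := L.hBn hα
  ext β
  rw [mem_Kmap_iff]
  constructor
  · rintro ⟨κ, hκ, rfl⟩
    rw [congr_eq_conj]
    exact (Subgroup.mem_normalizer_iff.mp hn κ).mp hκ
  · intro hβ
    refine ⟨α⁻¹ * β * α, ?_, ?_⟩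
    · have := (Subgroup.mem_normalizer_iff.mp (Subgroup.inv_mem _ hn) β).mp hβ
      simpa using this
    · rw [congr_eq_conj]
      simp [MulAut.conj_apply, mul_assoc]

/-- the conjugate of an element of `Q` by an element acting on `Ph` as an automorphism of the
system lies in `Q` -/
theorem mem_of_conj (L : LiftCtx F Ph Q B) {g h : Ω} (hg : g ∈ Q) (hh : h ∈ S)
    {α : MulAut Ph} (hα : α ∈ F.autGroup Ph)
    (hconj : ∀ x : Ph, h * ((α x : Ph) : Ω) * h⁻¹ = ((α ⟨g * x * g⁻¹,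
      conj_mem_of_mem_normalizer (L.hQN hg).2 x⟩ : Ph) : Ω)) : h ∈ Q := by
  rw [L.hQ] at hg ⊢
  obtain ⟨hgS, κ, hκ, hκe⟩ := hg
  refine ⟨hh, α * κ * α⁻¹, ?_, fun x => ?_⟩
  · exact (Subgroup.mem_normalizer_iff.mp (L.hBn hα) κ).mp hκ
  · have h1 := hconj (α⁻¹ x)
    rw [MulAut.apply_inv_self] at h1
    rw [h1]
    simp only [MulAut.mul_apply]
    congr 2
    exact Subtype.ext (hκe _)

theorem normalizerIn_le_normalizer (L : LiftCtx F Ph Q B) :
    normalizerIn S Ph ≤ Subgroup.normalizer (Q : Set Ω) := by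
  have key : ∀ n ∈ normalizerIn S Ph, ∀ g ∈ Q, n * g * n⁻¹ ∈ Q := by
    intro n hn g hg
    have hnA : conjAut Ph n hn.2 ∈ F.autGroup Ph :=
      autInducedBy_le_autGroup F L.hPhS (conjAut_mem_autInducedBy hn.1 hn.2)
    refine L.mem_of_conj hg (S.mul_mem (S.mul_mem hn.1 (L.hQS hg)) (S.inv_mem hn.1)) hnA
      (fun x => ?_)
    simp only [conjAut_apply]
    group
  intro n hn
  refine mem_normalizer_of_forall (key n hn) (fun g hg => ?_)
  have := key n⁻¹ ((normalizerIn S Ph).inv_mem hn) g hg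
  rwa [inv_inv] at this

/-- if `Q` is not contained in `T ≤ N_S(Ph)`, some element of `N_S(T) ∩ Q` is not in `T` -/
theorem exists_mem_not_mem [Finite S] {p : ℕ} [Fact p.Prime] (hS : IsPGroup p S)
    (L : LiftCtx F Ph Q B) {T : Subgroup Ω} (hTN : T ≤ normalizerIn S Ph) (hQT : ¬ Q ≤ T) :
    ∃ x, x ∈ Q ∧ x ∈ normalizerIn S T ∧ x ∉ T := by
  have hTQS : T ⊔ Q ≤ S := sup_le (hTN.trans inf_le_left) L.hQS
  haveI : Finite ↥(T ⊔ Q) := finite_of_le hTQS
  have hne : T ≠ T ⊔ Q := by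
    intro h
    apply hQT
    rw [h]
    exact le_sup_right
  obtain ⟨x, hx, hxT, hxN⟩ := exists_normalizing_of_lt (hS.to_le hTQS) le_sup_left hne
  have hLE : T ≤ Subgroup.normalizer Q := hTN.trans L.normalizerIn_le_normalizer
  have hx' : x ∈ ((T ⊔ Q : Subgroup Ω) : Set Ω) := hx
  rw [Subgroup.coe_mul_of_left_le_normalizer_right T Q hLE] at hx'
  obtain ⟨t, ht, q, hq, rfl⟩ := Set.mem_mul.mp hx'
  have ht' : t ∈ T := ht
  have hq' : q ∈ Q := hq
  refine ⟨q, hq', ⟨L.hQS hq', ?_⟩, fun hqT => hxT (T.mul_mem ht' hqT)⟩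
  have h1 : q = t⁻¹ * (t * q) := by group
  rw [h1]
  exact Subgroup.mul_mem _ (Subgroup.inv_mem _ (Subgroup.le_normalizer ht')) hxN

end LiftCtx

end Cfsg.Agent.Lib.Helper26
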