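import Cfsg.Agent.Lib.Helper26.SatCrit10

set_option autoImplicit false

namespace Cfsg.Agent.Lib.Helper26

open Cfsg Cfsg.FusionSystem

variable {Ω : Type*} [Group Ω] {S : Subgroup Ω}

/-- the statement proved by downward induction on `|T|` -/
def LiftProp (F : FusionSystem S) {Ph Q : Subgroup Ω} (B : Subgroup (MulAut Ph)) (hPhQ : Ph ≤ Q)
    (m : ℕ) : Prop :=
  ∀ (T₁ : Subgroup Ω) (hPT₁ : Ph ≤ T₁) (β₁ : T₁ →* Ω) (α₁ : MulAut Ph),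
    Nat.card S - Nat.card T₁ = m → Ph ≠ T₁ → T₁ ≤ normalizerIn S Ph → β₁ ∈ F.Hom T₁ →
    (∀ x : Ph, β₁ (Subgroup.inclusion hPT₁ x) = ((α₁ x : Ph) : Ω)) →
    α₁ ∈ B ⊔ resImage hPhQ (F.autGroup Q)

theorem lift_step [Finite S] {p : ℕ} [Fact p.Prime] {F : FusionSystem S}
    {ℋ : Set (Subgroup Ω)} {P₀ : Subgroup Ω} (C : SatCtx F p ℋ P₀) {Ph Q : Subgroup Ω}
    {B : Subgroup (MulAut Ph)} (L : LiftCtx F Ph Q B) {n : ℕ}
    (IH : ∀ m < n, LiftProp F B L.hPhQ m)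
    {T : Subgroup Ω} (hPT : Ph ≤ T) (hTN : T ≤ normalizerIn S Ph)
    (hn : Nat.card S - Nat.card T = n) (hQT : ¬ Q ≤ T)
    {T₀ : Subgroup Ω} (e : T ≃* T₀) (he : IsIso F e) (hrec : F.IsReceptive T₀)
    (hsyl : Helper18.IsSylowIn p (autInducedBy S T₀ ⊓ Kmap e (resAut hPT B))
      (F.autGroup T₀ ⊓ Kmap e (resAut hPT B)))
    {P'' : Subgroup Ω} (eP : Ph ≃* P'') (hP''T₀ : P'' ≤ T₀)
    (hc : ∀ x : Ph, e (Subgroup.inclusion hPT x) = Subgroup.inclusion hP''T₀ (eP x))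
    (ψ : NormalizerHom F P'' Ph) (hP''S : P'' ≤ S) :
    (eP.trans (ψ.equiv hP''S) : MulAut Ph) ∈ B ⊔ resImage L.hPhQ (F.autGroup Q) := by
  obtain ⟨χ, hχ, ψ₁, hψ₁, hψ₁T, -, -⟩ := exists_extension C.hS F e he hrec hsyl
  have hχ2 := hχ.2
  rw [Kmap_resAut hPT hP''T₀ e eP hc B] at hχ2
  obtain ⟨b', ⟨b₁, hb₁, rfl⟩, hb'⟩ := hχ2
  have hT₁N : NK S T (resAut hPT B) ⊔ T ≤ normalizerIn S Ph := by
    refine sup_le ?_ hTN
    rw [NK_resAut]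
    exact inf_le_right.trans (NK_le_normalizerIn _ _)
  have hPT₁ : Ph ≤ NK S T (resAut hPT B) ⊔ T := hPT.trans le_sup_right
  have hkey : ∀ x : Ph, ψ₁ (Subgroup.inclusion hPT₁ x) = ((eP (b₁ x) : P'') : Ω) := by
    intro x
    have h1 : Subgroup.inclusion hPT₁ x =
        Subgroup.inclusion le_sup_right (Subgroup.inclusion hPT x) := rfl
    rw [h1, hψ₁T, hc, hb']
    simp [congr_apply]
  have himg : (Ph.subgroupOf (NK S T (resAut hPT B) ⊔ T)).map ψ₁ = P'' := by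
    ext y
    constructor
    · rintro ⟨t, ht, rfl⟩
      have ht' : (t : Ω) ∈ Ph := Subgroup.mem_subgroupOf.mp ht
      have h1 : t = Subgroup.inclusion hPT₁ ⟨t, ht'⟩ := Subtype.ext rfl
      rw [h1, hkey]
      exact (eP _).2
    · intro hy
      refine ⟨Subgroup.inclusion hPT₁ (b₁⁻¹ (eP.symm ⟨y, hy⟩)),
        Subgroup.mem_subgroupOf.mpr (b₁⁻¹ (eP.symm ⟨y, hy⟩)).2, ?_⟩
      rw [hkey]
      simp
  have hmaps : ∀ t : ↥(NK S T (resAut hPT B) ⊔ T), ψ₁ t ∈ normalizerIn S P'' := by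
    intro t
    rw [← himg]
    exact map_mem_normalizerIn F hψ₁ t (hT₁N t.2).2
  have hβ₁ := F.comp_mem hψ₁ ψ.mem hmaps
  obtain ⟨α₁, hα₁def⟩ : ∃ α₁ : MulAut Ph, α₁ = (eP.trans (ψ.equiv hP''S) : MulAut Ph) * b₁ :=
    ⟨_, rfl⟩
  have hα₁ : ∀ x : Ph, (ψ.φ.comp (ψ₁.codRestrict _ hmaps)) (Subgroup.inclusion hPT₁ x) =
      ((α₁ x : Ph) : Ω) := by
    intro x
    show ψ.φ ⟨ψ₁ (Subgroup.inclusion hPT₁ x), _⟩ = _
    have h1 : ((α₁ x : Ph) : Ω) =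
        ψ.φ ⟨(eP (b₁ x) : P''), le_normalizerIn_self hP''S (eP (b₁ x)).2⟩ := by
      rw [← ψ.equiv_apply hP''S, hα₁def]
      rfl
    rw [h1]
    congr 1
    exact Subtype.ext (hkey x)
  obtain ⟨x, hxQ, hxN, hxT⟩ := L.exists_mem_not_mem C.hS hTN hQT
  have hxNK : x ∈ NK S T (resAut hPT B) := by
    rw [NK_resAut]
    refine ⟨hxN, ?_⟩
    rw [← L.hQ]
    exact hxQ
  have hT₁S : NK S T (resAut hPT B) ⊔ T ≤ S := source_le F hψ₁
  haveI : Finite ↥(NK S T (resAut hPT B) ⊔ T) := finite_of_le hT₁S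
  have hlt : Nat.card T < Nat.card ↥(NK S T (resAut hPT B) ⊔ T) := by
    apply card_lt_card_of_lt
    refine lt_of_le_of_ne le_sup_right (fun heq => hxT ?_)
    rw [heq]
    exact (le_sup_left : NK S T (resAut hPT B) ≤ _) hxNK
  have hle : Nat.card ↥(NK S T (resAut hPT B) ⊔ T) ≤ Nat.card S := card_le_card_of_le_of_finite hT₁S
  have hne : Ph ≠ NK S T (resAut hPT B) ⊔ T := by
    intro heq
    apply hxT
    apply hPT
    rw [heq]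
    exact (le_sup_left : NK S T (resAut hPT B) ≤ _) hxNK
  have h := IH (Nat.card S - Nat.card ↥(NK S T (resAut hPT B) ⊔ T)) (by omega)
    (NK S T (resAut hPT B) ⊔ T) hPT₁ _ α₁ rfl hne hT₁N hβ₁ hα₁
  have h2 : (eP.trans (ψ.equiv hP''S) : MulAut Ph) = α₁ * b₁⁻¹ := by
    rw [hα₁def]
    group
  rw [h2]
  exact Subgroup.mul_mem _ h (Subgroup.inv_mem _ ((le_sup_left : B ≤ _) hb₁))

end Cfsg.Agent.Lib.Helper26
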