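import Cfsg.Agent.Lib.Helper26.SatCrit11

set_option autoImplicit false

namespace Cfsg.Agent.Lib.Helper26

open Cfsg Cfsg.FusionSystem

variable {Ω : Type*} [Group Ω] {S : Subgroup Ω}

/-- a map `β` on `T ≥ Ph` restricting to an automorphism `α` of `Ph`: the image of `Ph` -/
theorem map_eq_of_restrict_aut {Ph T : Subgroup Ω} (hPT : Ph ≤ T) (β : T →* Ω) (α : MulAut Ph)
    (hα : ∀ x : Ph, β (Subgroup.inclusion hPT x) = ((α x : Ph) : Ω)) :
    (Ph.subgroupOf T).map β = Ph := by
  ext y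
  constructor
  · rintro ⟨t, ht, rfl⟩
    have ht' : (t : Ω) ∈ Ph := Subgroup.mem_subgroupOf.mp ht
    have h1 : t = Subgroup.inclusion hPT ⟨t, ht'⟩ := Subtype.ext rfl
    rw [h1, hα]
    exact (α _).2
  · intro hy
    refine ⟨Subgroup.inclusion hPT (α⁻¹ ⟨y, hy⟩), Subgroup.mem_subgroupOf.mpr (α⁻¹ ⟨y, hy⟩).2, ?_⟩
    rw [hα]
    simp

theorem liftProp_step [Finite S] {p : ℕ} [Fact p.Prime] {F : FusionSystem S}
    {ℋ : Set (Subgroup Ω)} {P₀ : Subgroup Ω} (C : SatCtx F p ℋ P₀) {Ph Q : Subgroup Ω}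
    {B : Subgroup (MulAut Ph)} (hPh : F.IsConj P₀ Ph) (hfn : F.IsFullyNormalized Ph)
    (L : LiftCtx F Ph Q B) (n : ℕ) (IH : ∀ m < n, LiftProp F B L.hPhQ m) :
    LiftProp F B L.hPhQ n := by
  intro T hPT β α hn hne hTN hβ hα
  have hTS : T ≤ S := source_le F hβ
  haveI : Finite T := finite_of_le hTS
  haveI : Finite Q := finite_of_le L.hQS
  have hαA : α ∈ F.autGroup Ph := by
    rw [mem_autGroup_iff F L.hPhS]
    exact mem_of_forall_eq F (restrict_mem F hβ hPT) (fun x => (hα x).symm)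
  have hαinvA : α⁻¹ ∈ F.autGroup Ph := Subgroup.inv_mem _ hαA
  by_cases hQT : Q ≤ T
  · apply (le_sup_right : resImage L.hPhQ (F.autGroup Q) ≤ B ⊔ _)
    have hβQ : β.comp (Subgroup.inclusion hQT) ∈ F.Hom Q := restrict_mem F hβ hQT
    have hmapsQ : ∀ g : Q, (β.comp (Subgroup.inclusion hQT)) g ∈ Q := by
      intro g
      refine L.mem_of_conj g.2 (apply_mem F hβQ g) hαA (fun x => ?_)
      rw [← hα, ← hα]
      show β (Subgroup.inclusion hQT g) * β (Subgroup.inclusion hPT x) *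
        (β (Subgroup.inclusion hQT g))⁻¹ = _
      rw [← map_inv, ← map_mul, ← map_mul]
      congr 1
    have hrange : (β.comp (Subgroup.inclusion hQT)).range = Q := by
      apply Subgroup.eq_of_le_of_card_ge
      · rintro _ ⟨g, rfl⟩
        exact hmapsQ g
      · rw [card_range_of_mem F hβQ]
    refine ⟨autOfHom F hβQ hrange, autOfHom_mem F hβQ hrange, fun x => ?_⟩
    rw [autOfHom_apply]
    exact hα x
  · have hT_ℋ : T ∈ ℋ :=
      C.mem_of_card_lt hPh hTS (card_lt_card_of_lt (lt_of_le_of_ne hPT hne))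
    obtain ⟨T₀, e₀, he₀, -, hrec₀, hsyl⟩ :=
      exists_iso_sylow_loc C.hS F (C.hsat T hT_ℋ) (resAut hPT B)
    have h'' : F.IsConj P₀ (imgE e₀ Ph) := isConj_trans F hPh (eqE_isIso F he₀ hPT).isConj
    have hP''S : imgE e₀ Ph ≤ S := isConj_le_right F h''
    obtain ⟨ψ⟩ := nonempty_normalizerHom_of_fullyNormalized C hPh hfn h''
    have h1 := lift_step C L IH hPT hTN hn hQT e₀ he₀ hrec₀ hsyl (eqE e₀ hPT) (imgE_le e₀ Ph)
      (eqE_comp e₀ hPT) ψ hP''S
    -- the image of `T`
    obtain ⟨eβ, heβ, heβx⟩ := exists_iso_of_hom F hβ rfl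
    have hPT' : Ph ≤ β.range := by
      intro y hy
      refine MonoidHom.mem_range.mpr ⟨Subgroup.inclusion hPT (α⁻¹ ⟨y, hy⟩), ?_⟩
      rw [hα]
      simp
    have hcβ : ∀ x : Ph, eβ (Subgroup.inclusion hPT x) = Subgroup.inclusion hPT' (α x) := by
      intro x
      apply Subtype.ext
      rw [heβx]
      exact hα x
    have hK : Kmap eβ (resAut hPT B) = resAut hPT' B := by
      rw [Kmap_resAut hPT hPT' eβ α hcβ B, L.Kmap_eq hαA]
    have hK₂ : Kmap (eβ.symm.trans e₀) (resAut hPT' B) = Kmap e₀ (resAut hPT B) := by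
      rw [Kmap_trans, ← hK, Kmap_symm]
    have hsyl₂ : Helper18.IsSylowIn p
        (autInducedBy S T₀ ⊓ Kmap (eβ.symm.trans e₀) (resAut hPT' B))
        (F.autGroup T₀ ⊓ Kmap (eβ.symm.trans e₀) (resAut hPT' B)) := by
      rw [hK₂]
      exact hsyl
    have himgβ := map_eq_of_restrict_aut hPT β α hα
    have hT'N : β.range ≤ normalizerIn S Ph := by
      rintro _ ⟨t, rfl⟩
      have h3 := map_mem_normalizerIn F hβ t (hTN t.2).2
      rwa [himgβ] at h3
    have hn' : Nat.card S - Nat.card β.range = n := by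
      rw [card_range_of_mem F hβ]
      exact hn
    have hQT' : ¬ Q ≤ β.range := by
      intro hQr
      apply hQT
      have hmem : ∀ q : Q, ((Classical.choose (MonoidHom.mem_range.mp (hQr q.2)) : T) : Ω) ∈
          Q ⊓ T := by
        intro q
        obtain ⟨t, ht⟩ : ∃ t, t = Classical.choose (MonoidHom.mem_range.mp (hQr q.2)) := ⟨_, rfl⟩
        have hβt : β t = q := by
          rw [ht]
          exact Classical.choose_spec (MonoidHom.mem_range.mp (hQr q.2))
        rw [← ht]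
        refine ⟨?_, t.2⟩
        refine L.mem_of_conj q.2 (hTS t.2) hαinvA (fun x => ?_)
        have h4 : β (t * Subgroup.inclusion hPT (α⁻¹ x) * t⁻¹) =
            β (Subgroup.inclusion hPT (α⁻¹ ⟨(q : Ω) * x * (q : Ω)⁻¹,
              conj_mem_of_mem_normalizer (L.hQN q.2).2 x⟩)) := by
          rw [map_mul, map_mul, map_inv, hβt, hα, hα]
          simp
        have h5 := F.injective_of_mem hβ h4
        exact congrArg Subtype.val h5
      have hinj : Function.Injective (fun q : Q => (⟨_, hmem q⟩ : ↥(Q ⊓ T))) := by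
        intro q q' hqq'
        have h6 : (Classical.choose (MonoidHom.mem_range.mp (hQr q.2)) : T) =
            Classical.choose (MonoidHom.mem_range.mp (hQr q'.2)) :=
          Subtype.ext (congrArg (fun z : ↥(Q ⊓ T) => (z : Ω)) hqq')
        have h7 := congrArg β h6
        rw [Classical.choose_spec (MonoidHom.mem_range.mp (hQr q.2)),
          Classical.choose_spec (MonoidHom.mem_range.mp (hQr q'.2))] at h7
        exact Subtype.ext h7
      haveI : Finite ↥(Q ⊓ T) := finite_of_le (inf_le_left.trans L.hQS)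
      have hcard := Nat.card_le_card_of_injective _ hinj
      have heq : Q ⊓ T = Q := Subgroup.eq_of_le_of_card_ge inf_le_left hcard
      rw [← heq]
      exact inf_le_right
    have hc₂ : ∀ x : Ph, (eβ.symm.trans e₀) (Subgroup.inclusion hPT' x) =
        Subgroup.inclusion (imgE_le e₀ Ph) (((α.symm : Ph ≃* Ph).trans (eqE e₀ hPT)) x) := by
      intro x
      have h8 : Subgroup.inclusion hPT' x = eβ (Subgroup.inclusion hPT (α.symm x)) := by
        rw [hcβ]
        simp
      rw [h8]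
      simp only [MulEquiv.trans_apply, MulEquiv.symm_apply_apply]
      exact eqE_comp e₀ hPT _
    have h2 := lift_step C L IH hPT' hT'N hn' hQT' (eβ.symm.trans e₀) (heβ.symm.trans he₀) hrec₀
      hsyl₂ ((α.symm : Ph ≃* Ph).trans (eqE e₀ hPT)) (imgE_le e₀ Ph) hc₂ ψ hP''S
    have h3 : α = ((((α.symm : Ph ≃* Ph).trans (eqE e₀ hPT)).trans (ψ.equiv hP''S) : MulAut Ph))⁻¹ *
        ((eqE e₀ hPT).trans (ψ.equiv hP''S) : MulAut Ph) := by
      rw [eq_inv_mul_iff_mul_eq]
      ext x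
      simp [MulAut.mul_apply]
    rw [h3]
    exact Subgroup.mul_mem _ (Subgroup.inv_mem _ h2) h1

theorem liftProp_all [Finite S] {p : ℕ} [Fact p.Prime] {F : FusionSystem S}
    {ℋ : Set (Subgroup Ω)} {P₀ : Subgroup Ω} (C : SatCtx F p ℋ P₀) {Ph Q : Subgroup Ω}
    {B : Subgroup (MulAut Ph)} (hPh : F.IsConj P₀ Ph) (hfn : F.IsFullyNormalized Ph)
    (L : LiftCtx F Ph Q B) (n : ℕ) : LiftProp F B L.hPhQ n := by
  induction n using Nat.strong_induction_on with
  | _ n ih => exact liftProp_step C hPh hfn L n ih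

/-- every automorphism of `Ph` in the system is, modulo `B`, the restriction of an automorphism
of `Q` in the system -/
theorem autGroup_le_sup_resImage [Finite S] {p : ℕ} [Fact p.Prime] {F : FusionSystem S}
    {ℋ : Set (Subgroup Ω)} {P₀ : Subgroup Ω} (C : SatCtx F p ℋ P₀) {Ph Q : Subgroup Ω}
    {B : Subgroup (MulAut Ph)} (hPh : F.IsConj P₀ Ph) (hfn : F.IsFullyNormalized Ph)
    (L : LiftCtx F Ph Q B) : F.autGroup Ph ≤ B ⊔ resImage L.hPhQ (F.autGroup Q) := by
  apply autGroup_le_of_extendable C hPh hfn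
  rintro α ⟨T, hPT, β, hne, hTN, hβ, hα⟩
  exact liftProp_all C hPh hfn L _ T hPT β α rfl hne hTN hβ hα

end Cfsg.Agent.Lib.Helper26
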