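import Cfsg.Agent.Lib.Helper26.SatCrit12

set_option autoImplicit false

namespace Cfsg.Agent.Lib.Helper26

open Cfsg Cfsg.FusionSystem

section GroupLemma

variable {G : Type*} [Group G]

theorem conj_mem_closure_of_forall {X : Set G} {c : G}
    (hX : ∀ x ∈ X, c * x * c⁻¹ ∈ Subgroup.closure X) :
    ∀ m ∈ Subgroup.closure X, c * m * c⁻¹ ∈ Subgroup.closure X := by
  intro m hm
  induction hm using Subgroup.closure_induction with
  | mem x hx => exact hX x hx
  | one => simp
  | mul x y _ _ hx hy =>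
    have h : c * (x * y) * c⁻¹ = (c * x * c⁻¹) * (c * y * c⁻¹) := by group
    rw [h]
    exact Subgroup.mul_mem _ hx hy
  | inv x _ hx =>
    have h : c * x⁻¹ * c⁻¹ = (c * x * c⁻¹)⁻¹ := by group
    rw [h]
    exact Subgroup.inv_mem _ hx

/-- the closure of the `A`-conjugates of `D` -/
def conjClosure (A D : Subgroup G) : Subgroup G :=
  Subgroup.closure {x | ∃ a ∈ A, ∃ d ∈ D, x = a * d * a⁻¹}

theorem le_conjClosure (A D : Subgroup G) : D ≤ conjClosure A D := by
  intro d hd
  exact Subgroup.subset_closure ⟨1, A.one_mem, d, hd, by simp⟩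

theorem conjClosure_le {A D B : Subgroup G} (hDB : D ≤ B)
    (hAB : A ≤ Subgroup.normalizer (B : Set G)) : conjClosure A D ≤ B := by
  apply (Subgroup.closure_le _).mpr
  rintro _ ⟨a, ha, d, hd, rfl⟩
  exact (Subgroup.mem_normalizer_iff.mp (hAB ha) d).mp (hDB hd)

theorem le_normalizer_conjClosure (A D : Subgroup G) :
    A ≤ Subgroup.normalizer (conjClosure A D : Set G) := by
  have key : ∀ c ∈ A, ∀ m ∈ conjClosure A D, c * m * c⁻¹ ∈ conjClosure A D := by
    intro c hc
    apply conj_mem_closure_of_forall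
    rintro _ ⟨a, ha, d, hd, rfl⟩
    refine Subgroup.subset_closure ⟨c * a, A.mul_mem hc ha, d, hd, ?_⟩
    group
  intro c hc
  refine mem_normalizer_of_forall (key c hc) (fun m hm => ?_)
  have := key c⁻¹ (A.inv_mem hc) m hm
  rwa [inv_inv] at this

theorem le_of_conjClosure_trick [Finite G] {p : ℕ} [Fact p.Prime]
    {A B A₁ D : Subgroup G} (hBp : IsPGroup p B) (hDB : D ≤ B) (hA : A ≤ B ⊔ A₁)
    (hA₁D : A₁ ≤ Subgroup.normalizer (D : Set G)) (hA₁B : A₁ ≤ Subgroup.normalizer (B : Set G))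
    (hB : B ≤ conjClosure A D) : B ≤ D := by
  -- `M`, the closure of the `B`-conjugates of `D`
  have hMB : conjClosure B D ≤ B := conjClosure_le hDB Subgroup.le_normalizer
  have hA₁M : A₁ ≤ Subgroup.normalizer (conjClosure B D : Set G) := by
    have key : ∀ c ∈ A₁, ∀ m ∈ conjClosure B D, c * m * c⁻¹ ∈ conjClosure B D := by
      intro c hc
      apply conj_mem_closure_of_forall
      rintro _ ⟨b, hb, d, hd, rfl⟩
      refine Subgroup.subset_closure ⟨c * b * c⁻¹,
        (Subgroup.mem_normalizer_iff.mp (hA₁B hc) b).mp hb, c * d * c⁻¹,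
        (Subgroup.mem_normalizer_iff.mp (hA₁D hc) d).mp hd, ?_⟩
      group
    intro c hc
    refine mem_normalizer_of_forall (key c hc) (fun m hm => ?_)
    have := key c⁻¹ (A₁.inv_mem hc) m hm
    rwa [inv_inv] at this
  have hAM : A ≤ Subgroup.normalizer (conjClosure B D : Set G) :=
    hA.trans (sup_le (le_normalizer_conjClosure B D) hA₁M)
  have hBM : B ≤ conjClosure B D :=
    hB.trans (conjClosure_le (le_conjClosure B D) hAM)
  by_contra hne
  have hlt : D.subgroupOf B ≠ ⊤ := by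
    intro h
    apply hne
    intro x hx
    have : (⟨x, hx⟩ : B) ∈ D.subgroupOf B := by rw [h]; trivial
    exact Subgroup.mem_subgroupOf.mp this
  obtain ⟨Mx, hMx, hDM⟩ := (eq_top_or_exists_le_coatom (D.subgroupOf B)).resolve_left hlt
  haveI hnil : Group.IsNilpotent B := hBp.isNilpotent
  haveI : Mx.Normal :=
    Subgroup.NormalizerCondition.normal_of_coatom Mx Group.normalizerCondition_of_isNilpotent hMx
  have hMle : conjClosure B D ≤ Mx.map B.subtype := by
    apply (Subgroup.closure_le _).mpr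
    rintro _ ⟨b, hb, d, hd, rfl⟩
    have hdM : (⟨d, hDB hd⟩ : B) ∈ Mx := hDM (Subgroup.mem_subgroupOf.mpr hd)
    exact ⟨⟨b, hb⟩ * ⟨d, hDB hd⟩ * (⟨b, hb⟩ : B)⁻¹, Subgroup.Normal.conj_mem inferInstance _ hdM _,
      rfl⟩
  apply hMx.1
  rw [eq_top_iff]
  intro x _
  obtain ⟨y, hy, hyx⟩ := hMle (hBM x.2)
  have : y = x := Subtype.ext hyx
  rwa [this] at hy

end GroupLemma

end Cfsg.Agent.Lib.Helper26
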