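import Cfsg.Agent.Lib.Helper26.SatCrit13

set_option autoImplicit false

namespace Cfsg.Agent.Lib.Helper26

open Cfsg Cfsg.FusionSystem

variable {Ω : Type*} [Group Ω] {S : Subgroup Ω}

namespace LiftCtx

variable {F : FusionSystem S} {Ph Q : Subgroup Ω} {B : Subgroup (MulAut Ph)}

/-- `Aut_Q(Ph) ≤ B` -/
theorem autInducedBy_le (L : LiftCtx F Ph Q B) : autInducedBy Q Ph ≤ B := by
  intro d hd
  obtain ⟨g, hg, hgd⟩ := mem_autInducedBy_iff.mp hd
  rw [L.hQ] at hg
  obtain ⟨-, κ, hκ, hκe⟩ := hg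
  have : d = κ := by
    ext x
    rw [hgd, hκe]
  rw [this]
  exact hκ

/-- `Aut_Q(Ph)` consists of restrictions of automorphisms of `Q` in the system -/
theorem autInducedBy_le_resImage (L : LiftCtx F Ph Q B) :
    autInducedBy Q Ph ≤ resImage L.hPhQ (F.autGroup Q) := by
  intro d hd
  obtain ⟨g, hg, hgd⟩ := mem_autInducedBy_iff.mp hd
  have hgN : g ∈ Subgroup.normalizer (Q : Set Ω) := Subgroup.le_normalizer hg
  refine ⟨conjAut Q g hgN, ?_, fun x => ?_⟩
  · exact autInducedBy_le_autGroup F L.hQS (conjAut_mem_autInducedBy (L.hQS hg) hgN)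
  · rw [conjAut_apply, hgd]
    rfl

/-- restrictions of automorphisms of `Q` in the system normalize `Aut_Q(Ph)` -/
theorem resImage_le_normalizer (L : LiftCtx F Ph Q B) :
    resImage L.hPhQ (F.autGroup Q) ≤
      Subgroup.normalizer ((autInducedBy Q Ph : Subgroup (MulAut Ph)) : Set (MulAut Ph)) := by
  have key : ∀ α ∈ resImage L.hPhQ (F.autGroup Q), ∀ d ∈ autInducedBy Q Ph,
      α * d * α⁻¹ ∈ autInducedBy Q Ph := by
    rintro α ⟨a, -, haα⟩ d hd
    obtain ⟨g, hg, hgd⟩ := mem_autInducedBy_iff.mp hd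
    refine mem_autInducedBy_iff.mpr ⟨((a ⟨g, hg⟩ : Q) : Ω), (a ⟨g, hg⟩).2, fun x => ?_⟩
    simp only [MulAut.mul_apply]
    rw [← haα]
    have h1 : Subgroup.inclusion L.hPhQ (d (α⁻¹ x)) =
        ⟨g, hg⟩ * Subgroup.inclusion L.hPhQ (α⁻¹ x) * (⟨g, hg⟩ : Q)⁻¹ :=
      Subtype.ext (hgd _)
    rw [h1, map_mul, map_mul, map_inv]
    have h2 : a (Subgroup.inclusion L.hPhQ (α⁻¹ x)) = Subgroup.inclusion L.hPhQ x := by
      apply Subtype.ext
      rw [haα]
      simp
    rw [h2]
    rfl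
  intro α hα
  refine mem_normalizer_of_forall (key α hα) (fun d hd => ?_)
  have := key α⁻¹ (Subgroup.inv_mem _ hα) d hd
  rwa [inv_inv] at this

end LiftCtx

/-- every automorphism of `Ph` in the system is the restriction of an automorphism of `Q` in
the system -/
theorem autGroup_le_resImage [Finite S] {p : ℕ} [Fact p.Prime] {F : FusionSystem S}
    {ℋ : Set (Subgroup Ω)} {P₀ : Subgroup Ω} (C : SatCtx F p ℋ P₀) {Ph Q : Subgroup Ω}
    {B : Subgroup (MulAut Ph)} (hPh : F.IsConj P₀ Ph) (hfn : F.IsFullyNormalized Ph)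
    (L : LiftCtx F Ph Q B) (hBp : IsPGroup p B) :
    F.autGroup Ph ≤ resImage L.hPhQ (F.autGroup Q) := by
  haveI : Finite (MulAut Ph) := finite_mulAut_of_le L.hPhS
  have hDB : autInducedBy Q Ph ≤ B := L.autInducedBy_le
  have hB₁B : conjClosure (F.autGroup Ph) (autInducedBy Q Ph) ≤ B := conjClosure_le hDB L.hBn
  have L₁ : LiftCtx F Ph Q (conjClosure (F.autGroup Ph) (autInducedBy Q Ph)) :=
    { hBA := hB₁B.trans L.hBA
      hBn := le_normalizer_conjClosure _ _
      hQ := by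
        apply le_antisymm
        · intro g hg
          have hgN := L.hQN hg
          refine ⟨L.hQS hg, conjAut Ph g hgN.2, ?_, fun x => rfl⟩
          exact le_conjClosure _ _ (conjAut_mem_autInducedBy hg hgN.2)
        · intro g hg
          have h3 : g ∈ NK S Ph B := NK_mono hB₁B hg
          rw [← L.hQ] at h3
          exact h3
      hPhQ := L.hPhQ }
  have h1 := autGroup_le_sup_resImage C hPh hfn L₁
  have h2 : conjClosure (F.autGroup Ph) (autInducedBy Q Ph) ≤ autInducedBy Q Ph :=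
    le_of_conjClosure_trick (hBp.to_le hB₁B) (le_conjClosure _ _) h1 L.resImage_le_normalizer
      ((resImage_autGroup_le F L.hPhQ L.hQS).trans (le_normalizer_conjClosure _ _)) le_rfl
  exact h1.trans (sup_le (h2.trans L.autInducedBy_le_resImage) le_rfl)

end Cfsg.Agent.Lib.Helper26
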