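import Cfsg.Agent.Lib.Helper26.SatCrit14

set_option autoImplicit false

namespace Cfsg.Agent.Lib.Helper26

open Cfsg Cfsg.FusionSystem

variable {Ω : Type*} [Group Ω] {S : Subgroup Ω}

/-- the restriction to `P` of an automorphism of `R` stabilizing `P` -/
noncomputable def resFun {P R : Subgroup Ω} (hPR : P ≤ R)
    (κ : ↥(resAut hPR (⊤ : Subgroup (MulAut P)))) : MulAut P :=
  Classical.choose κ.2

theorem resFun_apply {P R : Subgroup Ω} (hPR : P ≤ R)
    (κ : ↥(resAut hPR (⊤ : Subgroup (MulAut P)))) (x : P) :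
    ((resFun hPR κ x : P) : Ω) = (((κ : MulAut R) (Subgroup.inclusion hPR x) : R) : Ω) :=
  ((Classical.choose_spec κ.2).2 x).symm

/-- restriction as a homomorphism -/
noncomputable def resHom {P R : Subgroup Ω} (hPR : P ≤ R) :
    ↥(resAut hPR (⊤ : Subgroup (MulAut P))) →* MulAut P :=
  MonoidHom.mk' (resFun hPR) (by
    intro κ κ'
    ext x
    rw [MulAut.mul_apply, resFun_apply, resFun_apply]
    show (((κ : MulAut R) ((κ' : MulAut R) (Subgroup.inclusion hPR x)) : R) : Ω) = _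
    congr 2
    exact Subtype.ext (resFun_apply hPR κ' x).symm)

theorem resHom_apply {P R : Subgroup Ω} (hPR : P ≤ R)
    (κ : ↥(resAut hPR (⊤ : Subgroup (MulAut P)))) (x : P) :
    ((resHom hPR κ x : P) : Ω) = (((κ : MulAut R) (Subgroup.inclusion hPR x) : R) : Ω) :=
  resFun_apply hPR κ x

theorem mem_resAut_top_of_restrict {P R : Subgroup Ω} (hPR : P ≤ R) {a : MulAut R} {α : MulAut P}
    (h : ∀ x : P, ((a (Subgroup.inclusion hPR x) : R) : Ω) = ((α x : P) : Ω)) :
    a ∈ resAut hPR (⊤ : Subgroup (MulAut P)) :=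
  ⟨α, Subgroup.mem_top _, h⟩

theorem resHom_eq_of_restrict {P R : Subgroup Ω} (hPR : P ≤ R) {a : MulAut R} {α : MulAut P}
    (h : ∀ x : P, ((a (Subgroup.inclusion hPR x) : R) : Ω) = ((α x : P) : Ω)) :
    resHom hPR ⟨a, mem_resAut_top_of_restrict hPR h⟩ = α := by
  ext x
  rw [resHom_apply]
  exact h x

theorem IsSylowIn18.subgroupOf {G : Type*} [Group G] {p : ℕ} {R A K : Subgroup G}
    (h : Helper18.IsSylowIn p R A) (hAK : A ≤ K) :
    Helper18.IsSylowIn p (R.subgroupOf K) (A.subgroupOf K) := by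
  apply IsSylowIn18.of_map_injective K.subtype K.subtype_injective
  · intro x hx
    exact h.le hx
  · rw [Subgroup.map_subgroupOf_eq_of_le (h.le.trans hAK), Subgroup.map_subgroupOf_eq_of_le hAK]
    exact h

namespace LiftCtx

variable {F : FusionSystem S} {Ph Q : Subgroup Ω} {B : Subgroup (MulAut Ph)}

theorem NK_resAut_top (L : LiftCtx F Ph Q B) :
    NK S Q (resAut L.hPhQ ⊤) = normalizerIn S Ph := by
  rw [NK_resAut, NK_top]
  apply le_antisymm inf_le_right
  intro n hn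
  exact ⟨⟨hn.1, L.normalizerIn_le_normalizer hn⟩, hn⟩

theorem fullyKNormalized [Finite S] (L : LiftCtx F Ph Q B) (hfn : F.IsFullyNormalized Ph) :
    FullyKNormalized F Q (resAut L.hPhQ ⊤) := by
  refine ⟨L.hQS, fun Q' e he => ?_⟩
  rw [L.NK_resAut_top, Kmap_resAut_eqE, Kmap_top, NK_resAut, NK_top]
  have h1 : F.IsConj Ph (imgE e Ph) := (eqE_isIso F he L.hPhQ).isConj
  refine le_trans ?_ (hfn.2 _ h1)
  haveI : Finite ↥(normalizerIn S (imgE e Ph)) := finite_of_le inf_le_left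
  exact Nat.card_le_card_of_injective (Subgroup.inclusion inf_le_right)
    (Subgroup.inclusion_injective _)

end LiftCtx

/-- the fully normalized member `Ph` is fully automized -/
theorem fullyAutomized_of_liftCtx [Finite S] {p : ℕ} [Fact p.Prime] {F : FusionSystem S}
    {ℋ : Set (Subgroup Ω)} {P₀ : Subgroup Ω} (C : SatCtx F p ℋ P₀) {Ph Q : Subgroup Ω}
    {B : Subgroup (MulAut Ph)} (hPh : F.IsConj P₀ Ph) (hfn : F.IsFullyNormalized Ph)
    (L : LiftCtx F Ph Q B) (hBp : IsPGroup p B) (hne : Ph ≠ Q) : F.IsFullyAutomized p Ph := by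
  haveI : Finite Q := finite_of_le L.hQS
  have hQℋ : Q ∈ ℋ :=
    C.mem_of_card_lt hPh L.hQS (card_lt_card_of_lt (lt_of_le_of_ne L.hPhQ hne))
  obtain ⟨-, hsylQ⟩ := fullyKNormalized_imp_loc C.hS F (C.hsat Q hQℋ) (L.fullyKNormalized hfn)
  have hA := autGroup_le_resImage C hPh hfn L hBp
  have h1 := IsSylowIn18.map (IsSylowIn18.subgroupOf hsylQ inf_le_right) (resHom L.hPhQ)
  have h2 : ((F.autGroup Q ⊓ resAut L.hPhQ ⊤).subgroupOf (resAut L.hPhQ ⊤)).map (resHom L.hPhQ) =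
      F.autGroup Ph := by
    apply le_antisymm
    · rintro _ ⟨κ, hκ, rfl⟩
      have hκ' : (κ : MulAut Q) ∈ F.autGroup Q := (Subgroup.mem_subgroupOf.mp hκ).1
      apply resImage_autGroup_le F L.hPhQ L.hQS
      exact ⟨κ, hκ', fun x => (resHom_apply L.hPhQ κ x).symm⟩
    · intro α hα
      obtain ⟨a, ha, haα⟩ := hA hα
      refine ⟨⟨a, mem_resAut_top_of_restrict L.hPhQ haα⟩, ?_, resHom_eq_of_restrict L.hPhQ haα⟩
      exact Subgroup.mem_subgroupOf.mpr ⟨ha, mem_resAut_top_of_restrict L.hPhQ haα⟩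
  have h3 : ((autInducedBy S Q ⊓ resAut L.hPhQ ⊤).subgroupOf (resAut L.hPhQ ⊤)).map
      (resHom L.hPhQ) = autInducedBy S Ph := by
    apply le_antisymm
    · rintro _ ⟨κ, hκ, rfl⟩
      have hκ' : (κ : MulAut Q) ∈ autInducedBy S Q := (Subgroup.mem_subgroupOf.mp hκ).1
      obtain ⟨g, hg, hgκ⟩ := mem_autInducedBy_iff.mp hκ'
      refine mem_autInducedBy_iff.mpr ⟨g, hg, fun x => ?_⟩
      rw [resHom_apply, hgκ]
      rfl
    · intro α hα
      obtain ⟨g, hg, hgα⟩ := mem_autInducedBy_iff.mp hα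
      have hgN : g ∈ normalizerIn S Ph := ⟨hg, mem_normalizer_of_conj_aut hgα⟩
      have hgQ : g ∈ Subgroup.normalizer (Q : Set Ω) := L.normalizerIn_le_normalizer hgN
      have hres : ∀ x : Ph, ((conjAut Q g hgQ (Subgroup.inclusion L.hPhQ x) : Q) : Ω) =
          ((α x : Ph) : Ω) := by
        intro x
        rw [conjAut_apply, hgα]
        rfl
      refine ⟨⟨conjAut Q g hgQ, mem_resAut_top_of_restrict L.hPhQ hres⟩, ?_,
        resHom_eq_of_restrict L.hPhQ hres⟩
      exact Subgroup.mem_subgroupOf.mpr ⟨conjAut_mem_autInducedBy hg hgQ,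
        mem_resAut_top_of_restrict L.hPhQ hres⟩
  rw [h2, h3] at h1
  exact ⟨L.hPhS, h1.exists_sylow⟩

end Cfsg.Agent.Lib.Helper26
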