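import Cfsg.Agent.Lib.Helper26.SatCrit15
import Cfsg.Agent.Lib.Helper26.KNorm3

set_option autoImplicit false

namespace Cfsg.Agent.Lib.Helper26

open Cfsg Cfsg.FusionSystem

variable {Ω : Type*} [Group Ω] {S : Subgroup Ω}

/-- elements of `resAut hPR ⊥` fix `P` pointwise -/
theorem resAut_bot_apply {P R : Subgroup Ω} {hPR : P ≤ R} {κ : MulAut R}
    (hκ : κ ∈ resAut hPR (⊥ : Subgroup (MulAut P))) (x : P) :
    κ (Subgroup.inclusion hPR x) = Subgroup.inclusion hPR x := by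
  obtain ⟨b, hb, hκb⟩ := hκ
  rw [Subgroup.mem_bot] at hb
  subst hb
  exact Subtype.ext (hκb x)

theorem mem_resAut_bot_of_forall {P R : Subgroup Ω} {hPR : P ≤ R} {κ : MulAut R}
    (h : ∀ x : P, κ (Subgroup.inclusion hPR x) = Subgroup.inclusion hPR x) :
    κ ∈ resAut hPR (⊥ : Subgroup (MulAut P)) :=
  ⟨1, Subgroup.one_mem _, fun x => by rw [h x]; rfl⟩

/-- the pointwise stabilizer of `P` is normalized by the setwise stabilizer -/
theorem resAut_top_le_normalizer_resAut_bot {P R : Subgroup Ω} (hPR : P ≤ R)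
    (𝔄 : Subgroup (MulAut R)) :
    𝔄 ⊓ resAut hPR (⊤ : Subgroup (MulAut P)) ≤
      Subgroup.normalizer ((𝔄 ⊓ resAut hPR (⊥ : Subgroup (MulAut P)) : Subgroup (MulAut R)) :
        Set (MulAut R)) := by
  have key : ∀ κ ∈ 𝔄 ⊓ resAut hPR (⊤ : Subgroup (MulAut P)),
      ∀ k ∈ 𝔄 ⊓ resAut hPR (⊥ : Subgroup (MulAut P)),
      κ * k * κ⁻¹ ∈ 𝔄 ⊓ resAut hPR (⊥ : Subgroup (MulAut P)) := by
    rintro κ ⟨hκ1, hκ2⟩ k ⟨hk1, hk2⟩
    refine ⟨𝔄.mul_mem (𝔄.mul_mem hκ1 hk1) (𝔄.inv_mem hκ1), mem_resAut_bot_of_forall (fun x => ?_)⟩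
    obtain ⟨b, -, hb⟩ := (resAut hPR ⊤).inv_mem hκ2
    have h1 : κ⁻¹ (Subgroup.inclusion hPR x) = Subgroup.inclusion hPR (b x) := Subtype.ext (hb x)
    simp only [MulAut.mul_apply]
    rw [h1, resAut_bot_apply hk2, ← h1]
    simp
  intro κ hκ
  refine mem_normalizer_of_forall (key κ hκ) (fun k hk => ?_)
  have := key κ⁻¹ (Subgroup.inv_mem _ hκ) k hk
  rwa [inv_inv] at this

/-- receptivity of `Ph` for automorphisms -/
theorem exists_extension_aut [Finite S] {p : ℕ} [Fact p.Prime] {F : FusionSystem S}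
    {ℋ : Set (Subgroup Ω)} {P₀ : Subgroup Ω} (C : SatCtx F p ℋ P₀) {Ph Q : Subgroup Ω}
    {B : Subgroup (MulAut Ph)} (hPh : F.IsConj P₀ Ph) (hfn : F.IsFullyNormalized Ph)
    (L : LiftCtx F Ph Q B) (hBp : IsPGroup p B) (hne : Ph ≠ Q)
    {α : MulAut Ph} (hα : α ∈ F.autGroup Ph) (E' : Subgroup Ω) (hE'N : E' ≤ normalizerIn S Ph)
    (hE' : ∀ g' (hg' : g' ∈ E'), α * conjAut Ph g' (hE'N hg').2 * α⁻¹ ∈ autInducedBy S Ph) :
    ∃ (T : Subgroup Ω) (_ : E' ≤ T) (hPhT : Ph ≤ T) (θ' : T →* Ω), θ' ∈ F.Hom T ∧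
      ∀ x : Ph, θ' (Subgroup.inclusion hPhT x) = ((α x : Ph) : Ω) := by
  haveI : Finite Q := finite_of_le L.hQS
  haveI : Finite (MulAut Q) := finite_mulAut_of_le L.hQS
  have hE'S : E' ≤ S := hE'N.trans inf_le_left
  have hQℋ : Q ∈ ℋ :=
    C.mem_of_card_lt hPh L.hQS (card_lt_card_of_lt (lt_of_le_of_ne L.hPhQ hne))
  obtain ⟨-, hsylQ⟩ := fullyKNormalized_imp_loc C.hS F (C.hsat Q hQℋ) (L.fullyKNormalized hfn)
  have hrecQ := receptive_of_fullyKNormalized_loc C.hS F (C.hsat Q hQℋ) (L.fullyKNormalized hfn)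
  obtain ⟨a, ha, haα⟩ := autGroup_le_resImage C hPh hfn L hBp hα
  have haα' : ∀ x : Ph, a (Subgroup.inclusion L.hPhQ x) = Subgroup.inclusion L.hPhQ (α x) :=
    fun x => Subtype.ext (haα x)
  have hainv : ∀ x : Ph, a⁻¹ (Subgroup.inclusion L.hPhQ x) = Subgroup.inclusion L.hPhQ (α⁻¹ x) := by
    intro x
    have h1 := haα' (α⁻¹ x)
    rw [MulAut.apply_inv_self] at h1
    rw [← h1]
    simp
  have hK₀𝔄 : F.autGroup Q ⊓ resAut L.hPhQ (⊥ : Subgroup (MulAut Ph)) ≤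
      F.autGroup Q ⊓ resAut L.hPhQ ⊤ := inf_le_inf_left _ (resAut_mono _ bot_le)
  have hKn := resAut_top_le_normalizer_resAut_bot L.hPhQ (F.autGroup Q)
  have hXp : IsPGroup p ↥(Helper18.conjSub a (autInducedBy E' Q)) :=
    ((isPGroup_autInducedBy C.hS Q).to_le (autInducedBy_mono hE'S Q)).map _
  have hX : Helper18.conjSub a (autInducedBy E' Q) ≤
      (autInducedBy S Q ⊓ resAut L.hPhQ ⊤) ⊔
        (F.autGroup Q ⊓ resAut L.hPhQ (⊥ : Subgroup (MulAut Ph))) := by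
    rintro _ ⟨d, hd, rfl⟩
    obtain ⟨g', hg', hg'd⟩ := mem_autInducedBy_iff.mp hd
    obtain ⟨h, hh, hhα⟩ := mem_autInducedBy_iff.mp (hE' g' hg')
    have hhN : h ∈ normalizerIn S Ph := ⟨hh, mem_normalizer_of_conj_aut hhα⟩
    have hhQ : h ∈ Subgroup.normalizer (Q : Set Ω) := L.normalizerIn_le_normalizer hhN
    have hcQ : conjAut Q h hhQ ∈ autInducedBy S Q ⊓ resAut L.hPhQ ⊤ :=
      ⟨conjAut_mem_autInducedBy hh hhQ,
        mem_resAut_top_of_restrict L.hPhQ (α := α * conjAut Ph g' (hE'N hg').2 * α⁻¹)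
          (fun x => by rw [conjAut_apply, hhα]; rfl)⟩
    have hdF : d ∈ F.autGroup Q :=
      autInducedBy_le_autGroup F L.hQS (autInducedBy_mono hE'S Q hd)
    have hwF : a * d * a⁻¹ ∈ F.autGroup Q :=
      Subgroup.mul_mem _ (Subgroup.mul_mem _ ha hdF) (Subgroup.inv_mem _ ha)
    have hw : ∀ x : Ph, (a * d * a⁻¹) (Subgroup.inclusion L.hPhQ x) =
        conjAut Q h hhQ (Subgroup.inclusion L.hPhQ x) := by
      intro x
      simp only [MulAut.mul_apply]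
      rw [hainv]
      have h1 : d (Subgroup.inclusion L.hPhQ (α⁻¹ x)) =
          Subgroup.inclusion L.hPhQ (conjAut Ph g' (hE'N hg').2 (α⁻¹ x)) := by
        apply Subtype.ext
        rw [hg'd]
        rfl
      rw [h1, haα']
      apply Subtype.ext
      rw [conjAut_apply]
      exact hhα x
    have hk : (conjAut Q h hhQ)⁻¹ * (a * d * a⁻¹) ∈
        F.autGroup Q ⊓ resAut L.hPhQ (⊥ : Subgroup (MulAut Ph)) := by
      refine ⟨Subgroup.mul_mem _ (Subgroup.inv_mem _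
        (autInducedBy_le_autGroup F L.hQS hcQ.1)) hwF, mem_resAut_bot_of_forall (fun x => ?_)⟩
      rw [MulAut.mul_apply, hw]
      simp
    have hdec : (MulAut.conj a).toMonoidHom d =
        conjAut Q h hhQ * ((conjAut Q h hhQ)⁻¹ * (a * d * a⁻¹)) := by
      rw [mul_inv_cancel_left]
      rfl
    rw [hdec]
    exact Subgroup.mul_mem _ (Subgroup.mem_sup_left hcQ) (Subgroup.mem_sup_right hk)
  obtain ⟨χ, hχ, hχX⟩ := exists_conj_le_of_le_sup hsylQ hK₀𝔄 hKn hXp hX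
  have ha' : χ * a ∈ F.autGroup Q := Subgroup.mul_mem _ hχ.1 ha
  have ha'α : ∀ x : Ph, (χ * a) (Subgroup.inclusion L.hPhQ x) =
      Subgroup.inclusion L.hPhQ (α x) := by
    intro x
    rw [MulAut.mul_apply, haα', resAut_bot_apply hχ.2]
  have hθ : Q.subtype.comp (χ * a).toMonoidHom ∈ F.Hom Q := (mem_autGroup_iff F L.hQS).mp ha'
  have hθr : (Q.subtype.comp (χ * a).toMonoidHom).range = Q := range_subtype_comp_equiv _
  obtain ⟨θ', hθ', hθ'e⟩ := hrecQ.2 Q _ hθ hθr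
  have hE'T : E' ≤ extender S Q (Q.subtype.comp (χ * a).toMonoidHom) := by
    intro g' hg'
    have hg'NQ : g' ∈ Subgroup.normalizer (Q : Set Ω) :=
      L.normalizerIn_le_normalizer (hE'N hg')
    have hd : conjAut Q g' hg'NQ ∈ autInducedBy E' Q := conjAut_mem_autInducedBy hg' hg'NQ
    have h1 : (MulAut.conj χ).toMonoidHom ((MulAut.conj a).toMonoidHom (conjAut Q g' hg'NQ)) ∈
        autInducedBy S Q ⊓ resAut L.hPhQ ⊤ := hχX ⟨_, ⟨_, hd, rfl⟩, rfl⟩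
    obtain ⟨h', hh', hh'e⟩ := mem_autInducedBy_iff.mp h1.1
    refine mem_extender_iff.mpr ⟨hE'S hg', hg'NQ, h', hh', fun z => ?_⟩
    have h2 := hh'e ((χ * a) z)
    have h3 : ((MulAut.conj χ).toMonoidHom ((MulAut.conj a).toMonoidHom (conjAut Q g' hg'NQ)))
        ((χ * a) z) = (χ * a) (conjAut Q g' hg'NQ z) := by
      simp [MulAut.conj_apply, MulAut.mul_apply]
    rw [h3] at h2
    exact h2
  have hPhT : Ph ≤ extender S Q (Q.subtype.comp (χ * a).toMonoidHom) :=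
    L.hPhQ.trans (le_extender F hθ)
  refine ⟨_, hE'T, hPhT, θ', hθ', fun x => ?_⟩
  have h4 := hθ'e x (L.hPhQ x.2) (hPhT x.2)
  have h5 : (⟨(x : Ω), hPhT x.2⟩ : ↥(extender S Q (Q.subtype.comp (χ * a).toMonoidHom))) =
      Subgroup.inclusion hPhT x := rfl
  rw [h5] at h4
  rw [h4]
  show (((χ * a) (Subgroup.inclusion L.hPhQ x) : Q) : Ω) = _
  rw [ha'α]
  rfl

end Cfsg.Agent.Lib.Helper26
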