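import Cfsg.Agent.Lib.Helper26.SatCrit16

set_option autoImplicit false

namespace Cfsg.Agent.Lib.Helper26

open Cfsg Cfsg.FusionSystem

variable {Ω : Type*} [Group Ω] {S : Subgroup Ω}

/-- the fully normalized member `Ph` is receptive -/
theorem receptive_of_liftCtx [Finite S] {p : ℕ} [Fact p.Prime] {F : FusionSystem S}
    {ℋ : Set (Subgroup Ω)} {P₀ : Subgroup Ω} (C : SatCtx F p ℋ P₀) {Ph Q : Subgroup Ω}
    {B : Subgroup (MulAut Ph)} (hPh : F.IsConj P₀ Ph) (hfn : F.IsFullyNormalized Ph)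
    (L : LiftCtx F Ph Q B) (hBp : IsPGroup p B) (hne : Ph ≠ Q) : F.IsReceptive Ph := by
  have hPhS : Ph ≤ S := L.hPhS
  refine ⟨hPhS, fun P' φ hφ hφr => ?_⟩
  have hP'Ph : F.IsConj P' Ph := ⟨φ, hφ, hφr⟩
  have h' : F.IsConj P₀ P' := isConj_trans F hPh (isConj_symm F hP'Ph)
  have hP'S : P' ≤ S := source_le F hφ
  obtain ⟨N⟩ := nonempty_normalizerHom_of_fullyNormalized C hPh hfn h'
  obtain ⟨eφ, heφ, heφx⟩ := exists_iso_of_hom F hφ hφr
  obtain ⟨α, hαdef⟩ : ∃ α : MulAut Ph, α = (N.equiv hP'S).symm.trans eφ := ⟨_, rfl⟩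
  have hαN : ∀ x : P', α (N.equiv hP'S x) = eφ x := by
    intro x
    rw [hαdef]
    simp
  have hα : α ∈ F.autGroup Ph := by
    rw [← isIso_iff_mem_autGroup F hPhS, hαdef]
    exact (N.equiv_isIso hP'S).symm.trans heφ
  have hEN : extender S P' φ ≤ normalizerIn S P' := extender_le_normalizerIn S P' φ
  have hE'N : ((extender S P' φ).subgroupOf (normalizerIn S P')).map N.φ ≤ normalizerIn S Ph := by
    rintro _ ⟨g, -, rfl⟩
    exact N.maps g
  have hE' : ∀ g' (hg' : g' ∈ ((extender S P' φ).subgroupOf (normalizerIn S P')).map N.φ),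
      α * conjAut Ph g' (hE'N hg').2 * α⁻¹ ∈ autInducedBy S Ph := by
    intro g' hg'
    obtain ⟨g, hg, hgg'⟩ := hg'
    have hgE : (g : Ω) ∈ extender S P' φ := Subgroup.mem_subgroupOf.mp hg
    obtain ⟨hgS, hgN, h, hh, hx⟩ := mem_extender_iff.mp hgE
    refine mem_autInducedBy_iff.mpr ⟨h, hh, fun y => ?_⟩
    obtain ⟨x, rfl⟩ := eφ.surjective y
    have h1 : α⁻¹ (eφ x) = N.equiv hP'S x := by
      rw [← hαN x]
      simp
    simp only [MulAut.mul_apply]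
    rw [h1]
    have h2 : conjAut Ph g' (hE'N ⟨g, hg, hgg'⟩).2 (N.equiv hP'S x) =
        N.equiv hP'S ⟨(g : Ω) * x * (g : Ω)⁻¹, conj_mem_of_mem_normalizer hgN x⟩ := by
      apply Subtype.ext
      rw [conjAut_apply, N.equiv_apply, N.equiv_apply, ← hgg', ← map_inv, ← map_mul, ← map_mul]
      rfl
    rw [h2, hαN, heφx, heφx]
    exact hx x
  obtain ⟨T, hE'T, hPhT, θ', hθ', hθ'α⟩ :=
    exists_extension_aut C hPh hfn L hBp hne hα _ hE'N hE'
  have hνmem : N.φ.comp (Subgroup.inclusion hEN) ∈ F.Hom (extender S P' φ) :=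
    restrict_mem F N.mem hEN
  have hν : ∀ t : ↥(extender S P' φ), (N.φ.comp (Subgroup.inclusion hEN)) t ∈ T :=
    fun t => hE'T ⟨Subgroup.inclusion hEN t, Subgroup.mem_subgroupOf.mpr t.2, rfl⟩
  refine ⟨θ'.comp ((N.φ.comp (Subgroup.inclusion hEN)).codRestrict T hν),
    F.comp_mem hνmem hθ' hν, fun x hP hN => ?_⟩
  show θ' ⟨N.φ (Subgroup.inclusion hEN ⟨x, hN⟩), _⟩ = φ ⟨x, hP⟩
  have h3 : (⟨N.φ (Subgroup.inclusion hEN ⟨x, hN⟩), hν ⟨x, hN⟩⟩ : T) =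
      Subgroup.inclusion hPhT (N.equiv hP'S ⟨x, hP⟩) := by
    apply Subtype.ext
    exact (N.equiv_apply hP'S ⟨x, hP⟩).symm
  rw [h3, hθ'α, hαN, heφx]

end Cfsg.Agent.Lib.Helper26
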