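import Cfsg.Agent.Lib.Helper26.SatCrit17
import Cfsg.Agent.Lib.Helper26.FusionAlperin2

set_option autoImplicit false

namespace Cfsg.Agent.Lib.Helper26

open Cfsg Cfsg.FusionSystem

variable {Ω : Type*} [Group Ω] {S : Subgroup Ω}

theorem hasFar_of_lift [Finite S] {p : ℕ} [Fact p.Prime] {F : FusionSystem S}
    {ℋ : Set (Subgroup Ω)} {P₀ : Subgroup Ω} (C : SatCtx F p ℋ P₀) {Ph : Subgroup Ω}
    (hPh : F.IsConj P₀ Ph) (hfn : F.IsFullyNormalized Ph) (B : Subgroup (MulAut Ph))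
    (hBA : B ≤ F.autGroup Ph)
    (hBn : F.autGroup Ph ≤ Subgroup.normalizer (B : Set (MulAut Ph))) (hBp : IsPGroup p B)
    (hPhQ : Ph ≤ NK S Ph B) (hex : ∃ h ∈ NK S Ph B, h ∉ Ph) :
    F.IsFullyAutomized p Ph ∧ F.IsReceptive Ph := by
  have L : LiftCtx F Ph (NK S Ph B) B := ⟨hBA, hBn, rfl, hPhQ⟩
  have hne : Ph ≠ NK S Ph B := by
    obtain ⟨h, hh, hhP⟩ := hex
    intro heq
    apply hhP
    rw [heq]
    exact hh
  exact ⟨fullyAutomized_of_liftCtx C hPh hfn L hBp hne, receptive_of_liftCtx C hPh hfn L hBp hne⟩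

theorem inn_le_autGroup (F : FusionSystem S) {P : Subgroup Ω} (hP : P ≤ S) :
    Inn P ≤ F.autGroup P := by
  rintro _ ⟨g, rfl⟩
  apply autInducedBy_le_autGroup F hP
  exact mem_autInducedBy_iff.mpr ⟨g, hP g.2, fun x => rfl⟩

theorem isPGroup_inn [Finite S] {p : ℕ} (hS : IsPGroup p S) {P : Subgroup Ω} (hP : P ≤ S) :
    IsPGroup p (Inn P) := by
  have hPp : IsPGroup p P := hS.to_le hP
  exact hPp.of_surjective (MulAut.conj : P →* MulAut P).rangeRestrict
    (MonoidHom.rangeRestrict_surjective _)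

theorem le_NK_of_inn_le {P : Subgroup Ω} (hP : P ≤ S) {B : Subgroup (MulAut P)}
    (hB : Inn P ≤ B) : P ≤ NK S P B := by
  intro g hg
  exact ⟨hP hg, MulAut.conj (⟨g, hg⟩ : P), hB ⟨_, rfl⟩, fun x => rfl⟩

/-- transport of `O_p(Aut_F(-))` along an isomorphism of the system -/
theorem congr_mem_pCore_map [Finite S] {p : ℕ} [Fact p.Prime] (F : FusionSystem S)
    {Q' Ph : Subgroup Ω} {e : Q' ≃* Ph} (he : IsIso F e) {x : MulAut Q'}
    (hx : x ∈ (pCore p ↥(F.autGroup Q')).map (F.autGroup Q').subtype) :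
    MulAut.congr e x ∈ (pCore p ↥(F.autGroup Ph)).map (F.autGroup Ph).subtype := by
  have hN₁A : Kmap e ((pCore p ↥(F.autGroup Q')).map (F.autGroup Q').subtype) ≤
      F.autGroup Ph := by
    rintro _ ⟨x₀, ⟨x', -, rfl⟩, rfl⟩
    exact congr_mem_autGroup he x'.2
  have hnorm : ((Kmap e ((pCore p ↥(F.autGroup Q')).map (F.autGroup Q').subtype)).subgroupOf
      (F.autGroup Ph)).Normal := by
    constructor
    intro n hn a
    rw [Subgroup.mem_subgroupOf] at hn ⊢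
    obtain ⟨x₀, ⟨x', hx', rfl⟩, hx₀⟩ := hn
    have ha' : MulAut.congr e.symm (a : MulAut Ph) ∈ F.autGroup Q' :=
      congr_mem_autGroup he.symm a.2
    haveI := Helper1.pCore_normal (G := ↥(F.autGroup Q')) p
    have hy' : (⟨_, ha'⟩ : ↥(F.autGroup Q')) * x' * (⟨_, ha'⟩ : ↥(F.autGroup Q'))⁻¹ ∈
        pCore p ↥(F.autGroup Q') := Subgroup.Normal.conj_mem inferInstance x' hx' _
    refine ⟨_, ⟨_, hy', rfl⟩, ?_⟩
    have h1 : MulAut.congr e (MulAut.congr e.symm (a : MulAut Ph)) = (a : MulAut Ph) := by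
      ext y
      simp [congr_apply]
    have h2 : (F.autGroup Q').subtype x' = (x' : MulAut Q') := rfl
    rw [h2] at hx₀
    show (MulAut.congr e) (MulAut.congr e.symm (a : MulAut Ph) * (x' : MulAut Q') *
      (MulAut.congr e.symm (a : MulAut Ph))⁻¹) = _
    have hx₀' : (MulAut.congr e) (x' : MulAut Q') = (n : MulAut Ph) := hx₀
    rw [map_mul, map_mul, map_inv, h1, hx₀']
    rfl
  have hp : IsPGroup p ↥((Kmap e ((pCore p ↥(F.autGroup Q')).map
      (F.autGroup Q').subtype)).subgroupOf (F.autGroup Ph)) :=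
    (((Helper1.pCore_isPGroup p).map _).map _).comap_subtype
  have hle := Helper1.le_pCore hnorm hp
  obtain ⟨x', hx', rfl⟩ := hx
  have hmem : MulAut.congr e ((F.autGroup Q').subtype x') ∈ F.autGroup Ph :=
    congr_mem_autGroup he x'.2
  refine ⟨⟨_, hmem⟩, hle ?_, rfl⟩
  rw [Subgroup.mem_subgroupOf]
  exact ⟨_, ⟨x', hx', rfl⟩, rfl⟩

end Cfsg.Agent.Lib.Helper26
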