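import Cfsg.Agent.Lib.Helper26.SatCrit18

set_option autoImplicit false

namespace Cfsg.Agent.Lib.Helper26

open Cfsg Cfsg.FusionSystem

variable {Ω : Type*} [Group Ω] {S : Subgroup Ω}

theorem pCore_map_le_normalizer {G : Type*} [Group G] (p : ℕ) (A : Subgroup G) :
    A ≤ Subgroup.normalizer (((pCore p ↥A).map A.subtype : Subgroup G) : Set G) := by
  haveI := Helper1.pCore_normal (G := ↥A) p
  have key : ∀ a ∈ A, ∀ b ∈ (pCore p ↥A).map A.subtype, a * b * a⁻¹ ∈ (pCore p ↥A).map A.subtype := by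
    rintro a ha _ ⟨b', hb', rfl⟩
    exact ⟨(⟨a, ha⟩ : A) * b' * (⟨a, ha⟩ : A)⁻¹, Subgroup.Normal.conj_mem inferInstance b' hb' _, rfl⟩
  intro a ha
  refine mem_normalizer_of_forall (key a ha) (fun b hb => ?_)
  have := key a⁻¹ (A.inv_mem ha) b hb
  rwa [inv_inv] at this

theorem hasFar_of_satCtx [Finite S] {p : ℕ} [Fact p.Prime] {F : FusionSystem S}
    {ℋ : Set (Subgroup Ω)} {P₀ : Subgroup Ω} (C : SatCtx F p ℋ P₀)
    (hstar : F.IsCentric P₀ → ∃ Q', F.IsConj P₀ Q' ∧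
      ¬ (autInducedBy S Q' ⊓ (pCore p ↥(F.autGroup Q')).map (F.autGroup Q').subtype ≤ Inn Q')) :
    HasFar F p P₀ := by
  obtain ⟨Ph, hPh, hfn⟩ := exists_fullyNormalized_conj F C.hP₀
  have hPhS : Ph ≤ S := hfn.1
  by_cases hc : F.IsCentric P₀
  · obtain ⟨Q', hQ'conj, hQ'⟩ := hstar hc
    have hQ'S : Q' ≤ S := isConj_le_right F hQ'conj
    obtain ⟨N⟩ := nonempty_normalizerHom_of_fullyNormalized C hPh hfn hQ'conj
    obtain ⟨x, ⟨hx1, hx2⟩, hx3⟩ := SetLike.not_le_iff_exists.mp hQ'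
    obtain ⟨g, hg, hgx⟩ := mem_autInducedBy_iff.mp hx1
    have hgN : g ∈ normalizerIn S Q' := ⟨hg, mem_normalizer_of_conj_aut hgx⟩
    have he := N.equiv_isIso hQ'S
    have key : ∀ y : Ph, ((MulAut.congr (N.equiv hQ'S) x y : Ph) : Ω) =
        N.φ ⟨g, hgN⟩ * y * (N.φ ⟨g, hgN⟩)⁻¹ := by
      intro y
      obtain ⟨z, rfl⟩ := (N.equiv hQ'S).surjective y
      have h1 : MulAut.congr (N.equiv hQ'S) x (N.equiv hQ'S z) = N.equiv hQ'S (x z) := by
        simp [congr_apply]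
      rw [h1, N.equiv_apply, N.equiv_apply, ← map_inv, ← map_mul, ← map_mul]
      congr 1
      exact Subtype.ext (hgx z)
    have hInnB : Inn Ph ≤ (pCore p ↥(F.autGroup Ph)).map (F.autGroup Ph).subtype := by
      have h1 := Helper1.le_pCore (inn_subgroupOf_normal Ph (F.autGroup Ph))
        (isPGroup_inn C.hS hPhS).comap_subtype
      intro b hb
      exact ⟨⟨b, inn_le_autGroup F hPhS hb⟩, h1 (Subgroup.mem_subgroupOf.mpr hb), rfl⟩
    have hfar := hasFar_of_lift C hPh hfn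
      ((pCore p ↥(F.autGroup Ph)).map (F.autGroup Ph).subtype)
      (Subgroup.map_subtype_le _) (pCore_map_le_normalizer p _)
      ((Helper1.pCore_isPGroup p).map _) (le_NK_of_inn_le hPhS hInnB)
      ⟨N.φ ⟨g, hgN⟩, ⟨(N.maps _).1, _, congr_mem_pCore_map F he hx2, key⟩, fun hh => hx3 ?_⟩
    · exact ⟨Ph, hPh, hfar.1, hfar.2⟩
    · refine ⟨(N.equiv hQ'S).symm ⟨_, hh⟩, ?_⟩
      ext z
      have h2 := key (N.equiv hQ'S z)
      have h3 : MulAut.congr (N.equiv hQ'S) x (N.equiv hQ'S z) = N.equiv hQ'S (x z) := by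
        simp [congr_apply]
      rw [h3] at h2
      have h4 : N.equiv hQ'S (x z) = (⟨_, hh⟩ : Ph) * N.equiv hQ'S z * (⟨_, hh⟩ : Ph)⁻¹ :=
        Subtype.ext h2
      have h5 : x z = (N.equiv hQ'S).symm ((⟨_, hh⟩ : Ph) * N.equiv hQ'S z * (⟨_, hh⟩ : Ph)⁻¹) := by
        rw [← h4]
        simp
      rw [h5, MulAut.conj_apply, map_mul, map_mul, map_inv]
      simp
  · have hex : ∃ Q', F.IsConj P₀ Q' ∧ ¬ centralizerIn S Q' ≤ Q' := by
      by_contra hcon
      apply hc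
      refine ⟨C.hP₀, fun Q' hQ' => ?_⟩
      by_contra h
      exact hcon ⟨Q', hQ', h⟩
    obtain ⟨Q', hQ'conj, hQ'⟩ := hex
    have hQ'S : Q' ≤ S := isConj_le_right F hQ'conj
    obtain ⟨N⟩ := nonempty_normalizerHom_of_fullyNormalized C hPh hfn hQ'conj
    obtain ⟨c, hc1, hc2⟩ := SetLike.not_le_iff_exists.mp hQ'
    have hcN : c ∈ normalizerIn S Q' := centralizerIn_le_normalizerIn S Q' hc1
    have hfar := hasFar_of_lift C hPh hfn (Inn Ph) (inn_le_autGroup F hPhS)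
      (by
        haveI := inn_normal Ph
        rw [Subgroup.normalizer_eq_top]
        exact le_top)
      (isPGroup_inn C.hS hPhS) (le_NK_of_inn_le hPhS le_rfl)
      ⟨N.φ ⟨c, hcN⟩, centralizerIn_le_NK Ph _ (N.maps_centralizer hQ'S ⟨c, hcN⟩ hc1), fun hh => hc2 ?_⟩
    · exact ⟨Ph, hPh, hfar.1, hfar.2⟩
    · obtain ⟨z, hz⟩ := N.exists_preimage hQ'S hh
      have h1 := N.injective hz
      have h2 : (z : Ω) = c := congrArg Subtype.val h1
      rw [← h2]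
      exact z.2

end Cfsg.Agent.Lib.Helper26
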