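import Cfsg.Agent.Lib.Helper26.FusionSat2

set_option autoImplicit false

namespace Cfsg.Agent.Lib.Helper26

open Cfsg Cfsg.FusionSystem

variable {Ω : Type*} [Group Ω] {S : Subgroup Ω}

/-- an isomorphism which is the restriction of a map of the system is an isomorphism of the
system -/
theorem isIso_of_restrict (F : FusionSystem S) {P P₁ P₂ : Subgroup Ω} {φ : P →* Ω}
    (hφ : φ ∈ F.Hom P) (hP₁ : P₁ ≤ P) (e : P₁ ≃* P₂)
    (he : ∀ x : P₁, ((e x : P₂) : Ω) = φ (Subgroup.inclusion hP₁ x)) : IsIso F e :=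
  mem_of_forall_eq F (restrict_mem F hφ hP₁) (fun x => he x)

/-- restriction of a map of the system to a subgroup of the source, as an isomorphism onto the
image -/
theorem exists_iso_restrict (F : FusionSystem S) {P P₁ : Subgroup Ω} {φ : P →* Ω}
    (hφ : φ ∈ F.Hom P) (hP₁ : P₁ ≤ P) :
    ∃ (P₂ : Subgroup Ω) (e : P₁ ≃* P₂), IsIso F e ∧
      ∀ x : P₁, ((e x : P₂) : Ω) = φ (Subgroup.inclusion hP₁ x) := by
  obtain ⟨e, he, hex⟩ := exists_iso_of_hom F (restrict_mem F hφ hP₁) rfl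
  exact ⟨_, e, he, hex⟩

/-- Induction principle for `ℋ`-generated fusion systems: a property of isomorphisms of the
system that holds for conjugations by elements of `S` and restrictions of maps with source in
`ℋ`, and is closed under composition and inverses, holds for all isomorphisms of the system. -/
theorem hgen_iso_induction (F : FusionSystem S) (ℋ : Set (Subgroup Ω))
    (hgen : ∀ E : FusionSystem S, (∀ P ∈ ℋ, F.Hom P ⊆ E.Hom P) → F ≤ E)
    (Pi : ∀ (P₁ P₂ : Subgroup Ω), (P₁ ≃* P₂) → Prop)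
    (h1 : ∀ (P₁ P₂ : Subgroup Ω) (e : P₁ ≃* P₂) (g : Ω), P₁ ≤ S → g ∈ S →
      (∀ x : P₁, ((e x : P₂) : Ω) = g * x * g⁻¹) → Pi P₁ P₂ e)
    (h2 : ∀ (P₁ P₂ P₃ : Subgroup Ω) (e₁ : P₁ ≃* P₂) (e₂ : P₂ ≃* P₃), IsIso F e₁ → IsIso F e₂ →
      Pi P₁ P₂ e₁ → Pi P₂ P₃ e₂ → Pi P₁ P₃ (e₁.trans e₂))
    (h3 : ∀ (P₁ P₂ : Subgroup Ω) (e : P₁ ≃* P₂), IsIso F e → Pi P₁ P₂ e → Pi P₂ P₁ e.symm)
    (h4 : ∀ R ∈ ℋ, ∀ φ ∈ F.Hom R, ∀ (P₁ P₂ : Subgroup Ω) (hP₁ : P₁ ≤ R) (e : P₁ ≃* P₂),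
      (∀ x : P₁, ((e x : P₂) : Ω) = φ (Subgroup.inclusion hP₁ x)) → Pi P₁ P₂ e) :
    ∀ (P₁ P₂ : Subgroup Ω) (e : P₁ ≃* P₂), IsIso F e → Pi P₁ P₂ e := by
  let E : FusionSystem S :=
    { Hom := fun P => {φ | φ ∈ F.Hom P ∧ ∀ (P₁ P₂ : Subgroup Ω) (hP₁ : P₁ ≤ P) (e : P₁ ≃* P₂),
        (∀ x : P₁, ((e x : P₂) : Ω) = φ (Subgroup.inclusion hP₁ x)) → Pi P₁ P₂ e}
      le_of_mem := fun h => F.le_of_mem h.1
      injective_of_mem := fun h => F.injective_of_mem h.1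
      conj_mem := by
        intro P g hP hg
        refine ⟨F.conj_mem hP hg, fun P₁ P₂ hP₁ e he => ?_⟩
        exact h1 P₁ P₂ e g (hP₁.trans hP) hg (fun x => by rw [he]; rfl)
      comp_mem := by
        rintro P Q φ ψ ⟨hφ, hφP⟩ ⟨hψ, hψP⟩ h
        refine ⟨F.comp_mem hφ hψ h, fun P₁ P₃ hP₁ e he => ?_⟩
        obtain ⟨P₂, e₁, he₁iso, he₁⟩ := exists_iso_restrict F hφ hP₁
        have hP₂Q : P₂ ≤ Q := by
          intro y hy
          have h1 := he₁ (e₁.symm ⟨y, hy⟩)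
          rw [MulEquiv.apply_symm_apply] at h1
          have h2 : y = φ (Subgroup.inclusion hP₁ (e₁.symm ⟨y, hy⟩)) := h1
          rw [h2]
          exact h _
        have he₂ : ∀ y : P₂, (((e₁.symm.trans e) y : P₃) : Ω) = ψ (Subgroup.inclusion hP₂Q y) := by
          intro y
          obtain ⟨x, rfl⟩ := e₁.surjective y
          have h3 : (e₁.symm.trans e) (e₁ x) = e x := by simp
          rw [h3, he x]
          show ψ ⟨φ (Subgroup.inclusion hP₁ x), _⟩ = ψ (Subgroup.inclusion hP₂Q (e₁ x))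
          congr 1
          exact Subtype.ext (he₁ x).symm
        have hiso₂ : IsIso F (e₁.symm.trans e) := isIso_of_restrict F hψ hP₂Q _ he₂
        have h5 := h2 P₁ P₂ P₃ e₁ (e₁.symm.trans e) he₁iso hiso₂ (hφP P₁ P₂ hP₁ e₁ he₁)
          (hψP P₂ P₃ hP₂Q _ he₂)
        have h6 : e₁.trans (e₁.symm.trans e) = e := by
          ext x
          simp
        rw [h6] at h5
        exact h5
      inv_mem := by
        rintro P φ ⟨hφ, hφP⟩
        obtain ⟨ψ, hψ, hinv⟩ := F.inv_mem hφ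
        refine ⟨ψ, ⟨hψ, fun P₁' P₂' hP₁' e' he' => ?_⟩, hinv⟩
        have hkey : ∀ z : P₂', ∃ x : P, (x : Ω) = (z : Ω) ∧
            φ x = ((e'.symm z : P₁') : Ω) := by
          intro z
          obtain ⟨y, rfl⟩ := e'.surjective z
          obtain ⟨x, hx⟩ := (Subgroup.inclusion hP₁' y).2
          refine ⟨x, ?_, ?_⟩
          · rw [he' y]
            have h7 : Subgroup.inclusion hP₁' y = ⟨φ x, ⟨x, rfl⟩⟩ := Subtype.ext hx.symm
            rw [h7, hinv x]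
          · rw [MulEquiv.symm_apply_apply, hx]
            rfl
        have hP₂'P : P₂' ≤ P := by
          intro z hz
          obtain ⟨x, hx, -⟩ := hkey ⟨z, hz⟩
          have hx' : (x : Ω) = z := hx
          rw [← hx']
          exact x.2
        have he'' : ∀ z : P₂', ((e'.symm z : P₁') : Ω) = φ (Subgroup.inclusion hP₂'P z) := by
          intro z
          obtain ⟨x, hx, hφx⟩ := hkey z
          rw [← hφx]
          congr 1
          exact Subtype.ext hx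
        have hiso : IsIso F e'.symm := isIso_of_restrict F hφ hP₂'P _ he''
        have h8 := h3 P₂' P₁' e'.symm hiso (hφP P₂' P₁' hP₂'P e'.symm he'')
        rwa [MulEquiv.symm_symm] at h8 }
  have hFE : F ≤ E := hgen E (fun P hP φ hφ =>
    ⟨hφ, fun P₁ P₂ hP₁ e he => h4 P hP φ hφ P₁ P₂ hP₁ e he⟩)
  intro P₁ P₂ e he
  have h9 := hFE P₁ he
  exact h9.2 P₁ P₂ le_rfl e (fun x => rfl)

end Cfsg.Agent.Lib.Helper26
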