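import Cfsg.Agent.Lib.Helper26.SatCrit1
import Cfsg.Agent.Lib.Helper26.SatCrit2

set_option autoImplicit false

namespace Cfsg.Agent.Lib.Helper26

open Cfsg Cfsg.FusionSystem

variable {Ω : Type*} [Group Ω] {S : Subgroup Ω}

/-- the automorphisms of `R` restricting on `P ≤ R` to an element of `B ≤ Aut(P)` -/
def resAut {P R : Subgroup Ω} (hPR : P ≤ R) (B : Subgroup (MulAut P)) : Subgroup (MulAut R) where
  carrier := {κ | ∃ b ∈ B, ∀ x : P, ((κ (Subgroup.inclusion hPR x) : R) : Ω) = ((b x : P) : Ω)}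
  one_mem' := ⟨1, B.one_mem, fun x => rfl⟩
  mul_mem' := by
    rintro κ κ' ⟨b, hb, hκ⟩ ⟨b', hb', hκ'⟩
    refine ⟨b * b', B.mul_mem hb hb', fun x => ?_⟩
    rw [MulAut.mul_apply, MulAut.mul_apply]
    have h1 : κ' (Subgroup.inclusion hPR x) = Subgroup.inclusion hPR (b' x) := Subtype.ext (hκ' x)
    rw [h1, hκ]
  inv_mem' := by
    rintro κ ⟨b, hb, hκ⟩
    refine ⟨b⁻¹, B.inv_mem hb, fun x => ?_⟩
    have h1 : κ (Subgroup.inclusion hPR (b⁻¹ x)) = Subgroup.inclusion hPR x := by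
      apply Subtype.ext
      rw [hκ]
      simp
    have h2 : κ⁻¹ (Subgroup.inclusion hPR x) = Subgroup.inclusion hPR (b⁻¹ x) := by
      rw [← h1]
      simp
    rw [h2]
    rfl

theorem mem_resAut_iff {P R : Subgroup Ω} {hPR : P ≤ R} {B : Subgroup (MulAut P)}
    {κ : MulAut R} : κ ∈ resAut hPR B ↔
      ∃ b ∈ B, ∀ x : P, ((κ (Subgroup.inclusion hPR x) : R) : Ω) = ((b x : P) : Ω) := Iff.rfl

theorem resAut_mono {P R : Subgroup Ω} (hPR : P ≤ R) {B B' : Subgroup (MulAut P)} (h : B ≤ B') :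
    resAut hPR B ≤ resAut hPR B' := by
  rintro κ ⟨b, hb, hκ⟩
  exact ⟨b, h hb, hκ⟩

/-- elements of `resAut` stabilize `P` -/
theorem resAut_apply_mem {P R : Subgroup Ω} {hPR : P ≤ R} {B : Subgroup (MulAut P)}
    {κ : MulAut R} (hκ : κ ∈ resAut hPR B) (x : P) :
    ((κ (Subgroup.inclusion hPR x) : R) : Ω) ∈ P := by
  obtain ⟨b, -, hb⟩ := hκ
  rw [hb]
  exact (b x).2

theorem NK_resAut {P R : Subgroup Ω} (hPR : P ≤ R) (B : Subgroup (MulAut P)) :
    NK S R (resAut hPR B) = normalizerIn S R ⊓ NK S P B := by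
  ext g
  constructor
  · rintro ⟨hg, κ, ⟨b, hb, hκb⟩, hκ⟩
    refine ⟨⟨hg, mem_normalizer_of_conj_aut hκ⟩, hg, b, hb, fun x => ?_⟩
    rw [← hκb x, hκ]
    rfl
  · rintro ⟨⟨hg, hgN⟩, -, b, hb, hbe⟩
    refine ⟨hg, conjAut R g hgN, ⟨b, hb, fun x => ?_⟩, fun x => rfl⟩
    rw [conjAut_apply, hbe]
    rfl

/-- the image `e(P ∩ R)` of a subgroup under an isomorphism `e : R ≃ R'` -/
def imgE {R R' : Subgroup Ω} (e : R ≃* R') (P : Subgroup Ω) : Subgroup Ω :=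
  (P.subgroupOf R).map (R'.subtype.comp e.toMonoidHom)

theorem mem_imgE {R R' : Subgroup Ω} {e : R ≃* R'} {P : Subgroup Ω} {y : Ω} :
    y ∈ imgE e P ↔ ∃ x : R, (x : Ω) ∈ P ∧ ((e x : R') : Ω) = y := by
  constructor
  · rintro ⟨x, hx, rfl⟩
    exact ⟨x, Subgroup.mem_subgroupOf.mp hx, rfl⟩
  · rintro ⟨x, hx, rfl⟩
    exact ⟨x, Subgroup.mem_subgroupOf.mpr hx, rfl⟩

theorem apply_mem_imgE {R R' : Subgroup Ω} (e : R ≃* R') {P : Subgroup Ω} (hPR : P ≤ R) (x : P) :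
    ((e (Subgroup.inclusion hPR x) : R') : Ω) ∈ imgE e P :=
  mem_imgE.mpr ⟨Subgroup.inclusion hPR x, x.2, rfl⟩

theorem imgE_le {R R' : Subgroup Ω} (e : R ≃* R') (P : Subgroup Ω) : imgE e P ≤ R' := by
  intro y hy
  obtain ⟨x, -, rfl⟩ := mem_imgE.mp hy
  exact (e x).2

/-- the isomorphism `P ≃ e(P)` for `P ≤ R` -/
noncomputable def eqE {R R' : Subgroup Ω} (e : R ≃* R') {P : Subgroup Ω} (hPR : P ≤ R) :
    P ≃* imgE e P :=
  (Subgroup.subgroupOfEquivOfLe hPR).symm.trans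
    ((P.subgroupOf R).equivMapOfInjective (R'.subtype.comp e.toMonoidHom)
      (fun a b hab => e.injective (Subtype.ext hab)))

theorem eqE_apply {R R' : Subgroup Ω} (e : R ≃* R') {P : Subgroup Ω} (hPR : P ≤ R) (x : P) :
    ((eqE e hPR x : imgE e P) : Ω) = ((e (Subgroup.inclusion hPR x) : R') : Ω) := rfl

theorem eqE_isIso (F : FusionSystem S) {R R' : Subgroup Ω} {e : R ≃* R'} (he : IsIso F e)
    {P : Subgroup Ω} (hPR : P ≤ R) : IsIso F (eqE e hPR) :=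
  isIso_of_restrict F he hPR _ (fun x => rfl)

theorem eqE_comp {R R' : Subgroup Ω} (e : R ≃* R') {P : Subgroup Ω} (hPR : P ≤ R) (x : P) :
    e (Subgroup.inclusion hPR x) = Subgroup.inclusion (imgE_le e P) (eqE e hPR x) :=
  Subtype.ext rfl

/-- transport of `resAut` along compatible isomorphisms -/
theorem Kmap_resAut_le {P R P' R' : Subgroup Ω} (hPR : P ≤ R) (hPR' : P' ≤ R') (e : R ≃* R')
    (eP : P ≃* P')
    (hc : ∀ x : P, e (Subgroup.inclusion hPR x) = Subgroup.inclusion hPR' (eP x))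
    (B : Subgroup (MulAut P)) : Kmap e (resAut hPR B) ≤ resAut hPR' (Kmap eP B) := by
  rintro _ ⟨κ, ⟨b, hb, hκ⟩, rfl⟩
  refine ⟨MulAut.congr eP b, congr_mem_Kmap eP hb, fun y => ?_⟩
  obtain ⟨x, rfl⟩ := eP.surjective y
  show ((e (κ (e.symm (Subgroup.inclusion hPR' (eP x)))) : R') : Ω) = _
  rw [← hc x, MulEquiv.symm_apply_apply]
  have h1 : κ (Subgroup.inclusion hPR x) = Subgroup.inclusion hPR (b x) := Subtype.ext (hκ x)
  rw [h1, hc]
  simp [congr_apply]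

theorem Kmap_resAut {P R P' R' : Subgroup Ω} (hPR : P ≤ R) (hPR' : P' ≤ R') (e : R ≃* R')
    (eP : P ≃* P')
    (hc : ∀ x : P, e (Subgroup.inclusion hPR x) = Subgroup.inclusion hPR' (eP x))
    (B : Subgroup (MulAut P)) : Kmap e (resAut hPR B) = resAut hPR' (Kmap eP B) := by
  apply le_antisymm (Kmap_resAut_le hPR hPR' e eP hc B)
  have hc' : ∀ y : P', e.symm (Subgroup.inclusion hPR' y) = Subgroup.inclusion hPR (eP.symm y) := by
    intro y
    rw [MulEquiv.symm_apply_eq, hc, MulEquiv.apply_symm_apply]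
  have h1 := Kmap_resAut_le hPR' hPR e.symm eP.symm hc' (Kmap eP B)
  rw [Kmap_symm] at h1
  intro β hβ
  have h2 := h1 (congr_mem_Kmap e.symm hβ)
  have h3 := congr_mem_Kmap e h2
  have h4 : MulAut.congr e (MulAut.congr e.symm β) = β := by
    ext x
    simp [congr_apply]
  rwa [h4] at h3

/-- transport of `resAut` along an isomorphism, with the canonical restriction -/
theorem Kmap_resAut_eqE {P R R' : Subgroup Ω} (hPR : P ≤ R) (e : R ≃* R')
    (B : Subgroup (MulAut P)) :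
    Kmap e (resAut hPR B) = resAut (imgE_le e P) (Kmap (eqE e hPR) B) :=
  Kmap_resAut hPR (imgE_le e P) e (eqE e hPR) (eqE_comp e hPR) B

end Cfsg.Agent.Lib.Helper26
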