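import Cfsg.Agent.Lib.Helper26.SatCrit3
import Cfsg.Agent.Lib.Helper26.FusionSat3

set_option autoImplicit false

namespace Cfsg.Agent.Lib.Helper26

open Cfsg Cfsg.FusionSystem

variable {Ω : Type*} [Group Ω] {S : Subgroup Ω}

/-- a map of the system sends elements normalizing `P` to elements normalizing the image of
`P` -/
theorem map_mem_normalizerIn (F : FusionSystem S) {R P : Subgroup Ω} {φ : R →* Ω}
    (hφ : φ ∈ F.Hom R) (g : R) (hg : (g : Ω) ∈ Subgroup.normalizer (P : Set Ω)) :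
    φ g ∈ normalizerIn S ((P.subgroupOf R).map φ) := by
  refine ⟨apply_mem F hφ g, ?_⟩
  have key : ∀ (k : R), (k : Ω) ∈ Subgroup.normalizer (P : Set Ω) →
      ∀ y ∈ (P.subgroupOf R).map φ, φ k * y * (φ k)⁻¹ ∈ (P.subgroupOf R).map φ := by
    rintro k hk _ ⟨x, hx, rfl⟩
    refine ⟨k * x * k⁻¹, ?_, by rw [map_mul, map_mul, map_inv]⟩
    have hx' : (x : Ω) ∈ P := Subgroup.mem_subgroupOf.mp hx
    exact Subgroup.mem_subgroupOf.mpr (conj_mem_of_mem_normalizer hk ⟨x, hx'⟩)
  refine mem_normalizer_of_forall (key g hg) (fun y hy => ?_)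
  have h1 := key g⁻¹ (Subgroup.inv_mem _ hg) y hy
  rwa [map_inv, inv_inv] at h1

theorem card_map_of_mem (F : FusionSystem S) {R : Subgroup Ω} {φ : R →* Ω}
    (hφ : φ ∈ F.Hom R) (P : Subgroup Ω) (hPR : P ≤ R) :
    Nat.card ((P.subgroupOf R).map φ) = Nat.card P := by
  have h1 : Nat.card ((P.subgroupOf R).map φ) = Nat.card (P.subgroupOf R) :=
    Nat.card_congr ((P.subgroupOf R).equivMapOfInjective φ (F.injective_of_mem hφ)).toEquiv.symm
  rw [h1]
  exact Nat.card_congr (Subgroup.subgroupOfEquivOfLe hPR).toEquiv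

theorem card_range_of_mem (F : FusionSystem S) {R : Subgroup Ω} {φ : R →* Ω}
    (hφ : φ ∈ F.Hom R) : Nat.card φ.range = Nat.card R :=
  Nat.card_congr (MonoidHom.ofInjective (F.injective_of_mem hφ)).toEquiv.symm

theorem isConj_map_of_mem (F : FusionSystem S) {R : Subgroup Ω} {φ : R →* Ω}
    (hφ : φ ∈ F.Hom R) (P : Subgroup Ω) (hPR : P ≤ R) :
    F.IsConj P ((P.subgroupOf R).map φ) := by
  refine ⟨φ.comp (Subgroup.inclusion hPR), restrict_mem F hφ hPR, ?_⟩
  ext y
  constructor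
  · rintro ⟨x, rfl⟩
    exact ⟨Subgroup.inclusion hPR x, Subgroup.mem_subgroupOf.mpr x.2, rfl⟩
  · rintro ⟨x, hx, rfl⟩
    exact ⟨⟨x, Subgroup.mem_subgroupOf.mp hx⟩, rfl⟩

namespace NormalizerHom

variable {F : FusionSystem S}

/-- a map of the system defined on the full normalizer of `P` -/
def ofHom (F : FusionSystem S) {P : Subgroup Ω} {φ : ↥(normalizerIn S P) →* Ω}
    (hφ : φ ∈ F.Hom (normalizerIn S P)) {P' : Subgroup Ω}
    (hP' : (P.subgroupOf (normalizerIn S P)).map φ = P') : NormalizerHom F P P' where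
  φ := φ
  mem := hφ
  maps := fun x => by
    rw [← hP']
    exact map_mem_normalizerIn F hφ x x.2.2
  img := hP'

/-- the identity -/
def refl (F : FusionSystem S) {P : Subgroup Ω} (hP : P ≤ S) : NormalizerHom F P P :=
  ofHom F (subtype_mem F (inf_le_left : normalizerIn S P ≤ S)) (by
    ext y
    constructor
    · rintro ⟨x, hx, rfl⟩
      exact Subgroup.mem_subgroupOf.mp hx
    · intro hy
      exact ⟨⟨y, le_normalizerIn_self hP hy⟩, Subgroup.mem_subgroupOf.mpr hy, rfl⟩)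

/-- composition -/
def trans {P P' P'' : Subgroup Ω} (N₁ : NormalizerHom F P P') (N₂ : NormalizerHom F P' P'') :
    NormalizerHom F P P'' where
  φ := N₂.φ.comp (N₁.φ.codRestrict (normalizerIn S P') N₁.maps)
  mem := F.comp_mem N₁.mem N₂.mem N₁.maps
  maps := fun x => N₂.maps _
  img := by
    ext y
    constructor
    · rintro ⟨x, hx, rfl⟩
      have h1 : N₁.φ x ∈ P' := N₁.img.le ⟨x, hx, rfl⟩
      exact N₂.img.le ⟨N₁.φ.codRestrict (normalizerIn S P') N₁.maps x,
        Subgroup.mem_subgroupOf.mpr h1, rfl⟩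
    · intro hy
      obtain ⟨z, hz, rfl⟩ := N₂.img.ge hy
      have hz' : (z : Ω) ∈ P' := Subgroup.mem_subgroupOf.mp hz
      obtain ⟨x, hx, hxz⟩ := N₁.img.ge hz'
      refine ⟨x, hx, ?_⟩
      show N₂.φ (N₁.φ.codRestrict (normalizerIn S P') N₁.maps x) = N₂.φ z
      congr 1
      exact Subtype.ext hxz

theorem isConj {P P' : Subgroup Ω} (N : NormalizerHom F P P') (hP : P ≤ S) : F.IsConj P P' :=
  ⟨N.restrictQ hP, N.restrictQ_mem hP, N.restrictQ_range hP⟩

theorem card_le [Finite S] {P P' : Subgroup Ω} (N : NormalizerHom F P P') :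
    Nat.card (normalizerIn S P) ≤ Nat.card (normalizerIn S P') := by
  haveI : Finite ↥(normalizerIn S P') := finite_of_le inf_le_left
  exact Nat.card_le_card_of_injective (fun x => (⟨N.φ x, N.maps x⟩ : normalizerIn S P'))
    (fun a b hab => N.injective (congrArg Subtype.val hab))

theorem range_eq_of_card_le [Finite S] {P P' : Subgroup Ω} (N : NormalizerHom F P P')
    (h : Nat.card (normalizerIn S P') ≤ Nat.card (normalizerIn S P)) :
    N.φ.range = normalizerIn S P' := by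
  haveI : Finite ↥(normalizerIn S P') := finite_of_le inf_le_left
  have hle : N.φ.range ≤ normalizerIn S P' := by
    rintro _ ⟨x, rfl⟩
    exact N.maps x
  apply Subgroup.eq_of_le_of_card_ge hle
  rw [card_range_of_mem F N.mem]
  exact h

/-- a `NormalizerHom` into a subgroup with a normalizer that is not larger can be inverted -/
theorem exists_inv_of_card_le [Finite S] {P P' : Subgroup Ω} (N : NormalizerHom F P P')
    (hP : P ≤ S) (h : Nat.card (normalizerIn S P') ≤ Nat.card (normalizerIn S P)) :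
    Nonempty (NormalizerHom F P' P) := by
  have hr := N.range_eq_of_card_le h
  obtain ⟨ψ, hψ, -, hψ1, hψ2⟩ := exists_inv F N.mem hr
  refine ⟨ofHom F hψ ?_⟩
  ext y
  constructor
  · rintro ⟨z, hz, rfl⟩
    have hz' : (z : Ω) ∈ P' := Subgroup.mem_subgroupOf.mp hz
    obtain ⟨x, hx⟩ := N.exists_preimage hP hz'
    have h1 : z = ⟨N.φ ⟨x, le_normalizerIn_self hP x.2⟩, N.maps _⟩ := Subtype.ext hx.symm
    rw [h1, hψ1]
    exact x.2
  · intro hy
    exact ⟨⟨N.φ ⟨y, le_normalizerIn_self hP hy⟩, N.maps _⟩,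
      Subgroup.mem_subgroupOf.mpr (N.apply_mem_of_mem hP ⟨y, hy⟩), hψ1 _ _⟩

end NormalizerHom

/-- `P₁` and `P₂` have a common upper bound for the relation "there is a map of the system
from `N_S(P)` to `N_S(P')` sending `P` onto `P'`" -/
def CUB (F : FusionSystem S) (P₁ P₂ : Subgroup Ω) : Prop :=
  ∃ P₃, Nonempty (NormalizerHom F P₁ P₃) ∧ Nonempty (NormalizerHom F P₂ P₃)

theorem CUB.symm {F : FusionSystem S} {P₁ P₂ : Subgroup Ω} (h : CUB F P₁ P₂) : CUB F P₂ P₁ := by
  obtain ⟨P₃, h1, h2⟩ := h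
  exact ⟨P₃, h2, h1⟩

theorem CUB.of_normalizerHom {F : FusionSystem S} {P₁ P₂ : Subgroup Ω}
    (N : NormalizerHom F P₁ P₂) (hP₂ : P₂ ≤ S) : CUB F P₁ P₂ :=
  ⟨P₂, ⟨N⟩, ⟨NormalizerHom.refl F hP₂⟩⟩

end Cfsg.Agent.Lib.Helper26
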