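import Cfsg.Agent.Lib.Helper26.SatCrit4

set_option autoImplicit false

namespace Cfsg.Agent.Lib.Helper26

open Cfsg Cfsg.FusionSystem

variable {Ω : Type*} [Group Ω] {S : Subgroup Ω}

theorem card_eq_of_isConj (F : FusionSystem S) {P Q : Subgroup Ω} (h : F.IsConj P Q) :
    Nat.card P = Nat.card Q := by
  obtain ⟨e, -⟩ := exists_iso_of_isConj F h
  exact Nat.card_congr e.toEquiv

theorem range_restrict_eq_map {R P : Subgroup Ω} (φ : R →* Ω) (hPR : P ≤ R) :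
    (φ.comp (Subgroup.inclusion hPR)).range = (P.subgroupOf R).map φ := by
  ext y
  constructor
  · rintro ⟨x, rfl⟩
    exact ⟨Subgroup.inclusion hPR x, Subgroup.mem_subgroupOf.mpr x.2, rfl⟩
  · rintro ⟨x, hx, rfl⟩
    exact ⟨⟨x, Subgroup.mem_subgroupOf.mp hx⟩, rfl⟩

/-- The standing hypotheses: `ℋ` is a family on which `F` is saturated and which generates `F`,
`P₀` is a subgroup outside `ℋ` such that all larger subgroups are in `ℋ`. -/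
structure SatCtx (F : FusionSystem S) (p : ℕ) (ℋ : Set (Subgroup Ω)) (P₀ : Subgroup Ω) : Prop where
  hS : IsPGroup p S
  hsat : ∀ R ∈ ℋ, HasFar F p R
  hgen : ∀ E : FusionSystem S, (∀ P ∈ ℋ, F.Hom P ⊆ E.Hom P) → F ≤ E
  hP₀ : P₀ ≤ S
  hP₀ℋ : ∀ Q, F.IsConj P₀ Q → Q ∉ ℋ
  hbig : ∀ R : Subgroup Ω, R ≤ S → Nat.card P₀ < Nat.card R → R ∈ ℋ
  htop : S ∈ ℋ

namespace SatCtx

variable {F : FusionSystem S} {p : ℕ} {ℋ : Set (Subgroup Ω)} {P₀ : Subgroup Ω}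

theorem ne_top (C : SatCtx F p ℋ P₀) {Q : Subgroup Ω} (h : F.IsConj P₀ Q) : Q ≠ S := by
  intro hQ
  exact C.hP₀ℋ Q h (hQ ▸ C.htop)

theorem card_lt_normalizerIn [Finite S] [Fact p.Prime] (C : SatCtx F p ℋ P₀) {Q : Subgroup Ω}
    (h : F.IsConj P₀ Q) : Nat.card Q < Nat.card (normalizerIn S Q) := by
  have hQS : Q ≤ S := isConj_le_right F h
  obtain ⟨x, hxS, hxQ, hxN⟩ := exists_normalizing_of_lt C.hS hQS (C.ne_top h)
  haveI : Finite ↥(normalizerIn S Q) := finite_of_le inf_le_left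
  apply card_lt_card_of_lt
  refine lt_of_le_of_ne (le_normalizerIn_self hQS) (fun heq => hxQ ?_)
  rw [heq]
  exact ⟨hxS, hxN⟩

theorem mem_of_card_lt [Finite S] (C : SatCtx F p ℋ P₀) {P₁ R : Subgroup Ω}
    (h : F.IsConj P₀ P₁) (hRS : R ≤ S) (hlt : Nat.card P₁ < Nat.card R) : R ∈ ℋ :=
  C.hbig R hRS (by rw [card_eq_of_isConj F h]; exact hlt)

end SatCtx

/-- the property proved by downward induction on `|R|` -/
def LinkProp (F : FusionSystem S) (P₀ : Subgroup Ω) (n : ℕ) : Prop :=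
  ∀ (P₁ R P₂ : Subgroup Ω) (φ : R →* Ω), Nat.card S - Nat.card R = n → F.IsConj P₀ P₁ →
    P₁ ≤ R → P₁ ≠ R → R ≤ normalizerIn S P₁ → φ ∈ F.Hom R → (P₁.subgroupOf R).map φ = P₂ →
    CUB F P₁ P₂

theorem cub_of_leads_aux [Finite S] {p : ℕ} [Fact p.Prime] {F : FusionSystem S}
    {ℋ : Set (Subgroup Ω)} {P₀ : Subgroup Ω} (C : SatCtx F p ℋ P₀) {n : ℕ}
    (IH : ∀ m < n, LinkProp F P₀ m) {P₃ P₄ P₅ : Subgroup Ω} (h3 : F.IsConj P₀ P₃)
    (N₄ : NormalizerHom F P₃ P₄) (N₅ : NormalizerHom F P₃ P₅)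
    (hcard : Nat.card S - Nat.card (normalizerIn S P₃) < n) : CUB F P₄ P₅ := by
  have hP₃S : P₃ ≤ S := isConj_le_right F h3
  obtain ⟨ψ, hψ, hψr, hψ1, -⟩ := exists_inv F N₄.mem (rfl : N₄.φ.range = N₄.φ.range)
  have hψN : ∀ t : N₄.φ.range, ψ t ∈ normalizerIn S P₃ := fun t => hψr.le ⟨t, rfl⟩
  have hθmem : N₅.φ.comp (ψ.codRestrict _ hψN) ∈ F.Hom N₄.φ.range := F.comp_mem hψ N₅.mem hψN
  have hθx : ∀ (x : ↥(normalizerIn S P₃)) (hx : N₄.φ x ∈ N₄.φ.range),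
      (N₅.φ.comp (ψ.codRestrict _ hψN)) ⟨N₄.φ x, hx⟩ = N₅.φ x := by
    intro x hx
    show N₅.φ (ψ.codRestrict _ hψN ⟨N₄.φ x, hx⟩) = N₅.φ x
    congr 1
    exact Subtype.ext (hψ1 x hx)
  have hcr : Nat.card N₄.φ.range = Nat.card (normalizerIn S P₃) := card_range_of_mem F N₄.mem
  refine IH (Nat.card S - Nat.card ↥N₄.φ.range) (by rw [hcr]; exact hcard) P₄ N₄.φ.range P₅
    (N₅.φ.comp (ψ.codRestrict _ hψN)) rfl (isConj_trans F h3 (N₄.isConj hP₃S)) ?_ ?_ ?_ hθmem ?_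
  · intro y hy
    obtain ⟨x, -, rfl⟩ := N₄.img.ge hy
    exact MonoidHom.mem_range.mpr ⟨x, rfl⟩
  · intro heq
    have h1 : Nat.card P₄ = Nat.card (normalizerIn S P₃) := by rw [heq, hcr]
    have h2 := C.card_lt_normalizerIn h3
    rw [← card_eq_of_isConj F (N₄.isConj hP₃S)] at h1
    omega
  · rintro _ ⟨x, rfl⟩
    exact N₄.maps x
  · ext y
    constructor
    · rintro ⟨t, ht, rfl⟩
      have ht' : (t : Ω) ∈ P₄ := Subgroup.mem_subgroupOf.mp ht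
      obtain ⟨x, hx, hxt⟩ := N₄.img.ge ht'
      have hxr : N₄.φ x ∈ N₄.φ.range := MonoidHom.mem_range.mpr ⟨x, rfl⟩
      have h1 : t = ⟨N₄.φ x, hxr⟩ := Subtype.ext hxt.symm
      rw [h1, hθx x hxr]
      exact N₅.img.le ⟨x, hx, rfl⟩
    · intro hy
      obtain ⟨x, hx, rfl⟩ := N₅.img.ge hy
      have hxr : N₄.φ x ∈ N₄.φ.range := MonoidHom.mem_range.mpr ⟨x, rfl⟩
      refine ⟨⟨N₄.φ x, hxr⟩, ?_, hθx x hxr⟩
      exact Subgroup.mem_subgroupOf.mpr (N₄.img.le ⟨x, hx, rfl⟩)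

/-- images under a map which is `χ ∘ e` on `R` with `χ` stabilizing `e(P)` -/
theorem map_eq_imgE_of_resAut {R R' P : Subgroup Ω} (hPR : P ≤ R) (e : R ≃* R')
    {B' : Subgroup (MulAut ↥(imgE e P))} {χ : MulAut R'} (hχ : χ ∈ resAut (imgE_le e P) B')
    {T : Subgroup Ω} (hRT : R ≤ T) (ψ : T →* Ω)
    (hψ : ∀ x : R, ψ (Subgroup.inclusion hRT x) = ((χ (e x) : R') : Ω)) :
    (P.subgroupOf T).map ψ = imgE e P := by
  ext y
  constructor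
  · rintro ⟨t, ht, rfl⟩
    have ht' : (t : Ω) ∈ P := Subgroup.mem_subgroupOf.mp ht
    have h1 : t = Subgroup.inclusion hRT (Subgroup.inclusion hPR ⟨t, ht'⟩) := Subtype.ext rfl
    rw [h1, hψ, eqE_comp]
    exact resAut_apply_mem hχ _
  · intro hy
    have h1 := resAut_apply_mem ((resAut _ B').inv_mem hχ) ⟨y, hy⟩
    obtain ⟨x, hx, hxz⟩ := mem_imgE.mp h1
    refine ⟨Subgroup.inclusion hRT x, Subgroup.mem_subgroupOf.mpr hx, ?_⟩
    rw [hψ]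
    have h2 : e x = χ⁻¹ (Subgroup.inclusion (imgE_le e P) ⟨y, hy⟩) := Subtype.ext hxz
    rw [h2]
    simp

end Cfsg.Agent.Lib.Helper26
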