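import Cfsg.Agent.Lib.Helper26.SatCrit5

set_option autoImplicit false

namespace Cfsg.Agent.Lib.Helper26

open Cfsg Cfsg.FusionSystem

variable {Ω : Type*} [Group Ω] {S : Subgroup Ω}

/-- a proper subgroup `R` of `N_S(P)` containing `P`: there is an element of
`N_S(R) ∩ N_S(P)` outside `R` -/
theorem exists_mem_NK_resAut_not_mem [Finite S] {p : ℕ} [Fact p.Prime] (hS : IsPGroup p S)
    {P R : Subgroup Ω} (hPR : P ≤ R) (hRN : R ≤ normalizerIn S P) (hne : R ≠ normalizerIn S P) :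
    ∃ x ∈ NK S R (resAut hPR ⊤), x ∉ R := by
  haveI : Finite ↥(normalizerIn S P) := finite_of_le inf_le_left
  have hNp : IsPGroup p ↥(normalizerIn S P) := hS.to_le inf_le_left
  obtain ⟨x, hxN, hxR, hxNR⟩ := exists_normalizing_of_lt (L := normalizerIn S P) hNp hRN hne
  refine ⟨x, ?_, hxR⟩
  rw [NK_resAut, NK_top]
  exact ⟨⟨hxN.1, hxNR⟩, hxN⟩

theorem NK_resAut_top_sup_le {P R : Subgroup Ω} (hPR : P ≤ R) (hRN : R ≤ normalizerIn S P) :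
    NK S R (resAut hPR ⊤) ⊔ R ≤ normalizerIn S P := by
  refine sup_le ?_ hRN
  rw [NK_resAut, NK_top]
  exact inf_le_right

theorem linkProp_step [Finite S] {p : ℕ} [Fact p.Prime] {F : FusionSystem S}
    {ℋ : Set (Subgroup Ω)} {P₀ : Subgroup Ω} (C : SatCtx F p ℋ P₀) (n : ℕ)
    (IH : ∀ m < n, LinkProp F P₀ m) : LinkProp F P₀ n := by
  intro P₁ R P₂ φ hn h1 hP₁R hne hRN hφ hP₂
  have hRS : R ≤ S := source_le F hφ
  haveI : Finite R := finite_of_le hRS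
  have hP₁S : P₁ ≤ S := hP₁R.trans hRS
  have hP₂conj : F.IsConj P₁ P₂ := hP₂ ▸ isConj_map_of_mem F hφ P₁ hP₁R
  have hP₂S : P₂ ≤ S := isConj_le_right F hP₂conj
  have h2 : F.IsConj P₀ P₂ := isConj_trans F h1 hP₂conj
  by_cases hA : R = normalizerIn S P₁
  · subst hA
    exact CUB.of_normalizerHom (NormalizerHom.ofHom F hφ hP₂) hP₂S
  by_cases hB : φ.range = normalizerIn S P₂
  · obtain ⟨ψ, hψ, -, hψ1, -⟩ := exists_inv F hφ hB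
    have himg : (P₂.subgroupOf (normalizerIn S P₂)).map ψ = P₁ := by
      ext y
      constructor
      · rintro ⟨z, hz, rfl⟩
        have hz' : (z : Ω) ∈ P₂ := Subgroup.mem_subgroupOf.mp hz
        obtain ⟨x, hx, hxz⟩ := hP₂.ge hz'
        have hxr : φ x ∈ normalizerIn S P₂ := hB.le (MonoidHom.mem_range.mpr ⟨x, rfl⟩)
        have h3 : z = ⟨φ x, hxr⟩ := Subtype.ext hxz.symm
        rw [h3, hψ1 x hxr]
        exact Subgroup.mem_subgroupOf.mp hx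
      · intro hy
        have hxr : φ ⟨y, hP₁R hy⟩ ∈ normalizerIn S P₂ :=
          hB.le (MonoidHom.mem_range.mpr ⟨_, rfl⟩)
        refine ⟨⟨φ ⟨y, hP₁R hy⟩, hxr⟩, ?_, hψ1 _ hxr⟩
        apply Subgroup.mem_subgroupOf.mpr
        exact hP₂.le ⟨⟨y, hP₁R hy⟩, Subgroup.mem_subgroupOf.mpr hy, rfl⟩
    exact (CUB.of_normalizerHom (NormalizerHom.ofHom F hψ himg) hP₁S).symm
  -- the main case
  have hP₁ltR : Nat.card P₁ < Nat.card R := card_lt_card_of_lt (lt_of_le_of_ne hP₁R hne)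
  have hRℋ : R ∈ ℋ := C.mem_of_card_lt h1 hRS hP₁ltR
  obtain ⟨R₀, e₀, he₀, -, hrec₀, hsyl⟩ :=
    exists_iso_sylow_loc C.hS F (C.hsat R hRℋ) (resAut hP₁R ⊤)
  obtain ⟨χ₁, hχ₁, ψ₁, hψ₁, hψ₁R, -, -⟩ := exists_extension C.hS F e₀ he₀ hrec₀ hsyl
  obtain ⟨eφ, heφ, heφx⟩ := exists_iso_of_hom F hφ rfl
  have hP₂R₂ : P₂ ≤ φ.range := by
    rw [← hP₂]
    rintro _ ⟨x, -, rfl⟩
    exact MonoidHom.mem_range.mpr ⟨x, rfl⟩
  obtain ⟨eP, -, hePx⟩ := exists_iso_of_hom F (restrict_mem F hφ hP₁R)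
    ((range_restrict_eq_map φ hP₁R).trans hP₂)
  have hc : ∀ x : P₁, eφ (Subgroup.inclusion hP₁R x) = Subgroup.inclusion hP₂R₂ (eP x) := by
    intro x
    apply Subtype.ext
    rw [heφx]
    exact (hePx x).symm
  have hK₁₂ : Kmap eφ (resAut hP₁R ⊤) = resAut hP₂R₂ ⊤ := by
    rw [Kmap_resAut hP₁R hP₂R₂ eφ eP hc ⊤, Kmap_top]
  have hK₂ : Kmap (eφ.symm.trans e₀) (resAut hP₂R₂ ⊤) = Kmap e₀ (resAut hP₁R ⊤) := by
    rw [Kmap_trans, ← hK₁₂, Kmap_symm]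
  have he₂ : IsIso F (eφ.symm.trans e₀) := heφ.symm.trans he₀
  have hsyl₂ : Helper18.IsSylowIn p
      (autInducedBy S R₀ ⊓ Kmap (eφ.symm.trans e₀) (resAut hP₂R₂ ⊤))
      (F.autGroup R₀ ⊓ Kmap (eφ.symm.trans e₀) (resAut hP₂R₂ ⊤)) := by
    rw [hK₂]
    exact hsyl
  obtain ⟨χ₂, hχ₂, ψ₂, hψ₂, hψ₂R, -, -⟩ :=
    exists_extension C.hS F (eφ.symm.trans e₀) he₂ hrec₀ hsyl₂
  -- the images
  have himg₁ : (P₁.subgroupOf (NK S R (resAut hP₁R ⊤) ⊔ R)).map ψ₁ = imgE e₀ P₁ := by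
    have h3 := hχ₁.2
    rw [Kmap_resAut_eqE] at h3
    exact map_eq_imgE_of_resAut hP₁R e₀ h3 le_sup_right ψ₁ hψ₁R
  have himgE : imgE (eφ.symm.trans e₀) P₂ = imgE e₀ P₁ := by
    ext y
    rw [mem_imgE, mem_imgE]
    constructor
    · rintro ⟨r₂, hr₂, rfl⟩
      refine ⟨eφ.symm r₂, ?_, rfl⟩
      rw [← hP₂] at hr₂
      obtain ⟨x, hx, hxr⟩ := hr₂
      have h3 : eφ x = r₂ := Subtype.ext (by rw [heφx]; exact hxr)
      rw [← h3, MulEquiv.symm_apply_apply]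
      exact Subgroup.mem_subgroupOf.mp hx
    · rintro ⟨x, hx, rfl⟩
      refine ⟨eφ x, ?_, ?_⟩
      · rw [heφx, ← hP₂]
        exact ⟨x, Subgroup.mem_subgroupOf.mpr hx, rfl⟩
      · simp
  have himg₂ : (P₂.subgroupOf (NK S φ.range (resAut hP₂R₂ ⊤) ⊔ φ.range)).map ψ₂ = imgE e₀ P₁ := by
    have h3 := hχ₂.2
    rw [Kmap_resAut_eqE] at h3
    rw [← himgE]
    exact map_eq_imgE_of_resAut hP₂R₂ (eφ.symm.trans e₀) h3 le_sup_right ψ₂ hψ₂R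
  -- cardinalities
  have hR'S : NK S R (resAut hP₁R ⊤) ⊔ R ≤ S := source_le F hψ₁
  haveI : Finite ↥(NK S R (resAut hP₁R ⊤) ⊔ R) := finite_of_le hR'S
  have hlt₁ : Nat.card R < Nat.card ↥(NK S R (resAut hP₁R ⊤) ⊔ R) := by
    obtain ⟨x, hx, hxR⟩ := exists_mem_NK_resAut_not_mem C.hS hP₁R hRN hA
    apply card_lt_card_of_lt
    refine lt_of_le_of_ne le_sup_right (fun heq => hxR ?_)
    rw [heq]
    exact (le_sup_left : NK S R (resAut hP₁R ⊤) ≤ _) hx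
  have hle₁ : Nat.card ↥(NK S R (resAut hP₁R ⊤) ⊔ R) ≤ Nat.card S :=
    card_le_card_of_le_of_finite hR'S
  have hR₂N : φ.range ≤ normalizerIn S P₂ := by
    rintro _ ⟨x, rfl⟩
    rw [← hP₂]
    exact map_mem_normalizerIn F hφ x (hRN x.2).2
  have hR₂'S : NK S φ.range (resAut hP₂R₂ ⊤) ⊔ φ.range ≤ S := source_le F hψ₂
  haveI : Finite ↥(NK S φ.range (resAut hP₂R₂ ⊤) ⊔ φ.range) := finite_of_le hR₂'S
  have hcR₂ : Nat.card φ.range = Nat.card R := card_range_of_mem F hφ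
  have hlt₂ : Nat.card R < Nat.card ↥(NK S φ.range (resAut hP₂R₂ ⊤) ⊔ φ.range) := by
    obtain ⟨x, hx, hxR⟩ := exists_mem_NK_resAut_not_mem C.hS hP₂R₂ hR₂N hB
    rw [← hcR₂]
    apply card_lt_card_of_lt
    refine lt_of_le_of_ne le_sup_right (fun heq => hxR ?_)
    rw [heq]
    exact (le_sup_left : NK S φ.range (resAut hP₂R₂ ⊤) ≤ _) hx
  have hle₂ : Nat.card ↥(NK S φ.range (resAut hP₂R₂ ⊤) ⊔ φ.range) ≤ Nat.card S :=
    card_le_card_of_le_of_finite hR₂'S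
  -- apply the induction hypothesis
  have hcub₁ : CUB F P₁ (imgE e₀ P₁) := by
    refine IH (Nat.card S - Nat.card ↥(NK S R (resAut hP₁R ⊤) ⊔ R)) (by omega) P₁ _ _ ψ₁ rfl h1
      (hP₁R.trans le_sup_right) ?_ (NK_resAut_top_sup_le hP₁R hRN) hψ₁ himg₁
    intro heq
    rw [← heq] at hlt₁
    omega
  have hcub₂ : CUB F P₂ (imgE e₀ P₁) := by
    refine IH (Nat.card S - Nat.card ↥(NK S φ.range (resAut hP₂R₂ ⊤) ⊔ φ.range)) (by omega) P₂ _ _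
      ψ₂ rfl h2 (hP₂R₂.trans le_sup_right) ?_ (NK_resAut_top_sup_le hP₂R₂ hR₂N) hψ₂ himg₂
    intro heq
    rw [← heq, ← card_eq_of_isConj F hP₂conj] at hlt₂
    omega
  obtain ⟨P₄, ⟨N₁₄⟩, ⟨N₃₄⟩⟩ := hcub₁
  obtain ⟨P₅, ⟨N₂₅⟩, ⟨N₃₅⟩⟩ := hcub₂
  have h3 : F.IsConj P₀ (imgE e₀ P₁) :=
    isConj_trans F h1 (himg₁ ▸ isConj_map_of_mem F hψ₁ P₁ (hP₁R.trans le_sup_right))
  have hcard₃ : Nat.card ↥(NK S R (resAut hP₁R ⊤) ⊔ R) ≤
      Nat.card (normalizerIn S (imgE e₀ P₁)) := by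
    haveI : Finite ↥(normalizerIn S (imgE e₀ P₁)) := finite_of_le inf_le_left
    have hmaps : ∀ t : ↥(NK S R (resAut hP₁R ⊤) ⊔ R), ψ₁ t ∈ normalizerIn S (imgE e₀ P₁) := by
      intro t
      rw [← himg₁]
      exact map_mem_normalizerIn F hψ₁ t (NK_resAut_top_sup_le hP₁R hRN t.2).2
    exact Nat.card_le_card_of_injective
      (fun t => (⟨ψ₁ t, hmaps t⟩ : normalizerIn S (imgE e₀ P₁)))
      (fun a b hab => F.injective_of_mem hψ₁ (congrArg Subtype.val hab))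
  obtain ⟨P₆, ⟨N₄₆⟩, ⟨N₅₆⟩⟩ := cub_of_leads_aux C IH h3 N₃₄ N₃₅ (by omega)
  exact ⟨P₆, ⟨N₁₄.trans N₄₆⟩, ⟨N₂₅.trans N₅₆⟩⟩

theorem linkProp_all [Finite S] {p : ℕ} [Fact p.Prime] {F : FusionSystem S}
    {ℋ : Set (Subgroup Ω)} {P₀ : Subgroup Ω} (C : SatCtx F p ℋ P₀) (n : ℕ) :
    LinkProp F P₀ n := by
  induction n using Nat.strong_induction_on with
  | _ n ih => exact linkProp_step C n ih

/-- confluence -/
theorem cub_of_leads [Finite S] {p : ℕ} [Fact p.Prime] {F : FusionSystem S}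
    {ℋ : Set (Subgroup Ω)} {P₀ : Subgroup Ω} (C : SatCtx F p ℋ P₀) {P₃ P₄ P₅ : Subgroup Ω}
    (h3 : F.IsConj P₀ P₃) (N₄ : NormalizerHom F P₃ P₄) (N₅ : NormalizerHom F P₃ P₅) :
    CUB F P₄ P₅ :=
  cub_of_leads_aux C (n := Nat.card S - Nat.card (normalizerIn S P₃) + 1)
    (fun m _ => linkProp_all C m) h3 N₄ N₅ (Nat.lt_succ_self _)

theorem cub_trans [Finite S] {p : ℕ} [Fact p.Prime] {F : FusionSystem S}
    {ℋ : Set (Subgroup Ω)} {P₀ : Subgroup Ω} (C : SatCtx F p ℋ P₀) {P₁ P₂ P₃ : Subgroup Ω}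
    (h2 : F.IsConj P₀ P₂) (h12 : CUB F P₁ P₂) (h23 : CUB F P₂ P₃) : CUB F P₁ P₃ := by
  obtain ⟨U, ⟨N₁U⟩, ⟨N₂U⟩⟩ := h12
  obtain ⟨V, ⟨N₂V⟩, ⟨N₃V⟩⟩ := h23
  obtain ⟨W, ⟨NUW⟩, ⟨NVW⟩⟩ := cub_of_leads C h2 N₂U N₂V
  exact ⟨W, ⟨N₁U.trans NUW⟩, ⟨N₃V.trans NVW⟩⟩

end Cfsg.Agent.Lib.Helper26
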