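import Cfsg.Agent.Lib.Helper26.SatCrit6

set_option autoImplicit false

namespace Cfsg.Agent.Lib.Helper26

open Cfsg Cfsg.FusionSystem

variable {Ω : Type*} [Group Ω] {S : Subgroup Ω}

/-- conjugation by an element of `S` gives a `NormalizerHom` -/
theorem nonempty_normalizerHom_of_conj (F : FusionSystem S) {P₁ P₂ : Subgroup Ω} (e : P₁ ≃* P₂)
    {g : Ω} (hP₁ : P₁ ≤ S) (hg : g ∈ S) (he : ∀ x : P₁, ((e x : P₂) : Ω) = g * x * g⁻¹) :
    Nonempty (NormalizerHom F P₁ P₂) := by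
  refine ⟨NormalizerHom.ofHom F
    (F.conj_mem (inf_le_left : normalizerIn S P₁ ≤ S) hg) ?_⟩
  ext y
  constructor
  · rintro ⟨x, hx, rfl⟩
    have hx' : (x : Ω) ∈ P₁ := Subgroup.mem_subgroupOf.mp hx
    rw [conjHom_apply, ← he ⟨x, hx'⟩]
    exact (e ⟨x, hx'⟩).2
  · intro hy
    obtain ⟨x, hx⟩ := e.surjective ⟨y, hy⟩
    refine ⟨⟨x, le_normalizerIn_self hP₁ x.2⟩, Subgroup.mem_subgroupOf.mpr x.2, ?_⟩
    rw [conjHom_apply]
    show g * (x : Ω) * g⁻¹ = y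
    rw [← he x, hx]

theorem cub_of_isIso [Finite S] {p : ℕ} [Fact p.Prime] {F : FusionSystem S}
    {ℋ : Set (Subgroup Ω)} {P₀ : Subgroup Ω} (C : SatCtx F p ℋ P₀) :
    ∀ (P₁ P₂ : Subgroup Ω) (e : P₁ ≃* P₂), IsIso F e → F.IsConj P₀ P₁ → CUB F P₁ P₂ := by
  refine hgen_iso_induction F ℋ C.hgen (fun P₁ P₂ _ => F.IsConj P₀ P₁ → CUB F P₁ P₂)
    ?_ ?_ ?_ ?_
  · intro P₁ P₂ e g hP₁ hg he h1
    obtain ⟨N⟩ := nonempty_normalizerHom_of_conj F e hP₁ hg he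
    exact CUB.of_normalizerHom N (isConj_le_right F (N.isConj hP₁))
  · intro P₁ P₂ P₃ e₁ e₂ he₁ he₂ h12 h23 h1
    have h2 : F.IsConj P₀ P₂ := isConj_trans F h1 he₁.isConj
    exact cub_trans C h2 (h12 h1) (h23 h2)
  · intro P₁ P₂ e he h12 h2
    have h1 : F.IsConj P₀ P₁ := isConj_trans F h2 (isConj_symm F he.isConj)
    exact (h12 h1).symm
  · intro R hR φ hφ P₁ P₂ hP₁R e he h1
    have hRS : R ≤ S := source_le F hφ
    haveI : Finite R := finite_of_le hRS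
    have hne : P₁ ≠ R := fun h => C.hP₀ℋ P₁ h1 (h ▸ hR)
    have hRp : IsPGroup p R := C.hS.to_le hRS
    obtain ⟨x, hxR, hxP, hxN⟩ := exists_normalizing_of_lt hRp hP₁R hne
    have hle : P₁ ≤ R ⊓ normalizerIn S P₁ := le_inf hP₁R (le_normalizerIn_self (hP₁R.trans hRS))
    have hne' : P₁ ≠ R ⊓ normalizerIn S P₁ := by
      intro h
      apply hxP
      rw [h]
      exact ⟨hxR, hRS hxR, hxN⟩
    refine linkProp_all C _ P₁ (R ⊓ normalizerIn S P₁) P₂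
      (φ.comp (Subgroup.inclusion inf_le_left)) rfl h1 hle hne' inf_le_right
      (restrict_mem F hφ inf_le_left) ?_
    ext y
    constructor
    · rintro ⟨x, hx, rfl⟩
      have hx' : (x : Ω) ∈ P₁ := Subgroup.mem_subgroupOf.mp hx
      have h3 := he ⟨x, hx'⟩
      have h4 : (φ.comp (Subgroup.inclusion inf_le_left)) x = ((e ⟨x, hx'⟩ : P₂) : Ω) := by
        rw [h3]
        rfl
      rw [h4]
      exact (e ⟨x, hx'⟩).2
    · intro hy
      obtain ⟨x, hx⟩ := e.surjective ⟨y, hy⟩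
      refine ⟨⟨x, hle x.2⟩, Subgroup.mem_subgroupOf.mpr x.2, ?_⟩
      have h3 := he x
      rw [hx] at h3
      exact h3.symm

/-- (a): every member of the class leads to any fully normalized member -/
theorem nonempty_normalizerHom_of_fullyNormalized [Finite S] {p : ℕ} [Fact p.Prime]
    {F : FusionSystem S} {ℋ : Set (Subgroup Ω)} {P₀ : Subgroup Ω} (C : SatCtx F p ℋ P₀)
    {Ph : Subgroup Ω} (hPh : F.IsConj P₀ Ph) (hfn : F.IsFullyNormalized Ph) {P' : Subgroup Ω}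
    (hP' : F.IsConj P₀ P') : Nonempty (NormalizerHom F P' Ph) := by
  obtain ⟨e, he⟩ := exists_iso_of_isConj F (isConj_trans F (isConj_symm F hP') hPh)
  obtain ⟨W, ⟨N₁⟩, ⟨N₂⟩⟩ := cub_of_isIso C P' Ph e he hP'
  have hPhS : Ph ≤ S := hfn.1
  obtain ⟨N₃⟩ := N₂.exists_inv_of_card_le hPhS (hfn.2 W (N₂.isConj hPhS))
  exact ⟨N₁.trans N₃⟩

end Cfsg.Agent.Lib.Helper26
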