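import Cfsg.Agent.Lib.Helper26.SatCrit7

set_option autoImplicit false

namespace Cfsg.Agent.Lib.Helper26

open Cfsg Cfsg.FusionSystem

variable {Ω : Type*} [Group Ω] {S : Subgroup Ω}

namespace NormalizerHom

variable {F : FusionSystem S} {P P' : Subgroup Ω}

/-- the isomorphism `P ≃ P'` induced by a `NormalizerHom` -/
noncomputable def equiv (N : NormalizerHom F P P') (hP : P ≤ S) : P ≃* P' :=
  Classical.choose (exists_iso_of_hom F (N.restrictQ_mem hP) (N.restrictQ_range hP))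

theorem equiv_isIso (N : NormalizerHom F P P') (hP : P ≤ S) : IsIso F (N.equiv hP) :=
  (Classical.choose_spec (exists_iso_of_hom F (N.restrictQ_mem hP) (N.restrictQ_range hP))).1

theorem equiv_apply (N : NormalizerHom F P P') (hP : P ≤ S) (x : P) :
    ((N.equiv hP x : P') : Ω) = N.φ ⟨x, le_normalizerIn_self hP x.2⟩ :=
  (Classical.choose_spec (exists_iso_of_hom F (N.restrictQ_mem hP) (N.restrictQ_range hP))).2 x

end NormalizerHom

/-- automorphisms of `Ph` that extend to a map of the system defined on a strictly larger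
subgroup of `N_S(Ph)` -/
def ExtendableAut (F : FusionSystem S) (Ph : Subgroup Ω) (α : MulAut Ph) : Prop :=
  ∃ (T : Subgroup Ω) (hPT : Ph ≤ T) (β : T →* Ω), Ph ≠ T ∧ T ≤ normalizerIn S Ph ∧ β ∈ F.Hom T ∧
    ∀ x : Ph, β (Subgroup.inclusion hPT x) = ((α x : Ph) : Ω)

theorem extendable_of_link [Finite S] (F : FusionSystem S) {Ph P₁ P₂ R' : Subgroup Ω}
    (e : P₁ ≃* P₂) (hP₁S : P₁ ≤ S) (hP₂S : P₂ ≤ S) (hP₁R' : P₁ ≤ R') (hne : P₁ ≠ R')
    (hR'N : R' ≤ normalizerIn S P₁)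
    (φ' : R' →* Ω) (hφ' : φ' ∈ F.Hom R')
    (he : ∀ x : P₁, ((e x : P₂) : Ω) = φ' (Subgroup.inclusion hP₁R' x))
    (N₁ : NormalizerHom F P₁ Ph) (N₂ : NormalizerHom F P₂ Ph) :
    ExtendableAut F Ph ((N₁.equiv hP₁S).symm.trans (e.trans (N₂.equiv hP₂S))) := by
  have hR'S : R' ≤ S := source_le F hφ'
  haveI : Finite R' := finite_of_le hR'S
  -- `φ'` maps `R'` into `N_S(P₂)`
  have himg : (P₁.subgroupOf R').map φ' = P₂ := by
    ext y
    constructor
    · rintro ⟨x, hx, rfl⟩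
      have hx' : (x : Ω) ∈ P₁ := Subgroup.mem_subgroupOf.mp hx
      have h1 : φ' x = ((e ⟨x, hx'⟩ : P₂) : Ω) := by
        rw [he]
        rfl
      rw [h1]
      exact (e ⟨x, hx'⟩).2
    · intro hy
      obtain ⟨x, hx⟩ := e.surjective ⟨y, hy⟩
      refine ⟨Subgroup.inclusion hP₁R' x, Subgroup.mem_subgroupOf.mpr x.2, ?_⟩
      rw [← he, hx]
  have h₁ : ∀ t : R', φ' t ∈ normalizerIn S P₂ := by
    intro t
    rw [← himg]
    exact map_mem_normalizerIn F hφ' t (hR'N t.2).2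
  -- the restriction of `N₁.φ` to `R'` and its inverse
  have hν : N₁.φ.comp (Subgroup.inclusion hR'N) ∈ F.Hom R' := restrict_mem F N₁.mem hR'N
  obtain ⟨ψ, hψ, hψr, hψ1, -⟩ := exists_inv F hν
    (rfl : (N₁.φ.comp (Subgroup.inclusion hR'N)).range = (N₁.φ.comp (Subgroup.inclusion hR'N)).range)
  have h₂ : ∀ t : (N₁.φ.comp (Subgroup.inclusion hR'N)).range, ψ t ∈ R' := fun t => hψr.le ⟨t, rfl⟩
  have hβ₁ := F.comp_mem hψ hφ' h₂
  have h₃ : ∀ t : (N₁.φ.comp (Subgroup.inclusion hR'N)).range,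
      (φ'.comp (ψ.codRestrict R' h₂)) t ∈ normalizerIn S P₂ := fun t => h₁ _
  have hβ := F.comp_mem hβ₁ N₂.mem h₃
  have hPT : Ph ≤ (N₁.φ.comp (Subgroup.inclusion hR'N)).range := by
    intro y hy
    obtain ⟨x, hx⟩ := N₁.exists_preimage hP₁S hy
    exact MonoidHom.mem_range.mpr ⟨Subgroup.inclusion hP₁R' x, hx⟩
  refine ⟨_, hPT, _, ?_, ?_, hβ, ?_⟩
  · intro heq
    have h4 : Nat.card Ph = Nat.card R' := by
      rw [heq]
      exact card_range_of_mem F hν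
    have h5 : Nat.card P₁ < Nat.card R' := card_lt_card_of_lt (lt_of_le_of_ne hP₁R' hne)
    have h6 := card_eq_of_isConj F (N₁.isConj hP₁S)
    omega
  · rintro _ ⟨t, rfl⟩
    exact N₁.maps _
  · intro y
    obtain ⟨x, rfl⟩ := (N₁.equiv hP₁S).surjective y
    have h7 : (N₁.φ.comp (Subgroup.inclusion hR'N)) (Subgroup.inclusion hP₁R' x) ∈
        (N₁.φ.comp (Subgroup.inclusion hR'N)).range := MonoidHom.mem_range.mpr ⟨_, rfl⟩
    have h8 : Subgroup.inclusion hPT ((N₁.equiv hP₁S) x) =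
        ⟨(N₁.φ.comp (Subgroup.inclusion hR'N)) (Subgroup.inclusion hP₁R' x), h7⟩ := by
      apply Subtype.ext
      exact N₁.equiv_apply hP₁S x
    rw [h8]
    have h9 : ψ.codRestrict R' h₂
        ⟨(N₁.φ.comp (Subgroup.inclusion hR'N)) (Subgroup.inclusion hP₁R' x), h7⟩ =
        Subgroup.inclusion hP₁R' x := Subtype.ext (hψ1 _ h7)
    show N₂.φ ⟨φ' (ψ.codRestrict R' h₂ _), _⟩ = _
    have h10 : ((((N₁.equiv hP₁S).symm.trans (e.trans (N₂.equiv hP₂S)))
        ((N₁.equiv hP₁S) x) : Ph) : Ω) = N₂.φ ⟨(e x : P₂), le_normalizerIn_self hP₂S (e x).2⟩ := by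
      rw [← N₂.equiv_apply hP₂S]
      simp
    rw [h10]
    congr 1
    apply Subtype.ext
    show φ' (ψ.codRestrict R' h₂ _) = ((e x : P₂) : Ω)
    rw [h9, he]

end Cfsg.Agent.Lib.Helper26
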