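import Cfsg.Agent.Lib.Helper26.SatCrit8

set_option autoImplicit false

namespace Cfsg.Agent.Lib.Helper26

open Cfsg Cfsg.FusionSystem

variable {Ω : Type*} [Group Ω] {S : Subgroup Ω}

/-- the automorphism group of a fully normalized member `Ph` of the class is generated by the
automorphisms extending to strictly larger subgroups of `N_S(Ph)` -/
theorem autGroup_le_of_extendable [Finite S] {p : ℕ} [Fact p.Prime] {F : FusionSystem S}
    {ℋ : Set (Subgroup Ω)} {P₀ : Subgroup Ω} (C : SatCtx F p ℋ P₀)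
    {Ph : Subgroup Ω} (hPh : F.IsConj P₀ Ph) (hfn : F.IsFullyNormalized Ph)
    (X : Subgroup (MulAut Ph)) (hX : ∀ α, ExtendableAut F Ph α → α ∈ X) :
    F.autGroup Ph ≤ X := by
  have hPhS : Ph ≤ S := hfn.1
  have key : ∀ (P₁ P₂ : Subgroup Ω) (e : P₁ ≃* P₂), IsIso F e → F.IsConj P₀ P₁ →
      ∀ (hP₁ : P₁ ≤ S) (hP₂ : P₂ ≤ S) (N₁ : NormalizerHom F P₁ Ph) (N₂ : NormalizerHom F P₂ Ph),
        ((N₁.equiv hP₁).symm.trans (e.trans (N₂.equiv hP₂)) : MulAut Ph) ∈ X := by
    refine hgen_iso_induction F ℋ C.hgen (fun P₁ P₂ e => F.IsConj P₀ P₁ →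
      ∀ (hP₁ : P₁ ≤ S) (hP₂ : P₂ ≤ S) (N₁ : NormalizerHom F P₁ Ph) (N₂ : NormalizerHom F P₂ Ph),
        ((N₁.equiv hP₁).symm.trans (e.trans (N₂.equiv hP₂)) : MulAut Ph) ∈ X) ?_ ?_ ?_ ?_
    · intro P₁ P₂ e g hP₁ hg he h1 hP₁' hP₂ N₁ N₂
      apply hX
      have hne : P₁ ≠ normalizerIn S P₁ := by
        intro heq
        have h2 := C.card_lt_normalizerIn h1
        rw [← heq] at h2
        exact lt_irrefl _ h2
      exact extendable_of_link F e hP₁' hP₂ (le_normalizerIn_self hP₁') hne le_rfl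
        (conjHom (normalizerIn S P₁) g) (F.conj_mem inf_le_left hg) (fun x => by rw [he]; rfl)
        N₁ N₂
    · intro P₁ P₂ P₃ e₁ e₂ he₁ he₂ h12 h23 h1 hP₁ hP₃ N₁ N₃
      have h2 : F.IsConj P₀ P₂ := isConj_trans F h1 he₁.isConj
      have hP₂ : P₂ ≤ S := isConj_le_right F h2
      obtain ⟨N₂⟩ := nonempty_normalizerHom_of_fullyNormalized C hPh hfn h2
      have ha := h12 h1 hP₁ hP₂ N₁ N₂
      have hb := h23 h2 hP₂ hP₃ N₂ N₃
      have h3 : ((N₁.equiv hP₁).symm.trans ((e₁.trans e₂).trans (N₃.equiv hP₃)) : MulAut Ph) =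
          ((N₂.equiv hP₂).symm.trans (e₂.trans (N₃.equiv hP₃)) : MulAut Ph) *
            ((N₁.equiv hP₁).symm.trans (e₁.trans (N₂.equiv hP₂)) : MulAut Ph) := by
        ext x
        simp [MulAut.mul_apply]
      rw [h3]
      exact X.mul_mem hb ha
    · intro P₁ P₂ e he h12 h2 hP₂ hP₁ N₂ N₁
      have h1 : F.IsConj P₀ P₁ := isConj_trans F h2 (isConj_symm F he.isConj)
      have ha := h12 h1 hP₁ hP₂ N₁ N₂
      have h3 : ((N₂.equiv hP₂).symm.trans (e.symm.trans (N₁.equiv hP₁)) : MulAut Ph) =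
          ((N₁.equiv hP₁).symm.trans (e.trans (N₂.equiv hP₂)) : MulAut Ph)⁻¹ := by
        rw [eq_inv_iff_mul_eq_one]
        ext x
        simp [MulAut.mul_apply]
      rw [h3]
      exact X.inv_mem ha
    · intro R hR φ hφ P₁ P₂ hP₁R e he h1 hP₁ hP₂ N₁ N₂
      apply hX
      have hRS : R ≤ S := source_le F hφ
      haveI : Finite R := finite_of_le hRS
      have hne : P₁ ≠ R := fun h => C.hP₀ℋ P₁ h1 (h ▸ hR)
      have hRp : IsPGroup p R := C.hS.to_le hRS
      obtain ⟨x, hxR, hxP, hxN⟩ := exists_normalizing_of_lt hRp hP₁R hne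
      have hle : P₁ ≤ R ⊓ normalizerIn S P₁ := le_inf hP₁R (le_normalizerIn_self hP₁)
      have hne' : P₁ ≠ R ⊓ normalizerIn S P₁ := by
        intro h
        apply hxP
        rw [h]
        exact ⟨hxR, hRS hxR, hxN⟩
      exact extendable_of_link F e hP₁ hP₂ hle hne' inf_le_right
        (φ.comp (Subgroup.inclusion inf_le_left)) (restrict_mem F hφ inf_le_left)
        (fun x => by rw [he]; rfl) N₁ N₂
  intro α hα
  have hiso : IsIso F α := (isIso_iff_mem_autGroup F hPhS α).mpr hα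
  have h1 := key Ph Ph α hiso hPh hPhS hPhS (NormalizerHom.refl F hPhS) (NormalizerHom.refl F hPhS)
  have h2 : (((NormalizerHom.refl F hPhS).equiv hPhS).symm.trans
      (MulEquiv.trans α ((NormalizerHom.refl F hPhS).equiv hPhS)) : MulAut Ph) = α := by
    have hid : ∀ y : Ph, (NormalizerHom.refl F hPhS).equiv hPhS y = y := by
      intro y
      apply Subtype.ext
      rw [NormalizerHom.equiv_apply]
      rfl
    ext x
    show ((((NormalizerHom.refl F hPhS).equiv hPhS) (α (((NormalizerHom.refl F hPhS).equiv hPhS).symm x)) : Ph) : Ω) = α x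
    rw [hid]
    have h3 : ((NormalizerHom.refl F hPhS).equiv hPhS).symm x = x := by
      rw [MulEquiv.symm_apply_eq, hid]
    rw [h3]
  rw [h2] at h1
  exact h1

end Cfsg.Agent.Lib.Helper26
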