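import Mathlib

/-!
# Self-dual modules in coprime characteristic: basic tools

Invariant subspaces of a representation carrying an invariant bilinear form, left-nondegeneracy on a
subspace, splitting off a nondegenerate invariant subspace, projections, and Maschke's theorem in
the form used later.
-/

set_option autoImplicit false

namespace Cfsg.Agent.Lib.Helper26

variable {F : Type*} [Field F] {G : Type*} [Group G] {V : Type*} [AddCommGroup V] [Module F V]

/-- `H` is invariant under the representation `ρ`. -/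
def SdInv (ρ : Representation F G V) (H : Submodule F V) : Prop :=
  ∀ g : G, ∀ u ∈ H, ρ g u ∈ H

/-- `B` is left-nondegenerate on the subspace `H`. -/
def SdNd (B : LinearMap.BilinForm F V) (H : Submodule F V) : Prop :=
  ∀ x ∈ H, (∀ y ∈ H, B x y = 0) → x = 0

/-- `B` is `ρ`-invariant on the subspace `H`. -/
def SdInvOn (ρ : Representation F G V) (B : LinearMap.BilinForm F V) (H : Submodule F V) : Prop :=
  ∀ g : G, ∀ x ∈ H, ∀ y ∈ H, B (ρ g x) (ρ g y) = B x y

theorem sdInv_bot (ρ : Representation F G V) : SdInv ρ ⊥ := by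
  intro g u hu
  rw [Submodule.mem_bot] at hu
  rw [hu, map_zero]
  exact Submodule.zero_mem _

theorem sdInv_top (ρ : Representation F G V) : SdInv ρ ⊤ := fun _ _ _ => Submodule.mem_top

theorem sdInv_sup {ρ : Representation F G V} {H K : Submodule F V} (hH : SdInv ρ H) (hK : SdInv ρ K) :
    SdInv ρ (H ⊔ K) := by
  intro g u hu
  obtain ⟨h, hh, k, hk, rfl⟩ := Submodule.mem_sup.mp hu
  rw [map_add]
  exact Submodule.add_mem_sup (hH g h hh) (hK g k hk)

theorem sdInv_inf {ρ : Representation F G V} {H K : Submodule F V} (hH : SdInv ρ H) (hK : SdInv ρ K) :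
    SdInv ρ (H ⊓ K) := by
  intro g u hu
  exact ⟨hH g u hu.1, hK g u hu.2⟩

theorem sd_rho_inv_apply (ρ : Representation F G V) (g : G) (x : V) : ρ g (ρ g⁻¹ x) = x := by
  have : (ρ g * ρ g⁻¹) x = x := by
    rw [← map_mul, mul_inv_cancel, map_one]
    rfl
  exact this

theorem sd_rho_inv_apply' (ρ : Representation F G V) (g : G) (x : V) : ρ g⁻¹ (ρ g x) = x := by
  have := sd_rho_inv_apply ρ g⁻¹ x
  rwa [inv_inv] at this

/-- Maschke: an invariant subspace has an invariant complement. -/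
theorem sd_maschke [Finite G] (ρ : Representation F G V) (hne : (Nat.card G : F) ≠ 0)
    {U : Submodule F V} (hU : SdInv ρ U) : ∃ Q : Submodule F V, SdInv ρ Q ∧ IsCompl U Q := by
  have : NeZero (Nat.card G : F) := ⟨hne⟩
  set U' : Subrepresentation ρ := ⟨U, fun g v hv => hU g v hv⟩ with hU'
  obtain ⟨Q, hQ⟩ := exists_isCompl U'
  refine ⟨Q.toSubmodule, fun g v hv => Q.apply_mem_toSubmodule g hv, ?_⟩
  have h1 : U = U'.toSubmodule := rfl
  constructor
  · rw [disjoint_iff, h1, ← Subrepresentation.toSubmodule_inf, hQ.inf_eq_bot]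
    rfl
  · rw [codisjoint_iff, h1, ← Subrepresentation.toSubmodule_sup, hQ.sup_eq_top]
    rfl

/-- Relative Maschke inside an invariant subspace `H`. -/
theorem sd_maschke_rel [Finite G] (ρ : Representation F G V) (hne : (Nat.card G : F) ≠ 0)
    {X H : Submodule F V} (hX : SdInv ρ X) (hH : SdInv ρ H) (hXH : X ≤ H) :
    ∃ Q : Submodule F V, SdInv ρ Q ∧ Q ≤ H ∧ X ⊓ Q = ⊥ ∧ X ⊔ Q = H := by
  obtain ⟨C, hC, hXC⟩ := sd_maschke ρ hne hX
  refine ⟨C ⊓ H, sdInv_inf hC hH, inf_le_right, ?_, ?_⟩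
  · rw [← inf_assoc, hXC.inf_eq_bot, bot_inf_eq]
  · rw [← sup_inf_assoc_of_le C hXH, hXC.sup_eq_top, top_inf_eq]

/-- A projection onto `M` killing a disjoint subspace `N`. -/
theorem sd_proj {M N : Submodule F V} (h : Disjoint M N) :
    ∃ π : V →ₗ[F] V, (∀ x, π x ∈ M) ∧ (∀ m ∈ M, π m = m) ∧ ∀ n ∈ N, π n = 0 := by
  obtain ⟨N', hNN', hc⟩ := h.symm.exists_isCompl
  refine ⟨M.subtype ∘ₗ Submodule.projectionOnto M N' hc.symm, ?_, ?_, ?_⟩
  · intro x
    simp
  · intro m hm
    have := Submodule.projectionOnto_apply_of_mem_left hc.symm hm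
    rw [LinearMap.comp_apply, this]
    rfl
  · intro n hn
    have : Submodule.projectionOnto M N' hc.symm n = 0 := by
      rw [Submodule.projectionOnto_apply_eq_zero_iff]
      exact hNN' hn
    rw [LinearMap.comp_apply, this, map_zero]

/-- Left representability of functionals on a subspace on which `B` is left-nondegenerate. -/
theorem sd_repr [FiniteDimensional F V] {B : LinearMap.BilinForm F V} {H₁ : Submodule F V}
    (hnd : SdNd B H₁) (h : V) : ∃ h₁ ∈ H₁, ∀ y ∈ H₁, B h₁ y = B h y := by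
  let T : ↥H₁ →ₗ[F] Module.Dual F ↥H₁ := B.restrict H₁
  have hinj : Function.Injective T := by
    rw [← LinearMap.ker_eq_bot, LinearMap.ker_eq_bot']
    intro x hx
    have := hnd x.1 x.2 (fun y hy => by
      have := LinearMap.congr_fun hx ⟨y, hy⟩
      simpa [T] using this)
    exact Subtype.ext this
  have hsurj : Function.Surjective T :=
    (LinearMap.injective_iff_surjective_of_finrank_eq_finrank
      (Subspace.dual_finrank_eq).symm).mp hinj
  obtain ⟨x, hx⟩ := hsurj ((B h).domRestrict H₁)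
  refine ⟨x.1, x.2, fun y hy => ?_⟩
  have := LinearMap.congr_fun hx ⟨y, hy⟩
  simpa [T] using this

/-- The left orthogonal of a subspace. -/
def sdLO (B : LinearMap.BilinForm F V) (H₁ : Submodule F V) : Submodule F V where
  carrier := {x | ∀ y ∈ H₁, B x y = 0}
  add_mem' := by
    intro a b ha hb y hy
    rw [map_add, LinearMap.add_apply, ha y hy, hb y hy, add_zero]
  zero_mem' := by
    intro y _
    rw [map_zero, LinearMap.zero_apply]
  smul_mem' := by
    intro c x hx y hy
    rw [map_smul, LinearMap.smul_apply, hx y hy, smul_zero]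

theorem mem_sdLO {B : LinearMap.BilinForm F V} {H₁ : Submodule F V} {x : V} :
    x ∈ sdLO B H₁ ↔ ∀ y ∈ H₁, B x y = 0 := Iff.rfl

theorem sdLO_inv {ρ : Representation F G V} {B : LinearMap.BilinForm F V}
    (hBinv : ∀ g : G, ∀ x y : V, B (ρ g x) (ρ g y) = B x y) {H₁ : Submodule F V}
    (hH₁ : SdInv ρ H₁) : SdInv ρ (sdLO B H₁) := by
  intro g x hx y hy
  have := hBinv g x (ρ g⁻¹ y)
  rw [sd_rho_inv_apply] at this
  rw [this]
  exact hx _ (hH₁ g⁻¹ y hy)

/-- Splitting off a nondegenerate invariant subspace. -/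
theorem sd_split [FiniteDimensional F V] {ρ : Representation F G V} {B : LinearMap.BilinForm F V}
    (hBinv : ∀ g : G, ∀ x y : V, B (ρ g x) (ρ g y) = B x y) {H H₁ : Submodule F V}
    (hH : SdInv ρ H) (hH₁ : SdInv ρ H₁) (hle : H₁ ≤ H) (hnd : SdNd B H) (hnd₁ : SdNd B H₁) :
    ∃ H₂ : Submodule F V, SdInv ρ H₂ ∧ H₂ ≤ H ∧ H₁ ⊓ H₂ = ⊥ ∧ H₁ ⊔ H₂ = H ∧ SdNd B H₂ := by
  have hsup : H₁ ⊔ (H ⊓ sdLO B H₁) = H := by
    apply le_antisymm
    · exact sup_le hle inf_le_left
    · intro h hh
      obtain ⟨h₁, hh₁, hrep⟩ := sd_repr hnd₁ h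
      have : h = h₁ + (h - h₁) := by abel
      rw [this]
      refine Submodule.add_mem_sup hh₁ ⟨H.sub_mem hh (hle hh₁), ?_⟩
      intro y hy
      rw [map_sub, LinearMap.sub_apply, hrep y hy, sub_self]
  refine ⟨H ⊓ sdLO B H₁, sdInv_inf hH (sdLO_inv hBinv hH₁), inf_le_left, ?_, hsup, ?_⟩
  · rw [eq_bot_iff]
    intro x hx
    rw [Submodule.mem_bot]
    exact hnd₁ x hx.1 (fun y hy => hx.2.2 y hy)
  · intro x hx hx0
    apply hnd x hx.1
    intro y hy
    rw [← hsup] at hy
    obtain ⟨y₁, hy₁, y₂, hy₂, rfl⟩ := Submodule.mem_sup.mp hy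
    rw [map_add, hx.2 y₁ hy₁, hx0 y₂ hy₂, add_zero]

end Cfsg.Agent.Lib.Helper26
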