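import Cfsg.Agent.Lib.Helper26.SelfDual

/-!
# Self-dual modules: the decomposition predicate and how to combine decompositions
-/

set_option autoImplicit false

namespace Cfsg.Agent.Lib.Helper26

variable {F : Type*} [Field F] {G : Type*} [Group G] {V : Type*} [AddCommGroup V] [Module F V]

/-- Sum of two forms along a direct decomposition. -/
theorem sd_form_sum {ρ : Representation F G V} {U₁ U₂ : Submodule F V} (hd : Disjoint U₁ U₂)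
    (hU₁ : SdInv ρ U₁) (hU₂ : SdInv ρ U₂) {C₁ C₂ : LinearMap.BilinForm F V}
    (hi₁ : SdInvOn ρ C₁ U₁) (hi₂ : SdInvOn ρ C₂ U₂) (hn₁ : SdNd C₁ U₁) (hn₂ : SdNd C₂ U₂) :
    ∃ (C : LinearMap.BilinForm F V) (π₁ π₂ : V →ₗ[F] V),
      (∀ x y, C x y = C₁ (π₁ x) (π₁ y) + C₂ (π₂ x) (π₂ y)) ∧
      SdInvOn ρ C (U₁ ⊔ U₂) ∧ SdNd C (U₁ ⊔ U₂) := by
  obtain ⟨π₁, _, h1b, h1c⟩ := sd_proj hd
  obtain ⟨π₂, _, h2b, h2c⟩ := sd_proj hd.symm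
  have hπ₁ : ∀ u₁ ∈ U₁, ∀ u₂ ∈ U₂, π₁ (u₁ + u₂) = u₁ := by
    intro u₁ hu₁ u₂ hu₂
    rw [map_add, h1b u₁ hu₁, h1c u₂ hu₂, add_zero]
  have hπ₂ : ∀ u₁ ∈ U₁, ∀ u₂ ∈ U₂, π₂ (u₁ + u₂) = u₂ := by
    intro u₁ hu₁ u₂ hu₂
    rw [map_add, h2c u₁ hu₁, h2b u₂ hu₂, zero_add]
  refine ⟨C₁.comp π₁ π₁ + C₂.comp π₂ π₂, π₁, π₂, fun x y => rfl, ?_, ?_⟩
  · intro g x hx y hy
    obtain ⟨u₁, hu₁, u₂, hu₂, rfl⟩ := Submodule.mem_sup.mp hx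
    obtain ⟨v₁, hv₁, v₂, hv₂, rfl⟩ := Submodule.mem_sup.mp hy
    show C₁ (π₁ _) (π₁ _) + C₂ (π₂ _) (π₂ _) = C₁ (π₁ _) (π₁ _) + C₂ (π₂ _) (π₂ _)
    rw [map_add (ρ g), map_add (ρ g), hπ₁ _ (hU₁ g _ hu₁) _ (hU₂ g _ hu₂),
      hπ₁ _ (hU₁ g _ hv₁) _ (hU₂ g _ hv₂), hπ₂ _ (hU₁ g _ hu₁) _ (hU₂ g _ hu₂),
      hπ₂ _ (hU₁ g _ hv₁) _ (hU₂ g _ hv₂), hπ₁ _ hu₁ _ hu₂, hπ₁ _ hv₁ _ hv₂, hπ₂ _ hu₁ _ hu₂,
      hπ₂ _ hv₁ _ hv₂, hi₁ g _ hu₁ _ hv₁, hi₂ g _ hu₂ _ hv₂]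
  · intro x hx hx0
    obtain ⟨u₁, hu₁, u₂, hu₂, rfl⟩ := Submodule.mem_sup.mp hx
    have e1 : u₁ = 0 := by
      apply hn₁ u₁ hu₁
      intro y hy
      have := hx0 y (Submodule.mem_sup_left hy)
      change C₁ (π₁ _) (π₁ _) + C₂ (π₂ _) (π₂ _) = 0 at this
      rw [hπ₁ _ hu₁ _ hu₂, hπ₂ _ hu₁ _ hu₂, h1b y hy, h2c y hy, map_zero, add_zero] at this
      exact this
    have e2 : u₂ = 0 := by
      apply hn₂ u₂ hu₂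
      intro y hy
      have := hx0 y (Submodule.mem_sup_right hy)
      change C₁ (π₁ _) (π₁ _) + C₂ (π₂ _) (π₂ _) = 0 at this
      rw [hπ₁ _ hu₁ _ hu₂, hπ₂ _ hu₁ _ hu₂, h1c y hy, h2b y hy, map_zero, zero_add] at this
      exact this
    rw [e1, e2, add_zero]

/-- The decomposition predicate for an invariant subspace `H`. -/
def SdGood (p : ℕ) (ρ : Representation F G V) (H : Submodule F V) : Prop :=
  ∃ U W : Submodule F V, U ⊓ W = ⊥ ∧ U ⊔ W = H ∧ SdInv ρ U ∧ SdInv ρ W ∧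
    (∃ A : LinearMap.BilinForm F V, (∀ x, A x x = 0) ∧ SdInvOn ρ A U ∧ SdNd A U) ∧
    (∃ S : LinearMap.BilinForm F V, (∀ x y, S x y = S y x) ∧ SdInvOn ρ S W ∧ SdNd S W) ∧
    (p = 2 → ∀ g : G, ∀ w ∈ W, ρ g w = w)

theorem sdInvOn_zero (ρ : Representation F G V) (H : Submodule F V) :
    SdInvOn ρ (0 : LinearMap.BilinForm F V) H := fun _ _ _ _ _ => rfl

theorem sdNd_bot (C : LinearMap.BilinForm F V) : SdNd C ⊥ := by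
  intro x hx _
  exact (Submodule.mem_bot F).mp hx

theorem sdGood_bot (p : ℕ) (ρ : Representation F G V) : SdGood p ρ ⊥ := by
  refine ⟨⊥, ⊥, bot_inf_eq _, bot_sup_eq _, sdInv_bot ρ, sdInv_bot ρ,
    ⟨0, fun _ => rfl, sdInvOn_zero ρ _, sdNd_bot _⟩, ⟨0, fun _ _ => rfl, sdInvOn_zero ρ _, sdNd_bot _⟩, ?_⟩
  intro _ g w hw
  rw [(Submodule.mem_bot F).mp hw, map_zero]

/-- A subspace carrying an alternating nondegenerate invariant form is good. -/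
theorem sdGood_of_alt (p : ℕ) {ρ : Representation F G V} {H : Submodule F V} (hH : SdInv ρ H)
    {A : LinearMap.BilinForm F V} (ha : ∀ x, A x x = 0) (hi : SdInvOn ρ A H) (hn : SdNd A H) :
    SdGood p ρ H := by
  refine ⟨H, ⊥, inf_bot_eq _, sup_bot_eq _, hH, sdInv_bot ρ, ⟨A, ha, hi, hn⟩,
    ⟨0, fun _ _ => rfl, sdInvOn_zero ρ _, sdNd_bot _⟩, ?_⟩
  intro _ g w hw
  rw [(Submodule.mem_bot F).mp hw, map_zero]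

/-- A subspace carrying a symmetric nondegenerate invariant form is good (trivial action needed for `p = 2`). -/
theorem sdGood_of_symm (p : ℕ) {ρ : Representation F G V} {H : Submodule F V} (hH : SdInv ρ H)
    {S : LinearMap.BilinForm F V} (hs : ∀ x y, S x y = S y x) (hi : SdInvOn ρ S H) (hn : SdNd S H)
    (htriv : p = 2 → ∀ g : G, ∀ w ∈ H, ρ g w = w) :
    SdGood p ρ H :=
  ⟨⊥, H, bot_inf_eq _, bot_sup_eq _, sdInv_bot ρ, hH, ⟨0, fun _ => rfl, sdInvOn_zero ρ _, sdNd_bot _⟩,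
    ⟨S, hs, hi, hn⟩, htriv⟩

/-- Combining decompositions of two independent subspaces. -/
theorem sd_combine {p : ℕ} {ρ : Representation F G V} {H₁ H₂ : Submodule F V} (hd : H₁ ⊓ H₂ = ⊥)
    (h₁ : SdGood p ρ H₁) (h₂ : SdGood p ρ H₂) : SdGood p ρ (H₁ ⊔ H₂) := by
  obtain ⟨U₁, W₁, hUW₁, hsup₁, hU₁, hW₁, ⟨A₁, ha₁, hai₁, han₁⟩, ⟨S₁, hs₁, hsi₁, hsn₁⟩, ht₁⟩ := h₁
  obtain ⟨U₂, W₂, hUW₂, hsup₂, hU₂, hW₂, ⟨A₂, ha₂, hai₂, han₂⟩, ⟨S₂, hs₂, hsi₂, hsn₂⟩, ht₂⟩ := h₂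
  have hU₁H : U₁ ≤ H₁ := hsup₁ ▸ le_sup_left
  have hW₁H : W₁ ≤ H₁ := hsup₁ ▸ le_sup_right
  have hU₂H : U₂ ≤ H₂ := hsup₂ ▸ le_sup_left
  have hW₂H : W₂ ≤ H₂ := hsup₂ ▸ le_sup_right
  have hdU : Disjoint U₁ U₂ := by
    rw [disjoint_iff, eq_bot_iff, ← hd]
    exact inf_le_inf hU₁H hU₂H
  have hdW : Disjoint W₁ W₂ := by
    rw [disjoint_iff, eq_bot_iff, ← hd]
    exact inf_le_inf hW₁H hW₂H
  obtain ⟨A, π₁, π₂, hA, hAi, hAn⟩ := sd_form_sum hdU hU₁ hU₂ hai₁ hai₂ han₁ han₂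
  obtain ⟨S, τ₁, τ₂, hS, hSi, hSn⟩ := sd_form_sum hdW hW₁ hW₂ hsi₁ hsi₂ hsn₁ hsn₂
  refine ⟨U₁ ⊔ U₂, W₁ ⊔ W₂, ?_, ?_, sdInv_sup hU₁ hU₂, sdInv_sup hW₁ hW₂, ⟨A, ?_, hAi, hAn⟩,
    ⟨S, ?_, hSi, hSn⟩, ?_⟩
  · rw [eq_bot_iff]
    intro x hx
    obtain ⟨u₁, hu₁, u₂, hu₂, hxu⟩ := Submodule.mem_sup.mp hx.1
    obtain ⟨w₁, hw₁, w₂, hw₂, hxw⟩ := Submodule.mem_sup.mp hx.2
    have hmem : u₁ - w₁ ∈ H₁ ⊓ H₂ := by
      refine ⟨H₁.sub_mem (hU₁H hu₁) (hW₁H hw₁), ?_⟩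
      have : u₁ - w₁ = w₂ - u₂ := by
        have := hxu.trans hxw.symm
        rw [sub_eq_sub_iff_add_eq_add, this, add_comm]
      rw [this]
      exact H₂.sub_mem (hW₂H hw₂) (hU₂H hu₂)
    rw [hd, Submodule.mem_bot, sub_eq_zero] at hmem
    have hu₁0 : u₁ = 0 := by
      have : u₁ ∈ U₁ ⊓ W₁ := ⟨hu₁, hmem ▸ hw₁⟩
      rwa [hUW₁, Submodule.mem_bot] at this
    have hu₂w₂ : u₂ = w₂ := by
      have := hxu.trans hxw.symm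
      rw [hmem] at this
      exact add_left_cancel this
    have hu₂0 : u₂ = 0 := by
      have : u₂ ∈ U₂ ⊓ W₂ := ⟨hu₂, hu₂w₂ ▸ hw₂⟩
      rwa [hUW₂, Submodule.mem_bot] at this
    rw [Submodule.mem_bot, ← hxu, hu₁0, hu₂0, add_zero]
  · rw [sup_sup_sup_comm, hsup₁, hsup₂]
  · intro x
    rw [hA, ha₁, ha₂, add_zero]
  · intro x y
    rw [hS, hS, hs₁ (τ₁ x), hs₂ (τ₂ x)]
  · intro hp g w hw
    obtain ⟨w₁, hw₁, w₂, hw₂, rfl⟩ := Submodule.mem_sup.mp hw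
    rw [map_add, ht₁ hp g w₁ hw₁, ht₂ hp g w₂ hw₂]

end Cfsg.Agent.Lib.Helper26
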