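import Cfsg.Agent.Lib.Helper26.SelfDual2

/-!
# Self-dual modules: the irreducible case
-/

set_option autoImplicit false

namespace Cfsg.Agent.Lib.Helper26

variable {F : Type*} [Field F] {G : Type*} [Group G] {V : Type*} [AddCommGroup V] [Module F V]

/-- `H` is an irreducible invariant subspace (possibly zero). -/
def SdIrr (ρ : Representation F G V) (H : Submodule F V) : Prop :=
  ∀ K : Submodule F V, K ≤ H → SdInv ρ K → K = ⊥ ∨ K = H

/-- A nonzero invariant form is nondegenerate on an irreducible subspace. -/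
theorem sd_nd_of_irr {ρ : Representation F G V} {C : LinearMap.BilinForm F V}
    (hC : ∀ g : G, ∀ x y : V, C (ρ g x) (ρ g y) = C x y) {H : Submodule F V} (hH : SdInv ρ H)
    (hirr : SdIrr ρ H) (hne : ∃ x ∈ H, ∃ y ∈ H, C x y ≠ 0) : SdNd C H := by
  rcases hirr (H ⊓ sdLO C H) inf_le_left (sdInv_inf hH (sdLO_inv hC hH)) with h | h
  · intro x hx hx0
    have : x ∈ H ⊓ sdLO C H := ⟨hx, hx0⟩
    rwa [h, Submodule.mem_bot] at this
  · exfalso
    obtain ⟨x, hx, y, hy, hxy⟩ := hne
    have : x ∈ H ⊓ sdLO C H := by rw [h]; exact hx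
    exact hxy (this.2 y hy)

theorem sd_two_eq_zero (p : ℕ) [CharP F p] (hp : p = 2) : (2 : F) = 0 := by
  subst hp
  have := CharP.cast_eq_zero F 2
  exact_mod_cast this

theorem sd_two_ne_zero (p : ℕ) [Fact p.Prime] [CharP F p] (hp : p ≠ 2) : (2 : F) ≠ 0 := by
  intro h
  have h2 : ((2 : ℕ) : F) = 0 := by exact_mod_cast h
  rw [CharP.cast_eq_zero_iff F p 2] at h2
  rcases (Nat.prime_two.eq_one_or_self_of_dvd p h2) with h1 | h1
  · exact (Fact.out : p.Prime).one_lt.ne' h1
  · exact hp h1

/-- The irreducible case. -/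
theorem sd_good_irr (p : ℕ) [Fact p.Prime] [CharP F p] {ρ : Representation F G V}
    {B : LinearMap.BilinForm F V} (hBinv : ∀ g : G, ∀ x y : V, B (ρ g x) (ρ g y) = B x y)
    {H : Submodule F V} (hH : SdInv ρ H) (hirr : SdIrr ρ H) (hnd : SdNd B H) : SdGood p ρ H := by
  obtain ⟨π, hπ1, hπ2, _⟩ := sd_proj (disjoint_bot_right : Disjoint H ⊥)
  have hcompInv : SdInvOn ρ (B.comp π π) H := by
    intro g x hx y hy
    show B (π _) (π _) = B (π _) (π _)
    rw [hπ2 _ (hH g x hx), hπ2 _ (hH g y hy), hπ2 x hx, hπ2 y hy, hBinv]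
  have hcompNd : SdNd (B.comp π π) H := by
    intro x hx hx0
    apply hnd x hx
    intro y hy
    have := hx0 y hy
    change B (π _) (π _) = 0 at this
    rwa [hπ2 x hx, hπ2 y hy] at this
  by_cases halt : ∀ x ∈ H, B x x = 0
  · exact sdGood_of_alt p hH (A := B.comp π π) (fun x => halt _ (hπ1 x)) hcompInv hcompNd
  · push Not at halt
    obtain ⟨x₀, hx₀, hx₀0⟩ := halt
    by_cases hp : p = 2
    · have h2 : (2 : F) = 0 := sd_two_eq_zero p hp
      by_cases hsym : ∀ x ∈ H, ∀ y ∈ H, B x y = B y x
      · let Z : Submodule F V :=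
          { carrier := {x | x ∈ H ∧ B x x = 0}
            add_mem' := by
              rintro a b ⟨ha, ha0⟩ ⟨hb, hb0⟩
              refine ⟨H.add_mem ha hb, ?_⟩
              simp only [map_add, LinearMap.add_apply]
              linear_combination ha0 + hb0 + hsym b hb a ha + B a b * h2
            zero_mem' := ⟨H.zero_mem, by simp⟩
            smul_mem' := by
              rintro c x ⟨hx, hx0⟩
              refine ⟨H.smul_mem c hx, ?_⟩
              simp only [map_smul, LinearMap.smul_apply, smul_eq_mul, hx0, mul_zero] }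
        have hZH : Z ≤ H := fun x hx => hx.1
        have hZinv : SdInv ρ Z := by
          rintro g x ⟨hx, hx0⟩
          exact ⟨hH g x hx, by rw [hBinv, hx0]⟩
        have hZ : Z = ⊥ := by
          rcases hirr Z hZH hZinv with h | h
          · exact h
          · exfalso
            have : x₀ ∈ Z := by rw [h]; exact hx₀
            exact hx₀0 this.2
        refine sdGood_of_symm p hH (S := B.comp π π) (fun x y => hsym _ (hπ1 x) _ (hπ1 y)) hcompInv
          hcompNd ?_
        intro _ g w hw
        have hmem : ρ g w - w ∈ Z := by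
          refine ⟨H.sub_mem (hH g w hw) hw, ?_⟩
          simp only [map_sub, LinearMap.sub_apply]
          linear_combination hBinv g w w - hsym w hw _ (hH g w hw) + (B w w - B (ρ g w) w) * h2
        rw [hZ, Submodule.mem_bot, sub_eq_zero] at hmem
        exact hmem
      · push Not at hsym
        obtain ⟨x, hx, y, hy, hxy⟩ := hsym
        have hAinv : ∀ g : G, ∀ x y : V, (B - B.flip) (ρ g x) (ρ g y) = (B - B.flip) x y := by
          intro g x y
          simp only [LinearMap.sub_apply, LinearMap.BilinForm.flip_apply, hBinv]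
        refine sdGood_of_alt p hH (A := B - B.flip) ?_ (fun g x _ y _ => hAinv g x y) ?_
        · intro x
          simp only [LinearMap.sub_apply, LinearMap.BilinForm.flip_apply, sub_self]
        · apply sd_nd_of_irr hAinv hH hirr
          refine ⟨x, hx, y, hy, ?_⟩
          simp only [LinearMap.sub_apply, LinearMap.BilinForm.flip_apply]
          exact sub_ne_zero.mpr hxy
    · have h2 : (2 : F) ≠ 0 := sd_two_ne_zero p hp
      have hSinv : ∀ g : G, ∀ x y : V, (B + B.flip) (ρ g x) (ρ g y) = (B + B.flip) x y := by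
        intro g x y
        simp only [LinearMap.add_apply, LinearMap.BilinForm.flip_apply, hBinv]
      refine sdGood_of_symm p hH (S := B + B.flip) ?_ (fun g x _ y _ => hSinv g x y) ?_
        (fun h => absurd h hp)
      · intro x y
        simp only [LinearMap.add_apply, LinearMap.BilinForm.flip_apply]
        exact add_comm _ _
      · apply sd_nd_of_irr hSinv hH hirr
        refine ⟨x₀, hx₀, x₀, hx₀, ?_⟩
        simp only [LinearMap.add_apply, LinearMap.BilinForm.flip_apply]
        have : B x₀ x₀ + B x₀ x₀ = 2 * B x₀ x₀ := by ring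
        rw [this]
        exact mul_ne_zero h2 hx₀0

end Cfsg.Agent.Lib.Helper26
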