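import Cfsg.Agent.Lib.Helper26.SelfDual3

/-!
# Self-dual modules: the indecomposable case and the induction
-/

set_option autoImplicit false

namespace Cfsg.Agent.Lib.Helper26

variable {F : Type*} [Field F] {G : Type*} [Group G] {V : Type*} [AddCommGroup V] [Module F V]

/-- A nonzero invariant subspace contains a minimal nonzero invariant subspace. -/
theorem sd_exists_min [FiniteDimensional F V] {ρ : Representation F G V} {R : Submodule F V}
    (hR : SdInv ρ R) (hne : R ≠ ⊥) :
    ∃ M : Submodule F V, M ≤ R ∧ SdInv ρ M ∧ M ≠ ⊥ ∧ SdIrr ρ M := by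
  have hwf : WellFounded ((· < ·) : Submodule F V → Submodule F V → Prop) := wellFounded_lt
  obtain ⟨M, ⟨hMR, hMinv, hMne⟩, hmin⟩ :=
    hwf.has_min {K : Submodule F V | K ≤ R ∧ SdInv ρ K ∧ K ≠ ⊥} ⟨R, le_refl R, hR, hne⟩
  refine ⟨M, hMR, hMinv, hMne, ?_⟩
  intro K hKM hKinv
  by_cases hK : K = ⊥
  · exact Or.inl hK
  · right
    by_contra hKne
    exact hmin K ⟨hKM.trans hMR, hKinv, hK⟩ (lt_of_le_of_ne hKM hKne)

/-- The indecomposable, reducible case: the subspace is hyperbolic. -/
theorem sd_good_indec [Finite G] [FiniteDimensional F V] (p : ℕ) {ρ : Representation F G V}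
    (hne : (Nat.card G : F) ≠ 0) {B : LinearMap.BilinForm F V}
    (hBinv : ∀ g : G, ∀ x y : V, B (ρ g x) (ρ g y) = B x y) {H : Submodule F V} (hH : SdInv ρ H)
    (hnd : SdNd B H)
    (hindec : ∀ K : Submodule F V, K ≤ H → SdInv ρ K → SdNd B K → K = ⊥ ∨ K = H)
    (hnirr : ¬ SdIrr ρ H) : SdGood p ρ H := by
  have hAinv : ∀ g : G, ∀ x y : V, (B - B.flip) (ρ g x) (ρ g y) = (B - B.flip) x y := by
    intro g x y
    simp only [LinearMap.sub_apply, LinearMap.BilinForm.flip_apply, hBinv]
  have hAalt : ∀ x : V, (B - B.flip) x x = 0 := by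
    intro x
    simp only [LinearMap.sub_apply, LinearMap.BilinForm.flip_apply, sub_self]
  have hR₀inv : SdInv ρ (H ⊓ sdLO (B - B.flip) H) := sdInv_inf hH (sdLO_inv hAinv hH)
  by_cases hR : H ⊓ sdLO (B - B.flip) H = ⊥
  · refine sdGood_of_alt p hH (A := B - B.flip) hAalt (fun g x _ y _ => hAinv g x y) ?_
    intro x hx hx0
    have : x ∈ H ⊓ sdLO (B - B.flip) H := ⟨hx, hx0⟩
    rwa [hR, Submodule.mem_bot] at this
  · obtain ⟨M, hMR, hMinv, hMne, hMirr⟩ := sd_exists_min hR₀inv hR
    have hMH : M ≤ H := hMR.trans inf_le_left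
    have hMsym : ∀ m ∈ M, ∀ y ∈ H, B m y = B y m := by
      intro m hm y hy
      have := (hMR hm).2 y hy
      simp only [LinearMap.sub_apply, LinearMap.BilinForm.flip_apply] at this
      exact sub_eq_zero.mp this
    have hMneH : M ≠ H := by
      intro h
      rw [h] at hMirr
      exact hnirr hMirr
    have hMnd : ¬ SdNd B M := by
      intro h
      rcases hindec M hMH hMinv h with h1 | h1
      · exact hMne h1
      · exact hMneH h1
    have hMM : ∀ m ∈ M, ∀ n ∈ M, B m n = 0 := by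
      unfold SdNd at hMnd
      push Not at hMnd
      obtain ⟨x, hx, hx0, hxne⟩ := hMnd
      rcases hMirr (M ⊓ sdLO B M) inf_le_left (sdInv_inf hMinv (sdLO_inv hBinv hMinv)) with h | h
      · exfalso
        have : x ∈ M ⊓ sdLO B M := ⟨hx, hx0⟩
        rw [h, Submodule.mem_bot] at this
        exact hxne this
      · intro m hm n hn
        have : m ∈ M ⊓ sdLO B M := by rw [h]; exact hm
        exact this.2 n hn
    have hXinv : SdInv ρ (H ⊓ sdLO B M) := sdInv_inf hH (sdLO_inv hBinv hMinv)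
    have hMX : M ≤ H ⊓ sdLO B M := fun m hm => ⟨hMH hm, fun n hn => hMM m hm n hn⟩
    obtain ⟨M', hM'inv, hM'H, hXM', hXsup⟩ :=
      sd_maschke_rel ρ hne hXinv hH (inf_le_left : H ⊓ sdLO B M ≤ H)
    have hkey : ∀ m ∈ M, (∀ n' ∈ M', B m n' = 0) → m = 0 := by
      intro m hm h0
      apply hnd m (hMH hm)
      intro y hy
      rw [← hXsup] at hy
      obtain ⟨x', hx', n', hn', rfl⟩ := Submodule.mem_sup.mp hy
      rw [map_add, h0 n' hn', add_zero, hMsym m hm x' hx'.1]
      exact hx'.2 m hm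
    have hkey' : ∀ m' ∈ M', (∀ n ∈ M, B m' n = 0) → m' = 0 := by
      intro m' hm' h0
      have : m' ∈ (H ⊓ sdLO B M) ⊓ M' := ⟨⟨hM'H hm', h0⟩, hm'⟩
      rwa [hXM', Submodule.mem_bot] at this
    have hTH : M ⊔ M' ≤ H := sup_le hMH hM'H
    have hTnd : SdNd B (M ⊔ M') := by
      intro x hx hx0
      obtain ⟨m, hm, m', hm', rfl⟩ := Submodule.mem_sup.mp hx
      have e1 : m' = 0 := by
        apply hkey' m' hm'
        intro n hn
        have := hx0 n (Submodule.mem_sup_left hn)
        rw [map_add, LinearMap.add_apply, hMM m hm n hn, zero_add] at this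
        exact this
      subst e1
      rw [add_zero] at hx0 ⊢
      exact hkey m hm (fun n' hn' => hx0 n' (Submodule.mem_sup_right hn'))
    have hT : M ⊔ M' = H := by
      rcases hindec (M ⊔ M') hTH (sdInv_sup hMinv hM'inv) hTnd with h | h
      · exfalso
        apply hMne
        rw [eq_bot_iff, ← h]
        exact le_sup_left
      · exact h
    have hdisj : Disjoint M M' := by
      rw [disjoint_iff, eq_bot_iff, ← hXM']
      exact inf_le_inf_right _ hMX
    obtain ⟨π, _, hπb, hπc⟩ := sd_proj hdisj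
    obtain ⟨π', _, hπ'b, hπ'c⟩ := sd_proj hdisj.symm
    have hπ : ∀ m ∈ M, ∀ m' ∈ M', π (m + m') = m := by
      intro m hm m' hm'
      rw [map_add, hπb m hm, hπc m' hm', add_zero]
    have hπ' : ∀ m ∈ M, ∀ m' ∈ M', π' (m + m') = m' := by
      intro m hm m' hm'
      rw [map_add, hπ'c m hm, hπ'b m' hm', zero_add]
    have hAdef : ∀ x y : V, (B.comp π π' - (B.comp π π').flip) x y
        = B (π x) (π' y) - B (π y) (π' x) := fun x y => rfl
    refine sdGood_of_alt p hH (A := B.comp π π' - (B.comp π π').flip) ?_ ?_ ?_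
    · intro x
      rw [hAdef, sub_self]
    · intro g x hx y hy
      rw [← hT] at hx hy
      obtain ⟨m, hm, m', hm', rfl⟩ := Submodule.mem_sup.mp hx
      obtain ⟨n, hn, n', hn', rfl⟩ := Submodule.mem_sup.mp hy
      rw [hAdef, hAdef, map_add (ρ g), map_add (ρ g), hπ _ (hMinv g m hm) _ (hM'inv g m' hm'),
        hπ _ (hMinv g n hn) _ (hM'inv g n' hn'), hπ' _ (hMinv g m hm) _ (hM'inv g m' hm'),
        hπ' _ (hMinv g n hn) _ (hM'inv g n' hn'), hπ m hm m' hm', hπ n hn n' hn', hπ' m hm m' hm',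
        hπ' n hn n' hn', hBinv, hBinv]
    · intro x hx hx0
      rw [← hT] at hx
      obtain ⟨m, hm, m', hm', rfl⟩ := Submodule.mem_sup.mp hx
      have e1 : m' = 0 := by
        apply hkey' m' hm'
        intro n hn
        have := hx0 n (hMH hn)
        rw [hAdef, hπ m hm m' hm', hπ' m hm m' hm', hπb n hn, hπ'c n hn, map_zero, zero_sub,
          neg_eq_zero, hMsym n hn m' (hM'H hm')] at this
        exact this
      subst e1
      rw [add_zero] at hx0 ⊢
      apply hkey m hm
      intro n' hn'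
      have := hx0 n' (hM'H hn')
      rw [hAdef, hπb m hm, hπ'c m hm, hπc n' hn', hπ'b n' hn', map_zero, sub_zero] at this
      exact this

/-- The induction: every invariant subspace on which `B` is nondegenerate is good. -/
theorem sd_main [Finite G] [FiniteDimensional F V] (p : ℕ) [Fact p.Prime] [CharP F p]
    {ρ : Representation F G V} (hne : (Nat.card G : F) ≠ 0) {B : LinearMap.BilinForm F V}
    (hBinv : ∀ g : G, ∀ x y : V, B (ρ g x) (ρ g y) = B x y) :
    ∀ n : ℕ, ∀ H : Submodule F V, Module.finrank F H = n → SdInv ρ H → SdNd B H →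
      SdGood p ρ H := by
  intro n
  induction n using Nat.strong_induction_on with
  | _ n ih =>
    intro H hn hH hnd
    by_cases hdec : ∃ H₁ : Submodule F V, H₁ ≤ H ∧ SdInv ρ H₁ ∧ SdNd B H₁ ∧ H₁ ≠ ⊥ ∧ H₁ ≠ H
    · obtain ⟨H₁, hle, hH₁, hnd₁, hne₁, hneH⟩ := hdec
      obtain ⟨H₂, hH₂, hle₂, hinf, hsup, hnd₂⟩ := sd_split hBinv hH hH₁ hle hnd hnd₁
      have hlt₁ : Module.finrank F H₁ < n := by
        rw [← hn]
        exact Submodule.finrank_lt_finrank_of_lt (lt_of_le_of_ne hle hneH)
      have hlt₂ : Module.finrank F H₂ < n := by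
        rw [← hn]
        apply Submodule.finrank_lt_finrank_of_lt
        apply lt_of_le_of_ne hle₂
        intro h
        apply hne₁
        rw [← hinf, h]
        exact (inf_eq_left.mpr hle).symm
      have g₁ := ih _ hlt₁ H₁ rfl hH₁ hnd₁
      have g₂ := ih _ hlt₂ H₂ rfl hH₂ hnd₂
      rw [← hsup]
      exact sd_combine hinf g₁ g₂
    · push Not at hdec
      have hindec : ∀ K : Submodule F V, K ≤ H → SdInv ρ K → SdNd B K → K = ⊥ ∨ K = H := by
        intro K hK hKinv hKnd
        by_cases hKb : K = ⊥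
        · exact Or.inl hKb
        · exact Or.inr (hdec K hK hKinv hKnd hKb)
      by_cases hirr : SdIrr ρ H
      · exact sd_good_irr p hBinv hH hirr hnd
      · exact sd_good_indec p hne hBinv hH hnd hindec hirr

end Cfsg.Agent.Lib.Helper26
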