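import Cfsg.Agent.Lib.Helper26.SelfDualField

/-!
# Self-dual faithful irreducible modules of finite abelian groups over finite fields

The module is identified with the residue field `K = F[H] ⧸ I` of the group algebra, on which `H`
acts by multiplication, and the field-theoretic core applies.
-/

set_option autoImplicit false

namespace Cfsg.Agent.Lib.Helper26

open scoped MonoidAlgebra

section one

variable {F : Type*} [Field F] {H : Type*} [Group H]
  {V : Type*} [AddCommGroup V] [Module F V]

/-- Dimension one: a self-dual faithful module forces `|H| ≤ 2`. -/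
theorem sda_one (ρ : Representation F H V) (hfaith : Function.Injective ρ)
    (h1 : Module.finrank F V = 1) (B : LinearMap.BilinForm F V) (hB : B.Nondegenerate)
    (hBinv : ∀ h : H, ∀ x y : V, B (ρ h x) (ρ h y) = B x y) : Nat.card H ≤ 2 := by
  classical
  obtain ⟨v₀, hv₀, hspan⟩ := finrank_eq_one_iff'.mp h1
  choose c hc using fun h : H => hspan (ρ h v₀)
  have hB0 : B v₀ v₀ ≠ 0 := by
    intro h0
    apply hv₀
    apply hB.1
    intro w
    obtain ⟨a, rfl⟩ := hspan w
    rw [map_smul, h0, smul_zero]
  have hsq : ∀ h : H, c h * c h = 1 := by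
    intro h
    have := hBinv h v₀ v₀
    rw [← hc h] at this
    simp only [map_smul, LinearMap.smul_apply, smul_eq_mul] at this
    rw [← mul_assoc] at this
    exact mul_right_cancel₀ hB0 (this.trans (one_mul _).symm)
  have hact : ∀ h : H, ∀ w : V, ρ h w = c h • w := by
    intro h w
    obtain ⟨a, rfl⟩ := hspan w
    rw [map_smul, ← hc h, smul_comm]
  have hval : ∀ h : H, c h = 1 ∨ c h = -1 := fun h => mul_self_eq_one_iff.mp (hsq h)
  let f : H → Bool := fun h => decide (c h = 1)
  have hf : Function.Injective f := by
    intro h h' hh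
    have hcc : c h = c h' := by
      have hiff : c h = 1 ↔ c h' = 1 := by
        have := hh
        simp only [f, decide_eq_decide] at this
        exact this
      rcases hval h with e1 | e1
      · rw [e1, hiff.mp e1]
      · rcases hval h' with e2 | e2
        · rw [hiff.mpr e2, e2]
        · rw [e1, e2]
    apply hfaith
    ext w
    rw [hact, hact, hcc]
  have := Nat.card_le_card_of_injective f hf
  simpa using this


end one

variable {F : Type*} [Field F] [Fintype F] {H : Type*} [CommGroup H] [Finite H]
  {V : Type*} [AddCommGroup V] [Module F V] [FiniteDimensional F V]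

theorem sda_simple (ρ : Representation F H V) [Nontrivial V]
    (hirr : ∀ U : Submodule F V, (∀ h : H, ∀ u ∈ U, ρ h u ∈ U) → U = ⊥ ∨ U = ⊤) :
    IsSimpleModule F[H] ρ.asModule := by
  rw [← Representation.irreducible_iff_isSimpleModule_asModule]
  refine { exists_pair_ne := ⟨⊥, ⊤, ?_⟩, eq_bot_or_eq_top := ?_ }
  · intro h
    have := congrArg Subrepresentation.toSubmodule h
    exact bot_ne_top this
  · intro σ
    rcases hirr σ.toSubmodule (fun h u hu => σ.apply_mem_toSubmodule h hu) with h | h
    · left
      exact Subrepresentation.toSubmodule_injective h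
    · right
      exact Subrepresentation.toSubmodule_injective h

theorem sda_main (ρ : Representation F H V) [Nontrivial V] (hfaith : Function.Injective ρ)
    (hirr : ∀ U : Submodule F V, (∀ h : H, ∀ u ∈ U, ρ h u ∈ U) → U = ⊥ ∨ U = ⊤)
    (hn : 2 ≤ Module.finrank F V) :
    (∃ B : LinearMap.BilinForm F V, B.Nondegenerate ∧
      ∀ h : H, ∀ x y : V, B (ρ h x) (ρ h y) = B x y) ↔
    (Even (Module.finrank F V) ∧
      Nat.card H ∣ Fintype.card F ^ (Module.finrank F V / 2) + 1) := by
  have hsimple := sda_simple ρ hirr
  obtain ⟨I, hI, ⟨e₀⟩⟩ := isSimpleModule_iff_quot_maximal.mp hsimple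
  letI : Field (F[H] ⧸ I) := Ideal.Quotient.field I
  let lam : H →* (F[H] ⧸ I) := (Ideal.Quotient.mk I).toMonoidHom.comp (MonoidAlgebra.of F H)
  let e : V ≃ₗ[F] (F[H] ⧸ I) := ρ.asModuleEquiv.symm.trans (e₀.restrictScalars F)
  have he : ∀ h : H, ∀ v : V, e (ρ h v) = lam h * e v := by
    intro h v
    show e₀ (ρ.asModuleEquiv.symm (ρ h v)) = _
    rw [Representation.asModuleEquiv_symm_map_rho, map_smul]
    rfl
  have hinj : Function.Injective lam := by
    intro h h' hh
    apply hfaith
    ext v
    apply e.injective
    rw [he, he, hh]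
  have hgen : Algebra.adjoin F (Set.range lam) = ⊤ := by
    rw [eq_top_iff]
    intro x _
    obtain ⟨r, rfl⟩ := Ideal.Quotient.mk_surjective x
    induction r using MonoidAlgebra.induction_on with
    | of g => exact Algebra.subset_adjoin ⟨g, rfl⟩
    | add f g hf hg =>
      rw [map_add]
      exact Subalgebra.add_mem _ (hf Algebra.mem_top) (hg Algebra.mem_top)
    | smul c f hf =>
      have : Ideal.Quotient.mk I (c • f) = c • Ideal.Quotient.mk I f :=
        map_smul (Ideal.Quotient.mkₐ F I) c f
      rw [this]
      exact Subalgebra.smul_mem _ (hf Algebra.mem_top) c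
  have hfinV : Finite V := Module.finite_of_finite F
  have hfinK : Finite (F[H] ⧸ I) := Finite.of_equiv V e.toEquiv
  have hrank : Module.finrank F (F[H] ⧸ I) = Module.finrank F V := e.finrank_eq.symm
  have hesymm : ∀ h : H, ∀ x : F[H] ⧸ I, e.symm (lam h * x) = ρ h (e.symm x) := by
    intro h x
    apply e.injective
    rw [he, LinearEquiv.apply_symm_apply, LinearEquiv.apply_symm_apply]
  constructor
  · rintro ⟨B, hB, hBinv⟩
    have := sdf_forward lam hinj hgen (by rw [hrank]; exact hn) (LinearMap.BilinForm.congr e B)
      (hB.congr e) (by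
        intro h x y
        rw [LinearMap.BilinForm.congr_apply, LinearMap.BilinForm.congr_apply, hesymm, hesymm, hBinv])
    rwa [hrank] at this
  · rintro ⟨_, hdvd⟩
    rw [← hrank] at hdvd
    obtain ⟨B', hB', hB'inv⟩ := sdf_backward (F := F) lam hdvd
    refine ⟨LinearMap.BilinForm.congr e.symm B', hB'.congr e.symm, ?_⟩
    intro h x y
    rw [LinearMap.BilinForm.congr_apply, LinearMap.BilinForm.congr_apply]
    simp only [LinearEquiv.symm_symm]
    rw [he, he, hB'inv]

end Cfsg.Agent.Lib.Helper26
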