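import Mathlib

/-!
# Self-dual irreducible modules of abelian groups: the field-theoretic core

`K / F` is an extension of finite fields generated by the image of a group `H` under an injective
homomorphism `lam : H →* K`.  An `H`-invariant nondegenerate `F`-bilinear form on `K` exists iff
`n = [K : F]` is even and `|H|` divides `|F| ^ (n / 2) + 1` (for `n ≥ 2`).
-/

set_option autoImplicit false

namespace Cfsg.Agent.Lib.Helper26

open FiniteField

variable {F : Type*} [Field F] [Fintype F] {K : Type*} [Field K] [Algebra F K] [Finite K]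
  {H : Type*} [Group H] [Finite H]

theorem sdf_frob_pow_apply (j : ℕ) (x : K) :
    (frobeniusAlgHom F K ^ j) x = x ^ (Fintype.card F ^ j) := by
  rw [AlgHom.coe_pow, coe_frobeniusAlgHom, pow_iterate]

/-- If all `lam h` are killed by `m`-th powers then `|H|` divides `m`. -/
theorem sdf_card_dvd (lam : H →* K) (hinj : Function.Injective lam) (m : ℕ)
    (hm : ∀ h : H, lam h ^ m = 1) : Nat.card H ∣ m := by
  have hcyc : IsCyclic H := isCyclic_of_injective_ringHom lam hinj
  obtain ⟨g, hg⟩ := hcyc.exists_generator
  rw [← orderOf_eq_card_of_forall_mem_zpowers hg]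
  apply orderOf_dvd_of_pow_eq_one
  apply hinj
  rw [map_pow, map_one]
  exact hm g

/-- From an invariant nondegenerate form to the arithmetic condition. -/
theorem sdf_forward (lam : H →* K) (hinj : Function.Injective lam)
    (hgen : Algebra.adjoin F (Set.range lam) = ⊤) (hn : 2 ≤ Module.finrank F K)
    (B : LinearMap.BilinForm F K) (hB : B.Nondegenerate)
    (hBinv : ∀ h : H, ∀ x y : K, B (lam h * x) (lam h * y) = B x y) :
    Even (Module.finrank F K) ∧ Nat.card H ∣ Fintype.card F ^ (Module.finrank F K / 2) + 1 := by
  -- the subalgebra of elements having an adjoint given by a multiplication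
  let S : Subalgebra F K :=
    { carrier := {a | ∃ a' : K, ∀ x y : K, B (a * x) y = B x (a' * y)}
      mul_mem' := by
        rintro a b ⟨a', ha⟩ ⟨b', hb⟩
        refine ⟨b' * a', fun x y => ?_⟩
        rw [mul_assoc, ha, hb, mul_assoc]
      add_mem' := by
        rintro a b ⟨a', ha⟩ ⟨b', hb⟩
        refine ⟨a' + b', fun x y => ?_⟩
        rw [add_mul, add_mul, map_add, LinearMap.add_apply, map_add, ha, hb]
      algebraMap_mem' := by
        intro c
        refine ⟨algebraMap F K c, fun x y => ?_⟩
        rw [← Algebra.smul_def, ← Algebra.smul_def, map_smul, LinearMap.smul_apply, map_smul] }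
  have hlamS : ∀ h : H, lam h ∈ S := by
    intro h
    refine ⟨lam h⁻¹, fun x y => ?_⟩
    have := hBinv h x (lam h⁻¹ * y)
    rw [← mul_assoc, ← map_mul, mul_inv_cancel, map_one, one_mul] at this
    exact this
  have hS : S = ⊤ := by
    rw [eq_top_iff, ← hgen]
    apply Algebra.adjoin_le
    rintro _ ⟨h, rfl⟩
    exact hlamS h
  have hex : ∀ a : K, ∃ a' : K, ∀ x y : K, B (a * x) y = B x (a' * y) := by
    intro a
    have : a ∈ S := by rw [hS]; exact Algebra.mem_top
    exact this
  choose σ hσ using hex
  have huniq : ∀ a a' : K, (∀ x y : K, B (a * x) y = B x (a' * y)) → σ a = a' := by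
    intro a a' h
    have h1 : ∀ x : K, B x (σ a - a') = 0 := by
      intro x
      have e1 := hσ a x 1
      have e2 := h x 1
      rw [mul_one] at e1 e2
      rw [map_sub, ← e1, ← e2, sub_self]
    exact sub_eq_zero.mp (hB.2 _ h1)
  let σh : K →ₐ[F] K :=
    { toFun := σ
      map_one' := huniq 1 1 (fun x y => by rw [one_mul, one_mul])
      map_mul' := fun a b => huniq (a * b) (σ a * σ b) (fun x y => by
        rw [mul_assoc, hσ a, hσ b, ← mul_assoc, mul_comm (σ b)])
      map_zero' := huniq 0 0 (fun x y => by
        rw [zero_mul, zero_mul, map_zero, map_zero, LinearMap.zero_apply])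
      map_add' := fun a b => huniq (a + b) (σ a + σ b) (fun x y => by
        rw [add_mul, add_mul, map_add, LinearMap.add_apply, map_add, hσ a, hσ b])
      commutes' := fun c => huniq _ _ (fun x y => by
        rw [← Algebra.smul_def, ← Algebra.smul_def, map_smul, LinearMap.smul_apply, map_smul]) }
  have hσlam : ∀ h : H, σ (lam h) = lam h⁻¹ := by
    intro h
    apply huniq
    intro x y
    have := hBinv h x (lam h⁻¹ * y)
    rw [← mul_assoc, ← map_mul, mul_inv_cancel, map_one, one_mul] at this
    exact this
  obtain ⟨⟨k, hk⟩, hj⟩ := (bijective_frobeniusAlgHom_pow F K).2 σh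
  simp only at hj
  have hσpow : ∀ x : K, σ x = x ^ (Fintype.card F ^ k) := by
    intro x
    have := DFunLike.congr_fun hj x
    rw [sdf_frob_pow_apply] at this
    exact this.symm
  have hlam_inv : ∀ h : H, lam h ^ (Fintype.card F ^ k) * lam h = 1 := by
    intro h
    rw [← hσpow, hσlam, ← map_mul, inv_mul_cancel, map_one]
  -- j ≠ 0
  have hj0 : k ≠ 0 := by
    intro h0
    have hsq : ∀ h : H, lam h ∈ (⊥ : Subalgebra F K) := by
      intro h
      have := hlam_inv h
      rw [h0, pow_zero, pow_one] at this
      rcases mul_self_eq_one_iff.mp this with h1 | h1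
      · rw [h1]; exact Subalgebra.one_mem _
      · rw [h1]; exact Subalgebra.neg_mem _ (Subalgebra.one_mem _)
    have : (⊤ : Subalgebra F K) ≤ ⊥ := by
      rw [← hgen]
      apply Algebra.adjoin_le
      rintro _ ⟨h, rfl⟩
      exact hsq h
    have h1 : Module.finrank F K = 1 := by
      rw [← Subalgebra.bot_eq_top_iff_finrank_eq_one]
      exact le_antisymm bot_le this
    omega
  -- Frobenius to the 2j is the identity
  have e : ∀ h : H, lam h ^ (Fintype.card F ^ k) = lam h⁻¹ := fun h => by rw [← hσpow, hσlam]
  have h2j : frobeniusAlgHom F K ^ (2 * k) = 1 := by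
    apply AlgHom.ext_of_adjoin_eq_top hgen
    rintro _ ⟨h, rfl⟩
    rw [sdf_frob_pow_apply, AlgHom.one_apply, two_mul, pow_add, pow_mul, e h, e h⁻¹, inv_inv]
  have hdvd : Module.finrank F K ∣ 2 * k := by
    have := orderOf_dvd_of_pow_eq_one h2j
    rwa [orderOf_frobeniusAlgHom] at this
  have hjlt : k < Module.finrank F K := hk
  have hn2j : Module.finrank F K = 2 * k := by
    obtain ⟨c, hc⟩ := hdvd
    have hc1 : c = 1 := by
      rcases Nat.lt_or_ge c 1 with h | h
      · have : c = 0 := by omega
        rw [this, mul_zero] at hc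
        omega
      · rcases Nat.lt_or_ge c 2 with h' | h'
        · omega
        · exfalso
          have : 2 * Module.finrank F K ≤ Module.finrank F K * c := by
            rw [mul_comm]; exact Nat.mul_le_mul_left _ h'
          omega
    rw [hc1, mul_one] at hc
    exact hc.symm
  refine ⟨⟨k, by omega⟩, ?_⟩
  have hhalf : Module.finrank F K / 2 = k := by omega
  rw [hhalf]
  apply sdf_card_dvd lam hinj
  intro h
  rw [pow_succ]
  exact hlam_inv h

/-- From the arithmetic condition to an invariant nondegenerate form. -/
theorem sdf_backward (lam : H →* K)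
    (hdvd : Nat.card H ∣ Fintype.card F ^ (Module.finrank F K / 2) + 1) :
    ∃ B : LinearMap.BilinForm F K, B.Nondegenerate ∧
      ∀ h : H, ∀ x y : K, B (lam h * x) (lam h * y) = B x y := by
  set j := Module.finrank F K / 2 with hjdef
  let τ : K →ₐ[F] K := frobeniusAlgHom F K ^ j
  have hτ : ∀ x : K, τ x = x ^ (Fintype.card F ^ j) := fun x => sdf_frob_pow_apply j x
  have hτsurj : Function.Surjective τ :=
    Finite.injective_iff_surjective.mp τ.toRingHom.injective
  have hBdef : ∀ x y : K, ((Algebra.traceForm F K).compRight τ.toLinearMap) x y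
      = Algebra.trace F K (x * τ y) := fun x y => rfl
  refine ⟨(Algebra.traceForm F K).compRight τ.toLinearMap, ?_, ?_⟩
  · apply LinearMap.BilinForm.Nondegenerate.ofSeparatingLeft
    intro x hx
    apply (traceForm_nondegenerate F K).1 x
    intro z
    obtain ⟨y, rfl⟩ := hτsurj z
    exact hx y
  · intro h x y
    rw [hBdef, hBdef, map_mul τ, hτ (lam h)]
    have h1 : lam h * lam h ^ (Fintype.card F ^ j) = 1 := by
      rw [← pow_succ', ← map_pow]
      obtain ⟨c, hc⟩ := hdvd
      rw [hc, pow_mul, pow_card_eq_one', one_pow, map_one]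
    have : lam h * x * (lam h ^ (Fintype.card F ^ j) * τ y)
        = (lam h * lam h ^ (Fintype.card F ^ j)) * (x * τ y) := by ring
    rw [this, h1, one_mul]

end Cfsg.Agent.Lib.Helper26
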