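import Cfsg.Agent.S5014
import Cfsg.Agent.Lib.Helper26.ChainAux

set_option autoImplicit false
open Cfsg

namespace Cfsg.Agent.Lib.Helper26

open Cfsg.Agent.S5013 Cfsg.Agent.S5014

variable {G : Type*} [Group G]

/-- Distinct unipotent subgroups of a rank one group meet trivially. -/
theorem unipotent_ti {A B : Subgroup G} (h : Cfsg.IsRankOnePair A B) {U₁ U₂ : Subgroup G}
    (h₁ : U₁ ∈ Cfsg.unipotentSubgroups A B) (h₂ : U₂ ∈ Cfsg.unipotentSubgroups A B) {u : G}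
    (hu₁ : u ∈ U₁) (hu₂ : u ∈ U₂) (hu : u ≠ 1) : U₁ = U₂ := by
  by_contra hne
  obtain ⟨x, -, hx₁, hx₂⟩ := (Cfsg.Agent.S5014.result h).2.1 U₁ h₁ U₂ h₂ A (A_mem_unipotent A B) B
    (B_mem_unipotent h) hne h.ne
  have h3 : x * u * x⁻¹ ∈ Cfsg.conjBy U₁ x := mem_conjBy_of_mem hu₁ x
  have h4 : x * u * x⁻¹ ∈ Cfsg.conjBy U₂ x := mem_conjBy_of_mem hu₂ x
  rw [hx₁] at h3
  rw [hx₂] at h4
  have h5 : x * u * x⁻¹ ∈ A ⊓ Subgroup.normalizer (B : Set G) := ⟨h3, Subgroup.le_normalizer h4⟩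
  rw [(Cfsg.Agent.S5013.result h).2.2.1, Subgroup.mem_bot] at h5
  apply hu
  have e : u = x⁻¹ * (x * u * x⁻¹) * x := by group
  rw [e, h5]
  group

/-- `a ∈ A#` and `b ∈ B#` are partners: `b⁻¹ A b = a⁻¹ B a` (in the conventions of `conjBy`). -/
def Pr (A B : Subgroup G) (a b : G) : Prop :=
  a ∈ A ∧ a ≠ 1 ∧ b ∈ B ∧ b ≠ 1 ∧ Cfsg.conjBy A b⁻¹ = Cfsg.conjBy B a⁻¹

/-- A special rank one pair with abelian unipotent subgroups. -/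
structure SRO (A B : Subgroup G) : Prop where
  h : Cfsg.IsRankOnePair A B
  sp : ∀ a b : G, Pr A B a b → b⁻¹ * a * b = a⁻¹ * b⁻¹ * a
  cA : CommOn A
  cB : CommOn B

theorem sro_of (A B : Subgroup G) (hs : Cfsg.IsSpecialRankOnePair A B)
    (hab : Cfsg.HasAbelianUnipotents A B) : SRO A B :=
  ⟨hs.1, fun a b hp => hs.2 a hp.1 hp.2.1 b hp.2.2.1 hp.2.2.2.1 hp.2.2.2.2,
    commOn_of_isMulCommutative hab.1, commOn_of_isMulCommutative hab.2⟩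

theorem inv_conj_pow (n x : G) (k : ℕ) : n⁻¹ * x ^ k * n = (n⁻¹ * x * n) ^ k := by
  induction k with
  | zero => simp
  | succ k ih =>
    rw [pow_succ, pow_succ, ← ih]
    group

theorem Pr.unique_right {A B : Subgroup G} (h : Cfsg.IsRankOnePair A B) {a b b' : G}
    (h1 : Pr A B a b) (h2 : Pr A B a b') : b = b' :=
  ((Cfsg.Agent.S5013.result h).1 a h1.1 h1.2.1).unique ⟨h1.2.2.1, h1.2.2.2.1, h1.2.2.2.2⟩
    ⟨h2.2.2.1, h2.2.2.2.1, h2.2.2.2.2⟩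

theorem Pr.unique_left {A B : Subgroup G} (h : Cfsg.IsRankOnePair A B) {a a' b : G}
    (h1 : Pr A B a b) (h2 : Pr A B a' b) : a = a' :=
  ((Cfsg.Agent.S5013.result h).2.1 b h1.2.2.1 h1.2.2.2.1).unique ⟨h1.1, h1.2.1, h1.2.2.2.2⟩
    ⟨h2.1, h2.2.1, h2.2.2.2.2⟩

theorem exists_pr {A B : Subgroup G} (h : Cfsg.IsRankOnePair A B) {a : G} (ha : a ∈ A)
    (ha1 : a ≠ 1) : ∃ b, Pr A B a b := by
  obtain ⟨b, hb, hb1, hbe⟩ := h.cond_left a ha ha1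
  exact ⟨b, ha, ha1, hb, hb1, hbe⟩

theorem Pr.braid {A B : Subgroup G} (H : SRO A B) {a b : G} (hp : Pr A B a b) :
    a * b⁻¹ * a = b⁻¹ * a * b⁻¹ := by
  have h1 := H.sp a b hp
  calc a * b⁻¹ * a = a * (b⁻¹ * a * b) * b⁻¹ := by group
    _ = a * (a⁻¹ * b⁻¹ * a) * b⁻¹ := by rw [h1]
    _ = b⁻¹ * a * b⁻¹ := by group

theorem Pr.inv {A B : Subgroup G} (H : SRO A B) {a b : G} (hp : Pr A B a b) :
    Pr A B a⁻¹ b⁻¹ := by
  have hbr := Pr.braid H hp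
  obtain ⟨ha, ha1, hb, hb1, he⟩ := hp
  refine ⟨A.inv_mem ha, inv_ne_one.mpr ha1, B.inv_mem hb, inv_ne_one.mpr hb1, ?_⟩
  rw [inv_inv, inv_inv]
  have hu : b * a * b⁻¹ = a * b⁻¹ * a⁻¹ := by
    calc b * a * b⁻¹ = b * (a * b⁻¹ * a) * a⁻¹ := by group
      _ = b * (b⁻¹ * a * b⁻¹) * a⁻¹ := by rw [hbr]
      _ = a * b⁻¹ * a⁻¹ := by group
  have hu1 : b * a * b⁻¹ ∈ Cfsg.conjBy A b := mem_conjBy_of_mem ha b
  have hu2 : b * a * b⁻¹ ∈ Cfsg.conjBy B a := by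
    rw [hu]
    exact mem_conjBy_of_mem (B.inv_mem hb) a
  have hu3 : b * a * b⁻¹ ≠ 1 := by
    intro h1
    apply ha1
    have e : a = b⁻¹ * (b * a * b⁻¹) * b := by group
    rw [e, h1]
    group
  exact unipotent_ti H.h (conjBy_mem_unipotent (A_mem_unipotent A B) (Subgroup.mem_sup_right hb))
    (conjBy_mem_unipotent (B_mem_unipotent H.h) (Subgroup.mem_sup_left ha)) hu1 hu2 hu3

theorem Pr.conjBy_A_n {A B : Subgroup G} {a b : G} (hp : Pr A B a b) :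
    Cfsg.conjBy A (a * b⁻¹ * a) = B := by
  obtain ⟨ha, ha1, hb, hb1, he⟩ := hp
  rw [← conjBy_conjBy, ← conjBy_conjBy, conjBy_eq_of_mem_normalizer (Subgroup.le_normalizer ha),
    he, conjBy_conjBy, mul_inv_cancel, conjBy_one]

theorem Pr.conjBy_B_n {A B : Subgroup G} (H : SRO A B) {a b : G} (hp : Pr A B a b) :
    Cfsg.conjBy B (a * b⁻¹ * a) = A := by
  have hinv := (Pr.inv H hp).2.2.2.2
  rw [inv_inv, inv_inv] at hinv
  rw [Pr.braid H hp, ← conjBy_conjBy, ← conjBy_conjBy,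
    conjBy_eq_of_mem_normalizer (Subgroup.le_normalizer (B.inv_mem hp.2.2.1)), ← hinv,
    conjBy_conjBy, inv_mul_cancel, conjBy_one]

theorem Pr.conjBy_A_n_inv {A B : Subgroup G} (H : SRO A B) {a b : G} (hp : Pr A B a b) :
    Cfsg.conjBy A (a * b⁻¹ * a)⁻¹ = B := by
  have h1 := Pr.conjBy_B_n H hp
  rw [← h1, conjBy_conjBy, inv_mul_cancel, conjBy_one]

theorem Pr.conjBy_B_n_inv {A B : Subgroup G} {a b : G} (hp : Pr A B a b) :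
    Cfsg.conjBy B (a * b⁻¹ * a)⁻¹ = A := by
  have h1 := Pr.conjBy_A_n hp
  rw [← h1, conjBy_conjBy, inv_mul_cancel, conjBy_one]

theorem Pr.n_conj_a {A B : Subgroup G} (H : SRO A B) {a b : G} (hp : Pr A B a b) :
    (a * b⁻¹ * a)⁻¹ * a * (a * b⁻¹ * a) = b⁻¹ := by
  have hbr := Pr.braid H hp
  have h1 : a * (a * b⁻¹ * a) = (a * b⁻¹ * a) * b⁻¹ := by
    calc a * (a * b⁻¹ * a) = a * (b⁻¹ * a * b⁻¹) := by rw [hbr]
      _ = (a * b⁻¹ * a) * b⁻¹ := by group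
  rw [mul_assoc, h1, inv_mul_cancel_left]

theorem Pr.n_conj_b {A B : Subgroup G} (H : SRO A B) {a b : G} (hp : Pr A B a b) :
    (a * b⁻¹ * a)⁻¹ * b * (a * b⁻¹ * a) = a⁻¹ := by
  have hbr := Pr.braid H hp
  have h1 : b * (a * b⁻¹ * a) = (a * b⁻¹ * a) * a⁻¹ := by
    calc b * (a * b⁻¹ * a) = b * (b⁻¹ * a * b⁻¹) := by rw [hbr]
      _ = (a * b⁻¹ * a) * a⁻¹ := by group
  rw [mul_assoc, h1, inv_mul_cancel_left]

theorem Pr.pow_eq_one {A B : Subgroup G} (H : SRO A B) {a b : G} (hp : Pr A B a b) {k : ℕ}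
    (hk : a ^ k = 1) : b ^ k = 1 := by
  have h1 := inv_conj_pow (a * b⁻¹ * a) a k
  rw [Pr.n_conj_a H hp, hk, mul_one, inv_mul_cancel, inv_pow] at h1
  exact inv_eq_one.mp h1.symm

/-- The key "additivity" relation for partners. -/
theorem Pr.shift {A B : Subgroup G} (H : SRO A B) {c β x βx βxc : G} (hc : Pr A B c β)
    (hx : Pr A B x βx) (hxc : Pr A B (x * c) βxc) :
    Pr A B ((c * β⁻¹ * c)⁻¹ * βx * (c * β⁻¹ * c) * c⁻¹) (βxc * β⁻¹) := by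
  have hBn' : Cfsg.conjBy A (c * β⁻¹ * c)⁻¹ = B := Pr.conjBy_A_n_inv H hc
  have hAn' : Cfsg.conjBy B (c * β⁻¹ * c)⁻¹ = A := Pr.conjBy_B_n_inv hc
  have hy : (c * β⁻¹ * c)⁻¹ * βx * (c * β⁻¹ * c) ∈ Cfsg.conjBy B (c * β⁻¹ * c)⁻¹ :=
    mem_conjBy_inv_of_mem hx.2.2.1 _
  rw [hAn'] at hy
  generalize hn : c * β⁻¹ * c = n at *
  generalize hyy : n⁻¹ * βx * n = y at *
  have s1 : Cfsg.conjBy A (n⁻¹ * βx⁻¹) = Cfsg.conjBy B (n⁻¹ * x⁻¹) := by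
    rw [← conjBy_conjBy, ← conjBy_conjBy, hx.2.2.2.2]
  have s2 : n⁻¹ * βx⁻¹ = y⁻¹ * n⁻¹ := by
    rw [← hyy]
    group
  have s3 : n⁻¹ * x⁻¹ = c⁻¹ * (β * (x * c)⁻¹) := by
    rw [← hn]
    group
  have s4 : Cfsg.conjBy B y⁻¹ = Cfsg.conjBy A (c⁻¹ * (β * βxc⁻¹)) := by
    have s5 : Cfsg.conjBy A (y⁻¹ * n⁻¹) = Cfsg.conjBy B (c⁻¹ * (β * (x * c)⁻¹)) := by
      rw [← s2, ← s3]
      exact s1
    rw [← conjBy_conjBy, hBn', ← conjBy_conjBy, ← conjBy_conjBy, ← hxc.2.2.2.2, conjBy_conjBy,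
      conjBy_conjBy, mul_assoc] at s5
    exact s5
  have s6 : Cfsg.conjBy B (c * y⁻¹) = Cfsg.conjBy A (β * βxc⁻¹) := by
    have := congrArg (fun K => Cfsg.conjBy K c) s4
    simp only [conjBy_conjBy] at this
    rw [mul_inv_cancel_left] at this
    exact this
  have hw1 : βxc * β⁻¹ ≠ 1 := by
    intro h1
    have h2 : βxc = β := mul_inv_eq_one.mp h1
    rw [h2] at hxc
    have h3 : x * c = c := Pr.unique_left H.h hxc hc
    exact hx.2.1 (mul_eq_right.mp h3)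
  have e1 : (βxc * β⁻¹)⁻¹ = β * βxc⁻¹ := by group
  have e2 : (y * c⁻¹)⁻¹ = c * y⁻¹ := by group
  have hwB : βxc * β⁻¹ ∈ B := B.mul_mem hxc.2.2.1 (B.inv_mem hc.2.2.1)
  refine ⟨A.mul_mem hy (A.inv_mem hc.1), ?_, hwB, hw1, ?_⟩
  · intro hz
    have h1 : c * y⁻¹ = 1 := by
      rw [← e2, hz, inv_one]
    rw [h1, conjBy_one, ← e1] at s6
    apply H.h.ne
    have h2 := congrArg (fun K => Cfsg.conjBy K (βxc * β⁻¹)) s6
    simp only [conjBy_conjBy, mul_inv_cancel, conjBy_one] at h2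
    rw [← h2]
    exact conjBy_eq_of_mem_normalizer (Subgroup.le_normalizer hwB)
  · rw [e1, e2]
    exact s6.symm

/-- Partners of powers: if `β'` is the partner of `c ^ k`, then `β' ^ k` is the partner of `c`. -/
theorem pr_pow {A B : Subgroup G} (H : SRO A B) (k : ℕ) : ∀ c β β' : G, c ^ (k + 1) ≠ 1 →
    Pr A B c β → Pr A B (c ^ (k + 1)) β' → β' ^ (k + 1) = β := by
  induction k with
  | zero =>
    intro c β β' _ h1 h2
    rw [zero_add, pow_one] at h2 ⊢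
    exact Pr.unique_right H.h h2 h1
  | succ k ih =>
    intro a βa β₁ hne ha h1
    by_cases haK : a ^ (k + 1) = 1
    · rw [pow_succ, haK, one_mul] at h1
      have h2 : β₁ = βa := Pr.unique_right H.h h1 ha
      rw [h2, pow_succ, Pr.pow_eq_one H ha haK, one_mul]
    · obtain ⟨β₀, h0⟩ := exists_pr H.h (A.pow_mem ha.1 (k + 1)) haK
      have e0 : β₀ ^ (k + 1) = βa := ih a βa β₀ haK ha h0
      have h1' : Pr A B (a * a ^ (k + 1)) β₁ := by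
        rw [← pow_succ']
        exact h1
      have hz := Pr.shift H h0 ha h1'
      have e1 : (a ^ (k + 1) * β₀⁻¹ * a ^ (k + 1))⁻¹ * βa * (a ^ (k + 1) * β₀⁻¹ * a ^ (k + 1))
          = ((a ^ (k + 1))⁻¹) ^ (k + 1) := by
        rw [← e0, inv_conj_pow, Pr.n_conj_b H h0]
      rw [e1] at hz
      have e2 : ((a ^ (k + 1))⁻¹) ^ (k + 1) * (a ^ (k + 1))⁻¹ = ((a ^ (k + 1 + 1)) ^ (k + 1))⁻¹ := by
        rw [← pow_succ, inv_pow, ← pow_mul, ← pow_mul, mul_comm]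
      rw [e2] at hz
      have hz' := Pr.inv H hz
      rw [inv_inv] at hz'
      have e3 : (β₁ * β₀⁻¹)⁻¹ = β₀ * β₁⁻¹ := by group
      rw [e3] at hz'
      have e4 : (β₀ * β₁⁻¹) ^ (k + 1) = β₁ := ih (a ^ (k + 1 + 1)) β₁ (β₀ * β₁⁻¹) hz'.2.1 h1 hz'
      have e5 : β₀ = (β₀ * β₁⁻¹) ^ (k + 1 + 1) := by
        rw [pow_succ', e4]
        group
      calc β₁ ^ (k + 1 + 1) = ((β₀ * β₁⁻¹) ^ (k + 1)) ^ (k + 1 + 1) := by rw [e4]
        _ = ((β₀ * β₁⁻¹) ^ (k + 1 + 1)) ^ (k + 1) := by rw [← pow_mul, ← pow_mul, mul_comm]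
        _ = β₀ ^ (k + 1) := by rw [← e5]
        _ = βa := e0

theorem exists_root {A B : Subgroup G} (H : SRO A B) {c : G} (hc : c ∈ A) {k : ℕ} (hk : 0 < k)
    (hck : c ^ k ≠ 1) : ∃ y ∈ A, y ^ k = c := by
  obtain ⟨k, rfl⟩ := Nat.exists_eq_succ_of_ne_zero hk.ne'
  have hc1 : c ≠ 1 := by
    intro h1
    rw [h1, one_pow] at hck
    exact hck rfl
  obtain ⟨β, hβ⟩ := exists_pr H.h hc hc1
  obtain ⟨β', hβ'⟩ := exists_pr H.h (A.pow_mem hc (k + 1)) hck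
  have e := pr_pow H k c β β' hck hβ hβ'
  have hy : (c * β⁻¹ * c)⁻¹ * β' * (c * β⁻¹ * c) ∈ Cfsg.conjBy B (c * β⁻¹ * c)⁻¹ :=
    mem_conjBy_inv_of_mem hβ'.2.2.1 _
  rw [Pr.conjBy_B_n_inv hβ] at hy
  refine ⟨((c * β⁻¹ * c)⁻¹ * β' * (c * β⁻¹ * c))⁻¹, A.inv_mem hy, ?_⟩
  rw [inv_pow, ← inv_conj_pow, e, Pr.n_conj_b H hβ, inv_inv]

theorem pow_eq_one_of_exists {A B : Subgroup G} (H : SRO A B) {a : G} (ha : a ∈ A) (ha1 : a ≠ 1)
    {p : ℕ} (hp : 0 < p) (hap : a ^ p = 1) : ∀ c ∈ A, c ^ p = 1 := by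
  intro c hc
  by_contra hcp
  have hac : (a * c) ^ p ≠ 1 := by
    rw [(show Commute a c from H.cA a ha c hc).mul_pow, hap, one_mul]
    exact hcp
  obtain ⟨d₁, hd₁, e₁⟩ := exists_root H (A.mul_mem ha hc) hp hac
  obtain ⟨d₂, hd₂, e₂⟩ := exists_root H hc hp hcp
  have he : (d₁ * d₂⁻¹) ^ p = a := by
    rw [(show Commute d₁ d₂⁻¹ from H.cA d₁ hd₁ d₂⁻¹ (A.inv_mem hd₂)).mul_pow, inv_pow, e₁, e₂,
      mul_inv_cancel_right]
  have heA : d₁ * d₂⁻¹ ∈ A := A.mul_mem hd₁ (A.inv_mem hd₂)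
  have he1 : d₁ * d₂⁻¹ ≠ 1 := by
    intro h1
    rw [h1, one_pow] at he
    exact ha1 he.symm
  obtain ⟨p, rfl⟩ := Nat.exists_eq_succ_of_ne_zero hp.ne'
  obtain ⟨βe, hβe⟩ := exists_pr H.h heA he1
  obtain ⟨βa, hβa⟩ := exists_pr H.h ha ha1
  have hβa' : Pr A B ((d₁ * d₂⁻¹) ^ (p + 1)) βa := by
    rw [he]
    exact hβa
  have e := pr_pow H p (d₁ * d₂⁻¹) βe βa (by rw [he]; exact ha1) hβe hβa'
  rw [Pr.pow_eq_one H hβa hap] at e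
  exact hβe.2.2.2.1 e.symm

end Cfsg.Agent.Lib.Helper26
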