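import Cfsg.Agent.Lib.Helper26.SroSmall2

set_option autoImplicit false
set_option linter.style.haveILetI false
set_option linter.unusedSectionVars false
set_option linter.unusedVariables false

namespace Cfsg.Agent.Lib.Helper26

abbrev SL22 := Matrix.SpecialLinearGroup (Fin 2) (ZMod 2)

def s2U : SL22 := ⟨!![1, 1; 0, 1], by decide⟩
def s2V : SL22 := ⟨!![1, 0; 1, 1], by decide⟩

structure S3Gens {X : Type*} [Group X] (s t : X) : Prop where
  s2 : s * s = 1
  t2 : t * t = 1
  br : s * t * s = t * s * t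

namespace S3Gens

variable {X : Type*} [Group X] {s t : X}

def S6 (s t : X) : Set X :=
  {y | y = 1 ∨ y = s ∨ y = t ∨ y = s * t ∨ y = t * s ∨ y = s * t * s}

theorem s_mul (h : S3Gens s t) {y : X} (hy : y ∈ S6 s t) : s * y ∈ S6 s t := by
  rcases hy with rfl | rfl | rfl | rfl | rfl | rfl
  · right; left; exact mul_one s
  · left; exact h.s2
  · right; right; right; left; rfl
  · right; right; left
    rw [← mul_assoc, h.s2, one_mul]
  · right; right; right; right; right
    rw [← mul_assoc]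
  · right; right; right; right; left
    rw [← mul_assoc, ← mul_assoc, h.s2, one_mul]

theorem t_mul (h : S3Gens s t) {y : X} (hy : y ∈ S6 s t) : t * y ∈ S6 s t := by
  rcases hy with rfl | rfl | rfl | rfl | rfl | rfl
  · right; right; left; exact mul_one t
  · right; right; right; right; left; rfl
  · left; exact h.t2
  · right; right; right; right; right
    rw [← mul_assoc, h.br]
  · right; left
    rw [← mul_assoc, h.t2, one_mul]
  · right; right; right; left
    rw [h.br, ← mul_assoc, ← mul_assoc, h.t2, one_mul]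

theorem s_inv (h : S3Gens s t) : s⁻¹ = s := inv_eq_of_mul_eq_one_left h.s2

theorem t_inv (h : S3Gens s t) : t⁻¹ = t := inv_eq_of_mul_eq_one_left h.t2

theorem closure_subset_S6 (h : S3Gens s t) :
    ((Subgroup.closure ({s, t} : Set X) : Subgroup X) : Set X) ⊆ S6 s t := by
  intro y hy
  induction hy using Subgroup.closure_induction_left with
  | one => exact Or.inl rfl
  | mul_left x hx y _ ih =>
    rcases hx with rfl | rfl
    · exact h.s_mul ih
    · exact h.t_mul ih
  | inv_mul_cancel x hx y _ ih =>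
    rcases hx with rfl | rfl
    · rw [h.s_inv]
      exact h.s_mul ih
    · rw [h.t_inv]
      exact h.t_mul ih

def nf6 (s t : X) : Fin 6 → X := fun k =>
  match k with
  | 0 => 1
  | 1 => s
  | 2 => t
  | 3 => s * t
  | 4 => t * s
  | 5 => s * t * s

theorem S6_subset_range : S6 s t ⊆ Set.range (nf6 s t) := by
  rintro y (rfl | rfl | rfl | rfl | rfl | rfl)
  · exact ⟨0, rfl⟩
  · exact ⟨1, rfl⟩
  · exact ⟨2, rfl⟩
  · exact ⟨3, rfl⟩
  · exact ⟨4, rfl⟩
  · exact ⟨5, rfl⟩

theorem closure_subset_image (h : S3Gens s t) [DecidableEq X] :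
    ((Subgroup.closure ({s, t} : Set X) : Subgroup X) : Set X) ⊆
      ((Finset.univ.image (nf6 s t) : Finset X) : Set X) := by
  intro y hy
  obtain ⟨k, rfl⟩ := S6_subset_range (h.closure_subset_S6 hy)
  simp

theorem card_closure_le (h : S3Gens s t) :
    Nat.card (Subgroup.closure ({s, t} : Set X)) ≤ 6 := by
  classical
  have h1 : Nat.card (Subgroup.closure ({s, t} : Set X)) ≤
      Nat.card ((Finset.univ.image (nf6 s t) : Finset X) : Set X) :=
    Nat.card_mono (Finset.finite_toSet _) h.closure_subset_image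
  have h2 : Nat.card ((Finset.univ.image (nf6 s t) : Finset X) : Set X) =
      (Finset.univ.image (nf6 s t)).card := by
    rw [Nat.card_coe_set_eq, Set.ncard_coe_finset]
  have h3 : (Finset.univ.image (nf6 s t)).card ≤ (Finset.univ : Finset (Fin 6)).card :=
    Finset.card_image_le
  have h4 : (Finset.univ : Finset (Fin 6)).card = 6 := by
    rw [Finset.card_univ]; simp
  omega

theorem finite_closure (h : S3Gens s t) : Finite (Subgroup.closure ({s, t} : Set X)) := by
  classical
  exact (Set.Finite.subset (Finset.finite_toSet _) h.closure_subset_image).to_subtype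

end S3Gens

theorem s3gens_SL22 : S3Gens s2U s2V where
  s2 := by decide
  t2 := by decide
  br := by decide

theorem nf_surj_SL22 : ∀ y : SL22, y = 1 ∨ y = s2U ∨ y = s2V ∨ y = s2U * s2V ∨ y = s2V * s2U ∨
    y = s2U * s2V * s2U := by decide

theorem card_SL22 : Nat.card SL22 = 6 := by
  rw [Nat.card_eq_fintype_card]; decide

theorem exists_hom_SL22 {X : Type*} [Group X] (s t : X) (h : S3Gens s t)
    (hgen : Subgroup.closure ({s, t} : Set X) = ⊤) :
    ∃ θ : SL22 →* X, Function.Surjective θ ∧ θ s2U = s ∧ θ s2V = t := by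
  have hS := s3gens_SL22
  have hQ : S3Gens ((s, s2U) : X × SL22) (t, s2V) :=
    { s2 := Prod.ext (by simpa using h.s2) (by simpa using hS.s2)
      t2 := Prod.ext (by simpa using h.t2) (by simpa using hS.t2)
      br := Prod.ext (by simpa using h.br) (by simpa using hS.br) }
  obtain ⟨Δ, hΔ⟩ : ∃ Δ : Subgroup (X × SL22),
    Δ = Subgroup.closure ({((s, s2U) : X × SL22), (t, s2V)} : Set (X × SL22)) := ⟨_, rfl⟩
  have hcard : Nat.card Δ ≤ 6 := by rw [hΔ]; exact hQ.card_closure_le
  haveI hfin : Finite Δ := by rw [hΔ]; exact hQ.finite_closure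
  have hsΔ : ((s, s2U) : X × SL22) ∈ Δ := by rw [hΔ]; exact Subgroup.subset_closure (by simp)
  have htΔ : ((t, s2V) : X × SL22) ∈ Δ := by rw [hΔ]; exact Subgroup.subset_closure (by simp)
  let π₁ : Δ →* X := (MonoidHom.fst X SL22).comp Δ.subtype
  let π₂ : Δ →* SL22 := (MonoidHom.snd X SL22).comp Δ.subtype
  have hs₂ : Function.Surjective π₂ := by
    intro y
    rcases nf_surj_SL22 y with rfl | rfl | rfl | rfl | rfl | rfl
    · exact ⟨1, map_one _⟩
    · exact ⟨⟨_, hsΔ⟩, rfl⟩
    · exact ⟨⟨_, htΔ⟩, rfl⟩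
    · exact ⟨⟨_, Δ.mul_mem hsΔ htΔ⟩, rfl⟩
    · exact ⟨⟨_, Δ.mul_mem htΔ hsΔ⟩, rfl⟩
    · exact ⟨⟨_, Δ.mul_mem (Δ.mul_mem hsΔ htΔ) hsΔ⟩, rfl⟩
  have hs₁ : Function.Surjective π₁ := by
    rw [← MonoidHom.range_eq_top, eq_top_iff, ← hgen, Subgroup.closure_le]
    rintro y (rfl | rfl)
    · exact ⟨⟨_, hsΔ⟩, rfl⟩
    · exact ⟨⟨_, htΔ⟩, rfl⟩
  have hb₂ : Function.Bijective π₂ :=
    hs₂.bijective_of_nat_card_le (by rw [card_SL22]; exact hcard)
  let e₂ : Δ ≃* SL22 := MulEquiv.ofBijective π₂ hb₂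
  let θ : SL22 →* X := π₁.comp e₂.symm.toMonoidHom
  have hθs : Function.Surjective θ := by
    intro y
    obtain ⟨d, rfl⟩ := hs₁ y
    exact ⟨e₂ d, by simp [θ]⟩
  have hθU : θ s2U = s := by
    have h1 : e₂ ⟨(s, s2U), hsΔ⟩ = s2U := rfl
    have h2 : e₂.symm s2U = ⟨(s, s2U), hsΔ⟩ := (MulEquiv.symm_apply_eq e₂).mpr h1.symm
    show π₁ (e₂.symm s2U) = s
    rw [h2]; rfl
  have hθV : θ s2V = t := by
    have h1 : e₂ ⟨(t, s2V), htΔ⟩ = s2V := rfl
    have h2 : e₂.symm s2V = ⟨(t, s2V), htΔ⟩ := (MulEquiv.symm_apply_eq e₂).mpr h1.symm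
    show π₁ (e₂.symm s2V) = t
    rw [h2]; rfl
  exact ⟨θ, hθs, hθU, hθV⟩

/-- A group generated by two distinct involutions satisfying the braid relation is `SL(2,2)`. -/
theorem iso_of_S3Gens {X : Type*} [Group X] (s t : X) (h : S3Gens s t)
    (hgen : Subgroup.closure ({s, t} : Set X) = ⊤) (hs : s ≠ 1) (ht : t ≠ 1) (hst : s ≠ t) :
    Nonempty (X ≃* SL22) := by
  obtain ⟨θ, hθs, hθU, hθV⟩ := exists_hom_SL22 s t h hgen
  have hinj : Function.Injective θ := by
    rw [injective_iff_map_eq_one]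
    intro m hm
    rcases nf_surj_SL22 m with rfl | rfl | rfl | rfl | rfl | rfl
    · rfl
    · exact absurd (hθU.symm.trans hm) hs
    · exact absurd (hθV.symm.trans hm) ht
    · exfalso
      rw [map_mul, hθU, hθV] at hm
      apply hst
      calc s = (s * t) * t := by rw [mul_assoc, h.t2, mul_one]
        _ = t := by rw [hm, one_mul]
    · exfalso
      rw [map_mul, hθU, hθV] at hm
      apply hst
      calc s = t * (t * s) := by rw [← mul_assoc, h.t2, one_mul]
        _ = t := by rw [hm, mul_one]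
    · exfalso
      rw [map_mul, map_mul, hθU, hθV] at hm
      apply ht
      calc t = s * (s * t * s) * s := by
            rw [← mul_assoc, ← mul_assoc, h.s2, one_mul, mul_assoc, h.s2, mul_one]
        _ = 1 := by rw [hm, mul_one, h.s2]
  exact ⟨(MulEquiv.ofBijective θ ⟨hinj, hθs⟩).symm⟩

end Cfsg.Agent.Lib.Helper26
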