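import Cfsg.Agent.Lib.Helper26.SroPerfect2
import Cfsg.Agent.Lib.Helper26.SroSmall3

set_option autoImplicit false
set_option linter.style.haveILetI false
set_option linter.unusedSectionVars false
set_option linter.unusedVariables false

namespace Cfsg.Agent.Lib.Helper26

open Cfsg Cfsg.Agent.S5013 Cfsg.Agent.S5014 Cfsg.Agent.Lib.Helper1

variable {G : Type*} [Group G]

theorem four_not_le {A : Subgroup G} {w x y z : G} (hw : w ∈ A) (hx : x ∈ A) (hy : y ∈ A)
    (hz : z ∈ A) (h1 : w ≠ x) (h2 : w ≠ y) (h3 : w ≠ z) (h4 : x ≠ y) (h5 : x ≠ z) (h6 : y ≠ z) :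
    ¬ ENat.card A ≤ 3 := by
  intro hle
  have h0 : ENat.card A = (A : Set G).encard := rfl
  have hsub : ({w, x, y, z} : Set G) ⊆ (A : Set G) := by
    intro u hu
    rcases hu with rfl | rfl | rfl | rfl <;> assumption
  have hc : ({w, x, y, z} : Set G).encard = 4 := by
    rw [Set.encard_insert_of_notMem, Set.encard_insert_of_notMem, Set.encard_pair h6]
    · norm_num
    · simp [h4, h5]
    · simp [h1, h2, h3]
  have h7 := Set.encard_le_encard hsub
  rw [hc, ← h0] at h7
  have h8 : (4 : ℕ∞) ≤ 3 := h7.trans hle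
  exact absurd h8 (by norm_num)

theorem sro_small_struct {A B : Subgroup G} (H : SRO A B) (hc : ENat.card A ≤ 3) :
    ∃ a b, Pr A B a b ∧ (a * a = 1 ∨ a * a * a = 1) ∧ (∀ a' ∈ A, a' = 1 ∨ a' = a ∨ a' = a⁻¹) ∧
      (∀ b' ∈ B, b' = 1 ∨ b' = b ∨ b' = b⁻¹) := by
  obtain ⟨a, ha, ha1⟩ := ne_bot_left H.h
  obtain ⟨b, hp⟩ := exists_pr H.h ha ha1
  have hord : a * a = 1 ∨ a * a * a = 1 := by
    by_contra hcon
    rw [not_or] at hcon
    refine four_not_le (w := 1) (x := a) (y := a * a) (z := a * a * a) A.one_mem ha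
      (A.mul_mem ha ha) (A.mul_mem (A.mul_mem ha ha) ha) (Ne.symm ha1) (Ne.symm hcon.1)
      (Ne.symm hcon.2) ?_ ?_ ?_ hc
    · intro e
      exact ha1 (left_eq_mul.mp e)
    · intro e
      rw [mul_assoc] at e
      exact hcon.1 (left_eq_mul.mp e)
    · intro e
      exact ha1 (left_eq_mul.mp e)
  have hA : ∀ a' ∈ A, a' = 1 ∨ a' = a ∨ a' = a⁻¹ := by
    intro a' ha'
    by_contra hcon
    simp only [not_or] at hcon
    obtain ⟨c1, c2, c3⟩ := hcon
    refine four_not_le (w := 1) (x := a) (y := a') (z := a * a') A.one_mem ha ha'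
      (A.mul_mem ha ha') (Ne.symm ha1) (Ne.symm c1) ?_ (Ne.symm c2) ?_ ?_ hc
    · intro e
      exact c3 (eq_inv_of_mul_eq_one_right e.symm)
    · intro e
      exact c1 (left_eq_mul.mp e)
    · intro e
      exact ha1 (right_eq_mul.mp e)
  refine ⟨a, b, hp, hord, hA, ?_⟩
  intro b' hb'
  by_cases hb1 : b' = 1
  · left; exact hb1
  · obtain ⟨a', hp'⟩ := exists_pr_right H.h hb' hb1
    rcases hA a' hp'.1 with h | h | h
    · exact absurd h hp'.2.1
    · right; left
      rw [h] at hp'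
      exact Pr.unique_right H.h hp' hp
    · right; right
      rw [h] at hp'
      exact Pr.unique_right H.h hp' (Pr.inv H hp)

theorem sro_small {X : Type*} [Group X] {A B : Subgroup X} (hX : Cfsg.IsRankOneGroup X A B)
    (H : SRO A B) (hc : ENat.card A ≤ 3) :
    Nonempty (X ≃* Matrix.SpecialLinearGroup (Fin 2) (ZMod 2)) ∨
      Nonempty (X ≃* Matrix.SpecialLinearGroup (Fin 2) (ZMod 3)) ∨
      Nonempty (X ≃* Matrix.ProjectiveSpecialLinearGroup (Fin 2) (ZMod 3)) := by
  obtain ⟨a, b, hp, hord, hA, hB⟩ := sro_small_struct H hc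
  have hbr := Pr.braid H hp
  have hbot := rankOne_inf_eq_bot H.h
  have hgen : Subgroup.closure ({a, b⁻¹} : Set X) = ⊤ := by
    have ham : a ∈ Subgroup.closure ({a, b⁻¹} : Set X) := Subgroup.subset_closure (by simp)
    have hbm : b⁻¹ ∈ Subgroup.closure ({a, b⁻¹} : Set X) := Subgroup.subset_closure (by simp)
    rw [eq_top_iff, ← hX.1, sup_le_iff]
    constructor
    · intro a' ha'
      rcases hA a' ha' with rfl | rfl | rfl
      · exact Subgroup.one_mem _
      · exact ham
      · exact Subgroup.inv_mem _ ham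
    · intro b' hb'
      rcases hB b' hb' with rfl | rfl | rfl
      · exact Subgroup.one_mem _
      · have := Subgroup.inv_mem _ hbm
        rw [inv_inv] at this
        exact this
      · exact hbm
  rcases hord with h2 | h3
  · left
    have hb2 : b * b = 1 := by
      have := Pr.pow_eq_one H hp (k := 2) (by rw [pow_two]; exact h2)
      rw [pow_two] at this
      exact this
    have hbi : b⁻¹ = b := inv_eq_of_mul_eq_one_left hb2
    rw [hbi] at hbr hgen
    refine iso_of_S3Gens a b ⟨h2, hb2, hbr⟩ hgen hp.2.1 hp.2.2.2.1 ?_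
    intro e
    apply hp.2.1
    have h1 : a ∈ A ⊓ B := ⟨hp.1, by rw [e]; exact hp.2.2.1⟩
    rw [hbot] at h1
    exact Subgroup.mem_bot.mp h1
  · right
    have hb3 : b⁻¹ * b⁻¹ * b⁻¹ = 1 := by
      have := Pr.pow_eq_one H hp (k := 3) (by
        rw [pow_succ, pow_two]; exact h3)
      rw [pow_succ, pow_two] at this
      calc b⁻¹ * b⁻¹ * b⁻¹ = (b * b * b)⁻¹ := by group
        _ = 1 := by rw [this, inv_one]
    refine iso_of_braid_three h3 hb3 hbr hgen ?_
    intro e
    apply hp.2.2.2.1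
    have h1 : b ∈ A := by
      have e2 : b = a * a := by
        calc b = a * (a * b⁻¹ * a)⁻¹ * a := by group
          _ = a * a := by rw [e, inv_one, mul_one]
      rw [e2]
      exact A.mul_mem hp.1 hp.1
    have h2 : b ∈ A ⊓ B := ⟨h1, hp.2.2.1⟩
    rw [hbot] at h2
    exact Subgroup.mem_bot.mp h2

end Cfsg.Agent.Lib.Helper26
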