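import Cfsg.Agent.Lib.Helper26.SpecialRankOne
import Cfsg.Agent.S5017
import Cfsg.Agent.Lib.Helper9.Quasisimple

set_option autoImplicit false
set_option linter.style.haveILetI false
set_option linter.unusedSectionVars false
set_option linter.unusedVariables false

namespace Cfsg.Agent.Lib.Helper26

open Cfsg Cfsg.Agent.S5013 Cfsg.Agent.S5014
open scoped commutatorElement

variable {G : Type*} [Group G]

theorem mem_diag_iff {A B : Subgroup G} {h : G} :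
    h ∈ Cfsg.rankOneDiagonal A B ↔
      h ∈ A ⊔ B ∧ Cfsg.conjBy A h = A ∧ Cfsg.conjBy B h = B := by
  unfold Cfsg.rankOneDiagonal
  rw [Subgroup.mem_inf, Subgroup.mem_inf]
  constructor
  · rintro ⟨⟨h1, h2⟩, h3⟩
    exact ⟨h1, conjBy_eq_of_mem_normalizer h2, conjBy_eq_of_mem_normalizer h3⟩
  · rintro ⟨h1, h2, h3⟩
    exact ⟨⟨h1, mem_normalizer_of_conjBy_eq h2⟩, mem_normalizer_of_conjBy_eq h3⟩

theorem conjBy_inv_of_swap {A B : Subgroup G} {g : G} (hB : Cfsg.conjBy B g = A) :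
    Cfsg.conjBy A g⁻¹ = B := by
  have := conjBy_inv_conjBy B g
  rw [hB] at this
  exact this

theorem diag_conj_mem {A B : Subgroup G} {g h : G} (hg : g ∈ A ⊔ B)
    (hA : Cfsg.conjBy A g = B) (hB : Cfsg.conjBy B g = A)
    (hh : h ∈ Cfsg.rankOneDiagonal A B) : g * h * g⁻¹ ∈ Cfsg.rankOneDiagonal A B := by
  rw [mem_diag_iff] at hh ⊢
  obtain ⟨h1, h2, h3⟩ := hh
  have hA' : Cfsg.conjBy A g⁻¹ = B := conjBy_inv_of_swap hB
  have hB' : Cfsg.conjBy B g⁻¹ = A := conjBy_inv_of_swap hA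
  refine ⟨(A ⊔ B).mul_mem ((A ⊔ B).mul_mem hg h1) ((A ⊔ B).inv_mem hg), ?_, ?_⟩
  · have e : Cfsg.conjBy A (g * h * g⁻¹) =
        Cfsg.conjBy (Cfsg.conjBy (Cfsg.conjBy A g⁻¹) h) g := by
      rw [conjBy_conjBy, conjBy_conjBy]
    rw [e, hA', h3, hB]
  · have e : Cfsg.conjBy B (g * h * g⁻¹) =
        Cfsg.conjBy (Cfsg.conjBy (Cfsg.conjBy B g⁻¹) h) g := by
      rw [conjBy_conjBy, conjBy_conjBy]
    rw [e, hB', h2, hA]

theorem conjBy_diag_of_swap {A B : Subgroup G} {g : G} (hg : g ∈ A ⊔ B)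
    (hA : Cfsg.conjBy A g = B) (hB : Cfsg.conjBy B g = A) :
    Cfsg.conjBy (Cfsg.rankOneDiagonal A B) g = Cfsg.rankOneDiagonal A B := by
  apply le_antisymm
  · intro z hz
    rw [mem_conjBy_iff] at hz
    have h1 := diag_conj_mem hg hA hB hz
    have e : g * (g⁻¹ * z * g) * g⁻¹ = z := by group
    rw [e] at h1
    exact h1
  · intro z hz
    rw [mem_conjBy_iff]
    have h1 := diag_conj_mem ((A ⊔ B).inv_mem hg) (conjBy_inv_of_swap hB) (conjBy_inv_of_swap hA) hz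
    rw [inv_inv] at h1
    exact h1

theorem Pr.conj_diag {A B : Subgroup G} {a b h : G} (hp : Pr A B a b)
    (hh : h ∈ Cfsg.rankOneDiagonal A B) : Pr A B (h * a * h⁻¹) (h * b * h⁻¹) := by
  rw [mem_diag_iff] at hh
  obtain ⟨h1, h2, h3⟩ := hh
  obtain ⟨ha, ha1, hb, hb1, he⟩ := hp
  have h2' : Cfsg.conjBy A h⁻¹ = A := by
    have := conjBy_inv_conjBy A h
    rw [h2] at this
    exact this
  have h3' : Cfsg.conjBy B h⁻¹ = B := by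
    have := conjBy_inv_conjBy B h
    rw [h3] at this
    exact this
  refine ⟨?_, ?_, ?_, ?_, ?_⟩
  · have := mem_conjBy_of_mem ha h
    rw [h2] at this
    exact this
  · intro h0
    apply ha1
    have e : a = h⁻¹ * (h * a * h⁻¹) * h := by group
    rw [e, h0]
    group
  · have := mem_conjBy_of_mem hb h
    rw [h3] at this
    exact this
  · intro h0
    apply hb1
    have e : b = h⁻¹ * (h * b * h⁻¹) * h := by group
    rw [e, h0]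
    group
  · have e1 : (h * b * h⁻¹)⁻¹ = h * b⁻¹ * h⁻¹ := by group
    have e2 : (h * a * h⁻¹)⁻¹ = h * a⁻¹ * h⁻¹ := by group
    have l : Cfsg.conjBy A (h * b⁻¹ * h⁻¹) =
        Cfsg.conjBy (Cfsg.conjBy (Cfsg.conjBy A h⁻¹) b⁻¹) h := by
      rw [conjBy_conjBy, conjBy_conjBy]
    have r : Cfsg.conjBy B (h * a⁻¹ * h⁻¹) =
        Cfsg.conjBy (Cfsg.conjBy (Cfsg.conjBy B h⁻¹) a⁻¹) h := by
      rw [conjBy_conjBy, conjBy_conjBy]
    rw [e1, e2, l, r, h2', h3', he]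

theorem Pr.n_mem_sup {A B : Subgroup G} {a b : G} (hp : Pr A B a b) : a * b⁻¹ * a ∈ A ⊔ B :=
  (A ⊔ B).mul_mem ((A ⊔ B).mul_mem (Subgroup.mem_sup_left hp.1)
    ((A ⊔ B).inv_mem (Subgroup.mem_sup_right hp.2.2.1))) (Subgroup.mem_sup_left hp.1)

/-- Conjugation by the inverse of `n = a b⁻¹ a` swaps `⁅A, D⁆` and `⁅B, D⁆`. -/
theorem Pr.conjBy_commA {A B : Subgroup G} (H : SRO A B) {a b : G} (hp : Pr A B a b) :
    Cfsg.conjBy ⁅A, Cfsg.rankOneDiagonal A B⁆ (a * b⁻¹ * a)⁻¹ = ⁅B, Cfsg.rankOneDiagonal A B⁆ := by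
  rw [conjBy_commutator, Pr.conjBy_A_n_inv H hp,
    conjBy_diag_of_swap ((A ⊔ B).inv_mem (Pr.n_mem_sup hp)) (Pr.conjBy_A_n_inv H hp)
      (Pr.conjBy_B_n_inv hp)]

theorem Pr.conjBy_commB {A B : Subgroup G} (H : SRO A B) {a b : G} (hp : Pr A B a b) :
    Cfsg.conjBy ⁅B, Cfsg.rankOneDiagonal A B⁆ (a * b⁻¹ * a)⁻¹ = ⁅A, Cfsg.rankOneDiagonal A B⁆ := by
  rw [conjBy_commutator, Pr.conjBy_B_n_inv hp,
    conjBy_diag_of_swap ((A ⊔ B).inv_mem (Pr.n_mem_sup hp)) (Pr.conjBy_A_n_inv H hp)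
      (Pr.conjBy_B_n_inv hp)]

/-- Key lemma: an element of `A` moved by the diagonal subgroup lies in `⁅A, H⁆`. -/
theorem mem_comm_of_moved {A B : Subgroup G} (H : SRO A B) {a h : G} (ha : a ∈ A)
    (hh : h ∈ Cfsg.rankOneDiagonal A B) (hne : h * a * h⁻¹ ≠ a) :
    a ∈ ⁅A, Cfsg.rankOneDiagonal A B⁆ := by
  have ha1 : a ≠ 1 := by
    rintro rfl
    apply hne
    group
  obtain ⟨β, hβ⟩ := exists_pr H.h ha ha1
  have hβ' := Pr.conj_diag hβ hh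
  have ha0A : h * a * h⁻¹ * a⁻¹ ∈ A := A.mul_mem hβ'.1 (A.inv_mem ha)
  have ha0ne : h * a * h⁻¹ * a⁻¹ ≠ 1 := fun e => hne (mul_inv_eq_one.mp e)
  have ha0C : h * a * h⁻¹ * a⁻¹ ∈ ⁅A, Cfsg.rankOneDiagonal A B⁆ := by
    rw [Subgroup.commutator_comm]
    have := Subgroup.commutator_mem_commutator hh ha
    rw [commutatorElement_def] at this
    exact this
  have hb0C : h * β * h⁻¹ * β⁻¹ ∈ ⁅B, Cfsg.rankOneDiagonal A B⁆ := by
    rw [Subgroup.commutator_comm]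
    have := Subgroup.commutator_mem_commutator hh hβ.2.2.1
    rw [commutatorElement_def] at this
    exact this
  obtain ⟨β₀, hβ₀⟩ := exists_pr H.h ha0A ha0ne
  have hxc : Pr A B (h * a * h⁻¹ * a⁻¹ * a) (h * β * h⁻¹) := by
    rw [inv_mul_cancel_right]
    exact hβ'
  have hz := Pr.shift H hβ hβ₀ hxc
  -- β₀ ∈ ⁅B, D⁆
  have h1 : β₀ ∈ ⁅B, Cfsg.rankOneDiagonal A B⁆ := by
    have h2 := mem_conjBy_inv_of_mem ha0C
      ((h * a * h⁻¹ * a⁻¹) * β₀⁻¹ * (h * a * h⁻¹ * a⁻¹))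
    rw [Pr.conjBy_commA H hβ₀, Pr.n_conj_a H hβ₀] at h2
    have h3 := Subgroup.inv_mem _ h2
    rw [inv_inv] at h3
    exact h3
  -- n⁻¹ β₀ n ∈ ⁅A, D⁆
  have h4 : (a * β⁻¹ * a)⁻¹ * β₀ * (a * β⁻¹ * a) ∈ ⁅A, Cfsg.rankOneDiagonal A B⁆ := by
    have h2 := mem_conjBy_inv_of_mem h1 (a * β⁻¹ * a)
    rw [Pr.conjBy_commB H hβ] at h2
    exact h2
  -- a'' ∈ ⁅A, D⁆
  have h5 : (a * β⁻¹ * a)⁻¹ * β₀ * (a * β⁻¹ * a) * a⁻¹ ∈ ⁅A, Cfsg.rankOneDiagonal A B⁆ := by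
    have h2 := mem_conjBy_inv_of_mem hb0C
      (((a * β⁻¹ * a)⁻¹ * β₀ * (a * β⁻¹ * a) * a⁻¹) * (h * β * h⁻¹ * β⁻¹)⁻¹ *
        ((a * β⁻¹ * a)⁻¹ * β₀ * (a * β⁻¹ * a) * a⁻¹))
    rw [Pr.conjBy_commB H hz, Pr.n_conj_b H hz] at h2
    have h3 := Subgroup.inv_mem _ h2
    rw [inv_inv] at h3
    exact h3
  have h6 : a⁻¹ ∈ ⁅A, Cfsg.rankOneDiagonal A B⁆ := by
    have h7 := Subgroup.mul_mem _ (Subgroup.inv_mem _ h4) h5
    have e : ((a * β⁻¹ * a)⁻¹ * β₀ * (a * β⁻¹ * a))⁻¹ *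
        ((a * β⁻¹ * a)⁻¹ * β₀ * (a * β⁻¹ * a) * a⁻¹) = a⁻¹ := by group
    rw [e] at h7
    exact h7
  have h8 := Subgroup.inv_mem _ h6
  rw [inv_inv] at h8
  exact h8

end Cfsg.Agent.Lib.Helper26
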