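import Cfsg.Agent.Lib.Helper26.SpecialRankOne

set_option autoImplicit false
open Cfsg

namespace Cfsg.Agent.Lib.Helper26

variable {G : Type*} [Group G]

theorem SRO.symm {A B : Subgroup G} (H : SRO A B) : SRO B A := by
  refine ⟨Cfsg.RankOnePair_symm H.h, ?_, H.cB, H.cA⟩
  intro b a hp
  have h1 := H.sp a b ⟨hp.2.2.1, hp.2.2.2.1, hp.1, hp.2.1, hp.2.2.2.2.symm⟩
  have h2 := congrArg (fun x => x⁻¹) h1
  simp only [mul_inv_rev, inv_inv] at h2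
  rw [← mul_assoc, ← mul_assoc] at h2
  exact h2.symm

theorem Pr.symm {A B : Subgroup G} {a b : G} (hp : Pr A B a b) : Pr B A b a :=
  ⟨hp.2.2.1, hp.2.2.2.1, hp.1, hp.2.1, hp.2.2.2.2.symm⟩

section zp

variable {p : ℕ} [Fact p.Prime]

theorem zp_add {g : G} (hg : g ^ p = 1) (t u : ZMod p) :
    g ^ (t + u).val = g ^ t.val * g ^ u.val := by
  rw [ZMod.val_add, ← pow_eq_pow_mod _ hg, pow_add]

theorem zp_mul {g : G} (hg : g ^ p = 1) (t u : ZMod p) :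
    g ^ (t * u).val = (g ^ t.val) ^ u.val := by
  rw [ZMod.val_mul, ← pow_eq_pow_mod _ hg, pow_mul]

theorem zp_neg {g : G} (hg : g ^ p = 1) (t : ZMod p) :
    g ^ (-t).val = (g ^ t.val)⁻¹ := by
  have h1 := zp_add hg t (-t)
  rw [add_neg_cancel, ZMod.val_zero, pow_zero] at h1
  exact eq_inv_of_mul_eq_one_right h1.symm

theorem zp_one (g : G) : g ^ (1 : ZMod p).val = g := by
  rw [ZMod.val_one, pow_one]

theorem zp_pow_p {g : G} (hg : g ^ p = 1) (k : ℕ) : (g ^ k) ^ p = 1 := by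
  rw [← pow_mul, mul_comm, pow_mul, hg, one_pow]

theorem zp_ne_one {g : G} (hg : g ^ p = 1) (hg1 : g ≠ 1) {t : ZMod p} (ht : t ≠ 0) :
    g ^ t.val ≠ 1 := by
  intro h1
  have h2 : orderOf g = p := orderOf_eq_prime hg hg1
  have h3 : orderOf g ∣ t.val := orderOf_dvd_of_pow_eq_one h1
  have h5 : ∀ m : ℕ, orderOf g = m → m ∣ t.val := fun m hm => hm ▸ h3
  have h3 : p ∣ t.val := h5 p h2
  have h4 : t.val = 0 := Nat.eq_zero_of_dvd_of_lt h3 (ZMod.val_lt t)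
  exact ht ((ZMod.val_eq_zero t).mp h4)

/-- Partners of powers of a partner pair of order `p`. -/
theorem Pr.zp {A B : Subgroup G} (H : SRO A B) {a b : G} (hp : Pr A B a b) (hap : a ^ p = 1)
    {t : ZMod p} (ht : t ≠ 0) : Pr A B (a ^ t.val) (b ^ (t⁻¹).val) := by
  have hc1 : a ^ t.val ≠ 1 := zp_ne_one hap hp.2.1 ht
  obtain ⟨β', hβ'⟩ := exists_pr H.h (A.pow_mem hp.1 t.val) hc1
  have hk : t.val ≠ 0 := fun h0 => ht ((ZMod.val_eq_zero t).mp h0)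
  obtain ⟨k, hk⟩ := Nat.exists_eq_succ_of_ne_zero hk
  have e1 : β' ^ t.val = b := by
    rw [hk] at hβ' hc1 ⊢
    exact pr_pow H k a b β' hc1 hp hβ'
  have hβp : β' ^ p = 1 := Pr.pow_eq_one H hβ' (zp_pow_p hap _)
  have e2 : b ^ (t⁻¹).val = β' := by
    rw [← e1, ← zp_mul hβp, mul_inv_cancel₀ ht, zp_one]
  rw [e2]
  exact hβ'

/-- The Steinberg relation `w(t) x(u) w(t)⁻¹ = y(-t⁻² u)` in a special rank one group. -/
theorem Pr.steinberg_rel {A B : Subgroup G} (H : SRO A B) {a b : G} (hp : Pr A B a b)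
    (hap : a ^ p = 1) {t : ZMod p} (ht : t ≠ 0) (u : ZMod p) :
    (a ^ t.val * b ^ (-t⁻¹).val * a ^ t.val) * a ^ u.val *
      (a ^ t.val * b ^ (-t⁻¹).val * a ^ t.val)⁻¹ * (b ^ (-(t⁻¹ ^ 2 * u)).val)⁻¹ = 1 := by
  have hbp : b ^ p = 1 := Pr.pow_eq_one H hp hap
  have hcβ := Pr.zp H hp hap ht
  have h1 := Pr.n_conj_b H hcβ
  rw [zp_neg hbp]
  generalize hc : a ^ t.val = c at *
  generalize hβ : b ^ (t⁻¹).val = β at *
  have hcp : c ^ p = 1 := by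
    rw [← hc]
    exact zp_pow_p hap _
  have hβp : β ^ p = 1 := by
    rw [← hβ]
    exact zp_pow_p hbp _
  have e1 : a ^ u.val = c ^ (t⁻¹ * u).val := by
    rw [← hc, ← zp_mul hap, mul_inv_cancel_left₀ ht]
  have e2 : b ^ (-(t⁻¹ ^ 2 * u)).val = (β ^ (t⁻¹ * u).val)⁻¹ := by
    rw [zp_neg hbp, ← hβ, ← zp_mul hbp, pow_two, mul_assoc]
  have e3 : (c * β⁻¹ * c) * c * (c * β⁻¹ * c)⁻¹ = β⁻¹ := by
    have h2 : β = (c * β⁻¹ * c) * c⁻¹ * (c * β⁻¹ * c)⁻¹ := by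
      rw [← h1]
      group
    calc (c * β⁻¹ * c) * c * (c * β⁻¹ * c)⁻¹ = ((c * β⁻¹ * c) * c⁻¹ * (c * β⁻¹ * c)⁻¹)⁻¹ := by
          group
      _ = β⁻¹ := by rw [← h2]
  rw [e1, e2, ← conj_pow, e3, inv_pow, mul_inv_eq_one]

end zp

end Cfsg.Agent.Lib.Helper26
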