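import Cfsg.Agent.Lib.Helper26.SroPrime
import Cfsg.Agent.S2426

set_option autoImplicit false
open Cfsg

namespace Cfsg.Agent.Lib.Helper26

variable {G : Type*} [Group G]

section

variable {p : ℕ} [Fact p.Prime]

/-- The generator assignment `x(t) ↦ a ^ t`, `y(t) ↦ b ^ t`. -/
def sroGen (a b : G) (x : Bool × ZMod p) : G := (cond x.1 a b) ^ x.2.val

theorem sroGen_rels {A B : Subgroup G} (H : SRO A B) {a b : G} (hp : Pr A B a b)
    (hap : a ^ p = 1) :
    ∀ r ∈ ({g : FreeGroup (Bool × ZMod p) | ∃ (b : Bool) (t u : ZMod p),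
        g = FreeGroup.of (b, t) * FreeGroup.of (b, u) * (FreeGroup.of (b, t + u))⁻¹} ∪
          {g | ∃ (b : Bool) (t u : ZMod p), t ≠ 0 ∧
            g = (FreeGroup.of (b, t) * FreeGroup.of (!b, -t⁻¹) * FreeGroup.of (b, t)) *
                FreeGroup.of (b, u) *
                  (FreeGroup.of (b, t) * FreeGroup.of (!b, -t⁻¹) * FreeGroup.of (b, t))⁻¹ *
                  (FreeGroup.of (!b, -(t⁻¹ ^ 2 * u)))⁻¹}),
      FreeGroup.lift (sroGen a b) r = 1 := by
  have hbp : b ^ p = 1 := Pr.pow_eq_one H hp hap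
  rintro r (⟨i, t, u, rfl⟩ | ⟨i, t, u, ht, rfl⟩)
  · simp only [map_mul, map_inv, FreeGroup.lift_apply_of, sroGen]
    cases i
    · simp only [cond_false]
      rw [zp_add hbp, mul_inv_cancel]
    · simp only [cond_true]
      rw [zp_add hap, mul_inv_cancel]
  · simp only [map_mul, map_inv, FreeGroup.lift_apply_of, sroGen]
    cases i
    · simp only [cond_false, Bool.not_false, cond_true]
      exact Pr.steinberg_rel H.symm hp.symm hbp ht u
    · simp only [cond_true, Bool.not_true, cond_false]
      exact Pr.steinberg_rel H hp hap ht u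

theorem sroGen_closure (a b : G) :
    Subgroup.closure (Set.range (sroGen (p := p) a b)) = Subgroup.closure ({a, b} : Set G) := by
  apply le_antisymm
  · rw [Subgroup.closure_le]
    rintro _ ⟨⟨i, t⟩, rfl⟩
    cases i
    · exact Subgroup.pow_mem _ (Subgroup.subset_closure (by simp)) _
    · exact Subgroup.pow_mem _ (Subgroup.subset_closure (by simp)) _
  · rw [Subgroup.closure_le]
    rintro x (rfl | rfl)
    · apply Subgroup.subset_closure
      exact ⟨(true, 1), by simp only [sroGen, cond_true]; exact zp_one _⟩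
    · apply Subgroup.subset_closure
      exact ⟨(false, 1), by simp only [sroGen, cond_false]; exact zp_one _⟩

/-- The homomorphism from `SL₂(p)` onto `⟨a, b⟩` for a partner pair of order `p`. -/
theorem sro_hom_exists {A B : Subgroup G} (H : SRO A B) {a b : G} (hp : Pr A B a b)
    (hap : a ^ p = 1) :
    ∃ θ : Matrix.SpecialLinearGroup (Fin 2) (ZMod p) →* G,
      (∀ (g : Matrix.SpecialLinearGroup (Fin 2) (ZMod p)) (t : ZMod p),
        (g : Matrix (Fin 2) (Fin 2) (ZMod p)) = !![1, t; 0, 1] → θ g = a ^ t.val) ∧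
      (∀ (g : Matrix.SpecialLinearGroup (Fin 2) (ZMod p)) (t : ZMod p),
        (g : Matrix (Fin 2) (Fin 2) (ZMod p)) = !![1, 0; t, 1] → θ g = b ^ t.val) ∧
      θ.range = Subgroup.closure ({a, b} : Set G) := by
  obtain ⟨e, he1, he2⟩ := Cfsg.Agent.S2426.result (K := ZMod p)
  refine ⟨(PresentedGroup.toGroup (sroGen_rels H hp hap)).comp e.symm.toMonoidHom, ?_, ?_, ?_⟩
  · intro g t hg
    have e1 : g = e (PresentedGroup.of (true, t)) := Subtype.ext (by rw [hg, he1])
    rw [e1]
    simp [sroGen]
  · intro g t hg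
    have e1 : g = e (PresentedGroup.of (false, t)) := Subtype.ext (by rw [hg, he2])
    rw [e1]
    simp [sroGen]
  · rw [MonoidHom.range_comp]
    have h1 : e.symm.toMonoidHom.range = ⊤ := MonoidHom.range_eq_top.mpr e.symm.surjective
    rw [h1, ← PresentedGroup.closure_range_of, MonoidHom.map_closure, ← Set.range_comp,
      ← sroGen_closure (p := p)]
    congr 2
    funext x
    simp

end

end Cfsg.Agent.Lib.Helper26
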