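import Cfsg.Agent.Lib.Helper26.SroPrime2
import Cfsg.Agent.S5016
import Cfsg.Agent.S5017

set_option autoImplicit false
open Cfsg

namespace Cfsg.Agent.Lib.Helper26

theorem sl2_center_elt {K : Type*} [Field K] {w z : Matrix.SpecialLinearGroup (Fin 2) K}
    (hw : w ∈ Subgroup.center (Matrix.SpecialLinearGroup (Fin 2) K)) (hw1 : w ≠ 1)
    (hz : z ∈ Subgroup.center (Matrix.SpecialLinearGroup (Fin 2) K)) (hz1 : z ≠ 1) : w = z := by
  obtain ⟨r, hr, hrw⟩ := Matrix.SpecialLinearGroup.mem_center_iff.mp hw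
  obtain ⟨s, hs, hsz⟩ := Matrix.SpecialLinearGroup.mem_center_iff.mp hz
  rw [Fintype.card_fin] at hr hs
  have key : ∀ (x : K) (y : Matrix.SpecialLinearGroup (Fin 2) K), x ^ 2 = 1 →
      Matrix.scalar (Fin 2) x = (y : Matrix (Fin 2) (Fin 2) K) → y ≠ 1 → x = -1 := by
    intro x y hx hxy hy1
    rcases sq_eq_one_iff.mp hx with h1 | h1
    · exfalso
      apply hy1
      apply Subtype.ext
      rw [← hxy, h1]
      simp
    · exact h1
  apply Subtype.ext
  rw [← hrw, ← hsz, key r w hr hrw hw1, key s z hs hsz hz1]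

theorem sl2_center_sub {K : Type*} [Field K] (N : Subgroup (Matrix.SpecialLinearGroup (Fin 2) K))
    (hN : N ≤ Subgroup.center (Matrix.SpecialLinearGroup (Fin 2) K)) :
    N = ⊥ ∨ N = Subgroup.center (Matrix.SpecialLinearGroup (Fin 2) K) := by
  by_cases h : N = ⊥
  · exact Or.inl h
  · right
    apply le_antisymm hN
    obtain ⟨⟨z, hz⟩, hz1⟩ := Subgroup.ne_bot_iff_exists_ne_one.mp h
    have hz1' : z ≠ 1 := fun h0 => hz1 (Subtype.ext h0)
    intro w hw
    by_cases hw1 : w = 1
    · rw [hw1]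
      exact N.one_mem
    · rw [sl2_center_elt hw hw1 (hN hz) hz1']
      exact hz

/-- For a partner pair `(a, b)` of prime order `p` in a special rank one group with abelian
unipotent subgroups, `⟨a, b⟩` is `SL₂(p)` or `PSL₂(p)`. -/
theorem sro_prime_closure {X : Type*} [Group X] {A B : Subgroup X} (H : SRO A B) {p : ℕ}
    [Fact p.Prime] {a b : X} (hp : Pr A B a b) (hap : a ^ p = 1) :
    Nonempty (↥(Subgroup.closure ({a, b} : Set X)) ≃*
      Matrix.SpecialLinearGroup (Fin 2) (ZMod p)) ∨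
    Nonempty (↥(Subgroup.closure ({a, b} : Set X)) ≃*
      Matrix.ProjectiveSpecialLinearGroup (Fin 2) (ZMod p)) := by
  obtain ⟨θ, -, h2, h3⟩ := sro_hom_exists H hp hap
  obtain ⟨hR, -, -⟩ := Cfsg.Agent.S5016.result (ZMod p)
  have hker : θ.ker ≤ Subgroup.center (Matrix.SpecialLinearGroup (Fin 2) (ZMod p)) := by
    rcases (Cfsg.Agent.S5017.result hR).1 θ.ker inferInstance with h4 | h4
    · exfalso
      have h5 : (Cfsg.lowerUnipotentSL2 (ZMod p)).map θ ≤ B := by
        rw [Subgroup.map_le_iff_le_comap, Cfsg.lowerUnipotentSL2, Subgroup.closure_le]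
        rintro g ⟨hg1, hg2, hg3⟩
        have hg : (g : Matrix (Fin 2) (Fin 2) (ZMod p)) = !![1, 0; g 1 0, 1] := by
          ext i j
          fin_cases i <;> fin_cases j <;> simp [hg1, hg2, hg3]
        rw [SetLike.mem_coe, Subgroup.mem_comap, h2 g _ hg]
        exact B.pow_mem hp.2.2.1 _
      have h6 : a ∈ θ.range := by
        rw [h3]
        exact Subgroup.subset_closure (by simp)
      rw [MonoidHom.range_eq_map, ← h4, Subgroup.map_sup, Subgroup.map_ker_self, bot_sup_eq] at h6
      have h7 : a ∈ A ⊓ Subgroup.normalizer (B : Set X) :=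
        ⟨hp.1, Subgroup.le_normalizer (h5 h6)⟩
      rw [(Cfsg.Agent.S5013.result H.h).2.2.1, Subgroup.mem_bot] at h7
      exact hp.2.1 h7
    · exact h4
  rcases sl2_center_sub θ.ker hker with h4 | h4
  · left
    have hinj : Function.Injective θ := (MonoidHom.ker_eq_bot_iff θ).mp h4
    exact ⟨((MonoidHom.ofInjective hinj).trans (MulEquiv.subgroupCongr h3)).symm⟩
  · right
    exact ⟨((QuotientGroup.quotientMulEquivOfEq h4).symm.trans
      ((QuotientGroup.quotientKerEquivRange θ).trans (MulEquiv.subgroupCongr h3))).symm⟩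

end Cfsg.Agent.Lib.Helper26
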