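import Cfsg.Agent.Lib.Helper1.SL23Recog

set_option autoImplicit false
set_option linter.style.haveILetI false
set_option linter.unusedSectionVars false
set_option linter.unusedVariables false

namespace Cfsg.Agent.Lib.Helper26

open Cfsg.Agent.Lib.Helper1

/-- A group generated by elements satisfying the `SL(2,3)` relations is a homomorphic image of
`SL(2,3)`. -/
theorem exists_hom_SL23 {X : Type*} [Group X] (i j g : X) (h : QGens i j g)
    (hgen : Subgroup.closure ({i, j, g} : Set X) = ⊤) :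
    ∃ θ : SL23 →* X, Function.Surjective θ ∧ θ mI = i ∧ θ mJ = j ∧ θ mU = g := by
  have hS := qgens_SL23
  have hQ : QGens ((i, mI) : X × SL23) (j, mJ) (g, mU) :=
    { i4 := Prod.ext (by simpa using h.i4) (by simpa using hS.i4)
      j2 := Prod.ext (by simpa using h.j2) (by simpa using hS.j2)
      ji := Prod.ext (by simpa using h.ji) (by simpa using hS.ji)
      gi := Prod.ext (by simpa using h.gi) (by simpa using hS.gi)
      gj := Prod.ext (by simpa using h.gj) (by simpa using hS.gj)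
      g3 := Prod.ext (by simpa using h.g3) (by simpa using hS.g3) }
  obtain ⟨Δ, hΔ⟩ : ∃ Δ : Subgroup (X × SL23),
    Δ = Subgroup.closure ({((i, mI) : X × SL23), (j, mJ), (g, mU)} : Set (X × SL23)) := ⟨_, rfl⟩
  have hcard : Nat.card Δ ≤ 24 := by rw [hΔ]; exact hQ.card_closure_le
  haveI hfin : Finite Δ := by rw [hΔ]; exact hQ.finite_closure
  have hiΔ : ((i, mI) : X × SL23) ∈ Δ := by rw [hΔ]; exact Subgroup.subset_closure (by simp)
  have hjΔ : ((j, mJ) : X × SL23) ∈ Δ := by rw [hΔ]; exact Subgroup.subset_closure (by simp)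
  have hgΔ : ((g, mU) : X × SL23) ∈ Δ := by rw [hΔ]; exact Subgroup.subset_closure (by simp)
  let π₁ : Δ →* X := (MonoidHom.fst X SL23).comp Δ.subtype
  let π₂ : Δ →* SL23 := (MonoidHom.snd X SL23).comp Δ.subtype
  have hs₂ : Function.Surjective π₂ := by
    intro y
    obtain ⟨t, rfl⟩ := nf_surj_SL23 y
    refine ⟨⟨((i, mI) : X × SL23) ^ t.1.val * (j, mJ) ^ t.2.1.val * (g, mU) ^ t.2.2.val,
      Δ.mul_mem (Δ.mul_mem (Δ.pow_mem hiΔ _) (Δ.pow_mem hjΔ _)) (Δ.pow_mem hgΔ _)⟩, ?_⟩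
    simp [π₂]
  have hs₁ : Function.Surjective π₁ := by
    rw [← MonoidHom.range_eq_top, eq_top_iff, ← hgen, Subgroup.closure_le]
    rintro y (rfl | rfl | rfl)
    · exact ⟨⟨_, hiΔ⟩, rfl⟩
    · exact ⟨⟨_, hjΔ⟩, rfl⟩
    · exact ⟨⟨_, hgΔ⟩, rfl⟩
  have hb₂ : Function.Bijective π₂ :=
    hs₂.bijective_of_nat_card_le (by rw [card_SL23]; exact hcard)
  let e₂ : Δ ≃* SL23 := MulEquiv.ofBijective π₂ hb₂
  let θ : SL23 →* X := π₁.comp e₂.symm.toMonoidHom
  have hθs : Function.Surjective θ := by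
    intro y
    obtain ⟨d, rfl⟩ := hs₁ y
    exact ⟨e₂ d, by simp [θ]⟩
  have hθI : θ mI = i := by
    have h1 : e₂ ⟨(i, mI), hiΔ⟩ = mI := rfl
    have h2 : e₂.symm mI = ⟨(i, mI), hiΔ⟩ := (MulEquiv.symm_apply_eq e₂).mpr h1.symm
    show π₁ (e₂.symm mI) = i
    rw [h2]; rfl
  have hθJ : θ mJ = j := by
    have h1 : e₂ ⟨(j, mJ), hjΔ⟩ = mJ := rfl
    have h2 : e₂.symm mJ = ⟨(j, mJ), hjΔ⟩ := (MulEquiv.symm_apply_eq e₂).mpr h1.symm
    show π₁ (e₂.symm mJ) = j
    rw [h2]; rfl
  have hθU : θ mU = g := by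
    have h1 : e₂ ⟨(g, mU), hgΔ⟩ = mU := rfl
    have h2 : e₂.symm mU = ⟨(g, mU), hgΔ⟩ := (MulEquiv.symm_apply_eq e₂).mpr h1.symm
    show π₁ (e₂.symm mU) = g
    rw [h2]; rfl
  exact ⟨θ, hθs, hθI, hθJ, hθU⟩

set_option maxRecDepth 100000 in
theorem sl23_ker_fact : ∀ m : SL23, m = 1 ∨ m = mI ^ 2 ∨ (∃ v : SL23, mI = v * m * v⁻¹) ∨
    (∃ u v : SL23, mI = v * (m⁻¹ * (u * m * u⁻¹)) * v⁻¹) := by decide

set_option maxRecDepth 100000 in
theorem sl23_center_fact : ∀ m : SL23, m ∈ Subgroup.center SL23 → m = 1 ∨ m = mI ^ 2 := by decide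

set_option maxRecDepth 100000 in
theorem sl23_mI_sq_center : mI ^ 2 ∈ Subgroup.center SL23 := by decide

/-- A group generated by elements satisfying the `SL(2,3)` relations with `i ≠ 1` is `SL(2,3)`
or `PSL(2,3)`. -/
theorem iso_of_QGens {X : Type*} [Group X] (i j g : X) (h : QGens i j g)
    (hgen : Subgroup.closure ({i, j, g} : Set X) = ⊤) (hi : i ≠ 1) :
    Nonempty (X ≃* SL23) ∨
      Nonempty (X ≃* Matrix.ProjectiveSpecialLinearGroup (Fin 2) (ZMod 3)) := by
  obtain ⟨θ, hθs, hθI, -, -⟩ := exists_hom_SL23 i j g h hgen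
  have hker : ∀ m : SL23, θ m = 1 → m = 1 ∨ m = mI ^ 2 := by
    intro m hm
    rcases sl23_ker_fact m with h1 | h1 | ⟨v, hv⟩ | ⟨u, v, hv⟩
    · exact Or.inl h1
    · exact Or.inr h1
    · exfalso
      apply hi
      rw [← hθI, hv, map_mul, map_mul, hm, map_inv]
      group
    · exfalso
      apply hi
      rw [← hθI, hv]
      simp only [map_mul, map_inv, hm]
      group
  by_cases hi2 : i ^ 2 = 1
  · right
    have hkc : θ.ker = Subgroup.center SL23 := by
      ext m
      rw [MonoidHom.mem_ker]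
      constructor
      · intro hm
        rcases hker m hm with rfl | rfl
        · exact Subgroup.one_mem _
        · exact sl23_mI_sq_center
      · intro hm
        rcases sl23_center_fact m hm with rfl | rfl
        · exact map_one θ
        · rw [map_pow, hθI, hi2]
    exact ⟨((QuotientGroup.quotientKerEquivOfSurjective θ hθs).symm).trans
      (QuotientGroup.quotientMulEquivOfEq hkc)⟩
  · left
    have hinj : Function.Injective θ := by
      rw [injective_iff_map_eq_one]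
      intro m hm
      rcases hker m hm with h1 | h1
      · exact h1
      · exfalso
        apply hi2
        rw [← hθI, ← map_pow, ← h1, hm]
    exact ⟨(MulEquiv.ofBijective θ ⟨hinj, hθs⟩).symm⟩

end Cfsg.Agent.Lib.Helper26
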