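import Cfsg.Agent.Lib.Helper26.SroSmall

set_option autoImplicit false
set_option linter.style.haveILetI false
set_option linter.unusedSectionVars false
set_option linter.unusedVariables false

namespace Cfsg.Agent.Lib.Helper26

open Cfsg.Agent.Lib.Helper1

section braid

variable {X : Type*} [Group X] {x y : X}

theorem br_inv_eq (hx : x * x * x = 1) : x⁻¹ = x * x := by
  rw [inv_eq_iff_mul_eq_one, ← mul_assoc]
  exact hx

theorem br_sq (hy : y * y * y = 1) (hb : x * y * x = y * x * y) :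
    (x * y * x) * (x * y * x) = (x * y⁻¹) * (x * y⁻¹) := by
  have hyi := br_inv_eq hy
  calc (x * y * x) * (x * y * x) = (x * y * x) * (y * x * y) := by rw [← hb]
    _ = x * y * (x * y * x) * y := by group
    _ = x * y * (y * x * y) * y := by rw [hb]
    _ = x * (y * y) * x * (y * y) := by group
    _ = x * y⁻¹ * x * y⁻¹ := by rw [← hyi]
    _ = (x * y⁻¹) * (x * y⁻¹) := by group

theorem br_sq' (hx : x * x * x = 1) (hb : x * y * x = y * x * y) :
    (x * y * x) * (x * y * x) = (y * x⁻¹) * (y * x⁻¹) := by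
  have h1 := br_sq (x := y) (y := x) hx hb.symm
  rw [← hb] at h1
  exact h1

theorem br_qgens (hx : x * x * x = 1) (hy : y * y * y = 1) (hb : x * y * x = y * x * y) :
    QGens (x * y * x) (y * x⁻¹) x⁻¹ := by
  have hxi := br_inv_eq hx
  have hyi := br_inv_eq hy
  have e1 := br_sq hy hb
  have e2 := br_sq' hx hb
  have h4 : (x * y * x) ^ 4 = 1 := by
    have hp4 : ∀ d : X, d ^ 4 = (d * d) * (d * d) := fun d => by
      simp only [pow_succ, pow_zero, one_mul, mul_assoc]
    calc (x * y * x) ^ 4 = ((x * y * x) * (x * y * x)) * ((x * y * x) * (x * y * x)) := hp4 _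
      _ = ((x * y⁻¹) * (x * y⁻¹)) * ((y * x⁻¹) * (y * x⁻¹)) := by rw [← e1, ← e2]
      _ = 1 := by group
  have hgi : x⁻¹ * (x * y * x) * x⁻¹⁻¹ = y * x⁻¹ := by
    calc x⁻¹ * (x * y * x) * x⁻¹⁻¹ = y * (x * x) := by group
      _ = y * x⁻¹ := by rw [← hxi]
  refine ⟨h4, ?_, ?_, hgi, ?_, ?_⟩
  · -- j ^ 2 = i ^ 2
    rw [pow_two, pow_two, e2]
  · -- j * i * j⁻¹ = i ^ 3
    have h3 : (x * y * x) ^ 3 = (x * y * x)⁻¹ := by
      rw [eq_inv_iff_mul_eq_one, ← pow_succ]
      exact h4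
    rw [h3]
    calc y * x⁻¹ * (x * y * x) * (y * x⁻¹)⁻¹ = y * (x⁻¹ * (x * y * x) * x⁻¹⁻¹) * y⁻¹ := by group
      _ = y * (y * x⁻¹) * y⁻¹ := by rw [hgi]
      _ = (y * y) * x⁻¹ * y⁻¹ := by group
      _ = y⁻¹ * x⁻¹ * y⁻¹ := by rw [← hyi]
      _ = (y * x * y)⁻¹ := by group
      _ = (x * y * x)⁻¹ := by rw [← hb]
  · -- g * j * g⁻¹ = i * j
    have h5 : x⁻¹ * y * x = y * x * y⁻¹ := by
      calc x⁻¹ * y * x = x⁻¹ * (y * x * y) * y⁻¹ := by group
        _ = x⁻¹ * (x * y * x) * y⁻¹ := by rw [← hb]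
        _ = y * x * y⁻¹ := by group
    calc x⁻¹ * (y * x⁻¹) * x⁻¹⁻¹ = (x⁻¹ * y * x) * x⁻¹ := by group
      _ = (y * x * y⁻¹) * x⁻¹ := by rw [h5]
      _ = y * x * (y * y) * x⁻¹ := by rw [hyi]
      _ = (y * x * y) * y * x⁻¹ := by group
      _ = (x * y * x) * y * x⁻¹ := by rw [← hb]
      _ = x * y * x * (y * x⁻¹) := by group
  · -- g ^ 3 = 1
    calc x⁻¹ ^ 3 = (x * x * x)⁻¹ := by group
      _ = 1 := by rw [hx, inv_one]

theorem br_closure (hx : x * x * x = 1) :
    Subgroup.closure ({x * y * x, y * x⁻¹, x⁻¹} : Set X) = Subgroup.closure ({x, y} : Set X) := by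
  apply le_antisymm
  · rw [Subgroup.closure_le]
    have hxm : x ∈ Subgroup.closure ({x, y} : Set X) := Subgroup.subset_closure (by simp)
    have hym : y ∈ Subgroup.closure ({x, y} : Set X) := Subgroup.subset_closure (by simp)
    rintro z (rfl | rfl | rfl)
    · exact Subgroup.mul_mem _ (Subgroup.mul_mem _ hxm hym) hxm
    · exact Subgroup.mul_mem _ hym (Subgroup.inv_mem _ hxm)
    · exact Subgroup.inv_mem _ hxm
  · rw [Subgroup.closure_le]
    have h1 : x⁻¹ ∈ Subgroup.closure ({x * y * x, y * x⁻¹, x⁻¹} : Set X) :=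
      Subgroup.subset_closure (by simp)
    have h2 : y * x⁻¹ ∈ Subgroup.closure ({x * y * x, y * x⁻¹, x⁻¹} : Set X) :=
      Subgroup.subset_closure (by simp)
    have hxm : x ∈ Subgroup.closure ({x * y * x, y * x⁻¹, x⁻¹} : Set X) := by
      have := Subgroup.inv_mem _ h1
      rw [inv_inv] at this
      exact this
    rintro z (rfl | rfl)
    · exact hxm
    · have := Subgroup.mul_mem _ h2 hxm
      rw [inv_mul_cancel_right] at this
      exact this

/-- A group generated by two elements of order three satisfying the braid relation is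
`SL(2,3)` or `PSL(2,3)`. -/
theorem iso_of_braid_three (hx : x * x * x = 1) (hy : y * y * y = 1)
    (hb : x * y * x = y * x * y) (hgen : Subgroup.closure ({x, y} : Set X) = ⊤)
    (hne : x * y * x ≠ 1) :
    Nonempty (X ≃* SL23) ∨
      Nonempty (X ≃* Matrix.ProjectiveSpecialLinearGroup (Fin 2) (ZMod 3)) :=
  iso_of_QGens _ _ _ (br_qgens hx hy hb) ((br_closure hx).trans hgen) hne

end braid

end Cfsg.Agent.Lib.Helper26
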