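import Mathlib

/-!
A matrix lemma: if `A`, `B` are matrix representations of a finite group `H` such that
`∑ n, tr (A n) * tr (B n) = 0`, then `∑ n, A n * B n = 0`.
-/

set_option autoImplicit false
set_option linter.style.haveILetI false
set_option linter.unusedSectionVars false
set_option linter.unusedVariables false

namespace Cfsg.Agent.Lib.Helper26

open scoped Kronecker

/-- an idempotent complex matrix with vanishing trace is zero -/
theorem srl_idem_trace_zero {m : Type*} [Fintype m] [DecidableEq m] (P : Matrix m m ℂ)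
    (hP : P * P = P) (htr : P.trace = 0) : P = 0 := by
  have h1 : IsIdempotentElem (Matrix.toLin' P) := by
    show Matrix.toLin' P * Matrix.toLin' P = Matrix.toLin' P
    rw [Module.End.mul_eq_comp, ← Matrix.toLin'_mul, hP]
  have h2 : LinearMap.trace ℂ (m → ℂ) (Matrix.toLin' P) = 0 := by
    rw [Matrix.trace_toLin'_eq] at *
    exact htr
  have h3 := LinearMap.IsIdempotentElem.eq_zero_of_trace_eq_zero h1 h2
  have h4 : Matrix.toLin' P = Matrix.toLin' (0 : Matrix m m ℂ) := by rw [h3, map_zero]
  exact Matrix.toLin'.injective h4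

/-- the averaging idempotent of a Kronecker product of two matrix representations vanishes
when the product of the traces sums to zero -/
theorem srl_kron_sum_zero {ι : Type*} [Fintype ι] [DecidableEq ι] {H : Type*} [Group H]
    [Fintype H] (A B : H →* Matrix ι ι ℂ)
    (htr : ∑ n : H, (A n).trace * (B n).trace = 0) :
    ∑ n : H, (A n) ⊗ₖ (B n) = 0 := by
  classical
  set Q : Matrix (ι × ι) (ι × ι) ℂ := ∑ n : H, (A n) ⊗ₖ (B n) with hQ
  have hcard : (Fintype.card H : ℂ) ≠ 0 := by
    exact_mod_cast Fintype.card_ne_zero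
  have hQQ : Q * Q = (Fintype.card H : ℂ) • Q := by
    rw [hQ, Finset.sum_mul]
    simp_rw [Finset.mul_sum, ← Matrix.mul_kronecker_mul, ← map_mul]
    have : ∀ n : H, ∑ m : H, (A (n * m)) ⊗ₖ (B (n * m)) = ∑ m : H, (A m) ⊗ₖ (B m) := by
      intro n
      exact Fintype.sum_equiv (Equiv.mulLeft n) _ _ (fun m => rfl)
    simp_rw [this]
    rw [Finset.sum_const, Finset.card_univ, ← Nat.cast_smul_eq_nsmul ℂ]
  have hQtr : Q.trace = 0 := by
    rw [hQ, Matrix.trace_sum]
    simp_rw [Matrix.trace_kronecker]
    exact htr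
  have hP := srl_idem_trace_zero ((Fintype.card H : ℂ)⁻¹ • Q) (by
    rw [Matrix.smul_mul, Matrix.mul_smul, hQQ, smul_smul, smul_smul]
    congr 1
    field_simp) (by rw [Matrix.trace_smul, hQtr, smul_zero])
  have := congrArg (fun M => (Fintype.card H : ℂ) • M) hP
  simp only [smul_smul, smul_zero] at this
  rw [mul_inv_cancel₀ hcard, one_smul] at this
  exact this

/-- the key vanishing: `∑ A n * B n = 0` -/
theorem srl_mul_sum_zero {ι : Type*} [Fintype ι] [DecidableEq ι] {H : Type*} [Group H]
    [Fintype H] (A B : H →* Matrix ι ι ℂ)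
    (htr : ∑ n : H, (A n).trace * (B n).trace = 0) :
    ∑ n : H, A n * B n = 0 := by
  classical
  have hQ := srl_kron_sum_zero A B htr
  ext i k
  rw [Matrix.sum_apply, Matrix.zero_apply]
  simp_rw [Matrix.mul_apply]
  rw [Finset.sum_comm]
  apply Finset.sum_eq_zero
  intro j _
  have := congrFun (congrFun hQ (i, j)) (j, k)
  rw [Matrix.sum_apply, Matrix.zero_apply] at this
  simpa [Matrix.kroneckerMap_apply] using this

/-- trace form of the vanishing -/
theorem srl_trace_sum_zero {ι : Type*} [Fintype ι] [DecidableEq ι] {H : Type*} [Group H]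
    [Fintype H] (A B : H →* Matrix ι ι ℂ) (C : Matrix ι ι ℂ)
    (htr : ∑ n : H, (A n).trace * (B n).trace = 0) :
    ∑ n : H, (C * (A n * B n)).trace = 0 := by
  rw [← Matrix.trace_sum, ← Finset.mul_sum, srl_mul_sum_zero A B htr, mul_zero,
    Matrix.trace_zero]

end Cfsg.Agent.Lib.Helper26
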