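import Mathlib
import Cfsg.Prelude.Def_Characters
import Cfsg.Agent.Lib.Helper26.StrReal1
import Cfsg.Agent.Lib.Helper11.IndNormal
import Cfsg.Agent.Lib.Helper25.CharBasic
import Cfsg.Agent.Lib.helper7.Induction

/-!
Vanishing of the sum of `ψ ((g n)^2)` over a coset `g N` when `g` moves the (real) irreducible
restriction of `ψ` to the normal subgroup `N`.
-/

set_option autoImplicit false
set_option linter.style.haveILetI false
set_option linter.unusedSectionVars false
set_option linter.unusedVariables false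

namespace Cfsg.Agent.Lib.Helper26

open scoped ComplexConjugate
open Cfsg.Agent.Lib.Helper25 Cfsg.Agent.Lib.Helper11 Cfsg.Agent.Lib.helper7

variable {G : Type*} [Group G]

/-- matrices of a representation on a coordinate space, as a monoid homomorphism -/
noncomputable def srlMat {H : Type*} [Group H] {d : ℕ} (ρ : Representation ℂ H (Fin d → ℂ)) :
    H →* Matrix (Fin d) (Fin d) ℂ :=
  ((LinearMap.toMatrixAlgEquiv' : ((Fin d → ℂ) →ₗ[ℂ] (Fin d → ℂ)) ≃ₐ[ℂ] Matrix (Fin d) (Fin d) ℂ) :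
    ((Fin d → ℂ) →ₗ[ℂ] (Fin d → ℂ)) →* Matrix (Fin d) (Fin d) ℂ).comp ρ

theorem srlMat_trace {H : Type*} [Group H] {d : ℕ} (ρ : Representation ℂ H (Fin d → ℂ)) (h : H) :
    (srlMat ρ h).trace = ρ.character h := by
  show (LinearMap.toMatrix' (ρ h)).trace = LinearMap.trace ℂ (Fin d → ℂ) (ρ h)
  rw [LinearMap.trace_eq_matrix_trace ℂ (Pi.basisFun ℂ (Fin d)), LinearMap.toMatrix_eq_toMatrix']

theorem srl_coset_sum [Fintype G] (N I : Subgroup G) [hN : N.Normal] [Fintype N] [Fintype I]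
    (hNI : N ≤ I) (φ : Cfsg.IrrCharacter N) (ψ : Cfsg.IrrCharacter I)
    (hψφ : ∀ n : N, (ψ : I → ℂ) (Subgroup.inclusion hNI n) = (φ : N → ℂ) n)
    (hreal : ∀ n : N, conj ((φ : N → ℂ) n) = (φ : N → ℂ) n)
    (g : G) (hg : cj N (φ : N → ℂ) g⁻¹ ≠ (φ : N → ℂ)) :
    ∑ n : N, Cfsg.extendByZero I (ψ : I → ℂ) (g * n * (g * n)) = 0 := by
  classical
  have hprod : ∀ n : N, g * n * (g * n) = g * g * ((g⁻¹ * n * g⁻¹⁻¹) * n) := by
    intro n; group
  by_cases hgg : g * g ∈ I
  · obtain ⟨d, ρ, hρ, hχ⟩ := ψ.2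
    set B : N →* Matrix (Fin d) (Fin d) ℂ := (srlMat ρ).comp (Subgroup.inclusion hNI) with hB
    set A : N →* Matrix (Fin d) (Fin d) ℂ :=
      B.comp ((MulAut.conjNormal g⁻¹ : N ≃* N) : N →* N) with hA
    set C : Matrix (Fin d) (Fin d) ℂ := srlMat ρ ⟨g * g, hgg⟩ with hC
    have hBtr : ∀ n : N, (B n).trace = (φ : N → ℂ) n := by
      intro n
      rw [hB, MonoidHom.comp_apply, srlMat_trace, hχ, hψφ]
    have hAtr : ∀ n : N, (A n).trace = cj N (φ : N → ℂ) g⁻¹ n := by
      intro n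
      rw [hA, MonoidHom.comp_apply, hBtr, cj_apply]
      congr 1
    have htr : ∑ n : N, (A n).trace * (B n).trace = 0 := by
      have h1 := irr_classInner ⟨cj N (φ : N → ℂ) g⁻¹, isIrr_cj N _ φ.2 g⁻¹⟩ φ
      rw [if_neg (fun h => hg (congrArg Subtype.val h))] at h1
      unfold Cfsg.classInner at h1
      have hne : (Nat.card N : ℂ)⁻¹ ≠ 0 := by
        apply inv_ne_zero
        exact_mod_cast Nat.card_pos.ne'
      have h2 := (mul_eq_zero.mp h1).resolve_left hne
      rw [← h2]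
      apply Finset.sum_congr rfl
      intro n _
      rw [hAtr, hBtr, hreal]
    have key := srl_trace_sum_zero A B C htr
    rw [← key]
    apply Finset.sum_congr rfl
    intro n _
    have hmem : g * n * (g * n) ∈ I := by
      rw [hprod]
      exact I.mul_mem hgg (hNI (N.mul_mem (hN.conj_mem n n.2 g⁻¹) n.2))
    rw [h7_extendByZero_mem I _ _ hmem, ← hχ]
    have hel : (⟨g * n * (g * n), hmem⟩ : I) =
        ⟨g * g, hgg⟩ * (Subgroup.inclusion hNI ((MulAut.conjNormal g⁻¹ : N ≃* N) n) *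
          Subgroup.inclusion hNI n) := by
      apply Subtype.ext
      show g * n * (g * n) = g * g * ((g⁻¹ * n * g⁻¹⁻¹) * n)
      exact hprod n
    rw [hel, ← srlMat_trace, map_mul, map_mul]
    rfl
  · apply Finset.sum_eq_zero
    intro n _
    apply h7_extendByZero_not_mem
    intro hmem
    apply hgg
    rw [hprod] at hmem
    have h2 : (g⁻¹ * n * g⁻¹⁻¹) * n ∈ I := hNI (N.mul_mem (hN.conj_mem n n.2 g⁻¹) n.2)
    have := I.mul_mem hmem (I.inv_mem h2)
    simpa [mul_assoc] using this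

end Cfsg.Agent.Lib.Helper26
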