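import Mathlib
import Cfsg.Prelude.Def_Characters
import Cfsg.Agent.Lib.Helper26.StrReal2
import Cfsg.Agent.Lib.Helper24.FSCount

/-!
The Frobenius–Schur indicator of a character induced from the stabilizer of a real irreducible
character of a normal subgroup which it extends.
-/

set_option autoImplicit false
set_option linter.style.haveILetI false
set_option linter.unusedSectionVars false
set_option linter.unusedVariables false

namespace Cfsg.Agent.Lib.Helper26

open scoped ComplexConjugate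
open Cfsg.Agent.Lib.Helper24 Cfsg.Agent.Lib.Helper25 Cfsg.Agent.Lib.Helper11
  Cfsg.Agent.Lib.helper7

variable {G : Type*} [Group G]

theorem srl_fs_ind [Fintype G] (I : Subgroup G) [Fintype I] (ψ : I → ℂ) :
    (Nat.card G : ℂ)⁻¹ * ∑ s : G, Cfsg.indFun I ψ (s * s) =
      (Nat.card I : ℂ)⁻¹ * ∑ s : G, Cfsg.extendByZero I ψ (s * s) := by
  classical
  unfold Cfsg.indFun
  rw [← Finset.mul_sum, Finset.sum_comm]
  have h1 : ∀ x : G, ∑ s : G, Cfsg.extendByZero I ψ (x⁻¹ * (s * s) * x) =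
      ∑ s : G, Cfsg.extendByZero I ψ (s * s) := by
    intro x
    refine Fintype.sum_equiv (MulAut.conj x⁻¹).toEquiv _ _ (fun s => ?_)
    show _ = Cfsg.extendByZero I ψ ((x⁻¹ * s * x⁻¹⁻¹) * (x⁻¹ * s * x⁻¹⁻¹))
    congr 1
    group
  simp_rw [h1]
  rw [Finset.sum_const, Finset.card_univ, nsmul_eq_mul, Nat.card_eq_fintype_card (α := G)]
  have hG : (Fintype.card G : ℂ) ≠ 0 := by exact_mod_cast Fintype.card_ne_zero
  field_simp

theorem srl_split [Fintype G] (I : Subgroup G) [Fintype I] [DecidablePred (· ∈ I)] (ψ : I → ℂ) :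
    ∑ s : G, Cfsg.extendByZero I ψ (s * s) =
      ∑ s : I, ψ (s * s) + ∑ s : G, (if s ∈ I then 0 else Cfsg.extendByZero I ψ (s * s)) := by
  classical
  have h1 : ∑ s : I, ψ (s * s) =
      ∑ s : G, (if s ∈ I then Cfsg.extendByZero I ψ (s * s) else 0) := by
    rw [← Finset.sum_filter]
    rw [Finset.sum_subtype (Finset.univ.filter (fun y : G => y ∈ I)) (p := fun y => y ∈ I)
      (fun x => by simp) (fun y => Cfsg.extendByZero I ψ (y * y))]
    apply Finset.sum_congr rfl
    intro s _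
    have : ((s : G) * (s : G)) = ((s * s : I) : G) := rfl
    rw [this, h7_extendByZero_coe]
  rw [h1, ← Finset.sum_add_distrib]
  apply Finset.sum_congr rfl
  intro s _
  split_ifs <;> simp

theorem srl_off_zero [Fintype G] (N I : Subgroup G) [hN : N.Normal] [Fintype N] [Fintype I]
    [DecidablePred (· ∈ I)]
    (hNI : N ≤ I) (φ : Cfsg.IrrCharacter N) (ψ : Cfsg.IrrCharacter I)
    (hψφ : ∀ n : N, (ψ : I → ℂ) (Subgroup.inclusion hNI n) = (φ : N → ℂ) n)
    (hreal : ∀ n : N, conj ((φ : N → ℂ) n) = (φ : N → ℂ) n)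
    (hstab : ∀ g : G, g ∉ I → cj N (φ : N → ℂ) g⁻¹ ≠ (φ : N → ℂ)) :
    ∑ s : G, (if s ∈ I then 0 else Cfsg.extendByZero I (ψ : I → ℂ) (s * s)) = 0 := by
  classical
  set f : G → ℂ := fun s => if s ∈ I then 0 else Cfsg.extendByZero I (ψ : I → ℂ) (s * s) with hf
  have h1 : ∀ n : N, ∑ s : G, f (s * n) = ∑ s : G, f s := by
    intro n
    exact Fintype.sum_equiv (Equiv.mulRight (n : G)) _ _ (fun s => rfl)
  have h2 : ∑ n : N, ∑ s : G, f (s * n) = 0 := by
    rw [Finset.sum_comm]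
    apply Finset.sum_eq_zero
    intro s _
    by_cases hs : s ∈ I
    · apply Finset.sum_eq_zero
      intro n _
      have : s * n ∈ I := I.mul_mem hs (hNI n.2)
      simp only [hf, if_pos this]
    · have h3 : ∀ n : N, f (s * n) = Cfsg.extendByZero I (ψ : I → ℂ) (s * n * (s * n)) := by
        intro n
        have : s * n ∉ I := by
          intro h
          apply hs
          have := I.mul_mem h (I.inv_mem (hNI n.2))
          simpa using this
        simp only [hf, if_neg this]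
      simp_rw [h3]
      exact srl_coset_sum N I hNI φ ψ hψφ hreal s (hstab s hs)
  simp_rw [h1] at h2
  rw [Finset.sum_const, Finset.card_univ, nsmul_eq_mul] at h2
  have hne : (Fintype.card N : ℂ) ≠ 0 := by exact_mod_cast Fintype.card_ne_zero
  exact (mul_eq_zero.mp h2).resolve_left hne

theorem srl_fsNu_ind [Fintype G] (N I : Subgroup G) [hN : N.Normal] [Fintype N] [Fintype I]
    (hNI : N ≤ I) (φ : Cfsg.IrrCharacter N) (ψ : Cfsg.IrrCharacter I)
    (hψφ : ∀ n : N, (ψ : I → ℂ) (Subgroup.inclusion hNI n) = (φ : N → ℂ) n)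
    (hstab : ∀ g : G, g ∉ I → cj N (φ : N → ℂ) g⁻¹ ≠ (φ : N → ℂ))
    (hψ : fsNu ψ = 1) (hirr : Cfsg.IsIrrCharacter G (Cfsg.indFun I (ψ : I → ℂ))) :
    fsNu (⟨Cfsg.indFun I (ψ : I → ℂ), hirr⟩ : Cfsg.IrrCharacter G) = 1 := by
  classical
  have hreal : ∀ n : N, conj ((φ : N → ℂ) n) = (φ : N → ℂ) n := by
    intro n
    rcases fsNu_cases ψ with h0 | ⟨_, hr⟩
    · rw [h0] at hψ; exact absurd hψ zero_ne_one
    · rw [← hψφ]
      exact Complex.conj_eq_iff_im.mpr (hr _)
  show (Nat.card G : ℂ)⁻¹ * ∑ s : G, Cfsg.indFun I (ψ : I → ℂ) (s * s) = 1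
  rw [srl_fs_ind, srl_split, srl_off_zero N I hNI φ ψ hψφ hreal hstab, add_zero]
  exact hψ

end Cfsg.Agent.Lib.Helper26
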