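import Mathlib
import Cfsg.Prelude.Def_Characters
import Cfsg.Agent.Lib.Helper26.StrReal3
import Cfsg.Agent.Lib.Helper26.GalFixOver2
import Cfsg.Agent.Lib.Helper24.AFT1
import Cfsg.Agent.Lib.Helper25.CliffordCorr
import Cfsg.Agent.Lib.helper7.CliffordSub
import Cfsg.Agent.Lib.helper7.CharMul

/-!
Linear characters fixing a character induced from the stabilizer of an extendible character
are trivial on the stabilizer; counting homomorphisms trivial on a subgroup.
-/

set_option autoImplicit false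
set_option linter.style.haveILetI false
set_option linter.unusedSectionVars false
set_option linter.unusedVariables false

namespace Cfsg.Agent.Lib.Helper26

open scoped ComplexConjugate
open Cfsg.Agent.Lib.Helper24 Cfsg.Agent.Lib.Helper25 Cfsg.Agent.Lib.Helper11
  Cfsg.Agent.Lib.helper7

variable {G : Type*} [Group G]

/-- a linear character fixing an extension of an irreducible character of a normal subgroup
and trivial on that subgroup is trivial -/
theorem srl_gallagher_lin [Fintype G] (N I : Subgroup G) [hN : N.Normal] [Fintype N] [Fintype I]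
    (hNI : N ≤ I) (φ : Cfsg.IrrCharacter N) (ψ : Cfsg.IrrCharacter I)
    (hψφ : ∀ n : N, (ψ : I → ℂ) (Subgroup.inclusion hNI n) = (φ : N → ℂ) n)
    (κ : I →* ℂˣ) (hκN : ∀ n : N, κ (Subgroup.inclusion hNI n) = 1)
    (hfix : afSmul κ ψ = ψ) : κ = 1 := by
  classical
  haveI : (N.subgroupOf I).Normal := inferInstance
  haveI : Fintype (N.subgroupOf I) := Fintype.ofFinite _
  set e : (N.subgroupOf I) ≃* N := Subgroup.subgroupOfEquivOfLe hNI with he
  set θ' : Cfsg.IrrCharacter (N.subgroupOf I) :=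
    ⟨fun n' => (φ : N → ℂ) (e n'), h7_isIrr_comp_equiv e _ φ.2⟩ with hθ'
  have hincl : ∀ n' : N.subgroupOf I, Subgroup.inclusion hNI (e n') = (n' : I) := by
    intro n'
    apply Subtype.ext
    rfl
  have hχ₀ : ∀ n' : N.subgroupOf I, (ψ : I → ℂ) (n' : I) = (θ' : (N.subgroupOf I) → ℂ) n' := by
    intro n'
    show _ = (φ : N → ℂ) (e n')
    rw [← hψφ, hincl]
  have hg := (gfo_gallagher (N.subgroupOf I) θ' ψ hχ₀).2 (afLin κ) (afLin 1) (by
      intro n hn
      rw [afLin_apply, afLin_apply, map_one]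
      have := hκN (e ⟨n, hn⟩)
      rw [hincl] at this
      show ((κ n : ℂˣ) : ℂ) = _
      rw [this]) (by
      intro n hn
      rw [afLin_apply, afLin_apply]
      simp) (by
      funext x
      rw [Pi.mul_apply, Pi.mul_apply, afLin_apply, afLin_apply]
      have := congrArg (fun χ : Cfsg.IrrCharacter I => (χ : I → ℂ) x) hfix
      simp only [afSmul_apply] at this
      rw [this]
      simp)
  exact afLin_injective hg

/-- a linear character of `G` trivial on `N` that fixes the character induced from an extension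
of `φ` to its stabilizer `I` is trivial on `I` -/
theorem srl_fix_trivial [Fintype G] (N I : Subgroup G) [hN : N.Normal] [Fintype N] [Fintype I]
    (hNI : N ≤ I) (φ : Cfsg.IrrCharacter N)
    (hI : ∀ g : G, g ∈ I ↔ ∀ n n' : N, (n' : G) = g * (n : G) * g⁻¹ →
      (φ : N → ℂ) n' = (φ : N → ℂ) n)
    (ψ : Cfsg.IrrCharacter I)
    (hψφ : ∀ n : N, (ψ : I → ℂ) (Subgroup.inclusion hNI n) = (φ : N → ℂ) n)
    (κ : G →* ℂˣ) (hκN : ∀ n ∈ N, κ n = 1)
    (hfix : ∀ g : G, ((κ g : ℂˣ) : ℂ) * Cfsg.indFun I (ψ : I → ℂ) g = Cfsg.indFun I (ψ : I → ℂ) g) :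
    ∀ x ∈ I, κ x = 1 := by
  classical
  set κI : I →* ℂˣ := κ.comp I.subtype with hκI
  have hκIN : ∀ n : N, κI (Subgroup.inclusion hNI n) = 1 := by
    intro n
    exact hκN n n.2
  have hrestr : ∀ ξ : Cfsg.IrrCharacter I,
      (∀ n : N, (ξ : I → ℂ) (Subgroup.inclusion hNI n) = (φ : N → ℂ) n) →
      Cfsg.classInner (fun n : N => (ξ : I → ℂ) ⟨(n : G), hNI n.2⟩) (φ : N → ℂ) ≠ 0 := by
    intro ξ hξ
    have : (fun n : N => (ξ : I → ℂ) ⟨(n : G), hNI n.2⟩) = (φ : N → ℂ) := by
      funext n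
      exact hξ n
    rw [this, irr_classInner, if_pos rfl]
    exact one_ne_zero
  have h1 : ∀ n : N, (afSmul κI ψ : I → ℂ) (Subgroup.inclusion hNI n) = (φ : N → ℂ) n := by
    intro n
    rw [afSmul_apply, hκIN, hψφ]
    simp
  have hcl : Cfsg.IsClassFunction G (fun g => ((κ g : ℂˣ) : ℂ)) := by
    intro g h
    show ((κ (h * g * h⁻¹) : ℂˣ) : ℂ) = ((κ g : ℂˣ) : ℂ)
    rw [map_mul, map_mul, map_inv, mul_comm (κ h), mul_assoc, mul_inv_cancel, mul_one]
  have heq : Cfsg.indFun I (afSmul κI ψ : I → ℂ) = Cfsg.indFun I (ψ : I → ℂ) := by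
    have h2 := h7_indFun_mul_restrict I (ψ : I → ℂ) (fun g => ((κ g : ℂˣ) : ℂ)) hcl
    have h3 : (afSmul κI ψ : I → ℂ) = (ψ : I → ℂ) * fun n : I => ((κ n : ℂˣ) : ℂ) := by
      funext x
      rw [afSmul_apply, Pi.mul_apply, mul_comm]
      rfl
    rw [h3, h2]
    funext g
    rw [Pi.mul_apply, mul_comm]
    exact hfix g
  have h4 := cc_ind_inj N I hNI φ hI (afSmul κI ψ) ψ (hrestr _ h1) (hrestr _ hψφ) heq
  have h5 := srl_gallagher_lin N I hNI φ ψ hψφ κI hκIN h4
  intro x hx
  have := congrArg (fun f : I →* ℂˣ => f ⟨x, hx⟩) h5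
  simpa [hκI] using this

/-- there are at most `[G : I]` homomorphisms `G → ℂˣ` trivial on `I` -/
theorem srl_card_hom_le [Finite G] (I : Subgroup G) :
    Finite {κ : G →* ℂˣ // ∀ x ∈ I, κ x = 1} ∧
      Nat.card {κ : G →* ℂˣ // ∀ x ∈ I, κ x = 1} ≤ I.index := by
  classical
  haveI := Fintype.ofFinite G
  haveI : Fintype (G ⧸ I) := Fintype.ofFinite _
  set S := {κ : G →* ℂˣ // ∀ x ∈ I, κ x = 1} with hS
  let v : S → (G ⧸ I → ℂ) := fun κ => Quotient.lift (fun g : G => (((κ.1 g : ℂˣ) : ℂ))) (by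
    intro a b hab
    have h1 : a⁻¹ * b ∈ I := QuotientGroup.leftRel_apply.mp hab
    have h2 := κ.2 _ h1
    rw [map_mul, map_inv, inv_mul_eq_one] at h2
    show ((κ.1 a : ℂˣ) : ℂ) = ((κ.1 b : ℂˣ) : ℂ)
    rw [h2])
  let L : (G ⧸ I → ℂ) →ₗ[ℂ] (G → ℂ) := LinearMap.funLeft ℂ ℂ (QuotientGroup.mk : G → G ⧸ I)
  let j : S → (G →* ℂ) := fun κ => (Units.coeHom ℂ).comp κ.1
  have hj : Function.Injective j := by
    intro a b hab
    apply Subtype.ext
    ext g
    have := congrArg (fun f : G →* ℂ => f g) hab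
    exact this
  have hli : LinearIndependent ℂ (fun κ : S => ((j κ : G →* ℂ) : G → ℂ)) :=
    (linearIndependent_monoidHom G ℂ).comp j hj
  have hLv : (fun κ : S => ((j κ : G →* ℂ) : G → ℂ)) = L ∘ v := by
    funext κ g
    rfl
  rw [hLv] at hli
  have hv : LinearIndependent ℂ v := LinearIndependent.of_comp L hli
  haveI : Finite S := hv.finite
  refine ⟨inferInstance, ?_⟩
  haveI : Fintype S := Fintype.ofFinite S
  have h1 := hv.fintype_card_le_finrank
  rw [Module.finrank_fintype_fun_eq_card] at h1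
  rw [Nat.card_eq_fintype_card, Subgroup.index_eq_card, Nat.card_eq_fintype_card]
  exact h1

/-- counting by fibres -/
theorem srl_card_le_of_fibers {α β : Type*} [Finite α] [Finite β] (f : α → β) (n : ℕ)
    (h : ∀ b : β, Nat.card {a : α // f a = b} ≤ n) : Nat.card α ≤ n * Nat.card β := by
  classical
  haveI := Fintype.ofFinite β
  rw [Nat.card_congr (Equiv.sigmaFiberEquiv f).symm, Nat.card_sigma]
  calc ∑ b : β, Nat.card {a : α // f a = b} ≤ ∑ b : β, n := Finset.sum_le_sum (fun b _ => h b)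
    _ = n * Nat.card β := by
      rw [Finset.sum_const, Finset.card_univ, smul_eq_mul, Nat.card_eq_fintype_card, mul_comm]

end Cfsg.Agent.Lib.Helper26
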