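import Mathlib
import Cfsg.Prelude.Def_Characters
import Cfsg.Prelude.Def_Blocks
import Cfsg.Agent.Lib.Helper26.StrReal4
import Cfsg.Agent.Lib.helper14.McKayGen

/-!
Counting strongly real linear characters against strongly real characters of degree
`φ(1) [G : I]` over a nonabelian minimal normal subgroup.
-/

set_option autoImplicit false
set_option linter.style.haveILetI false
set_option linter.unusedSectionVars false
set_option linter.unusedVariables false

namespace Cfsg.Agent.Lib.Helper26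

open scoped ComplexConjugate commutatorElement
open Cfsg.Agent.Lib.Helper24 Cfsg.Agent.Lib.Helper25 Cfsg.Agent.Lib.Helper11
  Cfsg.Agent.Lib.helper7

/-- a nonabelian minimal normal subgroup lies in the kernel of every linear character -/
theorem srl_perfect_ker {G : Type*} [Group G] (N : Subgroup G) (hN : N.Normal)
    (hmin : ∀ M : Subgroup G, M.Normal → M ≤ N → M = ⊥ ∨ M = N)
    (hna : ¬ IsMulCommutative ↥N) (κ : G →* ℂˣ) : ∀ n ∈ N, κ n = 1 := by
  haveI := hN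
  have hcomm : ⁅N, N⁆ = N := by
    rcases hmin ⁅N, N⁆ inferInstance (Subgroup.commutator_le_left N N) with h | h
    · exfalso
      apply hna
      constructor
      constructor
      intro a b
      have h1 : ⁅(a : G), (b : G)⁆ ∈ ⁅N, N⁆ := Subgroup.commutator_mem_commutator a.2 b.2
      rw [h, Subgroup.mem_bot, commutatorElement_eq_one_iff_mul_comm] at h1
      exact Subtype.ext h1
    · exact h
  have hle : ⁅N, N⁆ ≤ κ.ker := by
    rw [Subgroup.commutator_le]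
    intro a _ b _
    rw [MonoidHom.mem_ker, map_commutatorElement, commutatorElement_eq_one_iff_mul_comm, mul_comm]
  intro n hn
  rw [← hcomm] at hn
  exact hle hn

theorem srl_main {G : Type*} [Group G] [Finite G] (N : Subgroup G) (hN : N.Normal)
    (hmin : ∀ M : Subgroup G, M.Normal → M ≤ N → M = ⊥ ∨ M = N)
    (hna : ¬ IsMulCommutative ↥N) (φ : Cfsg.IrrCharacter ↥N) (I : Subgroup G)
    (hI : ∀ g : G, g ∈ I ↔ ∀ n n' : ↥N, (n' : G) = g * (n : G) * g⁻¹ →
      (φ : ↥N → ℂ) n' = (φ : ↥N → ℂ) n) (hNI : N ≤ I)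
    (hext : ∃ ψ : Cfsg.IrrCharacter ↥I,
      (Nat.card ↥I : ℂ)⁻¹ * ∑ᶠ g : ↥I, (ψ : ↥I → ℂ) (g * g) = 1 ∧
        ∀ n : ↥N, (ψ : ↥I → ℂ) (Subgroup.inclusion hNI n) = (φ : ↥N → ℂ) n) :
    Nat.card {χ : Cfsg.IrrCharacter G // Cfsg.charDegree (χ : G → ℂ) = 1 ∧
        (Nat.card G : ℂ)⁻¹ * ∑ᶠ g : G, (χ : G → ℂ) (g * g) = 1} ≤
      I.index * Nat.card {χ : Cfsg.IrrCharacter G //
        Cfsg.charDegree (χ : G → ℂ) = Cfsg.charDegree (φ : ↥N → ℂ) * I.index ∧
          (Nat.card G : ℂ)⁻¹ * ∑ᶠ g : G, (χ : G → ℂ) (g * g) = 1} := by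
  classical
  haveI := hN
  haveI := Fintype.ofFinite G
  haveI : Fintype N := Fintype.ofFinite _
  haveI : Fintype I := Fintype.ofFinite _
  haveI : Finite (Cfsg.IrrCharacter G) := inferInstance
  obtain ⟨ψ, hψfs, hψφ⟩ := hext
  have hfsG : ∀ χ : Cfsg.IrrCharacter G,
      (Nat.card G : ℂ)⁻¹ * ∑ᶠ g : G, (χ : G → ℂ) (g * g) = fsNu χ := by
    intro χ
    rw [finsum_eq_sum_of_fintype]
    rfl
  have hψ1 : fsNu ψ = 1 := by
    rw [← hψfs, finsum_eq_sum_of_fintype]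
    rfl
  simp_rw [hfsG]
  have hker := srl_perfect_ker N hN hmin hna
  have hstab : ∀ g : G, g ∉ I → cj N (φ : N → ℂ) g⁻¹ ≠ (φ : N → ℂ) := by
    intro g hg hcj
    apply hg
    have : g⁻¹ ∈ I := by
      rw [hI]
      intro n n' hn'
      have h1 := congrFun hcj n
      rw [cj_apply] at h1
      rw [← h1]
      have h2 : n' = ⟨g⁻¹ * (n : G) * g⁻¹⁻¹, hN.conj_mem n n.2 g⁻¹⟩ := Subtype.ext hn'
      rw [h2]
    simpa using I.inv_mem this
  have hψN : Cfsg.classInner (fun n : N => (ψ : I → ℂ) ⟨(n : G), hNI n.2⟩) (φ : N → ℂ) ≠ 0 := by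
    have : (fun n : N => (ψ : I → ℂ) ⟨(n : G), hNI n.2⟩) = (φ : N → ℂ) := by
      funext n
      exact hψφ n
    rw [this, irr_classInner, if_pos rfl]
    exact one_ne_zero
  obtain ⟨hirr, -⟩ := cc_ind_irr N I hNI φ hI ψ hψN
  set χ₀ : Cfsg.IrrCharacter G := ⟨Cfsg.indFun I (ψ : I → ℂ), hirr⟩ with hχ₀
  have hν₀ : fsNu χ₀ = 1 := srl_fsNu_ind N I hNI φ ψ hψφ hstab hψ1 hirr
  have hdeg : Cfsg.charDegree (χ₀ : G → ℂ) = Cfsg.charDegree (φ : N → ℂ) * I.index := by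
    apply Cfsg.Agent.Lib.helper14.charDegree_of_natCast
    show Cfsg.indFun I (ψ : I → ℂ) 1 = _
    rw [h7_indFun_one]
    have h1 : (ψ : I → ℂ) 1 = (φ : N → ℂ) 1 := by
      rw [← hψφ 1, map_one]
    rw [h1, ← (charDegree_irr φ).1]
    push_cast
    ring
  -- the map
  have hη : ∀ χ : {χ : Cfsg.IrrCharacter G // Cfsg.charDegree (χ : G → ℂ) = 1 ∧ fsNu χ = 1},
      ∃ η : G →* ℂˣ, afLin η = χ.1 ∧ η * η = 1 := by
    intro χ
    obtain ⟨η, hη⟩ := afLin_surj χ.1 χ.2.1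
    refine ⟨η, hη, ?_⟩
    by_contra hne
    have h1 := afLin_fsNu η
    rw [if_neg hne, hη, χ.2.2] at h1
    exact one_ne_zero h1
  choose η hη1 hη2 using hη
  let F : {χ : Cfsg.IrrCharacter G // Cfsg.charDegree (χ : G → ℂ) = 1 ∧ fsNu χ = 1} →
      {χ : Cfsg.IrrCharacter G //
        Cfsg.charDegree (χ : G → ℂ) = Cfsg.charDegree (φ : N → ℂ) * I.index ∧ fsNu χ = 1} :=
    fun χ => ⟨afSmul (η χ) χ₀, by rw [afSmul_degree]; exact hdeg, by
      rw [afSmul_fsNu _ (hη2 χ)]; exact hν₀⟩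
  apply srl_card_le_of_fibers F
  intro y
  obtain ⟨hfin, hcard⟩ := srl_card_hom_le I
  by_cases hne : Nonempty {χ // F χ = y}
  · obtain ⟨χ₁⟩ := hne
    refine le_trans ?_ hcard
    have hmem : ∀ χ : {χ // F χ = y}, ∀ x ∈ I, ((η χ₁.1)⁻¹ * η χ.1) x = 1 := by
      intro χ
      apply srl_fix_trivial N I hNI φ hI ψ hψφ _ (hker _)
      intro g
      have h1 : afSmul ((η χ₁.1)⁻¹ * η χ.1) χ₀ = χ₀ := by
        rw [afSmul_mul]
        have h2 : afSmul (η χ.1) χ₀ = afSmul (η χ₁.1) χ₀ := by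
          have := χ.2.trans χ₁.2.symm
          exact congrArg Subtype.val this
        have h3 : (η χ₁.1)⁻¹ * η χ₁.1 = 1 := by
          ext x
          simp
        rw [h2, ← afSmul_mul, h3, afSmul_one]
      have := congrArg (fun χ : Cfsg.IrrCharacter G => (χ : G → ℂ) g) h1
      simpa only [afSmul_apply] using this
    apply Nat.card_le_card_of_injective (fun χ => ⟨(η χ₁.1)⁻¹ * η χ.1, hmem χ⟩)
    intro a b hab
    have h1 : (η χ₁.1)⁻¹ * η a.1 = (η χ₁.1)⁻¹ * η b.1 := congrArg Subtype.val hab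
    have h2 : η a.1 = η b.1 := mul_left_cancel h1
    apply Subtype.ext
    apply Subtype.ext
    rw [← hη1 a.1, ← hη1 b.1, h2]
  · rw [not_nonempty_iff] at hne
    rw [Nat.card_of_isEmpty]
    exact Nat.zero_le _

end Cfsg.Agent.Lib.Helper26
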