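import Mathlib
import Cfsg.Agent.Lib.helper3.T2E.Defs3
import Cfsg.Agent.Lib.helper8.ChevTwE6H16

/-!
# Project T2E = S2108 (designer helper3), block R, row R3 (`rel_SL`): CORE (helper26).
The statements of the cited rows L4 (`long_lift44`) and U1 (`IsRootLift.unique`), with the common parameters applied, are hypotheses.
-/

set_option autoImplicit false

namespace Cfsg.Agent.Lib.helper3.T2E

open Cfsg.Lie Cfsg.Lie.ChevalleyDatum Matrix
open Cfsg.Agent.Lib.helper8 Cfsg.Agent.Lib.Helper10.TEM Cfsg.Agent.Lib.helper7.Ce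
  Cfsg.Agent.Lib.helper15.St2

universe u

variable {K : Type u} [Field K] {q : ℕ} {f : K ≃+* K} {Γ : Type u} [Group Γ]
  {π : Γ →* ↥(twistedE6 K q)}

/-- `ε * (s + s ^ q)` is fixed by the Frobenius for `ε = ±1` -/
theorem t2er3h26_adm (hF : Frob q f) (r : ℕ) (ε : K) (hε : ε = 1 ∨ ε = -1) (s : K) :
    Adm q r (ε * (s + s ^ q)) := by
  intro _
  have h1 : (s + s ^ q) ^ q = s + s ^ q := by
    rw [← hF.pow, map_add, ← hF.pow, hF.inv, add_comm]
  rw [mul_pow, h1]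
  rcases hε with rfl | rfl
  · rw [one_pow]
  · rw [hF.neg]

/-- core of R3: on the statements of L4 and U1 -/
theorem t2er3h26_core (hF : Frob q f)
    (hL4 : ∀ {L42 L40 : K → Γ}, IsRootLift q π 42 L42 → IsRootLift q π 40 L40 →
      ∃ L44 : K → Γ, IsRootLift q π 44 L44 ∧ ∃ ε : K, (ε = 1 ∨ ε = -1) ∧
        ∀ t u, cm (L42 t) (L40 u) = L44 (ε * (t * u + (t * u) ^ q)))
    (hU1 : ∀ {r : ℕ}, r < 72 → ∀ {L L' : K → Γ}, IsRootLift q π r L → IsRootLift q π r L' →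
      ∀ t, Adm q r t → L t = L' t)
    {L : ℕ → K → Γ} (hL : ∀ r < 72, IsRootLift q π r (L r)) :
    ∃ ε : K, (ε = 1 ∨ ε = -1) ∧
      ∀ t u : K, cm (L 42 t) (L 40 u) = L 44 (ε * (t * u + (t * u) ^ q)) := by
  obtain ⟨L44, h44, ε, hε, hrel⟩ := hL4 (hL 42 (by norm_num)) (hL 40 (by norm_num))
  refine ⟨ε, hε, fun t u => ?_⟩
  rw [hrel t u]
  exact hU1 (by norm_num) h44 (hL 44 (by norm_num)) _ (t2er3h26_adm hF 44 ε hε (t * u))

end Cfsg.Agent.Lib.helper3.T2E
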