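import Mathlib
import Cfsg.Agent.Lib.helper17.T3.DefsC
import Cfsg.Agent.Lib.helper3.SL2Mult
import Cfsg.Agent.Lib.helper23.CEUE1

/-!
# Project T3C (designer helper17, for S2110), row T5 (`CL_sl1`) (helper26), VERBATIM.
The torus trick `IsCE.torus` with `x = S.xs k`, `w = S.xl (k+1) c`, `g = S.hs k u`; self-contained:
own-name special cases `t3ct5h26_hs_s0`, `t3ct5h26_hs_l1` of the rows H1 / H2.
-/

set_option autoImplicit false

namespace Cfsg.Agent.Lib.helper17.T3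

open Cfsg.Agent.Lib.helper15.St2 Cfsg.Agent.Lib.helper7.Ce Matrix

variable {F K : Type*} [Field F] [Field K] [Algebra F K]

variable {C : Cub F K} {G Γ : Type*} [Group G] [Group Γ]

section T

variable (S : SysT C G) {σ : Γ →* G}

/-- special case `i = 0` of H1 `hs_xs` -/
theorem t3ct5h26_hs_s0 (k : ZMod 6) (t u : K) (ht : t ≠ 0) :
    cj (S.hs k t) (S.xs k u) = S.xs k (t ^ 2 * u) := by
  have h1 : cj (S.ws k 1) (S.xs (k + 3) u) = S.xs k u := by
    have := S.ws_s3 k 1 u one_ne_zero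
    rw [one_pow, one_mul] at this
    exact this
  have h2 : cj (S.ws k 1)⁻¹ (S.xs k u) = S.xs (k + 3) u := cj_inv_of h1
  unfold SysT.hs
  rw [← cj_cj, h2]
  exact S.ws_s3 k t u ht

/-- special case `i = 1` of H2 `hs_xl` -/
theorem t3ct5h26_hs_l1 (k : ZMod 6) (t : K) (c : F) (ht : t ≠ 0) :
    cj (S.hs k t) (S.xl (k + 1) c) = S.xl (k + 1) c := by
  have h1 : cj (S.ws k 1) (S.xl (k + 1) c) = S.xl (k + 1) c := S.ws_l1 k 1 c one_ne_zero
  have h2 : cj (S.ws k 1)⁻¹ (S.xl (k + 1) c) = S.xl (k + 1) c := cj_inv_of h1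
  unfold SysT.hs
  rw [← cj_cj, h2]
  exact S.ws_l1 k t c ht

/-- [T5] [S] the torus trick `IsCE.torus` with `x = S.xs k`, `w = S.xl (k+1) c`, `g = S.hs k u` where `u ≠ 0`, `u ^ 2 ≠ 1`. -/
theorem CL_sl1 (h : IsCE σ) {u : K} (hu0 : u ≠ 0) (hu1 : u ^ 2 ≠ 1) (k : ZMod 6) (s : K) (c : F) : CL σ (S.xs k s) (S.xl (k + 1) c) := by
  exact h.torus (S.xs k) (fun s t => (S.adds k s t).symm) (S.xl (k + 1) c) (S.hs k u) (u ^ 2) hu1
    (fun t => S.c_sl1 k t c) (fun t => t3ct5h26_hs_s0 S k u t hu0) (t3ct5h26_hs_l1 S k u c hu0) s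

end T

end Cfsg.Agent.Lib.helper17.T3
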