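import Mathlib
import Cfsg.Agent.Lib.helper8.TDM.Defs
import Cfsg.Agent.Lib.Helper10.TD4VE4b
import Cfsg.Agent.Lib.helper15.TD4VM1
import Cfsg.Agent.Lib.Helper5.TD4VN2

/-!
# TDM row I9 (`nb_Xa`, `nJ_X2ab`, `nJ_Xa`), verbatim.

`td4ve4_act` (Helper10.TD4VE4b) gives a sign for each of the three factors of a twisted root element; the three
signs are related by applying the twisting endomorphism `Fr hA f` (which fixes `nb`, `nJ`): `tdmi9_sign`.
-/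

set_option autoImplicit false

namespace Cfsg.Agent.Lib.helper8.TDM

open Cfsg.Lie Cfsg.Lie.ChevalleyDatum Matrix
open Cfsg.Agent.Lib.helper8 Cfsg.Agent.Lib.helper8.TD4
open Cfsg.Agent.Lib.helper23.TD4V

universe u

section I

variable {K : Type u} [Field K] [Fintype K] (q : ℕ)

omit [Fintype K] in
/-- the relation between the signs of two consecutive roots of a triality orbit -/
theorem tdmi9_sign (hA : H8ReflAll chevD4) (hW : H8BN2 chevD4) (f : K ≃+* K) (n : GG K)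
    (hn : Fr hA f n = n) (r r' s s' : ℕ)
    (hr : r < chevD4.nroots) (hs : s < chevD4.nroots) (hs' : s' < chevD4.nroots)
    (hrr : h8sD4 r = r') (hss : h8sD4 s = s') (e d : ℤ) (he : h8eD4 r = e) (hd : h8eD4 s = d)
    (ε ε' : K) (hε : f ε = ε) (h1 : ∀ t : K, n * X r t * n⁻¹ = X s (ε * t))
    (h2 : ∀ t : K, n * X r' t * n⁻¹ = X s' (ε' * t)) : ε' * (e : K) = (d : K) * ε := by
  have k1 : Fr hA f (n * X r 1 * n⁻¹) = X s' (ε' * ((e : K) * 1)) := by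
    rw [map_mul, map_mul, map_inv, hn]
    have : Fr hA f (X r 1) = X r' ((e : K) * 1) := by
      unfold Fr X
      rw [h8Sig_xU chevD4 _ _ _ _ _ (h8autD4 hA) f hB r hr, hrr, he, map_one]
    rw [this, h2]
  have k2 : Fr hA f (X s (ε * 1)) = X s' ((d : K) * (ε * 1)) := by
    unfold Fr X
    rw [h8Sig_xU chevD4 _ _ _ _ _ (h8autD4 hA) f hB s hs, hss, hd, map_mul, map_one, hε]
  rw [h1 1, k2] at k1
  have := h8xU_inj_t chevD4 hB hA hW s' hs' _ _ k1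
  rw [mul_one, mul_one] at this
  exact this.symm

/-- the general form: `n_w` conjugates a product over a triality orbit -/
theorem tdmi9_orbit (hq : IsPrimePow q) (hK : Fintype.card K = q ^ 3)
    (w : List ℕ) (hw : ∀ i ∈ w, i < chevD4.rank)
    (hmem : (h8nWU chevD4 hB w : GG K) ∈ twistedD4 K q)
    (r1 r2 r3 s1 s2 s3 : ℕ) (e1 e2 d1 d2 : ℤ)
    (hr1 : r1 < chevD4.nroots) (hr2 : r2 < chevD4.nroots) (hr3 : r3 < chevD4.nroots)
    (hs1 : s1 < chevD4.nroots) (hs2 : s2 < chevD4.nroots) (hs3 : s3 < chevD4.nroots)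
    (hw1 : h8sW chevD4 w r1 = s1) (hw2 : h8sW chevD4 w r2 = s2) (hw3 : h8sW chevD4 w r3 = s3)
    (hr12 : h8sD4 r1 = r2) (hr23 : h8sD4 r2 = r3) (hs12 : h8sD4 s1 = s2) (hs23 : h8sD4 s2 = s3)
    (he1 : h8eD4 r1 = e1) (he2 : h8eD4 r2 = e2) (hd1 : h8eD4 s1 = d1) (hd2 : h8eD4 s2 = d2) :
    ∃ ε ε' ε'' : K, (ε = 1 ∨ ε = -1) ∧ ε' * (e1 : K) = (d1 : K) * ε ∧
      ε'' * (e2 : K) = (d2 : K) * ε' ∧
      ∀ t1 t2 t3 : K, (h8nWU chevD4 hB w : GG K) * (X r1 t1 * X r2 t2 * X r3 t3) *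
        (h8nWU chevD4 hB w : GG K)⁻¹ = X s1 (ε * t1) * X s2 (ε' * t2) * X s3 (ε'' * t3) := by
  obtain ⟨f, hf, hfff, hneg⟩ := td4vm1_frob q hq hK
  have hD : chevD4 ∈ [chevG2, chevB2, chevD4, chevF4, chevE6, chevE7, chevE8] := by simp
  have hA := h8reflAll chevD4 hD
  have hW := h8bn2_all chevD4 hD
  have hC := h8commAll.{u} chevD4 hD
  have hn : Fr hA f (h8nWU chevD4 hB w : GG K) = h8nWU chevD4 hB w :=
    h8twD4_fix hB hC hA q f hf hfff _ hmem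
  obtain ⟨ε, hε, a1, -⟩ := td4ve4_act (K := K) w hw r1 hr1
  obtain ⟨ε', hε', a2, -⟩ := td4ve4_act (K := K) w hw r2 hr2
  obtain ⟨ε'', hε'', a3, -⟩ := td4ve4_act (K := K) w hw r3 hr3
  rw [hw1] at a1
  rw [hw2] at a2
  rw [hw3] at a3
  have fε : ∀ x : K, (x = 1 ∨ x = -1) → f x = x := by
    rintro x (rfl | rfl)
    · exact map_one f
    · rw [map_neg, map_one]
  refine ⟨ε, ε', ε'', hε, ?_, ?_, fun t1 t2 t3 => ?_⟩
  · exact tdmi9_sign hA hW f _ hn r1 r2 s1 s2 hr1 hs1 hs2 hr12 hs12 e1 d1 he1 hd1 ε ε' (fε ε hε) a1 a2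
  · exact tdmi9_sign hA hW f _ hn r2 r3 s2 s3 hr2 hs2 hs3 hr23 hs23 e2 d2 he2 hd2 ε' ε'' (fε ε' hε')
      a2 a3
  · rw [← a1, ← a2, ← a3]
    group

/-- **I9** [M] (all three). -/
theorem nb_Xa (hq : IsPrimePow q) (hK : Fintype.card K = q ^ 3) :
    ∃ ε : K, (ε = 1 ∨ ε = -1) ∧ ∀ t : K, nb * Xa q t * nb⁻¹ = Xab q (ε * t) := by
  obtain ⟨-, hfd⟩ := h8twD4_fixdata
  obtain ⟨-, -, -, r12, r23, -, e1, e2, -⟩ := hfd (18, 13, 12) (by simp)
  obtain ⟨-, -, -, -, -, -, s12, s23, -, d1, d2, -⟩ :=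
    td4vm1_sigdata (19, 16, 15, -1, 1, -1) (by simp)
  simp only at r12 r23 e1 e2 s12 s23 d1 d2
  obtain ⟨ε, ε', ε'', hε, k1, k2, h⟩ := tdmi9_orbit (K := K) q hq hK [1] (by decide)
    (by rw [← td4ve4_nb_eq]; exact td4ve4_nb_mem q hq hK) 18 13 12 19 16 15 1 1 (-1) 1
    (by decide) (by decide) (by decide) (by decide) (by decide) (by decide)
    (by decide) (by decide) (by decide) r12 r23 s12 s23 e1 e2 d1 d2
  rw [← td4ve4_nb_eq] at h
  push_cast at k1 k2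
  rw [mul_one] at k1 k2
  rw [one_mul] at k2
  refine ⟨ε, hε, fun t => ?_⟩
  have hεq : ε ^ q = ε := by
    rcases hε with rfl | rfl
    · exact one_pow _
    · obtain ⟨f, hf, hfff, hneg⟩ := td4vm1_frob (K := K) q hq hK
      exact hneg
  have hεq2 : ε ^ (q ^ 2) = ε := by
    rw [pow_two, pow_mul, hεq, hεq]
  unfold Xa Xab XA XAB
  rw [h, k2, k1, mul_pow, mul_pow, hεq, hεq2]
  congr 2
  · congr 1; ring
  · ring

theorem nJ_X2ab (hq : IsPrimePow q) (hK : Fintype.card K = q ^ 3) :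
    ∃ ε : K, (ε = 1 ∨ ε = -1) ∧ ∀ t : K, nJ * X2ab q t * nJ⁻¹ = Xab q (ε * t ^ (q ^ 2)) := by
  obtain ⟨-, -, -, -, -, -, r12, r23, -, e1, e2, -⟩ :=
    td4vm1_sigdata (20, 21, 17, 1, -1, -1) (by simp)
  obtain ⟨-, -, -, -, -, -, s12', s23', s31', d1', d2', d3', c12, c13, c23⟩ :=
    td4vm1_sigdata (19, 16, 15, -1, 1, -1) (by simp)
  simp only at r12 r23 e1 e2 s12' s23' s31' d1' d2' d3' c12 c13 c23
  obtain ⟨ε, ε', ε'', hε, k1, k2, h⟩ := tdmi9_orbit (K := K) q hq hK [0, 2, 3] (by decide)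
    (td4ve4_nJ_mem q hq hK) 20 21 17 16 15 19 1 (-1) 1 (-1)
    (by decide) (by decide) (by decide) (by decide) (by decide) (by decide)
    (by decide) (by decide) (by decide) r12 r23 s23' s31' e1 e2 d2' d3'
  have hnJ : (nJ : GG K) = h8nWU chevD4 hB [0, 2, 3] := rfl
  rw [← hnJ] at h
  push_cast at k1 k2
  rw [mul_one, one_mul] at k1
  have k2' : ε'' = ε' := by
    have := k2
    rw [mul_neg, neg_mul, mul_one, one_mul] at this
    exact neg_injective this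
  have hεn : (-ε = 1 ∨ -ε = -1) := by
    rcases hε with rfl | rfl
    · right; rfl
    · left; simp
  refine ⟨-ε, hεn, fun t => ?_⟩
  have hεq : ε ^ q = ε := by
    rcases hε with rfl | rfl
    · exact one_pow _
    · obtain ⟨f, hf, hfff, hneg⟩ := td4vm1_frob (K := K) q hq hK
      exact hneg
  have hεq2 : ε ^ (q ^ 2) = ε := by
    rw [pow_two, pow_mul, hεq, hεq]
  have hneg1 : ∀ x : K, (-x) ^ q = -(x ^ q) := fun x => by
    obtain ⟨f, hf, hfff, hneg⟩ := td4vm1_frob (K := K) q hq hK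
    rw [← hf, ← hf, map_neg]
  have p1 : (t ^ (q ^ 2)) ^ q = t := pow_q_q2 q hK t
  have p2 : (t ^ (q ^ 2)) ^ (q ^ 2) = t ^ q := by
    rw [pow_two q, pow_mul (t ^ (q * q)) q q, ← pow_two q, p1]
  have q1 : (-ε * t ^ (q ^ 2)) ^ q = -(ε * t) := by
    rw [neg_mul, hneg1, mul_pow, hεq, p1]
  have q2 : (-ε * t ^ (q ^ 2)) ^ (q ^ 2) = -(ε * t ^ q) := by
    rw [pow_two q, pow_mul (-ε * t ^ (q * q)) q q, ← pow_two q, q1, hneg1, mul_pow, hεq]
  unfold X2ab Xab X2AB XAB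
  rw [h, k2', k1, q1, q2, neg_neg, neg_neg]
  have k12 : ∀ a b : K, X 19 a * X 16 b = X 16 b * X 19 a :=
    fun a b => X_comm 19 16 (by decide) (by decide) c12 (by decide) a b
  have k13 : ∀ a b : K, X 19 a * X 15 b = X 15 b * X 19 a :=
    fun a b => X_comm 19 15 (by decide) (by decide) c13 (by decide) a b
  rw [mul_assoc (X 16 _), ← k13, ← mul_assoc, ← k12]
  congr 2
  congr 1; ring

theorem nJ_Xa (hq : IsPrimePow q) (hK : Fintype.card K = q ^ 3) :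
    ∃ ε : K, (ε = 1 ∨ ε = -1) ∧ ∀ t : K, nJ * Xa q t * nJ⁻¹ = Xma q (ε * t) := by
  obtain ⟨-, hfd⟩ := h8twD4_fixdata
  obtain ⟨-, -, -, r12, r23, -, e1, e2, -⟩ := hfd (18, 13, 12) (by simp)
  obtain ⟨-, -, -, s12, s23, -, d1, d2, -⟩ := hfd (5, 10, 11) (by simp)
  simp only at r12 r23 e1 e2 s12 s23 d1 d2
  obtain ⟨ε, ε', ε'', hε, k1, k2, h⟩ := tdmi9_orbit (K := K) q hq hK [0, 2, 3] (by decide)
    (td4ve4_nJ_mem q hq hK) 18 13 12 5 10 11 1 1 1 1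
    (by decide) (by decide) (by decide) (by decide) (by decide) (by decide)
    (by decide) (by decide) (by decide) r12 r23 s12 s23 e1 e2 d1 d2
  have hnJ : (nJ : GG K) = h8nWU chevD4 hB [0, 2, 3] := rfl
  rw [← hnJ] at h
  push_cast at k1 k2
  rw [mul_one, one_mul] at k1 k2
  refine ⟨ε, hε, fun t => ?_⟩
  have hεq : ε ^ q = ε := by
    rcases hε with rfl | rfl
    · exact one_pow _
    · obtain ⟨f, hf, hfff, hneg⟩ := td4vm1_frob (K := K) q hq hK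
      exact hneg
  have hεq2 : ε ^ (q ^ 2) = ε := by
    rw [pow_two, pow_mul, hεq, hεq]
  unfold Xa Xma XA XmA
  rw [h, k2, k1, mul_pow, mul_pow, hεq, hεq2]

end I

end Cfsg.Agent.Lib.helper8.TDM
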