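import Mathlib
import Cfsg.Agent.Lib.helper8.TDM.Defs
import Cfsg.Agent.Lib.helper14.TDMU7
import Cfsg.Agent.S1048

/-!
# TDM row U6 (`nJ_conj_Qa`), verbatim: the radical of `P_a` is normalised by `nJ`.

The five factors lie in `chevD4.unipotentRadical K {0,2,3}` (the roots with positive coefficient on `β`), which is
normalised by `nJ ∈ chevD4.parabolicSubgroup K {0,2,3}` (S1048 part 1) and contained in `posUnipotent`; the factors and
`nJ` lie in `G` (U7).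
-/

set_option autoImplicit false

namespace Cfsg.Agent.Lib.helper8.TDM

open Cfsg.Lie Cfsg.Lie.ChevalleyDatum Matrix
open Cfsg.Agent.Lib.helper8 Cfsg.Agent.Lib.helper8.TD4
open Cfsg.Agent.Lib.helper23.TD4V

universe u

section U

variable {K : Type u} [Field K] [Fintype K] (q : ℕ)

/-- the positive roots with positive coefficient on `β` -/
theorem tdmu6_posdata : ∀ r ∈ [14, 15, 16, 17, 19, 20, 21, 22, 23],
    chevD4.IsPosRoot r ∧ (chevD4.coroot.getD r #[]).getD 1 0 ≠ 0 := by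
  decide

omit [Fintype K] in
/-- these root elements lie in the radical `U_J`, `J = {0, 2, 3}` -/
theorem tdmu6_X_mem (r : ℕ) (hr : r ∈ [14, 15, 16, 17, 19, 20, 21, 22, 23]) (t : K) :
    X r t ∈ chevD4.unipotentRadical K ({0, 2, 3} : Set ℕ) := by
  unfold ChevalleyDatum.unipotentRadical
  apply Subgroup.subset_closure
  obtain ⟨h1, h2⟩ := tdmu6_posdata r hr
  refine ⟨r, t, h1, ?_, rfl⟩
  intro hs
  exact h2 (hs.2 1 (by decide) (by simp))

omit [Fintype K] in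
/-- `U_J ≤ U` -/
theorem tdmu6_le_U (J : Set ℕ) : chevD4.unipotentRadical K J ≤ chevD4.posUnipotent K := by
  unfold ChevalleyDatum.unipotentRadical ChevalleyDatum.posUnipotent
  apply Subgroup.closure_mono
  rintro g ⟨r, t, hr, _, hg⟩
  exact ⟨r, t, hr, hg⟩

omit [Fintype K] in
/-- `nJ ∈ P_J`, `J = {0, 2, 3}` -/
theorem tdmu6_nJ_mem : (nJ : GG K) ∈ chevD4.parabolicSubgroup K ({0, 2, 3} : Set ℕ) := by
  unfold nJ
  rw [h8nWU_triple]
  have h : ∀ j ∈ ({0, 2, 3} : Set ℕ), j < chevD4.rank →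
      (h8nU chevD4 hB (chevD4.simple j) 1 : GG K) ∈ chevD4.parabolicSubgroup K ({0, 2, 3} : Set ℕ) := by
    intro j hj hjr
    unfold ChevalleyDatum.parabolicSubgroup
    apply Subgroup.mem_sup_right
    apply Subgroup.subset_closure
    exact ⟨j, hj, hjr, h8nU_val chevD4 hB _ _⟩
  exact mul_mem (mul_mem (h 0 (by simp) (by decide)) (h 2 (by simp) (by decide)))
    (h 3 (by simp) (by decide))

/-- **U6** [M]. -/
theorem nJ_conj_Qa (hq : IsPrimePow q) (hK : Fintype.card K = q ^ 3) (c1 t2 t3 c2 c3 : K)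
    (h1 : c1 ^ q = c1) (h2 : c2 ^ q = c2) (h3 : c3 ^ q = c3) :
    nJ⁻¹ * (X 14 c1 * Xab q t2 * X2ab q t3 * X 22 c2 * X 23 c3) * nJ ∈ U1 K q ∧
      nJ * (X 14 c1 * Xab q t2 * X2ab q t3 * X 22 c2 * X 23 c3) * nJ⁻¹ ∈ U1 K q := by
  obtain ⟨m1, m2, -, -, mJ, -⟩ := mem_G (K := K) q hq hK
  set g : GG K := X 14 c1 * Xab q t2 * X2ab q t3 * X 22 c2 * X 23 c3 with hg
  have hgG : g ∈ twistedD4 K q :=
    mul_mem (mul_mem (mul_mem (mul_mem (m2 14 (by simp) c1 h1).2 (m1 t2).2.1.2) (m1 t3).2.2.1.2)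
      (m2 22 (by simp) c2 h2).2) (m2 23 (by simp) c3 h3).2
  have hgR : g ∈ chevD4.unipotentRadical K ({0, 2, 3} : Set ℕ) := by
    rw [hg]
    unfold Xab X2ab XAB X2AB
    exact mul_mem (mul_mem (mul_mem (mul_mem (tdmu6_X_mem 14 (by simp) _)
      (mul_mem (mul_mem (tdmu6_X_mem 19 (by simp) _) (tdmu6_X_mem 16 (by simp) _))
        (tdmu6_X_mem 15 (by simp) _)))
      (mul_mem (mul_mem (tdmu6_X_mem 20 (by simp) _) (tdmu6_X_mem 21 (by simp) _))
        (tdmu6_X_mem 17 (by simp) _))) (tdmu6_X_mem 22 (by simp) _)) (tdmu6_X_mem 23 (by simp) _)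
  have hN := (Cfsg.Agent.S1048.result (F := K) chevD4 (by simp) ({0, 2, 3} : Set ℕ)).1
  have n1 := hN (tdmu6_nJ_mem (K := K))
  have n2 := hN (inv_mem (tdmu6_nJ_mem (K := K)))
  rw [Subgroup.mem_normalizer_iff] at n1 n2
  have r1 := (n1 g).mp hgR
  have r2 := (n2 g).mp hgR
  rw [inv_inv] at r2
  have g1 : nJ⁻¹ * g * nJ ∈ twistedD4 K q :=
    Subgroup.mul_mem _ (Subgroup.mul_mem _ (Subgroup.inv_mem _ mJ) hgG) mJ
  have g2 : nJ * g * nJ⁻¹ ∈ twistedD4 K q :=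
    Subgroup.mul_mem _ (Subgroup.mul_mem _ mJ hgG) (Subgroup.inv_mem _ mJ)
  exact ⟨Subgroup.mem_inf.mpr ⟨tdmu6_le_U _ r2, g1⟩, Subgroup.mem_inf.mpr ⟨tdmu6_le_U _ r1, g2⟩⟩

end U

end Cfsg.Agent.Lib.helper8.TDM
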