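import Mathlib
import Cfsg.Agent.Lib.helper8.TDM.Defs
import Cfsg.Agent.Lib.helper8.ChevTwD4

/-!
# TDM row U8 (`gen_le`), verbatim: `³D₄(q)` is generated by `X 14 c`, `X 9 c` (`c ^ q = c`), `Xa q t`, `Xma q t`.
-/

set_option autoImplicit false

namespace Cfsg.Agent.Lib.helper8.TDM

open Cfsg.Lie Cfsg.Lie.ChevalleyDatum Matrix
open Cfsg.Agent.Lib.helper8 Cfsg.Agent.Lib.helper8.TD4
open Cfsg.Agent.Lib.helper23.TD4V

universe u

section U

variable {K : Type u} [Field K] [Fintype K] (q : ℕ)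

/-- **U8** [S-M]. -/
theorem gen_le (H : Subgroup (GG K)) (h1 : ∀ c : K, c ^ q = c → X 14 c ∈ H ∧ X 9 c ∈ H)
    (h2 : ∀ t : K, Xa q t ∈ H ∧ Xma q t ∈ H) : twistedD4 K q ≤ H := by
  unfold twistedD4 ChevalleyDatum.genSubgroup
  rw [Subgroup.closure_le]
  rintro x ⟨w, hw, hxw⟩
  have hx' : x = h8wordU chevD4 hB w := Units.ext (hxw.trans (h8wordU_val chevD4 hB w).symm)
  rw [hx']
  rcases hw with ⟨t, ht, r, hr, rfl⟩ | ⟨t, rs, hrs, rfl⟩
  · rw [h8wordU_one]
    simp only [d4p2, d4m2, List.mem_cons, List.not_mem_nil, or_false] at hr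
    rcases hr with rfl | rfl
    · exact (h1 t ht).1
    · exact (h1 t ht).2
  · rw [h8wordU_three]
    simp only [d4p1, d4p3, d4p4, d4m1, d4m3, d4m4, List.mem_cons, List.not_mem_nil, or_false] at hrs
    rcases hrs with rfl | rfl
    · exact (h2 t).1
    · exact (h2 t).2

end U

end Cfsg.Agent.Lib.helper8.TDM
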