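import Mathlib

/-!
# TWIF4 pieces FCOUNT / TCOUNT : the generic group theory (Mathlib only)
-/

set_option autoImplicit false
set_option linter.unusedVariables false

namespace Cfsg.Agent.Lib.helper8.TWIF4

/-- the number of classes of involutions, from a list of representatives
(copy of `invol_count` of helper8 ChevIE7i, to keep this file Mathlib only) -/
theorem twif4count_reps {G : Type*} [Group G] (n : ℕ) (rep : Fin n → G)
    (hrep : ∀ i, orderOf (rep i) = 2)
    (hnc : ∀ i j, IsConj (rep i) (rep j) → i = j)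
    (hall : ∀ g : G, orderOf g = 2 → ∃ i, IsConj g (rep i)) :
    (ConjClasses.mk '' {g : G | orderOf g = 2}).ncard = n := by
  have hset : ConjClasses.mk '' {g : G | orderOf g = 2} =
      Set.range (fun i : Fin n => ConjClasses.mk (rep i)) := by
    ext c
    constructor
    · rintro ⟨g, hg, rfl⟩
      obtain ⟨i, hi⟩ := hall g hg
      exact ⟨i, (ConjClasses.mk_eq_mk_iff_isConj.mpr hi).symm⟩
    · rintro ⟨i, rfl⟩
      exact ⟨rep i, hrep i, rfl⟩
  rw [hset, ← Set.image_univ, Set.ncard_image_of_injective, Set.ncard_univ, Nat.card_fin]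
  intro i j hij
  exact hnc i j (ConjClasses.mk_eq_mk_iff_isConj.mp hij)

/-- an element with `a * a = 1`, `a ≠ 1` has order two -/
theorem twif4count_order {G : Type*} [Group G] (a : G) (ha2 : a * a = 1) (ha1 : a ≠ 1) :
    orderOf a = 2 := by
  have : Fact (Nat.Prime 2) := ⟨Nat.prime_two⟩
  exact orderOf_eq_prime (by rw [pow_two]; exact ha2) ha1

/-- generic count in a subgroup: two representatives, not conjugate in the big group -/
theorem twif4count_sub {G : Type*} [Group G] (H : Subgroup G) (a b : G) (ha : a ∈ H)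
    (hb : b ∈ H) (ha2 : a * a = 1) (ha1 : a ≠ 1) (hb2 : b * b = 1) (hb1 : b ≠ 1)
    (hnc : ¬ ∃ g : G, g * a * g⁻¹ = b)
    (hall : ∀ t ∈ H, t * t = 1 → t ≠ 1 → ∃ g ∈ H, g * t * g⁻¹ = a ∨ g * t * g⁻¹ = b) :
    (ConjClasses.mk '' {g : ↥H | orderOf g = 2}).ncard = 2 := by
  have hoa : orderOf (⟨a, ha⟩ : ↥H) = 2 :=
    twif4count_order _ (Subtype.ext (by simpa using ha2))
      (fun h => ha1 (by simpa using congrArg Subtype.val h))
  have hob : orderOf (⟨b, hb⟩ : ↥H) = 2 :=
    twif4count_order _ (Subtype.ext (by simpa using hb2))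
      (fun h => hb1 (by simpa using congrArg Subtype.val h))
  have hab : ¬ IsConj (⟨a, ha⟩ : ↥H) ⟨b, hb⟩ := by
    intro h
    obtain ⟨c, hc⟩ := isConj_iff.mp h
    exact hnc ⟨c.val, by simpa using congrArg Subtype.val hc⟩
  refine twif4count_reps 2 ![⟨a, ha⟩, ⟨b, hb⟩] ?_ ?_ ?_
  · intro i
    fin_cases i
    · simpa using hoa
    · simpa using hob
  · intro i j hij
    fin_cases i <;> fin_cases j
    · rfl
    · exact (hab (by simpa using hij)).elim
    · exact (hab (by simpa using hij.symm)).elim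
    · rfl
  · intro g hg
    have hg2 : g.val * g.val = 1 := by
      have : g ^ 2 = 1 := by rw [← hg]; exact pow_orderOf_eq_one g
      rw [pow_two] at this
      simpa using congrArg Subtype.val this
    have hg1 : g.val ≠ 1 := by
      intro h
      have : g = 1 := Subtype.ext (by simpa using h)
      rw [this, orderOf_one] at hg
      omega
    obtain ⟨c, hc, e | e⟩ := hall g.val g.2 hg2 hg1
    · refine ⟨0, isConj_iff.mpr ⟨⟨c, hc⟩, Subtype.ext ?_⟩⟩
      simpa using e
    · refine ⟨1, isConj_iff.mpr ⟨⟨c, hc⟩, Subtype.ext ?_⟩⟩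
      simpa using e

/-- generic count in a subgroup of index two containing all involutions, when each of the two
representatives commutes with an element outside the subgroup -/
theorem twif4count_idx2 {G : Type*} [Group G] (T : Subgroup G) (hT : T.index = 2) (a b : G)
    (ha : orderOf a = 2) (hb : orderOf b = 2)
    (hinv : ∀ g : G, orderOf g = 2 → g ∈ T)
    (hnc : ¬ IsConj a b)
    (hall : ∀ t : G, orderOf t = 2 → IsConj t a ∨ IsConj t b)
    (hza : ∃ z : G, z ∉ T ∧ z * a = a * z) (hzb : ∃ z : G, z ∉ T ∧ z * b = b * z) :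
    (ConjClasses.mk '' {g : ↥T | orderOf g = 2}).ncard = 2 := by
  have hoa : orderOf (⟨a, hinv a ha⟩ : ↥T) = 2 := by
    rw [← ha, ← Subgroup.orderOf_coe]
  have hob : orderOf (⟨b, hinv b hb⟩ : ↥T) = 2 := by
    rw [← hb, ← Subgroup.orderOf_coe]
  have hab : ¬ IsConj (⟨a, hinv a ha⟩ : ↥T) ⟨b, hinv b hb⟩ := by
    intro h
    obtain ⟨c, hc⟩ := isConj_iff.mp h
    exact hnc (isConj_iff.mpr ⟨c.val, by simpa using congrArg Subtype.val hc⟩)
  -- a conjugator can be moved into `T`
  have hmove : ∀ (x : G) (hx : orderOf x = 2), (∃ z : G, z ∉ T ∧ z * x = x * z) →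
      ∀ t : ↥T, IsConj t.val x → IsConj t (⟨x, hinv x hx⟩ : ↥T) := by
    intro x hx ⟨z, hz, hzx⟩ t ht
    obtain ⟨c, hc⟩ := isConj_iff.mp ht
    by_cases hcT : c ∈ T
    · exact isConj_iff.mpr ⟨⟨c, hcT⟩, Subtype.ext (by simpa using hc)⟩
    · have hzc : z * c ∈ T := by
        rw [Subgroup.mul_mem_iff_of_index_two hT]
        exact ⟨fun h => (hz h).elim, fun h => (hcT h).elim⟩
      refine isConj_iff.mpr ⟨⟨z * c, hzc⟩, Subtype.ext ?_⟩
      have : z * c * t.val * (z * c)⁻¹ = z * (c * t.val * c⁻¹) * z⁻¹ := by group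
      simp only [Subgroup.coe_mul, Subgroup.coe_inv]
      rw [this, hc, hzx, mul_inv_cancel_right]
  refine twif4count_reps 2 ![⟨a, hinv a ha⟩, ⟨b, hinv b hb⟩] ?_ ?_ ?_
  · intro i
    fin_cases i
    · simpa using hoa
    · simpa using hob
  · intro i j hij
    fin_cases i <;> fin_cases j
    · rfl
    · exact (hab (by simpa using hij)).elim
    · exact (hab (by simpa using hij.symm)).elim
    · rfl
  · intro t ht
    have ht' : orderOf t.val = 2 := by rw [Subgroup.orderOf_coe]; exact ht
    rcases hall t.val ht' with h | h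
    · exact ⟨0, by simpa using hmove a ha hza t h⟩
    · exact ⟨1, by simpa using hmove b hb hzb t h⟩

end Cfsg.Agent.Lib.helper8.TWIF4
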