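import Cfsg.Agent.Lib.Helper26.PPIa

set_option autoImplicit false

namespace Cfsg.Agent.Lib.Helper26.Tate

open MulAction
open Cfsg.Agent.Lib.helper17.CB12 Cfsg.Agent.Lib.helper17.CB14

universe u v w

section EquivMap

/-- an equivariant map into a second set with action exists as soon as every point stabilizer
fixes a point of the target -/
theorem exists_equivariant_map {H : Type*} [Group H] {X : Type*} [MulAction H X] {T : Type*}
    [MulAction H T] (hfix : ∀ x : X, ∃ t : T, ∀ h : H, h • x = x → h • t = t) :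
    ∃ f : X → T, ∀ (h : H) (x : X), f (h • x) = h • f x := by
  classical
  let rep : X → X := fun x => (Quotient.mk (orbitRel H X) x).out
  have hrep : ∀ x, ∃ k : H, k • rep x = x := by
    intro x
    have h1 : (orbitRel H X).r x (rep x) :=
      (orbitRel H X).symm (Quotient.exact (Quotient.out_eq (Quotient.mk (orbitRel H X) x)))
    exact h1
  choose kk hkk using hrep
  choose tt htt using hfix
  refine ⟨fun x => kk x • tt (rep x), ?_⟩
  intro h x
  have hrepeq : rep (h • x) = rep x := by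
    show (Quotient.mk (orbitRel H X) _).out = (Quotient.mk (orbitRel H X) x).out
    congr 1
    apply Quotient.sound
    exact ⟨h, rfl⟩
  have h2 : kk (h • x) • rep x = h • x := by
    rw [← hrepeq, hkk]
  have h1 : ((h * kk x)⁻¹ * kk (h • x)) • rep x = rep x := by
    rw [mul_smul, h2, inv_smul_eq_iff, mul_smul, hkk]
  have h3 := htt (rep x) _ h1
  rw [mul_smul, inv_smul_eq_iff, mul_smul] at h3
  show kk (h • x) • tt (rep (h • x)) = h • kk x • tt (rep x)
  rw [hrepeq]
  exact h3

end EquivMap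

section Quot

variable {S : Type u} [Group S] (N : Subgroup S) [N.Normal]

/-- the two-sided action on the quotient -/
def actQ : MulAction (S × S) (S ⧸ N) where
  smul g q := (g.1 : S ⧸ N) * q * ((g.2 : S ⧸ N))⁻¹
  one_smul q := by
    show (((1 : S × S).1 : S) : S ⧸ N) * q * ((((1 : S × S).2 : S) : S ⧸ N))⁻¹ = q
    simp
  mul_smul g h q := by
    show (((g * h).1 : S) : S ⧸ N) * q * ((((g * h).2 : S) : S ⧸ N))⁻¹ =
      (g.1 : S ⧸ N) * ((h.1 : S ⧸ N) * q * ((h.2 : S ⧸ N))⁻¹) * ((g.2 : S ⧸ N))⁻¹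
    simp only [Prod.fst_mul, Prod.snd_mul, QuotientGroup.mk_mul]
    group

variable {X : Type v} [MulAction (S × S) X]

theorem comm_lr (u t : S) (x : X) :
    ((u, (1 : S)) : S × S) • ((1 : S), t) • x = ((1 : S), t) • ((u, (1 : S)) : S × S) • x := by
  rw [← mul_smul, ← mul_smul]
  simp

/-- a right retraction lifting a degree map to the quotient -/
theorem exists_lift_retraction
    (hfix : ∀ x : X, ∃ q : S ⧸ N, ∀ a b : S, ((a, b) : S × S) • x = x →
      (a : S ⧸ N) * q * ((b : S ⧸ N))⁻¹ = q)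
    (r₀ : X → S) (hr₀ : ∀ (t : S) (x : X), r₀ (((1 : S), t) • x) = r₀ x * t⁻¹) :
    ∃ w : X → S, (∀ (t : S) (x : X), w (((1 : S), t) • x) = w x * t⁻¹) ∧
      ∀ (s : S) (x : X), w (((s, (1 : S)) : S × S) • x) * (w x)⁻¹ * s⁻¹ ∈ N := by
  letI := actQ N
  obtain ⟨π, hπ⟩ := exists_equivariant_map (H := S × S) (X := X) (T := S ⧸ N) (by
    intro x
    obtain ⟨q, hq⟩ := hfix x
    exact ⟨q, fun h hh => hq h.1 h.2 hh⟩)
  have hπ' : ∀ (a b : S) (x : X),
      π (((a, b) : S × S) • x) = (a : S ⧸ N) * π x * ((b : S ⧸ N))⁻¹ :=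
    fun a b x => hπ (a, b) x
  let hat : X → X := fun x => (Quotient.mk (rightRel S X) x).out
  have hhat : ∀ x, ∃ t : S, ((1 : S), t) • hat x = x := fun x =>
    Quotient.exact (Quotient.out_eq (Quotient.mk (rightRel S X) x))
  have hhat_eq : ∀ (t : S) (x : X), hat (((1 : S), t) • x) = hat x := by
    intro t x
    show (Quotient.mk (rightRel S X) _).out = (Quotient.mk (rightRel S X) x).out
    congr 1
    apply Quotient.sound
    exact (rightRel S X).symm ⟨t, rfl⟩
  let w : X → S := fun x => (π (hat x)).out * (r₀ (hat x))⁻¹ * r₀ x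
  have hwπ : ∀ x, ((w x : S) : S ⧸ N) = π x := by
    intro x
    obtain ⟨t, ht⟩ := hhat x
    have h1 : r₀ x = r₀ (hat x) * t⁻¹ := by
      rw [← hr₀, ht]
    have h2 : π x = π (hat x) * ((t : S ⧸ N))⁻¹ := by
      have := hπ' 1 t (hat x)
      rw [ht] at this
      rw [this]
      simp
    have h3 : (π (hat x)).out * (r₀ (hat x))⁻¹ * (r₀ (hat x) * t⁻¹) = (π (hat x)).out * t⁻¹ := by
      group
    show (((π (hat x)).out * (r₀ (hat x))⁻¹ * r₀ x : S) : S ⧸ N) = π x
    rw [h1, h3, QuotientGroup.mk_mul, QuotientGroup.out_eq', QuotientGroup.mk_inv, h2]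
  refine ⟨w, ?_, ?_⟩
  · intro t x
    show (π (hat (((1 : S), t) • x))).out * (r₀ (hat (((1 : S), t) • x)))⁻¹ *
      r₀ (((1 : S), t) • x) = (π (hat x)).out * (r₀ (hat x))⁻¹ * r₀ x * t⁻¹
    rw [hhat_eq, hr₀]
    group
  · intro s x
    rw [← QuotientGroup.eq_one_iff, QuotientGroup.mk_mul, QuotientGroup.mk_mul,
      QuotientGroup.mk_inv, QuotientGroup.mk_inv, hwπ, hwπ, hπ' s 1 x]
    simp

end Quot

section Transfer

variable {S : Type u} [Group S] {X : Type v} [MulAction (S × S) X] {A : Type w} [CommGroup A]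

/-- `L` is multiplicative on `N` and constant on the classes of `S` in `N` -/
structure IsInvOn (N : Subgroup S) (L : S → A) : Prop where
  mul : ∀ a ∈ N, ∀ b ∈ N, L (a * b) = L a * L b
  conj : ∀ (s : S), ∀ a ∈ N, L (s * a * s⁻¹) = L a

theorem IsInvOn.one {N : Subgroup S} {L : S → A} (hL : IsInvOn N L) : L 1 = 1 := by
  have := hL.mul 1 N.one_mem 1 N.one_mem
  rw [mul_one] at this
  exact (mul_eq_left (a := L 1)).mp this.symm

theorem IsInvOn.inv {N : Subgroup S} {L : S → A} (hL : IsInvOn N L) {a : S} (ha : a ∈ N) :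
    L a⁻¹ = (L a)⁻¹ := by
  have := hL.mul a ha a⁻¹ (N.inv_mem ha)
  rw [mul_inv_cancel, hL.one] at this
  exact (eq_inv_of_mul_eq_one_right this.symm)

/-- `w` is a right retraction that is a left retraction up to `N` -/
structure IsDegRet (N : Subgroup S) (w : X → S) : Prop where
  right : ∀ (t : S) (x : X), w (((1 : S), t) • x) = w x * t⁻¹
  left : ∀ (s : S) (x : X), w (((s, (1 : S)) : S × S) • x) * (w x)⁻¹ * s⁻¹ ∈ N

variable (L : S → A) (w : X → S)

/-- the factor of the restricted transfer on right orbits -/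
def pY (hw : ∀ (t : S) (x : X), w (((1 : S), t) • x) = w x * t⁻¹) (u : S) : Ybar S X → A :=
  Quotient.lift (s := rightRel S X)
    (fun x => L (w (((u, (1 : S)) : S × S) • x) * (w x)⁻¹)) (by
    rintro x y ⟨t, rfl⟩
    show L _ = L _
    congr 1
    rw [comm_lr, hw, hw]
    group)

theorem pY_mk (hw : ∀ (t : S) (x : X), w (((1 : S), t) • x) = w x * t⁻¹) (u : S) (x : X) :
    pY L w hw u (Quotient.mk (rightRel S X) x) =
      L (w (((u, (1 : S)) : S × S) • x) * (w x)⁻¹) := rfl

/-- the factor of the extended map on right orbits -/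
def dY (hw : ∀ (t : S) (x : X), w (((1 : S), t) • x) = w x * t⁻¹) (s : S) : Ybar S X → A :=
  Quotient.lift (s := rightRel S X)
    (fun x => L (w (((s, (1 : S)) : S × S) • x) * (w x)⁻¹ * s⁻¹)) (by
    rintro x y ⟨t, rfl⟩
    show L _ = L _
    congr 1
    rw [comm_lr, hw, hw]
    group)

theorem dY_mk (hw : ∀ (t : S) (x : X), w (((1 : S), t) • x) = w x * t⁻¹) (s : S) (x : X) :
    dY L w hw s (Quotient.mk (rightRel S X) x) =
      L (w (((s, (1 : S)) : S × S) • x) * (w x)⁻¹ * s⁻¹) := rfl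

variable [Fintype (Ybar S X)]

/-- the product of the restricted factors -/
noncomputable def PT (hw : ∀ (t : S) (x : X), w (((1 : S), t) • x) = w x * t⁻¹) (u : S) : A :=
  ∏ y : Ybar S X, pY L w hw u y

/-- the extended map -/
noncomputable def muT (hw : ∀ (t : S) (x : X), w (((1 : S), t) • x) = w x * t⁻¹) (s : S) : A :=
  ∏ y : Ybar S X, dY L w hw s y

variable {L} {w} {N : Subgroup S}

theorem muT_mul [N.Normal] (hL : IsInvOn N L) (hw : IsDegRet N w) (s s' : S) :
    muT L w hw.right (s * s') = muT L w hw.right s * muT L w hw.right s' := by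
  unfold muT
  have h1 : ∀ y : Ybar S X, dY L w hw.right (s * s') y =
      dY L w hw.right s (barPerm (iotaX S X s') y) * dY L w hw.right s' y := by
    intro y
    induction y using Quotient.inductionOn with
    | h x =>
      rw [barPerm_mk, dY_mk, dY_mk, dY_mk, iotaX_apply]
      have ha := hw.left s (((s', (1 : S)) : S × S) • x)
      have hb := hw.left s' x
      have hb' : s * (w (((s', (1 : S)) : S × S) • x) * (w x)⁻¹ * s'⁻¹) * s⁻¹ ∈ N :=
        ‹N.Normal›.conj_mem _ hb s
      have e1 : ((s * s', (1 : S)) : S × S) • x =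
          ((s, (1 : S)) : S × S) • ((s', (1 : S)) : S × S) • x := by
        rw [← mul_smul]
        simp
      have e2 : w (((s, (1 : S)) : S × S) • ((s', (1 : S)) : S × S) • x) * (w x)⁻¹ * (s * s')⁻¹ =
          (w (((s, (1 : S)) : S × S) • ((s', (1 : S)) : S × S) • x) *
            (w (((s', (1 : S)) : S × S) • x))⁻¹ * s⁻¹) *
          (s * (w (((s', (1 : S)) : S × S) • x) * (w x)⁻¹ * s'⁻¹) * s⁻¹) := by
        group
      rw [e1, e2, hL.mul _ ha _ hb', hL.conj s _ hb]
  rw [Finset.prod_congr rfl (fun y _ => h1 y), Finset.prod_mul_distrib]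
  congr 1
  exact Equiv.prod_comp (barPerm (iotaX S X s')) (fun y => dY L w hw.right s y)

/-- the extended map as a homomorphism -/
noncomputable def muHom [N.Normal] (hL : IsInvOn N L) (hw : IsDegRet N w) : S →* A :=
  MonoidHom.mk' (muT L w hw.right) (muT_mul hL hw)

theorem muHom_apply [N.Normal] (hL : IsInvOn N L) (hw : IsDegRet N w) (s : S) :
    muHom hL hw s = muT L w hw.right s := rfl

theorem muT_of_mem (hL : IsInvOn N L) (hw : IsDegRet N w) {u : S} (hu : u ∈ N) :
    muT L w hw.right u = PT L w hw.right u * ((L u)⁻¹) ^ Fintype.card (Ybar S X) := by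
  unfold muT PT
  have h1 : ∀ y : Ybar S X, dY L w hw.right u y = pY L w hw.right u y * (L u)⁻¹ := by
    intro y
    induction y using Quotient.inductionOn with
    | h x =>
      rw [dY_mk, pY_mk]
      have ha := hw.left u x
      have hp : w (((u, (1 : S)) : S × S) • x) * (w x)⁻¹ ∈ N := by
        have := N.mul_mem ha hu
        rwa [inv_mul_cancel_right] at this
      rw [hL.mul _ hp _ (N.inv_mem hu), hL.inv hu]
  rw [Finset.prod_congr rfl (fun y _ => h1 y), Finset.prod_mul_distrib, Finset.prod_const,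
    Finset.card_univ]

/-- reindexing along a permutation commuting with the right action -/
theorem PT_twist (hw : ∀ (t : S) (x : X), w (((1 : S), t) • x) = w x * t⁻¹) (σ : GX S X)
    (hw' : ∀ (t : S) (x : X), w (σ.1 (((1 : S), t) • x)) = w (σ.1 x) * t⁻¹)
    (u v : S) (huv : ∀ x : X, σ.1 (((u, (1 : S)) : S × S) • x) = ((v, (1 : S)) : S × S) • σ.1 x) :
    PT L (fun x => w (σ.1 x)) hw' u = PT L w hw v := by
  unfold PT
  have h1 : ∀ y : Ybar S X, pY L (fun x => w (σ.1 x)) hw' u y = pY L w hw v (barPerm σ y) := by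
    intro y
    induction y using Quotient.inductionOn with
    | h x =>
      rw [barPerm_mk, pY_mk, pY_mk]
      show L (w (σ.1 (((u, (1 : S)) : S × S) • x)) * (w (σ.1 x))⁻¹) = _
      rw [huv]
  rw [Finset.prod_congr rfl (fun y _ => h1 y)]
  exact Equiv.prod_comp (barPerm σ) (fun y => pY L w hw v y)

/-- independence of the retraction -/
theorem PT_indep [N.Normal] (hL : IsInvOn N L) {w' : X → S}
    (hw : ∀ (t : S) (x : X), w (((1 : S), t) • x) = w x * t⁻¹)
    (hw' : ∀ (t : S) (x : X), w' (((1 : S), t) • x) = w' x * t⁻¹) (u : S)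
    (hp : ∀ x : X, w (((u, (1 : S)) : S × S) • x) * (w x)⁻¹ ∈ N)
    (hζ : ∀ x : X, (w' (((u, (1 : S)) : S × S) • x) * (w (((u, (1 : S)) : S × S) • x))⁻¹) *
      (w' x * (w x)⁻¹)⁻¹ ∈ N) :
    PT L w' hw' u = PT L w hw u := by
  let c : S → S := fun s => ((s : S ⧸ N)).out
  have hc : ∀ s, s * (c s)⁻¹ ∈ N := by
    intro s
    rw [← QuotientGroup.eq_one_iff, QuotientGroup.mk_mul, QuotientGroup.mk_inv,
      QuotientGroup.out_eq', mul_inv_cancel]
  have hζr : ∀ (t : S) (x : X),
      w' (((1 : S), t) • x) * (w (((1 : S), t) • x))⁻¹ = w' x * (w x)⁻¹ := by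
    intro t x
    rw [hw, hw']
    group
  let g : Ybar S X → A := Quotient.lift (s := rightRel S X)
    (fun x => L (w' x * (w x)⁻¹ * (c (w' x * (w x)⁻¹))⁻¹)) (by
      rintro x y ⟨t, rfl⟩
      show L _ = L _
      rw [hζr])
  have h1 : ∀ y : Ybar S X, pY L w' hw' u y =
      (g (barPerm (iotaX S X u) y) * (g y)⁻¹) * pY L w hw u y := by
    intro y
    induction y using Quotient.inductionOn with
    | h x =>
      rw [barPerm_mk, pY_mk, pY_mk, iotaX_apply]
      show _ = L (w' (((u, (1 : S)) : S × S) • x) * (w (((u, (1 : S)) : S × S) • x))⁻¹ *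
          (c (w' (((u, (1 : S)) : S × S) • x) * (w (((u, (1 : S)) : S × S) • x))⁻¹))⁻¹) *
        (L (w' x * (w x)⁻¹ * (c (w' x * (w x)⁻¹))⁻¹))⁻¹ * _
      have hceq : c (w' (((u, (1 : S)) : S × S) • x) * (w (((u, (1 : S)) : S × S) • x))⁻¹) =
          c (w' x * (w x)⁻¹) := by
        show ((_ : S ⧸ N)).out = ((_ : S ⧸ N)).out
        congr 1
        have := (QuotientGroup.eq_one_iff _).mpr (hζ x)
        rw [QuotientGroup.mk_mul, QuotientGroup.mk_inv, mul_inv_eq_one] at this
        exact this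
      rw [hceq]
      have ha := hc (w' x * (w x)⁻¹)
      have hb : w' (((u, (1 : S)) : S × S) • x) * (w (((u, (1 : S)) : S × S) • x))⁻¹ *
          (c (w' x * (w x)⁻¹))⁻¹ ∈ N := by
        have := N.mul_mem (hζ x) ha
        have e : w' (((u, (1 : S)) : S × S) • x) * (w (((u, (1 : S)) : S × S) • x))⁻¹ *
            (w' x * (w x)⁻¹)⁻¹ * (w' x * (w x)⁻¹ * (c (w' x * (w x)⁻¹))⁻¹) =
            w' (((u, (1 : S)) : S × S) • x) * (w (((u, (1 : S)) : S × S) • x))⁻¹ *
            (c (w' x * (w x)⁻¹))⁻¹ := by group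
        rwa [e] at this
      have hconj : (w' x * (w x)⁻¹) * (w (((u, (1 : S)) : S × S) • x) * (w x)⁻¹) *
          (w' x * (w x)⁻¹)⁻¹ ∈ N := ‹N.Normal›.conj_mem _ (hp x) _
      have e2 : w' (((u, (1 : S)) : S × S) • x) * (w' x)⁻¹ =
          (w' (((u, (1 : S)) : S × S) • x) * (w (((u, (1 : S)) : S × S) • x))⁻¹ *
            (c (w' x * (w x)⁻¹))⁻¹) * (w' x * (w x)⁻¹ * (c (w' x * (w x)⁻¹))⁻¹)⁻¹ *
          ((w' x * (w x)⁻¹) * (w (((u, (1 : S)) : S × S) • x) * (w x)⁻¹) *
            (w' x * (w x)⁻¹)⁻¹) := by group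
      rw [e2, hL.mul _ (N.mul_mem hb (N.inv_mem ha)) _ hconj, hL.mul _ hb _ (N.inv_mem ha),
        hL.inv ha, hL.conj _ _ (hp x)]
  unfold PT
  rw [Finset.prod_congr rfl (fun y _ => h1 y), Finset.prod_mul_distrib, Finset.prod_mul_distrib,
    Finset.prod_inv_distrib, Equiv.prod_comp (barPerm (iotaX S X u)) g, mul_inv_cancel, one_mul]

end Transfer

end Cfsg.Agent.Lib.Helper26.Tate
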