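import Cfsg.Agent.Lib.Helper26.TateA
import Cfsg.Agent.Lib.Helper26.PPIe
import Cfsg.Agent.S5124

set_option autoImplicit false

namespace Cfsg.Agent.Lib.Helper26.Tate

open Cfsg Cfsg.FusionSystem MulAction
open Cfsg.Agent.Lib.Helper26 Cfsg.Agent.Lib.Helper26.PPI
open Cfsg.Agent.Lib.helper17.ParkGraph (graphOf IsFGraph mem_graphOf alpha1 alpha2 alpha1_apply
  alpha2_apply)
open Cfsg.Agent.Lib.helper17.CB11 Cfsg.Agent.Lib.helper17.CB12 Cfsg.Agent.Lib.helper17.CB14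

universe u v w

variable {Ω : Type u} [Group Ω] {S : Subgroup Ω}

/-- the subsystem of maps of `F` that agree with a conjugation by an element of `S` modulo `N` -/
def innerSystem (F : FusionSystem S) (N : Subgroup Ω)
    (hnorm : S ≤ Subgroup.normalizer (N : Set Ω)) : FusionSystem S where
  Hom P := {φ | φ ∈ F.Hom P ∧ ∃ s ∈ S, ∀ x : P, (s * (x : Ω) * s⁻¹)⁻¹ * φ x ∈ N}
  le_of_mem h := F.le_of_mem h.1
  injective_of_mem h := F.injective_of_mem h.1
  conj_mem := by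
    intro P g hP hg
    refine ⟨F.conj_mem hP hg, g, hg, fun x => ?_⟩
    rw [conjHom_apply, inv_mul_cancel]
    exact N.one_mem
  comp_mem := by
    rintro P Q φ ψ ⟨hφ, s, hs, hsn⟩ ⟨hψ, t, ht, htn⟩ h
    refine ⟨F.comp_mem hφ hψ h, t * s, S.mul_mem ht hs, fun x => ?_⟩
    have e : (t * s * (x : Ω) * (t * s)⁻¹)⁻¹ * (ψ.comp (φ.codRestrict Q h)) x =
        (t * ((s * (x : Ω) * s⁻¹)⁻¹ * φ x)⁻¹ * t⁻¹)⁻¹⁻¹⁻¹ * ((t * φ x * t⁻¹)⁻¹ * ψ ⟨φ x, h x⟩) := by
      show (t * s * (x : Ω) * (t * s)⁻¹)⁻¹ * ψ ⟨φ x, h x⟩ = _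
      group
    rw [e, inv_inv]
    exact N.mul_mem (N.inv_mem (conj_mem_of_le_normalizer hnorm ht (N.inv_mem (hsn x))))
      (htn ⟨φ x, h x⟩)
  inv_mem := by
    rintro P φ ⟨hφ, s, hs, hsn⟩
    obtain ⟨ψ, hψ, hinv⟩ := F.inv_mem hφ
    refine ⟨ψ, ⟨hψ, s⁻¹, S.inv_mem hs, ?_⟩, hinv⟩
    rintro ⟨_, ⟨x, rfl⟩⟩
    rw [hinv x]
    have e : (s⁻¹ * φ x * s⁻¹⁻¹)⁻¹ * (x : Ω) =
        s⁻¹ * ((s * (x : Ω) * s⁻¹)⁻¹ * φ x)⁻¹ * s⁻¹⁻¹ := by group
    show (s⁻¹ * φ x * s⁻¹⁻¹)⁻¹ * (x : Ω) ∈ N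
    rw [e]
    exact conj_mem_of_le_normalizer hnorm (S.inv_mem hs) (N.inv_mem (hsn x))

theorem autGroup_le_innerSystem [Finite S] {p : ℕ} [Fact p.Prime] (F : FusionSystem S)
    (N : Subgroup Ω) (hnorm : S ≤ Subgroup.normalizer (N : Set Ω))
    (hN : F.hyperfocalSubgroup p ≤ N) {P : Subgroup Ω} (hPa : F.IsFullyAutomized p P) :
    F.autGroup P ≤ (innerSystem F N hnorm).autGroup P := by
  have hPS : P ≤ S := hPa.1
  have hfinP : Finite P := finite_of_le hPS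
  obtain ⟨R, hR⟩ := hPa.2
  intro α hα
  obtain ⟨γ, hγ, β, hβ, hαeq⟩ :=
    Helper13.exists_mul_of_sylow_pResidual (R : Subgroup (F.autGroup P)) R.not_dvd_index ⟨α, hα⟩
  rw [hR, Subgroup.mem_subgroupOf] at hγ
  obtain ⟨s, hs, hsγ⟩ := mem_autInducedBy_iff.mp hγ
  rw [mem_autGroup_iff _ hPS]
  refine ⟨(mem_autGroup_iff F hPS).mp hα, s, hs, fun x => ?_⟩
  have h1 : α = (γ : MulAut P) * (β : MulAut P) := by
    have := congrArg Subtype.val hαeq
    exact this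
  have h2 : (P.subtype.comp α.toMonoidHom) x = s * (((β : MulAut P) x : P) : Ω) * s⁻¹ := by
    show ((α x : P) : Ω) = _
    rw [h1, MulAut.mul_apply, hsγ]
  rw [h2]
  have e : (s * (x : Ω) * s⁻¹)⁻¹ * (s * (((β : MulAut P) x : P) : Ω) * s⁻¹) =
      s * ((x : Ω)⁻¹ * (((β : MulAut P) x : P) : Ω)) * s⁻¹ := by group
  rw [e]
  exact conj_mem_of_le_normalizer hnorm hs (hN (gen_mem_hyperfocal F p hPS β hβ x))

theorem le_innerSystem [Finite S] {p : ℕ} [Fact p.Prime] (hS : IsPGroup p S) (F : FusionSystem S)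
    (hF : F.IsSaturated p) (N : Subgroup Ω) (hnorm : S ≤ Subgroup.normalizer (N : Set Ω))
    (hN : F.hyperfocalSubgroup p ≤ N) : F ≤ innerSystem F N hnorm := by
  refine Cfsg.Agent.S5082.result p hS F hF _ ?_
  intro P hP
  apply autGroup_le_innerSystem F N hnorm hN
  rcases hP with rfl | hess
  · exact (saturated_fullyNormalized hS F hF (top_fullyNormalized F)).2.1
  · exact (saturated_fullyNormalized hS F hF hess.2.1).2.1

section Ext

variable {A : Type w} [CommGroup A]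

/-- **Extension of invariant maps from the hyperfocal subgroup.** A map on `S` that is
multiplicative on the hyperfocal subgroup and constant there on the classes of `S` agrees, up to
a power prime to `p` and on the hyperfocal subgroup, with a homomorphism defined on `S`. -/
theorem exists_extension [Finite S] {p : ℕ} [Fact p.Prime] (hS : IsPGroup p S)
    (F : FusionSystem S) (hF : F.IsSaturated p) (L : S → A)
    (hL : IsInvOn ((F.hyperfocalSubgroup p).subgroupOf S) L) :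
    ∃ (μ : S →* A) (m : ℕ), ¬ p ∣ m ∧
      ∀ a : S, (a : Ω) ∈ F.hyperfocalSubgroup p → μ a = ((L a)⁻¹) ^ m := by
  classical
  obtain ⟨X, hfin, hact, hXg, hst, m, hcard, hm⟩ := exists_char_biset hS F hF
  have hX : HasFGraphStab F X := hXg
  obtain ⟨r, hr⟩ := exists_retraction (X := X) (⊥ : Subgroup S) (by
    intro x c t hc hfix
    rw [Subgroup.mem_bot] at hc
    subst hc
    obtain ⟨R, θ, hθ, hstx⟩ := exists_stab_graph hX x
    obtain ⟨h1, h2⟩ := (hstx _).mp hfix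
    apply Subtype.ext
    rw [← h2]
    have h3 : (⟨(((1 : S), t) : S × S).1, h1⟩ : R) = 1 := Subtype.ext rfl
    rw [h3, map_one]
    rfl)
  have hr1 : ∀ (t : S) (x : X), r (((1 : S), t) • x) = r x * t⁻¹ := by
    intro t x
    rw [hr 1 (Subgroup.one_mem _) t x, one_mul]
  haveI : Fintype (Ybar S X) := Fintype.ofFinite _
  have hcard2 := card_eq_of_retraction r hr1
  have hm' : Nat.card (Ybar S X) = m := by
    rw [hcard, mul_comm] at hcard2
    exact (Nat.eq_of_mul_eq_mul_right Nat.card_pos hcard2).symm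
  have hnorm := le_normalizer_hyperfocal F p
  set N' : Subgroup S := (F.hyperfocalSubgroup p).subgroupOf S with hN'
  haveI hNn : N'.Normal := Subgroup.normal_subgroupOf_of_le_normalizer hnorm
  have hfix : ∀ x : X, ∃ q : S ⧸ N', ∀ a b : S, ((a, b) : S × S) • x = x →
      (a : S ⧸ N') * q * ((b : S ⧸ N'))⁻¹ = q := by
    intro x
    obtain ⟨R, θ, hθ, hstx⟩ := exists_stab_graph hX x
    obtain ⟨-, γ, hγS, hγ⟩ := le_innerSystem hS F hF _ hnorm le_rfl R hθ
    refine ⟨(((⟨γ, hγS⟩ : S)⁻¹ : S) : S ⧸ N'), fun a b hab => ?_⟩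
    obtain ⟨h1, h2⟩ := (hstx (a, b)).mp hab
    rw [← QuotientGroup.mk_inv, ← QuotientGroup.mk_mul, ← QuotientGroup.mk_mul,
      QuotientGroup.eq, hN', Subgroup.mem_subgroupOf]
    have h3 := hγ ⟨a, h1⟩
    rw [h2] at h3
    have h4 := conj_mem_of_le_normalizer hnorm b.2 h3
    have e : (((a * (⟨γ, hγS⟩ : S)⁻¹ * b⁻¹)⁻¹ * (⟨γ, hγS⟩ : S)⁻¹ : S) : Ω) =
        (b : Ω) * ((γ * (a : Ω) * γ⁻¹)⁻¹ * (b : Ω)) * (b : Ω)⁻¹ := by
      simp only [Subgroup.coe_mul, Subgroup.coe_inv]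
      group
    rw [e]
    exact h4
  obtain ⟨w, hw1, hw2⟩ := exists_lift_retraction N' hfix r hr1
  have hw : IsDegRet N' w := ⟨hw1, hw2⟩
  have hp : ∀ (u : S), u ∈ N' → ∀ z : X, w (((u, (1 : S)) : S × S) • z) * (w z)⁻¹ ∈ N' := by
    intro u hu z
    have := N'.mul_mem (hw2 u z) hu
    rwa [inv_mul_cancel_right] at this
  have hPT : ∀ u : S, u ∈ N' →
      PT L w hw1 u = muHom hL hw u * (L u) ^ Fintype.card (Ybar S X) := by
    intro u hu
    rw [muHom_apply, muT_of_mem hL hw hu, mul_assoc, ← mul_pow, inv_mul_cancel, one_pow, mul_one]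
  let K : Subgroup S :=
    { carrier := {a | a ∈ N' ∧ PT L w hw1 a = 1}
      one_mem' := by
        refine ⟨N'.one_mem, ?_⟩
        rw [hPT 1 N'.one_mem, map_one, hL.one, one_pow, one_mul]
      mul_mem' := by
        rintro a b ⟨ha, ha1⟩ ⟨hb, hb1⟩
        refine ⟨N'.mul_mem ha hb, ?_⟩
        rw [hPT _ (N'.mul_mem ha hb), map_mul, hL.mul a ha b hb, mul_pow, mul_mul_mul_comm,
          ← hPT a ha, ← hPT b hb, ha1, hb1, one_mul]
      inv_mem' := by
        rintro a ⟨ha, ha1⟩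
        refine ⟨N'.inv_mem ha, ?_⟩
        rw [hPT _ (N'.inv_mem ha), map_inv, hL.inv ha, inv_pow, ← mul_inv, ← hPT a ha, ha1,
          inv_one] }
  obtain ⟨E, hEs, hEi⟩ := exists_pPowerIndex (p := p) (Nat.card S) S rfl hS F hF
    (F.hyperfocalSubgroup p) (hyperfocal_le F p) le_rfl
  have hypeq : E.hyperfocalSubgroup p = F.hyperfocalSubgroup p :=
    Cfsg.Agent.Lib.Helper27.ResLimit.hyp_eq_of_pPowerIndex hS E F
      (Cfsg.Agent.S5124.result p hS F hF) hEi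
  have hK : E.hyperfocalSubgroup p ≤ K.map S.subtype := by
    refine (Subgroup.closure_le _).mpr ?_
    rintro _ ⟨P, α, x, hPT', -, rfl⟩
    have hP : P ≤ S := hPT'.trans (hyperfocal_le F p)
    have hθE : P.subtype.comp (α : MulAut P).toMonoidHom ∈ E.Hom P :=
      (mem_autGroup_iff E hPT').mp α.2
    have hθ : P.subtype.comp (α : MulAut P).toMonoidHom ∈ F.Hom P := hEi.1 P hθE
    have hθS : ∀ z : P, (P.subtype.comp (α : MulAut P).toMonoidHom) z ∈ S :=
      fun z => apply_mem F hθ z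
    obtain ⟨e, he⟩ := exists_twisted_equiv F hXg hst hP _ hθ hθS
    have heG : e ∈ GX S X := by
      intro t z
      have := he ((1 : P), t) z
      have h1 : alpha1 hP ((1 : P), t) = ((1 : S), t) := by
        rw [alpha1_apply]; apply Prod.ext <;> simp
      have h2 : alpha2 (P.subtype.comp (α : MulAut P).toMonoidHom) hθS ((1 : P), t) =
          ((1 : S), t) := by
        rw [alpha2_apply]; apply Prod.ext <;> simp
      rw [h1, h2] at this
      exact this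
    have hu : (⟨x, hP x.2⟩ : S) ∈ N' := Subgroup.mem_subgroupOf.mpr (hPT' x.2)
    have hv : (⟨(P.subtype.comp (α : MulAut P).toMonoidHom) x, hθS x⟩ : S) ∈ N' :=
      Subgroup.mem_subgroupOf.mpr (hPT' ((α : MulAut P) x).2)
    have huv : ∀ z : X, e (((⟨x, hP x.2⟩, (1 : S)) : S × S) • z) =
        ((⟨(P.subtype.comp (α : MulAut P).toMonoidHom) x, hθS x⟩, (1 : S)) : S × S) • e z := by
      intro z
      have := he (x, (1 : S)) z
      rw [alpha1_apply, alpha2_apply] at this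
      exact this
    have hw' : ∀ (t : S) (z : X), w (e (((1 : S), t) • z)) = w (e z) * t⁻¹ := by
      intro t z
      rw [heG t z, hw1]
    have ht := PT_twist (L := L) hw1 ⟨e, heG⟩ hw' _ _ huv
    have hi := PT_indep (w' := fun z => w (e z)) hL hw1 hw' ⟨x, hP x.2⟩ (hp _ hu) (by
      intro z
      show (w (e (((⟨x, hP x.2⟩, (1 : S)) : S × S) • z)) *
        (w (((⟨x, hP x.2⟩, (1 : S)) : S × S) • z))⁻¹) * (w (e z) * (w z)⁻¹)⁻¹ ∈ N'
      rw [huv]
      have h1 := hp _ hv (e z)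
      have h2 := hNn.conj_mem _ (N'.inv_mem (hp _ hu z)) (w (e z) * (w z)⁻¹)
      have := N'.mul_mem h1 h2
      have e3 : w (((⟨(P.subtype.comp (α : MulAut P).toMonoidHom) x, hθS x⟩, (1 : S)) : S × S) •
            e z) * (w (e z))⁻¹ *
          (w (e z) * (w z)⁻¹ * (w (((⟨x, hP x.2⟩, (1 : S)) : S × S) • z) * (w z)⁻¹)⁻¹ *
            (w (e z) * (w z)⁻¹)⁻¹) =
          w (((⟨(P.subtype.comp (α : MulAut P).toMonoidHom) x, hθS x⟩, (1 : S)) : S × S) • e z) *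
            (w (((⟨x, hP x.2⟩, (1 : S)) : S × S) • z))⁻¹ * (w (e z) * (w z)⁻¹)⁻¹ := by
        group
      rwa [e3] at this)
    have hPuv : PT L w hw1 ⟨x, hP x.2⟩ =
        PT L w hw1 ⟨(P.subtype.comp (α : MulAut P).toMonoidHom) x, hθS x⟩ := by
      rw [← hi]
      exact ht
    refine ⟨(⟨x, hP x.2⟩ : S)⁻¹ * ⟨(P.subtype.comp (α : MulAut P).toMonoidHom) x, hθS x⟩, ?_, rfl⟩
    refine ⟨N'.mul_mem (N'.inv_mem hu) hv, ?_⟩
    rw [hPT _ (N'.mul_mem (N'.inv_mem hu) hv), map_mul, map_inv, hL.mul _ (N'.inv_mem hu) _ hv,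
      hL.inv hu, mul_pow, inv_pow, mul_mul_mul_comm, ← mul_inv, ← hPT _ hu, ← hPT _ hv, hPuv,
      inv_mul_cancel]
  refine ⟨muHom hL hw, m, hm, fun a ha => ?_⟩
  have haN : a ∈ N' := Subgroup.mem_subgroupOf.mpr ha
  have h1 : (a : Ω) ∈ K.map S.subtype := hK (by rw [hypeq]; exact ha)
  obtain ⟨k, hk, hka⟩ := h1
  have hka' : k = a := Subtype.ext hka
  rw [hka'] at hk
  rw [muHom_apply, muT_of_mem hL hw haN, hk.2, one_mul, ← Nat.card_eq_fintype_card, hm']

end Ext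

end Cfsg.Agent.Lib.Helper26.Tate
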