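import Cfsg.Agent.Lib.Helper26.TateB
import Cfsg.Agent.Lib.Helper1.Nilp

set_option autoImplicit false

namespace Cfsg.Agent.Lib.Helper26.Tate

open Cfsg Cfsg.FusionSystem
open Cfsg.Agent.Lib.Helper26 Cfsg.Agent.Lib.Helper26.PPI

universe u

section GroupPart

variable {G : Type*} [Group G]

/-- between two normal subgroups `Y < X` of a finite `p`-group there is a normal subgroup `M` of
index `p` in `X` containing `Y` and all commutators of `X` with the group -/
theorem exists_central_index_p [Finite G] {p : ℕ} [Fact p.Prime] (hG : IsPGroup p G)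
    (X : Subgroup G) [hXn : X.Normal] : ∀ Y : Subgroup G, Y.Normal → Y < X →
    ∃ M : Subgroup G, M.Normal ∧ Y ≤ M ∧ M ≤ X ∧ (M.subgroupOf X).index = p ∧
      ∀ x ∈ X, ∀ g : G, g * x * g⁻¹ * x⁻¹ ∈ M := by
  intro Y
  induction Y using WellFoundedGT.induction with
  | ind Y ih =>
    intro hYn hYX
    haveI := hYn
    have hsurj : Function.Surjective (QuotientGroup.mk' Y) := QuotientGroup.mk'_surjective Y
    have hXbn : (X.map (QuotientGroup.mk' Y)).Normal := hXn.map _ hsurj
    have hXbne : X.map (QuotientGroup.mk' Y) ≠ ⊥ := by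
      intro h
      rw [Subgroup.map_eq_bot_iff, QuotientGroup.ker_mk'] at h
      exact (not_le_of_gt hYX) h
    have hQ : IsPGroup p (G ⧸ Y) := hG.to_quotient Y
    haveI := hQ.isNilpotent
    have hZne := Helper1.normal_inf_center_ne_bot (X.map (QuotientGroup.mk' Y)) hXbne
    have hZp : IsPGroup p ↥(X.map (QuotientGroup.mk' Y) ⊓ Subgroup.center (G ⧸ Y)) :=
      hQ.to_subgroup _
    have hcard1 : Nat.card ↥(X.map (QuotientGroup.mk' Y) ⊓ Subgroup.center (G ⧸ Y)) ≠ 1 :=
      fun h => hZne (Subgroup.card_eq_one.mp h)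
    obtain ⟨z, hz⟩ := exists_prime_orderOf_dvd_card' p (hZp.card_eq_or_dvd.resolve_left hcard1)
    have hz' : orderOf (z : G ⧸ Y) = p := by rw [Subgroup.orderOf_coe, hz]
    have hCZ : Subgroup.zpowers (z : G ⧸ Y) ≤
        X.map (QuotientGroup.mk' Y) ⊓ Subgroup.center (G ⧸ Y) :=
      (Subgroup.zpowers_le).mpr z.2
    have hCcard : Nat.card ↥(Subgroup.zpowers (z : G ⧸ Y)) = p := by
      rw [Nat.card_zpowers, hz']
    have hCn : (Subgroup.zpowers (z : G ⧸ Y)).Normal := by
      refine ⟨fun c hc g => ?_⟩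
      have h1 : c ∈ Subgroup.center (G ⧸ Y) := (hCZ hc).2
      have h2 : g * c * g⁻¹ = c := by
        rw [Subgroup.mem_center_iff] at h1
        rw [h1 g, mul_inv_cancel_right]
      rw [h2]
      exact hc
    have hY1n : ((Subgroup.zpowers (z : G ⧸ Y)).comap (QuotientGroup.mk' Y)).Normal :=
      hCn.comap _
    have hYY1 : Y ≤ (Subgroup.zpowers (z : G ⧸ Y)).comap (QuotientGroup.mk' Y) := by
      intro y hy
      rw [Subgroup.mem_comap]
      have : QuotientGroup.mk' Y y = 1 := (QuotientGroup.eq_one_iff y).mpr hy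
      rw [this]
      exact Subgroup.one_mem _
    have hY1X : (Subgroup.zpowers (z : G ⧸ Y)).comap (QuotientGroup.mk' Y) ≤ X := by
      intro y hy
      rw [Subgroup.mem_comap] at hy
      obtain ⟨x, hx, hxy⟩ := (hCZ hy).1
      have h1 : x⁻¹ * y ∈ Y := QuotientGroup.eq.mp hxy
      have h2 := X.mul_mem hx (hYX.le h1)
      rwa [mul_inv_cancel_left] at h2
    have hne : Y ≠ (Subgroup.zpowers (z : G ⧸ Y)).comap (QuotientGroup.mk' Y) := by
      intro h
      obtain ⟨g, hg⟩ := hsurj (z : G ⧸ Y)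
      have h1 : g ∈ (Subgroup.zpowers (z : G ⧸ Y)).comap (QuotientGroup.mk' Y) := by
        rw [Subgroup.mem_comap, hg]
        exact Subgroup.mem_zpowers _
      rw [← h] at h1
      have h2 : QuotientGroup.mk' Y g = 1 := (QuotientGroup.eq_one_iff g).mpr h1
      rw [hg] at h2
      rw [h2, orderOf_one] at hz'
      exact (Fact.out : p.Prime).one_lt.ne hz'
    have hlt : Y < (Subgroup.zpowers (z : G ⧸ Y)).comap (QuotientGroup.mk' Y) :=
      lt_of_le_of_ne hYY1 hne
    by_cases hY1 : (Subgroup.zpowers (z : G ⧸ Y)).comap (QuotientGroup.mk' Y) = X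
    · refine ⟨Y, hYn, le_rfl, hYX.le, ?_, ?_⟩
      · have h1 : Y = (⊥ : Subgroup (G ⧸ Y)).comap (QuotientGroup.mk' Y) := by
          rw [MonoidHom.comap_bot, QuotientGroup.ker_mk']
        have h2 : (Y.subgroupOf X).index = Y.relIndex X := rfl
        rw [h2]
        conv_lhs => rw [h1]
        rw [Subgroup.relIndex_comap, Subgroup.relIndex_bot_left, ← hY1,
          Subgroup.map_comap_eq_self_of_surjective hsurj, hCcard]
      · intro x hx g
        rw [← hY1, Subgroup.mem_comap] at hx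
        have h1 : QuotientGroup.mk' Y x ∈ Subgroup.center (G ⧸ Y) := (hCZ hx).2
        rw [Subgroup.mem_center_iff] at h1
        rw [← QuotientGroup.eq_one_iff]
        show QuotientGroup.mk' Y (g * x * g⁻¹ * x⁻¹) = 1
        rw [map_mul, map_mul, map_mul, map_inv, map_inv, h1, mul_inv_cancel_right,
          mul_inv_cancel]
    · obtain ⟨M, hMn, hYM, hMX, hidx, hcen⟩ := ih _ hlt hY1n (lt_of_le_of_ne hY1X hY1)
      exact ⟨M, hMn, hYY1.trans hYM, hMX, hidx, hcen⟩

/-- a homomorphism from a group into a group of prime order kills the Frattini subgroup -/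
theorem frattini_le_ker_of_prime_card {A : Type*} [Group A] {p : ℕ} [Fact p.Prime]
    (hA : Nat.card A = p) (μ : G →* A) : frattini G ≤ μ.ker := by
  by_cases htop : μ.ker = ⊤
  · rw [htop]
    exact le_top
  · apply frattini_le_coatom
    refine ⟨htop, fun H hH => ?_⟩
    obtain ⟨h, hhH, hhk⟩ := SetLike.exists_of_lt hH
    have hne : μ h ≠ 1 := fun h1 => hhk (MonoidHom.mem_ker.mpr h1)
    rw [eq_top_iff]
    intro s _
    obtain ⟨k, hk⟩ := Subgroup.mem_zpowers_iff.mp (mem_zpowers_of_prime_card hA hne (g' := μ s))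
    have h1 : s * (h ^ k)⁻¹ ∈ μ.ker := by
      rw [MonoidHom.mem_ker, map_mul, map_inv, map_zpow, hk, mul_inv_cancel]
    have h2 := H.mul_mem (hH.le h1) (H.zpow_mem hhH k)
    rwa [inv_mul_cancel_right] at h2

end GroupPart

section Main

variable {Ω : Type u} [Group Ω] {S : Subgroup Ω}

/-- **Main lemma.** The hyperfocal subgroup of a saturated fusion system equals every subgroup
normalized by `S` that it contains and that generates it together with the Frattini subgroup. -/
theorem hyp_eq_of_le_frattini_sup [Finite S] {p : ℕ} [Fact p.Prime] (hS : IsPGroup p S)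
    (F : FusionSystem S) (hF : F.IsSaturated p) (Y : Subgroup Ω)
    (hYn : S ≤ Subgroup.normalizer (Y : Set Ω)) (hYX : Y ≤ F.hyperfocalSubgroup p)
    (hle : F.hyperfocalSubgroup p ≤ (frattini ↥S).map S.subtype ⊔ Y) :
    F.hyperfocalSubgroup p = Y := by
  classical
  by_contra hne
  have hXS := hyperfocal_le F p
  have hYS : Y ≤ S := hYX.trans hXS
  haveI hXn : ((F.hyperfocalSubgroup p).subgroupOf S).Normal :=
    Subgroup.normal_subgroupOf_of_le_normalizer (le_normalizer_hyperfocal F p)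
  have hY'n : (Y.subgroupOf S).Normal := Subgroup.normal_subgroupOf_of_le_normalizer hYn
  have hlt : Y.subgroupOf S < (F.hyperfocalSubgroup p).subgroupOf S := by
    refine lt_of_le_of_ne (fun a ha => hYX ha) (fun h => hne ?_)
    refine le_antisymm (fun ω hω => ?_) hYX
    have h1 : (⟨ω, hXS hω⟩ : S) ∈ (F.hyperfocalSubgroup p).subgroupOf S :=
      Subgroup.mem_subgroupOf.mpr hω
    rw [← h] at h1
    exact Subgroup.mem_subgroupOf.mp h1
  obtain ⟨M, hMn, hYM, hMX, hidx, hcen⟩ :=
    exists_central_index_p hS ((F.hyperfocalSubgroup p).subgroupOf S) _ hY'n hlt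
  haveI hMn' : (M.subgroupOf ((F.hyperfocalSubgroup p).subgroupOf S)).Normal := hMn.subgroupOf _
  have hAcard : Nat.card (↥((F.hyperfocalSubgroup p).subgroupOf S) ⧸
      M.subgroupOf ((F.hyperfocalSubgroup p).subgroupOf S)) = p := hidx
  haveI : IsCyclic (↥((F.hyperfocalSubgroup p).subgroupOf S) ⧸
      M.subgroupOf ((F.hyperfocalSubgroup p).subgroupOf S)) := isCyclic_of_prime_card hAcard
  letI : CommGroup (↥((F.hyperfocalSubgroup p).subgroupOf S) ⧸
      M.subgroupOf ((F.hyperfocalSubgroup p).subgroupOf S)) := IsCyclic.commGroup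
  let L : S → (↥((F.hyperfocalSubgroup p).subgroupOf S) ⧸
      M.subgroupOf ((F.hyperfocalSubgroup p).subgroupOf S)) := fun s =>
    if h : s ∈ (F.hyperfocalSubgroup p).subgroupOf S then QuotientGroup.mk ⟨s, h⟩ else 1
  have hLdef : ∀ (s : S) (h : s ∈ (F.hyperfocalSubgroup p).subgroupOf S),
      L s = QuotientGroup.mk ⟨s, h⟩ := fun s h => dif_pos h
  have hL : IsInvOn ((F.hyperfocalSubgroup p).subgroupOf S) L := by
    refine ⟨fun a ha b hb => ?_, fun s a ha => ?_⟩
    · rw [hLdef _ (Subgroup.mul_mem _ ha hb), hLdef a ha, hLdef b hb, ← QuotientGroup.mk_mul]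
      rfl
    · have hc : s * a * s⁻¹ ∈ (F.hyperfocalSubgroup p).subgroupOf S := hXn.conj_mem a ha s
      rw [hLdef _ hc, hLdef a ha, QuotientGroup.eq_iff_div_mem, Subgroup.mem_subgroupOf]
      have := hcen a ha s
      simpa [div_eq_mul_inv] using this
  obtain ⟨μ, m, hm, hμ⟩ := exists_extension hS F hF L hL
  have hμΦ := frattini_le_ker_of_prime_card hAcard μ
  have hker : (frattini ↥S).map S.subtype ⊔ Y ≤ μ.ker.map S.subtype := by
    refine sup_le (Subgroup.map_mono hμΦ) (fun y hy => ?_)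
    refine ⟨⟨y, hYS hy⟩, ?_, rfl⟩
    have hyY : (⟨y, hYS hy⟩ : S) ∈ Y.subgroupOf S := Subgroup.mem_subgroupOf.mpr hy
    have hyX : (⟨y, hYS hy⟩ : S) ∈ (F.hyperfocalSubgroup p).subgroupOf S := hlt.le hyY
    show (⟨y, hYS hy⟩ : S) ∈ μ.ker
    rw [MonoidHom.mem_ker, hμ _ (hYX hy), hLdef _ hyX]
    have h1 : (QuotientGroup.mk (⟨⟨y, hYS hy⟩, hyX⟩ : ↥((F.hyperfocalSubgroup p).subgroupOf S)) :
        ↥((F.hyperfocalSubgroup p).subgroupOf S) ⧸
          M.subgroupOf ((F.hyperfocalSubgroup p).subgroupOf S)) = 1 := by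
      rw [QuotientGroup.eq_one_iff, Subgroup.mem_subgroupOf]
      exact hYM hyY
    rw [h1, inv_one, one_pow]
  have hall : ∀ a : S, a ∈ (F.hyperfocalSubgroup p).subgroupOf S → a ∈ M := by
    intro a ha
    have ha' : (a : Ω) ∈ F.hyperfocalSubgroup p := Subgroup.mem_subgroupOf.mp ha
    obtain ⟨k, hk, hka⟩ := hker (hle ha')
    have hka' : k = a := Subtype.ext hka
    rw [hka'] at hk
    have h1 : μ a = 1 := MonoidHom.mem_ker.mp hk
    rw [hμ a ha', inv_pow, inv_eq_one] at h1
    have h2 : (L a) ^ p = 1 := by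
      have h4 := pow_card_eq_one' (x := L a)
      rwa [hAcard] at h4
    have h3 := eq_one_of_pow_eq_one h2 hm h1
    rw [hLdef a ha, QuotientGroup.eq_one_iff, Subgroup.mem_subgroupOf] at h3
    exact h3
  have htop : M.subgroupOf ((F.hyperfocalSubgroup p).subgroupOf S) = ⊤ := by
    rw [eq_top_iff]
    intro a _
    exact Subgroup.mem_subgroupOf.mpr (hall a a.2)
  rw [htop, Subgroup.index_top] at hidx
  exact (Fact.out : p.Prime).one_lt.ne hidx

/-- **Tate's theorem for fusion systems**, the key implication -/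
theorem hyp_eq_of_frattini_focal_eq [Finite S] {p : ℕ} [Fact p.Prime] (hS : IsPGroup p S)
    (F : FusionSystem S) (hF : F.IsSaturated p) (H : FusionSystem S) (hH : H.IsSaturated p)
    (hHF : H.IsSubsystemOf F)
    (h : (frattini ↥S).map S.subtype ⊔ F.focalSubgroup =
      (frattini ↥S).map S.subtype ⊔ H.focalSubgroup) :
    F.hyperfocalSubgroup p = H.hyperfocalSubgroup p := by
  have hC : ⁅(S : Subgroup Ω), (S : Subgroup Ω)⁆ ≤ (frattini ↥S).map S.subtype := by
    rw [← Subgroup.map_subtype_commutator]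
    exact Subgroup.map_mono (Helper1.pgroup_commutator_le_frattini hS)
  apply hyp_eq_of_le_frattini_sup hS F hF _ (le_normalizer_hyperfocal H p)
    (Cfsg.Agent.Lib.Helper27.ResLimit.hyp_le_of_subsystem p H F hHF)
  have h1 : F.hyperfocalSubgroup p ≤ (frattini ↥S).map S.subtype ⊔ F.focalSubgroup := by
    rw [Cfsg.Agent.S5092.result p hS F hF]
    exact le_sup_left.trans le_sup_right
  refine h1.trans ?_
  rw [h, Cfsg.Agent.S5092.result p hS H hH]
  exact sup_le le_sup_left (sup_le le_sup_right (hC.trans le_sup_left))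

end Main

end Cfsg.Agent.Lib.Helper26.Tate
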