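import Cfsg.Agent.Lib.Helper26.TateC
import Cfsg.Agent.S5256
import Cfsg.Agent.Lib.Helper27.FusFactorSat
import Cfsg.Agent.Lib.Helper27.GTBasic
import Cfsg.Agent.Lib.helper17.NQ3
import Cfsg.Agent.Lib.Helper26.FusionSeries3

set_option autoImplicit false

namespace Cfsg.Agent.Lib.Helper26.Tate

open Cfsg Cfsg.FusionSystem
open Cfsg.Agent.Lib.Helper26 Cfsg.Agent.Lib.Helper27
open scoped commutatorElement

universe u

variable {Ω : Type u} [Group Ω] {S : Subgroup Ω}

/-- a saturated fusion system with trivial hyperfocal subgroup is inner -/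
theorem inner_of_hyp_eq_bot [Finite S] {p : ℕ} [Fact p.Prime] (hS : IsPGroup p S)
    (F : FusionSystem S) (hF : F.IsSaturated p) (h : F.hyperfocalSubgroup p = ⊥) :
    ∀ P : Subgroup Ω, F.Hom P = (innerFusionSystem S).Hom P := by
  apply GT.inner_of_forall_isPGroup hS F hF
  intro U hU
  apply GT.isPGroup_autGroup_of_no_paut (F := F) _ hU
  rintro V β hV ⟨hβ, hne, hcop⟩
  apply hne
  ext x
  have hcop' : Nat.Coprime (orderOf (⟨β, hβ⟩ : F.autGroup V)) p := by
    rw [Subgroup.orderOf_mk]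
    exact hcop
  have h1 := gen_mem_hyperfocal F p hV ⟨β, hβ⟩ (Helper13.mem_pResidual_of_coprime hcop') x
  rw [h, Subgroup.mem_bot] at h1
  have h2 : ((β x : V) : Ω) = (x : Ω) := by
    have := congrArg (fun z => (x : Ω) * z) h1
    simpa using this
  exact h2

/-- if the normalizer system of `S` is inner and the Frattini subgroup is strongly closed, the
system is inner -/
theorem inner_of_frattini_stronglyClosed [Finite S] {p : ℕ} [Fact p.Prime] (hS : IsPGroup p S)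
    (F : FusionSystem S) (hF : F.IsSaturated p)
    (hN : ∀ N : FusionSystem (normalizerIn S S), F.IsNormalizerSystem S N →
      ∀ P : Subgroup Ω, N.Hom P = (innerFusionSystem (normalizerIn S S)).Hom P)
    (hT : F.StronglyClosed ((frattini ↥S).map S.subtype)) :
    ∀ P : Subgroup Ω, F.Hom P = (innerFusionSystem S).Hom P := by
  classical
  let θ : ↥S →* ↥S ⧸ frattini ↥S := QuotientGroup.mk' (frattini ↥S)
  have hθ : ∀ s : S, θ s = (s : ↥S ⧸ frattini ↥S) := fun s => rfl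
  have hker : ∀ s : S, θ s = 1 ↔ (s : Ω) ∈ (frattini ↥S).map S.subtype := by
    intro s
    rw [hθ, QuotientGroup.eq_one_iff]
    constructor
    · intro h
      exact ⟨s, h, rfl⟩
    · rintro ⟨y, hy, hys⟩
      have : y = s := Subtype.ext hys
      exact this ▸ hy
  have hr : θ.range = (⊤ : Subgroup (↥S ⧸ frattini ↥S)) :=
    MonoidHom.range_eq_top.mpr (QuotientGroup.mk'_surjective _)
  have hE := factorSystem_isFactorSystem F hT θ hker hr
  have hS' : IsPGroup p ↥(⊤ : Subgroup (↥S ⧸ frattini ↥S)) := (hS.to_quotient _).to_subgroup ⊤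
  have hEs := factor_saturated hS hF hT hE
  have hcomm : ∀ a b : ↥S ⧸ frattini ↥S, a * b = b * a := by
    intro a b
    obtain ⟨a, rfl⟩ := QuotientGroup.mk_surjective a
    obtain ⟨b, rfl⟩ := QuotientGroup.mk_surjective b
    rw [← QuotientGroup.mk_mul, ← QuotientGroup.mk_mul, QuotientGroup.eq]
    apply Helper1.pgroup_commutator_le_frattini hS
    have e : (a * b)⁻¹ * (b * a) = ⁅b⁻¹, a⁻¹⁆ := by
      rw [commutatorElement_def]
      group
    rw [e, commutator_def]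
    exact Subgroup.commutator_mem_commutator (Subgroup.mem_top _) (Subgroup.mem_top _)
  have hEn : (factorSystem F hT θ hker hr).IsNormal ⊤ := by
    refine isNormal_of_chain hS' _ hEs ⊤ 1 ![⊥, ⊤] rfl rfl (fun i => ?_)
    have hi : i = 0 := Subsingleton.elim _ _
    subst hi
    refine ⟨⟨le_rfl, fun R hR φ hφ x => Subgroup.mem_top _⟩, ?_⟩
    show ⁅(⊤ : Subgroup (↥S ⧸ frattini ↥S)), ⊤⁆ ≤ ⊥
    rw [Subgroup.commutator_le]
    intro a _ b _
    rw [Subgroup.mem_bot, commutatorElement_def, hcomm a b]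
    group
  have hincl : ∀ (P' : Subgroup (↥S ⧸ frattini ↥S)) (φ' : P' →* ↥S ⧸ frattini ↥S),
      φ' ∈ (factorSystem F hT θ hker hr).Hom P' → ∀ y : P', φ' y = y := by
    intro P' φ' hφ' y
    obtain ⟨ψ, hψ, hψφ, -⟩ := hEn.2 P' φ' hφ'
    obtain ⟨-, φ, hφ, hP, hφS, hP'mem, hind⟩ := (hE.2.2.2 _ ψ).mp hψ
    have hR : preimageAlong θ (P' ⊔ ⊤) = S := by
      apply le_antisymm (preimageAlong_le θ _)
      intro s hs
      refine mem_preimageAlong.mpr ⟨hs, ?_⟩
      rw [sup_top_eq]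
      exact Subgroup.mem_top _
    obtain ⟨g, hg, hgx⟩ := Cfsg.Agent.Lib.helper17.NQ3.inner_of_hN F hN _ hR φ hφ
    obtain ⟨s, hs⟩ := QuotientGroup.mk_surjective (y : ↥S ⧸ frattini ↥S)
    have hsx : (s : Ω) ∈ preimageAlong θ (P' ⊔ ⊤) := by
      rw [hR]
      exact s.2
    have h1 := hind ⟨s, hsx⟩
    have h2 : (⟨θ ⟨((⟨s, hsx⟩ : ↥(preimageAlong θ (P' ⊔ ⊤))) : Ω), hP hsx⟩,
        hP'mem ⟨s, hsx⟩⟩ : ↥(P' ⊔ ⊤)) = Subgroup.inclusion le_sup_left y := by
      apply Subtype.ext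
      show θ ⟨(s : Ω), _⟩ = (y : ↥S ⧸ frattini ↥S)
      rw [← hs]
      rfl
    rw [h2, hψφ y] at h1
    rw [h1]
    have h3 : (⟨φ ⟨s, hsx⟩, hφS ⟨s, hsx⟩⟩ : S) = ⟨g, hg⟩ * s * (⟨g, hg⟩ : S)⁻¹ := by
      apply Subtype.ext
      exact hgx ⟨s, hsx⟩
    rw [h3, map_mul, map_mul, map_inv, hcomm (θ ⟨g, hg⟩) (θ s), mul_inv_cancel_right, ← hs]
    rfl
  have hhypE : (factorSystem F hT θ hker hr).hyperfocalSubgroup p = ⊥ := by
    rw [eq_bot_iff]
    refine (Subgroup.closure_le _).mpr ?_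
    rintro _ ⟨P', α, x, hP', -, rfl⟩
    have h1 := hincl P' _ ((mem_autGroup_iff _ hP').mp α.2) x
    have h2 : (((α : MulAut P') x : P') : ↥S ⧸ frattini ↥S) = x := h1
    rw [h2, inv_mul_cancel]
    exact Subgroup.one_mem _
  have h5256 := Cfsg.Agent.S5256.result p hS F hF _ hT θ _ hE
  rw [hhypE] at h5256
  have hle : F.hyperfocalSubgroup p ≤ (frattini ↥S).map S.subtype ⊔ ⊥ := by
    rw [sup_bot_eq]
    intro ω hω
    have hωS : ω ∈ S := hyperfocal_le F p hω
    have h1 : θ ⟨ω, hωS⟩ ∈ ((F.hyperfocalSubgroup p).subgroupOf S).map θ :=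
      ⟨⟨ω, hωS⟩, Subgroup.mem_subgroupOf.mpr hω, rfl⟩
    rw [← h5256, Subgroup.mem_bot] at h1
    exact (hker ⟨ω, hωS⟩).mp h1
  have hbot := hyp_eq_of_le_frattini_sup hS F hF ⊥ (by
    intro s _
    rw [Subgroup.mem_normalizer_iff]
    intro x
    simp only [Subgroup.mem_bot]
    constructor
    · intro hx
      rw [hx]
      group
    · intro hx
      have := congrArg (fun z => s⁻¹ * z * s) hx
      simpa [mul_assoc] using this) bot_le hle
  exact inner_of_hyp_eq_bot hS F hF hbot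

end Cfsg.Agent.Lib.Helper26.Tate
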