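import Mathlib
import Cfsg.Agent.Lib.Helper5.UNI.Defs
import Cfsg.Agent.S1048
import Cfsg.Agent.Lib.helper8.ChevTits1
import Cfsg.Agent.Lib.helper8.ChevBorel
import Cfsg.Agent.Lib.helper8.ChevNegAll
import Cfsg.Agent.Lib.helper8.ChevPar1

/-!
# UNI row G1B (uni_U_inf_conj), verbatim (helper26): `U ⊓ n B n⁻¹ ≤ U_J` for the longest
element `n` of `W_J`.

`U = U_J U_(J)` with `U_(J)` generated by the positive root subgroups of `Φ_J` (as `U_J` is
normalised by `P_J ⊇ U`, landed S1048); `n ∈ P_J` normalises `U_J ≤ B` and sends `U_(J)` into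
`V`; `B ⊓ V = 1`.
-/

set_option autoImplicit false

namespace Cfsg.Agent.Lib.Helper5.UNI

open Cfsg.Lie Cfsg.Lie.ChevalleyDatum Cfsg.Agent.Lib.helper8

section Chevalley

universe u

variable {F : Type u} [Field F]

/-- the element `n_w` of a word in the letters of `J` lies in `P_J` -/
theorem unig1b_nW_mem_par (D : ChevalleyDatum) (hB : H8Base.{u} D) (J : Set ℕ) (w : List ℕ)
    (hw : ∀ i ∈ w, i < D.rank ∧ i ∈ J) :
    (h8nWU D hB w : GL D.Idx F) ∈ D.parabolicSubgroup F J := by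
  induction w with
  | nil => exact Subgroup.one_mem _
  | cons i w ih =>
    rw [h8nWU_cons]
    exact Subgroup.mul_mem _
      (h8nU_mem_par D hB J i (hw i List.mem_cons_self).1 (hw i List.mem_cons_self).2)
      (ih fun j hj => hw j (List.mem_cons_of_mem _ hj))

/-- `U_J ≤ U` -/
theorem unig1b_UJ_le_U (D : ChevalleyDatum) (J : Set ℕ) :
    D.unipotentRadical F J ≤ D.posUnipotent F := by
  unfold ChevalleyDatum.unipotentRadical ChevalleyDatum.posUnipotent
  apply Subgroup.closure_mono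
  rintro g ⟨r, t, hr, -, hg⟩
  exact ⟨r, t, hr, hg⟩

/-- `U ≤ P_J` -/
theorem unig1b_U_le_par (D : ChevalleyDatum) (J : Set ℕ) :
    D.posUnipotent F ≤ D.parabolicSubgroup F J := by
  unfold ChevalleyDatum.parabolicSubgroup
  exact le_trans (h8U_le_B D) le_sup_left

/-- G1b: `U ⊓ n B n⁻¹ ≤ U_J` for the longest element `n` of `W_J` -/
theorem uni_U_inf_conj (D : ChevalleyDatum)
    (hD : D ∈ [chevG2, chevB2, chevD4, chevF4, chevE6, chevE7, chevE8]) (hB : H8Base.{u} D)
    (J : Set ℕ) (w : List ℕ) (hw : IsLongWord D J w)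
    (x : GL D.Idx F) (hx : x ∈ D.posUnipotent F)
    (hxB : (h8nWU D hB w : GL D.Idx F)⁻¹ * x * h8nWU D hB w ∈ D.borelSubgroup F) :
    x ∈ D.unipotentRadical F J := by
  have hA := h8reflAll D hD
  have hN := h8NegOK_all D hD
  obtain ⟨hnorm, -, -⟩ := Cfsg.Agent.S1048.result (F := F) D hD J
  obtain ⟨hw1, -, -, hw4, -⟩ := hw
  have hwr : ∀ i ∈ w, i < D.rank := fun i hi => (hw1 i hi).1
  set n : GL D.Idx F := h8nWU D hB w with hn
  have hnP : n ∈ D.parabolicSubgroup F J := unig1b_nW_mem_par D hB J w hw1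
  -- the subgroup generated by the positive root subgroups of `Φ_J`
  set UL : Subgroup (GL D.Idx F) := Subgroup.closure {g | ∃ (r : ℕ) (t : F), D.IsPosRoot r ∧
    D.InRootSub J r ∧ (g : Matrix D.Idx D.Idx F) = D.x F r t} with hUL
  have hUL_le_U : UL ≤ D.posUnipotent F := by
    unfold ChevalleyDatum.posUnipotent
    apply Subgroup.closure_mono
    rintro g ⟨r, t, hr, -, hg⟩
    exact ⟨r, t, hr, hg⟩
  have hUL_norm : UL ≤ Subgroup.normalizer (D.unipotentRadical F J : Set (GL D.Idx F)) :=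
    le_trans hUL_le_U (le_trans (unig1b_U_le_par D J) hnorm)
  -- `U ≤ U_J ⊔ U_(J)`
  have hU_le : D.posUnipotent F ≤ D.unipotentRadical F J ⊔ UL := by
    unfold ChevalleyDatum.posUnipotent
    rw [Subgroup.closure_le]
    rintro g ⟨r, t, hr, hg⟩
    by_cases hrJ : D.InRootSub J r
    · exact Subgroup.mem_sup_right (Subgroup.subset_closure ⟨r, t, hr, hrJ, hg⟩)
    · exact Subgroup.mem_sup_left (Subgroup.subset_closure ⟨r, t, hr, hrJ, hg⟩)
  have hmem : x ∈ ((D.unipotentRadical F J ⊔ UL : Subgroup (GL D.Idx F)) : Set (GL D.Idx F)) :=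
    hU_le hx
  rw [Subgroup.coe_mul_of_right_le_normalizer_left _ _ hUL_norm] at hmem
  obtain ⟨y, hy, z, hz, rfl⟩ := hmem
  -- `n⁻¹ y n ∈ U_J ≤ B`
  have hyB : n⁻¹ * y * n ∈ D.borelSubgroup F := by
    have h1 : n⁻¹ ∈ Subgroup.normalizer (D.unipotentRadical F J : Set (GL D.Idx F)) :=
      Subgroup.inv_mem _ (hnorm hnP)
    have h2 := (Subgroup.mem_normalizer_iff.mp h1 y).mp hy
    rw [inv_inv] at h2
    exact h8U_le_B D (unig1b_UJ_le_U D J h2)
  -- `n⁻¹ z n ∈ V`
  have hzV : n⁻¹ * z * n ∈ D.negUnipotent F := by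
    have key : ∀ g ∈ UL, n⁻¹ * g * n ∈ D.negUnipotent F := by
      intro g hg
      induction hg using Subgroup.closure_induction with
      | mem g hg =>
        obtain ⟨r, t, hr, hrJ, hg⟩ := hg
        have hg' : g = h8xU D hB r t := Units.ext (by rw [hg, h8xU_val])
        obtain ⟨c, -, hc, -⟩ := h8actN_word_inv (F := F) D hB hA w hwr r hr.1
        have h3 := hc t
        rw [inv_inv] at h3
        rw [hg', h3]
        unfold ChevalleyDatum.negUnipotent
        exact Subgroup.subset_closure ⟨_, _, hw4 r hr hrJ, h8xU_val D hB _ _⟩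
      | one =>
        rw [mul_one, inv_mul_cancel]
        exact Subgroup.one_mem _
      | mul a b _ _ ha hb =>
        have : n⁻¹ * (a * b) * n = (n⁻¹ * a * n) * (n⁻¹ * b * n) := by group
        rw [this]
        exact Subgroup.mul_mem _ ha hb
      | inv a _ ha =>
        have : n⁻¹ * a⁻¹ * n = (n⁻¹ * a * n)⁻¹ := by group
        rw [this]
        exact Subgroup.inv_mem _ ha
    exact key z hz
  -- `n⁻¹ z n ∈ B ⊓ V = 1`
  have hzB : n⁻¹ * z * n ∈ D.borelSubgroup F := by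
    have : n⁻¹ * z * n = (n⁻¹ * y * n)⁻¹ * (n⁻¹ * (y * z) * n) := by group
    rw [this]
    exact Subgroup.mul_mem _ (Subgroup.inv_mem _ hyB) hxB
  have hz1 : n⁻¹ * z * n ∈ D.borelSubgroup F ⊓ D.negUnipotent F := Subgroup.mem_inf.mpr ⟨hzB, hzV⟩
  rw [h8_B_inf_V D hB hN, Subgroup.mem_bot] at hz1
  have hz' : z = 1 := by
    have : z = n * (n⁻¹ * z * n) * n⁻¹ := by group
    rw [this, hz1]
    group
  rw [hz']
  show y * 1 ∈ D.unipotentRadical F J
  rw [mul_one]
  exact hy

end Chevalley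

end Cfsg.Agent.Lib.Helper5.UNI
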