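import Mathlib
import Cfsg.Agent.Lib.Helper5.UNI.Defs
import Cfsg.Prelude.Def_ParabolicCharacters
import Cfsg.Agent.S1047

/-!
# UNI row G5 (uni_par_top), verbatim (helper26): `P_S = G` for `S` = all fundamental roots.
-/

set_option autoImplicit false

namespace Cfsg.Agent.Lib.Helper5.UNI

open Cfsg.Lie Cfsg.Lie.ChevalleyDatum

section Chevalley

universe u

variable {F : Type u} [Field F]

/-- G5: the parabolic subgroup of all fundamental roots is the whole group -/
theorem uni_par_top (D : ChevalleyDatum)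
    (hD : D ∈ [chevG2, chevB2, chevD4, chevF4, chevE6, chevE7, chevE8]) :
    D.parabolicIn F (Finset.range D.rank) = ⊤ := by
  unfold ChevalleyDatum.parabolicIn
  rw [Subgroup.subgroupOf_eq_top, Cfsg.Agent.S1047.result D hD]
  unfold ChevalleyDatum.group
  rw [Subgroup.closure_le]
  rintro g ⟨r, t, hg⟩
  apply Subgroup.mem_sup_right
  apply Subgroup.subset_closure
  refine ⟨r.val, t, Or.inr ⟨r.2, fun i hi hiJ => ?_⟩, ?_⟩
  · exact absurd (by simpa using hi) hiJ
  · rw [hg]
    unfold ChevalleyDatum.x
    rw [dif_pos r.2]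

end Chevalley

end Cfsg.Agent.Lib.Helper5.UNI
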