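import Cfsg.Agent.Lib.Helper28.UHerm
import Cfsg.Agent.Lib.Helper26.SLRoot
import Cfsg.Agent.Lib.Helper26.RootTransfer

set_option autoImplicit false

/-!
# Unitary transvection subgroups as abstract root subgroups

For a non-degenerate unitary form `f` (with field automorphism `σ`) on `F^n`, the unitary
transvections `x ↦ x + a f(x, p) p` (`p` isotropic, `a + σ a = 0`) form the root subgroups `uRoot p`
of the isometry group `suG f ≤ SL_n(F)`.
-/

namespace Cfsg.Agent.Lib.Helper26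

open Matrix
open Cfsg.Agent.Lib.Helper28.UForm

section UnitaryRoot

variable {n : ℕ} {F : Type*} [Field F] {σ : F ≃+* F} {f : (Fin n → F) → (Fin n → F) → F}

/-- The group of isometries of determinant one of the form `f`. -/
abbrev suG (f : (Fin n → F) → (Fin n → F) → F) :
    Subgroup (Matrix.SpecialLinearGroup (Fin n) F) :=
  Cfsg.preserving (Cfsg.slToMat n F) f

theorem mem_suG {g : Matrix.SpecialLinearGroup (Fin n) F} :
    g ∈ suG f ↔ ∀ u v, f (g.1 *ᵥ u) (g.1 *ᵥ v) = f u v := Iff.rfl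

/-- The unitary transvection `x ↦ x + a f(x, p) p`. -/
noncomputable def uT (f : (Fin n → F) → (Fin n → F) → F) (p : Fin n → F) (a : F) :
    Matrix.SpecialLinearGroup (Fin n) F :=
  slT p (rho f p) a

theorem rho_dot (hf : Cfsg.Geo.IsUnitaryForm σ f) (p x : Fin n → F) : rho f p ⬝ᵥ x = f x p :=
  (f_eq_dot hf x p).symm

theorem uT_mulVec (hf : Cfsg.Geo.IsUnitaryForm σ f) {p : Fin n → F} (hp : f p p = 0) (a : F)
    (x : Fin n → F) : (uT f p a).1 *ᵥ x = x + (a * f x p) • p := by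
  have h : rho f p ⬝ᵥ p = 0 := by rw [rho_dot hf, hp]
  rw [uT, slT_mulVec h, rho_dot hf]

theorem uT_mem (hf : Cfsg.Geo.IsUnitaryForm σ f) {p : Fin n → F} (hp : f p p = 0) {a : F}
    (ha : a + σ a = 0) : uT f p a ∈ suG f := by
  intro u v
  show f ((uT f p a).1 *ᵥ u) ((uT f p a).1 *ᵥ v) = f u v
  rw [uT_mulVec hf hp, uT_mulVec hf hp, hf.add_left, f_add_right hf, f_add_right hf, hf.smul_left,
    hf.smul_left, f_smul_right hf, f_smul_right hf, hp, map_mul, hf.herm p v]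
  linear_combination (f u p * σ (f v p)) * ha

theorem uT_mul (p : Fin n → F) (a b : F) : uT f p a * uT f p b = uT f p (a + b) :=
  slT_mul _ _ _ _

theorem uT_zero (p : Fin n → F) : uT f p 0 = 1 := slT_zero _ _

theorem uT_inv (p : Fin n → F) (a : F) : (uT f p a)⁻¹ = uT f p (-a) := slT_inv _ _ _

theorem rho_ne_zero (hf : Cfsg.Geo.IsUnitaryForm σ f) {p : Fin n → F} (hp0 : p ≠ 0) :
    rho f p ≠ 0 := by
  intro h
  obtain ⟨x, hx⟩ := (hf.nondegenerate p hp0).1
  apply hx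
  rw [← rho_dot hf, h, zero_dotProduct]

theorem uT_eq_one_iff (hf : Cfsg.Geo.IsUnitaryForm σ f) {p : Fin n → F} (hp : f p p = 0)
    (hp0 : p ≠ 0) {a : F} : uT f p a = 1 ↔ a = 0 := by
  have h : rho f p ⬝ᵥ p = 0 := by rw [rho_dot hf, hp]
  exact slT_eq_one_iff h hp0 (rho_ne_zero hf hp0)

theorem rho_mulVec (hf : Cfsg.Geo.IsUnitaryForm σ f) {g : Matrix.SpecialLinearGroup (Fin n) F}
    (hg : g ∈ suG f) (p : Fin n → F) : rho f p ᵥ* g⁻¹.1 = rho f (g.1 *ᵥ p) := by
  apply dotProduct_eq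
  intro x
  rw [← Matrix.dotProduct_mulVec, rho_dot hf, rho_dot hf]
  have h1 : f (g.1 *ᵥ (g⁻¹.1 *ᵥ x)) (g.1 *ᵥ p) = f (g⁻¹.1 *ᵥ x) p := hg (g⁻¹.1 *ᵥ x) p
  rw [sl_mulVec_inv] at h1
  exact h1.symm

theorem uT_conj (hf : Cfsg.Geo.IsUnitaryForm σ f) {g : Matrix.SpecialLinearGroup (Fin n) F}
    (hg : g ∈ suG f) (p : Fin n → F) (a : F) : g * uT f p a * g⁻¹ = uT f (g.1 *ᵥ p) a := by
  rw [uT, slT_conj, rho_mulVec hf hg, uT]

theorem rho_smul (hf : Cfsg.Geo.IsUnitaryForm σ f) (l : F) (p : Fin n → F) :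
    rho f (l • p) = σ l • rho f p := by
  funext i
  show f _ (l • p) = σ l * f _ p
  rw [f_smul_right hf]

theorem uT_smul (hf : Cfsg.Geo.IsUnitaryForm σ f) {p : Fin n → F} (hp : f p p = 0) (l a : F) :
    uT f (l • p) a = uT f p (l * σ l * a) := by
  have h : rho f p ⬝ᵥ p = 0 := by rw [rho_dot hf, hp]
  rw [uT, rho_smul hf, slT_smul h, uT]

/-- The group of unitary transvections with centre `p`. -/
noncomputable def uRoot (σ : F ≃+* F) (f : (Fin n → F) → (Fin n → F) → F) (p : Fin n → F) :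
    Subgroup ↥(suG f) where
  carrier := {g | ∃ a : F, a + σ a = 0 ∧ (g : Matrix.SpecialLinearGroup (Fin n) F) = uT f p a}
  mul_mem' := by
    rintro x y ⟨a, ha, hx⟩ ⟨b, hb, hy⟩
    refine ⟨a + b, ?_, ?_⟩
    · rw [map_add]
      linear_combination ha + hb
    · rw [Subgroup.coe_mul, hx, hy, uT_mul]
  one_mem' := ⟨0, by simp, by rw [uT_zero]; rfl⟩
  inv_mem' := by
    rintro x ⟨a, ha, hx⟩
    refine ⟨-a, ?_, ?_⟩
    · rw [map_neg]
      linear_combination -ha
    · rw [Subgroup.coe_inv, hx, uT_inv]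

theorem mem_uRoot {p : Fin n → F} {g : ↥(suG f)} :
    g ∈ uRoot σ f p ↔ ∃ a : F, a + σ a = 0 ∧ (g : Matrix.SpecialLinearGroup (Fin n) F) = uT f p a :=
  Iff.rfl

theorem uRoot_eq_closure (hf : Cfsg.Geo.IsUnitaryForm σ f) {p : Fin n → F} (hp : f p p = 0)
    (hp0 : p ≠ 0) :
    Subgroup.closure {g : ↥(suG f) |
      (∀ v : Fin n → F, ∃ c : F,
        ((g : Matrix.SpecialLinearGroup (Fin n) F) : Matrix (Fin n) (Fin n) F) *ᵥ v = v + c • p) ∧
      ∀ v : Fin n → F, f v p = 0 →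
        ((g : Matrix.SpecialLinearGroup (Fin n) F) : Matrix (Fin n) (Fin n) F) *ᵥ v = v} =
      uRoot σ f p := by
  have hset : {g : ↥(suG f) |
      (∀ v : Fin n → F, ∃ c : F,
        ((g : Matrix.SpecialLinearGroup (Fin n) F) : Matrix (Fin n) (Fin n) F) *ᵥ v = v + c • p) ∧
      ∀ v : Fin n → F, f v p = 0 →
        ((g : Matrix.SpecialLinearGroup (Fin n) F) : Matrix (Fin n) (Fin n) F) *ᵥ v = v} =
      (uRoot σ f p : Set ↥(suG f)) := by
    ext g
    constructor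
    · rintro ⟨h1, h2⟩
      obtain ⟨x₀, hx₀p⟩ : ∃ x₀ : Fin n → F, f x₀ p = 1 := by
        obtain ⟨x₁, hx₁⟩ := (hf.nondegenerate p hp0).1
        exact ⟨(f x₁ p)⁻¹ • x₁, by rw [hf.smul_left, inv_mul_cancel₀ hx₁]⟩
      have hpx₀ : f p x₀ = 1 := by rw [hf.herm, hx₀p, map_one]
      obtain ⟨c₀, hc₀⟩ := h1 x₀
      have hform : ∀ v : Fin n → F, g.1.1 *ᵥ v = v + (c₀ * f v p) • p := by
        intro v
        have hv' : f (v - f v p • x₀) p = 0 := by
          rw [f_sub_left hf, hf.smul_left, hx₀p, mul_one, sub_self]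
        have h3 := h2 _ hv'
        rw [Matrix.mulVec_sub, Matrix.mulVec_smul, hc₀] at h3
        have h4 : g.1.1 *ᵥ v = (v - f v p • x₀) + f v p • (x₀ + c₀ • p) := by
          rw [← h3]
          abel
        rw [h4]
        module
      refine ⟨c₀, ?_, ?_⟩
      · have h5 := g.2 x₀ x₀
        change f (g.1.1 *ᵥ x₀) (g.1.1 *ᵥ x₀) = f x₀ x₀ at h5
        rw [hc₀, hf.add_left, f_add_right hf, f_add_right hf, hf.smul_left, hf.smul_left,
          f_smul_right hf, f_smul_right hf, hp, hx₀p, hpx₀] at h5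
        linear_combination h5
      · apply sl_ext
        intro v
        rw [hform, uT_mulVec hf hp]
    · rintro ⟨a, ha, hg⟩
      constructor
      · intro v
        refine ⟨a * f v p, ?_⟩
        rw [hg, uT_mulVec hf hp]
      · intro v hv
        rw [hg, uT_mulVec hf hp, hv, mul_zero, zero_smul, add_zero]
  rw [hset, Subgroup.closure_eq]

theorem conjBy_uRoot (hf : Cfsg.Geo.IsUnitaryForm σ f) (g : ↥(suG f)) (p : Fin n → F) :
    Cfsg.conjBy (uRoot σ f p) g = uRoot σ f (g.1.1 *ᵥ p) := by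
  ext x
  rw [Subgroup.mem_map]
  constructor
  · rintro ⟨y, ⟨a, ha, hy⟩, rfl⟩
    refine ⟨a, ha, ?_⟩
    show (g : Matrix.SpecialLinearGroup (Fin n) F) * y * (g : Matrix.SpecialLinearGroup (Fin n) F)⁻¹ = _
    rw [hy, uT_conj hf g.2]
  · rintro ⟨a, ha, hx⟩
    refine ⟨g⁻¹ * x * g, ⟨a, ha, ?_⟩, ?_⟩
    · show (g : Matrix.SpecialLinearGroup (Fin n) F)⁻¹ * x *
        (g : Matrix.SpecialLinearGroup (Fin n) F) = _
      rw [hx, ← uT_conj hf g.2]
      group
    · show g * (g⁻¹ * x * g) * g⁻¹ = x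
      group

theorem uRoot_commutative (p : Fin n → F) : IsMulCommutative ↥(uRoot σ f p) := by
  refine ⟨⟨?_⟩⟩
  rintro ⟨x, ⟨a, ha, hx⟩⟩ ⟨y, ⟨b, hb, hy⟩⟩
  apply Subtype.ext
  apply Subtype.ext
  show (x : Matrix.SpecialLinearGroup (Fin n) F) * y = y * x
  rw [hx, hy, uT_mul, uT_mul, add_comm]

theorem uRoot_ne_bot (hf : Cfsg.Geo.IsUnitaryForm σ f) {p : Fin n → F} (hp : f p p = 0)
    (hp0 : p ≠ 0) : uRoot σ f p ≠ ⊥ := by
  intro hb
  obtain ⟨c, hc0, hc⟩ := exists_K0 hf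
  have hc' : c + σ c = 0 := by rw [hc]; ring
  have hmem : (⟨uT f p c, uT_mem hf hp hc'⟩ : ↥(suG f)) ∈ uRoot σ f p := ⟨c, hc', rfl⟩
  rw [hb, Subgroup.mem_bot] at hmem
  have h1 : uT f p c = 1 := congrArg Subtype.val hmem
  exact hc0 ((uT_eq_one_iff hf hp hp0).mp h1)

theorem uRoot_commute (hf : Cfsg.Geo.IsUnitaryForm σ f) {p r : Fin n → F} (hp : f p p = 0)
    (hr : f r r = 0) (hpr : f p r = 0) : ⁅uRoot σ f p, uRoot σ f r⁆ = ⊥ := by
  rw [Subgroup.commutator_eq_bot_iff_le_centralizer]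
  rintro x ⟨a, ha, hx⟩
  rw [Subgroup.mem_centralizer_iff]
  rintro y ⟨b, hb, hy⟩
  apply Subtype.ext
  show (y : Matrix.SpecialLinearGroup (Fin n) F) * x = x * y
  rw [hx, hy, uT, uT]
  apply slT_comm
  · rw [rho_dot hf, hr]
  · rw [rho_dot hf, hp]
  · rw [rho_dot hf, hpr]
  · rw [rho_dot hf, f_swap_zero hf hpr]

theorem uRoot_smul (hf : Cfsg.Geo.IsUnitaryForm σ f) {p : Fin n → F} (hp : f p p = 0) {l : F}
    (hl : l ≠ 0) : uRoot σ f (l • p) = uRoot σ f p := by
  have hfix : σ (l * σ l) = l * σ l := by rw [map_mul, hf.involutive, mul_comm]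
  have hne : l * σ l ≠ 0 := mul_ne_zero hl ((map_ne_zero σ).mpr hl)
  ext x
  constructor
  · rintro ⟨a, ha, hx⟩
    refine ⟨l * σ l * a, ?_, ?_⟩
    · rw [map_mul, hfix]
      linear_combination (l * σ l) * ha
    · rw [hx, uT_smul hf hp]
  · rintro ⟨a, ha, hx⟩
    refine ⟨(l * σ l)⁻¹ * a, ?_, ?_⟩
    · rw [map_mul, map_inv₀, hfix]
      linear_combination (l * σ l)⁻¹ * ha
    · rw [hx, uT_smul hf hp, ← mul_assoc, mul_inv_cancel₀ hne, one_mul]

section UTau

variable {L : Type*} [Field L] (ι : L →+* F) {ε : F} (hε : ε ≠ 0)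

/-- The matrix `[[a, ε b], [ε⁻¹ c, d]]`. -/
def uTauMat (ι : L →+* F) (ε : F) (M : Matrix.SpecialLinearGroup (Fin 2) L) :
    Matrix (Fin 2) (Fin 2) F :=
  !![ι (M.1 0 0), ε * ι (M.1 0 1); ε⁻¹ * ι (M.1 1 0), ι (M.1 1 1)]

include hε in
theorem uTauMat_det (M : Matrix.SpecialLinearGroup (Fin 2) L) : (uTauMat ι ε M).det = 1 := by
  have hdet : M.1 0 0 * M.1 1 1 - M.1 0 1 * M.1 1 0 = 1 := by
    have := M.2
    rwa [Matrix.det_fin_two] at this
  have h2 := congrArg ι hdet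
  rw [map_sub, map_mul, map_mul, map_one] at h2
  rw [uTauMat, Matrix.det_fin_two_of]
  field_simp
  linear_combination h2

include hε in
theorem uTauMat_mul (M N : Matrix.SpecialLinearGroup (Fin 2) L) :
    uTauMat ι ε (M * N) = uTauMat ι ε M * uTauMat ι ε N := by
  ext i j
  fin_cases i <;> fin_cases j <;>
    simp [uTauMat, Matrix.mul_apply, Fin.sum_univ_two, map_add, map_mul] <;> field_simp

/-- The twisted embedding `SL₂(L) → SL₂(F)`, `[[a, b], [c, d]] ↦ [[a, ε b], [ε⁻¹ c, d]]`. -/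
def uTau : Matrix.SpecialLinearGroup (Fin 2) L →* Matrix.SpecialLinearGroup (Fin 2) F :=
  MonoidHom.mk' (fun M => ⟨uTauMat ι ε M, uTauMat_det ι hε M⟩)
    (fun M N => Subtype.ext (uTauMat_mul ι hε M N))

theorem uTau_coe (M : Matrix.SpecialLinearGroup (Fin 2) L) :
    ((uTau ι hε M : Matrix.SpecialLinearGroup (Fin 2) F) : Matrix (Fin 2) (Fin 2) F) =
      !![ι (M.1 0 0), ε * ι (M.1 0 1); ε⁻¹ * ι (M.1 1 0), ι (M.1 1 1)] := rfl

theorem uTau_injective : Function.Injective (uTau ι hε) := by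
  intro M N h
  have h' := congrArg (fun X : Matrix.SpecialLinearGroup (Fin 2) F => X.1) h
  simp only [uTau_coe] at h'
  have e00 := congrFun (congrFun h' 0) 0
  have e01 := congrFun (congrFun h' 0) 1
  have e10 := congrFun (congrFun h' 1) 0
  have e11 := congrFun (congrFun h' 1) 1
  simp only [Matrix.of_apply, Matrix.cons_val', Matrix.cons_val_zero, Matrix.cons_val_one,
    Matrix.cons_val_fin_one] at e00 e01 e10 e11
  have hinj := ι.injective
  ext i j
  fin_cases i <;> fin_cases j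
  · exact hinj e00
  · exact hinj (mul_left_cancel₀ hε e01)
  · exact hinj (mul_left_cancel₀ (inv_ne_zero hε) e10)
  · exact hinj e11

theorem uTau_U (t : L) : uTau ι hε (Cfsg.Agent.S5016.U t) = Cfsg.Agent.S5016.U (ε * ι t) := by
  apply Subtype.ext
  rw [uTau_coe, Cfsg.Agent.S5016.U_coe, Cfsg.Agent.S5016.U_coe]
  ext i j
  fin_cases i <;> fin_cases j <;> simp

theorem uTau_L (t : L) : uTau ι hε (Cfsg.Agent.S5016.L t) = Cfsg.Agent.S5016.L (ε⁻¹ * ι t) := by
  apply Subtype.ext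
  rw [uTau_coe, Cfsg.Agent.S5016.L_coe, Cfsg.Agent.S5016.L_coe]
  ext i j
  fin_cases i <;> fin_cases j <;> simp

end UTau

section URho

variable {L : Type*} [Field L] (hf : Cfsg.Geo.IsUnitaryForm σ f) (ι : L →+* F)
  (hι : ∀ c : F, σ c = c ↔ c ∈ Set.range ι) {ε : F} (hε : ε ≠ 0) (hεσ : σ ε = -ε)
  {p r : Fin n → F} (hp : f p p = 0) (hr : f r r = 0) (hpr : f p r = 1)

include hf hp in
theorem uhyp_v : rho f p ⬝ᵥ p = 0 := by rw [rho_dot hf, hp]

include hf hr in
theorem uhyp_w : rho f r ⬝ᵥ r = 0 := by rw [rho_dot hf, hr]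

include hf hpr in
theorem uhyp_1 : rho f p ⬝ᵥ r = 1 := by rw [rho_dot hf, hf.herm, hpr, map_one]

include hf hpr in
theorem uhyp_2 : rho f r ⬝ᵥ p = 1 := by rw [rho_dot hf, hpr]

/-- The homomorphism `SL₂(L) → SL_n(F)` attached to a hyperbolic pair. -/
noncomputable def uRho0 : Matrix.SpecialLinearGroup (Fin 2) L →*
    Matrix.SpecialLinearGroup (Fin n) F :=
  (slRho (uhyp_v hf hp) (uhyp_w hf hr) (uhyp_1 hf hpr) (uhyp_2 hf hpr)).comp (uTau ι hε)

theorem uRho0_injective : Function.Injective (uRho0 hf ι hε hp hr hpr) :=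
  (slRho_injective (uhyp_v hf hp) (uhyp_w hf hr) (uhyp_1 hf hpr) (uhyp_2 hf hpr)).comp
    (uTau_injective ι hε)

theorem uRho0_U (t : L) :
    uRho0 hf ι hε hp hr hpr (Cfsg.Agent.S5016.U t) = uT f p (ε * ι t) := by
  show slRho (uhyp_v hf hp) (uhyp_w hf hr) (uhyp_1 hf hpr) (uhyp_2 hf hpr)
    (uTau ι hε (Cfsg.Agent.S5016.U t)) = _
  rw [uTau_U, slRho_U]
  rfl

theorem uRho0_L (t : L) :
    uRho0 hf ι hε hp hr hpr (Cfsg.Agent.S5016.L t) = uT f r (ε⁻¹ * ι t) := by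
  show slRho (uhyp_v hf hp) (uhyp_w hf hr) (uhyp_1 hf hpr) (uhyp_2 hf hpr)
    (uTau ι hε (Cfsg.Agent.S5016.L t)) = _
  rw [uTau_L, slRho_L]
  rfl

include hι in
theorem sigma_iota (t : L) : σ (ι t) = ι t := (hι (ι t)).mpr ⟨t, rfl⟩

include hι hεσ in
theorem trace_eps (t : L) : ε * ι t + σ (ε * ι t) = 0 := by
  rw [map_mul, hεσ, sigma_iota ι hι]
  ring

include hι hεσ in
theorem trace_eps_inv (t : L) : ε⁻¹ * ι t + σ (ε⁻¹ * ι t) = 0 := by
  rw [map_mul, map_inv₀, hεσ, sigma_iota ι hι]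
  ring

include hι hεσ hε in
theorem exists_of_trace_zero {a : F} (ha : a + σ a = 0) : ∃ t : L, a = ε * ι t := by
  have h1 : σ (a / ε) = a / ε := by
    rw [map_div₀, hεσ]
    have : σ a = -a := by linear_combination ha
    rw [this, neg_div_neg_eq]
  obtain ⟨t, ht⟩ := (hι _).mp h1
  refine ⟨t, ?_⟩
  rw [ht]
  field_simp

include hι hεσ hε in
theorem exists_of_trace_zero' {a : F} (ha : a + σ a = 0) : ∃ t : L, a = ε⁻¹ * ι t := by
  have h1 : σ (a * ε) = a * ε := by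
    rw [map_mul, hεσ]
    have : σ a = -a := by linear_combination ha
    rw [this]
    ring
  obtain ⟨t, ht⟩ := (hι _).mp h1
  refine ⟨t, ?_⟩
  rw [ht]
  field_simp

include hι hεσ in
theorem uRho0_mem (M : Matrix.SpecialLinearGroup (Fin 2) L) :
    uRho0 hf ι hε hp hr hpr M ∈ suG f := by
  have hle : (⊤ : Subgroup (Matrix.SpecialLinearGroup (Fin 2) L)) ≤
      (suG f).comap (uRho0 hf ι hε hp hr hpr) := by
    rw [← Cfsg.Agent.S5016.sup_eq_top L, sup_le_iff]
    constructor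
    · intro g hg
      obtain ⟨t, rfl⟩ := Cfsg.Agent.S5016.mem_lower_iff.mp hg
      rw [Subgroup.mem_comap, uRho0_L]
      exact uT_mem hf hr (trace_eps_inv ι hι hεσ t)
    · intro g hg
      obtain ⟨t, rfl⟩ := Cfsg.Agent.S5016.mem_upper_iff.mp hg
      rw [Subgroup.mem_comap, uRho0_U]
      exact uT_mem hf hp (trace_eps ι hι hεσ t)
  exact hle (Subgroup.mem_top M)

/-- The homomorphism `SL₂(L) → SU(f)` attached to a hyperbolic pair. -/
noncomputable def uRho : Matrix.SpecialLinearGroup (Fin 2) L →* ↥(suG f) :=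
  (uRho0 hf ι hε hp hr hpr).codRestrict (suG f) (uRho0_mem hf ι hι hε hεσ hp hr hpr)

theorem uRho_coe (M : Matrix.SpecialLinearGroup (Fin 2) L) :
    ((uRho hf ι hι hε hεσ hp hr hpr M : ↥(suG f)) : Matrix.SpecialLinearGroup (Fin n) F) =
      uRho0 hf ι hε hp hr hpr M := rfl

theorem uRho_injective : Function.Injective (uRho hf ι hι hε hεσ hp hr hpr) := by
  intro M N h
  apply uRho0_injective hf ι hε hp hr hpr
  have := congrArg (fun x : ↥(suG f) => (x : Matrix.SpecialLinearGroup (Fin n) F)) h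
  simpa only [uRho_coe] using this

theorem uRho_map_upper :
    (Cfsg.upperUnipotentSL2 L).map (uRho hf ι hι hε hεσ hp hr hpr) = uRoot σ f p := by
  ext g
  rw [Subgroup.mem_map]
  constructor
  · rintro ⟨M, hM, rfl⟩
    obtain ⟨t, rfl⟩ := Cfsg.Agent.S5016.mem_upper_iff.mp hM
    exact ⟨ε * ι t, trace_eps ι hι hεσ t, by rw [uRho_coe, uRho0_U]⟩
  · rintro ⟨a, ha, hg⟩
    obtain ⟨t, rfl⟩ := exists_of_trace_zero ι hι hε hεσ ha
    refine ⟨Cfsg.Agent.S5016.U t, Cfsg.Agent.S5016.mem_upper_iff.mpr ⟨_, rfl⟩, ?_⟩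
    apply Subtype.ext
    rw [uRho_coe, uRho0_U, hg]

theorem uRho_map_lower :
    (Cfsg.lowerUnipotentSL2 L).map (uRho hf ι hι hε hεσ hp hr hpr) = uRoot σ f r := by
  ext g
  rw [Subgroup.mem_map]
  constructor
  · rintro ⟨M, hM, rfl⟩
    obtain ⟨t, rfl⟩ := Cfsg.Agent.S5016.mem_lower_iff.mp hM
    exact ⟨ε⁻¹ * ι t, trace_eps_inv ι hι hεσ t, by rw [uRho_coe, uRho0_L]⟩
  · rintro ⟨a, ha, hg⟩
    obtain ⟨t, rfl⟩ := exists_of_trace_zero' ι hι hε hεσ ha
    refine ⟨Cfsg.Agent.S5016.L t, Cfsg.Agent.S5016.mem_lower_iff.mpr ⟨_, rfl⟩, ?_⟩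
    apply Subtype.ext
    rw [uRho_coe, uRho0_L, hg]

theorem uRho_range :
    (uRho hf ι hι hε hεσ hp hr hpr).range = uRoot σ f p ⊔ uRoot σ f r := by
  rw [MonoidHom.range_eq_map, ← Cfsg.Agent.S5016.sup_eq_top L, Subgroup.map_sup,
    uRho_map_upper, uRho_map_lower, sup_comm]

include hf hι hε hεσ hp hr hpr in
theorem uRho_psl2 : Cfsg.IsPSL2PairOver L (uRoot σ f p) (uRoot σ f r) := by
  refine ⟨uRho hf ι hι hε hεσ hp hr hpr, uRho_range hf ι hι hε hεσ hp hr hpr, ?_,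
    uRho_map_upper hf ι hι hε hεσ hp hr hpr, uRho_map_lower hf ι hι hε hεσ hp hr hpr⟩
  rw [(MonoidHom.ker_eq_bot_iff _).mpr (uRho_injective hf ι hι hε hεσ hp hr hpr)]
  exact bot_le

include hf hι hε hεσ hp hr hpr in
theorem uRho_rankOne : Cfsg.IsRankOnePair (uRoot σ f p) (uRoot σ f r) := by
  have := rankOnePair_map (uRho hf ι hι hε hεσ hp hr hpr)
    (uRho_injective hf ι hι hε hεσ hp hr hpr) (Cfsg.Agent.S5016.pair L)
  rw [uRho_map_upper, uRho_map_lower] at this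
  exact Cfsg.RankOnePair_symm this

end URho

section UFamily

variable {L : Type*} [Field L] (hf : Cfsg.Geo.IsUnitaryForm σ f) (ι : L →+* F)
  (hι : ∀ c : F, σ c = c ↔ c ∈ Set.range ι)

include hf hι in
/-- Non-perpendicular isotropic vectors give rank one pairs generating an image of `SL₂(L)`. -/
theorem uRoot_rankOne {p r : Fin n → F} (hp : f p p = 0) (hr : f r r = 0) (hpr : f p r ≠ 0) :
    Cfsg.IsRankOnePair (uRoot σ f p) (uRoot σ f r) ∧
      Cfsg.IsPSL2PairOver L (uRoot σ f p) (uRoot σ f r) := by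
  obtain ⟨ε, hε, hεσ⟩ := exists_K0 hf
  set l : F := σ (f p r)⁻¹ with hl
  have hl0 : l ≠ 0 := (map_ne_zero σ).mpr (inv_ne_zero hpr)
  have hr' : f (l • r) (l • r) = 0 := by
    rw [hf.smul_left, f_smul_right hf, hr, mul_zero, mul_zero]
  have hpr' : f p (l • r) = 1 := by
    rw [f_smul_right hf, hl, hf.involutive, inv_mul_cancel₀ hpr]
  have hq : uRoot σ f (l • r) = uRoot σ f r := uRoot_smul hf hr hl0
  rw [← hq]
  exact ⟨uRho_rankOne hf ι hι hε hεσ hp hr' hpr', uRho_psl2 hf ι hι hε hεσ hp hr' hpr'⟩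

include hf in
theorem exists_common_neighbor {p r : Fin n → F} (hp : f p p = 0) (hp0 : p ≠ 0)
    (hr0 : r ≠ 0) (hpr : f p r = 0) :
    ∃ s : Fin n → F, s ≠ 0 ∧ f s s = 0 ∧ f p s ≠ 0 ∧ f r s ≠ 0 := by
  obtain ⟨x, hx1, hx2⟩ := exists_dotProduct_ne_zero_both (rho_ne_zero hf hp0) (rho_ne_zero hf hr0)
  rw [rho_dot hf] at hx1 hx2
  have hpx : f p x ≠ 0 := f_swap_ne hf hx1
  have hrx : f r x ≠ 0 := f_swap_ne hf hx2
  have hfix : σ (-(f x x)) = -(f x x) := by rw [map_neg, f_self_fixed hf]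
  obtain ⟨μ, hμ⟩ := trace_surj hf _ hfix
  have hrp : f r p = 0 := f_swap_zero hf hpr
  have hσμ : σ (μ / f p x) * f x p = σ μ := by
    rw [map_div₀, ← hf.herm x p]
    field_simp
  have hps : f p (x + (μ / f p x) • p) = f p x := by
    rw [f_add_right hf, f_smul_right hf, hp, mul_zero, add_zero]
  have hrs : f r (x + (μ / f p x) • p) = f r x := by
    rw [f_add_right hf, f_smul_right hf, hrp, mul_zero, add_zero]
  refine ⟨x + (μ / f p x) • p, ?_, ?_, ?_, ?_⟩
  · intro h0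
    rw [h0, f_zero_right hf] at hps
    exact hpx hps.symm
  · rw [hf.add_left, hf.smul_left, hps, f_add_right hf, f_smul_right hf, hσμ,
      div_mul_cancel₀ _ hpx]
    linear_combination hμ
  · rw [hps]
    exact hpx
  · rw [hrs]
    exact hrx

/-- The set of unitary transvection subgroups. -/
def uSigma (σ : F ≃+* F) (f : (Fin n → F) → (Fin n → F) → F) : Set (Subgroup ↥(suG f)) :=
  {A | ∃ p : Fin n → F, p ≠ 0 ∧ f p p = 0 ∧ A = uRoot σ f p}

/-- The subgroup generated by the unitary transvection subgroups. -/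
noncomputable def uK (σ : F ≃+* F) (f : (Fin n → F) → (Fin n → F) → F) : Subgroup ↥(suG f) :=
  ⨆ B ∈ uSigma σ f, B

/-- The unitary transvection subgroups as subgroups of the group they generate. -/
noncomputable def uSigmaK (σ : F ≃+* F) (f : (Fin n → F) → (Fin n → F) → F) :
    Set (Subgroup ↥(uK σ f)) :=
  (fun A : Subgroup ↥(suG f) => A.subgroupOf (uK σ f)) '' uSigma σ f

theorem uSigma_le {A : Subgroup ↥(suG f)} (hA : A ∈ uSigma σ f) : A ≤ uK σ f :=
  le_iSup₂_of_le A hA le_rfl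

include hf hι in
theorem uSigma_pair {A B : Subgroup ↥(suG f)} (hA : A ∈ uSigma σ f) (hB : B ∈ uSigma σ f) :
    ⁅A, B⁆ = ⊥ ∨ (Cfsg.IsRankOnePair A B ∧ Cfsg.IsPSL2PairOver L A B) := by
  obtain ⟨p, hp0, hp, rfl⟩ := hA
  obtain ⟨r, hr0, hr, rfl⟩ := hB
  by_cases hpr : f p r = 0
  · exact Or.inl (uRoot_commute hf hp hr hpr)
  · exact Or.inr (uRoot_rankOne hf ι hι hp hr hpr)

include hf hι in
theorem uSigmaK_rootSet : Cfsg.IsRootSubgroupSet (uSigmaK σ f) := by
  refine rootSet_subgroupOf rfl ?_ ?_ ?_ ?_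
  · rintro _ ⟨p, _, _, rfl⟩
    exact uRoot_commutative p
  · rintro _ ⟨p, hp0, hp, rfl⟩
    exact uRoot_ne_bot hf hp hp0
  · rintro _ ⟨p, hp0, hp, rfl⟩ g _
    refine ⟨g.1.1 *ᵥ p, sl_mulVec_ne_zero g.1 hp0, ?_, conjBy_uRoot hf g p⟩
    have := g.2 p p
    change f (g.1.1 *ᵥ p) (g.1.1 *ᵥ p) = f p p at this
    rw [this, hp]
  · intro A hA B hB
    rcases uSigma_pair hf ι hι hA hB with h | h
    · exact Or.inl h
    · exact Or.inr (Or.inl h.1)

include hf hι in
theorem uSigmaK_fAdj {p r : Fin n → F} (hp0 : p ≠ 0) (hp : f p p = 0) (hr0 : r ≠ 0)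
    (hr : f r r = 0) (hpr : f p r ≠ 0) :
    Cfsg.FAdj (uSigmaK σ f) ((uRoot σ f p).subgroupOf (uK σ f))
      ((uRoot σ f r).subgroupOf (uK σ f)) := by
  have hA : uRoot σ f p ∈ uSigma σ f := ⟨p, hp0, hp, rfl⟩
  have hB : uRoot σ f r ∈ uSigma σ f := ⟨r, hr0, hr, rfl⟩
  exact ⟨⟨_, hA, rfl⟩, ⟨_, hB, rfl⟩, rankOnePair_subgroupOf (uSigma_le hA) (uSigma_le hB)
    (uRoot_rankOne hf ι hι hp hr hpr).1⟩

include hf hι in
theorem uSigmaK_connected : Cfsg.IsConnectedFamily (Cfsg.FAdj (uSigmaK σ f)) (uSigmaK σ f) := by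
  rintro _ ⟨_, ⟨p, hp0, hp, rfl⟩, rfl⟩ _ ⟨_, ⟨r, hr0, hr, rfl⟩, rfl⟩
  by_cases hpr : f p r = 0
  · obtain ⟨s, hs0, hs, hps, hrs⟩ := exists_common_neighbor hf hp hp0 hr0 hpr
    have e1 := uSigmaK_fAdj hf ι hι hp0 hp hs0 hs hps
    have e2 := uSigmaK_fAdj hf ι hι hs0 hs hr0 hr (f_swap_ne hf hrs)
    exact Relation.ReflTransGen.tail (Relation.ReflTransGen.single e1) e2
  · exact Relation.ReflTransGen.single (uSigmaK_fAdj hf ι hι hp0 hp hr0 hr hpr)

include hf hι in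
theorem uSigmaK_class (hne : ∃ p : Fin n → F, p ≠ 0 ∧ f p p = 0) :
    Cfsg.IsRootSubgroupClass (uSigmaK σ f) := by
  obtain ⟨p, hp0, hp⟩ := hne
  refine ⟨uSigmaK_rootSet hf ι hι, ⟨_, ⟨_, ⟨p, hp0, hp, rfl⟩, rfl⟩⟩, ?_⟩
  intro A hA B hB
  exact Cfsg.Agent.S5032.exists_conj_of_rtg (uSigmaK_connected hf ι hι A hA B hB)

include hf hι in
theorem uSigmaK_cases {A' B' : Subgroup ↥(uK σ f)} (hA : A' ∈ uSigmaK σ f)
    (hB : B' ∈ uSigmaK σ f) :
    ⁅A', B'⁆ = ⊥ ∨ (Cfsg.IsRankOnePair A' B' ∧ Cfsg.IsPSL2PairOver L A' B') := by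
  obtain ⟨A, hA, rfl⟩ := hA
  obtain ⟨B, hB, rfl⟩ := hB
  rcases uSigma_pair hf ι hι hA hB with h | h
  · left
    rw [commutator_subgroupOf (uSigma_le hA) (uSigma_le hB), h]
    exact Subgroup.bot_subgroupOf _
  · exact Or.inr ⟨rankOnePair_subgroupOf (uSigma_le hA) (uSigma_le hB) h.1,
      psl2Pair_subgroupOf (uSigma_le hA) (uSigma_le hB) h.2⟩

include hf hι in
theorem uSigmaK_degenerate : Cfsg.IsDegenerateRootSet (uSigmaK σ f) := by
  intro A' hA B' hB hc
  have hS := uSigmaK_rootSet hf ι hι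
  rcases uSigmaK_cases hf ι hι hA hB with h | h
  · apply hS.ne_bot _ hc.1
    exact h
  · exact Cfsg.Agent.S5029.not_rankOne_of_commutator_mem hS hA hc.1 h.1

include hf hι in
theorem uSigmaK_kRoot : Cfsg.IsKRootSubgroupSet L (uSigmaK σ f) := by
  refine ⟨uSigmaK_rootSet hf ι hι, ?_⟩
  intro A' hA B' hB hr
  rcases uSigmaK_cases hf ι hι hA hB with h | h
  · exfalso
    apply rankOne_not_commute hr
    intro a ha b hb
    exact Cfsg.Agent.S5028.commute_of_commutator_eq_bot h ha hb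
  · exact h.2

end UFamily

end UnitaryRoot

section FiniteModel

open Polynomial in
/-- A field with `q²` elements contains a copy of a field with `q` elements (in `Type`), namely
the fixed field of `x ↦ x ^ q`. -/
theorem exists_subfield_model {F : Type*} [Field F] [Fintype F] {q : ℕ}
    (hF : Fintype.card F = q ^ 2) :
    ∃ (L : Type) (_ : Field L) (_ : Fintype L) (ι : L →+* F), Fintype.card L = q ∧
      ∀ c : F, c ^ q = c ↔ c ∈ Set.range ι := by
  classical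
  obtain ⟨p, hchar, k, hp, hk⟩ := FiniteField.card' F
  haveI : Fact p.Prime := ⟨hp⟩
  have hq : q ∣ p ^ (k : ℕ) := by
    rw [← hk, hF]; exact Dvd.intro_left (q ^ 1) (by ring)
  obtain ⟨j, -, hj⟩ := (Nat.dvd_prime_pow hp).mp hq
  have hk2 : (k : ℕ) = 2 * j := by
    have : p ^ (k : ℕ) = p ^ (2 * j) := by
      rw [← hk, hF, hj, ← pow_mul, mul_comm]
    exact Nat.pow_right_injective hp.two_le this
  have hq2 : 2 ≤ q := by
    have h1 : 1 < Fintype.card F := Fintype.one_lt_card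
    rw [hF] at h1
    by_contra h
    push Not at h
    interval_cases q <;> simp at h1
  have hj0 : j ≠ 0 := by
    rintro rfl
    rw [pow_zero] at hj
    omega
  letI : Algebra (ZMod p) F := ZMod.algebra F p
  have hfinF : Module.finrank (ZMod p) F = 2 * j := by
    have := FiniteField.pow_finrank_eq_card p F
    rw [hk, hk2] at this
    exact Nat.pow_right_injective hp.two_le this
  have hfinL : Module.finrank (ZMod p) (GaloisField p j) = j := GaloisField.finrank p hj0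
  obtain ⟨φ⟩ := FiniteField.nonempty_algHom_of_finrank_dvd (F := ZMod p) (K := GaloisField p j)
    (L := F) (by rw [hfinF, hfinL]; exact Dvd.intro_left 2 rfl)
  letI : Fintype (GaloisField p j) := Fintype.ofFinite _
  have hcardL : Fintype.card (GaloisField p j) = q := by
    rw [Fintype.card_eq_nat_card, GaloisField.card p j hj0, hj]
  refine ⟨GaloisField p j, inferInstance, inferInstance, φ.toRingHom, hcardL, ?_⟩
  have hinj : Function.Injective φ.toRingHom := φ.toRingHom.injective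
  set S : Finset F := Finset.univ.filter (fun c : F => c ^ q = c) with hS
  set T : Finset F := Finset.univ.image φ.toRingHom with hT
  have hTS : T ⊆ S := by
    intro c hc
    rw [hT, Finset.mem_image] at hc
    obtain ⟨l, -, rfl⟩ := hc
    rw [hS, Finset.mem_filter]
    refine ⟨Finset.mem_univ _, ?_⟩
    rw [← map_pow, ← hcardL, FiniteField.pow_card]
  have hTcard : T.card = q := by
    rw [hT, Finset.card_image_of_injective _ hinj, Finset.card_univ, hcardL]
  have hScard : S.card ≤ q := by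
    have hdeg : (X ^ q - X : F[X]).natDegree = q := FiniteField.X_pow_card_sub_X_natDegree_eq F hq2
    have hne : (X ^ q - X : F[X]) ≠ 0 := FiniteField.X_pow_card_sub_X_ne_zero F hq2
    have hsub : S ⊆ (X ^ q - X : F[X]).roots.toFinset := by
      intro c hc
      rw [hS, Finset.mem_filter] at hc
      rw [Multiset.mem_toFinset, mem_roots hne]
      simp [hc.2]
    calc S.card ≤ (X ^ q - X : F[X]).roots.toFinset.card := Finset.card_le_card hsub
      _ ≤ (X ^ q - X : F[X]).roots.card := Multiset.toFinset_card_le _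
      _ ≤ (X ^ q - X : F[X]).natDegree := card_roots' _
      _ = q := hdeg
  have hEq : T = S := Finset.eq_of_subset_of_card_le hTS (by rw [hTcard]; exact hScard)
  intro c
  constructor
  · intro hc
    have : c ∈ S := by rw [hS, Finset.mem_filter]; exact ⟨Finset.mem_univ _, hc⟩
    rw [← hEq, hT, Finset.mem_image] at this
    obtain ⟨l, -, hl⟩ := this
    exact ⟨l, hl⟩
  · rintro ⟨l, rfl⟩
    have : φ.toRingHom l ∈ S := hTS (by rw [hT]; exact Finset.mem_image_of_mem _ (Finset.mem_univ _))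
    rw [hS, Finset.mem_filter] at this
    exact this.2

theorem herm_single {F : Type*} [Field F] (m q : ℕ) (hq : q ≠ 0) (i j : Fin m) :
    Cfsg.hermForm m F q (Pi.single i 1) (Pi.single j 1) = if i = j then 1 else 0 := by
  unfold Cfsg.hermForm
  rw [Finset.sum_eq_single i]
  · by_cases hij : i = j
    · subst hij
      simp
    · rw [if_neg hij, Pi.single_eq_same, Pi.single_eq_of_ne hij, zero_pow hq, mul_zero]
  · intro b _ hb
    rw [Pi.single_eq_of_ne hb, zero_mul]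
  · intro h
    exact absurd (Finset.mem_univ i) h

/-- The standard Hermitian form in dimension at least two has a non-zero isotropic vector. -/
theorem exists_isotropic_herm {F : Type*} [Field F] [Fintype F] {q : ℕ}
    (hF : Fintype.card F = q ^ 2) (m : ℕ) {σ : F ≃+* F}
    (hf : Cfsg.Geo.IsUnitaryForm σ (Cfsg.hermForm (m + 2) F q)) :
    ∃ p : Fin (m + 2) → F, p ≠ 0 ∧ Cfsg.hermForm (m + 2) F q p p = 0 := by
  have hq : q ≠ 0 := by
    have := Cfsg.Agent.Lib.Helper28.UHerm.two_le_q hF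
    omega
  have hfix : σ (-1) = -1 := by rw [map_neg, map_one]
  obtain ⟨b, hb⟩ := norm_surj hf (-1) hfix
  have h01 : (0 : Fin (m + 2)) ≠ 1 := by
    intro h
    have := congrArg Fin.val h
    simp at this
  refine ⟨Pi.single 0 1 + b • Pi.single 1 1, ?_, ?_⟩
  · intro h0
    have := congrFun h0 0
    simp at this
  · rw [hf.add_left, f_add_right hf, f_add_right hf, hf.smul_left, hf.smul_left, f_smul_right hf,
      f_smul_right hf, herm_single _ _ hq, herm_single _ _ hq, herm_single _ _ hq,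
      herm_single _ _ hq, if_pos rfl, if_pos rfl, if_neg h01, if_neg h01.symm]
    linear_combination hb

end FiniteModel

end Cfsg.Agent.Lib.Helper26
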