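import Mathlib
import Cfsg.Agent.Lib.Helper27.VF.Defs

set_option autoImplicit false

namespace Cfsg.Agent.Lib.Helper27.VF

universe u

/-- VF-SIG -/
theorem exists_perm {T : Type u} [Group T] [Finite T] (A B : Subgroup T) (e : A ≃* B) :
    ∃ σ : Equiv.Perm T, ∀ (a : A) (t : T), σ ((a : T) * t) = (e a : T) * σ t := by
  classical
  obtain ⟨RA, hRA⟩ := A.exists_isComplement_right 1
  obtain ⟨RB, hRB⟩ := B.exists_isComplement_right 1
  have hA := hRA.1
  have hB := hRB.1
  have hcard : Nat.card RA = Nat.card RB := by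
    have h1 := hA.card_mul_card
    have h2 := hB.card_mul_card
    have h3 : Nat.card A = Nat.card B := Nat.card_congr e.toEquiv
    have hpos : 0 < Nat.card (A : Set T) := Nat.card_pos
    have h4 : Nat.card (A : Set T) = Nat.card A := rfl
    have h5 : Nat.card (B : Set T) = Nat.card B := rfl
    rw [h4] at h1
    rw [h5, ← h3] at h2
    have : Nat.card A * Nat.card RA = Nat.card A * Nat.card RB := by rw [h1, h2]
    exact Nat.eq_of_mul_eq_mul_left (by rw [← h4]; exact hpos) this
  have β : RA ≃ RB :=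
    (Finite.equivFin RA).trans ((finCongr hcard).trans (Finite.equivFin RB).symm)
  let φA : A × RA ≃ T := Equiv.ofBijective (fun x : A × RA => (x.1 : T) * (x.2 : T)) hA
  let φB : B × RB ≃ T := Equiv.ofBijective (fun x : B × RB => (x.1 : T) * (x.2 : T)) hB
  let σ : Equiv.Perm T := φA.symm.trans ((Equiv.prodCongr e.toEquiv β).trans φB)
  refine ⟨σ, ?_⟩
  intro a t
  obtain ⟨⟨a₀, r⟩, rfl⟩ := φA.surjective t
  have h1 : (a : T) * φA (a₀, r) = φA (a * a₀, r) := by
    change (a : T) * ((a₀ : T) * (r : T)) = ((a * a₀ : A) : T) * (r : T)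
    rw [Subgroup.coe_mul, mul_assoc]
  rw [h1]
  have h2 : ∀ x : A × RA, σ (φA x) = φB (e x.1, β x.2) := by
    intro x
    simp [σ]
    rfl
  rw [h2, h2]
  change ((e (a * a₀) : B) : T) * (β r : T) = (e a : T) * (((e a₀ : B) : T) * (β r : T))
  rw [map_mul, Subgroup.coe_mul, mul_assoc]

end Cfsg.Agent.Lib.Helper27.VF
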