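import Mathlib
import Cfsg.Agent.Lib.Helper27.VF.Defs

set_option autoImplicit false

namespace Cfsg.Agent.Lib.Helper27.VF

universe u

variable {T : Type u} [Group T]

/-- VF-T5 (for ANY subgroup `K` of the semidirect product) -/
theorem exists_free_normal [Finite T] (D : Datum T) (K : Subgroup D.G₀) :
    ∃ N : Subgroup K, N.Normal ∧ IsFreeGroup N ∧ N.index ∣ (Nat.card T).factorial := by
  classical
  let ρ : K →* Equiv.Perm T := (SemidirectProduct.rightHom).comp K.subtype
  refine ⟨ρ.ker, inferInstance, ?_, ?_⟩
  · -- the left component is an injective homomorphism on the kernel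
    have hr : ∀ n : ρ.ker, (n : D.G₀).right = 1 := by
      intro n
      have := n.2
      rw [MonoidHom.mem_ker] at this
      exact this
    let f : ρ.ker →* FreeGroup D.X :=
      { toFun := fun n => (n : D.G₀).left
        map_one' := rfl
        map_mul' := by
          intro a b
          change ((a : D.G₀) * (b : D.G₀)).left = (a : D.G₀).left * (b : D.G₀).left
          rw [SemidirectProduct.mul_left, hr a, map_one]
          rfl }
    have hf : Function.Injective f := by
      intro a b hab
      apply Subtype.ext
      apply Subtype.ext
      apply SemidirectProduct.ext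
      · exact hab
      · rw [hr a, hr b]
    have : IsFreeGroup f.range := subgroupIsFreeOfIsFree f.range
    exact IsFreeGroup.ofMulEquiv (MonoidHom.ofInjective hf).symm
  · rw [Subgroup.index_ker]
    have h1 : Nat.card ρ.range ∣ Nat.card (Equiv.Perm T) := Subgroup.card_subgroup_dvd_card _
    rwa [Nat.card_perm] at h1

end Cfsg.Agent.Lib.Helper27.VF
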