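import Mathlib
import Cfsg.Agent.Lib.Helper10.ZJfree1

set_option autoImplicit false

/-! A centric characteristic functor on finite `p`-groups (a simplified form of Glauberman's `ZJ*`):
`W Q` is the preimage in `C_Q(Z)`, `Z = Z(J(Q))`, of `W (C_Q(Z) / Z)`. Definitions, the recursion
formula and isomorphism invariance (helper26). -/

namespace Cfsg.Agent.Lib.Helper26.WStar

universe u

open Cfsg Cfsg.Agent.Lib.Helper9 Cfsg.Agent.Lib.Helper10.ZJfree Cfsg.Agent.Lib.Helper10.ZJnpc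

/-- The family of commutative subgroups, uniformly in all groups of a universe. -/
abbrev commF : ∀ (X : Type u) [Group X], Subgroup X → Prop := fun _ _ A => IsMulCommutative A

/-- `Z(J(Q))` of the group `Q` (abelian version). -/
def zq (Q : Type u) [Group Q] : Subgroup Q := Wz commF.{u} Q

/-- `C_Q(Z(J(Q)))`. -/
def cz (Q : Type u) [Group Q] : Subgroup Q := Subgroup.centralizer (zq Q : Set Q)

/-- `Z(J(Q))` as a normal subgroup of `C_Q(Z(J(Q)))`. -/
def zsub (Q : Type u) [Group Q] : Subgroup ↥(cz Q) := ((zq Q).subgroupOf (cz Q)).normalCore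

instance zsub_normal (Q : Type u) [Group Q] : (zsub Q).Normal := by
  unfold zsub; infer_instance

theorem subgroupOf_cz_normal (Q : Type u) [Group Q] : ((zq Q).subgroupOf (cz Q)).Normal := by
  constructor
  intro z hz c
  rw [Subgroup.mem_subgroupOf] at hz ⊢
  have hc : (c : Q) ∈ Subgroup.centralizer (zq Q : Set Q) := c.2
  have h1 := Subgroup.mem_centralizer_iff.mp hc (z : Q) hz
  have e : ((c * z * c⁻¹ : ↥(cz Q)) : Q) = (z : Q) := by
    push_cast
    rw [← h1, mul_inv_cancel_right]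
  rw [e]
  exact hz

theorem zsub_eq (Q : Type u) [Group Q] : zsub Q = (zq Q).subgroupOf (cz Q) := by
  unfold zsub
  haveI := subgroupOf_cz_normal Q
  exact Subgroup.normalCore_eq_self _

theorem mem_zsub_iff (Q : Type u) [Group Q] (c : ↥(cz Q)) : c ∈ zsub Q ↔ (c : Q) ∈ zq Q := by
  rw [zsub_eq, Subgroup.mem_subgroupOf]

theorem zq_comm (Q : Type u) [Group Q] [Finite Q] {x y : Q} (hx : x ∈ zq Q) (hy : y ∈ zq Q) :
    x * y = y * x :=
  zfam_comm (commF Q) isMulCommutative_bot' (fun _ h => h) ⊤ hx hy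

theorem zq_le_cz (Q : Type u) [Group Q] [Finite Q] : zq Q ≤ cz Q := by
  intro x hx
  apply Subgroup.mem_centralizer_iff.mpr
  intro y hy
  exact zq_comm Q hy hx

/-- The lifting operation of the recursion. -/
def lift (Q : Type u) [Group Q] (A : Subgroup (↥(cz Q) ⧸ zsub Q)) : Subgroup Q :=
  (A.comap (QuotientGroup.mk' (zsub Q))).map (cz Q).subtype

theorem mem_lift_iff (Q : Type u) [Group Q] (A : Subgroup (↥(cz Q) ⧸ zsub Q)) (x : Q) :
    x ∈ lift Q A ↔ ∃ h : x ∈ cz Q, (QuotientGroup.mk' (zsub Q)) ⟨x, h⟩ ∈ A := by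
  unfold lift
  constructor
  · rintro ⟨c, hc, rfl⟩
    exact ⟨c.2, hc⟩
  · rintro ⟨h, hA⟩
    exact ⟨⟨x, h⟩, hA, rfl⟩

theorem lift_le_cz (Q : Type u) [Group Q] (A : Subgroup (↥(cz Q) ⧸ zsub Q)) : lift Q A ≤ cz Q := by
  intro x hx
  obtain ⟨h, -⟩ := (mem_lift_iff Q A x).mp hx
  exact h

theorem zq_le_lift (Q : Type u) [Group Q] [Finite Q] (A : Subgroup (↥(cz Q) ⧸ zsub Q)) :
    zq Q ≤ lift Q A := by
  intro x hx
  rw [mem_lift_iff]
  refine ⟨zq_le_cz Q hx, ?_⟩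
  have h1 : (QuotientGroup.mk' (zsub Q)) ⟨x, zq_le_cz Q hx⟩ = 1 := by
    rw [QuotientGroup.mk'_apply, QuotientGroup.eq_one_iff, mem_zsub_iff]
    exact hx
  rw [h1]
  exact A.one_mem

/-- The recursion with fuel. -/
def wsA : ℕ → ∀ (Q : Type u) [Group Q], Subgroup Q
  | 0 => fun _ _ => ⊥
  | n + 1 => fun Q _ => lift Q (wsA n (↥(cz Q) ⧸ zsub Q))

theorem wsA_succ (n : ℕ) (Q : Type u) [Group Q] :
    wsA (n + 1) Q = lift Q (wsA n (↥(cz Q) ⧸ zsub Q)) := rfl

/-- The functor `W*`. -/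
noncomputable def W (Q : Type u) [Group Q] : Subgroup Q := wsA (Nat.card Q) Q

section PGroup

variable {p : ℕ} [Fact p.Prime]

theorem zq_ne_bot (hp : p ≠ 2) (Q : Type u) [Group Q] [Finite Q] (hQ : IsPGroup p Q)
    [Nontrivial Q] : zq Q ≠ ⊥ :=
  (isCharPFunctor_Wz (qfam_comm.{u} hp)).1 Q hQ inferInstance

theorem zq_map (hp : p ≠ 2) (Q R : Type u) [Group Q] [Group R] [Finite Q] (hQ : IsPGroup p Q)
    (φ : Q ≃* R) : (zq Q).map φ.toMonoidHom = zq R :=
  (isCharPFunctor_Wz (qfam_comm.{u} hp)).2 Q R hQ φ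

theorem card_quot_lt (hp : p ≠ 2) (Q : Type u) [Group Q] [Finite Q] (hQ : IsPGroup p Q)
    [Nontrivial Q] : Nat.card (↥(cz Q) ⧸ zsub Q) < Nat.card Q := by
  have h1 : Nat.card (↥(cz Q) ⧸ zsub Q) * Nat.card (zsub Q) = Nat.card ↥(cz Q) := by
    exact (Subgroup.card_eq_card_quotient_mul_card_subgroup (zsub Q)).symm
  have h2 : Nat.card ↥(cz Q) ≤ Nat.card Q := Subgroup.card_le_card_group (cz Q)
  have h3 : 1 < Nat.card (zsub Q) := by
    rw [Subgroup.one_lt_card_iff_ne_bot]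
    intro hbot
    apply zq_ne_bot hp Q hQ
    rw [eq_bot_iff]
    intro x hx
    have : (⟨x, zq_le_cz Q hx⟩ : ↥(cz Q)) ∈ zsub Q := (mem_zsub_iff Q _).mpr hx
    rw [hbot, Subgroup.mem_bot] at this
    exact Subgroup.mem_bot.mpr (congrArg Subtype.val this)
  have h4 : 0 < Nat.card (↥(cz Q) ⧸ zsub Q) := Nat.card_pos
  nlinarith

theorem isPGroup_quot (Q : Type u) [Group Q] (hQ : IsPGroup p Q) :
    IsPGroup p (↥(cz Q) ⧸ zsub Q) :=
  (hQ.to_subgroup (cz Q)).to_quotient (zsub Q)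

theorem wsA_eq_of_le (hp : p ≠ 2) : ∀ (n m : ℕ) (Q : Type u) [Group Q] [Finite Q], IsPGroup p Q →
    Nat.card Q ≤ n + 1 → Nat.card Q ≤ m + 1 → wsA n Q = wsA m Q := by
  intro n
  induction n with
  | zero =>
    intro m Q _ _ hQ h1 _
    have : Subsingleton Q := (Finite.card_le_one_iff_subsingleton).mp h1
    exact Subsingleton.elim _ _
  | succ k ih =>
    intro m Q _ _ hQ h1 h2
    rcases m with _ | j
    · have : Subsingleton Q := (Finite.card_le_one_iff_subsingleton).mp h2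
      exact Subsingleton.elim _ _
    · rcases subsingleton_or_nontrivial Q with hs | hn
      · exact Subsingleton.elim _ _
      · rw [wsA_succ, wsA_succ]
        have hlt := card_quot_lt hp Q hQ
        rw [ih j (↥(cz Q) ⧸ zsub Q) (isPGroup_quot Q hQ) (by omega) (by omega)]

theorem W_eq_lift (hp : p ≠ 2) (Q : Type u) [Group Q] [Finite Q] (hQ : IsPGroup p Q) :
    W Q = lift Q (W (↥(cz Q) ⧸ zsub Q)) := by
  unfold W
  obtain ⟨m, hm⟩ : ∃ m, Nat.card Q = m + 1 := ⟨Nat.card Q - 1, by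
    have : 0 < Nat.card Q := Nat.card_pos
    omega⟩
  rw [hm, wsA_succ]
  congr 1
  rcases subsingleton_or_nontrivial Q with hs | hn
  · exact Subsingleton.elim _ _
  · have hlt := card_quot_lt hp Q hQ
    exact wsA_eq_of_le hp m _ (↥(cz Q) ⧸ zsub Q) (isPGroup_quot Q hQ) (by omega) (by omega)

theorem zq_le_W (hp : p ≠ 2) (Q : Type u) [Group Q] [Finite Q] (hQ : IsPGroup p Q) :
    zq Q ≤ W Q := by
  rw [W_eq_lift hp Q hQ]
  exact zq_le_lift Q _

theorem W_le_cz (hp : p ≠ 2) (Q : Type u) [Group Q] [Finite Q] (hQ : IsPGroup p Q) :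
    W Q ≤ cz Q := by
  rw [W_eq_lift hp Q hQ]
  exact lift_le_cz Q _

theorem W_ne_bot (hp : p ≠ 2) (Q : Type u) [Group Q] [Finite Q] (hQ : IsPGroup p Q)
    [Nontrivial Q] : W Q ≠ ⊥ := by
  intro h
  apply zq_ne_bot hp Q hQ
  rw [eq_bot_iff, ← h]
  exact zq_le_W hp Q hQ

end PGroup

end Cfsg.Agent.Lib.Helper26.WStar
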