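import Mathlib
import Cfsg.Agent.Lib.Helper26.WStar1

set_option autoImplicit false

/-! Isomorphism invariance of the functor `W*`, and the centric property (helper26). -/

namespace Cfsg.Agent.Lib.Helper26.WStar

universe u

open Cfsg

section Iso

variable {Q R : Type u} [Group Q] [Group R]

theorem cz_map (φ : Q ≃* R) (hz : (zq Q).map φ.toMonoidHom = zq R) :
    (cz Q).map φ.toMonoidHom = cz R := by
  ext y
  constructor
  · rintro ⟨x, hx, rfl⟩
    apply Subgroup.mem_centralizer_iff.mpr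
    intro z hz'
    have hz'' : z ∈ (zq Q).map φ.toMonoidHom := by rw [hz]; exact hz'
    obtain ⟨w, hw, rfl⟩ := hz''
    have h1 := Subgroup.mem_centralizer_iff.mp hx w hw
    show φ w * φ x = φ x * φ w
    rw [← map_mul, ← map_mul, h1]
  · intro hy
    refine ⟨φ.symm y, ?_, φ.apply_symm_apply y⟩
    apply Subgroup.mem_centralizer_iff.mpr
    intro w hw
    have hw' : φ w ∈ zq R := by rw [← hz]; exact ⟨w, hw, rfl⟩
    have h1 := Subgroup.mem_centralizer_iff.mp hy (φ w) hw'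
    apply φ.injective
    rw [map_mul, map_mul, φ.apply_symm_apply]
    exact h1

/-- The restriction of an isomorphism to the centralizers of `Z(J)`. -/
noncomputable def czEquiv (φ : Q ≃* R) (hz : (zq Q).map φ.toMonoidHom = zq R) :
    ↥(cz Q) ≃* ↥(cz R) :=
  (φ.subgroupMap (cz Q)).trans (MulEquiv.subgroupCongr (cz_map φ hz))

theorem czEquiv_coe (φ : Q ≃* R) (hz : (zq Q).map φ.toMonoidHom = zq R) (c : ↥(cz Q)) :
    ((czEquiv φ hz c : ↥(cz R)) : R) = φ (c : Q) := rfl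

theorem zsub_map (φ : Q ≃* R) (hz : (zq Q).map φ.toMonoidHom = zq R) :
    (zsub Q).map (czEquiv φ hz : ↥(cz Q) →* ↥(cz R)) = zsub R := by
  ext d
  rw [mem_zsub_iff]
  constructor
  · rintro ⟨c, hc, rfl⟩
    replace hc : c ∈ zsub Q := hc
    rw [mem_zsub_iff] at hc
    show ((czEquiv φ hz c : ↥(cz R)) : R) ∈ zq R
    rw [czEquiv_coe, ← hz]
    exact ⟨c, hc, rfl⟩
  · intro hd
    rw [← hz] at hd
    obtain ⟨w, hw, hwd⟩ := hd
    have hwc : w ∈ cz Q := by
      have h1 : φ w ∈ (cz Q).map φ.toMonoidHom := by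
        rw [cz_map φ hz]
        have : φ w = (d : R) := hwd
        rw [this]; exact d.2
      obtain ⟨w', hw', hww⟩ := h1
      have : w' = w := φ.injective hww
      rw [← this]; exact hw'
    refine ⟨⟨w, hwc⟩, (mem_zsub_iff Q _).mpr hw, ?_⟩
    apply Subtype.ext
    show ((czEquiv φ hz ⟨w, hwc⟩ : ↥(cz R)) : R) = d
    rw [czEquiv_coe]
    exact hwd

/-- The induced isomorphism of the quotients `C_Q(Z)/Z`. -/
noncomputable def quotEquiv (φ : Q ≃* R) (hz : (zq Q).map φ.toMonoidHom = zq R) :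
    (↥(cz Q) ⧸ zsub Q) ≃* (↥(cz R) ⧸ zsub R) :=
  QuotientGroup.congr (zsub Q) (zsub R) (czEquiv φ hz) (zsub_map φ hz)

theorem quotEquiv_mk (φ : Q ≃* R) (hz : (zq Q).map φ.toMonoidHom = zq R) (c : ↥(cz Q)) :
    quotEquiv φ hz ((QuotientGroup.mk' (zsub Q)) c) = (QuotientGroup.mk' (zsub R)) (czEquiv φ hz c) :=
  rfl

theorem lift_map (φ : Q ≃* R) (hz : (zq Q).map φ.toMonoidHom = zq R)
    (A : Subgroup (↥(cz Q) ⧸ zsub Q)) :
    (lift Q A).map φ.toMonoidHom = lift R (A.map (quotEquiv φ hz).toMonoidHom) := by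
  ext y
  rw [mem_lift_iff]
  constructor
  · rintro ⟨x, hx, rfl⟩
    obtain ⟨hxc, hxA⟩ := (mem_lift_iff Q A x).mp hx
    have h1 : φ x ∈ cz R := (czEquiv φ hz ⟨x, hxc⟩).2
    refine ⟨h1, ?_⟩
    refine ⟨(QuotientGroup.mk' (zsub Q)) ⟨x, hxc⟩, hxA, ?_⟩
    show quotEquiv φ hz ((QuotientGroup.mk' (zsub Q)) ⟨x, hxc⟩) = _
    rw [quotEquiv_mk]
    rfl
  · rintro ⟨hy, a, ha, hay⟩
    obtain ⟨c, rfl⟩ := QuotientGroup.mk'_surjective (zsub Q) a
    have hay' : quotEquiv φ hz ((QuotientGroup.mk' (zsub Q)) c) =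
        (QuotientGroup.mk' (zsub R)) ⟨y, hy⟩ := hay
    rw [quotEquiv_mk] at hay'
    have h2 : ((czEquiv φ hz c)⁻¹ * ⟨y, hy⟩ : ↥(cz R)) ∈ zsub R := by
      rw [← QuotientGroup.eq]
      exact hay'
    rw [← zsub_map φ hz] at h2
    obtain ⟨w, hw, hwe⟩ := h2
    have hwe' : czEquiv φ hz w = (czEquiv φ hz c)⁻¹ * ⟨y, hy⟩ := hwe
    have hy2 : (⟨y, hy⟩ : ↥(cz R)) = czEquiv φ hz (c * w) := by
      rw [map_mul, hwe', mul_inv_cancel_left]
    refine ⟨((c * w : ↥(cz Q)) : Q), ?_, ?_⟩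
    · show ((c * w : ↥(cz Q)) : Q) ∈ lift Q A
      rw [mem_lift_iff]
      refine ⟨(c * w).2, ?_⟩
      have h3 : (QuotientGroup.mk' (zsub Q)) (c * w) = (QuotientGroup.mk' (zsub Q)) c := by
        rw [map_mul]
        have : (QuotientGroup.mk' (zsub Q)) w = 1 := by
          rw [QuotientGroup.mk'_apply, QuotientGroup.eq_one_iff]; exact hw
        rw [this, mul_one]
      have h4 : (⟨((c * w : ↥(cz Q)) : Q), (c * w).2⟩ : ↥(cz Q)) = c * w := rfl
      rw [h4, h3]
      exact ha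
    · have := congrArg Subtype.val hy2
      rw [czEquiv_coe] at this
      exact this.symm

end Iso

section PGroup

variable {p : ℕ} [Fact p.Prime]

theorem wsA_map (hp : p ≠ 2) : ∀ (n : ℕ) (Q R : Type u) [Group Q] [Group R] [Finite Q],
    IsPGroup p Q → ∀ φ : Q ≃* R, (wsA n Q).map φ.toMonoidHom = wsA n R := by
  intro n
  induction n with
  | zero =>
    intro Q R _ _ _ _ φ
    show (⊥ : Subgroup Q).map φ.toMonoidHom = ⊥
    exact Subgroup.map_bot _
  | succ k ih =>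
    intro Q R _ _ _ hQ φ
    have hz := zq_map hp Q R hQ φ
    rw [wsA_succ, wsA_succ, lift_map φ hz]
    congr 1
    exact ih _ _ (isPGroup_quot Q hQ) (quotEquiv φ hz)

theorem W_map (hp : p ≠ 2) (Q R : Type u) [Group Q] [Group R] [Finite Q]
    (hQ : IsPGroup p Q) (φ : Q ≃* R) : (W Q).map φ.toMonoidHom = W R := by
  unfold W
  rw [wsA_map hp _ Q R hQ φ, Nat.card_congr φ.toEquiv]

theorem isCharPFunctor_W (hp : p ≠ 2) : Cfsg.IsCharPFunctor.{u} p W := by
  constructor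
  · intro Q _ _ hQ hnt
    exact W_ne_bot hp Q hQ
  · intro Q R _ _ _ hQ φ
    exact W_map hp Q R hQ φ

/-- `W*` is centric: `C_Q(W Q) ≤ W Q`. -/
theorem centralizer_W_le (hp : p ≠ 2) : ∀ (n : ℕ) (Q : Type u) [Group Q] [Finite Q],
    IsPGroup p Q → Nat.card Q = n → Subgroup.centralizer (W Q : Set Q) ≤ W Q := by
  intro n
  induction n using Nat.strong_induction_on with
  | _ n ih =>
  intro Q _ _ hQ hn x hx
  rcases subsingleton_or_nontrivial Q with hs | hnt
  · have : x = 1 := Subsingleton.elim _ _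
    rw [this]; exact Subgroup.one_mem _
  · have hxc : x ∈ cz Q := by
      apply Subgroup.mem_centralizer_iff.mpr
      intro z hz
      exact Subgroup.mem_centralizer_iff.mp hx z (zq_le_W hp Q hQ hz)
    rw [W_eq_lift hp Q hQ, mem_lift_iff]
    refine ⟨hxc, ?_⟩
    have hlt := card_quot_lt hp Q hQ
    apply ih _ (hn ▸ hlt) (↥(cz Q) ⧸ zsub Q) (isPGroup_quot Q hQ) rfl
    apply Subgroup.mem_centralizer_iff.mpr
    intro a ha
    obtain ⟨c, rfl⟩ := QuotientGroup.mk'_surjective (zsub Q) a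
    have hcW : (c : Q) ∈ W Q := by
      rw [W_eq_lift hp Q hQ, mem_lift_iff]
      exact ⟨c.2, ha⟩
    have h1 := Subgroup.mem_centralizer_iff.mp hx (c : Q) hcW
    rw [← map_mul, ← map_mul]
    congr 1
    apply Subtype.ext
    exact h1

end PGroup

end Cfsg.Agent.Lib.Helper26.WStar
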