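import Mathlib
import Cfsg.Agent.Lib.Helper26.WStar2

set_option autoImplicit false

/-! The recursion formula of `W*` in a form that can be used inside an ambient group (helper26). -/

namespace Cfsg.Agent.Lib.Helper26.WStar

universe u

open Cfsg

variable {p : ℕ} [Fact p.Prime]

/-- Type-level form: any surjection of `C_T(Z(J(T)))` with kernel `Z(J(T))` computes `W T`. -/
theorem W_eq_of_surjective (hp : p ≠ 2) (T : Type u) [Group T] [Finite T] (hT : IsPGroup p T)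
    {D : Type u} [Group D] (g : ↥(cz T) →* D) (hsurj : Function.Surjective g)
    (hker : g.ker = zsub T) :
    W T = ((W D).comap g).map (cz T).subtype := by
  let θ : (↥(cz T) ⧸ zsub T) ≃* D :=
    (QuotientGroup.quotientMulEquivOfEq hker.symm).trans
      (QuotientGroup.quotientKerEquivOfSurjective g hsurj)
  have hθ : ∀ c : ↥(cz T), θ ((QuotientGroup.mk' (zsub T)) c) = g c := fun c => rfl
  have hW : (W (↥(cz T) ⧸ zsub T)).map θ.toMonoidHom = W D :=
    W_map hp _ _ (isPGroup_quot T hT) θ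
  rw [W_eq_lift hp T hT]
  ext x
  rw [mem_lift_iff]
  constructor
  · rintro ⟨hx, hxW⟩
    refine ⟨⟨x, hx⟩, ?_, rfl⟩
    show g ⟨x, hx⟩ ∈ W D
    rw [← hW, ← hθ]
    exact ⟨_, hxW, rfl⟩
  · rintro ⟨c, hc, rfl⟩
    refine ⟨c.2, ?_⟩
    have hc' : g c ∈ W D := hc
    rw [← hW] at hc'
    obtain ⟨a, ha, hac⟩ := hc'
    have hac' : θ a = g c := hac
    rw [← hθ] at hac'
    have := θ.injective hac'
    have e : (QuotientGroup.mk' (zsub T)) ⟨(cz T).subtype c, c.2⟩ = a := this.symm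
    exact e ▸ ha

/-- Group-level form: inside an ambient group `G`, for a `p`-subgroup `P` with `Z = Z(J(P))`,
`C = C_P(Z)`, and any homomorphism `f` defined on a subgroup `K ≥ C` with kernel `Z`, the subgroup
`W*(P)` is the preimage of `W*(f(C))`. -/
theorem inducedFunctor_W_eq (hp : p ≠ 2) {G : Type u} [Group G] [Finite G] (P : Subgroup G)
    (hP : IsPGroup p ↥P) (Z C K : Subgroup G)
    (hZ : Z = Cfsg.inducedFunctor (G := G) zq P)
    (hC : C = P ⊓ Subgroup.centralizer (Z : Set G)) (hCK : C ≤ K)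
    {H : Type u} [Group H] (f : ↥K →* H) (hker : f.ker = Z.subgroupOf K) :
    Cfsg.inducedFunctor (G := G) W P =
      ((Cfsg.inducedFunctor (G := H) W ((C.subgroupOf K).map f)).comap f).map K.subtype := by
  have hZmem : ∀ t : ↥P, (t : G) ∈ Z ↔ t ∈ zq ↥P := by
    intro t
    rw [hZ]
    unfold Cfsg.inducedFunctor
    constructor
    · rintro ⟨t', ht', htt⟩
      have : t' = t := Subtype.ext htt
      rw [← this]; exact ht'
    · intro ht
      exact ⟨t, ht, rfl⟩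
  have hZP : Z ≤ P := by
    rw [hZ]; unfold Cfsg.inducedFunctor; exact Subgroup.map_subtype_le _
  have hcz : ∀ t : ↥P, t ∈ cz ↥P ↔ (t : G) ∈ C := by
    intro t
    rw [hC, Subgroup.mem_inf]
    constructor
    · intro ht
      refine ⟨t.2, ?_⟩
      apply Subgroup.mem_centralizer_iff.mpr
      intro z hz
      have h1 := Subgroup.mem_centralizer_iff.mp ht ⟨z, hZP hz⟩ ((hZmem ⟨z, hZP hz⟩).mp hz)
      exact congrArg Subtype.val h1
    · rintro ⟨-, ht⟩
      apply Subgroup.mem_centralizer_iff.mpr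
      intro z hz
      apply Subtype.ext
      exact Subgroup.mem_centralizer_iff.mp ht (z : G) ((hZmem z).mpr hz)
  have hιmem : ∀ c : ↥(cz ↥P), ((c : ↥P) : G) ∈ K := fun c => hCK ((hcz c).mp c.2)
  let ι : ↥(cz ↥P) →* ↥K :=
    MonoidHom.codRestrict ((P.subtype).comp (cz ↥P).subtype) K hιmem
  have hι : ∀ c : ↥(cz ↥P), ((ι c : ↥K) : G) = ((c : ↥P) : G) := fun c => rfl
  have hgmem : ∀ c : ↥(cz ↥P), (f.comp ι) c ∈ (C.subgroupOf K).map f := by
    intro c
    refine ⟨ι c, ?_, rfl⟩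
    show ι c ∈ C.subgroupOf K
    rw [Subgroup.mem_subgroupOf, hι]
    exact (hcz c).mp c.2
  let g : ↥(cz ↥P) →* ↥((C.subgroupOf K).map f) :=
    MonoidHom.codRestrict (f.comp ι) _ hgmem
  have hg : ∀ c : ↥(cz ↥P), ((g c : ↥((C.subgroupOf K).map f)) : H) = f (ι c) := fun c => rfl
  have hsurj : Function.Surjective g := by
    rintro ⟨d, k, hk, rfl⟩
    have hk' : (k : G) ∈ C := Subgroup.mem_subgroupOf.mp hk
    have hkP : (k : G) ∈ P := by rw [hC] at hk'; exact hk'.1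
    have hkc : (⟨(k : G), hkP⟩ : ↥P) ∈ cz ↥P := (hcz _).mpr hk'
    refine ⟨⟨⟨(k : G), hkP⟩, hkc⟩, ?_⟩
    apply Subtype.ext
    rw [hg]
    congr 1
  have hkerg : g.ker = zsub ↥P := by
    ext c
    rw [MonoidHom.mem_ker, mem_zsub_iff, ← hZmem]
    constructor
    · intro h
      have h1 : f (ι c) = 1 := by rw [← hg, h]; rfl
      have h2 : ι c ∈ f.ker := MonoidHom.mem_ker.mpr h1
      rw [hker, Subgroup.mem_subgroupOf, hι] at h2
      exact h2
    · intro h
      apply Subtype.ext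
      rw [hg]
      have h2 : ι c ∈ f.ker := by
        rw [hker, Subgroup.mem_subgroupOf, hι]; exact h
      exact MonoidHom.mem_ker.mp h2
  have hA := W_eq_of_surjective hp ↥P hP g hsurj hkerg
  ext x
  constructor
  · intro hx
    unfold Cfsg.inducedFunctor at hx
    rw [hA] at hx
    obtain ⟨t, ⟨c, hc, rfl⟩, rfl⟩ := hx
    refine ⟨ι c, ?_, rfl⟩
    show f (ι c) ∈ Cfsg.inducedFunctor (G := H) W ((C.subgroupOf K).map f)
    unfold Cfsg.inducedFunctor
    exact ⟨g c, hc, rfl⟩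
  · rintro ⟨k, hk, rfl⟩
    have hk' : f k ∈ Cfsg.inducedFunctor (G := H) W ((C.subgroupOf K).map f) := hk
    unfold Cfsg.inducedFunctor at hk'
    obtain ⟨d, hd, hdk⟩ := hk'
    obtain ⟨c, rfl⟩ := hsurj d
    have hdk' : f (ι c) = f k := hdk
    have h1 : (ι c)⁻¹ * k ∈ f.ker := by
      rw [MonoidHom.mem_ker, map_mul, map_inv, hdk', inv_mul_cancel]
    rw [hker, Subgroup.mem_subgroupOf] at h1
    have h2 : (((ι c)⁻¹ * k : ↥K) : G) ∈ P := hZP h1
    have h3 : (⟨(((ι c)⁻¹ * k : ↥K) : G), h2⟩ : ↥P) ∈ zq ↥P := (hZmem _).mp h1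
    let z : ↥(cz ↥P) := ⟨⟨(((ι c)⁻¹ * k : ↥K) : G), h2⟩, zq_le_cz ↥P h3⟩
    have hz : z ∈ zsub ↥P := (mem_zsub_iff _ _).mpr h3
    have hgz : g z = 1 := by
      rw [← hkerg] at hz
      exact MonoidHom.mem_ker.mp hz
    have hcz' : g (c * z) ∈ W ↥((C.subgroupOf K).map f) := by
      rw [map_mul, hgz, mul_one]; exact hd
    unfold Cfsg.inducedFunctor
    rw [hA]
    refine ⟨((c * z : ↥(cz ↥P)) : ↥P), ⟨c * z, hcz', rfl⟩, ?_⟩
    show (((c * z : ↥(cz ↥P)) : ↥P) : G) = (k : G)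
    have e1 : (((c * z : ↥(cz ↥P)) : ↥P) : G) = ((c : ↥P) : G) * ((z : ↥P) : G) := rfl
    have e2 : ((z : ↥P) : G) = ((ι c : ↥K) : G)⁻¹ * (k : G) := rfl
    rw [e1, e2, hι, mul_inv_cancel_left]

end Cfsg.Agent.Lib.Helper26.WStar
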