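import Mathlib
import Cfsg.Agent.Lib.Helper13.KStabA
import Cfsg.Agent.Lib.Helper1.Cores

set_option autoImplicit false

/-! Inheritance of the condition `C_G(O_p(G)) ≤ O_p(G)` by centralizers of normal subgroups and by
quotients modulo central `p`-subgroups (helper26). -/

namespace Cfsg.Agent.Lib.Helper26.WStar

open Cfsg

section Cons

variable {G : Type*} [Group G] [Finite G] {p : ℕ} [Fact p.Prime]

theorem eq_one_of_coprime_of_mem {Q : Subgroup G} (hQ : IsPGroup p ↥Q) {y : G} (hy : y ∈ Q)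
    (hc : (orderOf y).Coprime p) : y = 1 := by
  obtain ⟨k, hk⟩ := hQ ⟨y, hy⟩
  have h1 : y ^ p ^ k = 1 := by
    have := congrArg Subtype.val hk
    simpa using this
  have h2 : orderOf y ∣ p ^ k := orderOf_dvd_of_pow_eq_one h1
  have h3 : orderOf y = 1 := Nat.Coprime.eq_one_of_dvd (Nat.Coprime.pow_right k hc) h2
  exact orderOf_eq_one_iff.mp h3

theorem cons_of_coprime
    (h : ∀ y : G, (orderOf y).Coprime p →
      y ∈ Subgroup.centralizer ((Cfsg.pCore p G : Subgroup G) : Set G) → y = 1) :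
    Subgroup.centralizer ((Cfsg.pCore p G : Subgroup G) : Set G) ≤ Cfsg.pCore p G := by
  haveI : (Cfsg.pCore p G).Normal := Cfsg.Agent.Lib.Helper1.pCore_normal p
  have hn : (Subgroup.centralizer ((Cfsg.pCore p G : Subgroup G) : Set G)).Normal :=
    Subgroup.normal_centralizer
  apply Cfsg.Agent.Lib.Helper1.le_pCore hn
  apply Cfsg.Agent.Lib.Helper13.isPGroup_of_coprime_trivial
  intro x hx hc
  exact h x hc hx

theorem cons_centralizer
    (hc : Subgroup.centralizer ((Cfsg.pCore p G : Subgroup G) : Set G) ≤ Cfsg.pCore p G)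
    (Z : Subgroup G) [Z.Normal] :
    Subgroup.centralizer
        ((Cfsg.pCore p ↥(Subgroup.centralizer (Z : Set G)) :
          Subgroup ↥(Subgroup.centralizer (Z : Set G))) : Set ↥(Subgroup.centralizer (Z : Set G))) ≤
      Cfsg.pCore p ↥(Subgroup.centralizer (Z : Set G)) := by
  obtain ⟨Γ₁, hΓ₁⟩ : ∃ Γ₁ : Subgroup G, Γ₁ = Subgroup.centralizer (Z : Set G) := ⟨_, rfl⟩
  rw [← hΓ₁]
  haveI hΓ₁n : Γ₁.Normal := by rw [hΓ₁]; exact Subgroup.normal_centralizer
  haveI hQn : (Cfsg.pCore p G).Normal := Cfsg.Agent.Lib.Helper1.pCore_normal p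
  have hQp : IsPGroup p ↥(Cfsg.pCore p G) := Cfsg.Agent.Lib.Helper1.pCore_isPGroup p
  apply cons_of_coprime
  intro y hy hycent
  have hy' : (orderOf (y : G)).Coprime p := by rw [Subgroup.orderOf_coe]; exact hy
  have hQ1 : (Cfsg.pCore p G).subgroupOf Γ₁ ≤ Cfsg.pCore p ↥Γ₁ := by
    apply Cfsg.Agent.Lib.Helper1.le_pCore
    · infer_instance
    · exact hQp.comap_subtype
  have hyR : ∀ r ∈ Cfsg.pCore p G ⊓ Γ₁, (y : G) * r * (y : G)⁻¹ = r := by
    intro r hr
    have h1 : (⟨r, hr.2⟩ : ↥Γ₁) ∈ Cfsg.pCore p ↥Γ₁ :=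
      hQ1 (Subgroup.mem_subgroupOf.mpr hr.1)
    have h2 := Subgroup.mem_centralizer_iff.mp hycent _ h1
    have h3 : r * (y : G) = (y : G) * r := congrArg Subtype.val h2
    rw [← h3, mul_inv_cancel_right]
  have hyZ : ∀ z ∈ Z, (y : G) * z = z * (y : G) := by
    intro z hz
    have hy2 : (y : G) ∈ Subgroup.centralizer (Z : Set G) := hΓ₁ ▸ y.2
    exact (Subgroup.mem_centralizer_iff.mp hy2 z hz).symm
  have hyZ' : ∀ z ∈ Z, (y : G)⁻¹ * z = z * (y : G)⁻¹ := by
    intro z hz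
    have := hyZ z hz
    rw [inv_mul_eq_iff_eq_mul, ← mul_assoc, this, mul_inv_cancel_right]
  have hPR : ∀ a ∈ Cfsg.pCore p G, (y : G) * a * (y : G)⁻¹ * a⁻¹ ∈ Cfsg.pCore p G ⊓ Γ₁ := by
    intro a ha
    refine ⟨?_, ?_⟩
    · exact Subgroup.mul_mem _ (hQn.conj_mem a ha _) (Subgroup.inv_mem _ ha)
    · have hmem : ∀ g : G, g ∈ Γ₁ ↔ g ∈ Subgroup.centralizer (Z : Set G) := fun g => by rw [hΓ₁]
      apply (hmem _).mpr
      apply Subgroup.mem_centralizer_iff.mpr
      intro z hz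
      have hz1 : a⁻¹ * z * a ∈ Z := by
        have := (inferInstance : Z.Normal).conj_mem z hz a⁻¹
        simpa using this
      have e1 := hyZ' _ hz1
      have e2 := hyZ z hz
      have e3 : a * (a⁻¹ * z * a) = z * a := by group
      calc z * ((y : G) * a * (y : G)⁻¹ * a⁻¹)
          = (z * (y : G)) * a * (y : G)⁻¹ * a⁻¹ := by group
        _ = ((y : G) * z) * a * (y : G)⁻¹ * a⁻¹ := by rw [e2]
        _ = (y : G) * (z * a) * (y : G)⁻¹ * a⁻¹ := by group
        _ = (y : G) * (a * (a⁻¹ * z * a)) * (y : G)⁻¹ * a⁻¹ := by rw [e3]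
        _ = (y : G) * a * ((a⁻¹ * z * a) * (y : G)⁻¹) * a⁻¹ := by group
        _ = (y : G) * a * ((y : G)⁻¹ * (a⁻¹ * z * a)) * a⁻¹ := by rw [e1]
        _ = (y : G) * a * (y : G)⁻¹ * a⁻¹ * z := by group
  have hcen := Cfsg.Agent.Lib.Helper13.coprime_centralizes (y : G) (Cfsg.pCore p G)
    (Cfsg.pCore p G ⊓ Γ₁) hQp inf_le_left hy' hyR hPR
  have hyQ : (y : G) ∈ Cfsg.pCore p G := by
    apply hc
    apply Subgroup.mem_centralizer_iff.mpr
    intro a ha
    have := hcen a ha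
    rw [mul_inv_eq_iff_eq_mul] at this
    exact this.symm
  have := eq_one_of_coprime_of_mem hQp hyQ hy'
  exact Subtype.ext this

theorem cons_quotient
    (hc : Subgroup.centralizer ((Cfsg.pCore p G : Subgroup G) : Set G) ≤ Cfsg.pCore p G)
    (Z : Subgroup G) [Z.Normal] (hZp : IsPGroup p ↥Z) (hZc : Z ≤ Subgroup.center G) :
    Subgroup.centralizer ((Cfsg.pCore p (G ⧸ Z) : Subgroup (G ⧸ Z)) : Set (G ⧸ Z)) ≤
      Cfsg.pCore p (G ⧸ Z) := by
  haveI hQn : (Cfsg.pCore p G).Normal := Cfsg.Agent.Lib.Helper1.pCore_normal p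
  have hQp : IsPGroup p ↥(Cfsg.pCore p G) := Cfsg.Agent.Lib.Helper1.pCore_isPGroup p
  haveI hQbn : (Cfsg.pCore p (G ⧸ Z)).Normal := Cfsg.Agent.Lib.Helper1.pCore_normal p
  have hsurj := QuotientGroup.mk'_surjective Z
  have hZQ : Z ≤ Cfsg.pCore p G := Cfsg.Agent.Lib.Helper1.le_pCore inferInstance hZp
  have hmapQ : (Cfsg.pCore p G).map (QuotientGroup.mk' Z) ≤ Cfsg.pCore p (G ⧸ Z) := by
    apply Cfsg.Agent.Lib.Helper1.le_pCore
    · exact Subgroup.Normal.map hQn _ hsurj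
    · exact hQp.map _
  obtain ⟨K, hK⟩ : ∃ K : Subgroup G, K = (Subgroup.centralizer
      ((Cfsg.pCore p (G ⧸ Z) : Subgroup (G ⧸ Z)) : Set (G ⧸ Z))).comap (QuotientGroup.mk' Z) :=
    ⟨_, rfl⟩
  have hKn : K.Normal := by
    rw [hK]
    exact Subgroup.Normal.comap Subgroup.normal_centralizer _
  have hKp : IsPGroup p ↥K := by
    apply Cfsg.Agent.Lib.Helper13.isPGroup_of_coprime_trivial
    intro y hyK hy
    rw [hK, Subgroup.mem_comap] at hyK
    have hyR : ∀ r ∈ Z, y * r * y⁻¹ = r := by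
      intro r hr
      have := Subgroup.mem_center_iff.mp (hZc hr) y
      rw [this, mul_inv_cancel_right]
    have hPR : ∀ a ∈ Cfsg.pCore p G, y * a * y⁻¹ * a⁻¹ ∈ Z := by
      intro a ha
      have h1 : (QuotientGroup.mk' Z) a ∈ Cfsg.pCore p (G ⧸ Z) := hmapQ ⟨a, ha, rfl⟩
      have h2 := Subgroup.mem_centralizer_iff.mp hyK _ h1
      rw [← QuotientGroup.eq_one_iff]
      have h3 : ((y * a * y⁻¹ * a⁻¹ : G) : G ⧸ Z) =
          (QuotientGroup.mk' Z) y * (QuotientGroup.mk' Z) a * ((QuotientGroup.mk' Z) y)⁻¹ *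
            ((QuotientGroup.mk' Z) a)⁻¹ := by
        simp only [QuotientGroup.mk'_apply, QuotientGroup.mk_mul, QuotientGroup.mk_inv]
      rw [h3, ← h2, mul_inv_cancel_right, mul_inv_cancel]
    have hcen := Cfsg.Agent.Lib.Helper13.coprime_centralizes y (Cfsg.pCore p G) Z hQp hZQ hy hyR hPR
    have hyQ : y ∈ Cfsg.pCore p G := by
      apply hc
      apply Subgroup.mem_centralizer_iff.mpr
      intro a ha
      have := hcen a ha
      rw [mul_inv_eq_iff_eq_mul] at this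
      exact this.symm
    exact eq_one_of_coprime_of_mem hQp hyQ hy
  have hKQ : K ≤ Cfsg.pCore p G := Cfsg.Agent.Lib.Helper1.le_pCore hKn hKp
  have hmapK : K.map (QuotientGroup.mk' Z) = Subgroup.centralizer
      ((Cfsg.pCore p (G ⧸ Z) : Subgroup (G ⧸ Z)) : Set (G ⧸ Z)) := by
    rw [hK]
    exact Subgroup.map_comap_eq_self_of_surjective hsurj _
  rw [← hmapK]
  exact (Subgroup.map_mono hKQ).trans hmapQ

end Cons

end Cfsg.Agent.Lib.Helper26.WStar
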