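import Mathlib
import Cfsg.Agent.Lib.Helper26.WStar3
import Cfsg.Agent.Lib.Helper26.WStar4
import Cfsg.Agent.Lib.Helper26.NPSQ8
import Cfsg.Agent.Lib.Helper10.ZJctl3
import Cfsg.Agent.Lib.Helper13.WcElemF
import Cfsg.Agent.Lib.Helper13.SectionFunctor
import Cfsg.Agent.Lib.helper17.SylowNormal

set_option autoImplicit false

/-! In a group that is `p`-stable in the normalizer form (`p ≥ 5`) with `C(O_p) ≤ O_p`, the
subgroup `W*(S)` of a Sylow `p`-subgroup `S` is normal (helper26). -/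

namespace Cfsg.Agent.Lib.Helper26.WStar

universe u

open Cfsg Cfsg.Agent.Lib.Helper9 Cfsg.Agent.Lib.Helper10.ZJfree Cfsg.Agent.Lib.Helper10.ZJnpc
  Cfsg.Agent.Lib.Helper13 Cfsg.Agent.Lib.Helper26.NPSQ

variable {p : ℕ} [Fact p.Prime]

theorem cons_centralizer' {G : Type*} [Group G] [Finite G]
    (hc : Subgroup.centralizer ((Cfsg.pCore p G : Subgroup G) : Set G) ≤ Cfsg.pCore p G)
    (Z : Subgroup G) [Z.Normal] (Γ₁ : Subgroup G) (h : Γ₁ = Subgroup.centralizer (Z : Set G)) :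
    Subgroup.centralizer ((Cfsg.pCore p ↥Γ₁ : Subgroup ↥Γ₁) : Set ↥Γ₁) ≤ Cfsg.pCore p ↥Γ₁ := by
  subst h
  exact cons_centralizer hc Z

theorem isCharPFunctor_zq (hp : p ≠ 2) : Cfsg.IsCharPFunctor.{u} p zq :=
  isCharPFunctor_Wz (qfam_comm.{u} hp)

theorem map_conj_inf_normal {G : Type*} [Group G] (S N : Subgroup G) [N.Normal] (g : G) :
    S.map (MulAut.conj g).toMonoidHom ⊓ N = (S ⊓ N).map (MulAut.conj g).toMonoidHom := by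
  have h1 : N.map (MulAut.conj g).toMonoidHom = N := Subgroup.Normal.map_conj_eq N g
  rw [Subgroup.map_inf _ _ _ (MulAut.conj g).injective, h1]

theorem W_normal (hp5 : 5 ≤ p) : ∀ (n : ℕ) (Γ : Type u) [Group Γ] [Finite Γ], Nat.card Γ = n →
    Cfsg.IsNormalizerPStable p Γ →
    Subgroup.centralizer ((Cfsg.pCore p Γ : Subgroup Γ) : Set Γ) ≤ Cfsg.pCore p Γ →
    ∀ S : Sylow p Γ, (Cfsg.inducedFunctor (G := Γ) W (S : Subgroup Γ)).Normal := by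
  intro n
  induction n using Nat.strong_induction_on with
  | _ n ih =>
  intro Γ _ _ hcard hst hc S
  have hp2 : p ≠ 2 := by omega
  have hQF := qfam_comm.{u} (p := p) hp2
  have hzqF := isCharPFunctor_zq.{u} (p := p) hp2
  have hWF := isCharPFunctor_W.{u} (p := p) hp2
  by_cases hS : (S : Subgroup Γ) = ⊥
  · have h1 : Cfsg.inducedFunctor (G := Γ) W (S : Subgroup Γ) = ⊥ := by
      rw [eq_bot_iff, ← hS]
      exact inducedFunctor_le W _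
    rw [h1]
    infer_instance
  obtain ⟨Z, hZ⟩ : ∃ Z : Subgroup Γ, Z = Cfsg.inducedFunctor (G := Γ) zq (S : Subgroup Γ) :=
    ⟨_, rfl⟩
  have hZ' : Z = zfam (commF Γ) (S : Subgroup Γ) := by
    rw [hZ]
    exact inducedFunctor_Wz hQF (S : Subgroup Γ)
  haveI hZn : Z.Normal := by
    rw [hZ']
    exact Cfsg.Agent.Lib.Helper10.ZJsc.zfam_normal_sc _ S (hQF.hyp Γ S) (S : Subgroup Γ)
      ⟨le_rfl, fun x _ g hg => hg⟩ hc hst
  have hZS : Z ≤ (S : Subgroup Γ) := hZ ▸ inducedFunctor_le zq _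
  have hZp : IsPGroup p ↥Z := S.isPGroup'.to_le hZS
  have hZne : Z ≠ ⊥ := hZ ▸ inducedFunctor_ne_bot zq hzqF _ S.isPGroup' hS
  have hZcomm : ∀ x ∈ Z, ∀ y ∈ Z, x * y = y * x := by
    intro x hx y hy
    rw [hZ'] at hx hy
    exact zfam_comm (commF Γ) isMulCommutative_bot' (fun _ h => h) _ hx hy
  obtain ⟨Γ₁, hΓ₁⟩ : ∃ Γ₁ : Subgroup Γ, Γ₁ = Subgroup.centralizer (Z : Set Γ) := ⟨_, rfl⟩
  haveI hΓ₁n : Γ₁.Normal := by rw [hΓ₁]; exact Subgroup.normal_centralizer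
  have hmemΓ₁ : ∀ g : Γ, g ∈ Γ₁ ↔ ∀ z ∈ Z, z * g = g * z := by
    intro g
    rw [hΓ₁, Subgroup.mem_centralizer_iff]
    rfl
  have hZΓ₁ : Z ≤ Γ₁ := by
    intro x hx
    rw [hmemΓ₁]
    intro z hz
    exact hZcomm z hz x hx
  obtain ⟨Z₁, hZ₁⟩ : ∃ Z₁ : Subgroup ↥Γ₁, Z₁ = Z.subgroupOf Γ₁ := ⟨_, rfl⟩
  haveI hZ₁n : Z₁.Normal := by rw [hZ₁]; infer_instance
  have hZ₁p : IsPGroup p ↥Z₁ := by rw [hZ₁]; exact hZp.comap_subtype
  have hZ₁mem : ∀ c : ↥Γ₁, c ∈ Z₁ ↔ (c : Γ) ∈ Z := by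
    intro c; rw [hZ₁, Subgroup.mem_subgroupOf]
  have hZ₁cen : Z₁ ≤ Subgroup.center ↥Γ₁ := by
    intro c hc'
    rw [Subgroup.mem_center_iff]
    intro g
    apply Subtype.ext
    have := (hmemΓ₁ g).mp g.2 (c : Γ) ((hZ₁mem c).mp hc')
    exact this.symm
  have hZ₁ne : Z₁ ≠ ⊥ := by
    intro hbot
    apply hZne
    rw [eq_bot_iff]
    intro x hx
    have h1 : (⟨x, hZΓ₁ hx⟩ : ↥Γ₁) ∈ Z₁ := (hZ₁mem _).mpr hx
    rw [hbot, Subgroup.mem_bot] at h1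
    exact Subgroup.mem_bot.mpr (congrArg Subtype.val h1)
  have hst₁ : Cfsg.IsNormalizerPStable p ↥Γ₁ := Cfsg.Agent.Lib.Helper10.ZJctl.nps_subgroup hst Γ₁
  have hcentP : CentP p Z₁ := by
    intro y _ a ha
    have := Subgroup.mem_center_iff.mp (hZ₁cen ha) y
    rw [this, mul_inv_cancel_right]
  have hstb : Cfsg.IsNormalizerPStable p (↥Γ₁ ⧸ Z₁) :=
    nps_quotient_pgroup hp5 hst₁ Z₁ hZ₁p hcentP
  have hc₁ := cons_centralizer' hc Z Γ₁ hΓ₁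
  have hcb := cons_quotient hc₁ Z₁ hZ₁p hZ₁cen
  have hcardb : Nat.card (↥Γ₁ ⧸ Z₁) < n := by
    have h1 : Nat.card (↥Γ₁ ⧸ Z₁) * Nat.card ↥Z₁ = Nat.card ↥Γ₁ :=
      (Subgroup.card_eq_card_quotient_mul_card_subgroup Z₁).symm
    have h2 : Nat.card ↥Γ₁ ≤ Nat.card Γ := Subgroup.card_le_card_group Γ₁
    have h3 : 1 < Nat.card ↥Z₁ := (Subgroup.one_lt_card_iff_ne_bot _).mpr hZ₁ne
    have h4 : 0 < Nat.card (↥Γ₁ ⧸ Z₁) := Nat.card_pos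
    rw [← hcard]
    nlinarith
  obtain ⟨S₁, hS₁⟩ : ∃ S₁ : Sylow p ↥Γ₁, S₁ = Cfsg.Agent.Lib.helper17.sylowInfNormal S Γ₁ :=
    ⟨_, rfl⟩
  have hS₁coe : (S₁ : Subgroup ↥Γ₁) = (S : Subgroup Γ).subgroupOf Γ₁ := by
    rw [hS₁]; rfl
  have hS₁map : (S₁ : Subgroup ↥Γ₁).map Γ₁.subtype = (S : Subgroup Γ) ⊓ Γ₁ := by
    rw [hS₁]; exact Cfsg.Agent.Lib.helper17.sylowInfNormal_map S Γ₁
  obtain ⟨Sb, hSb⟩ : ∃ Sb : Sylow p (↥Γ₁ ⧸ Z₁),
      Sb = S₁.mapSurjective (QuotientGroup.mk'_surjective Z₁) := ⟨_, rfl⟩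
  have hSbcoe : (Sb : Subgroup (↥Γ₁ ⧸ Z₁)) =
      ((S : Subgroup Γ).subgroupOf Γ₁).map (QuotientGroup.mk' Z₁) := by
    rw [hSb, Sylow.coe_mapSurjective, hS₁coe]
  have hVbn : (Cfsg.inducedFunctor (G := ↥Γ₁ ⧸ Z₁) W (Sb : Subgroup (↥Γ₁ ⧸ Z₁))).Normal :=
    ih _ hcardb (↥Γ₁ ⧸ Z₁) rfl hstb hcb Sb
  obtain ⟨V₁, hV₁⟩ : ∃ V₁ : Subgroup ↥Γ₁, V₁ =
      (Cfsg.inducedFunctor (G := ↥Γ₁ ⧸ Z₁) W (Sb : Subgroup (↥Γ₁ ⧸ Z₁))).comap
        (QuotientGroup.mk' Z₁) := ⟨_, rfl⟩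
  haveI hV₁n : V₁.Normal := by rw [hV₁]; exact Subgroup.Normal.comap hVbn _
  have hB : ∀ P : Subgroup Γ, IsPGroup p ↥P → Cfsg.inducedFunctor (G := Γ) zq P = Z →
      P ⊓ Γ₁ = (S : Subgroup Γ) ⊓ Γ₁ →
      Cfsg.inducedFunctor (G := Γ) W P = V₁.map Γ₁.subtype := by
    intro P hP hPZ hPΓ
    have h1 := inducedFunctor_W_eq hp2 P hP Z ((S : Subgroup Γ) ⊓ Γ₁) Γ₁ hPZ.symm
      (by rw [← hPΓ, hΓ₁]) inf_le_right (QuotientGroup.mk' Z₁)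
      (by rw [QuotientGroup.ker_mk', hZ₁])
    rw [h1, hV₁, hSbcoe, Subgroup.inf_subgroupOf_right]
  have hVS := hB (S : Subgroup Γ) S.isPGroup' hZ.symm rfl
  rw [hVS]
  rw [← Subgroup.normalizer_eq_top_iff, eq_top_iff,
    ← Sylow.normalizer_sup_eq_top S₁]
  apply sup_le
  · intro g hg
    have hg' : g ∈ Subgroup.normalizer ((((S : Subgroup Γ) ⊓ Γ₁ : Subgroup Γ)) : Set Γ) := by
      rw [← hS₁map]; exact hg
    rw [Subgroup.mem_normalizer_iff_map_conj_eq] at hg' ⊢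
    have hg'' : ((S : Subgroup Γ) ⊓ Γ₁).map (MulAut.conj g).toMonoidHom =
        (S : Subgroup Γ) ⊓ Γ₁ := hg'
    have hP' : IsPGroup p ↥((S : Subgroup Γ).map (MulAut.conj g).toMonoidHom) :=
      S.isPGroup'.map _
    have hcW := ((inducedFunctor_isConjugacyFunctor (G := Γ) W hWF) _ S.isPGroup').2.2 g
    have hcZ := ((inducedFunctor_isConjugacyFunctor (G := Γ) zq hzqF) _ S.isPGroup').2.2 g
    have hZg : Z.map (MulAut.conj g).toMonoidHom = Z := Subgroup.Normal.map_conj_eq Z g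
    rw [← hZ, hZg] at hcZ
    have h2 := hB _ hP' hcZ (by rw [map_conj_inf_normal, hg''])
    rw [hcW, hVS] at h2
    exact h2
  · exact le_normalizer_map_subtype_of_normal Γ₁ V₁

end Cfsg.Agent.Lib.Helper26.WStar
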