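import Mathlib
import Cfsg.Agent.Lib.Helper26.WStar5
import Cfsg.Agent.Lib.Helper26.NPSQ9
import Cfsg.Agent.Lib.Helper26.FusionGroup
import Cfsg.Agent.S5076

set_option autoImplicit false

/-! Groups that are `p`-stable in the normalizer form (`p ≥ 5`): a centric subgroup of a Sylow
`p`-subgroup whose normalizer controls strong fusion, and the resulting constrained fusion system
(helper26). -/

namespace Cfsg.Agent.Lib.Helper26.WStar

universe u

open Cfsg Cfsg.FusionSystem Cfsg.Agent.Lib.Helper13 Cfsg.Agent.Lib.Helper26.NPSQ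

variable {p : ℕ} [Fact p.Prime]

theorem exists_centric_control (hp5 : 5 ≤ p) {Ω : Type u} [Group Ω] [Finite Ω]
    (hst : Cfsg.IsNormalizerPStable p Ω) (P : Sylow p Ω) :
    ∃ Q : Subgroup Ω, Q ≤ (P : Subgroup Ω) ∧
      (P : Subgroup Ω) ⊓ Subgroup.centralizer (Q : Set Ω) ≤ Q ∧
      ∀ (A : Set Ω) (g : Ω), A ⊆ ((P : Subgroup Ω) : Set Ω) →
        (fun a => g * a * g⁻¹) '' A ⊆ ((P : Subgroup Ω) : Set Ω) →
        ∃ c ∈ Subgroup.normalizer (Q : Set Ω), ∀ a ∈ A, c * a * c⁻¹ = g * a * g⁻¹ := by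
  have hp2 : p ≠ 2 := by omega
  have hWF := isCharPFunctor_W.{u} (p := p) hp2
  have h𝓦 : ∀ W' ∈ ({W} : Set (∀ (Q : Type u) [Group Q], Subgroup Q)),
      Cfsg.IsCharPFunctor.{u} p W' := by
    intro W' hW'
    rw [Set.mem_singleton_iff] at hW'
    rw [hW']; exact hWF
  have hfcs := nps_main hp5 h𝓦 (fun Γ _ _ hstΓ hc => by
    apply fcs_singleton_of_normal
    intro T
    exact W_normal hp5 _ Γ rfl hstΓ hc T) _ Ω rfl hst
  have hTi : ¬ p ∣ (P : Subgroup Ω).relIndex ⊤ := by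
    rw [Subgroup.relIndex_top_right]; exact P.not_dvd_index
  have hR := family_fusion_of_sylow (indFam_isConjugacyFunctor h𝓦 Ω) hfcs le_top P.isPGroup' hTi
  refine ⟨Cfsg.inducedFunctor (G := Ω) W (P : Subgroup Ω), inducedFunctor_le W _, ?_, ?_⟩
  · rintro x ⟨hxP, hxc⟩
    have h1 : (⟨x, hxP⟩ : ↥(P : Subgroup Ω)) ∈
        Subgroup.centralizer ((W ↥(P : Subgroup Ω) : Subgroup ↥(P : Subgroup Ω)) :
          Set ↥(P : Subgroup Ω)) := by
      apply Subgroup.mem_centralizer_iff.mpr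
      intro w hw
      apply Subtype.ext
      have hw' : (w : Ω) ∈ Cfsg.inducedFunctor (G := Ω) W (P : Subgroup Ω) := ⟨w, hw, rfl⟩
      exact Subgroup.mem_centralizer_iff.mp hxc (w : Ω) hw'
    have h2 := centralizer_W_le hp2 _ ↥(P : Subgroup Ω) P.isPGroup' rfl h1
    exact ⟨⟨x, hxP⟩, h2, rfl⟩
  · intro A g hA hg
    obtain ⟨c, hc, hca⟩ := hR A g (Subgroup.mem_top _) hA hg
    exact ⟨c, freach_singleton_mem_normalizer _ hc, hca⟩

theorem groupFS_constrained_of_control {Ω : Type*} [Group Ω] [Finite Ω] (P : Sylow p Ω)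
    (Q : Subgroup Ω) (hQP : Q ≤ (P : Subgroup Ω))
    (hcent : (P : Subgroup Ω) ⊓ Subgroup.centralizer (Q : Set Ω) ≤ Q)
    (hctl : ∀ (A : Set Ω) (g : Ω), A ⊆ ((P : Subgroup Ω) : Set Ω) →
        (fun a => g * a * g⁻¹) '' A ⊆ ((P : Subgroup Ω) : Set Ω) →
        ∃ c ∈ Subgroup.normalizer (Q : Set Ω), ∀ a ∈ A, c * a * c⁻¹ = g * a * g⁻¹) :
    (Cfsg.groupFusionSystem (P : Subgroup Ω)).IsConstrained p := by
  refine ⟨Cfsg.Agent.S5076.result p P, Q, ⟨hQP, ?_⟩, hQP, ?_⟩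
  · rintro P' φ ⟨hP', hφS, g, hg⟩
    obtain ⟨c, hcN, hca⟩ := hctl (P' : Set Ω) g hP' (by
      rintro _ ⟨a, ha, rfl⟩
      have := hφS ⟨a, ha⟩
      rw [hg] at this
      exact this)
    have hcQ : ∀ y ∈ Q, c * y * c⁻¹ ∈ Q := fun y hy =>
      (Subgroup.mem_normalizer_iff.mp hcN y).mp hy
    have hsupP : P' ⊔ Q ≤ (P : Subgroup Ω) := sup_le hP' hQP
    have hsup : P' ⊔ Q ≤ (P : Subgroup Ω).comap (MulAut.conj c).toMonoidHom := by
      apply sup_le
      · intro x hx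
        show c * x * c⁻¹ ∈ (P : Subgroup Ω)
        rw [hca x hx, ← hg ⟨x, hx⟩]
        exact hφS _
      · intro x hx
        exact hQP (hcQ x hx)
    refine ⟨conjHom (P' ⊔ Q) c, ⟨hsupP, fun x => hsup x.2, c, fun x => rfl⟩, ?_, ?_⟩
    · intro x
      show c * (x : Ω) * c⁻¹ = φ x
      rw [hca x x.2, hg]
    · ext y
      constructor
      · rintro ⟨x, hx, rfl⟩
        exact hcQ _ (Subgroup.mem_subgroupOf.mp hx)
      · intro hy
        have h1 : c⁻¹ * y * c ∈ Q := (Subgroup.mem_normalizer_iff''.mp hcN y).mp hy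
        refine ⟨⟨c⁻¹ * y * c, (le_sup_right : Q ≤ P' ⊔ Q) h1⟩, Subgroup.mem_subgroupOf.mpr h1, ?_⟩
        show c * (c⁻¹ * y * c) * c⁻¹ = y
        group
  · rintro Q' ⟨φ, ⟨-, hφS, g, hg⟩, hr⟩
    obtain ⟨c, hcN, hca⟩ := hctl (Q : Set Ω) g hQP (by
      rintro _ ⟨a, ha, rfl⟩
      have := hφS ⟨a, ha⟩
      rw [hg] at this
      exact this)
    have hQ' : Q' = Q := by
      rw [← hr]
      ext y
      constructor
      · rintro ⟨x, rfl⟩
        rw [hg, ← hca x x.2]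
        exact (Subgroup.mem_normalizer_iff.mp hcN x).mp x.2
      · intro hy
        have h1 : c⁻¹ * y * c ∈ Q := (Subgroup.mem_normalizer_iff''.mp hcN y).mp hy
        refine ⟨⟨c⁻¹ * y * c, h1⟩, ?_⟩
        rw [hg, ← hca _ h1]
        show c * (c⁻¹ * y * c) * c⁻¹ = y
        group
    rw [hQ']
    exact hcent

end Cfsg.Agent.Lib.Helper26.WStar
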