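import Cfsg.Agent.Lib.Helper26.LineGen
import Cfsg.Agent.S5036

set_option autoImplicit false

namespace Cfsg.Agent.Lib.Helper26

open Cfsg Cfsg.Agent.S5013 Cfsg.Agent.S5014 Cfsg.Agent.S5029
open scoped commutatorElement

variable {G : Type*} [Group G] {S : Set (Subgroup G)}

/-- The stabilizer of a family `Δ` of subgroups under conjugation. -/
def wtiStab (Δ : Set (Subgroup G)) : Subgroup G where
  carrier := {g | ∀ P, Cfsg.conjBy P g ∈ Δ ↔ P ∈ Δ}
  one_mem' := by
    intro P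
    rw [conjBy_one]
  mul_mem' := by
    intro x y hx hy P
    rw [← conjBy_conjBy]
    exact (hx _).trans (hy P)
  inv_mem' := by
    intro x hx P
    have := hx (Cfsg.conjBy P x⁻¹)
    rw [conjBy_conjBy_inv] at this
    exact this.symm

theorem wti_mem_of_image_eq {Δ : Set (Subgroup G)} {g : G}
    (h : (fun A => Cfsg.conjBy A g) '' Δ = Δ) : g ∈ wtiStab Δ := by
  intro P
  constructor
  · intro hP
    rw [← h] at hP
    obtain ⟨P', hP', he⟩ := hP
    rw [← conjBy_injective g he]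
    exact hP'
  · intro hP
    rw [← h]
    exact ⟨P, hP, rfl⟩

/-- A root element carrying some member of a weak TI-subset into it stabilizes it. -/
theorem wti_mem_of_conj_mem {Δ : Set (Subgroup G)} (hΔ : Cfsg.IsWeakTISubset S Δ) {d : G}
    (hd : d ∈ Cfsg.rootElements S) {P : Subgroup G} (hP : P ∈ Δ) (hPd : Cfsg.conjBy P d ∈ Δ) :
    d ∈ wtiStab Δ := by
  rcases hΔ.2.2.2 d hd with h | h
  · exact wti_mem_of_image_eq h
  · exfalso
    exact Set.disjoint_left.mp h ⟨P, hP, rfl⟩ hPd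

/-- A member of `S` normalizing a member of a weak TI-subset stabilizes it. -/
theorem wti_le_of_le_normalizer {Δ : Set (Subgroup G)} (hΔ : Cfsg.IsWeakTISubset S Δ)
    {D P : Subgroup G} (hD : D ∈ S) (hP : P ∈ Δ)
    (hDP : D ≤ Subgroup.normalizer (P : Set G)) : D ≤ wtiStab Δ := by
  intro d hd
  by_cases hd1 : d = 1
  · rw [hd1]
    exact Subgroup.one_mem _
  · apply wti_mem_of_conj_mem hΔ ⟨hd1, D, hD, hd⟩ hP
    rw [conjBy_eq_of_mem_normalizer (hDP hd)]
    exact hP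

/-- A weak TI-subset of a non-degenerate class has no member with a rank one partner stabilizing
the subset. -/
theorem wti_false (hS : Cfsg.IsRootSubgroupClass S) (hnd : Cfsg.IsNondegenerateRootSet S)
    {Δ : Set (Subgroup G)} (hΔ : Cfsg.IsWeakTISubset S Δ) {A D : Subgroup G} (hA : A ∈ Δ)
    (hD : D ∈ Cfsg.rankOnePartners S A) (hDN : D ≤ wtiStab Δ) : False := by
  have hAS : A ∈ S := hΔ.1 hA
  have htop : wtiStab Δ = ⊤ := by
    rw [eq_top_iff, ← lg_top hS hnd hAS hD]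
    apply sup_le _ hDN
    apply iSup₂_le
    intro C hC
    apply wti_le_of_le_normalizer hΔ hC.1.1 hA
    exact le_trans (commWith_iff_le_centralizer.mp (commWith_of_commutator_eq_bot hC.1.2.2).symm)
      (Subgroup.centralizer_le_normalizer _)
  apply hΔ.2.2.1
  apply Set.Subset.antisymm hΔ.1
  intro P hP
  obtain ⟨g, rfl⟩ := hS.2.2 A hAS P hP
  have hg : g ∈ wtiStab Δ := by
    rw [htop]
    exact Subgroup.mem_top g
  exact (hg A).mpr hA

/-- The members of a weak TI-subset of a non-degenerate class commute elementwise. -/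
theorem wti_abelian (hS : Cfsg.IsRootSubgroupClass S) (hnd : Cfsg.IsNondegenerateRootSet S)
    {Δ : Set (Subgroup G)} (hΔ : Cfsg.IsWeakTISubset S Δ) : Cfsg.IsAbelianFamily Δ := by
  have hni : ∀ A ∈ S, ¬ Cfsg.IsIsolatedIn (Cfsg.FAdj S) S A :=
    fun A hA => not_isolated_of_nondegenerate hS hnd hA
  intro A hA B hB a ha b hb
  have hAS : A ∈ S := hΔ.1 hA
  have hBS : B ∈ S := hΔ.1 hB
  rcases hS.1.pair A hAS B hBS with h | h | h
  · exact commWith_of_commutator_eq_bot h a ha b hb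
  · exfalso
    exact wti_false hS hnd hΔ hA ⟨hBS, h⟩
      (wti_le_of_le_normalizer hΔ hBS hB Subgroup.le_normalizer)
  · exfalso
    have hC := h.1
    obtain ⟨hmem, hpart, hAΛ, -⟩ := Cfsg.Agent.S5029.result hS.1 (hni A hAS) hAS hBS hC
    obtain ⟨B₁, hB₁S, hCB₁⟩ := Cfsg.Agent.S5028.exists_partner (hni _ hC) hC
    obtain ⟨E₁, hE₁, hB₁E₁⟩ := exists_commutatorCase_on_line hS.1 hC hAΛ ⟨hB₁S, hCB₁⟩
    have hE₁C : E₁ ≠ ⁅A, B⁆ := by
      rintro rfl
      exact not_rankOne_of_commutator_mem hS.1 hB₁S hB₁E₁.1 (Cfsg.RankOnePair_symm hCB₁)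
    rw [sup_comm, hmem] at hE₁
    rcases hE₁ with ⟨β, hβ, hβE⟩ | hE₁
    · have hβE' : E₁ = Cfsg.conjBy A β := hβE.symm
      have hB₀A : Cfsg.RootCommutatorCase S (Cfsg.conjBy B₁ β⁻¹) A := by
        have h1 := commutatorCase_conj hS.1 hB₁S (hS.1.conj_mem A hAS β)
          (by rw [← hβE']; exact hB₁E₁) β⁻¹
        rw [conjBy_inv_conjBy] at h1
        exact h1
      have hCB₀ : Cfsg.IsRankOnePair ⁅A, B⁆ (Cfsg.conjBy B₁ β⁻¹) := by
        have h1 := rankOnePair_conj hCB₁ β⁻¹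
        rw [conjBy_eq_self_of_comm (H := ⁅A, B⁆) (g := β⁻¹)
          (fun x hx => (h.2.1 x hx β⁻¹ (Subgroup.mem_sup_right (B.inv_mem hβ))).symm)] at h1
        exact h1
      have hCA : CommWith ⁅A, B⁆ A := fun x hx y hy => h.2.1 x hx y (Subgroup.mem_sup_left hy)
      have hH : RootProd S ⁅A, B⁆ A := by
        intro z hz hz1 c hc hc1
        have hzc1 : z * c ≠ 1 := by
          intro h1
          have hzC : z ∈ ⁅A, B⁆ := by
            rw [mul_eq_one_iff_eq_inv.mp h1]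
            exact Subgroup.inv_mem _ hc
          have h2 : z ∈ A ⊓ ⁅A, B⁆ := ⟨hz, hzC⟩
          rw [inf_commutator_eq_bot hS.1 (hni A hAS) hAS h, Subgroup.mem_bot] at h2
          exact hz1 h2
        obtain ⟨P, hP, hzcP⟩ := hpart.2.1 (z * c) (Subgroup.mul_mem_sup hz hc) hzc1
        exact ⟨hzc1, P, hP.1, hzcP⟩
      have hB₀S : Cfsg.conjBy B₁ β⁻¹ ∈ S := hS.1.conj_mem B₁ hB₁S β⁻¹
      have hcl := cl_main hS.1 hni hC ⟨hB₀S, hCB₀⟩ hAS hCA hH hB₀A
      have hDS := hB₀A.1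
      have hDC : ⁅⁅Cfsg.conjBy B₁ β⁻¹, A⁆, ⁅A, B⁆⁆ = A := by
        rw [Subgroup.commutator_comm]
        exact hcl
      have hBD := (Cfsg.Agent.S5036.result hS.1 hAS hBS hC hDS hDC).1
      have hDA : ⁅Cfsg.conjBy B₁ β⁻¹, A⁆ ≤ Subgroup.normalizer (A : Set G) := by
        have h1 : CommWith ⁅Cfsg.conjBy B₁ β⁻¹, A⁆ A :=
          fun x hx y hy => hB₀A.2.1 x hx y (Subgroup.mem_sup_right hy)
        exact le_trans (commWith_iff_le_centralizer.mp h1) (Subgroup.centralizer_le_normalizer _)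
      exact wti_false hS hnd hΔ hB ⟨hDS, hBD⟩ (wti_le_of_le_normalizer hΔ hDS hA hDA)
    · exact hE₁C hE₁

end Cfsg.Agent.Lib.Helper26
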